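import Mathlib.AlgebraicGeometry.Morphisms.FlatDescent
import Mathlib.AlgebraicGeometry.Morphisms.LocalFlatDescent
import Groth.Agent.GrpSchLib.FieldSmooth

/-!
Descent along a faithfully flat morphism which need not be quasi-compact.
-/

universe u

open CategoryTheory Limits AlgebraicGeometry MorphismProperty

set_option backward.isDefEq.respectTransparency.types false
set_option backward.isDefEq.respectTransparency false

namespace Groth.Agent.H23.FFDescent

variable {X Y Y' : Scheme.{u}}

theorem isHomeomorph_of_baseChange (f : X ⟶ Y) (g : Y' ⟶ Y) [Flat g] [Surjective g] [QuasiCompact f]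
    (h : IsHomeomorph (pullback.snd f g).base) : IsHomeomorph f.base := by
  have hinj : Function.Injective f.base := by
    intro a b hab
    obtain ⟨y', hy'⟩ := g.surjective (f a)
    obtain ⟨za, hza, hza'⟩ := Scheme.Pullback.exists_preimage_pullback (f := f) (g := g) a y' hy'.symm
    obtain ⟨zb, hzb, hzb'⟩ := Scheme.Pullback.exists_preimage_pullback (f := f) (g := g) b y' (hab.symm.trans hy'.symm)
    rw [← hza, ← hzb, h.injective (hza'.trans hzb'.symm)]
  have hsurj : Function.Surjective f.base := by
    intro y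
    obtain ⟨y', rfl⟩ := g.surjective y
    obtain ⟨z, rfl⟩ := h.surjective y'
    exact ⟨pullback.fst f g z, by rw [← Scheme.Hom.comp_apply, pullback.condition, Scheme.Hom.comp_apply]⟩
  have hsp : SpecializingMap f.base := by
    intro a b hab
    obtain ⟨b', hb'⟩ := g.surjective b
    obtain ⟨a', ha', ha''⟩ := Flat.generalizingMap g (a := b') (b := f a) (by rw [hb']; exact hab)
    obtain ⟨za, rfl⟩ := h.surjective a'
    obtain ⟨zb, rfl⟩ := h.surjective b'
    have hz : za ⤳ zb := h.isInducing.specializes_iff.mp ha'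
    refine ⟨pullback.fst f g zb, ?_, ?_⟩
    · have ha : pullback.fst f g za = a := hinj <| by
        rw [← ha'', ← Scheme.Hom.comp_apply, pullback.condition, Scheme.Hom.comp_apply]
      rw [← ha]
      exact hz.map (pullback.fst f g).continuous
    · rw [← hb', ← Scheme.Hom.comp_apply, pullback.condition, Scheme.Hom.comp_apply]
  exact isHomeomorph_iff_continuous_isClosedMap_bijective.mpr
    ⟨f.continuous, (isClosedMap_iff_specializingMap f).mpr hsp, hinj, hsurj⟩

theorem faithfullyFlat_stalkMap (g : Y' ⟶ Y) [Flat g] (y' : Y') : (g.stalkMap y').hom.FaithfullyFlat := by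
  have h := Flat.stalkMap g y'
  algebraize [(g.stalkMap y').hom]
  haveI : IsLocalHom (algebraMap (Y.presheaf.stalk (g y')) (Y'.presheaf.stalk y')) :=
    inferInstanceAs (IsLocalHom (g.stalkMap y').hom)
  exact RingHom.faithfullyFlat_algebraMap_iff.mpr Module.FaithfullyFlat.of_flat_of_isLocalHom

theorem isIso_stalkMap_of_flat_of_isPreimmersion (s : Y' ⟶ Y) [Flat s] [IsPreimmersion s] (y' : Y') :
    IsIso (s.stalkMap y') :=
  (ConcreteCategory.isIso_iff_bijective _).mpr
    ⟨(faithfullyFlat_stalkMap s y').injective, s.stalkMap_surjective y'⟩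

theorem isIso_snd_fromSpecStalk (f : X ⟶ Y) (g : Y' ⟶ Y) [Flat g] [h : IsIso (pullback.snd f g)] (y' : Y') :
    IsIso (pullback.snd f (Y.fromSpecStalk (g y'))) := by
  have h1 : IsIso (pullback.snd f (Spec.map (g.stalkMap y') ≫ Y.fromSpecStalk (g y'))) := by
    rw [Scheme.SpecMap_stalkMap_fromSpecStalk]
    have : pullback.snd f (Y'.fromSpecStalk y' ≫ g) =
        (pullbackLeftPullbackSndIso f g (Y'.fromSpecStalk y')).inv ≫ pullback.snd _ _ := by
      rw [Iso.eq_inv_comp, pullbackLeftPullbackSndIso_hom_snd]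
    rw [this]
    infer_instance
  have hψ : (@Surjective ⊓ @Flat ⊓ @QuasiCompact : MorphismProperty Scheme.{u}) (Spec.map (g.stalkMap y')) := by
    have hff := faithfullyFlat_stalkMap g y'
    haveI : Surjective (Spec.map (g.stalkMap y')) :=
      ⟨(RingHom.FaithfullyFlat.iff_flat_and_comap_surjective.mp hff).2⟩
    haveI : Flat (Spec.map (g.stalkMap y')) := (HasRingHomProperty.Spec_iff (P := @Flat)).mpr hff.flat
    exact ⟨⟨inferInstance, inferInstance⟩, inferInstance⟩
  have : IsIso (pullback.snd (pullback.snd f (Y.fromSpecStalk (g y'))) (Spec.map (g.stalkMap y'))) := by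
    rw [← pullbackLeftPullbackSndIso_hom_snd f (Y.fromSpecStalk (g y')) (Spec.map (g.stalkMap y'))]
    infer_instance
  exact of_isPullback_of_descendsAlong (P := isomorphisms Scheme.{u})
    (IsPullback.of_hasPullback (pullback.snd f (Y.fromSpecStalk (g y'))) (Spec.map (g.stalkMap y'))).flip hψ this

theorem isIso_stalkMap_of_baseChange (f : X ⟶ Y) (g : Y' ⟶ Y) [Flat g] [Surjective g]
    [IsIso (pullback.snd f g)] (x : X) : IsIso (f.stalkMap x) := by
  obtain ⟨y', hy'⟩ := g.surjective (f x)
  haveI : IsIso (pullback.snd f (Y.fromSpecStalk (f x))) := hy' ▸ isIso_snd_fromSpecStalk f g y'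
  obtain ⟨z, hz, hz'⟩ := Scheme.Pullback.exists_preimage_pullback (f := f) (g := Y.fromSpecStalk (f x)) x
    (IsLocalRing.closedPoint _) Scheme.fromSpecStalk_closedPoint.symm
  let s := inv (pullback.snd f (Y.fromSpecStalk (f x))) ≫ pullback.fst f _
  have hs : s ≫ f = Y.fromSpecStalk (f x) := by
    rw [Category.assoc, pullback.condition, IsIso.inv_hom_id_assoc]
  let c : ↥(Spec (Y.presheaf.stalk (f x))) := IsLocalRing.closedPoint _
  have hc : s c = x := by
    rw [show c = pullback.snd f (Y.fromSpecStalk (f x)) z from hz'.symm, ← Scheme.Hom.comp_apply,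
      IsIso.hom_inv_id_assoc, hz]
  haveI hflat := GrpSchLib.flat_fromSpecStalk (f x)
  haveI : Flat (s ≫ f) := hs ▸ hflat
  haveI : IsPreimmersion (s ≫ f) := hs ▸ inferInstance
  haveI : Flat (pullback.fst f (Y.fromSpecStalk (f x))) := MorphismProperty.pullback_fst _ _ hflat
  haveI : IsPreimmersion (pullback.fst f (Y.fromSpecStalk (f x))) := MorphismProperty.pullback_fst _ _ inferInstance
  haveI hsc := isIso_stalkMap_of_flat_of_isPreimmersion s c
  have h := isIso_stalkMap_of_flat_of_isPreimmersion (s ≫ f) c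
  rw [Scheme.Hom.stalkMap_comp] at h
  rw [← hc]
  exact @IsIso.of_isIso_comp_right _ _ _ _ _ (f.stalkMap (s c)) (s.stalkMap c) hsc h

theorem isIso_of_baseChange (f : X ⟶ Y) (g : Y' ⟶ Y) [Flat g] [Surjective g] [QuasiCompact f]
    [IsIso (pullback.snd f g)] : IsIso f :=
  (isIso_iff_isIso_stalkMap f).mpr
    ⟨TopCat.isIso_iff_isHomeomorph _ |>.mpr
      (isHomeomorph_of_baseChange f g (pullback.snd f g).homeomorph.isHomeomorph),
      isIso_stalkMap_of_baseChange f g⟩

/-- The map of a qcqs scheme over `Spec R` to the spectrum of its functions becomes an isomorphism over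
every flat affine base over which the scheme becomes affine. -/
theorem isIso_toSpecΓ_baseChange {R S : CommRingCat.{u}} (φ : R ⟶ S) [Flat (Spec.map φ)] (g : Y ⟶ Spec R)
    [CompactSpace Y] [QuasiSeparatedSpace Y] [IsAffine (pullback (Spec.map φ) g)]
    (b : Spec Γ(Y, ⊤) ⟶ Spec R) (hab : Y.toSpecΓ ≫ b = g) :
    IsIso (pullback.snd Y.toSpecΓ (pullback.snd (Spec.map φ) b)) := by
  let a := Y.toSpecΓ
  let q := pullback.snd (Spec.map φ) b
  let m : pullback (Spec.map φ) g ⟶ pullback (Spec.map φ) b :=
    pullback.lift (pullback.fst _ _) (pullback.snd _ _ ≫ a) (by rw [Category.assoc, hab, pullback.condition])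
  have sqT : IsPullback q (pullback.fst (Spec.map φ) b) b (Spec.map φ) := (IsPullback.of_hasPullback _ _).flip
  have sqP : IsPullback (pullback.snd (Spec.map φ) g) (pullback.fst (Spec.map φ) g) g (Spec.map φ) :=
    (IsPullback.of_hasPullback _ _).flip
  have poP := (isIso_pushoutSection_iff sqP (US := ⊤) (UT := ⊤) (UX := ⊤) (UY := ⊤) (by simp) (by simp)
    (by simp)).mp (isIso_pushoutSection_of_isQuasiSeparated_of_flat_right sqP _ _ _
      (isAffineOpen_top _) (isAffineOpen_top _) (by simpa using CompactSpace.isCompact_univ)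
      (by simpa using isQuasiSeparated_univ))
  have poT := (isIso_pushoutSection_iff sqT (US := ⊤) (UT := ⊤) (UX := ⊤) (UY := ⊤) (by simp) (by simp)
    (by simp)).mp (isIso_pushoutSection_of_isAffineOpen sqT _ _ _
      (isAffineOpen_top _) (isAffineOpen_top _) (isAffineOpen_top _))
  simp only [Scheme.Hom.appLE, TopologicalSpace.Opens.map_top, homOfLE_refl, op_id, CategoryTheory.Functor.map_id, Category.comp_id] at poP poT
  have : IsIso a.appTop := by simp only [a, Scheme.toSpecΓ_appTop]; infer_instance
  have hm : IsIso m.appTop := by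
    have poP' : IsPushout b.appTop (Spec.map φ).appTop (a.appTop ≫ (pullback.snd (Spec.map φ) g).appTop)
        (pullback.fst (Spec.map φ) g).appTop := by
      refine poP.of_iso (Iso.refl _) (asIso a.appTop).symm (Iso.refl _) (Iso.refl _) ?_ (by simp) (by simp) (by simp)
      simp only [Iso.symm_hom, asIso_inv, Iso.refl_hom, Category.id_comp, IsIso.comp_inv_eq]
      exact (congrArg Scheme.Hom.appTop hab).symm.trans (Scheme.Hom.comp_appTop a b)
    have : m.appTop = (poT.isoIsPushout _ _ poP').hom := by
      apply poT.hom_ext <;> simp only [IsPushout.inl_isoIsPushout_hom, IsPushout.inr_isoIsPushout_hom,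
        ← Scheme.Hom.comp_appTop] <;> congr 1 <;> simp [m, q]
    rw [this]; infer_instance
  have : IsAffine (pullback (Spec.map φ) b) := inferInstance
  have hiso : IsIso m := by
    have : m = (pullback (Spec.map φ) g).isoSpec.hom ≫ Spec.map m.appTop ≫ (pullback (Spec.map φ) b).isoSpec.inv := by
      rw [← Category.assoc, Scheme.isoSpec_hom_naturality, Category.assoc, Iso.hom_inv_id, Category.comp_id]
    rw [this]; infer_instance
  have sq : IsPullback (pullback.snd (Spec.map φ) g) m a q := by
    refine IsPullback.of_bot ?_ (by simp [m, q]) sqT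
    rw [hab, show m ≫ pullback.fst (Spec.map φ) b = pullback.fst (Spec.map φ) g by simp [m]]
    exact sqP
  haveI := hiso
  rw [← sq.isoPullback_inv_snd]
  infer_instance

theorem isAffineHom_of_baseChange (f : X ⟶ Y) (g : Y' ⟶ Y) [Flat g] [Surjective g] [QuasiCompact f]
    [QuasiSeparated f] [IsAffineHom (pullback.snd f g)] : IsAffineHom f := by
  wlog hY : ∃ R, Y = Spec R generalizing X Y Y'
  · rw [IsZariskiLocalAtTarget.iff_of_openCover (P := @IsAffineHom) Y.affineCover]
    intro i
    let g' := pullback.snd g (Y.affineCover.f i)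
    have h0 : IsAffineHom (pullback.snd f (g' ≫ Y.affineCover.f i)) := by
      rw [← pullback.condition]
      have : pullback.snd f (pullback.fst g (Y.affineCover.f i) ≫ g) =
          (pullbackLeftPullbackSndIso f g (pullback.fst g (Y.affineCover.f i))).inv ≫ pullback.snd _ _ := by
        rw [Iso.eq_inv_comp, pullbackLeftPullbackSndIso_hom_snd]
      rw [this]
      exact (cancel_left_of_respectsIso (P := @IsAffineHom) _ _).mpr
        (MorphismProperty.pullback_snd _ _ ‹IsAffineHom (pullback.snd f g)›)
    haveI hb : IsAffineHom (pullback.snd (pullback.snd f (Y.affineCover.f i)) g') := by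
      rw [← pullbackLeftPullbackSndIso_hom_snd f (Y.affineCover.f i) g']
      exact (cancel_left_of_respectsIso (P := @IsAffineHom) _ _).mpr h0
    exact @this _ _ _ (pullback.snd f (Y.affineCover.f i)) g' (MorphismProperty.pullback_snd _ _ ‹Flat g›)
      (MorphismProperty.pullback_snd _ _ ‹Surjective g›) (MorphismProperty.pullback_snd _ _ ‹QuasiCompact f›)
      (MorphismProperty.pullback_snd _ _ ‹QuasiSeparated f›) hb ⟨_, rfl⟩
  obtain ⟨R, rfl⟩ := hY
  haveI : CompactSpace X := (quasiCompact_iff_compactSpace f).mp inferInstance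
  haveI : QuasiSeparatedSpace X := (quasiSeparated_iff_quasiSeparatedSpace f).mp inferInstance
  let b : Spec Γ(X, ⊤) ⟶ Spec R := Spec.map ((Scheme.ΓSpecIso R).inv ≫ f.appTop)
  have hab : X.toSpecΓ ≫ b = f := by
    simp only [b, Spec.map_comp]
    rw [← Category.assoc, ← Scheme.toSpecΓ_naturality, Category.assoc, ← SpecMap_ΓSpecIso_hom, ← Spec.map_comp]
    simp
  have key : IsIso (pullback.snd X.toSpecΓ (pullback.fst b g)) := by
    let 𝒰 := Scheme.Pullback.openCoverOfRight Y'.affineCover b g
    refine IsZariskiLocalAtTarget.of_openCover (P := isomorphisms Scheme.{u}) 𝒰 fun i => ?_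
    let ι := Y'.affineCover.f i
    obtain ⟨φ, hφ⟩ := Spec.map_surjective (ι ≫ g : Spec _ ⟶ Spec R)
    haveI : Flat (Spec.map φ) := by rw [hφ]; infer_instance
    haveI : IsAffine (pullback (Spec.map φ) f) := by
      haveI : IsAffine (pullback (pullback.snd f g) ι) := isAffine_of_isAffineHom (pullback.snd (pullback.snd f g) ι)
      exact IsAffine.of_isIso ((pullbackSymmetry _ _ ≪≫ (pullback.congrHom rfl hφ) ≪≫
        (pullbackLeftPullbackSndIso f g ι).symm).hom)
    have h1 := isIso_toSpecΓ_baseChange φ f b hab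
    have e2 : pullback.snd (Spec.map φ) b =
        (pullbackSymmetry (Spec.map φ) b ≪≫ pullback.congrHom rfl hφ).hom ≫ pullback.fst b (ι ≫ g) := by
      simp
    have e3 : 𝒰.f i ≫ pullback.fst b g = pullback.fst b (ι ≫ g) := by simp [𝒰, ι]
    have h2 : IsIso (pullback.snd X.toSpecΓ (pullback.fst b (ι ≫ g))) := by
      rw [e2] at h1
      rw [← isomorphisms.iff] at h1 ⊢
      refine (MorphismProperty.arrow_mk_iso_iff _ ?_).mp h1
      exact Arrow.isoMk (asIso (pullback.map _ _ _ _ (𝟙 _) (pullbackSymmetry (Spec.map φ) b ≪≫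
        pullback.congrHom rfl hφ).hom (𝟙 _) (by simp) (by simp))) (pullbackSymmetry (Spec.map φ) b ≪≫
        pullback.congrHom rfl hφ) (by simp)
    rw [← e3] at h2
    show IsIso (pullback.snd (pullback.snd X.toSpecΓ (pullback.fst b g)) (𝒰.f i))
    rw [← pullbackLeftPullbackSndIso_hom_snd X.toSpecΓ (pullback.fst b g) (𝒰.f i)]
    infer_instance
  haveI : Flat (pullback.fst b g) := MorphismProperty.pullback_fst _ _ inferInstance
  haveI : Surjective (pullback.fst b g) := MorphismProperty.pullback_fst _ _ inferInstance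
  haveI := isIso_of_baseChange X.toSpecΓ (pullback.fst b g)
  haveI : IsAffine X := IsAffine.of_isIso X.toSpecΓ
  infer_instance

end Groth.Agent.H23.FFDescent
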