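import Groth.Prelude.Def_Red
import Mathlib.CategoryTheory.Monoidal.Cartesian.Over
import Mathlib.AlgebraicGeometry.Morphisms.Finite
import Mathlib.AlgebraicGeometry.Morphisms.UnderlyingMap
import Mathlib.AlgebraicGeometry.Morphisms.Proper
import Mathlib.AlgebraicGeometry.Geometrically.Integral

/-!
The transitivity isomorphism of base change of group schemes is a homomorphism.
-/

universe u

open CategoryTheory MonoidalCategory CartesianMonoidalCategory MonObj AlgebraicGeometry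
open Functor LaxMonoidal

namespace Groth.Agent.H23.BcComp

section General

variable {C : Type*} [Category C] [CartesianMonoidalCategory C] {D : Type*} [Category D]
  [CartesianMonoidalCategory D]

theorem isMonHom_app {F G : C ⥤ D} [F.Monoidal] [G.Monoidal] (α : F ⟶ G) (A : C) [MonObj A] :
    letI := F.monObjObj (X := A); letI := G.monObjObj (X := A); IsMonHom (α.app A) := by
  letI := F.monObjObj (X := A); letI := G.monObjObj (X := A)
  haveI : NatTrans.IsMonoidal α := inferInstance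
  constructor
  · simp only [Functor.obj.η_def, Category.assoc, α.naturality]
    rw [← Category.assoc, NatTrans.IsMonoidal.unit]
  · simp only [Functor.obj.μ_def, Category.assoc, α.naturality]
    rw [← Category.assoc, NatTrans.IsMonoidal.tensor, Category.assoc]

end General

variable {S S' S'' : Scheme.{u}} (f : S'' ⟶ S') (g : S' ⟶ S) {h : S'' ⟶ S} (e : f ≫ g = h)

/-- Transitivity of base change. -/
noncomputable def iso : Over.pullback h ≅ Over.pullback g ⋙ Over.pullback f :=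
  eqToIso (congrArg (fun φ => Over.pullback φ) e.symm) ≪≫ Over.pullbackComp f g

theorem hom_app (A : Over S) : (iso f g e).hom.app A =
    eqToHom (congrArg (fun φ => Red.bc φ A) e.symm) ≫ (Over.pullbackComp f g).hom.app A := by
  subst e; simp [iso]

theorem inv_app (A : Over S) : (iso f g e).inv.app A =
    (Over.pullbackComp f g).inv.app A ≫ eqToHom (congrArg (fun φ => Red.bc φ A) e) := by
  subst e; simp [iso]

variable (A : Over S) [GrpObj A]

theorem isMonHom_hom :
    @IsMonHom _ _ _ (Red.bc h A) (Red.bc f (Red.bc g A)) _ _ ((iso f g e).hom.app A) := by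
  have := isMonHom_app (iso f g e).hom A
  exact ⟨by simpa [Functor.obj.η_def] using this.one_hom, by simpa [Functor.obj.μ_def] using this.mul_hom⟩

theorem isMonHom_inv :
    @IsMonHom _ _ _ (Red.bc f (Red.bc g A)) (Red.bc h A) _ _ ((iso f g e).inv.app A) := by
  have := isMonHom_app (iso f g e).inv A
  have h1 := this.one_hom
  have h2 := this.mul_hom
  refine ⟨?_, ?_⟩
  · simp only [Functor.obj.η_def, Functor.LaxMonoidal.comp_ε, Functor.comp_map, Functor.map_comp, Category.assoc] at h1 ⊢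
    exact h1
  · simp only [Functor.obj.μ_def, Functor.LaxMonoidal.comp_μ, Functor.comp_map, Functor.map_comp, Category.assoc] at h2 ⊢
    exact h2

theorem isMonHom_bc_map {A B : Over S'} [GrpObj A] [GrpObj B] (u : A ⟶ B) [IsMonHom u] :
    @IsMonHom _ _ _ (Red.bc f A) (Red.bc f B) _ _ ((Over.pullback f).map u) := inferInstance

variable {A} {A₁ : Over S'} [GrpObj A₁] {A' : Over S''} [GrpObj A'] (l₁ : A' ⟶ Red.bc f A₁) (l : A₁ ⟶ Red.bc g A)
  (t₁ : Red.bc f A₁ ⟶ A') (t : Red.bc g A ⟶ A₁)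

theorem isMonHom_image [IsMonHom l₁] [IsMonHom l] :
    @IsMonHom _ _ _ A' (Red.bc h A) _ _ (l₁ ≫ (Over.pullback f).map l ≫ (iso f g e).inv.app A) := by
  haveI := isMonHom_inv f g e A
  haveI := isMonHom_bc_map f l
  exact @instIsMonHomComp _ _ _ _ (Red.bc f A₁) _ _ _ _ _ _ ‹_›
    (@instIsMonHomComp _ _ _ (Red.bc f A₁) (Red.bc f (Red.bc g A)) (Red.bc h A) _ _ _ _ _ ‹_› ‹_›)

theorem isMonHom_trace [IsMonHom t₁] [IsMonHom t] :
    @IsMonHom _ _ _ (Red.bc h A) A' _ _ ((iso f g e).hom.app A ≫ (Over.pullback f).map t ≫ t₁) := by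
  haveI := isMonHom_hom f g e A
  haveI := isMonHom_bc_map f t
  exact @instIsMonHomComp _ _ _ _ (Red.bc f (Red.bc g A)) _ _ _ _ _ _ ‹_›
    (@instIsMonHomComp _ _ _ (Red.bc f (Red.bc g A)) (Red.bc f A₁) A' _ _ _ _ _ ‹_› ‹_›)

theorem surjective_image [Surjective l₁.left] [hl : Surjective l.left] :
    Surjective (l₁ ≫ (Over.pullback f).map l ≫ (iso f g e).inv.app A : A' ⟶ Red.bc h A).left := by
  haveI : Surjective ((Over.pullback f).map l).left := MorphismProperty.baseChange_map (P := @Surjective) f l hl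
  haveI : IsIso ((iso f g e).inv.app A).left := (Over.forget _).map_isIso ((iso f g e).inv.app A)
  show Surjective (l₁.left ≫ ((Over.pullback f).map l).left ≫ ((iso f g e).inv.app A).left)
  infer_instance

theorem isFinite_trace [IsFinite t₁.left] [ht : IsFinite t.left] :
    IsFinite ((iso f g e).hom.app A ≫ (Over.pullback f).map t ≫ t₁ : Red.bc h A ⟶ A').left := by
  haveI : IsFinite ((Over.pullback f).map t).left := MorphismProperty.baseChange_map (P := @IsFinite) f t ht
  haveI : IsIso ((iso f g e).hom.app A).left := (Over.forget _).map_isIso ((iso f g e).hom.app A)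
  show IsFinite (((iso f g e).hom.app A).left ≫ ((Over.pullback f).map t).left ≫ t₁.left)
  infer_instance

theorem fac_image {B : Over S} {a₁ : A₁ ⟶ Red.bc g B} {a₀ : A ⟶ B} {α : A' ⟶ Red.bc h B}
    (e₁ : l₁ ≫ (Over.pullback f).map a₁ = α ≫ (iso f g e).hom.app B) (e₀ : l ≫ (Over.pullback g).map a₀ = a₁) :
    (l₁ ≫ (Over.pullback f).map l ≫ (iso f g e).inv.app A) ≫ (Over.pullback h).map a₀ = α := by
  have hn := (iso f g e).inv.naturality a₀
  simp only [Category.assoc]
  rw [← hn, Functor.comp_map, ← Category.assoc ((Over.pullback f).map l), ← Functor.map_comp, e₀, ← Category.assoc, e₁,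
    Category.assoc, Iso.hom_inv_id_app]
  exact Category.comp_id _

theorem fac_trace {B : Over S} {b₁ : Red.bc g B ⟶ A₁} {b₀ : B ⟶ A} {β : Red.bc h B ⟶ A'}
    (e₁ : (Over.pullback f).map b₁ ≫ t₁ = (iso f g e).inv.app B ≫ β) (e₀ : (Over.pullback g).map b₀ ≫ t = b₁) :
    (Over.pullback h).map b₀ ≫ (iso f g e).hom.app A ≫ (Over.pullback f).map t ≫ t₁ = β := by
  rw [NatTrans.naturality_assoc, Functor.comp_map, ← Functor.map_comp_assoc, e₀, e₁, Iso.hom_inv_id_app_assoc]

omit [GrpObj A'] in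
theorem isAV_bc (B : Over S) [IsProper B.hom] [GeometricallyIntegral B.hom] :
    IsProper (Red.bc g B).hom ∧ GeometricallyIntegral (Red.bc g B).hom :=
  ⟨MorphismProperty.pullback_snd (P := @IsProper) B.hom g inferInstance,
    MorphismProperty.pullback_snd (P := @GeometricallyIntegral) B.hom g inferInstance⟩

/-- Transitivity of images, in the form of the statements. -/
theorem image_trans (m₁ : IsMonHom l₁) (m : IsMonHom l) (s₁ : Surjective l₁.left) (s : Surjective l.left)
    (fac₁ : ∀ (B : Over S') [GrpObj B] [IsProper B.hom] [GeometricallyIntegral B.hom] (α : A' ⟶ Red.bc f B)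
      [IsMonHom α], ∃ α₀ : A₁ ⟶ B, IsMonHom α₀ ∧ l₁ ≫ (Over.pullback f).map α₀ = α)
    (fac : ∀ (B : Over S) [GrpObj B] [IsProper B.hom] [GeometricallyIntegral B.hom] (α : A₁ ⟶ Red.bc g B)
      [IsMonHom α], ∃ α₀ : A ⟶ B, IsMonHom α₀ ∧ l ≫ (Over.pullback g).map α₀ = α) :
    let L : A' ⟶ Red.bc h A := l₁ ≫ (Over.pullback f).map l ≫
      (Over.pullbackComp f g).inv.app A ≫ eqToHom (congrArg (fun φ => Red.bc φ A) e)
    IsMonHom L ∧ Surjective L.left ∧
      ∀ (B : Over S) [GrpObj B] [IsProper B.hom] [GeometricallyIntegral B.hom] (α : A' ⟶ Red.bc h B)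
        [IsMonHom α], ∃ α₀ : A ⟶ B, IsMonHom α₀ ∧ L ≫ (Over.pullback h).map α₀ = α := by
  intro L
  have hL : L = l₁ ≫ (Over.pullback f).map l ≫ (iso f g e).inv.app A := by
    rw [inv_app]
  rw [hL]
  refine ⟨isMonHom_image f g e l₁ l, surjective_image f g e l₁ l, fun B _ _ _ α _ => ?_⟩
  haveI := (isAV_bc g B).1
  haveI := (isAV_bc g B).2
  haveI := isMonHom_hom f g e B
  haveI : IsMonHom (α ≫ (iso f g e).hom.app B : A' ⟶ Red.bc f (Red.bc g B)) :=
    @instIsMonHomComp _ _ _ A' (Red.bc h B) (Red.bc f (Red.bc g B)) _ _ _ _ _ ‹_› ‹_›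
  obtain ⟨a₁, ha₁, e₁⟩ := fac₁ (Red.bc g B) (α ≫ (iso f g e).hom.app B)
  obtain ⟨a₀, ha₀, e₀⟩ := fac B a₁
  exact ⟨a₀, ha₀, fac_image f g e l₁ l e₁ e₀⟩

/-- Transitivity of traces, in the form of the statements. -/
theorem trace_trans (m₁ : IsMonHom t₁) (m : IsMonHom t) (s₁ : IsFinite t₁.left) (s : IsFinite t.left)
    (fac₁ : ∀ (B : Over S') [GrpObj B] [IsProper B.hom] [GeometricallyIntegral B.hom] (β : Red.bc f B ⟶ A')
      [IsMonHom β], ∃ β₀ : B ⟶ A₁, IsMonHom β₀ ∧ (Over.pullback f).map β₀ ≫ t₁ = β)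
    (fac : ∀ (B : Over S) [GrpObj B] [IsProper B.hom] [GeometricallyIntegral B.hom] (β : Red.bc g B ⟶ A₁)
      [IsMonHom β], ∃ β₀ : B ⟶ A, IsMonHom β₀ ∧ (Over.pullback g).map β₀ ≫ t = β) :
    let L : Red.bc h A ⟶ A' := eqToHom (congrArg (fun φ => Red.bc φ A) e.symm) ≫
      (Over.pullbackComp f g).hom.app A ≫ (Over.pullback f).map t ≫ t₁
    IsMonHom L ∧ IsFinite L.left ∧
      ∀ (B : Over S) [GrpObj B] [IsProper B.hom] [GeometricallyIntegral B.hom] (β : Red.bc h B ⟶ A')
        [IsMonHom β], ∃ β₀ : B ⟶ A, IsMonHom β₀ ∧ (Over.pullback h).map β₀ ≫ L = β := by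
  intro L
  have hL : L = (iso f g e).hom.app A ≫ (Over.pullback f).map t ≫ t₁ := by
    rw [hom_app]; simp [L]
  rw [hL]
  refine ⟨isMonHom_trace f g e t₁ t, isFinite_trace f g e t₁ t, fun B _ _ _ β _ => ?_⟩
  haveI := (isAV_bc g B).1
  haveI := (isAV_bc g B).2
  haveI := isMonHom_inv f g e B
  haveI : IsMonHom ((iso f g e).inv.app B ≫ β : Red.bc f (Red.bc g B) ⟶ A') :=
    @instIsMonHomComp _ _ _ (Red.bc f (Red.bc g B)) (Red.bc h B) A' _ _ _ _ _ ‹_› ‹_›
  obtain ⟨b₁, hb₁, e₁⟩ := fac₁ (Red.bc g B) ((iso f g e).inv.app B ≫ β)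
  obtain ⟨b₀, hb₀, e₀⟩ := fac B b₁
  exact ⟨b₀, hb₀, fac_trace f g e t₁ t e₁ e₀⟩

end Groth.Agent.H23.BcComp
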