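import Mathlib.AlgebraicGeometry.IdealSheaf.Subscheme
import Mathlib.AlgebraicGeometry.Morphisms.Immersion
import Mathlib.AlgebraicGeometry.Morphisms.Separated
import Mathlib.AlgebraicGeometry.Morphisms.ClosedImmersion
import Mathlib.AlgebraicGeometry.PullbackCarrier

/-!
# Reduced subschemes
-/

open AlgebraicGeometry CategoryTheory CategoryTheory.Limits TopologicalSpace

universe u

namespace Groth.Agent.H23.RedSub

variable {X Y Z : Scheme.{u}}

theorem isReduced_subscheme {I : X.IdealSheafData} (h : ∀ U, (I.ideal U).IsRadical) :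
    IsReduced I.subscheme := by
  haveI : ∀ U, IsReduced (I.subschemeCover.openCover.X U) := fun (U : X.affineOpens) => by
    haveI : _root_.IsReduced (Γ(X, U) ⧸ I.ideal U) :=
      (Ideal.isRadical_iff_quotient_reduced _).mp (h U)
    change IsReduced (Spec (CommRingCat.of (Γ(X, U) ⧸ I.ideal U)))
    infer_instance
  exact IsReduced.of_openCover I.subscheme I.subschemeCover.openCover

theorem isRadical_of_isReduced_subscheme {I : X.IdealSheafData} [IsReduced I.subscheme]
    (U : X.affineOpens) : (I.ideal U).IsRadical := by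
  rw [Ideal.isRadical_iff_quotient_reduced]
  exact isReduced_of_injective (I.subschemeObjIso U).inv.hom
    (I.subschemeObjIso U).commRingCatIsoToRingEquiv.symm.injective

theorem isRadical_vanishingIdeal (S : Closeds X) (U : X.affineOpens) :
    ((Scheme.IdealSheafData.vanishingIdeal S).ideal U).IsRadical := by
  rw [Scheme.IdealSheafData.vanishingIdeal_ideal]
  exact PrimeSpectrum.isRadical_vanishingIdeal _

instance isReduced_vanishingIdeal (S : Closeds X) :
    IsReduced (Scheme.IdealSheafData.vanishingIdeal S).subscheme :=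
  isReduced_subscheme (isRadical_vanishingIdeal S)

theorem range_vanishingIdeal (S : Closeds X) :
    Set.range (Scheme.IdealSheafData.vanishingIdeal S).subschemeι = S := by
  rw [Scheme.IdealSheafData.range_subschemeι, Scheme.IdealSheafData.coe_support_vanishingIdeal]

theorem isReduced_nilradical (X : Scheme.{u}) : IsReduced X.nilradical.subscheme := by
  rw [← Scheme.IdealSheafData.vanishingIdeal_top]
  infer_instance

theorem eq_nilradical_of_isReduced {I : X.IdealSheafData} (hI : I.support = ⊤)
    [IsReduced I.subscheme] : I = X.nilradical := by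
  refine le_antisymm ?_ fun U => ?_
  · rw [← Scheme.IdealSheafData.vanishingIdeal_top]
    exact Scheme.IdealSheafData.le_support_iff_le_vanishingIdeal.mp hI.ge
  · rw [Scheme.nilradical, Scheme.IdealSheafData.radical_ideal]
    exact (Ideal.radical_mono (by simp)).trans (isRadical_of_isReduced_subscheme U)

/-- A morphism from a reduced scheme with image in that of a closed immersion factors through it. -/
theorem exists_lift_closed [IsReduced X] (f : X ⟶ Y) (j : Z ⟶ Y) [IsClosedImmersion j]
    (h : Set.range f ⊆ Set.range j) : ∃ g : X ⟶ Z, g ≫ j = f := by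
  haveI : Surjective (pullback.fst f j) := ⟨fun x => by
    have : x ∈ Set.range (pullback.fst f j) := by
      rw [Scheme.Pullback.range_fst]
      exact h ⟨x, rfl⟩
    exact this⟩
  haveI := isIso_of_isClosedImmersion_of_surjective (pullback.fst f j)
  exact ⟨inv (pullback.fst f j) ≫ pullback.snd f j, by
    rw [Category.assoc, ← pullback.condition, IsIso.inv_hom_id_assoc]⟩

/-- A morphism from a reduced scheme with image in that of an immersion factors through it. -/
theorem exists_lift [IsReduced X] (f : X ⟶ Y) (j : Z ⟶ Y) [IsImmersion j]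
    (h : Set.range f ⊆ Set.range j) : ∃ g : X ⟶ Z, g ≫ j = f := by
  have hf : Set.range f ⊆ Set.range j.coborderRange.ι := by
    rw [Scheme.Opens.range_ι]
    exact h.trans subset_coborder
  obtain ⟨g, hg⟩ := exists_lift_closed (IsOpenImmersion.lift j.coborderRange.ι f hf)
    j.liftCoborder (by
      rintro _ ⟨x, rfl⟩
      obtain ⟨z, hz⟩ := h ⟨x, rfl⟩
      refine ⟨z, j.coborderRange.ι.isEmbedding.injective ?_⟩
      rw [← Scheme.Hom.comp_apply, ← Scheme.Hom.comp_apply, Scheme.Hom.liftCoborder_ι,
        IsOpenImmersion.lift_fac]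
      exact hz)
  exact ⟨g, by rw [← j.liftCoborder_ι, reassoc_of% hg, IsOpenImmersion.lift_fac]⟩

theorem exists_iso_of_range_eq {W W' : Scheme.{u}} (i : W ⟶ X) (i' : W' ⟶ X) [IsImmersion i]
    [IsReduced W] [IsImmersion i'] [IsReduced W'] (h : Set.range i = Set.range i') :
    ∃ e : W ≅ W', e.hom ≫ i' = i := by
  obtain ⟨a, ha⟩ := exists_lift i i' h.le
  obtain ⟨b, hb⟩ := exists_lift i' i h.ge
  exact ⟨⟨a, b, by rw [← cancel_mono i, Category.assoc, hb, ha, Category.id_comp],
    by rw [← cancel_mono i', Category.assoc, ha, hb, Category.id_comp]⟩, ha⟩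

theorem exists_reduced_subscheme (X : Scheme.{u}) {S : Set X} (hS : IsLocallyClosed S) :
    ∃ (W : Scheme.{u}) (i : W ⟶ X), IsImmersion i ∧ IsReduced W ∧ Set.range i = S := by
  let U : X.Opens := ⟨coborder S, hS.isOpen_coborder⟩
  let T : Closeds U.toScheme := ⟨U.ι ⁻¹' S, isClosed_preimage_val_coborder⟩
  refine ⟨_, (Scheme.IdealSheafData.vanishingIdeal T).subschemeι ≫ U.ι, inferInstance,
    isReduced_vanishingIdeal T, ?_⟩
  rw [Scheme.Hom.comp_base, TopCat.coe_comp, Set.range_comp, range_vanishingIdeal]
  show U.ι '' (U.ι ⁻¹' S) = S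
  rw [Set.image_preimage_eq_inter_range, Scheme.Opens.range_ι]
  exact Set.inter_eq_left.2 subset_coborder

/-- An immersion with open image into a reduced scheme is an open immersion. -/
theorem isOpenImmersion_of_isOpen_range [IsReduced Y] (f : X ⟶ Y) [IsImmersion f]
    (h : IsOpen (Set.range f)) : IsOpenImmersion f := by
  let U : Y.Opens := ⟨Set.range f, h⟩
  have hf : Set.range f ⊆ Set.range U.ι := by rw [Scheme.Opens.range_ι]; rfl
  let l := IsOpenImmersion.lift U.ι f hf
  have hl : l ≫ U.ι = f := IsOpenImmersion.lift_fac _ _ _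
  haveI : IsImmersion (l ≫ U.ι) := hl ▸ ‹IsImmersion f›
  haveI : IsImmersion l := IsImmersion.of_comp l U.ι
  have hsurj : Function.Surjective l := fun y => by
    obtain ⟨x, hx⟩ : U.ι y ∈ Set.range f := by
      have : U.ι y ∈ Set.range U.ι := ⟨y, rfl⟩
      rwa [Scheme.Opens.range_ι] at this
    refine ⟨x, U.ι.isEmbedding.injective ?_⟩
    rw [← Scheme.Hom.comp_apply, hl]
    exact hx
  haveI : IsClosedImmersion l := .of_isPreimmersion _ (by
    rw [hsurj.range_eq]; exact isClosed_univ)
  haveI : Surjective l := ⟨hsurj⟩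
  haveI := isIso_of_isClosedImmersion_of_surjective l
  rw [← hl]
  infer_instance

theorem isOpen_range_of_comp {W : Scheme.{u}} (j : Z ⟶ W) (i : W ⟶ X) [IsClosedImmersion i]
    (h : Z ⟶ X) [IsImmersion h] (hji : j ≫ i = h)
    (hi : Set.range i = closure (Set.range h)) : IsOpen (Set.range j) := by
  have : Set.range j = i ⁻¹' coborder (Set.range h) := by
    ext w
    constructor
    · rintro ⟨z, rfl⟩
      exact subset_coborder ⟨z, by rw [← hji, Scheme.Hom.comp_apply]⟩
    · intro hw
      have hw' : i w ∈ coborder (Set.range h) ∩ closure (Set.range h) :=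
        ⟨hw, hi ▸ ⟨w, rfl⟩⟩
      rw [coborder_inter_closure] at hw'
      obtain ⟨z, hz⟩ := hw'
      exact ⟨z, i.isEmbedding.injective (by rw [← Scheme.Hom.comp_apply, hji, hz])⟩
  rw [this]
  exact h.isLocallyClosed_range.isOpen_coborder.preimage i.continuous

end Groth.Agent.H23.RedSub
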