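import Groth.Agent.QCoh.Devissage
import Groth.Prelude.Def_FlatMod2

/-!
Frames of locally free modules, on all opens.
-/

universe u

open CategoryTheory CategoryTheory.Limits AlgebraicGeometry TopologicalSpace Opposite

namespace Groth.Agent.H23.Frame

variable {X : Scheme.{u}} {n : ℕ}

/-- A linear combination of restricted sections. -/
noncomputable def comb (M : X.Modules) {U : X.Opens} (s : Fin n → Γ(M, U)) (W : X.Opens) (h : W ≤ U)
    (c : Fin n → Γ(X, W)) : Γ(M, W) :=
  ∑ i, c i • M.presheaf.map (homOfLE h).op (s i)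

/-- A frame over an open: a basis over each smaller open. -/
def IsFrame (M : X.Modules) {U : X.Opens} (s : Fin n → Γ(M, U)) : Prop :=
  ∀ (W : X.Opens) (h : W ≤ U), Function.Bijective (comb M s W h)

variable (X n)

/-- The projection of the free module to a coordinate. -/
noncomputable def proj (i : Fin n) : FlatMod.freeMod X n ⟶ Coh.structureModule X :=
  Sigma.desc fun j => if j = i then 𝟙 _ else 0

/-- The inclusion of a coordinate. -/
noncomputable def incl (i : Fin n) : Coh.structureModule X ⟶ FlatMod.freeMod X n :=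
  Sigma.ι (fun _ : Fin n => Coh.structureModule X) i

theorem total : ∑ i, proj X n i ≫ incl X n i = 𝟙 (FlatMod.freeMod X n) := by
  refine Sigma.hom_ext _ _ fun j => ?_
  rw [Preadditive.comp_sum, Category.comp_id, Finset.sum_eq_single j]
  · rw [proj, Sigma.ι_desc_assoc, if_pos rfl, Category.id_comp]; rfl
  · intro i _ hi
    rw [proj, Sigma.ι_desc_assoc, if_neg (fun h => hi h.symm), Limits.zero_comp]
  · intro h; exact absurd (Finset.mem_univ j) h

theorem incl_proj (i j : Fin n) : incl X n j ≫ proj X n i = if j = i then 𝟙 _ else 0 :=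
  Sigma.ι_desc _ _

variable {X n}

/-- The element `1` of the structure module. -/
noncomputable def one (W : X.Opens) : Γ(Coh.structureModule X, W) := (1 : Γ(X, W))

theorem app_eq_smul {M : X.Modules} (φ : Coh.structureModule X ⟶ M) (W : X.Opens) (a : Γ(X, W)) :
    φ.app W (a : Γ(Coh.structureModule X, W)) = a • φ.app W (one W) := by
  refine (congrArg _ (mul_one a).symm).trans ?_
  exact Scheme.Modules.Hom.app_smul (M := Coh.structureModule X) φ a (1 : Γ(X, W))

theorem app_one_res {M : X.Modules} (φ : Coh.structureModule X ⟶ M) {W V : X.Opens} (h : W ≤ V) :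
    M.presheaf.map (homOfLE h).op (φ.app V (one V)) = φ.app W (one W) := by
  have h1 : (Coh.structureModule X).presheaf.map (homOfLE h).op (one V) = one W :=
    map_one (X.presheaf.map (homOfLE h).op).hom
  have h2 := ConcreteCategory.congr_hom (φ.mapPresheaf.naturality (homOfLE h).op) (one V)
  rw [← h1]
  exact h2.symm

theorem app_sum {M N : X.Modules} {ι : Type*} (t : Finset ι) (f : ι → (M ⟶ N)) (W : X.Opens) (m : Γ(M, W)) :
    (∑ i ∈ t, f i).app W m = ∑ i ∈ t, (f i).app W m := by
  let g : (M ⟶ N) →+ Γ(N, W) :=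
    { toFun := fun φ => φ.app W m, map_zero' := rfl, map_add' := fun _ _ => rfl }
  exact map_sum g f t

/-- Coordinates in the free module. -/
theorem free_eq_sum (W : X.Opens) (x : Γ(FlatMod.freeMod X n, W)) :
    ∑ i, (show Γ(X, W) from (proj X n i).app W x) • (incl X n i).app W (one W) = x := by
  have h : (∑ i, proj X n i ≫ incl X n i).app W x = x := by
    rw [total]; rfl
  rw [app_sum] at h
  refine Eq.trans (Finset.sum_congr rfl fun i _ => ?_) h
  exact (app_eq_smul (incl X n i) W _).symm

theorem proj_comb (W : X.Opens) (c : Fin n → Γ(X, W)) (j : Fin n) :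
    (show Γ(X, W) from (proj X n j).app W (∑ i, c i • (incl X n i).app W (one W))) = c j := by
  show (proj X n j).app W (∑ i, c i • (incl X n i).app W (one W)) = _
  rw [map_sum, Finset.sum_eq_single j]
  · rw [Scheme.Modules.Hom.app_smul]
    have h : (proj X n j).app W ((incl X n j).app W (one W)) = one W := by
      show (incl X n j ≫ proj X n j).app W (one W) = _
      rw [incl_proj, if_pos rfl]; rfl
    rw [h]
    exact mul_one (c j)
  · intro i _ hi
    rw [Scheme.Modules.Hom.app_smul]
    have h : (proj X n j).app W ((incl X n i).app W (one W)) = 0 := by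
      show (incl X n i ≫ proj X n j).app W (one W) = _
      rw [incl_proj, if_neg hi]; rfl
    rw [h, smul_zero]
  · intro h; exact absurd (Finset.mem_univ j) h

theorem incl_isFrame :
    IsFrame (FlatMod.freeMod X n) (U := ⊤) fun i => (incl X n i).app ⊤ (one ⊤) := by
  intro W h
  have e : comb (FlatMod.freeMod X n) (fun i => (incl X n i).app ⊤ (one ⊤)) W h =
      fun c => ∑ i, c i • (incl X n i).app W (one W) := funext fun c =>
    Finset.sum_congr rfl fun i _ => congrArg (c i • ·) (app_one_res (incl X n i) h)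
  rw [e]
  refine Function.bijective_iff_has_inverse.mpr
    ⟨fun x i => (show Γ(X, W) from (proj X n i).app W x), fun c => funext fun j => proj_comb W c j, free_eq_sum W⟩

theorem restrict_smul {M : X.Modules} (U : X.Opens) (W : (U : Scheme.{u}).Opens) (r : Γ((U : Scheme.{u}), W))
    (m : Γ(M.restrict U.ι, W)) :
    r • m = (show Γ(X, U.ι ''ᵁ W) from r) • (show Γ(M, U.ι ''ᵁ W) from m) := by
  have h : (U.ι.appIso W).inv r = r := by rw [Scheme.Opens.ι_appIso]; rfl
  exact congrArg (· • (show Γ(M, U.ι ''ᵁ W) from m)) h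

/-- A free module has a frame. -/
theorem exists_frame {M : X.Modules} {U : X.Opens}
    (e : M.restrict U.ι ≅ FlatMod.freeMod (U : Scheme.{u}) n) :
    ∃ s : Fin n → Γ(M, U), IsFrame M s := by
  have hU : U.ι ''ᵁ ⊤ = U := U.ι_image_top
  let t : Fin n → Γ(M, U.ι ''ᵁ ⊤) := fun i => e.inv.app ⊤ ((incl (U : Scheme.{u}) n i).app ⊤ (one ⊤))
  refine ⟨fun i => M.presheaf.map (eqToHom hU.symm).op (t i), fun W h => ?_⟩
  obtain ⟨W', rfl⟩ : ∃ W' : (U : Scheme.{u}).Opens, U.ι ''ᵁ W' = W := ⟨U.ι ⁻¹ᵁ W, by
    rw [Scheme.Hom.image_preimage_eq_opensRange_inf, Scheme.Opens.opensRange_ι]; simpa using h⟩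
  have hb := (incl_isFrame (X := (U : Scheme.{u})) (n := n)) W' le_top
  have hi : Function.Bijective (e.inv.app W') :=
    ConcreteCategory.bijective_of_isIso (e.inv.app W')
  have key : comb M (fun i => M.presheaf.map (eqToHom hU.symm).op (t i)) (U.ι ''ᵁ W') h =
      (fun x => e.inv.app W' x) ∘ comb (FlatMod.freeMod (U : Scheme.{u}) n)
        (fun i => (incl (U : Scheme.{u}) n i).app ⊤ (one ⊤)) W' le_top := by
    funext c
    simp only [Function.comp, comb, map_sum]
    refine Finset.sum_congr rfl fun i _ => ?_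
    refine Eq.trans ?_ ((Scheme.Modules.Hom.app_smul e.inv (M := FlatMod.freeMod (U : Scheme.{u}) n) _ _).symm)
    refine Eq.trans ?_ (restrict_smul U W' (c i) _).symm
    refine congrArg (fun m : Γ(M, U.ι ''ᵁ W') => (show Γ(X, U.ι ''ᵁ W') from c i) • m) ?_
    have h2 := ConcreteCategory.congr_hom (e.inv.mapPresheaf.naturality (homOfLE (le_top (a := W'))).op)
      ((incl (U : Scheme.{u}) n i).app ⊤ (one ⊤))
    refine Eq.trans ?_ h2.symm
    show M.presheaf.map (homOfLE h).op (M.presheaf.map (eqToHom hU.symm).op (t i)) =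
      M.presheaf.map (U.ι.opensFunctor.map (homOfLE (le_top (a := W')))).op (t i)
    rw [← ConcreteCategory.comp_apply, ← M.presheaf.map_comp]
    rfl
  rw [key]
  exact hi.comp hb

/-- A frame gives a trivialisation. -/
theorem exists_iso_of_frame {M : X.Modules} {U : X.Opens} (s : Fin n → Γ(M, U)) (hs : IsFrame M s) :
    Nonempty (M.restrict U.ι ≅ FlatMod.freeMod (U : Scheme.{u}) n) := by
  have hU : U.ι ''ᵁ ⊤ ≤ U := U.ι_image_top.le
  let φ : FlatMod.freeMod (U : Scheme.{u}) n ⟶ M.restrict U.ι :=
    Sigma.desc fun i => QCoh.homOfTop (P := M.restrict U.ι) (M.presheaf.map (homOfLE hU).op (s i))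
  suffices h : IsIso φ from ⟨(asIso φ).symm⟩
  refine Scheme.Modules.Hom.isIso_iff_isIso_app.mpr fun W' => ?_
  rw [ConcreteCategory.isIso_iff_bijective]
  have hb := (incl_isFrame (X := (U : Scheme.{u})) (n := n)) W' le_top
  have hle : U.ι ''ᵁ W' ≤ U := (Scheme.Hom.image_mono U.ι le_top).trans hU
  have key : (fun x => φ.app W' x) ∘ comb (FlatMod.freeMod (U : Scheme.{u}) n)
        (fun i => (incl (U : Scheme.{u}) n i).app ⊤ (one ⊤)) W' le_top = comb M s (U.ι ''ᵁ W') hle := by
    funext c
    simp only [Function.comp, comb, map_sum]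
    refine Finset.sum_congr rfl fun i _ => ?_
    refine (Scheme.Modules.Hom.app_smul φ (M := FlatMod.freeMod (U : Scheme.{u}) n) _ _).trans ?_
    refine (restrict_smul U W' (c i) _).trans ?_
    refine congrArg (fun m : Γ(M, U.ι ''ᵁ W') => (show Γ(X, U.ι ''ᵁ W') from c i) • m) ?_
    rw [app_one_res (incl (U : Scheme.{u}) n i) (le_top (a := W'))]
    show (incl (U : Scheme.{u}) n i ≫ φ).app W' (one W') = _
    rw [incl, Sigma.ι_desc]
    refine (QCoh.homOfTop_app _ _).trans ?_
    refine (one_smul Γ((U : Scheme.{u}), W') _).trans ?_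
    show M.presheaf.map (U.ι.opensFunctor.map (homOfLE (le_top (a := W')))).op
      (M.presheaf.map (homOfLE hU).op (s i)) = _
    rw [← ConcreteCategory.comp_apply, ← M.presheaf.map_comp]
    rfl
  exact (Function.Bijective.of_comp_iff _ hb).mp (key ▸ hs _ hle)

theorem IsFrame.res {M : X.Modules} {U V : X.Opens} {s : Fin n → Γ(M, U)} (hs : IsFrame M s) (h : V ≤ U) :
    IsFrame M fun i => M.presheaf.map (homOfLE h).op (s i) := fun W hW => by
  have e : comb M (fun i => M.presheaf.map (homOfLE h).op (s i)) W hW = comb M s W (hW.trans h) := funext fun c =>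
    Finset.sum_congr rfl fun i _ => congrArg (c i • ·)
      (by rw [← ConcreteCategory.comp_apply, ← M.presheaf.map_comp]; rfl)
  rw [e]
  exact hs W _

end Groth.Agent.H23.Frame
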