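import Groth.Agent.QCoh.LocFree
import Groth.Agent.QCoh.Qcqs
import Groth.Agent.H23.Frame
import Groth.Prelude.Def_FinCov

/-!
Covers of degree `d` through their direct image algebras.
-/

universe u

open CategoryTheory CategoryTheory.Limits AlgebraicGeometry TopologicalSpace Opposite

namespace Groth.Agent.H23.CoverPush

variable {X Y : Scheme.{u}} (f : X ⟶ Y)

/-- The algebra of the preimage. -/
@[reducible] noncomputable def alg (U : Y.Opens) : Algebra Γ(Y, U) Γ(X, f ⁻¹ᵁ U) := (f.app U).hom.toAlgebra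

theorem isPullback_fromSpec [IsAffineHom f] {U : Y.Opens} (hU : IsAffineOpen U) :
    IsPullback (Spec.map (f.app U)) (hU.preimage f).fromSpec hU.fromSpec f := by
  refine IsOpenImmersion.isPullback _ _ _ _ ?_ ?_
  · rw [Scheme.Hom.app_eq_appLE]; exact (IsAffineOpen.SpecMap_appLE_fromSpec f hU (hU.preimage f) le_rfl).symm
  · rw [hU.opensRange_fromSpec, (hU.preimage f).opensRange_fromSpec]

theorem finrank_eq [IsFinite f] [Flat f] {U : Y.Opens} (hU : IsAffineOpen U) {y : Y} (hy : y ∈ U) :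
    letI := alg f U
    f.finrank y = Module.rankAtStalk (R := Γ(Y, U)) Γ(X, f ⁻¹ᵁ U) (hU.primeIdealOf ⟨y, hy⟩) := by
  letI := alg f U
  have h := isPullback_fromSpec f hU
  haveI : IsFinite (Spec.map (f.app U)) := MorphismProperty.of_isPullback h.flip inferInstance
  haveI : Flat (Spec.map (f.app U)) := MorphismProperty.of_isPullback h.flip inferInstance
  haveI : Module.Finite Γ(Y, U) Γ(X, f ⁻¹ᵁ U) := (IsFinite.SpecMap_iff (f.app U)).mp inferInstance
  haveI : Module.Flat Γ(Y, U) Γ(X, f ⁻¹ᵁ U) := Flat.SpecMap_iff.mp (inferInstanceAs (Flat (Spec.map (f.app U))))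
  have e := Scheme.Hom.finrank_of_isPullback _ _ _ _ h.flip (hU.primeIdealOf ⟨y, hy⟩)
  rw [hU.fromSpec_primeIdealOf] at e
  rw [← e]
  exact Scheme.Hom.finrank_SpecMap_algebraMap Γ(Y, U) Γ(X, f ⁻¹ᵁ U) (hU.primeIdealOf ⟨y, hy⟩)

/-- Free of rank `d` over an affine open around each point. -/
def Crit (d : ℕ) : Prop :=
  ∀ y : Y, ∃ (U : Y.Opens), IsAffineOpen U ∧ y ∈ U ∧
    letI := alg f U
    Nonempty (Γ(X, f ⁻¹ᵁ U) ≃ₗ[Γ(Y, U)] (ULift.{u} (Fin d) →₀ Γ(Y, U)))

theorem isCover_of_crit [IsAffineHom f] {d : ℕ} (h : Crit f d) : FinCov.IsCover f d := by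
  choose U hU hy l using h
  have hcov : ⨆ y, U y = (⊤ : Y.Opens) := eq_top_iff.mpr fun y _ => Opens.mem_iSup.mpr ⟨y, hy y⟩
  have hloc : ∀ y, IsFinite (f ∣_ U y) ∧ Flat (f ∣_ U y) ∧ LocallyOfFinitePresentation (f ∣_ U y) := fun y => by
    letI := alg f (U y)
    obtain ⟨e⟩ := l y
    haveI : Module.Finite Γ(Y, U y) Γ(X, f ⁻¹ᵁ U y) := Module.Finite.equiv e.symm
    haveI : Module.Free Γ(Y, U y) Γ(X, f ⁻¹ᵁ U y) := Module.Free.of_equiv e.symm
    haveI : Module.FinitePresentation Γ(Y, U y) Γ(X, f ⁻¹ᵁ U y) := Module.finitePresentation_of_projective _ _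
    have e1 : Arrow.mk (f ∣_ U y) ≅ Arrow.mk (Spec.map (f.app (U y))) := by
      have hr := (isPullback_morphismRestrict f (U y))
      have hp := isPullback_fromSpec f (hU y)
      exact Arrow.isoMk ((hU y).preimage f).isoSpec (hU y).isoSpec (by
        rw [← cancel_mono (hU y).fromSpec]
        show (((hU y).preimage f).isoSpec.hom ≫ Spec.map (f.app (U y))) ≫ (hU y).fromSpec =
          ((f ∣_ U y) ≫ (hU y).isoSpec.hom) ≫ (hU y).fromSpec
        rw [Category.assoc, hp.w, Category.assoc, IsAffineOpen.isoSpec_hom_fromSpec,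
          ← Category.assoc, IsAffineOpen.isoSpec_hom_fromSpec, morphismRestrict_ι])
    refine ⟨?_, ?_, ?_⟩
    · rw [MorphismProperty.arrow_mk_iso_iff @IsFinite e1, IsFinite.SpecMap_iff]
      exact (inferInstance : Module.Finite Γ(Y, U y) Γ(X, f ⁻¹ᵁ U y))
    · rw [MorphismProperty.arrow_mk_iso_iff @Flat e1, Flat.SpecMap_iff]
      exact (inferInstance : Module.Flat Γ(Y, U y) Γ(X, f ⁻¹ᵁ U y))
    · rw [MorphismProperty.arrow_mk_iso_iff @LocallyOfFinitePresentation e1, LocallyOfFinitePresentation.SpecMap_iff]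
      exact (Algebra.FinitePresentation.of_finitePresentation Γ(Y, U y) Γ(X, f ⁻¹ᵁ U y))
  haveI h1 : IsFinite f := IsZariskiLocalAtTarget.of_iSup_eq_top U hcov fun y => (hloc y).1
  haveI h2 : Flat f := IsZariskiLocalAtTarget.of_iSup_eq_top U hcov fun y => (hloc y).2.1
  haveI h3 : LocallyOfFinitePresentation f := IsZariskiLocalAtTarget.of_iSup_eq_top U hcov fun y => (hloc y).2.2
  refine ⟨⟨h1, h2, h3⟩, fun y => ?_⟩
  letI := alg f (U y)
  obtain ⟨e⟩ := l y
  haveI : Module.Free Γ(Y, U y) Γ(X, f ⁻¹ᵁ U y) := Module.Free.of_equiv e.symm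
  haveI : Module.Finite Γ(Y, U y) Γ(X, f ⁻¹ᵁ U y) := Module.Finite.equiv e.symm
  haveI : Nontrivial Γ(Y, U y) := (Y.presheaf.germ (U y) y (hy y)).hom.domain_nontrivial
  rw [finrank_eq f (hU y) (hy y), Module.rankAtStalk_eq_finrank_of_free, Pi.natCast_apply, e.finrank_eq]
  simp

theorem isFinLocFreeOfRank_push_of_crit [IsAffineHom f] {d : ℕ} (h : Crit f d) :
    FlatMod.IsFinLocFreeOfRank d ((Scheme.Modules.pushforward f).obj (Coh.structureModule X)) := fun y => by
  obtain ⟨U, hU, hy, ⟨e⟩⟩ := h y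
  refine ⟨U, hy, QCoh.exists_free_restrict (QCoh.isQCoh_pushforward f QCoh.isQCoh_structureModule) hU ?_⟩
  exact { e with map_smul' := fun r x => e.map_smul r (show Γ(X, f ⁻¹ᵁ U) from x) }

theorem crit_of_isFinLocFreeOfRank_push {d : ℕ}
    (h : FlatMod.IsFinLocFreeOfRank d ((Scheme.Modules.pushforward f).obj (Coh.structureModule X))) :
    Crit f d := fun y => by
  obtain ⟨W, hyW, ⟨e⟩⟩ := h y
  obtain ⟨_, ⟨U, hU, rfl⟩, hy, hUW⟩ := Y.isBasis_affineOpens.exists_subset_of_mem_open hyW W.2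
  obtain ⟨l⟩ := QCoh.free_sections hU hUW e
  letI := alg f U
  exact ⟨U, hU, hy, ⟨{ l with map_smul' := fun r x => l.map_smul r x }⟩⟩

theorem isFinLocFreeOfRank_push_of_isCover {d : ℕ} (h : FinCov.IsCover f d) :
    FlatMod.IsFinLocFreeOfRank d ((Scheme.Modules.pushforward f).obj (Coh.structureModule X)) := by
  obtain ⟨⟨h1, h2, h3⟩, hd⟩ := h
  have hq : Coh.IsQCoh ((Scheme.Modules.pushforward f).obj (Coh.structureModule X)) :=
    QCoh.isQCoh_pushforward f QCoh.isQCoh_structureModule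
  intro y
  obtain ⟨_, ⟨U, hU, rfl⟩, hy, -⟩ := Y.isBasis_affineOpens.exists_subset_of_mem_open (Set.mem_univ y) isOpen_univ
  have hU' : IsAffineOpen U := hU
  letI := alg f U
  have h := isPullback_fromSpec f hU'
  haveI : IsFinite (Spec.map (f.app U)) := MorphismProperty.of_isPullback h.flip inferInstance
  haveI : Flat (Spec.map (f.app U)) := MorphismProperty.of_isPullback h.flip inferInstance
  haveI : LocallyOfFinitePresentation (Spec.map (f.app U)) := MorphismProperty.of_isPullback h.flip inferInstance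
  haveI : Module.Finite Γ(Y, U) Γ(X, f ⁻¹ᵁ U) := (IsFinite.SpecMap_iff (f.app U)).mp inferInstance
  haveI : Module.Flat Γ(Y, U) Γ(X, f ⁻¹ᵁ U) := Flat.SpecMap_iff.mp (inferInstanceAs (Flat (Spec.map (f.app U))))
  have hrk : ∀ z (hz : z ∈ U),
      Module.rankAtStalk (R := Γ(Y, U)) Γ(X, f ⁻¹ᵁ U) (hU'.primeIdealOf ⟨z, hz⟩) = d := fun z hz =>
    (finrank_eq f hU' hz).symm.trans (hd z)
  obtain ⟨a, ha, hfree⟩ := Module.Free.away_of_finite_of_flat_of_rankAtStalk_constant Γ(X, f ⁻¹ᵁ U)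
    (hU'.primeIdealOf ⟨y, hy⟩).asIdeal fun m hm => by
      obtain ⟨z, hz, e⟩ := QCoh.exists_point hU' ⟨m, hm.isPrime⟩
      rw [← e]
      exact (hrk z hz).trans (hrk y hy).symm
  let M := (Scheme.Modules.pushforward f).obj (Coh.structureModule X)
  have e0 : Γ(M, U) ≃ₗ[Γ(Y, U)] Γ(X, f ⁻¹ᵁ U) :=
    { toFun := fun x => x, invFun := fun x => x, left_inv := fun _ => rfl, right_inv := fun _ => rfl,
      map_add' := fun _ _ => rfl, map_smul' := fun _ _ => rfl }
  haveI : Module.Finite Γ(Y, U) Γ(M, U) := Module.Finite.equiv e0.symm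
  haveI : Module.Free (Localization.Away a) (LocalizedModule.Away a Γ(M, U)) :=
    Module.Free.of_equiv (IsLocalizedModule.mapEquiv (Submonoid.powers a)
      (LocalizedModule.mkLinearMap (Submonoid.powers a) Γ(X, f ⁻¹ᵁ U))
      (LocalizedModule.mkLinearMap (Submonoid.powers a) Γ(M, U)) (Localization.Away a) e0.symm)
  obtain ⟨n, hn⟩ := QCoh.exists_free_nhd hq hU' a inferInstance
  have hya : y ∈ Y.basicOpen a := (QCoh.mem_basicOpen_iff_notMem hU' hy a).2 ha
  obtain ⟨e⟩ := hn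
  obtain ⟨_, ⟨V, hV, rfl⟩, hyV, hVW⟩ := Y.isBasis_affineOpens.exists_subset_of_mem_open hya (Y.basicOpen a).2
  have hV' : IsAffineOpen V := hV
  obtain ⟨l⟩ := QCoh.free_sections hV' hVW e
  letI := alg f V
  let l' : Γ(X, f ⁻¹ᵁ V) ≃ₗ[Γ(Y, V)] (ULift.{u} (Fin n) →₀ Γ(Y, V)) := { l with map_smul' := fun r x => l.map_smul r x }
  haveI : Module.Free Γ(Y, V) Γ(X, f ⁻¹ᵁ V) := Module.Free.of_equiv l'.symm
  haveI : Module.Finite Γ(Y, V) Γ(X, f ⁻¹ᵁ V) := Module.Finite.equiv l'.symm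
  haveI : Nontrivial Γ(Y, V) := (Y.presheaf.germ V y hyV).hom.domain_nontrivial
  have hn : n = d := by
    have := (finrank_eq f hV' hyV).symm.trans (hd y)
    rw [Module.rankAtStalk_eq_finrank_of_free, Pi.natCast_apply, l'.finrank_eq] at this
    simpa using this
  subst hn
  exact ⟨_, hya, ⟨e⟩⟩

theorem isCover_iff {d : ℕ} :
    FinCov.IsCover f d ↔
      IsAffineHom f ∧ FlatMod.IsFinLocFreeOfRank d ((Scheme.Modules.pushforward f).obj (Coh.structureModule X)) := by
  refine ⟨fun h => ⟨?_, isFinLocFreeOfRank_push_of_isCover f h⟩, fun ⟨ha, h⟩ => ?_⟩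
  · haveI := h.1.1
    infer_instance
  · exact isCover_of_crit f (crit_of_isFinLocFreeOfRank_push f h)

theorem isCover_π {A : RelSpec.QCAlg X} {d : ℕ} (hA : FlatMod.IsFinLocFreeOfRank d A.toModule) :
    FinCov.IsCover A.π d := by
  refine isCover_of_crit A.π fun x => ?_
  obtain ⟨W, hxW, ⟨e⟩⟩ := hA x
  obtain ⟨s, hs⟩ := Frame.exists_frame e
  obtain ⟨_, ⟨U, hU, rfl⟩, hx, hUW⟩ := X.isBasis_affineOpens.exists_subset_of_mem_open hxW W.2
  have hU' : IsAffineOpen U := hU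
  refine ⟨U, hU', hx, ?_⟩
  letI := alg A.π U
  have hg : Function.Bijective (A.gammaAff U hU').hom := by
    have : IsIso ((A.ι U hU').appLE (A.π ⁻¹ᵁ U) ⊤ (A.top_le_preimage U hU')) := by
      have key : ∀ V : (Spec (A.presheaf.obj (op U))).Opens, V = (A.ι U hU') ⁻¹ᵁ (A.π ⁻¹ᵁ U) →
          ∀ h, IsIso ((A.ι U hU').appLE (A.π ⁻¹ᵁ U) V h) := by
        rintro V rfl h
        have := Scheme.Hom.isIso_app (A.ι U hU') (A.π ⁻¹ᵁ U) (A.π_preimage U hU').le
        rw [← Scheme.Hom.app_eq_appLE]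
        infer_instance
      exact key ⊤ (le_antisymm (A.top_le_preimage U hU') le_top) _
    have : IsIso (A.gammaAff U hU') := inferInstanceAs (IsIso (_ ≫ _))
    exact ConcreteCategory.bijective_of_isIso (A.gammaAff U hU')
  let g : Γ(A.spec, A.π ⁻¹ᵁ U) ≃+* A.presheaf.obj (op U) := RingEquiv.ofBijective _ hg
  have hsm : ∀ r : Γ(X, U), g ((A.π.app U).hom r) = (A.str.app (op U)).hom r := fun r =>
    congr($(A.π_app_gammaAff U hU').hom r)
  let c : (ULift.{u} (Fin d) →₀ Γ(X, U)) →ₗ[Γ(X, U)] Γ(A.spec, A.π ⁻¹ᵁ U) :=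
    Finsupp.linearCombination Γ(X, U) fun i => g.symm (A.toModule.presheaf.map (homOfLE hUW).op (s i.down))
  refine ⟨(LinearEquiv.ofBijective c ?_).symm⟩
  have key : (fun z => g (c z)) = Frame.comb A.toModule s U hUW ∘ (fun z i => z (ULift.up i)) := by
    funext z
    show g (Finsupp.linearCombination Γ(X, U) _ z) = Frame.comb A.toModule s U hUW fun i => z (ULift.up i)
    rw [Finsupp.linearCombination_apply, Finsupp.sum_fintype, map_sum]
    · refine Fintype.sum_equiv Equiv.ulift _ _ fun i => ?_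
      show g ((A.π.app U).hom (z i) * g.symm _) = (A.str.app (op U)).hom (z i) * _
      rw [map_mul, hsm, RingEquiv.apply_symm_apply]
      rfl
    · exact fun i => zero_smul _ _
  have hb : Function.Bijective fun z => g (c z) := by
    rw [key]
    exact (hs U hUW).comp ((Finsupp.equivFunOnFinite.trans (Equiv.arrowCongr Equiv.ulift (Equiv.refl _))).bijective)
  exact (Function.Bijective.of_comp_iff' g.bijective _).mp hb

end Groth.Agent.H23.CoverPush
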