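import Groth.Agent.H23.ModLoc
import Groth.Prelude.Def_FlatMod2
import Mathlib.Algebra.Category.ModuleCat.Sheaf.PullbackFree
import Mathlib.CategoryTheory.Adjunction.Unique
import Mathlib.CategoryTheory.Functor.Flat
import Mathlib.AlgebraicGeometry.Restrict

/-!
The unit `M ⟶ f_* f^* M` for a morphism with `O_S = f_* O_X`: compatibility with restriction to opens
of the base, and bijectivity on finite locally free modules.
-/

universe u

open CategoryTheory Limits AlgebraicGeometry Opposite TopologicalSpace

namespace Groth.Agent.H23.PullPush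

open Groth.Agent.H23.ModLoc

variable {X S : Scheme.{u}}

instance opensMap_final (f : X ⟶ S) : (TopologicalSpace.Opens.map f.base).Final where
  out U := by
    have : Nonempty (StructuredArrow U (TopologicalSpace.Opens.map f.base)) :=
      ⟨StructuredArrow.mk (Y := ⊤) (homOfLE le_top)⟩
    refine isConnected_of_zigzag fun a b => ?_
    let t : StructuredArrow U (TopologicalSpace.Opens.map f.base) := StructuredArrow.mk (Y := ⊤) (homOfLE le_top)
    exact ⟨[t, b], by
      refine List.IsChain.cons_cons (Or.inl ⟨StructuredArrow.homMk (homOfLE le_top) (Subsingleton.elim _ _)⟩) ?_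
      exact List.IsChain.cons_cons (Or.inr ⟨StructuredArrow.homMk (homOfLE le_top) (Subsingleton.elim _ _)⟩)
        (List.IsChain.singleton _), rfl⟩

lemma isIso_unit_structureModule (f : X ⟶ S) (hf : ∀ U : S.Opens, Function.Bijective (f.app U)) :
    IsIso ((Scheme.Modules.pullbackPushforwardAdjunction f).unit.app (Coh.structureModule S)) := by
  let φ := f.toRingCatSheafHom
  let e : (Scheme.Modules.pullback f).obj (Coh.structureModule S) ⟶ Coh.structureModule X :=
    SheafOfModules.pullbackObjUnitToUnit φ
  have : IsIso e := inferInstanceAs (IsIso (SheafOfModules.pullbackObjUnitToUnit φ))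
  let η := (Scheme.Modules.pullbackPushforwardAdjunction f).unit.app (Coh.structureModule S)
  have h : η ≫ (Scheme.Modules.pushforward f).map e = SheafOfModules.unitToPushforwardObjUnit φ :=
    (Adjunction.homEquiv_unit (Scheme.Modules.pullbackPushforwardAdjunction f) _ _ e).symm.trans
      (SheafOfModules.pullbackPushforwardAdjunction_homEquiv_pullbackObjUnitToUnit φ)
  have : IsIso (η ≫ (Scheme.Modules.pushforward f).map e) := by
    rw [h]
    refine Scheme.Modules.Hom.isIso_iff_isIso_app.mpr fun U => ?_
    rw [ConcreteCategory.isIso_iff_bijective]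
    exact hf U
  exact IsIso.of_isIso_comp_right η ((Scheme.Modules.pushforward f).map e)

lemma isIso_unit_freeMod (f : X ⟶ S) (hf : ∀ U : S.Opens, Function.Bijective (f.app U)) (n : ℕ) :
    IsIso ((Scheme.Modules.pullbackPushforwardAdjunction f).unit.app (FlatMod.freeMod S n)) := by
  let η := (Scheme.Modules.pullbackPushforwardAdjunction f).unit
  let O : Fin n → S.Modules := fun _ => Coh.structureModule S
  have : HasFiniteBiproducts S.Modules := HasFiniteBiproducts.of_hasFiniteProducts
  have := isIso_unit_structureModule f hf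
  have : IsIso (η.app (⨁ O)) := by
    let T := Scheme.Modules.pullback f ⋙ Scheme.Modules.pushforward f
    refine ⟨∑ i, (T.map (biproduct.π O i) ≫ inv (η.app (Coh.structureModule S))) ≫ biproduct.ι O i, ?_, ?_⟩
    · rw [Preadditive.comp_sum]
      refine Eq.trans (Finset.sum_congr rfl fun i _ => ?_) biproduct.total
      rw [← Category.assoc, ← Category.assoc]
      congr 1
      rw [IsIso.comp_inv_eq]
      exact (η.naturality (biproduct.π O i)).symm
    · rw [Preadditive.sum_comp]
      refine Eq.trans (Finset.sum_congr rfl fun i _ => ?_)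
        (show ∑ i, T.map (biproduct.π O i ≫ biproduct.ι O i) = 𝟙 _ by
          rw [← Functor.map_sum, biproduct.total, CategoryTheory.Functor.map_id])
      rw [Functor.map_comp, Category.assoc, Category.assoc]
      congr 1
      rw [IsIso.inv_comp_eq]
      exact η.naturality (biproduct.ι O i)
  exact (NatTrans.isIso_app_iff_of_iso η (biproduct.isoCoproduct O)).mp this

/-- `pushforward` along `(f ∣_ U)` then `U.ι` agrees with along the inclusion then `f`. -/
noncomputable def pushSquare (f : X ⟶ S) (U : S.Opens) :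
    Scheme.Modules.pushforward (f ∣_ U) ⋙ Scheme.Modules.pushforward U.ι ≅
      Scheme.Modules.pushforward (f ⁻¹ᵁ U).ι ⋙ Scheme.Modules.pushforward f :=
  Scheme.Modules.pushforwardComp (f ∣_ U) U.ι ≪≫ Scheme.Modules.pushforwardCongr (morphismRestrict_ι f U) ≪≫
    (Scheme.Modules.pushforwardComp (f ⁻¹ᵁ U).ι f).symm

/-- The base change map `(f_* N)|_U ⟶ (f ∣_ U)_* (N|_{f⁻¹ U})`. -/
noncomputable def pushRestrict (f : X ⟶ S) (U : S.Opens) :
    Scheme.Modules.pushforward f ⋙ Scheme.Modules.restrictFunctor U.ι ⟶
      Scheme.Modules.restrictFunctor (f ⁻¹ᵁ U).ι ⋙ Scheme.Modules.pushforward (f ∣_ U) where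
  app N := (Scheme.Modules.restrictFunctor U.ι).map
      ((Scheme.Modules.pushforward f).map ((Scheme.Modules.restrictAdjunction (f ⁻¹ᵁ U).ι).unit.app N) ≫
        (pushSquare f U).inv.app _) ≫ (Scheme.Modules.restrictAdjunction U.ι).counit.app _
  naturality {N N'} φ := by
    let η := (Scheme.Modules.restrictAdjunction (f ⁻¹ᵁ U).ι).unit
    let c := (Scheme.Modules.restrictAdjunction U.ι).counit
    let ψ := (Scheme.Modules.pushforward (f ∣_ U)).map ((Scheme.Modules.restrictFunctor (f ⁻¹ᵁ U).ι).map φ)
    have h1 : φ ≫ η.app N' = η.app N ≫ (Scheme.Modules.pushforward (f ⁻¹ᵁ U).ι).map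
        ((Scheme.Modules.restrictFunctor (f ⁻¹ᵁ U).ι).map φ) := η.naturality φ
    have h2 := (pushSquare f U).inv.naturality ((Scheme.Modules.restrictFunctor (f ⁻¹ᵁ U).ι).map φ)
    have k : (Scheme.Modules.pushforward f).map φ ≫
        ((Scheme.Modules.pushforward f).map (η.app N') ≫ (pushSquare f U).inv.app _) =
        ((Scheme.Modules.pushforward f).map (η.app N) ≫ (pushSquare f U).inv.app _) ≫
          (Scheme.Modules.pushforward U.ι).map ψ := by
      rw [← Category.assoc, ← Functor.map_comp, h1, Functor.map_comp, Category.assoc, Category.assoc]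
      exact congrArg (_ ≫ ·) h2
    have k2 := congrArg (fun t => (Scheme.Modules.restrictFunctor U.ι).map t ≫ c.app _) k
    simp only [Functor.map_comp, Category.assoc] at k2
    simp only [Functor.comp_map, Functor.map_comp, Category.assoc]
    exact k2.trans (congrArg (_ ≫ ·) (congrArg (_ ≫ ·) (c.naturality ψ)))

instance isIso_pushRestrict_app (f : X ⟶ S) (U : S.Opens) (N : X.Modules) :
    IsIso ((pushRestrict f U).app N) := by
  refine Scheme.Modules.Hom.isIso_iff_isIso_app.mpr fun W => ?_
  let i := (f ⁻¹ᵁ U).ι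
  let j := U.ι
  have : i ''ᵁ (i ⁻¹ᵁ (f ⁻¹ᵁ (j ''ᵁ W))) = f ⁻¹ᵁ (j ''ᵁ W) := by
    rw [Scheme.Hom.image_preimage_eq_opensRange_inf, Scheme.Opens.opensRange_ι, inf_eq_right]
    exact (Opens.map f.base).monotone ((j.image_mono le_top).trans (by simp [j]))
  have h1 : IsIso (((Scheme.Modules.restrictAdjunction i).unit.app N).app (f ⁻¹ᵁ (j ''ᵁ W))) := by
    rw [Scheme.Modules.restrictAdjunction_unit_app_app]
    rw [show homOfLE (i.image_preimage_le _) = eqToHom this from Subsingleton.elim _ _]
    exact Functor.map_isIso N.presheaf _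
  have h2 : IsIso (((pushSquare f U).inv.app (N.restrict i)).app (j ''ᵁ W)) := inferInstance
  have h3 : IsIso (((Scheme.Modules.restrictAdjunction j).counit.app
      ((Scheme.Modules.pushforward (f ∣_ U)).obj (N.restrict i))).app W) := inferInstance
  simp only [pushRestrict]
  rw [Scheme.Modules.Hom.comp_app]
  refine IsIso.comp_isIso' ?_ h3
  change IsIso (((Scheme.Modules.restrictAdjunction i).unit.app N).app (f ⁻¹ᵁ (j ''ᵁ W)) ≫
    ((pushSquare f U).inv.app (N.restrict i)).app (j ''ᵁ W))
  exact IsIso.comp_isIso' h1 h2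

/-- The comparison `(f ∣_ U)^* (M|_U) ≅ (f^* M)|_{f⁻¹ U}`. -/
noncomputable def pullRestrictIso (f : X ⟶ S) (U : S.Opens) :
    Scheme.Modules.restrictFunctor U.ι ⋙ Scheme.Modules.pullback (f ∣_ U) ≅
      Scheme.Modules.pullback f ⋙ Scheme.Modules.restrictFunctor (f ⁻¹ᵁ U).ι :=
  Adjunction.leftAdjointUniq
    (((Scheme.Modules.restrictAdjunction U.ι).comp
      (Scheme.Modules.pullbackPushforwardAdjunction (f ∣_ U))).ofNatIsoRight (pushSquare f U))
    ((Scheme.Modules.pullbackPushforwardAdjunction f).comp (Scheme.Modules.restrictAdjunction (f ⁻¹ᵁ U).ι))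

lemma restrict_unit_comp (f : X ⟶ S) (U : S.Opens) (M : S.Modules) :
    (Scheme.Modules.restrictFunctor U.ι).map
        ((Scheme.Modules.pullbackPushforwardAdjunction f).unit.app M) ≫ (pushRestrict f U).app _ =
      (Scheme.Modules.pullbackPushforwardAdjunction (f ∣_ U)).unit.app (M.restrict U.ι) ≫
        (Scheme.Modules.pushforward (f ∣_ U)).map ((pullRestrictIso f U).hom.app M) := by
  let i := (f ⁻¹ᵁ U).ι
  let j := U.ι
  let g := f ∣_ U
  let A1 := (Scheme.Modules.pullbackPushforwardAdjunction f).comp (Scheme.Modules.restrictAdjunction i)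
  let A2 := (Scheme.Modules.restrictAdjunction j).comp (Scheme.Modules.pullbackPushforwardAdjunction g)
  let R := pushSquare f U
  let A3 := A2.ofNatIsoRight R
  let e := (pullRestrictIso f U).hom.app M
  have hA : A1.unit.app M = A2.unit.app M ≫ R.hom.app _ ≫
      (Scheme.Modules.pushforward i ⋙ Scheme.Modules.pushforward f).map e := by
    have h0 := (Adjunction.unit_leftAdjointUniq_hom_app A3 A1 M).symm
    rw [h0]
    simp [A3, e, Adjunction.ofNatIsoRight, pullRestrictIso, A1, A2, R, i, j, g]
  have hA1 : A1.unit.app M = (Scheme.Modules.pullbackPushforwardAdjunction f).unit.app M ≫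
      (Scheme.Modules.pushforward f).map ((Scheme.Modules.restrictAdjunction i).unit.app _) := by
    simp [A1]
  have hA2 : A2.unit.app M = (Scheme.Modules.restrictAdjunction j).unit.app M ≫
      (Scheme.Modules.pushforward j).map
        ((Scheme.Modules.pullbackPushforwardAdjunction g).unit.app (M.restrict j)) := by
    simp [A2]
  have hA' : A1.unit.app M ≫ R.inv.app _ = A2.unit.app M ≫
      (Scheme.Modules.pushforward g ⋙ Scheme.Modules.pushforward j).map e := by
    rw [hA, Category.assoc, Category.assoc, R.inv.naturality e]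
    exact congrArg (_ ≫ ·) (R.hom_inv_id_app_assoc _ _)
  have ht := congrArg (((Scheme.Modules.restrictAdjunction j).homEquiv _ _).symm) hA'
  rw [hA1, hA2] at ht
  simp only [Adjunction.homEquiv_counit, Functor.map_comp, Category.assoc] at ht
  simp only [pushRestrict, Functor.map_comp, Category.assoc]
  refine ht.trans ?_
  simp [e, g, j]

lemma isIso_restrict_unit (f : X ⟶ S) (U : S.Opens) (M : S.Modules)
    (h : IsIso ((Scheme.Modules.pullbackPushforwardAdjunction (f ∣_ U)).unit.app (M.restrict U.ι))) :
    IsIso ((Scheme.Modules.restrictFunctor U.ι).map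
      ((Scheme.Modules.pullbackPushforwardAdjunction f).unit.app M)) := by
  have : IsIso ((Scheme.Modules.restrictFunctor U.ι).map
      ((Scheme.Modules.pullbackPushforwardAdjunction f).unit.app M) ≫ (pushRestrict f U).app _) := by
    rw [restrict_unit_comp]; infer_instance
  exact IsIso.of_isIso_comp_right _ ((pushRestrict f U).app _)

lemma restrict_counit_eq (f : X ⟶ S) (U : S.Opens) (N : X.Modules) :
    (pullRestrictIso f U).hom.app ((Scheme.Modules.pushforward f).obj N) ≫
        (Scheme.Modules.restrictFunctor (f ⁻¹ᵁ U).ι).map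
          ((Scheme.Modules.pullbackPushforwardAdjunction f).counit.app N) =
      (Scheme.Modules.pullback (f ∣_ U)).map ((pushRestrict f U).app N) ≫
        (Scheme.Modules.pullbackPushforwardAdjunction (f ∣_ U)).counit.app _ := by
  refine ((Scheme.Modules.pullbackPushforwardAdjunction (f ∣_ U)).homEquiv _ _).injective ?_
  refine Eq.trans ?_ (((Scheme.Modules.pullbackPushforwardAdjunction (f ∣_ U)).homEquiv _ _).apply_symm_apply
      ((pushRestrict f U).app N)).symm
  have h1 := (pushRestrict f U).naturality ((Scheme.Modules.pullbackPushforwardAdjunction f).counit.app N)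
  simp only [Functor.comp_map] at h1
  rw [Adjunction.homEquiv_unit, Functor.map_comp, ← Category.assoc]
  refine (congrArg (· ≫ _) (restrict_unit_comp f U _).symm).trans ?_
  rw [Category.assoc]
  refine (congrArg (_ ≫ ·) h1.symm).trans ?_
  rw [← Category.assoc, ← Functor.map_comp, Adjunction.right_triangle_components]
  exact (congrArg (· ≫ _) ((Scheme.Modules.restrictFunctor U.ι).map_id _)).trans (Category.id_comp _)

lemma isIso_restrict_counit (f : X ⟶ S) (U : S.Opens) (N : X.Modules)
    (h : IsIso ((Scheme.Modules.pullbackPushforwardAdjunction (f ∣_ U)).counit.app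
      ((Scheme.Modules.restrictFunctor (f ⁻¹ᵁ U).ι).obj N))) :
    IsIso ((Scheme.Modules.restrictFunctor (f ⁻¹ᵁ U).ι).map
      ((Scheme.Modules.pullbackPushforwardAdjunction f).counit.app N)) := by
  have : IsIso ((pullRestrictIso f U).hom.app ((Scheme.Modules.pushforward f).obj N) ≫
      (Scheme.Modules.restrictFunctor (f ⁻¹ᵁ U).ι).map
        ((Scheme.Modules.pullbackPushforwardAdjunction f).counit.app N)) := by
    rw [restrict_counit_eq]; infer_instance
  exact IsIso.of_isIso_comp_left ((pullRestrictIso f U).hom.app _) _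

lemma app_morphismRestrict_bijective (f : X ⟶ S) (hf : ∀ U : S.Opens, Function.Bijective (f.app U))
    (U : S.Opens) (V : U.toScheme.Opens) : Function.Bijective ((f ∣_ U).app V) := by
  have : IsIso (f.app (U.ι ''ᵁ V)) := (ConcreteCategory.isIso_iff_bijective _).mpr (hf _)
  have heq := morphismRestrict_app f U V
  have h2 : IsIso (X.presheaf.map (eqToHom (image_morphismRestrict_preimage f U V)).op) := inferInstance
  have h3 : IsIso (f.app (U.ι ''ᵁ V) ≫ _) := IsIso.comp_isIso' this h2
  rw [← ConcreteCategory.isIso_iff_bijective]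
  exact heq ▸ h3

/-- The unit `M ⟶ f_* f^* M` is an isomorphism for finite locally free `M` when `O_S = f_* O_X`. -/
lemma isIso_unit_of_isFinLocFree (f : X ⟶ S) (hf : ∀ U : S.Opens, Function.Bijective (f.app U))
    (M : S.Modules) (hM : FlatMod.IsFinLocFree M) :
    IsIso ((Scheme.Modules.pullbackPushforwardAdjunction f).unit.app M) := by
  refine isIso_of_locally _ fun s => ?_
  obtain ⟨U, n, hs, ⟨e⟩⟩ := hM s
  refine ⟨U, hs, isIso_restrict_unit f U M ?_⟩
  exact (NatTrans.isIso_app_iff_of_iso _ e).mpr
    (isIso_unit_freeMod (f ∣_ U) (app_morphismRestrict_bijective f hf U) n)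

lemma isFinLocFree_of_isInvertible {M : S.Modules} (hM : PicF.IsInvertible M) : FlatMod.IsFinLocFree M :=
  fun s => by
    obtain ⟨U, hs, ⟨e⟩⟩ := hM s
    exact ⟨U, 1, hs, ⟨e ≪≫ (coproductUniqueIso fun _ : Fin 1 => Coh.structureModule (↑U)).symm⟩⟩

end Groth.Agent.H23.PullPush

namespace Groth.Agent.H23.PullPush

open Groth.Agent.H23.ModLoc

variable {X S : Scheme.{u}}

lemma isIso_counit_pullback_of_isFinLocFree (f : X ⟶ S) (hf : ∀ U : S.Opens, Function.Bijective (f.app U))
    (M : S.Modules) (hM : FlatMod.IsFinLocFree M) :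
    IsIso ((Scheme.Modules.pullbackPushforwardAdjunction f).counit.app ((Scheme.Modules.pullback f).obj M)) := by
  have := isIso_unit_of_isFinLocFree f hf M hM
  have h := (Scheme.Modules.pullbackPushforwardAdjunction f).left_triangle_components M
  have : IsIso ((Scheme.Modules.pullback f).map ((Scheme.Modules.pullbackPushforwardAdjunction f).unit.app M) ≫
      (Scheme.Modules.pullbackPushforwardAdjunction f).counit.app _) := by rw [h]; infer_instance
  exact IsIso.of_isIso_comp_left ((Scheme.Modules.pullback f).map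
    ((Scheme.Modules.pullbackPushforwardAdjunction f).unit.app M)) _

lemma isFinLocFree_of_iso {M N : S.Modules} (e : M ≅ N) (hM : FlatMod.IsFinLocFree M) :
    FlatMod.IsFinLocFree N := fun s => by
  obtain ⟨U, n, hs, ⟨ε⟩⟩ := hM s
  exact ⟨U, n, hs, ⟨(Scheme.Modules.restrictFunctor U.ι).mapIso e.symm ≪≫ ε⟩⟩

/-- `O_S ≅ f_* O_X`. -/
noncomputable def structureModuleIsoPush (f : X ⟶ S) (hf : ∀ U : S.Opens, Function.Bijective (f.app U)) :
    Coh.structureModule S ≅ (Scheme.Modules.pushforward f).obj (Coh.structureModule X) :=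
  let u : Coh.structureModule S ⟶ (Scheme.Modules.pushforward f).obj (Coh.structureModule X) :=
    SheafOfModules.unitToPushforwardObjUnit f.toRingCatSheafHom
  have hu : IsIso u := Scheme.Modules.Hom.isIso_iff_isIso_app.mpr fun U =>
    (ConcreteCategory.isIso_iff_bijective _).mpr (hf U)
  @asIso _ _ _ _ u hu

lemma isIso_counit_structureModule (f : X ⟶ S) (hf : ∀ U : S.Opens, Function.Bijective (f.app U)) :
    IsIso ((Scheme.Modules.pullbackPushforwardAdjunction f).counit.app (Coh.structureModule X)) := by
  let e : (Scheme.Modules.pullback f).obj (Coh.structureModule S) ⟶ Coh.structureModule X :=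
    SheafOfModules.pullbackObjUnitToUnit f.toRingCatSheafHom
  have : IsIso e := inferInstanceAs (IsIso (SheafOfModules.pullbackObjUnitToUnit f.toRingCatSheafHom))
  have hO : FlatMod.IsFinLocFree (Coh.structureModule S) := isFinLocFree_of_isInvertible fun s =>
    ⟨⊤, trivial, ⟨Scheme.Modules.restrictUnitIso _⟩⟩
  exact (NatTrans.isIso_app_iff_of_iso _ (asIso e)).mp (isIso_counit_pullback_of_isFinLocFree f hf _ hO)

end Groth.Agent.H23.PullPush
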