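import Groth.Agent.H23.PicInv
import Groth.Agent.PicClLib.Basic
import Groth.Agent.ModTensor.Assoc
import Groth.Agent.KFlatLib.Scheme.QCohTensor
import Groth.Agent.KFlatLib.Scheme.PullTensorCx
import Groth.Prelude.Def_PicGrp
import Groth.Prelude.Def_PicGrp2

/-!
Classes of modules form a commutative monoid under the tensor product; the invertible ones are its units.
-/

universe u

open CategoryTheory CategoryTheory.Limits AlgebraicGeometry TopologicalSpace Opposite MonoidalCategory

namespace Groth.Agent.H23.PicMul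

variable {X Y : Scheme.{u}}

theorem assoc (A B C : X.Modules) :
    Nonempty (CohB1.tensorMod (CohB1.tensorMod A B) C ≅ CohB1.tensorMod A (CohB1.tensorMod B C)) :=
  ⟨(((Groth.Agent.ModTensor.tensorAssoc X.sheaf).app A).app B).app C⟩

theorem comm (A B : X.Modules) : Nonempty (CohB1.tensorMod A B ≅ CohB1.tensorMod B A) :=
  ⟨(CohB1.sheafifyMod X).mapIso
    (show (CohB1.tensorPre A B : X.PresheafOfModules) ≅ CohB1.tensorPre B A from
      (β_ (CohB1.toPMod A) (CohB1.toPMod B)))⟩

theorem unit (A : X.Modules) : Nonempty (CohB1.tensorMod A (Coh.structureModule X) ≅ A) :=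
  ⟨Groth.Agent.KFlatLib.tensorUnitIso A⟩

theorem pull (f : Y ⟶ X) (A B : X.Modules) :
    Nonempty ((Scheme.Modules.pullback f).obj (CohB1.tensorMod A B) ≅
      CohB1.tensorMod ((Scheme.Modules.pullback f).obj A) ((Scheme.Modules.pullback f).obj B)) :=
  ⟨((Groth.Agent.KFlatLib.pullTensorBiIso f).app A).app B⟩

theorem isInvertible_of_iso {L L' : X.Modules} (e : L ≅ L') (h : PicF.IsInvertible L) :
    PicF.IsInvertible L' := fun x => by
  obtain ⟨U, hx, ⟨φ⟩⟩ := h x
  exact ⟨U, hx, ⟨((Scheme.Modules.restrictFunctor U.ι).mapIso e).symm ≪≫ φ⟩⟩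

theorem isInvertible_tensor {L M : X.Modules} (hL : PicF.IsInvertible L) (hM : PicF.IsInvertible M) :
    PicF.IsInvertible (CohB1.tensorMod L M) := fun x => by
  obtain ⟨U, hU, e, he⟩ := InvX.exists_frame hL x
  obtain ⟨V, hV, e', he'⟩ := InvX.exists_frame hM x
  obtain ⟨φ⟩ := InvUfdLib.nonempty_iso_restrict_of_frame (he.res (inf_le_left : U ⊓ V ≤ U))
  obtain ⟨ψ⟩ := InvUfdLib.nonempty_iso_restrict_of_frame (he'.res (inf_le_right : U ⊓ V ≤ V))
  let R := Scheme.Modules.restrictFunctorIsoPullback (U ⊓ V : X.Opens).ι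
  obtain ⟨p⟩ := pull (U ⊓ V : X.Opens).ι L M
  obtain ⟨u₀⟩ := unit (Coh.structureModule (U ⊓ V : X.Opens).toScheme)
  exact ⟨U ⊓ V, ⟨hU, hV⟩, ⟨R.app _ ≪≫ p ≪≫
    PicGrp.tensorModIso ((R.app L).symm ≪≫ φ) ((R.app M).symm ≪≫ ψ) ≪≫ u₀⟩⟩

theorem isInvertible_tensorPow {L : X.Modules} (hL : PicF.IsInvertible L) (n : ℕ) :
    PicF.IsInvertible (CohB1.tensorPow L n) := by
  induction n with
  | zero => exact PicLoc.isInvertible_structureModule X
  | succ n ih => exact isInvertible_tensor ih hL

/-- The monoid of classes. -/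
@[instance_reducible]
noncomputable def clMonoid (X : Scheme.{u}) : CommMonoid (PicF.Cl X) where
  mul := PicGrp.mulCl
  one := PicF.cl (Coh.structureModule X)
  mul_assoc a b c := by
    induction a using Quot.ind with | mk A =>
    induction b using Quot.ind with | mk B =>
    induction c using Quot.ind with | mk C =>
    exact (PicGrp.cl_eq_cl_iff _ _).2 (assoc A B C)
  mul_comm a b := by
    induction a using Quot.ind with | mk A =>
    induction b using Quot.ind with | mk B =>
    exact (PicGrp.cl_eq_cl_iff _ _).2 (comm A B)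
  one_mul a := by
    induction a using Quot.ind with | mk A =>
    exact (PicGrp.cl_eq_cl_iff _ _).2 ⟨(comm (Coh.structureModule X) A).some ≪≫ (unit A).some⟩
  mul_one a := by
    induction a using Quot.ind with | mk A =>
    exact (PicGrp.cl_eq_cl_iff _ _).2 (unit A)

attribute [scoped instance] clMonoid

theorem one_def : (1 : PicF.Cl X) = PicF.cl (Coh.structureModule X) := rfl

theorem cl_tensor (A B : X.Modules) :
    PicF.cl (CohB1.tensorMod A B) = PicF.cl A * PicF.cl B := rfl

theorem cl_eq_iff {A B : X.Modules} : PicF.cl A = PicF.cl B ↔ Nonempty (A ≅ B) :=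
  PicGrp.cl_eq_cl_iff A B

theorem cl_tensorPow (A : X.Modules) (n : ℕ) : PicF.cl (CohB1.tensorPow A n) = PicF.cl A ^ n := by
  induction n with
  | zero => rw [pow_zero]; rfl
  | succ n ih => rw [pow_succ, ← ih]; rfl

theorem isUnit_cl {L : X.Modules} (hL : PicF.IsInvertible L) : IsUnit (PicF.cl L) := by
  obtain ⟨D, -, e⟩ := PicInv.exists_inverse hL
  exact IsUnit.of_mul_eq_one (PicF.cl D) ((PicGrp.cl_eq_cl_iff _ _).2 e)

theorem isUnit_of_isInvertibleCl {c : PicF.Cl X} (hc : PicF.IsInvertibleCl c) : IsUnit c := by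
  obtain ⟨L, rfl, hL⟩ := hc
  exact isUnit_cl hL

theorem isInvertibleCl_mul {c d : PicF.Cl X} (hc : PicF.IsInvertibleCl c) (hd : PicF.IsInvertibleCl d) :
    PicF.IsInvertibleCl (c * d) := by
  obtain ⟨L, rfl, hL⟩ := hc
  obtain ⟨M, rfl, hM⟩ := hd
  exact ⟨_, rfl, isInvertible_tensor hL hM⟩

theorem pullCl_mul (f : Y ⟶ X) (c d : PicF.Cl X) :
    PicF.pullCl f (c * d) = PicF.pullCl f c * PicF.pullCl f d := by
  induction c using Quot.ind with | mk A =>
  induction d using Quot.ind with | mk B =>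
  exact (PicGrp.cl_eq_cl_iff _ _).2 (pull f A B)

theorem pullCl_one (f : Y ⟶ X) : PicF.pullCl f (1 : PicF.Cl X) = 1 :=
  (PicGrp.cl_eq_cl_iff _ _).2 (PicClLib.nonempty_pullback_structureModule f)

/-- Pullback of classes as a monoid homomorphism. -/
noncomputable def pullHom (f : Y ⟶ X) : PicF.Cl X →* PicF.Cl Y where
  toFun := PicF.pullCl f
  map_one' := pullCl_one f
  map_mul' := pullCl_mul f

theorem pullCl_pow (f : Y ⟶ X) (c : PicF.Cl X) (n : ℕ) : PicF.pullCl f (c ^ n) = PicF.pullCl f c ^ n :=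
  map_pow (pullHom f) c n

theorem pullMul (f : Y ⟶ X) : PicGrp.PullMul f := by
  intro a b
  intro _ _; exact pullCl_mul f a b

/-- The inverse of an invertible class, as an invertible class. -/
theorem exists_inv (a : PicLoc.PicSet X) : ∃ b : PicLoc.PicSet X, b.1 * a.1 = 1 := by
  obtain ⟨L, hL, rfl⟩ := PicGrp.exists_eq_cls a
  obtain ⟨D, hD, e⟩ := PicInv.exists_inverse hL
  exact ⟨⟨PicF.cl D, D, rfl, hD⟩, (mul_comm _ _).trans ((PicGrp.cl_eq_cl_iff _ _).2 e)⟩

/-- The group law on the Picard group exists. -/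
@[instance_reducible]
noncomputable def law (X : Scheme.{u}) : PicGrp.Law X where
  mul a b := ⟨a.1 * b.1, isInvertibleCl_mul a.2 b.2⟩
  one := PicLoc.unitPicSet X
  inv a := (exists_inv a).choose
  mul_assoc a b c := Subtype.ext (mul_assoc a.1 b.1 c.1)
  mul_comm a b := Subtype.ext (mul_comm a.1 b.1)
  one_mul a := Subtype.ext (one_mul a.1)
  mul_one a := Subtype.ext (mul_one a.1)
  inv_mul_cancel a := Subtype.ext (exists_inv a).choose_spec
  mul_val _ _ := rfl
  one_eq := rfl

/-- The Picard laws hold for all schemes. -/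
@[instance_reducible]
noncomputable def laws : PicGrp.Laws.{u} where
  law := law
  pullMul := pullMul

end Groth.Agent.H23.PicMul
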