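import Groth.Agent.H23.RigidApply
import Groth.Agent.Hensel.EtaleReduced
import Mathlib.AlgebraicGeometry.Morphisms.Smooth
import Mathlib.AlgebraicGeometry.Geometrically.Connected
import Mathlib.AlgebraicGeometry.Geometrically.Reduced
import Mathlib.FieldTheory.IsAlgClosed.AlgebraicClosure
import Mathlib.RingTheory.RingHom.StandardSmooth

/-!
Global functions of proper schemes over a field with geometrically connected and geometrically reduced
total space are constant; smooth schemes over fields are reduced.
-/

universe u

open CategoryTheory Limits AlgebraicGeometry TopologicalSpace Polynomial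

namespace Groth.Agent.H23.RigidGamma

/-- A connected reduced integral algebra over an algebraically closed field is trivial. -/
lemma surjective_of_isIntegral {K B : Type*} [Field K] [IsAlgClosed K] [CommRing B] [IsReduced B] [Nontrivial B]
    [Algebra K B] [Algebra.IsIntegral K B] (hid : ∀ e : B, IsIdempotentElem e → e = 0 ∨ e = 1) :
    Function.Surjective (algebraMap K B) := by
  intro x
  have hx : IsIntegral K x := Algebra.IsIntegral.isIntegral x
  obtain ⟨a, ha⟩ := IsAlgClosed.exists_root (minpoly K x) (minpoly.degree_pos hx).ne'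
  obtain ⟨q, hq⟩ := Polynomial.dvd_iff_isRoot.mpr ha
  have hq0 : q ≠ 0 := fun h => minpoly.ne_zero hx (by rw [hq, h, mul_zero])
  have hqm : q.Monic := (monic_X_sub_C a).of_mul_monic_left (hq ▸ minpoly.monic hx)
  have hqdeg : q.degree < (minpoly K x).degree := by
    rw [hq, degree_mul, degree_X_sub_C, degree_eq_natDegree hq0]
    exact_mod_cast (by omega : q.natDegree < 1 + q.natDegree)
  have hxq : (x - algebraMap K B a) * aeval x q = 0 := by
    have := minpoly.aeval K x
    rw [hq, map_mul] at this
    simpa using this
  have hqx : aeval x q ≠ 0 := fun h => (minpoly.min K x hqm h).not_gt hqdeg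
  have hcop : IsCoprime (X - C a) q := by
    rw [(irreducible_X_sub_C a).coprime_iff_not_dvd]
    rintro ⟨r, hr⟩
    have hr0 : r ≠ 0 := fun h => hq0 (by rw [hr, h, mul_zero])
    have : IsNilpotent (aeval x q) := by
      refine ⟨2, ?_⟩
      rw [pow_two]
      nth_rewrite 1 [hr]
      rw [map_mul, mul_right_comm, map_sub, aeval_X, aeval_C, hxq, zero_mul]
    exact hqx this.eq_zero
  obtain ⟨u, v, huv⟩ := hcop
  have h1 : aeval x u * (x - algebraMap K B a) + aeval x v * aeval x q = 1 := by
    have := congrArg (aeval x) huv
    simpa using this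
  rcases hid (aeval x v * aeval x q) (show (_ : B) * _ = _ by
    linear_combination (aeval x v * aeval x q) * h1 - aeval x u * aeval x v * hxq) with he | he
  · exfalso
    apply hqx
    linear_combination aeval x u * hxq - aeval x q * h1 + aeval x q * he
  · refine ⟨a, ?_⟩
    linear_combination (x - algebraMap K B a) * he - aeval x v * hxq

/-- The only idempotent functions on a connected scheme are `0` and `1`. -/
lemma eq_zero_or_one_of_idem {W : Scheme.{u}} [ConnectedSpace W] [IsReduced W] (e : Γ(W, ⊤))
    (he : IsIdempotentElem e) : e = 0 ∨ e = 1 := by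
  have hd : W.basicOpen e ⊓ W.basicOpen (1 - e) = ⊥ := by
    rw [← Scheme.basicOpen_mul, mul_sub, mul_one, he, sub_self, Scheme.basicOpen_zero]
  have hu : W.basicOpen e ⊔ W.basicOpen (1 - e) = ⊤ := by
    refine eq_top_iff.mpr fun w _ => ?_
    by_contra hw
    simp only [Opens.mem_sup, Scheme.mem_basicOpen_top, not_or] at hw
    have hsum : W.presheaf.germ ⊤ w trivial e + W.presheaf.germ ⊤ w trivial (1 - e) = 1 := by
      rw [← map_add, add_sub_cancel, map_one]
    rcases IsLocalRing.isUnit_or_isUnit_of_add_one hsum with h | h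
    · exact hw.1 h
    · exact hw.2 h
  have hclop : IsClopen (W.basicOpen e : Set W) := by
    refine ⟨?_, (W.basicOpen e).isOpen⟩
    have : (W.basicOpen e : Set W) = ((W.basicOpen (1 - e) : W.Opens) : Set W)ᶜ := by
      ext w
      constructor
      · intro h h'
        exact (hd ▸ ⟨h, h'⟩ : w ∈ (⊥ : W.Opens))
      · intro h
        rcases (hu.ge (show w ∈ (⊤ : W.Opens) from trivial)) with h1 | h1
        · exact h1
        · exact absurd h1 h
    rw [this]
    exact (W.basicOpen (1 - e)).isOpen.isClosed_compl
  rcases isClopen_iff.mp hclop with h | h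
  · refine Or.inl ((basicOpen_eq_bot_iff e).mp ?_)
    ext1; exact h
  · refine Or.inr (sub_eq_zero.mp ((basicOpen_eq_bot_iff (1 - e)).mp ?_)).symm
    have htop : W.basicOpen e = ⊤ := by ext1; exact h
    rwa [htop, top_inf_eq] at hd

/-- Global functions of a proper `v` whose base change to an algebraic closure is connected and reduced. -/
lemma bijective_appTop_of_algClosure {k : Type u} [Field k] {V : Scheme.{u}}
    (v : V ⟶ Spec (CommRingCat.of k)) [IsProper v]
    [ConnectedSpace ↥(pullback v (Spec.map (CommRingCat.ofHom (algebraMap k (AlgebraicClosure k)))))]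
    [IsReduced (pullback v (Spec.map (CommRingCat.ofHom (algebraMap k (AlgebraicClosure k)))))] :
    Function.Bijective v.appTop := by
  let kb := AlgebraicClosure k
  let t := Spec.map (CommRingCat.ofHom (algebraMap k kb))
  let W := pullback v t
  let w := pullback.snd v t
  have : CompactSpace V := (quasiCompact_iff_compactSpace v).mp inferInstance
  have : QuasiSeparatedSpace V := (quasiSeparated_iff_quasiSeparatedSpace v).mp inferInstance
  have : Flat t := by
    rw [HasRingHomProperty.Spec_iff (P := @Flat)]
    show (algebraMap k kb).Flat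
    rw [RingHom.flat_algebraMap_iff]
    infer_instance
  let ψ : CommRingCat.of kb ⟶ Γ(W, ⊤) := (Scheme.ΓSpecIso _).inv ≫ w.appTop
  have hψ : Function.Bijective ψ.hom := by
    have : ψ.hom.IsIntegral := (RingHom.isIntegral_of_surjective _
      (ConcreteCategory.bijective_of_isIso (Scheme.ΓSpecIso (CommRingCat.of kb)).inv).2).trans _ _
      (isIntegral_appTop_of_universallyClosed w)
    algebraize [ψ.hom]
    have hne : Nonempty W := ConnectedSpace.toNonempty
    have : Nonempty (⊤ : W.Opens) := ⟨⟨hne.some, trivial⟩⟩
    have : Nontrivial Γ(W, ⊤) := inferInstance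
    exact ⟨ψ.hom.injective, surjective_of_isIntegral eq_zero_or_one_of_idem⟩
  let φ : CommRingCat.of k ⟶ Γ(V, ⊤) := (Scheme.ΓSpecIso _).inv ≫ v.appTop
  have hφ : v.appTop = (Scheme.ΓSpecIso _).hom ≫ φ := by simp [φ]
  have hiso := isIso_pushoutSection_of_isQuasiSeparated_of_flat_right (IsPullback.of_hasPullback v t)
    (US := ⊤) (UT := ⊤) (UX := ⊤) (UY := ⊤) le_top le_top (by simp) (isAffineOpen_top _) (isAffineOpen_top _)
    isCompact_univ isQuasiSeparated_univ
  rw [isIso_pushoutSection_iff] at hiso
  have hpo' : IsPushout φ (CommRingCat.ofHom (algebraMap k kb)) ((pullback.fst v t).appLE ⊤ ⊤ (by simp))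
      ((Scheme.ΓSpecIso (CommRingCat.of kb)).inv ≫ w.appLE ⊤ ⊤ (by simp)) :=
    hiso.of_iso (Scheme.ΓSpecIso _) (Iso.refl _) (Scheme.ΓSpecIso _) (Iso.refl _)
      (by simp [Scheme.Hom.appLE, hφ])
      (by rw [show t.appLE ⊤ ⊤ le_top = t.appTop by simp [Scheme.Hom.appLE]]
          exact Scheme.ΓSpecIso_naturality _)
      (by simp) (by simp [w])
  algebraize [φ.hom]
  have hpo : IsPushout (CommRingCat.ofHom (algebraMap k kb)) φ
      (CommRingCat.ofHom Algebra.TensorProduct.includeLeftRingHom :
        CommRingCat.of kb ⟶ CommRingCat.of (TensorProduct k kb Γ(V, ⊤)))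
      (CommRingCat.ofHom Algebra.TensorProduct.includeRight.toRingHom) :=
    CommRingCat.isPushout_tensorProduct k kb Γ(V, ⊤)
  have hbij : Function.Bijective (Algebra.linearMap kb (TensorProduct k kb Γ(V, ⊤))) := by
    let ε := hpo.isoIsPushout _ _ hpo'.flip
    have h := hpo.inl_isoIsPushout_hom _ _ hpo'.flip
    have hψ' : IsIso ψ := (ConcreteCategory.isIso_iff_bijective _).mpr hψ
    have h3 : IsIso (CommRingCat.ofHom Algebra.TensorProduct.includeLeftRingHom :
        CommRingCat.of kb ⟶ CommRingCat.of (TensorProduct k kb Γ(V, ⊤))) := by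
      have hh : IsIso ((Scheme.ΓSpecIso (CommRingCat.of kb)).inv ≫ w.appLE ⊤ ⊤ (by simp)) := by
        rw [show w.appLE ⊤ ⊤ (by simp) = w.appTop by simp [Scheme.Hom.appLE]]
        exact hψ'
      rw [← h] at hh
      exact IsIso.of_isIso_comp_right _ (hpo.isoIsPushout _ _ hpo'.flip).hom
    exact ConcreteCategory.bijective_of_isIso (CommRingCat.ofHom Algebra.TensorProduct.includeLeftRingHom :
        CommRingCat.of kb ⟶ CommRingCat.of (TensorProduct k kb Γ(V, ⊤)))
  have hL : Module.finrank k Γ(V, ⊤) = 1 := by
    rw [← Module.finrank_baseChange (R := kb), ← (LinearEquiv.ofBijective _ hbij).finrank_eq, Module.finrank_self]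
  have : Nontrivial Γ(V, ⊤) := Module.nontrivial_of_finrank_eq_succ (n := 0) hL
  have hbot := (Subalgebra.bot_eq_top_iff_finrank_eq_one (F := k) (E := Γ(V, ⊤))).mpr hL
  have hφb : Function.Bijective φ.hom := ⟨φ.hom.injective, fun x => by
    obtain ⟨c, hc⟩ := Algebra.mem_bot.mp (hbot.symm ▸ Algebra.mem_top : x ∈ (⊥ : Subalgebra k Γ(V, ⊤)))
    exact ⟨c, hc⟩⟩
  rw [hφ]
  exact hφb.comp (ConcreteCategory.bijective_of_isIso (Scheme.ΓSpecIso (CommRingCat.of k)).hom)

/-- A scheme smooth over a field is reduced. -/
lemma isReduced_of_smooth {k : Type u} [Field k] {X : Scheme.{u}} (f : X ⟶ Spec (CommRingCat.of k))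
    [Smooth f] : IsReduced X := by
  choose U hU V hV hxV hVU hstd using fun x : X => Smooth.exists_isStandardSmooth f x
  refine @IsReduced.of_openCover X (X.openCoverOfIsOpenCover V
    (.mk (eq_top_iff.mpr fun x _ => Opens.mem_iSup.mpr ⟨x, hxV x⟩))) fun x => ?_
  have : IsAffine (V x) := hV x
  obtain ⟨n, g, hg, hget⟩ := (hstd x).exists_etale_mvPolynomial
  have hred : _root_.IsReduced Γ(Spec (CommRingCat.of k), U x) := by
    have : IsReduced (Spec (CommRingCat.of k)) := inferInstance
    infer_instance
  have : _root_.IsReduced (MvPolynomial (Fin n) Γ(Spec (CommRingCat.of k), U x)) := inferInstance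
  algebraize [g]
  have : Algebra.Etale (MvPolynomial (Fin n) Γ(Spec (CommRingCat.of k), U x)) Γ(X, V x) := hget
  have : _root_.IsReduced Γ(X, V x) := Groth.Agent.Hensel.isReduced_of_etale (MvPolynomial (Fin n) Γ(Spec (CommRingCat.of k), U x)) Γ(X, V x)
  have : _root_.IsReduced Γ((V x).toScheme, ⊤) :=
    isReduced_of_injective (V x).topIso.hom.hom (ConcreteCategory.bijective_of_isIso (V x).topIso.hom).1
  have : AlgebraicGeometry.IsReduced (Spec Γ((V x).toScheme, ⊤)) := (affine_isReduced_iff _).mpr this
  exact isReduced_of_isOpenImmersion (V x).toScheme.isoSpec.hom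

/-- Smooth morphisms are geometrically reduced. -/
lemma geometricallyReduced_of_smooth {X S : Scheme.{u}} (f : X ⟶ S) [Smooth f] : GeometricallyReduced f := by
  rw [GeometricallyReduced.eq_geometrically]
  intro K _ y Z fst snd h
  have : Smooth snd := MorphismProperty.of_isPullback h inferInstance
  exact isReduced_of_smooth snd

/-- Fibres of a proper geometrically connected and reduced morphism have constant functions. -/
lemma constFibres {X S : Scheme.{u}} (p : X ⟶ S) [IsProper p] [GeometricallyConnected p]
    [GeometricallyReduced p] : RigidApply.ConstFibres p := fun s => by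
  have : ConnectedSpace ↥(pullback (pullback.snd p (S.fromSpecResidueField s))
      (Spec.map (CommRingCat.ofHom (algebraMap (S.residueField s) (AlgebraicClosure (S.residueField s)))))) :=
    GeometricallyConnected.geometrically_connectedSpace (f := pullback.snd p (S.fromSpecResidueField s))
      _ _ _ (.of_hasPullback _ _)
  have : IsReduced (pullback (pullback.snd p (S.fromSpecResidueField s))
      (Spec.map (CommRingCat.ofHom (algebraMap (S.residueField s) (AlgebraicClosure (S.residueField s)))))) :=
    GeometricallyReduced.geometrically_isReduced (f := pullback.snd p (S.fromSpecResidueField s))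
      _ _ _ (.of_hasPullback _ _)
  exact bijective_appTop_of_algClosure (k := S.residueField s) (pullback.snd p (S.fromSpecResidueField s))

/-- Proper smooth morphisms with connected geometric fibres have constant functions on fibres. -/
lemma constFibres_of_geomFibre {X S : Scheme.{u}} (p : X ⟶ S) [IsProper p] [Smooth p]
    (hc : ∀ s : S, ConnectedSpace ↥(pullback p
      (Spec.map (CommRingCat.ofHom (algebraMap (S.residueField s) (AlgebraicClosure (S.residueField s)))) ≫
        S.fromSpecResidueField s))) : RigidApply.ConstFibres p := fun s => by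
  let t := Spec.map (CommRingCat.ofHom (algebraMap (S.residueField s) (AlgebraicClosure (S.residueField s))))
  have := hc s
  let e := pullbackLeftPullbackSndIso p (S.fromSpecResidueField s) t
  have : ConnectedSpace ↥(pullback (pullback.snd p (S.fromSpecResidueField s)) t) :=
    e.hom.homeomorph.connectedSpace_iff.mpr inferInstance
  have : IsReduced (pullback (pullback.snd p (S.fromSpecResidueField s)) t) :=
    isReduced_of_smooth (k := AlgebraicClosure (S.residueField s)) (pullback.snd _ t)
  exact bijective_appTop_of_algClosure (k := S.residueField s) (pullback.snd p (S.fromSpecResidueField s))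

end Groth.Agent.H23.RigidGamma
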