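import Groth.Agent.H23.InfArtin
import Groth.Agent.H23.RigidGamma
import Groth.Agent.FBaseLib.Product
import Mathlib.AlgebraicGeometry.Morphisms.UniversallyOpen
import Mathlib.RingTheory.Jacobson.Artinian

/-!
The theorem of the cube over a field.
-/

universe u

open CategoryTheory Limits AlgebraicGeometry MonoidalCategory CartesianMonoidalCategory TopologicalSpace Opposite

namespace Groth.Agent.H23.CubeField

open TrivBasic InfArtin

variable {k : Type u} [Field k]

/-- A proper geometrically connected and reduced scheme has only constant functions. -/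
theorem bijective_appTop_of_connected (Y : Over (Spec (CommRingCat.of k))) [IsProper Y.hom]
    [GeometricallyReduced Y.hom] [GeometricallyConnected Y.hom] : Function.Bijective Y.hom.appTop := by
  have : ConnectedSpace ↥(pullback Y.hom (Spec.map (CommRingCat.ofHom (algebraMap k (AlgebraicClosure k))))) :=
    GeometricallyConnected.geometrically_connectedSpace (f := Y.hom) _ _ _ (.of_hasPullback _ _)
  have : IsReduced (pullback Y.hom (Spec.map (CommRingCat.ofHom (algebraMap k (AlgebraicClosure k))))) :=
    GeometricallyReduced.geometrically_isReduced (f := Y.hom) _ _ _ (.of_hasPullback _ _)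
  exact RigidGamma.bijective_appTop_of_algClosure Y.hom

/-- The product of two schemes with constant functions has constant functions. -/
theorem bijective_appTop_prod (X Y : Over (Spec (CommRingCat.of k))) [IsProper X.hom]
    (hX : Function.Bijective X.hom.appTop) (hY : Function.Bijective Y.hom.appTop) :
    Function.Bijective (X ⊗ Y).hom.appTop := by
  rw [show (X ⊗ Y).hom = pullback.snd X.hom Y.hom ≫ Y.hom from pullback.condition, Scheme.Hom.comp_appTop]
  exact (Rigid.bijective_app_snd_of_bijective X.hom Y.hom hX ⊤).comp hY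

variable (X Y Z : Over (Spec (CommRingCat.of k))) [IsProper X.hom] [IsProper Y.hom]
  (x₀ : 𝟙_ (Over (Spec (CommRingCat.of k))) ⟶ X) (y₀ : 𝟙_ (Over (Spec (CommRingCat.of k))) ⟶ Y)
  (z₀ : 𝟙_ (Over (Spec (CommRingCat.of k))) ⟶ Z)

/-- A module trivial on the three slices is trivial near the product slice. -/
theorem exists_frame_near [LocallyOfFiniteType Z.hom]
    (hX : Function.Bijective X.hom.appTop) (hY : Function.Bijective Y.hom.appTop)
    (L : ((X ⊗ Y) ⊗ Z).left.Modules) (hL : PicF.IsInvertible L)
    (hx : Triv ((Scheme.Modules.pullback (lift (toUnit Y ≫ x₀) (𝟙 Y) ▷ Z).left).obj L))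
    (hy : Triv ((Scheme.Modules.pullback (lift (𝟙 X) (toUnit X ≫ y₀) ▷ Z).left).obj L))
    (hz : Triv ((Scheme.Modules.pullback (lift (𝟙 (X ⊗ Y)) (toUnit (X ⊗ Y) ≫ z₀)).left).obj L)) :
    ∃ V : Z.left.Opens, z₀.left (IsLocalRing.closedPoint k) ∈ V ∧
      ∃ s : Γ(L, (snd (X ⊗ Y) Z).left ⁻¹ᵁ V), InvX.IsFrame s := by
  let P := X ⊗ Y
  haveI : IsLocallyNoetherian Z.left := LocallyOfFiniteType.isLocallyNoetherian Z.hom
  haveI : IsProper P.hom := by
    show IsProper (pullback.fst X.hom Y.hom ≫ X.hom)
    infer_instance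
  have hP := bijective_appTop_prod X Y hX hY
  let f := (snd P Z).left
  haveI : IsProper f := inferInstanceAs (IsProper (pullback.snd P.hom Z.hom))
  haveI : Flat f := inferInstanceAs (Flat (pullback.snd P.hom Z.hom))
  have hH0 : ∀ {S : Scheme.{u}} (g : S ⟶ Z.left), Function.Bijective (pullback.snd f g).appTop := by
    intro S g
    show Function.Bijective (pullback.snd (pullback.snd P.hom Z.hom) g).appTop
    rw [← pullbackLeftPullbackSndIso_hom_snd P.hom Z.hom g, Scheme.Hom.comp_appTop]
    exact (SeesawGlobal.bijective_appTop_iso (pullbackLeftPullbackSndIso P.hom Z.hom g)).comp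
      (Rigid.bijective_app_snd_of_bijective P.hom (g ≫ Z.hom) hP ⊤)
  -- triviality after a change of base, from triviality of the pullback along `P ◁ g`
  have htr : ∀ (S : Over (Spec (CommRingCat.of k))) (g : S ⟶ Z),
      Triv ((Scheme.Modules.pullback (P ◁ g).left).obj L) →
        Triv ((Scheme.Modules.pullback (pullback.fst f g.left)).obj L) := by
    intro S g h
    have hw : pullback.fst f g.left ≫ (fst P Z).left ≫ P.hom = pullback.snd f g.left ≫ S.hom := by
      rw [← Over.w g, ← Category.assoc (pullback.snd f g.left), ← pullback.condition, Category.assoc,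
        Over.w (fst P Z), Over.w (snd P Z)]
    refine SeesawGlobal.triv_of_factor
      (pullback.lift (pullback.fst f g.left ≫ (fst P Z).left) (pullback.snd f g.left)
        (by rw [Category.assoc]; exact hw) : pullback f g.left ⟶ (P ⊗ S).left) ?_ h
    apply pullback.hom_ext
    · show (_ ≫ (P ◁ g).left) ≫ (fst P Z).left = _
      rw [Category.assoc, ← Over.comp_left, whiskerLeft_fst]
      exact pullback.lift_fst _ _ _
    · show (_ ≫ (P ◁ g).left) ≫ (snd P Z).left = _
      rw [Category.assoc, ← Over.comp_left, whiskerLeft_snd, Over.comp_left, ← Category.assoc]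
      exact (congrArg (· ≫ g.left) (pullback.lift_snd _ _ _)).trans pullback.condition.symm
  -- the chart
  let z := z₀.left (IsLocalRing.closedPoint k)
  obtain ⟨A, _, _, g, _, x, hgx⟩ := SeesawGlobal.exists_chart z
  obtain ⟨β, hβ⟩ := Spec.map_surjective (g ≫ Z.hom)
  letI : Algebra k A := β.hom.toAlgebra
  let gO : spOver (k := k) A ⟶ Z := Over.homMk g (by exact hβ.symm)
  haveI : Algebra.FiniteType k A := by
    have h : LocallyOfFiniteType (Spec.map β) := hβ ▸ inferInstance
    exact (HasRingHomProperty.Spec_iff (P := @LocallyOfFiniteType)).1 h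
  -- the rational point of the chart
  have hr : Set.range z₀.left ⊆ Set.range g := by
    rintro _ ⟨a, rfl⟩
    haveI : Subsingleton ↥(𝟙_ (Over (Spec (CommRingCat.of k)))).left :=
      inferInstanceAs (Subsingleton (PrimeSpectrum k))
    exact ⟨x, hgx.trans (congrArg z₀.left (Subsingleton.elim _ _))⟩
  obtain ⟨χ, hχ⟩ := Spec.map_surjective (IsOpenImmersion.lift g z₀.left hr : Spec (CommRingCat.of k) ⟶ Spec (CommRingCat.of A))
  have hχg : Spec.map χ ≫ g = z₀.left := by rw [hχ]; exact IsOpenImmersion.lift_fac g z₀.left hr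
  have hβχ : β ≫ χ = 𝟙 _ := by
    refine Spec.map_injective ?_
    rw [Spec.map_comp, hβ, Spec.map_id, ← Category.assoc, hχg]
    exact Over.w z₀
  let ε₀ : A →ₐ[k] k := { χ.hom with commutes' := fun c => congr($hβχ c) }
  have hxker : x.asIdeal = RingHom.ker χ.hom := by
    have h1 : Spec.map χ (IsLocalRing.closedPoint k) = x :=
      g.isOpenEmbedding.injective (by rw [← Scheme.Hom.comp_apply, hχg, hgx])
    rw [← h1]
    show Ideal.comap χ.hom (IsLocalRing.closedPoint k).asIdeal = _
    rw [show (IsLocalRing.closedPoint k).asIdeal = ⊥ from IsLocalRing.maximalIdeal_eq_bot]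
    rfl
  haveI hmax : x.asIdeal.IsMaximal := by
    rw [hxker]
    exact RingHom.ker_isMaximal_of_surjective χ.hom fun c => ⟨β c, congr($hβχ c)⟩
  have hthick : ∀ n : ℕ, Triv ((Scheme.Modules.pullback (pullback.fst f
      (Seesaw.specAlg A (SeesawMod.Thick x.asIdeal (n + 1)) ≫ g))).obj L) := by
    intro n
    let B := SeesawMod.Thick x.asIdeal (n + 1)
    let π := IsScalarTower.toAlgHom k A B
    let eB := IsLocalization.AtPrime.equivQuotMaximalIdealPow x.asIdeal (Localization.AtPrime x.asIdeal) (n + 1)
    have hπ : Function.Surjective π := fun b => by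
      obtain ⟨a, ha⟩ := Ideal.Quotient.mk_surjective (eB.symm b)
      refine ⟨a, ?_⟩
      show algebraMap A B a = b
      rw [← eB.apply_symm_apply b, ← ha, ← eB.commutes]
      rfl
    haveI : Algebra.FiniteType k B := Algebra.FiniteType.of_surjective π hπ
    haveI : Nontrivial B := Ideal.Quotient.nontrivial_iff.2 fun h =>
      (IsLocalRing.maximalIdeal.isMaximal (Localization.AtPrime x.asIdeal)).ne_top (top_le_iff.1 (h.ge.trans (Ideal.pow_le_self (Nat.succ_ne_zero n))))
    haveI : IsLocalRing B := IsLocalRing.of_surjective' (Ideal.Quotient.mk _) Ideal.Quotient.mk_surjective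
    have hnil : ∀ b ∈ x.asIdeal, IsNilpotent (π b) := fun b hb => ⟨n + 1, by
      have h0 : Ideal.Quotient.mk (x.asIdeal ^ (n + 1)) b ^ (n + 1) = 0 := by
        rw [← map_pow, Ideal.Quotient.eq_zero_iff_mem]
        exact Ideal.pow_mem_pow hb _
      show algebraMap A B b ^ (n + 1) = 0
      rw [← eB.commutes, Ideal.Quotient.algebraMap_eq, ← map_pow, h0, map_zero]⟩
    haveI : Module.Finite k B := by
      rw [Module.finite_iff_krullDimLE_zero]
      refine Ring.KrullDimLE.mk₀ fun I hI => ?_
      have h1 : I.comap π.toRingHom = x.asIdeal := by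
        haveI := hI
        refine (hmax.eq_of_le (Ideal.IsPrime.ne_top inferInstance) fun b hb => ?_).symm
        obtain ⟨m, hm⟩ := hnil b hb
        exact hI.mem_of_pow_mem m (show π b ^ m ∈ I from hm ▸ zero_mem I)
      rw [← Ideal.map_comap_of_surjective π.toRingHom hπ I, h1]
      refine Ideal.IsMaximal.map_of_surjective_of_ker_le hπ fun b hb => ?_
      have hne : I.comap π.toRingHom ≠ ⊤ := Ideal.comap_ne_top _ hI.ne_top
      rw [← h1, Ideal.mem_comap, show π.toRingHom b = 0 from hb]
      exact zero_mem I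
    have hx0 : ∀ a ∈ x.asIdeal, π a ∈ IsLocalRing.maximalIdeal B := fun a ha =>
      nilradical_le_prime (IsLocalRing.maximalIdeal B) (mem_nilradical.2 (hnil a ha))
    have hsplit : ∀ a, a - algebraMap k A (χ a) ∈ x.asIdeal := fun a => by
      rw [hxker, RingHom.mem_ker, map_sub, show χ.hom (algebraMap k A (χ a)) = χ a from congr($hβχ (χ a)), sub_self]
    have hres : Function.Surjective (algebraMap k (IsLocalRing.ResidueField B)) := fun y => by
      obtain ⟨b, rfl⟩ := IsLocalRing.residue_surjective y
      obtain ⟨a, rfl⟩ := hπ b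
      refine ⟨χ a, ?_⟩
      rw [IsScalarTower.algebraMap_apply k B (IsLocalRing.ResidueField B)]
      refine (Ideal.Quotient.eq.2 ?_).symm
      rw [← π.commutes, ← map_sub]
      exact hx0 _ (hsplit a)
    let S := spOver (k := k) B
    let gS : S ⟶ Z := spMap π ≫ gO
    have hgS : gS.left = Seesaw.specAlg A B ≫ g := rfl
    refine (TrivBasic.triv_congr ?_).1 (htr S gS ?_) <;> try rfl
    let M := (Scheme.Modules.pullback (P ◁ gS).left).obj L
    refine InfArtin.triv_artin hX hY x₀ y₀ B hres M (PicClLib.isInvertible_pullback _ hL) (fun ε => ?_) ?_ ?_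
    · refine (TrivBasic.triv_comp_iff _ _).2 ?_
      rw [← Over.comp_left, ← MonoidalCategory.whiskerLeft_comp]
      have hpt : spMap ε ≫ gS = toUnit _ ≫ z₀ := by
        apply Over.OverMorphism.ext
        show Spec.map _ ≫ Spec.map _ ≫ g = (toUnit (spOver (k := k) k)).left ≫ z₀.left
        have h1 : (toUnit (spOver (k := k) k)).left = 𝟙 _ := by
          show Spec.map (CommRingCat.ofHom (algebraMap k k)) = _
          rw [show CommRingCat.ofHom (algebraMap k k) = 𝟙 (CommRingCat.of k) from rfl, Spec.map_id]
          rfl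
        rw [h1, Category.id_comp, ← hχg, ← Category.assoc, ← Spec.map_comp]
        congr 2
        refine CommRingCat.hom_ext (RingHom.ext fun a => ?_)
        show ε (π a) = χ a
        have h2 : ε (π (a - algebraMap k A (χ a))) = 0 :=
          ((hnil _ (hsplit a)).map ε).eq_zero
        rw [map_sub, map_sub, AlgHom.commutes, AlgHom.commutes, sub_eq_zero] at h2
        simpa using h2
      rw [hpt]
      refine SeesawGlobal.triv_of_factor (fst P (spOver (k := k) k)).left ?_ hz
      rw [← Over.comp_left]
      refine congrArg CommaMorphism.left ?_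
      refine CartesianMonoidalCategory.hom_ext _ _ ?_ ?_
      · rw [Category.assoc, lift_fst, whiskerLeft_fst, Category.comp_id]
      · rw [Category.assoc, lift_snd, whiskerLeft_snd, ← Category.assoc, ← Category.assoc]
        congr 1
        exact toUnit_unique _ _
    · refine (TrivBasic.triv_comp_iff _ _).2 ?_
      rw [← Over.comp_left, ← whisker_exchange]
      exact SeesawGlobal.triv_of_factor (Y ◁ gS).left rfl hx
    · refine (TrivBasic.triv_comp_iff _ _).2 ?_
      rw [← Over.comp_left, ← whisker_exchange]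
      exact SeesawGlobal.triv_of_factor (X ◁ gS).left rfl hy
  have h0F : SeesawGlobal.FieldH0 f (g x) := fun K _ k' _ => hH0 k'
  have hTF : SeesawGlobal.FieldTriv f L (g x) := by
    rw [hgx]
    intro K _ k' hk'
    obtain ⟨ψ, hψ⟩ := Spec.map_surjective (k' ≫ Z.hom)
    letI : Algebra k K := ψ.hom.toAlgebra
    let gK : spOver (k := k) K ⟶ Z := Over.homMk k' (by exact hψ.symm)
    refine htr _ gK ?_
    -- the point is the rational point
    have hkr : Set.range k' ⊆ Set.range g := by
      rintro _ ⟨a, rfl⟩
      rw [Subsingleton.elim a (IsLocalRing.closedPoint K), hk']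
      exact ⟨x, hgx⟩
    obtain ⟨α, hα⟩ := Spec.map_surjective (IsOpenImmersion.lift g k' hkr : Spec (CommRingCat.of K) ⟶ Spec (CommRingCat.of A))
    have hαg : Spec.map α ≫ g = k' := by rw [hα]; exact IsOpenImmersion.lift_fac g k' hkr
    have hαβ : β ≫ α = ψ := by
      refine Spec.map_injective ?_
      rw [Spec.map_comp, hβ, hψ, ← Category.assoc, hαg]
    have hαx : ∀ a ∈ x.asIdeal, α a = 0 := fun a ha => by
      have h1 : Spec.map α (IsLocalRing.closedPoint K) = x :=
        g.isOpenEmbedding.injective (by rw [← Scheme.Hom.comp_apply, hαg, hk', hgx])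
      rw [← h1] at ha
      have h2 : α.hom a ∈ (IsLocalRing.closedPoint K).asIdeal := ha
      rwa [show (IsLocalRing.closedPoint K).asIdeal = ⊥ from IsLocalRing.maximalIdeal_eq_bot] at h2
    have hpt : gK = toUnit _ ≫ z₀ := by
      apply Over.OverMorphism.ext
      show k' = (toUnit (spOver (k := k) K)).left ≫ z₀.left
      have h1 : (toUnit (spOver (k := k) K)).left = Spec.map ψ := rfl
      rw [h1, ← hχg, ← hαg, ← Category.assoc, ← Spec.map_comp]
      congr 2
      refine CommRingCat.hom_ext (RingHom.ext fun a => ?_)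
      have hm : a - β (χ a) ∈ x.asIdeal := by
        rw [hxker, RingHom.mem_ker, map_sub, show χ.hom (β (χ a)) = χ a from congr($hβχ (χ a)), sub_self]
      have h2 := hαx _ hm
      rw [map_sub, sub_eq_zero] at h2
      show α.hom a = ψ.hom (χ.hom a)
      rw [← hαβ]
      exact h2
    rw [hpt]
    refine SeesawGlobal.triv_of_factor (fst P (spOver (k := k) K)).left ?_ hz
    rw [← Over.comp_left]
    refine congrArg CommaMorphism.left ?_
    refine CartesianMonoidalCategory.hom_ext _ _ ?_ ?_
    · rw [Category.assoc, lift_fst, whiskerLeft_fst, Category.comp_id]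
    · rw [Category.assoc, lift_snd, whiskerLeft_snd, ← Category.assoc, ← Category.assoc]
      congr 1
      exact toUnit_unique _ _
  obtain ⟨V, hzV, hV⟩ := SeesawGlobal.exists_frame_of_thick f hL g x h0F hTF fun n => by
    refine ⟨?_, (hH0 _).1⟩
    refine SeesawGlobal.triv_pullback_of_factor
      (Spec.map (CommRingCat.ofHom (Ideal.Quotient.factor
        (Ideal.pow_le_pow_right (Nat.le_succ n) :
          IsLocalRing.maximalIdeal (Localization.AtPrime x.asIdeal) ^ (n + 1) ≤
            IsLocalRing.maximalIdeal (Localization.AtPrime x.asIdeal) ^ n)))) ?_ (hthick n)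
    show _ ≫ Spec.map _ ≫ g = Spec.map _ ≫ g
    rw [← Category.assoc, ← Spec.map_comp]
    rfl
  exact ⟨V, show z ∈ V from hgx ▸ hzV, hV⟩

/-- The theorem of the cube over a field. -/
theorem cube [GeometricallyIntegral X.hom] [GeometricallyReduced Y.hom] [GeometricallyConnected Y.hom]
    [LocallyOfFiniteType Z.hom] [GeometricallyIntegral Z.hom]
    (L : (X ⊗ Y ⊗ Z).left.Modules) (hL : PicF.IsInvertible L)
    (hx : Triv ((Scheme.Modules.pullback (lift (toUnit (Y ⊗ Z) ≫ x₀) (𝟙 (Y ⊗ Z))).left).obj L))
    (hy : Triv ((Scheme.Modules.pullback (lift (fst X Z) (lift (toUnit (X ⊗ Z) ≫ y₀) (snd X Z))).left).obj L))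
    (hz : Triv ((Scheme.Modules.pullback (lift (fst X Y) (lift (snd X Y) (toUnit (X ⊗ Y) ≫ z₀))).left).obj L)) :
    Triv L := by
  let α := (α_ X Y Z).hom
  let L' := (Scheme.Modules.pullback α.left).obj L
  have hX := Rigid.bijective_appTop X.hom
  have hY := bijective_appTop_of_connected Y
  obtain ⟨V, hzV, s, hs⟩ := exists_frame_near X Y Z x₀ y₀ z₀ hX hY L' (PicClLib.isInvertible_pullback _ hL)
    (by
      refine (TrivBasic.triv_comp_iff _ _).2 ?_
      rw [← Over.comp_left]
      refine (TrivBasic.triv_congr (congrArg CommaMorphism.left ?_)).1 hx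
      refine CartesianMonoidalCategory.hom_ext _ _ ?_ ?_
      · simp [α, comp_toUnit_assoc]
      · refine CartesianMonoidalCategory.hom_ext _ _ ?_ ?_ <;> simp [α, comp_toUnit_assoc])
    (by
      refine (TrivBasic.triv_comp_iff _ _).2 ?_
      rw [← Over.comp_left]
      refine (TrivBasic.triv_congr (congrArg CommaMorphism.left ?_)).1 hy
      refine CartesianMonoidalCategory.hom_ext _ _ ?_ ?_
      · simp [α, comp_toUnit_assoc]
      · refine CartesianMonoidalCategory.hom_ext _ _ ?_ ?_ <;> simp [α, comp_toUnit_assoc])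
    (by
      refine (TrivBasic.triv_comp_iff _ _).2 ?_
      rw [← Over.comp_left]
      refine (TrivBasic.triv_congr (congrArg CommaMorphism.left ?_)).1 hz
      refine CartesianMonoidalCategory.hom_ext _ _ ?_ ?_
      · simp [α, comp_toUnit_assoc]
      · refine CartesianMonoidalCategory.hom_ext _ _ ?_ ?_ <;> simp [α, comp_toUnit_assoc])
  let W := Y ⊗ Z
  let f := (snd X W).left
  haveI : IsProper f := inferInstanceAs (IsProper (pullback.snd X.hom W.hom))
  haveI : Flat f := inferInstanceAs (Flat (pullback.snd X.hom W.hom))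
  haveI : GeometricallyIntegral f := inferInstanceAs (GeometricallyIntegral (pullback.snd X.hom W.hom))
  haveI : LocallyOfFiniteType W.hom := by
    show LocallyOfFiniteType (pullback.fst Y.hom Z.hom ≫ Y.hom)
    infer_instance
  haveI : IsLocallyNoetherian W.left := LocallyOfFiniteType.isLocallyNoetherian W.hom
  haveI : IsIntegral Z.left := GeometricallyIntegral.isIntegral_of_subsingleton Z.hom
  haveI : IsReduced W.left := FBaseLib.isReduced_pullback Y.hom Z.hom
  let W₀ := (snd Y Z).left ⁻¹ᵁ V
  have hsub : (W₀ : Set W.left) ⊆ {w | SeesawGlobal.FieldTriv f L w} := by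
    intro w hw K _ k' hk'
    let j := pullback.fst f k' ≫ (α_ X Y Z).inv.left
    have hcomp : (α_ X Y Z).inv.left ≫ (snd (X ⊗ Y) Z).left = (snd X W).left ≫ (snd Y Z).left := by
      rw [← Over.comp_left, ← Over.comp_left, associator_inv_snd]
    have hj : Set.range j ⊆ ((snd (X ⊗ Y) Z).left ⁻¹ᵁ V : Set _) := by
      rintro _ ⟨p, rfl⟩
      show (snd (X ⊗ Y) Z).left (j p) ∈ V
      rw [← Scheme.Hom.comp_apply, Category.assoc, hcomp, ← Category.assoc, pullback.condition,
        Scheme.Hom.comp_apply, Scheme.Hom.comp_apply,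
        Subsingleton.elim (pullback.snd f k' p) (IsLocalRing.closedPoint K), hk']
      exact hw
    obtain ⟨φ⟩ := InvX.nonempty_iso_of_isFrame hs
    let U := (snd (X ⊗ Y) Z).left ⁻¹ᵁ V
    have hU : Triv ((Scheme.Modules.pullback (U.ι ≫ α.left)).obj L) :=
      (TrivBasic.triv_comp_iff _ _).1 (Triv.of_iso ((Scheme.Modules.restrictFunctorIsoPullback U.ι).app _) ⟨φ⟩)
    refine SeesawGlobal.triv_of_factor (IsOpenImmersion.lift U.ι j (hj.trans_eq U.range_ι.symm)) ?_ hU
    rw [← Category.assoc, IsOpenImmersion.lift_fac, Category.assoc, ← Over.comp_left, Iso.inv_hom_id,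
      Over.id_left, Category.comp_id]
  have hall : ∀ w, SeesawGlobal.FieldTriv f L w := by
    have hclosed := SeesawGlobal.isClosed_fieldTriv f hL
    haveI : UniversallyOpen (snd Y Z).left := inferInstanceAs (UniversallyOpen (pullback.snd Y.hom Z.hom))
    have hd : Dense (W₀ : Set W.left) :=
      (V.isOpen.dense ⟨_, hzV⟩).preimage (Scheme.Hom.isOpenMap (snd Y Z).left)
    intro w
    exact (closure_minimal hsub hclosed) (hd w)
  exact SeesawGlobal.triv_of_section (f := f) (fun U => Rigid.bijective_app_snd X.hom W.hom U)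
    (lift (toUnit W ≫ x₀) (𝟙 W)).left (by rw [← Over.comp_left, lift_snd]; rfl) hx
    fun w => SeesawGlobal.exists_frame_of_isReduced f hL
      (fun v K _ k' _ => by
        show Function.Bijective (pullback.snd (pullback.snd X.hom W.hom) k').appTop
        rw [← pullbackLeftPullbackSndIso_hom_snd X.hom W.hom k', Scheme.Hom.comp_appTop]
        exact (SeesawGlobal.bijective_appTop_iso (pullbackLeftPullbackSndIso X.hom W.hom k')).comp
          (Rigid.bijective_app_snd X.hom (k' ≫ W.hom) ⊤))
      hall w

end Groth.Agent.H23.CubeField
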