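import Groth.Agent.VarDim.FibreDim
import Groth.Agent.VarDim.Top
import Mathlib.AlgebraicGeometry.Morphisms.Proper

/-!
A proper map between irreducible schemes with a finite fibre and no dimension drop is surjective.
-/

universe u

open CategoryTheory AlgebraicGeometry TopologicalSpace

namespace Groth.Agent.H23.FibreZero

variable {k : Type u} [Field k] {X Y : Scheme.{u}} (p : X ⟶ Spec (CommRingCat.of k))
  (q : Y ⟶ Spec (CommRingCat.of k)) [IsProper p] [IsSeparated q] [LocallyOfFiniteType q]
  [IrreducibleSpace X] [IrreducibleSpace Y]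

theorem surjective_and_dim_eq (hdim : topologicalKrullDim Y ≤ topologicalKrullDim X) (f : X ⟶ Y)
    (hf : f ≫ q = p) (y : Y) (hy : topologicalKrullDim ↥(f.fiber y) = 0) :
    Surjective f ∧ topologicalKrullDim X = topologicalKrullDim Y := by
  have : IsProper (f ≫ q) := hf ▸ ‹IsProper p›
  have : IsProper f := IsProper.of_comp f q
  have hzero : ∀ x, f x = y → VarDim.fdeg f x = 0 := by
    intro x hx
    rw [VarDim.topologicalKrullDim_fiber f y] at hy
    have h := le_iSup (fun x : f ⁻¹' {y} => ((VarDim.fdeg f x.1 : ℕ∞) : WithBot ℕ∞)) ⟨x, hx⟩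
    rw [hy] at h
    exact Nat.le_zero.1 (by exact_mod_cast h)
  obtain ⟨z, rfl⟩ : y ∈ Set.range f := by
    by_contra hne
    have : IsEmpty (f ⁻¹' {y}) := ⟨fun w => hne ⟨w.1, w.2⟩⟩
    rw [VarDim.topologicalKrullDim_fiber f y, iSup_of_empty] at hy
    exact WithBot.bot_ne_zero hy
  obtain ⟨x', -, -, hfx, hle⟩ := VarDim.exists_fdeg_ge f q (genericPoint_specializes z)
  rw [hzero x' hfx, Nat.le_zero] at hle
  have h3 := VarDim.deg_eq_add f q hf (genericPoint X)
  rw [hle, add_zero] at h3
  rw [VarDim.topologicalKrullDim_eq_deg_genericPoint p, VarDim.topologicalKrullDim_eq_deg_genericPoint q] at hdim ⊢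
  have hd : VarDim.deg q (genericPoint Y) ≤ VarDim.deg p (genericPoint X) := by exact_mod_cast hdim
  have hgen : f (genericPoint X) = genericPoint Y :=
    (VarDim.eq_of_specializes_of_deg_le q (genericPoint_specializes _) (by omega)).symm
  refine ⟨⟨fun w => ?_⟩, by rw [h3, hgen]⟩
  exact (f.isClosedMap.isClosed_range.closure_subset_iff.2 (Set.singleton_subset_iff.2 ⟨_, hgen⟩))
    (specializes_iff_mem_closure.1 (genericPoint_specializes w))

end Groth.Agent.H23.FibreZero
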