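import Groth.Agent.H23.PicMul
import Groth.Prelude.Def_ThetaK

/-!
Points of K(L) through translations.
-/

universe u

open CategoryTheory CategoryTheory.Limits MonoidalCategory CartesianMonoidalCategory MonObj AlgebraicGeometry TopologicalSpace

namespace Groth.Agent.H23.KLBasic

open PicMul

/-- An invertible module on a one-point scheme is trivial. -/
theorem trivial_of_subsingleton {S : Scheme.{u}} [Subsingleton S] [Nonempty S] {L : S.Modules}
    (hL : PicF.IsInvertible L) : PicF.cl L = 1 := by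
  obtain ⟨U, e, he⟩ : ∃ (U : S.Opens) (e : Γ(L, U)), U = ⊤ ∧ InvX.IsFrame e := by
    obtain ⟨U, hx, e, he⟩ := InvX.exists_frame hL (Classical.arbitrary S)
    exact ⟨U, e, eq_top_iff.2 fun y _ => Subsingleton.elim (Classical.arbitrary S) y ▸ hx, he⟩
  obtain ⟨rfl, he⟩ := he
  exact (PicGrp.cl_eq_cl_iff _ _).2 (InvUfdLib.nonempty_iso_of_frame he)

variable {S : Scheme.{u}} {A : Over S} [GrpObj A]

/-- `(a, t) ↦ a · x(t)`. -/
theorem transl_fst_eq {T : Over S} (x : T ⟶ A) :
    ThetaGrp.transl A x ≫ fst A T = (A ◁ x) ≫ μ[A] := by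
  rw [ThetaGrp.transl_fst, Hom.mul_def]
  congr 1

variable (L : A.left.Modules)

/-- The translate of `L` by `x` differs from `L` by a module `c` on the base. -/
def Eq (T : Over S) (x : T ⟶ A) (c : PicF.Cl T.left) : Prop :=
  PicF.pullCl (ThetaGrp.transl A x ≫ fst A T).left (PicF.cl L) =
    PicF.pullCl (fst A T).left (PicF.cl L) * PicF.pullCl (snd A T).left c

variable {L}

theorem mumford_iff (hL : PicF.IsInvertible L) {T : Over S} (x : T ⟶ A) :
    ThetaGrp.IsMumfordTriv A L x ↔ ∃ c : PicF.Cl T.left, PicF.IsInvertibleCl c ∧ Eq L T x c := by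
  have hx : PicF.IsInvertibleCl (PicF.pullCl x.left (PicF.cl L)) :=
    PicClLib.isInvertibleCl_pullCl x.left ⟨L, rfl, hL⟩
  constructor
  · rintro ⟨M, hM, h⟩
    refine ⟨PicF.cl M * PicF.pullCl x.left (PicF.cl L), isInvertibleCl_mul ⟨M, rfl, hM⟩ hx, ?_⟩
    have h' := (PicGrp.cl_eq_cl_iff _ _).2 h
    rw [cl_tensor, cl_tensor] at h'
    change PicF.pullCl (snd A T).left (PicF.cl M) * PicF.pullCl (fst A T).left (PicF.cl L) *
      PicF.pullCl (snd A T ≫ x).left (PicF.cl L) = PicF.pullCl ((A ◁ x) ≫ μ[A]).left (PicF.cl L) at h'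
    rw [Eq, transl_fst_eq, ← h', pullCl_mul, Over.comp_left, ← PicClLib.pullCl_comp]
    ac_rfl
  · rintro ⟨c, hc, h⟩
    obtain ⟨D, hD⟩ := (isUnit_of_isInvertibleCl hx).exists_left_inv
    obtain ⟨M₀, hM₀, hM₀i⟩ : ∃ M : T.left.Modules, PicF.IsInvertible M ∧
        PicF.cl M * PicF.pullCl x.left (PicF.cl L) = c := by
      obtain ⟨N, hN, hNi⟩ := hc
      obtain ⟨E, hE, e⟩ := PicInv.exists_inverse (PicClLib.isInvertible_pullback x.left hL)
      refine ⟨CohB1.tensorMod N E, isInvertible_tensor hNi hE, ?_⟩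
      have e' := (PicGrp.cl_eq_cl_iff _ _).2 e
      rw [cl_tensor] at e'
      change PicF.cl N * PicF.cl E * PicF.cl ((Scheme.Modules.pullback x.left).obj L) = c
      rw [_root_.mul_assoc, mul_comm (PicF.cl E), e', ← one_def, _root_.mul_one, hN]
    refine ⟨M₀, hM₀, (PicGrp.cl_eq_cl_iff _ _).1 ?_⟩
    rw [cl_tensor, cl_tensor]
    change PicF.pullCl (snd A T).left (PicF.cl M₀) * PicF.pullCl (fst A T).left (PicF.cl L) *
      PicF.pullCl (snd A T ≫ x).left (PicF.cl L) = PicF.pullCl ((A ◁ x) ≫ μ[A]).left (PicF.cl L)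
    rw [Eq, transl_fst_eq] at h
    rw [h, ← hM₀i, pullCl_mul, Over.comp_left, ← PicClLib.pullCl_comp]
    ac_rfl

/-- The pullback of `L` along a constant point is trivial when the base is a point. -/
theorem pull_one [Subsingleton S] [Nonempty S] (hL : PicF.IsInvertible L) (T : Over S) :
    PicF.pullCl (1 : T ⟶ A).left (PicF.cl L) = 1 := by
  haveI : Subsingleton (𝟙_ (Over S)).left := ‹Subsingleton S›
  haveI : Nonempty (𝟙_ (Over S)).left := ‹Nonempty S›
  rw [Hom.one_def, Over.comp_left, ← PicClLib.pullCl_comp]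
  have := trivial_of_subsingleton (PicClLib.isInvertible_pullback η[A].left hL)
  exact (congrArg (PicF.pullCl (toUnit T).left) this).trans (pullCl_one _)

/-- The module on the base is forced. -/
theorem eq_pull_of_eq [Subsingleton S] [Nonempty S] (hL : PicF.IsInvertible L) {T : Over S} {x : T ⟶ A}
    {c : PicF.Cl T.left} (h : Eq L T x c) : c = PicF.pullCl x.left (PicF.cl L) := by
  have h' := congrArg (PicF.pullCl (lift (1 : T ⟶ A) (𝟙 T)).left) h
  rw [pullCl_mul, PicClLib.pullCl_comp, PicClLib.pullCl_comp, PicClLib.pullCl_comp, ← Over.comp_left,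
    ← Over.comp_left, ← Over.comp_left, lift_fst, lift_snd, pull_one hL, _root_.one_mul, Over.id_left,
    PicClLib.pullCl_id, ← Category.assoc] at h'
  rw [← h']
  congr 2
  rw [ThetaGrp.transl, comp_lift, lift_fst, MonObj.comp_mul, lift_fst, lift_snd_assoc, Category.id_comp, _root_.one_mul]

theorem iff_eq_pull [Subsingleton S] [Nonempty S] (hL : PicF.IsInvertible L) {T : Over S} (x : T ⟶ A) :
    ThetaGrp.IsMumfordTriv A L x ↔ Eq L T x (PicF.pullCl x.left (PicF.cl L)) := by
  rw [mumford_iff hL x]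
  refine ⟨fun ⟨c, _, h⟩ => eq_pull_of_eq hL h ▸ h, fun h => ⟨_, ?_, h⟩⟩
  exact PicClLib.isInvertibleCl_pullCl x.left ⟨L, rfl, hL⟩

theorem eq_one (T : Over S) : Eq L T 1 1 := by
  rw [Eq, pullCl_one, _root_.mul_one, ThetaGrp.transl_fst, MonObj.comp_one, _root_.mul_one]

theorem transl_comp {T : Over S} (x y : T ⟶ A) :
    ThetaGrp.transl A x ≫ ThetaGrp.transl A y ≫ fst A T = ThetaGrp.transl A (x * y) ≫ fst A T := by
  rw [ThetaGrp.transl_fst, ThetaGrp.transl_fst, MonObj.comp_mul, ThetaGrp.transl_fst, ← Category.assoc,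
    ThetaGrp.transl_snd, MonObj.comp_mul, _root_.mul_assoc]

theorem eq_mul {T : Over S} {x y : T ⟶ A} {c d : PicF.Cl T.left} (hx : Eq L T x c) (hy : Eq L T y d) :
    Eq L T (x * y) (c * d) := by
  have h := congrArg (PicF.pullCl (ThetaGrp.transl A x).left) hy
  rw [PicClLib.pullCl_comp, pullCl_mul, PicClLib.pullCl_comp, PicClLib.pullCl_comp, ← Over.comp_left,
    ← Over.comp_left, ← Over.comp_left, transl_comp, ThetaGrp.transl_snd, hx] at h
  rw [Eq, h, pullCl_mul, _root_.mul_assoc]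

theorem eq_inv {T : Over S} {x : T ⟶ A} {c d : PicF.Cl T.left} (hx : Eq L T x c) (hcd : c * d = 1) :
    Eq L T x⁻¹ d := by
  have h := congrArg (PicF.pullCl (ThetaGrp.transl A x⁻¹).left) hx
  rw [PicClLib.pullCl_comp, pullCl_mul, PicClLib.pullCl_comp, PicClLib.pullCl_comp, ← Over.comp_left,
    ← Over.comp_left, ← Over.comp_left, transl_comp, inv_mul_cancel, ThetaGrp.transl_snd] at h
  have h1 : (ThetaGrp.transl A (1 : T ⟶ A) ≫ fst A T) = fst A T := by
    rw [ThetaGrp.transl_fst, MonObj.comp_one, _root_.mul_one]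
  rw [h1] at h
  rw [Eq, h, _root_.mul_assoc, ← pullCl_mul, hcd, pullCl_one, _root_.mul_one]

end Groth.Agent.H23.KLBasic
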