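import Groth.Agent.GeomField.Connected
import Mathlib.CategoryTheory.Monoidal.Cartesian.Over
import Mathlib.CategoryTheory.Monoidal.Cartesian.Grp

/-!
Connected fibres and a section give geometrically connected fibres.
-/

universe u

open CategoryTheory Limits AlgebraicGeometry MonoidalCategory CartesianMonoidalCategory

open scoped MonObj

namespace Groth.Agent.H23.GeomConn

theorem eq_toSpecΓ_comp {R : CommRingCat.{u}} {X : Scheme.{u}} (f : X ⟶ Spec R) :
    f = X.toSpecΓ ≫ Spec.map ((Scheme.ΓSpecIso R).inv ≫ f.appTop) := by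
  rw [Spec.map_comp, ← Category.assoc, ← Scheme.toSpecΓ_naturality, Category.assoc,
    toSpecΓ_SpecMap_ΓSpecIso_inv, Category.comp_id]

theorem of_point (k : Type u) [Field k] {X : Scheme.{u}} (f : X ⟶ Spec (CommRingCat.of k)) [ConnectedSpace X]
    (x : Spec (CommRingCat.of k) ⟶ X) (hx : x ≫ f = 𝟙 _) : GeometricallyConnected f := by
  let : X.Over (Spec (CommRingCat.of k)) := ⟨f⟩
  let x₀ : X := x.base (IsLocalRing.closedPoint k)
  have hres : Function.Surjective (Curv2.resMap k X x₀) := by
    let φ : X.residueField x₀ ⟶ CommRingCat.of k := (Scheme.SpecToEquivOfField k X x).2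
    have hφ : Spec.map φ ≫ X.fromSpecResidueField x₀ = x :=
      (Scheme.SpecToEquivOfField k X).symm_apply_apply x
    have hf : X.fromSpecResidueField x₀ ≫ f = Spec.map (CommRingCat.ofHom (Curv2.resMap k X x₀)) := by
      have h1 : f = X.toSpecΓ ≫ Spec.map (CommRingCat.ofHom (Coh.toGlobal f)) :=
        eq_toSpecΓ_comp f
      rw [Scheme.fromSpecResidueField, Category.assoc]
      conv_lhs => rw [h1]
      rw [Scheme.fromSpecStalk_toSpecΓ_assoc, ← Spec.map_comp, ← Spec.map_comp]
      rfl
    have hid : CommRingCat.ofHom (Curv2.resMap k X x₀) ≫ φ = 𝟙 (CommRingCat.of k) := by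
      apply Spec.map_injective
      rw [Spec.map_comp, Spec.map_id, ← hf, ← Category.assoc, hφ, hx]
    intro a
    refine ⟨φ.hom a, φ.hom.injective ?_⟩
    exact congrArg (fun m => m.hom (φ.hom a)) hid
  exact Groth.Agent.GeomField.geometricallyConnected_of_point (X := X) x₀ fun a _ => hres a

theorem of_section {X S : Scheme.{u}} (f : X ⟶ S) (e : S ⟶ X) (he : e ≫ f = 𝟙 S)
    (h : ∀ s, ConnectedSpace ↥(f.fiber s)) : GeometricallyConnected f := by
  rw [GeometricallyConnected.iff_geometricallyConnected_fiber]
  intro s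
  haveI := h s
  exact of_point _ (f.fiberToSpecResidueField s)
    (pullback.lift (S.fromSpecResidueField s ≫ e) (𝟙 _) (by rw [Category.assoc, he]; exact (Category.comp_id _).trans (Category.id_comp _).symm))
    (pullback.lift_snd _ _ _)

/-- A group scheme with connected fibres has geometrically connected fibres. -/
theorem of_grp {S : Scheme.{u}} (A : Over S) [GrpObj A] (h : ∀ s : S, ConnectedSpace ↥(A.hom.fiber s)) :
    GeometricallyConnected A.hom :=
  of_section A.hom η[A].left (Over.w η[A]) h

end Groth.Agent.H23.GeomConn
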