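import Groth.Agent.InvX.Frame
import Groth.Agent.KFlatLib.Scheme.TensorStalk
import Groth.Agent.KFlatLib.Scheme.QCohTensor
import Mathlib.LinearAlgebra.FreeModule.Finite.Basic

/-!
Stalks of invertible modules and of their tensor powers.
-/

universe u

open CategoryTheory CategoryTheory.Limits AlgebraicGeometry TopologicalSpace Opposite MonoidalCategory
open scoped TensorProduct

namespace Groth.Agent.H23.InvStalk

open Groth.Agent.AModX
open Groth.Agent.KFlatLib (stalkTensorIso stalkTensorIso_naturality tensorUnitIso)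

variable {X : Scheme.{u}}

/-- The stalk of an invertible module is free of rank one. -/
theorem exists_stalk_equiv {L : X.Modules} (hL : PicF.IsInvertible L) (x : X) :
    Nonempty (((DerSch.stalkFunctor X x).obj L : Type u) ≃ₗ[X.presheaf.stalk x] X.presheaf.stalk x) := by
  obtain ⟨U, hx, e, he⟩ := InvX.exists_frame hL x
  let g : ((DerSch.stalkFunctor X x).obj L : Type u) := (L.presheaf.germ U x hx).hom e
  refine ⟨(LinearEquiv.ofBijective (LinearMap.toSpanSingleton (X.presheaf.stalk x) _ g) ⟨?_, ?_⟩).symm⟩
  · refine (injective_iff_map_eq_zero _).2 fun r hr => ?_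
    obtain ⟨V, hxV, a, rfl⟩ := X.presheaf.germ_exist r
    let W := V ⊓ U
    have hxW : x ∈ W := ⟨hxV, hx⟩
    rw [← X.presheaf.germ_res_apply (homOfLE inf_le_left : W ⟶ V) x hxW a] at hr ⊢
    have h1 : (L.presheaf.germ W x hxW).hom ((resR (inf_le_left : W ≤ V) a) • res L (inf_le_right : W ≤ U) e)
        = 0 := by
      erw [QCoh.germ_smul' L hxW]
      rw [show (L.presheaf.germ W x hxW).hom (res L (inf_le_right : W ≤ U) e) = g from
        L.presheaf.germ_res_apply (homOfLE inf_le_right) x hxW e]
      exact hr
    obtain ⟨W', hxW', i, j, h2⟩ := L.presheaf.germ_eq x hxW hxW _ 0 (h1.trans (map_zero _).symm)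
    have h3 : res L (leOfHom i) (resR (inf_le_left : W ≤ V) a • res L (inf_le_right : W ≤ U) e) = 0 :=
      h2.trans (map_zero _)
    rw [res_smul, res_res] at h3
    have h4 := (he W' ((leOfHom i).trans inf_le_right)).1 (h3.trans (zero_smul _ _).symm)
    rw [← X.presheaf.germ_res_apply i x hxW']
    exact (congrArg _ h4).trans (map_zero (X.presheaf.germ W' x hxW').hom)
  · intro m
    obtain ⟨V, hxV, n, rfl⟩ := L.presheaf.germ_exist m
    let W := V ⊓ U
    have hxW : x ∈ W := ⟨hxV, hx⟩
    obtain ⟨r, hr⟩ := he.exists_coord inf_le_right (res L (inf_le_left : W ≤ V) n)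
    refine ⟨X.presheaf.germ W x hxW r, ?_⟩
    have h1 := congrArg (L.presheaf.germ W x hxW).hom hr
    erw [QCoh.germ_smul' L hxW] at h1
    rw [show (L.presheaf.germ W x hxW).hom (res L (inf_le_right : W ≤ U) e) = g from
        L.presheaf.germ_res_apply (homOfLE inf_le_right) x hxW e,
      show (L.presheaf.germ W x hxW).hom (res L (inf_le_left : W ≤ V) n) = (L.presheaf.germ V x hxV).hom n from
        L.presheaf.germ_res_apply (homOfLE inf_le_left) x hxW n] at h1
    exact h1.symm

theorem isInvertible_structureModule : PicF.IsInvertible (Coh.structureModule X) :=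
  fun _ => ⟨⊤, trivial, ⟨Scheme.Modules.restrictUnitIso _⟩⟩

theorem exists_stalk_equiv_pow {L : X.Modules} (hL : PicF.IsInvertible L) (x : X) (n : ℕ) :
    Nonempty (((DerSch.stalkFunctor X x).obj (CohB1.tensorPow L n) : Type u) ≃ₗ[X.presheaf.stalk x]
      X.presheaf.stalk x) := by
  induction n with
  | zero => exact exists_stalk_equiv isInvertible_structureModule x
  | succ n ih =>
    obtain ⟨e⟩ := ih
    obtain ⟨e'⟩ := exists_stalk_equiv hL x
    exact ⟨(stalkTensorIso x (CohB1.tensorPow L n) L).toLinearEquiv.symm.trans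
      ((TensorProduct.congr e e').trans (TensorProduct.lid _ _))⟩

theorem lTensor_surjective_iff {R M N P : Type u} [CommRing R] [AddCommGroup M] [Module R M]
    [AddCommGroup N] [Module R N] [AddCommGroup P] [Module R P] (e : M ≃ₗ[R] R) (f : N →ₗ[R] P) :
    Function.Surjective (f.lTensor M) ↔ Function.Surjective f := by
  have h : f ∘ₗ ((TensorProduct.congr e (LinearEquiv.refl R N)).trans (TensorProduct.lid R N)).toLinearMap =
      ((TensorProduct.congr e (LinearEquiv.refl R P)).trans (TensorProduct.lid R P)).toLinearMap ∘ₗ f.lTensor M :=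
    TensorProduct.ext' fun m n => by simp
  have h' : ⇑f ∘ ⇑((TensorProduct.congr e (LinearEquiv.refl R N)).trans (TensorProduct.lid R N)) =
      ⇑((TensorProduct.congr e (LinearEquiv.refl R P)).trans (TensorProduct.lid R P)) ∘ ⇑(f.lTensor M) :=
    congrArg DFunLike.coe h
  constructor
  · intro hs
    refine Function.Surjective.of_comp (g := ⇑((TensorProduct.congr e (LinearEquiv.refl R N)).trans
      (TensorProduct.lid R N))) ?_
    rw [h']
    exact (LinearEquiv.surjective _).comp hs
  · exact LinearMap.lTensor_surjective M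

theorem bijective_of_surjective {R N P : Type u} [CommRing R] [AddCommGroup N] [Module R N]
    [AddCommGroup P] [Module R P] (e : N ≃ₗ[R] R) (e' : P ≃ₗ[R] R) (f : N →ₗ[R] P)
    (hf : Function.Surjective f) : Function.Bijective f := by
  have h := OrzechProperty.bijective_of_surjective_endomorphism
    (e'.toLinearMap ∘ₗ f ∘ₗ e.symm.toLinearMap) (e'.surjective.comp (hf.comp e.symm.surjective))
  have : (f : N → P) = e'.symm ∘ (e'.toLinearMap ∘ₗ f ∘ₗ e.symm.toLinearMap) ∘ e := by
    funext n; simp
  rw [this]
  exact (e'.symm.bijective.comp h).comp e.bijective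

/-- The powers of a section. -/
noncomputable def powSec {L : X.Modules} (s : Coh.structureModule X ⟶ L) :
    (n : ℕ) → (Coh.structureModule X ⟶ CohB1.tensorPow L n)
  | 0 => 𝟙 _
  | n + 1 => powSec s n ≫ (tensorUnitIso (CohB1.tensorPow L n)).inv ≫
      (DCoh.tensorBi.obj (CohB1.tensorPow L n)).map s

theorem stalk_tensor_map_surjective_iff {M N P : X.Modules} (φ : N ⟶ P) (x : X)
    (e : ((DerSch.stalkFunctor X x).obj M : Type u) ≃ₗ[X.presheaf.stalk x] X.presheaf.stalk x) :
    Function.Surjective ((DerSch.stalkFunctor X x).map ((DCoh.tensorBi.obj M).map φ)) ↔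
      Function.Surjective ((DerSch.stalkFunctor X x).map φ) := by
  have h := stalkTensorIso_naturality (x := x) (𝟙 M) φ
  rw [(DerSch.stalkFunctor X x).map_id, CategoryTheory.Functor.map_id, NatTrans.id_app,
    Category.id_comp, MonoidalCategory.id_tensorHom] at h
  rw [← lTensor_surjective_iff e ((DerSch.stalkFunctor X x).map φ).hom]
  have h' : ⇑(stalkTensorIso x M P).toLinearEquiv ∘ ⇑(((DerSch.stalkFunctor X x).map φ).hom.lTensor _) =
      ⇑((DerSch.stalkFunctor X x).map ((DCoh.tensorBi.obj M).map φ)) ∘
        ⇑(stalkTensorIso x M N).toLinearEquiv :=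
    funext fun t => congrArg (fun ψ => ψ.hom t) h
  refine Iff.trans ?_ ((stalkTensorIso x M P).toLinearEquiv.toEquiv.comp_surjective _)
  refine Iff.trans ?_ (iff_of_eq (congrArg Function.Surjective h'.symm))
  exact (Function.Surjective.of_comp_iff _ (stalkTensorIso x M N).toLinearEquiv.surjective).symm

theorem powSec_surjective {L : X.Modules} (hL : PicF.IsInvertible L) (s : Coh.structureModule X ⟶ L)
    (x : X) (hs : Function.Surjective ((DerSch.stalkFunctor X x).map s)) (n : ℕ) :
    Function.Surjective ((DerSch.stalkFunctor X x).map (powSec s n)) := by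
  induction n with
  | zero =>
    exact (ConcreteCategory.bijective_of_isIso
      ((DerSch.stalkFunctor X x).mapIso (Iso.refl (Coh.structureModule X))).hom).2
  | succ n ih =>
    obtain ⟨e⟩ := exists_stalk_equiv_pow hL x n
    rw [powSec, Functor.map_comp, Functor.map_comp]
    refine ((stalk_tensor_map_surjective_iff s x e).2 hs).comp (Function.Surjective.comp ?_ ih)
    exact (ConcreteCategory.bijective_of_isIso
      ((DerSch.stalkFunctor X x).map (tensorUnitIso (CohB1.tensorPow L n)).inv)).2

theorem surjective_of_powSec_succ {L : X.Modules} (hL : PicF.IsInvertible L) (s : Coh.structureModule X ⟶ L)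
    (x : X) (n : ℕ) (h : Function.Surjective ((DerSch.stalkFunctor X x).map (powSec s (n + 1)))) :
    Function.Surjective ((DerSch.stalkFunctor X x).map s) := by
  obtain ⟨e⟩ := exists_stalk_equiv_pow hL x n
  refine (stalk_tensor_map_surjective_iff s x e).1 ?_
  rw [powSec, Functor.map_comp, Functor.map_comp] at h
  exact Function.Surjective.of_comp h

end Groth.Agent.H23.InvStalk
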