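import Groth.Prelude.Def_SecTwist
import Mathlib.Algebra.Category.ModuleCat.Monoidal.Basic

/-!
Maps out of a tensor product of modules from bilinear maps on sections.
-/

universe u

open CategoryTheory CategoryTheory.Limits AlgebraicGeometry TopologicalSpace Opposite MonoidalCategory

namespace Groth.Agent.H23.TensorDesc

variable {X : Scheme.{u}} {M N P : X.Modules}

/-- A natural family of bilinear maps on sections. -/
structure Bilin (M N P : X.Modules) where
  /-- the map -/
  b : ∀ U : X.Opens, Γ(M, U) → Γ(N, U) → Γ(P, U)
  add_left : ∀ U m m' n, b U (m + m') n = b U m n + b U m' n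
  smul_left : ∀ U (r : Γ(X, U)) m n, b U (r • m) n = r • b U m n
  add_right : ∀ U m n n', b U m (n + n') = b U m n + b U m n'
  smul_right : ∀ U (r : Γ(X, U)) m n, b U m (r • n) = r • b U m n
  res : ∀ {U V : X.Opens} (h : V ≤ U) m n,
    P.presheaf.map (homOfLE h).op (b U m n) =
      b V (M.presheaf.map (homOfLE h).op m) (N.presheaf.map (homOfLE h).op n)

/-- The map of presheaves of modules. -/
noncomputable def pre (β : Bilin M N P) : CohB1.tensorPre M N ⟶ CohB1.toPMod P where
  app U := ModuleCat.MonoidalCategory.tensorLift
    (fun (m : (CohB1.toPMod M).obj U) (n : (CohB1.toPMod N).obj U) =>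
      (show (CohB1.toPMod P).obj U from β.b U.unop m n))
    (β.add_left U.unop) (β.smul_left U.unop) (β.add_right U.unop) (β.smul_right U.unop)
  naturality {U V} i := ModuleCat.MonoidalCategory.tensor_ext fun m n => (β.res i.unop.le m n).symm

/-- The induced map out of the tensor product. -/
noncomputable def desc (β : Bilin M N P) : CohB1.tensorMod M N ⟶ P :=
  ((PresheafOfModules.sheafificationAdjunction (𝟙 X.ringCatSheaf.obj)).homEquiv
    (show X.PresheafOfModules from CohB1.tensorPre M N) P).symm
      (show (show X.PresheafOfModules from CohB1.tensorPre M N) ⟶ _ from pre β)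

theorem desc_tmul (β : Bilin M N P) (U : X.Opens) (m : M.val.obj (op U)) (n : N.val.obj (op U)) :
    ((desc β).val.app (op U)).hom (SecTwist.tmul M N U m n) = β.b U m n := by
  let adj := PresheafOfModules.sheafificationAdjunction.{u, u, u, u}
    (J := Opens.grothendieckTopology X) (𝟙 X.ringCatSheaf.obj)
  have h := adj.homEquiv_unit (X := (show X.PresheafOfModules from CohB1.tensorPre M N)) (Y := P) (f := desc β)
  rw [desc, Equiv.apply_symm_apply] at h
  exact (congrArg (fun φ => (PresheafOfModules.Hom.app φ (op U)).hom
    (show ↥((CohB1.tensorPre M N).obj (op U)) from m ⊗ₜ n)) h).symm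

end Groth.Agent.H23.TensorDesc
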