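import Groth.Agent.InvX.Frame
import Groth.Agent.InvUfdLib.Semilocal
import Groth.Agent.H23.InvStalk
import Groth.Agent.H23.TensorDesc
import Groth.Agent.KFlatLib.Scheme.PullTensor
import Groth.Prelude.Def_Coh

/-!
The dual of an invertible module and the pairing with it.
-/

universe u

open CategoryTheory CategoryTheory.Limits AlgebraicGeometry TopologicalSpace Opposite

namespace Groth.Agent.H23.PicInv

open Groth.Agent.AModX Groth.Agent.InvX

variable {X : Scheme.{u}} {L : X.Modules} {U : X → X.Opens} {e : ∀ x, Γ(L, U x)}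
  (he : ∀ x, IsFrame (e x))

/-- The transition function. -/
noncomputable def tr (x y : X) (W : X.Opens) (hx : W ≤ U x) (hy : W ≤ U y) : Γ(X, W) :=
  ((he x).exists_coord hx (res L hy (e y))).choose

theorem tr_spec (x y : X) (W : X.Opens) (hx : W ≤ U x) (hy : W ≤ U y) :
    res L hy (e y) = tr he x y W hx hy • res L hx (e x) :=
  ((he x).exists_coord hx (res L hy (e y))).choose_spec

theorem tr_res (x y : X) {W W' : X.Opens} (h : W' ≤ W) (hx : W ≤ U x) (hy : W ≤ U y) :
    resR h (tr he x y W hx hy) = tr he x y W' (h.trans hx) (h.trans hy) := by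
  refine (he x).coord_unique (h.trans hx) ?_
  have := congrArg (res L h) (tr_spec he x y W hx hy)
  rw [res_res, res_smul, res_res] at this
  rw [← this, tr_spec he x y W' (h.trans hx) (h.trans hy)]

theorem tr_self (x : X) (W : X.Opens) (hx : W ≤ U x) : tr he x x W hx hx = 1 :=
  (he x).coord_unique hx (by rw [← tr_spec, one_smul])

theorem tr_trans (x y z : X) (W : X.Opens) (hx : W ≤ U x) (hy : W ≤ U y) (hz : W ≤ U z) :
    tr he x z W hx hz = tr he y z W hy hz * tr he x y W hx hy :=
  (he x).coord_unique hx (by rw [← tr_spec, mul_smul, ← tr_spec, ← tr_spec])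

variable (U) in
/-- Families of functions on the opens of the cover. -/
abbrev Fam (W : X.Opens) : Type u := ∀ x : X, Γ(X, W ⊓ U x)

/-- Families transforming like the coordinates of a functional on the module. -/
def IsDual {W : X.Opens} (f : Fam U W) : Prop :=
  ∀ (x y : X) (V : X.Opens) (hV : V ≤ W) (hx : V ≤ U x) (hy : V ≤ U y),
    resR (le_inf hV hy) (f y) = tr he x y V hx hy * resR (le_inf hV hx) (f x)

/-- The sections of the dual. -/
def grp (W : X.Opens) : AddSubgroup (Fam U W) where
  carrier := {f | IsDual he f}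
  add_mem' := fun {a b} ha hb x y V hV hx hy => by
    show resR _ (a y + b y) = _ * resR _ (a x + b x)
    rw [map_add, map_add, ha x y V hV hx hy, hb x y V hV hx hy, mul_add]
  zero_mem' := fun x y V hV hx hy => by
    show resR _ 0 = _ * resR _ 0
    rw [map_zero, map_zero, mul_zero]
  neg_mem' := fun {a} ha x y V hV hx hy => by
    show resR _ (-(a y)) = _ * resR _ (-(a x))
    rw [map_neg, map_neg, ha x y V hV hx hy, mul_neg]

theorem grp_ext {W : X.Opens} {a b : grp he W} (h : ∀ x, a.1 x = b.1 x) : a = b :=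
  Subtype.ext (funext h)

noncomputable instance instModule (W : X.Opens) : Module Γ(X, W) (grp he W) where
  smul r a := ⟨fun x => resR inf_le_left r * a.1 x, fun x y V hV hx hy => by
    rw [map_mul, map_mul, a.2 x y V hV hx hy, resR_resR, resR_resR]
    ring⟩
  one_smul a := grp_ext he fun x => by
    show resR _ 1 * _ = _
    rw [map_one, one_mul]
  mul_smul r s a := grp_ext he fun x => by
    show resR _ (r * s) * _ = resR _ r * (resR _ s * _)
    rw [map_mul, _root_.mul_assoc]
  smul_zero r := grp_ext he fun x => by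
    show resR _ r * 0 = 0
    rw [mul_zero]
  smul_add r a b := grp_ext he fun x => by
    show resR _ r * (a.1 x + b.1 x) = resR _ r * a.1 x + resR _ r * b.1 x
    rw [mul_add]
  add_smul r s a := grp_ext he fun x => by
    show resR _ (r + s) * _ = resR _ r * _ + resR _ s * _
    rw [map_add, add_mul]
  zero_smul a := grp_ext he fun x => by
    show resR _ 0 * _ = 0
    rw [map_zero, zero_mul]

theorem smul_val {W : X.Opens} (r : Γ(X, W)) (a : grp he W) (x : X) :
    (r • a).1 x = resR inf_le_left r * a.1 x := rfl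

/-- Restriction. -/
noncomputable def gres {W W' : X.Opens} (h : W' ≤ W) : grp he W →+ grp he W' where
  toFun a := ⟨fun x => resR (inf_le_inf_right _ h) (a.1 x), fun x y V hV hx hy => by
    rw [resR_resR, resR_resR]
    exact a.2 x y V (hV.trans h) hx hy⟩
  map_zero' := grp_ext he fun x => map_zero _
  map_add' _ _ := grp_ext he fun x => map_add _ _ _

theorem gres_val {W W' : X.Opens} (h : W' ≤ W) (a : grp he W) (x : X) :
    (gres he h a).1 x = resR (inf_le_inf_right _ h) (a.1 x) := rfl

/-- The presheaf of sections of the dual. -/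
noncomputable def psh : (X.Opens)ᵒᵖ ⥤ Ab.{u} where
  obj W := AddCommGrpCat.of (grp he W.unop)
  map {W W'} i := AddCommGrpCat.ofHom (gres he i.unop.le)
  map_id W := by
    refine AddCommGrpCat.hom_ext (AddMonoidHom.ext fun a => grp_ext he fun x => ?_)
    exact resR_self ((show grp he W.unop from a).1 x)
  map_comp i j := by
    refine AddCommGrpCat.hom_ext (AddMonoidHom.ext fun a => grp_ext he fun x => ?_)
    exact (resR_resR _ _ ((show grp he _ from a).1 x)).symm

noncomputable instance (W : (X.Opens)ᵒᵖ) : Module (X.ringCatSheaf.obj.obj W) ((psh he).obj W) :=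
  inferInstanceAs (Module Γ(X, W.unop) (grp he W.unop))

/-- The dual as a presheaf of modules. -/
noncomputable def pmod : X.PresheafOfModules :=
  PresheafOfModules.ofPresheaf (R := X.ringCatSheaf.obj) (psh he) fun W W' i r a =>
    grp_ext he fun x => by
      show resR _ (resR _ (show Γ(X, W.unop) from r) * _) = resR _ (resR _ (show Γ(X, W.unop) from r)) * resR _ _
      rw [map_mul, resR_resR, resR_resR]

theorem isSheaf : Presheaf.IsSheaf (Opens.grothendieckTopology X) (pmod he).presheaf := by
  refine (TopCat.Presheaf.isSheaf_iff_isSheafUniqueGluing (X := X.toPresheafedSpace.carrier)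
    (psh he)).2 fun J W sf hsf => ?_
  have hex : ∀ x : X, ∃! g : Γ(X, iSup W ⊓ U x),
      ∀ j, resR (inf_le_inf_right _ (le_iSup W j)) g = (sf j).1 x := fun x => by
    refine existsUnique_glue (M := Coh.structureModule X) (fun j => W j ⊓ U x)
      (fun j => inf_le_inf_right _ (le_iSup W j)) (fun p hp => ?_) (fun j => (sf j).1 x) fun i j => ?_
    · obtain ⟨j, hj⟩ := Opens.mem_iSup.1 hp.1
      exact ⟨j, hj, hp.2⟩
    · have h := congrArg (fun a : grp he (W i ⊓ W j) => a.1 x) (hsf i j)
      have h' := congrArg (resR (le_inf (le_inf (inf_le_left.trans inf_le_left) (inf_le_right.trans inf_le_left))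
        (inf_le_left.trans inf_le_right) : (W i ⊓ U x) ⊓ (W j ⊓ U x) ≤ (W i ⊓ W j) ⊓ U x)) h
      change resR _ (resR _ _) = resR _ (resR _ _) at h'
      rw [resR_resR, resR_resR] at h'
      exact h'
  choose g hg huniq using hex
  refine ⟨⟨g, fun x y V hV hx hy => ?_⟩, fun j => grp_ext he fun x => hg x j, fun t ht =>
    grp_ext he fun x => huniq x _ fun j => congrArg (fun a : grp he (W j) => a.1 x) (ht j)⟩
  refine eq_of_locally (M := Coh.structureModule X) _ _ fun p hp => ?_
  obtain ⟨j, hj⟩ := Opens.mem_iSup.1 (hV hp)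
  refine ⟨V ⊓ W j, inf_le_left, ⟨hp, hj⟩, ?_⟩
  show resR inf_le_left (resR _ (g y)) = resR inf_le_left (_ * resR _ (g x))
  rw [map_mul, resR_resR, resR_resR, tr_res]
  have h := (sf j).2 x y (V ⊓ W j) inf_le_right (inf_le_left.trans hx) (inf_le_left.trans hy)
  rw [← hg x j, ← hg y j, resR_resR, resR_resR] at h
  exact h

/-- The dual. -/
noncomputable def dual : X.Modules := ⟨pmod he, isSheaf he⟩

/-- A section of the dual as a family. -/
noncomputable def fam {W : X.Opens} (f : Γ(dual he, W)) : grp he W := f

theorem fam_res {W W' : X.Opens} (h : W' ≤ W) (f : Γ(dual he, W)) (x : X) :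
    (fam he (res (dual he) h f)).1 x = resR (inf_le_inf_right _ h) ((fam he f).1 x) := rfl

theorem fam_smul {W : X.Opens} (r : Γ(X, W)) (f : Γ(dual he, W)) (x : X) :
    (fam he (r • f)).1 x = resR inf_le_left r * (fam he f).1 x := rfl

/-- The dual frame. -/
noncomputable def dualFrame (x : X) : Γ(dual he, U x) :=
  (⟨fun y => tr he x y (U x ⊓ U y) inf_le_left inf_le_right, fun a b V hV ha hb => by
    rw [tr_res, tr_res]
    exact tr_trans he x a b V hV ha hb⟩ : grp he (U x))

theorem isFrame_dualFrame (x : X) : IsFrame (dualFrame he x) := fun V h => by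
  constructor
  · intro r r' hr
    have h1 := congrArg (fun f : Γ(dual he, V) => resR (le_inf le_rfl h : V ≤ V ⊓ U x) ((fam he f).1 x)) hr
    have key : ∀ r : Γ(X, V), resR (le_inf le_rfl h : V ≤ V ⊓ U x)
        ((fam he (r • res (dual he) h (dualFrame he x))).1 x) = r := fun r => by
      rw [fam_smul, map_mul, resR_resR, fam_res, resR_resR, resR_self]
      show r * resR _ (tr he x x (U x ⊓ U x) inf_le_left inf_le_right) = r
      rw [tr_res, tr_self, mul_one]
    exact (key r).symm.trans (h1.trans (key r'))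
  · intro f
    refine ⟨resR (le_inf le_rfl h : V ≤ V ⊓ U x) ((fam he f).1 x), ?_⟩
    refine (show Function.Injective (fam he (W := V)) from fun _ _ e => e) (grp_ext he fun y => ?_)
    rw [fam_smul, fam_res, resR_resR]
    show resR _ ((fam he f).1 x) * resR _ (tr he x y (U x ⊓ U y) inf_le_left inf_le_right) = _
    rw [tr_res, mul_comm, ← (fam he f).2 x y (V ⊓ U y) inf_le_left (inf_le_left.trans h) inf_le_right, resR_self]

theorem isInvertible_of_frames {M : X.Modules} (V : X → X.Opens) (hV : ∀ x, x ∈ V x)
    (f : ∀ x, Γ(M, V x)) (hf : ∀ x, IsFrame (f x)) : PicF.IsInvertible M := fun x =>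
  ⟨V x, hV x, InvUfdLib.nonempty_iso_restrict_of_frame (hf x)⟩

/-- The pairing on sections, characterised by its values in the frames. -/
theorem exists_unique_pair (hU : ∀ x, x ∈ U x) {W : X.Opens} (l : Γ(L, W)) (f : Γ(dual he, W)) :
    ∃! g : Γ(X, W), ∀ (x : X) (V : X.Opens) (hV : V ≤ W) (hx : V ≤ U x) (r : Γ(X, V)),
      res L hV l = r • res L hx (e x) → resR hV g = r * resR (le_inf hV hx) ((fam he f).1 x) := by
  have hr := fun x => (he x).exists_coord (inf_le_right : W ⊓ U x ≤ U x) (res L inf_le_left l)
  choose r hr using hr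
  obtain ⟨g, hg, hguniq⟩ := existsUnique_glue (M := Coh.structureModule X) (fun x => W ⊓ U x)
    (fun x => inf_le_left) (fun p hp => ⟨p, hp, hU p⟩) (fun x => r x * (fam he f).1 x) fun x y => by
      show resR _ (r x * _) = resR _ (r y * _)
      let V := (W ⊓ U x) ⊓ (W ⊓ U y)
      have hVW : V ≤ W := inf_le_left.trans inf_le_left
      have hVx : V ≤ U x := inf_le_left.trans inf_le_right
      have hVy : V ≤ U y := inf_le_right.trans inf_le_right
      have h1 := congrArg (res L (inf_le_left : V ≤ W ⊓ U x)) (hr x)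
      have h2 := congrArg (res L (inf_le_right : V ≤ W ⊓ U y)) (hr y)
      rw [res_res, res_smul, res_res] at h1 h2
      rw [tr_spec he x y V hVx hVy, ← mul_smul] at h2
      have h3 := (he x).coord_unique hVx (h1.symm.trans h2)
      rw [map_mul, map_mul, (fam he f).2 x y V hVW hVx hVy, h3]
      ring
  refine ⟨g, fun x V hV hx s hs => ?_, fun g' hg' => hguniq g' fun x => ?_⟩
  · have h1 := congrArg (res L (le_inf hV hx : V ≤ W ⊓ U x)) (hr x)
    rw [res_res, res_smul, res_res, hs] at h1
    rw [(he x).coord_unique hx h1]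
    have h2 := congrArg (resR (le_inf hV hx : V ≤ W ⊓ U x))
      (show resR inf_le_left (show Γ(X, W) from g) = r x * (fam he f).1 x from hg x)
    rw [resR_resR, map_mul] at h2
    exact h2
  · refine (hg' x (W ⊓ U x) inf_le_left inf_le_right (r x) (hr x)).trans ?_
    rw [resR_self]

/-- The pairing. -/
noncomputable def pair (hU : ∀ x, x ∈ U x) (W : X.Opens) (l : Γ(L, W)) (f : Γ(dual he, W)) : Γ(X, W) :=
  (exists_unique_pair he hU l f).choose

theorem pair_spec (hU : ∀ x, x ∈ U x) {W : X.Opens} (l : Γ(L, W)) (f : Γ(dual he, W)) (x : X)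
    (V : X.Opens) (hV : V ≤ W) (hx : V ≤ U x) (r : Γ(X, V)) (h : res L hV l = r • res L hx (e x)) :
    resR hV (pair he hU W l f) = r * resR (le_inf hV hx) ((fam he f).1 x) :=
  (exists_unique_pair he hU l f).choose_spec.1 x V hV hx r h

theorem pair_eq (hU : ∀ x, x ∈ U x) {W : X.Opens} (l : Γ(L, W)) (f : Γ(dual he, W)) (g : Γ(X, W))
    (h : ∀ (x : X) (V : X.Opens) (hV : V ≤ W) (hx : V ≤ U x) (r : Γ(X, V)),
      res L hV l = r • res L hx (e x) → resR hV g = r * resR (le_inf hV hx) ((fam he f).1 x)) :
    pair he hU W l f = g :=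
  ((exists_unique_pair he hU l f).choose_spec.2 g h).symm

/-- The pairing as bilinear data. -/
noncomputable def bilin (hU : ∀ x, x ∈ U x) : TensorDesc.Bilin L (dual he) (Coh.structureModule X) where
  b := pair he hU
  add_left W l l' f := pair_eq he hU _ _ _ fun x V hV hx r h => by
    obtain ⟨r₁, h₁⟩ := (he x).exists_coord hx (res L hV l)
    obtain ⟨r₂, h₂⟩ := (he x).exists_coord hx (res L hV l')
    have hr : r = r₁ + r₂ := (he x).coord_unique hx (by rw [← h, map_add, h₁, h₂, add_smul])
    show resR hV (pair he hU W l f + pair he hU W l' f) = _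
    rw [map_add, pair_spec he hU l f x V hV hx r₁ h₁, pair_spec he hU l' f x V hV hx r₂ h₂, hr, add_mul]
  smul_left W a l f := pair_eq he hU _ _ _ fun x V hV hx r h => by
    obtain ⟨r₁, h₁⟩ := (he x).exists_coord hx (res L hV l)
    have hr : r = resR hV a * r₁ := (he x).coord_unique hx (by rw [← h, res_smul, h₁, mul_smul])
    show resR hV (a * pair he hU W l f) = _
    rw [map_mul, pair_spec he hU l f x V hV hx r₁ h₁, hr, _root_.mul_assoc]
  add_right W l f f' := pair_eq he hU _ _ _ fun x V hV hx r h => by
    show resR hV (pair he hU W l f + pair he hU W l f') = r * resR _ ((fam he f).1 x + (fam he f').1 x)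
    rw [map_add, pair_spec he hU l f x V hV hx r h, pair_spec he hU l f' x V hV hx r h, map_add, mul_add]
  smul_right W a l f := pair_eq he hU _ _ _ fun x V hV hx r h => by
    show resR hV (a * pair he hU W l f) = _
    rw [fam_smul, map_mul, map_mul, resR_resR, pair_spec he hU l f x V hV hx r h]
    ring
  res {W W'} i l f := by
    refine (pair_eq he hU _ _ _ fun x V hV hx r h => ?_).symm
    show resR hV (resR i (pair he hU W l f)) = r * resR _ ((fam he (res (dual he) i f)).1 x)
    rw [resR_resR, fam_res, resR_resR]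
    refine pair_spec he hU l f x V _ hx r ?_
    rw [← h]
    exact (res_res i hV l).symm

theorem pair_frames (hU : ∀ x, x ∈ U x) (x : X) : pair he hU (U x) (e x) (dualFrame he x) = 1 := by
  refine pair_eq he hU _ _ _ fun y V hV hy r h => ?_
  show resR hV 1 = r * resR _ (tr he x y (U x ⊓ U y) inf_le_left inf_le_right)
  rw [map_one, tr_res]
  refine (he x).coord_unique hV ?_
  rw [one_smul, mul_smul, ← tr_spec, h]

/-- An invertible module has a tensor inverse. -/
theorem exists_inverse {L : X.Modules} (hL : PicF.IsInvertible L) :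
    ∃ D : X.Modules, PicF.IsInvertible D ∧ Nonempty (CohB1.tensorMod L D ≅ Coh.structureModule X) := by
  choose U hU e he using InvX.exists_frame hL
  have hD : PicF.IsInvertible (dual he) :=
    isInvertible_of_frames U hU (dualFrame he) (isFrame_dualFrame he)
  refine ⟨dual he, hD, ⟨?_⟩⟩
  let φ := TensorDesc.desc (bilin he hU)
  haveI : IsIso φ := by
    refine Groth.Agent.KFlatLib.isIso_of_stalk φ fun p => ?_
    rw [ConcreteCategory.isIso_iff_bijective]
    obtain ⟨e₁⟩ := InvStalk.exists_stalk_equiv hL p
    obtain ⟨e₂⟩ := InvStalk.exists_stalk_equiv hD p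
    obtain ⟨e₀⟩ := InvStalk.exists_stalk_equiv (InvStalk.isInvertible_structureModule (X := X)) p
    have E : ((DerSch.stalkFunctor X p).obj ((DCoh.tensorBi.obj L).obj (dual he)) : Type u) ≃ₗ[X.presheaf.stalk p]
        X.presheaf.stalk p :=
      (Groth.Agent.KFlatLib.stalkTensorIso p L (dual he)).toLinearEquiv.symm.trans
        ((TensorProduct.congr e₁ e₂).trans (TensorProduct.lid _ _))
    refine InvStalk.bijective_of_surjective E e₀ ((DerSch.stalkFunctor X p).map φ).hom fun y => ?_
    obtain ⟨W, hW, a, rfl⟩ := (Coh.structureModule X).presheaf.exists_germ_eq (x := p) y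
    let V := W ⊓ U p
    refine ⟨(CohB1.tensorMod L (dual he)).presheaf.germ V p ⟨hW, hU p⟩
      (SecTwist.tmul L (dual he) V ((resR (inf_le_left : V ≤ W) (show Γ(X, W) from a)) • res L inf_le_right (e p))
        (res (dual he) inf_le_right (dualFrame he p))), ?_⟩
    refine (DerSch.stalkFunctor_map_germ p φ V ⟨hW, hU p⟩ _).trans ?_
    refine (congrArg _ (TensorDesc.desc_tmul (bilin he hU) V _ _)).trans ?_
    refine Eq.trans ?_ ((Coh.structureModule X).presheaf.germ_res_apply (homOfLE inf_le_left) p ⟨hW, hU p⟩ a)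
    congr 1
    refine ((bilin he hU).smul_left V (resR (inf_le_left : V ≤ W) (show Γ(X, W) from a)) _ _).trans ?_
    rw [show (bilin he hU).b V (res L inf_le_right (e p))
        (res (dual he) inf_le_right (dualFrame he p)) =
      resR inf_le_right (pair he hU (U p) (e p) (dualFrame he p)) from
        ((bilin he hU).res (inf_le_right : V ≤ U p) (e p) (dualFrame he p)).symm, pair_frames, map_one]
    exact mul_one (resR (inf_le_left : V ≤ W) (show Γ(X, W) from a))
  exact asIso φ

end Groth.Agent.H23.PicInv
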