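import Groth.Agent.H23.RepMod
import Groth.Agent.QCoh.FlatBC
import Groth.Agent.S0002

/-!
Global sections of a flat coherent sheaf, after an arbitrary change of the base ring, are
corepresented by one finite module.
-/

universe u

open CategoryTheory CategoryTheory.Limits AlgebraicGeometry TopologicalSpace Opposite TensorProduct

namespace Groth.Agent.H23.SecRep

open Groth.Agent.QCoh

section Glob

variable {X : Scheme.{u}} {A : Type u} [CommRing A] (ρ : A →+* Coh.Γtop X) {ι : Type u} (U : ι → X.Opens)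
  (M : X.Modules)

/-- The cochain of restrictions of a global section. -/
noncomputable def glob (x : Γ(M, ⊤)) : (cxMod ρ U M).X 0 :=
  ⟨fun _ W => M.presheaf.map (homOfLE (le_top : W.1 ≤ ⊤)).op x, fun _ _ _ _ _ _ => QCoh.map_map _ _ _⟩

theorem glob_apply (x : Γ(M, ⊤)) (σ : Fin 1 → ι) (W : {W : X.Opens // Ab.Le U σ W}) :
    (glob ρ U M x).1 σ W = M.presheaf.map (homOfLE (le_top : W.1 ≤ ⊤)).op x := rfl

theorem glob_add (x y : Γ(M, ⊤)) : glob ρ U M (x + y) = glob ρ U M x + glob ρ U M y :=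
  Subtype.ext <| funext₂ fun _ _ => map_add (M.presheaf.map _).hom x y

theorem glob_smul (a : A) (x : Γ(M, ⊤)) : glob ρ U M ((show Γ(X, ⊤) from ρ a) • x) = a • glob ρ U M x :=
  Subtype.ext <| funext₂ fun _ W => map_smul' (M := M) (homOfLE (le_top : W.1 ≤ ⊤)) (ρ a) x

theorem d_apply (c : (cxMod ρ U M).X 0) (σ : Fin 2 → ι) (W : {W : X.Opens // Ab.Le U σ W}) :
    ((cxMod ρ U M).d 0 1 c).1 σ W =
      c.1 (fun b => σ ((0 : Fin 2).succAbove b)) ⟨W.1, fun b => W.2 _⟩ -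
      c.1 (fun b => σ ((1 : Fin 2).succAbove b)) ⟨W.1, fun b => W.2 _⟩ := by
  show ((Ab.natCx M.presheaf U).d 0 (0 + 1) c).1 σ W = _
  rw [Ab.natCx_d]
  show Ab.d c.1 σ W = _
  refine (Fin.sum_univ_two _).trans ?_
  simp [sub_eq_add_neg]

theorem glob_mem (x : Γ(M, ⊤)) : (cxMod ρ U M).d 0 1 (glob ρ U M x) = 0 := by
  refine Subtype.ext <| funext₂ fun σ W => ?_
  rw [d_apply, glob_apply, glob_apply]
  exact sub_self _

theorem glob_injective (hcov : ⨆ i, U i = ⊤) : Function.Injective (glob ρ U M) := by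
  intro x y h
  refine TopCat.Sheaf.eq_of_locally_eq' ⟨M.presheaf, Scheme.Modules.isSheaf M⟩ U ⊤ (fun i => homOfLE le_top)
    hcov.ge _ _ fun i => ?_
  exact congrFun₂ (congrArg Subtype.val h) (fun _ => i) ⟨U i, fun _ => le_rfl⟩

theorem exists_glob (hcov : ⨆ i, U i = ⊤) (c : (cxMod ρ U M).X 0) (hc : (cxMod ρ U M).d 0 1 c = 0) :
    ∃ x, glob ρ U M x = c := by
  let sf : ∀ i, Γ(M, U i) := fun i => c.1 (fun _ => i) ⟨U i, fun _ => le_rfl⟩
  have hsf : ∀ i j, M.presheaf.map (homOfLE (inf_le_left : U i ⊓ U j ≤ U i)).op (sf i) =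
      M.presheaf.map (homOfLE (inf_le_right : U i ⊓ U j ≤ U j)).op (sf j) := by
    intro i j
    have hle : Ab.Le U ![i, j] (U i ⊓ U j) := fun a => by fin_cases a <;> simp
    have h : ((cxMod ρ U M).d 0 1 c).1 ![i, j] ⟨_, hle⟩ = 0 := by rw [hc]; rfl
    rw [d_apply] at h
    rw [c.2 (fun _ => i) (U i) _ (fun _ => le_rfl) (fun _ => inf_le_left),
      c.2 (fun _ => j) (U j) _ (fun _ => le_rfl) (fun _ => inf_le_right)]
    have hcg : ∀ (σ σ' : Fin 1 → ι) (W : X.Opens) (hW : Ab.Le U σ W) (hW' : Ab.Le U σ' W),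
        σ 0 = σ' 0 → c.1 σ ⟨W, hW⟩ = c.1 σ' ⟨W, hW'⟩ := by
      intro σ σ' W hW hW' e
      obtain rfl : σ = σ' := funext fun b => by
        rw [show b = 0 from Fin.fin_one_eq_zero b]
        exact e
      rfl
    refine Eq.trans ?_ (Eq.trans (sub_eq_zero.1 h).symm ?_)
    · exact hcg _ _ _ _ _ rfl
    · exact hcg _ _ _ _ _ rfl
  obtain ⟨x, hx, -⟩ := TopCat.Sheaf.existsUnique_gluing' ⟨M.presheaf, Scheme.Modules.isSheaf M⟩ U ⊤
    (fun i => homOfLE le_top) hcov.ge sf hsf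
  refine ⟨x, Subtype.ext <| funext₂ fun σ W => ?_⟩
  have hσ : σ = fun _ => σ 0 := funext fun b => congrArg σ (Fin.fin_one_eq_zero b)
  rw [glob_apply]
  obtain ⟨W, hW⟩ := W
  obtain ⟨i, rfl⟩ : ∃ i, σ = fun _ => i := ⟨σ 0, hσ⟩
  rw [← c.2 (fun _ => i) (U i) W (fun _ => le_rfl) hW (homOfLE (hW 0))]
  show M.presheaf.map _ x = M.presheaf.map _ (sf i)
  rw [← hx i]
  exact (QCoh.map_map _ _ _).symm

end Glob

section BC

variable {A B : Type u} [CommRing A] [CommRing B] [Algebra A B] {X X' : Scheme.{u}}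
  (ρ : A →+* Coh.Γtop X) (ρ' : B →+* Coh.Γtop X') (φ : X' ⟶ X)
  (hρ : ∀ a, ρ' (algebraMap A B a) = φ.appTop (ρ a))
  {ι : Type u} (U : ι → X.Opens) {M : X.Modules} {M' : X'.Modules}
  (η : M ⟶ (Scheme.Modules.pushforward φ).obj M')

/-- `C ⊗ B → C'`. -/
noncomputable def cxBC (p : ℕ) :
    (cxMod ρ U M).X p ⊗[A] B →+ (cxMod ρ' (fun i => φ ⁻¹ᵁ U i) M').X p :=
  (adjunct ((cxModMap ρ ρ' U φ η hρ).f p)).hom.toAddMonoidHom.comp
    (TensorProduct.comm A ((cxMod ρ U M).X p) B).toAddMonoidHom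

theorem cxBC_tmul (p : ℕ) (c : (cxMod ρ U M).X p) (b : B) :
    cxBC ρ ρ' φ hρ U η p (c ⊗ₜ b) =
      b • (show (cxMod ρ' (fun i => φ ⁻¹ᵁ U i) M').X p from cochainMap U φ η p c) :=
  adjunct_tmul ((cxModMap ρ ρ' U φ η hρ).f p) b c

theorem cxBC_bijective [Finite ι] (hbc : IsBC ρ ρ' U φ η hρ) (p : ℕ) :
    Function.Bijective (cxBC ρ ρ' φ hρ U η p) :=
  (bijective_adjunct_cxModMap ρ ρ' U φ η hρ hbc p).comp
    (TensorProduct.comm A ((cxMod ρ U M).X p) B).bijective

theorem cxBC_d (p : ℕ) (z : (cxMod ρ U M).X p ⊗[A] B) :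
    (cxMod ρ' (fun i => φ ⁻¹ᵁ U i) M').d p (p + 1) (cxBC ρ ρ' φ hρ U η p z) =
      cxBC ρ ρ' φ hρ U η (p + 1) (((cxMod ρ U M).d p (p + 1)).hom.rTensor B z) := by
  induction z using TensorProduct.induction_on with
  | zero => simp
  | add a b ha hb => simp only [map_add, ha, hb]
  | tmul c b =>
    rw [cxBC_tmul, LinearMap.rTensor_tmul, cxBC_tmul]
    refine (((cxMod ρ' (fun i => φ ⁻¹ᵁ U i) M').d p (p + 1)).hom.map_smul b _).trans ?_
    refine congrArg (b • ·) ?_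
    exact ConcreteCategory.congr_hom ((cxModMap ρ ρ' U φ η hρ).comm p (p + 1)) c

theorem cxBC_mul (p : ℕ) (b : B) (z : (cxMod ρ U M).X p ⊗[A] B) :
    cxBC ρ ρ' φ hρ U η p ((LinearMap.mulLeft A b).lTensor _ z) = b • cxBC ρ ρ' φ hρ U η p z := by
  induction z using TensorProduct.induction_on with
  | zero => simp
  | add x y hx hy => simp only [map_add, smul_add, hx, hy]
  | tmul c b' => rw [LinearMap.lTensor_tmul, cxBC_tmul, cxBC_tmul, LinearMap.mulLeft_apply, mul_smul]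

theorem cxBC_algebraMap (p : ℕ) (z : (cxMod ρ U M).X p ⊗[A] A) :
    cxBC ρ ρ' φ hρ U η p ((Algebra.linearMap A B).lTensor _ z) =
      cochainMap U φ η p (TensorProduct.rid A ((cxMod ρ U M).X p) z) := by
  let L : (cxMod ρ U M).X p →+ (cxMod ρ' (fun i => φ ⁻¹ᵁ U i) M').X p :=
    AddMonoidHom.mk' (fun c => cochainMap U φ η p c) fun c c' => ((cxModMap ρ ρ' U φ η hρ).f p).hom.map_add c c'
  show _ = L _
  induction z using TensorProduct.induction_on with
  | zero => simp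
  | add x y hx hy => simp only [map_add, hx, hy]
  | tmul c a =>
    rw [LinearMap.lTensor_tmul, cxBC_tmul, TensorProduct.rid_tmul]
    exact (((cxModMap ρ ρ' U φ η hρ).f p).hom.map_smul a c).symm

omit [Algebra A B] in
theorem cochainMap_glob (x : Γ(M, ⊤)) :
    cochainMap U φ η 0 (glob ρ U M x) = glob ρ' (fun i => φ ⁻¹ᵁ U i) M' (secMap φ η (le_of_eq rfl) x) := by
  refine Subtype.ext <| funext₂ fun σ W => ?_
  show secMap φ η _ (M.presheaf.map _ x) = M'.presheaf.map _ (secMap φ η _ x)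
  rw [secMap_map, map_secMap]

end BC

variable {A : Type u} [CommRing A] [IsNoetherianRing A] {X : Scheme.{u}} [X.Over (Spec (CommRingCat.of A))]
  [IsProper (X ↘ Spec (CommRingCat.of A))]

/-- The section attached to a form on `Q`, over every base. -/
def IsRep (F : X.Modules) (Q : ModuleCat.{u} A) (e : (Q →ₗ[A] A) ≃+ Γ(F, ⊤)) : Prop :=
  ∀ (B : Type u) [CommRing B] [Algebra A B] (X' : Scheme.{u}) (φ : X' ⟶ X) (pB : X' ⟶ Spec (CommRingCat.of B)),
    IsPullback φ pB (X ↘ Spec (CommRingCat.of A)) (Spec.map (CommRingCat.ofHom (algebraMap A B))) →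
    ∃ eB : (Q →ₗ[A] B) ≃+ Γ((Scheme.Modules.pullback φ).obj F, ⊤),
      (∀ (b : B) (f : Q →ₗ[A] B), eB (LinearMap.mulLeft A b ∘ₗ f) = (show Γ(X', ⊤) from Coh.toGlobal pB b) • eB f) ∧
      ∀ f : Q →ₗ[A] A, eB (Algebra.linearMap A B ∘ₗ f) = InvX.pullElt φ (e f)

theorem exists_rep (F : X.Modules) (hF : Coh.IsCoh F)
    (hfl : FlatMod.IsFlatOver (X ↘ Spec (CommRingCat.of A)) F) :
    ∃ (Q : ModuleCat.{u} A) (_ : Module.Finite A Q) (e : (Q →ₗ[A] A) ≃+ Γ(F, ⊤)), IsRep F Q e := by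
  haveI : CompactSpace X := QuasiCompact.compactSpace_of_compactSpace (X ↘ Spec (CommRingCat.of A))
  haveI : X.IsSeparated := ⟨by
    rw [← Limits.terminal.comp_from (X ↘ Spec (CommRingCat.of A))]
    infer_instance⟩
  have hq : Coh.IsQCoh F := hF.1
  obtain ⟨ι, _, U, hcov, hU⟩ := exists_affine_cover (X := X)
  obtain ⟨d, hd⟩ := exists_HH_bound (X := X)
  have hfin : ∀ p, Module.Finite A ((cechA (A := A) F U).homology p) := fun p => by
    have hf : Module.Finite A (Coh.HH X F p) := Groth.Agent.S0002.result A X F hF p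
    obtain ⟨e⟩ := cxMod_homology_equiv (Coh.toGlobal (X ↘ Spec (CommRingCat.of A))) U hcov hU hq p
    exact @Module.Finite.equiv _ _ _ _ _ _ _ _ hf e.symm
  obtain ⟨Q, hQ, eQ, hnat⟩ := RepMod.exists_repMod (cechA (A := A) F U) (flat_cechA F hq hfl hU) hfin d
    fun M p hp => by
      obtain ⟨e⟩ := nonempty_tfun_iso (A := A) F hq hcov hU p
      rw [HomologicalComplex.exactAt_iff_isZero_homology, ModuleCat.isZero_iff_subsingleton]
      have : Subsingleton (Coh.HH X (tA F M) p) := hd _ (isQCoh_tA F hq M) p hp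
      exact (e.app M).addCommGroupIsoToAddEquiv.toEquiv.subsingleton_congr.2 this
  let ρ := Coh.toGlobal (X ↘ Spec (CommRingCat.of A))
  let r := TensorProduct.rid A ((cechA (A := A) F U).X 0)
  have hr : ∀ z, ((cechA (A := A) F U).d 0 1).hom (r z) =
      TensorProduct.rid A _ (((cechA (A := A) F U).d 0 1).hom.rTensor A z) := by
    intro z
    induction z using TensorProduct.induction_on with
    | zero => simp
    | add x y hx hy => simp only [map_add, hx, hy]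
    | tmul c a => simp [r]
  let gl : Γ(F, ⊤) →+ LinearMap.ker (((cechA (A := A) F U).d 0 1).hom.rTensor A) :=
    AddMonoidHom.mk' (fun x => ⟨r.symm (glob ρ U F x), (TensorProduct.rid A _).injective (by
        rw [← hr, LinearEquiv.apply_symm_apply, map_zero]
        exact glob_mem ρ U F x)⟩)
      fun x y => Subtype.ext ((congrArg r.symm (glob_add ρ U F x y)).trans (map_add _ _ _))
  have hgl : Function.Bijective gl := by
    refine ⟨fun x y h => glob_injective ρ U F hcov (r.symm.injective (congrArg Subtype.val h)), fun z => ?_⟩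
    obtain ⟨x, hx⟩ := exists_glob ρ U F hcov (r z.1) (by rw [hr, LinearMap.mem_ker.1 z.2, map_zero])
    refine ⟨x, Subtype.ext ?_⟩
    show r.symm (glob ρ U F x) = z.1
    rw [hx, LinearEquiv.symm_apply_apply]
  let eA : (Q →ₗ[A] A) ≃+ Γ(F, ⊤) := (eQ A).toAddEquiv.trans (AddEquiv.ofBijective gl hgl).symm
  refine ⟨Q, hQ, eA, fun B _ _ X' φ pB hpb => ?_⟩
  let η : F ⟶ (Scheme.Modules.pushforward φ).obj ((Scheme.Modules.pullback φ).obj F) :=
    (Scheme.Modules.pullbackPushforwardAdjunction φ).unit.app F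
  let U' := fun i => φ ⁻¹ᵁ U i
  let F' := (Scheme.Modules.pullback φ).obj F
  let ρ' := Coh.toGlobal pB
  have hρ := toGlobal_comm (X ↘ Spec (CommRingCat.of A)) pB φ hpb.w
  have hcov' : ⨆ i, U' i = ⊤ := by rw [← Scheme.Hom.preimage_iSup, hcov]; rfl
  have hbc : IsBC ρ ρ' U φ η hρ := by
    intro p σ W hW h
    obtain rfl : W = φ ⁻¹ᵁ ⨅ a, U (σ a) := by
      rw [hW]
      ext1
      simp [Opens.coe_iInf, Set.preimage_iInter]
    exact isAffineBC_of_isPullback hpb hq _ (hU σ)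
  let Φ := fun p => AddEquiv.ofBijective _ (cxBC_bijective ρ ρ' φ hρ U η hbc p)
  let gl' : Γ(F', ⊤) →+ LinearMap.ker (((cechA (A := A) F U).d 0 1).hom.rTensor B) :=
    AddMonoidHom.mk' (fun x => ⟨(Φ 0).symm (glob ρ' U' F' x), (Φ 1).injective (by
        show cxBC ρ ρ' φ hρ U η (0 + 1) _ = cxBC ρ ρ' φ hρ U η (0 + 1) 0
        rw [← cxBC_d, map_zero]
        show (cxMod ρ' U' F').d 0 1 (Φ 0 ((Φ 0).symm _)) = 0
        rw [AddEquiv.apply_symm_apply]
        exact glob_mem ρ' U' F' x)⟩)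
      fun x y => Subtype.ext ((congrArg (Φ 0).symm (glob_add ρ' U' F' x y)).trans (map_add _ _ _))
  have hgl' : Function.Bijective gl' := by
    refine ⟨fun x y h => glob_injective ρ' U' F' hcov' ((Φ 0).symm.injective (congrArg Subtype.val h)),
      fun z => ?_⟩
    obtain ⟨x, hx⟩ := exists_glob ρ' U' F' hcov' (Φ 0 z.1) ((cxBC_d ρ ρ' φ hρ U η 0 z.1).trans (by
      rw [show ((cxMod ρ U F).d 0 (0 + 1)).hom.rTensor B z.1 = 0 from LinearMap.mem_ker.1 z.2, map_zero]))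
    refine ⟨x, Subtype.ext ?_⟩
    show (Φ 0).symm (glob ρ' U' F' x) = z.1
    rw [hx, AddEquiv.symm_apply_apply]
  let eB : (Q →ₗ[A] B) ≃+ Γ(F', ⊤) := (eQ B).toAddEquiv.trans (AddEquiv.ofBijective gl' hgl').symm
  have key : ∀ f, glob ρ' U' F' (eB f) = cxBC ρ ρ' φ hρ U η 0 (eQ B f).1 := by
    intro f
    have h : gl' (eB f) = eQ B f := (AddEquiv.ofBijective gl' hgl').apply_symm_apply _
    exact ((Φ 0).apply_symm_apply _).symm.trans (congrArg (fun z => Φ 0 z.1) h)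
  have keyA : ∀ f, glob ρ U F (eA f) = r (eQ A f).1 := by
    intro f
    have h : gl (eA f) = eQ A f := (AddEquiv.ofBijective gl hgl).apply_symm_apply _
    exact (r.apply_symm_apply _).symm.trans (congrArg (fun z => r z.1) h)
  refine ⟨eB, fun b f => glob_injective ρ' U' F' hcov' ?_, fun f => glob_injective ρ' U' F' hcov' ?_⟩
  · rw [key, glob_smul, key, hnat]
    exact cxBC_mul ρ ρ' φ hρ U η 0 b _
  · rw [key, hnat, cxBC_algebraMap, ← keyA, cochainMap_glob (A := A) ρ ρ' φ U η]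
    refine congrArg (glob ρ' U' F') ?_
    show secMap φ η _ (eA f) = _
    exact map_id' _ _

end Groth.Agent.H23.SecRep
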