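import Mathlib.AlgebraicGeometry.AffineScheme
import Mathlib.AlgebraicGeometry.Morphisms.Flat
import Mathlib.AlgebraicGeometry.Morphisms.Proper
import Mathlib.AlgebraicGeometry.Morphisms.UniversallyOpen
import Mathlib.AlgebraicGeometry.Geometrically.Integral
import Mathlib.AlgebraicGeometry.Noetherian
import Mathlib.AlgebraicGeometry.PullbackCarrier
import Mathlib.CategoryTheory.Monoidal.Cartesian.Over
import Mathlib.LinearAlgebra.Dimension.Constructions

/-!
Rigidity: maps constant on the fibres of a surjective closed morphism `ξ` with `O_S = ξ_* O_X` factor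
through `ξ`; `O_T = p_* O_{V × T}` for `V` proper and geometrically integral over a field.
-/

universe u

open CategoryTheory Limits AlgebraicGeometry TopologicalSpace

namespace Groth.Agent.H23.Rigid

variable {X Y S : Scheme.{u}}

lemma app_restrict_bijective (ξ : X ⟶ S) (h0 : ∀ U : S.Opens, Function.Bijective (ξ.app U))
    (U : S.Opens) (W : U.toScheme.Opens) : Function.Bijective ((ξ ∣_ U).app W) := by
  have h1 : IsIso (ξ.app (U.ι ''ᵁ W)) := (ConcreteCategory.isIso_iff_bijective _).mpr (h0 _)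
  have h2 : IsIso (X.presheaf.map (eqToHom (image_morphismRestrict_preimage ξ U W)).op) := inferInstance
  have h3 : IsIso (ξ.app (U.ι ''ᵁ W) ≫ _) := IsIso.comp_isIso' h1 h2
  rw [← ConcreteCategory.isIso_iff_bijective]
  exact morphismRestrict_app ξ U W ▸ h3

/-- A closed morphism with `O_S = ξ_* O_X` is surjective. -/
lemma surjective_of_bijective_app (ξ : X ⟶ S) (h0 : ∀ U : S.Opens, Function.Bijective (ξ.app U))
    (hcl : IsClosedMap ξ) : Function.Surjective ξ := by
  intro s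
  by_contra hs
  let U : S.Opens := ⟨(Set.range ξ)ᶜ, hcl.isClosed_range.isOpen_compl⟩
  have hU : ξ ⁻¹ᵁ U = ⊥ := by
    ext x
    change ξ x ∈ (Set.range ξ)ᶜ ↔ False
    simp
  have : Nonempty U := ⟨⟨s, hs⟩⟩
  have : Subsingleton Γ(X, ξ ⁻¹ᵁ U) := by rw [hU]; infer_instance
  have : Subsingleton Γ(S, U) := (h0 U).1.subsingleton
  exact not_nontrivial Γ(S, U) inferInstance

/-- A surjective morphism with `O_S = ξ_* O_X` can be cancelled on the left. -/
lemma cancel_left (ξ : X ⟶ S) (h0 : ∀ U : S.Opens, Function.Bijective (ξ.app U))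
    (hsurj : Function.Surjective ξ) (r r' : S ⟶ Y) (h : ξ ≫ r = ξ ≫ r') : r = r' := by
  have hpt : ∀ s, r s = r' s := fun s => by
    obtain ⟨x, rfl⟩ := hsurj s
    exact congr($h x)
  choose V hV hmem using fun y : Y => (by
    obtain ⟨_, ⟨W, hW, rfl⟩, hy, -⟩ := Y.isBasis_affineOpens.exists_subset_of_mem_open (Set.mem_univ y) isOpen_univ
    exact ⟨W, hW, hy⟩ : ∃ W : Y.Opens, IsAffineOpen W ∧ y ∈ W)
  refine Scheme.Cover.hom_ext (S.openCoverOfIsOpenCover (fun y => r ⁻¹ᵁ (V y))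
    (.mk (eq_top_iff.mpr fun s _ => Opens.mem_iSup.mpr ⟨r s, hmem (r s)⟩))) _ _ fun y => ?_
  change (r ⁻¹ᵁ V y).ι ≫ r = (r ⁻¹ᵁ V y).ι ≫ r'
  have : IsAffine (V y) := hV y
  have h1 : Set.range ((r ⁻¹ᵁ V y).ι ≫ r) ⊆ Set.range (V y).ι := by
    rintro _ ⟨z, rfl⟩; rw [Scheme.Opens.range_ι]; exact z.2
  have h2 : Set.range ((r ⁻¹ᵁ V y).ι ≫ r') ⊆ Set.range (V y).ι := by
    rintro _ ⟨z, rfl⟩; rw [Scheme.Opens.range_ι]
    change r' z.1 ∈ V y
    rw [← hpt]; exact z.2
  rw [← IsOpenImmersion.lift_fac (V y).ι _ h1, ← IsOpenImmersion.lift_fac (V y).ι _ h2]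
  congr 1
  refine ext_of_isAffine ?_
  let g := ξ ∣_ (r ⁻¹ᵁ V y)
  have hg : Function.Injective g.appTop := (app_restrict_bijective ξ h0 _ ⊤).1
  have he : g ≫ IsOpenImmersion.lift (V y).ι _ h1 = g ≫ IsOpenImmersion.lift (V y).ι _ h2 := by
    rw [← cancel_mono (V y).ι, Category.assoc, Category.assoc, IsOpenImmersion.lift_fac,
      IsOpenImmersion.lift_fac, morphismRestrict_ι_assoc, morphismRestrict_ι_assoc, h]
  ext a
  apply hg
  have := congr(($he).appTop a)
  simpa using this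

/-- Factorization over an open of the base whose preimage maps into an affine open. -/
lemma exists_factor_of_le (ξ : X ⟶ S) (h0 : ∀ U : S.Opens, Function.Bijective (ξ.app U))
    (f : X ⟶ Y) (U : S.Opens) (V : Y.Opens) (hV : IsAffineOpen V) (h : ξ ⁻¹ᵁ U ≤ f ⁻¹ᵁ V) :
    ∃ r : U.toScheme ⟶ Y, (ξ ∣_ U) ≫ r = (ξ ⁻¹ᵁ U).ι ≫ f := by
  have : IsAffine V := hV
  let g := ξ ∣_ U
  have : IsIso g.appTop := (ConcreteCategory.isIso_iff_bijective _).mpr (app_restrict_bijective ξ h0 U ⊤)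
  have h1 : Set.range ((ξ ⁻¹ᵁ U).ι ≫ f) ⊆ Set.range V.ι := by
    rintro _ ⟨z, rfl⟩; rw [Scheme.Opens.range_ι]; exact h z.2
  let w := IsOpenImmersion.lift V.ι _ h1
  refine ⟨(U.toScheme.toSpecΓ ≫ Spec.map (w.appTop ≫ inv g.appTop) ≫ V.toScheme.isoSpec.inv) ≫ V.ι, ?_⟩
  rw [← IsOpenImmersion.lift_fac V.ι _ h1, ← Category.assoc]
  congr 1
  rw [← cancel_mono V.toScheme.isoSpec.hom]
  simp only [Category.assoc, Iso.inv_hom_id, Category.comp_id]
  rw [Scheme.toSpecΓ_naturality_assoc, ← Spec.map_comp, Category.assoc, IsIso.inv_hom_id, Category.comp_id,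
    Scheme.isoSpec_hom, Scheme.toSpecΓ_naturality]

/-- Over the locus where `f` is fibrewise constant, near each point it lands in an affine open. -/
lemma exists_nhd_collapsed (ξ : X ⟶ S) (hcl : IsClosedMap ξ) (f : X ⟶ Y) (s : S)
    (hs : ∃ y : Y, ∀ x : X, ξ x = s → f x = y) :
    ∃ (U : S.Opens) (V : Y.Opens), IsAffineOpen V ∧ s ∈ U ∧ ξ ⁻¹ᵁ U ≤ f ⁻¹ᵁ V := by
  obtain ⟨y, hy⟩ := hs
  obtain ⟨_, ⟨V, hV, rfl⟩, hyV, -⟩ := Y.isBasis_affineOpens.exists_subset_of_mem_open (Set.mem_univ y) isOpen_univ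
  refine ⟨⟨(ξ '' ((f ⁻¹ᵁ V : X.Opens) : Set X)ᶜ)ᶜ, (hcl _ (f ⁻¹ᵁ V).isOpen.isClosed_compl).isOpen_compl⟩,
    V, hV, ?_, fun x hx => ?_⟩
  · rintro ⟨x, hx, hxs⟩
    exact hx (show f x ∈ V from (hy x hxs).symm ▸ hyV)
  · by_contra hx'
    exact hx ⟨x, hx', rfl⟩

lemma collapsed_of_factor (ξ : X ⟶ S) (f : X ⟶ Y) (U : S.Opens) (r : U.toScheme ⟶ Y)
    (hr : (ξ ∣_ U) ≫ r = (ξ ⁻¹ᵁ U).ι ≫ f) (s : S) (hs : s ∈ U) :
    ∃ y : Y, ∀ x : X, ξ x = s → f x = y := by
  refine ⟨r ⟨s, hs⟩, fun x hx => ?_⟩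
  have hx' : x ∈ ξ ⁻¹ᵁ U := show ξ x ∈ U from hx.symm ▸ hs
  have := congr($hr ⟨x, hx'⟩)
  refine this.symm.trans (congrArg r (Subtype.ext ?_))
  exact (congr($(morphismRestrict_ι ξ U) ⟨x, hx'⟩)).trans hx

/-- A map constant on all fibres factors. -/
lemma exists_factor (ξ : X ⟶ S) (h0 : ∀ U : S.Opens, Function.Bijective (ξ.app U))
    (hcl : IsClosedMap ξ) (f : X ⟶ Y) (h : ∀ s : S, ∃ y : Y, ∀ x : X, ξ x = s → f x = y) :
    ∃ r : S ⟶ Y, ξ ≫ r = f := by
  choose U V hV hsU hle using fun s => exists_nhd_collapsed ξ hcl f s (h s)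
  choose r hr using fun s => exists_factor_of_le ξ h0 f (U s) (V s) (hV s) (hle s)
  let 𝒰 := S.openCoverOfIsOpenCover U (.mk (eq_top_iff.mpr fun s _ => Opens.mem_iSup.mpr ⟨s, hsU s⟩))
  have hsurj := surjective_of_bijective_app ξ h0 hcl
  have agree : ∀ a b (W : S.Opens) (ha : W ≤ U a) (hb : W ≤ U b),
      S.homOfLE ha ≫ r a = S.homOfLE hb ≫ r b := by
    intro a b W ha hb
    refine cancel_left (ξ ∣_ W) (app_restrict_bijective ξ h0 W) (fun w => ?_) _ _ ?_
    · obtain ⟨x, hx⟩ := hsurj w.1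
      exact ⟨⟨x, show ξ x ∈ W from hx.symm ▸ w.2⟩,
        Subtype.ext ((congr($(morphismRestrict_ι ξ W) ⟨x, show ξ x ∈ W from hx.symm ▸ w.2⟩)).trans hx)⟩
    · have key : ∀ c (hc : W ≤ U c), (ξ ∣_ W) ≫ S.homOfLE hc ≫ r c = (ξ ⁻¹ᵁ W).ι ≫ f := by
        intro c hc
        have : (ξ ∣_ W) ≫ S.homOfLE hc = X.homOfLE (ξ.preimage_mono hc) ≫ (ξ ∣_ U c) := by
          rw [← cancel_mono (U c).ι]
          simp
        rw [← Category.assoc, this, Category.assoc, hr, ← Category.assoc, Scheme.homOfLE_ι]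
      rw [key a ha, key b hb]
  refine ⟨𝒰.glueMorphisms r fun a b => ?_, ?_⟩
  · let p := pullback.fst (U a).ι (U b).ι ≫ (U a).ι
    have hp : Set.range p ⊆ Set.range (U a ⊓ U b).ι := by
      rintro _ ⟨z, rfl⟩
      rw [Scheme.Opens.range_ι]
      refine ⟨(pullback.fst (U a).ι (U b).ι z).2, ?_⟩
      have : p z = (pullback.snd (U a).ι (U b).ι ≫ (U b).ι) z := by simp only [p, pullback.condition]
      change p z ∈ U b
      rw [this]
      exact (pullback.snd (U a).ι (U b).ι z).2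
    let L := IsOpenImmersion.lift (U a ⊓ U b).ι p hp
    have hfst : pullback.fst (U a).ι (U b).ι = L ≫ S.homOfLE inf_le_left := by
      rw [← cancel_mono (U a).ι, Category.assoc, Scheme.homOfLE_ι, IsOpenImmersion.lift_fac]
    have hsnd : pullback.snd (U a).ι (U b).ι = L ≫ S.homOfLE inf_le_right := by
      rw [← cancel_mono (U b).ι, Category.assoc, Scheme.homOfLE_ι, IsOpenImmersion.lift_fac]
      exact pullback.condition.symm
    change pullback.fst (U a).ι (U b).ι ≫ r a = pullback.snd (U a).ι (U b).ι ≫ r b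
    rw [hfst, hsnd, Category.assoc, Category.assoc, agree a b _ inf_le_left inf_le_right]
  · refine Scheme.Cover.hom_ext (X.openCoverOfIsOpenCover (fun s => ξ ⁻¹ᵁ U s)
      (.mk (eq_top_iff.mpr fun x _ => Opens.mem_iSup.mpr ⟨ξ x, hsU (ξ x)⟩))) _ _ fun s => ?_
    change (ξ ⁻¹ᵁ U s).ι ≫ ξ ≫ _ = (ξ ⁻¹ᵁ U s).ι ≫ f
    rw [← morphismRestrict_ι_assoc]
    erw [𝒰.ι_glueMorphisms]
    exact hr s

/-! ## Base change of global functions over a field -/

section Field

variable {k : Type u} [Field k]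

/-- The global functions of a proper geometrically integral scheme over a field are the constants. -/
lemma bijective_appTop {V : Scheme.{u}} (v : V ⟶ Spec (CommRingCat.of k))
    [IsProper v] [GeometricallyIntegral v] : Function.Bijective v.appTop := by
  have : IsIntegral V := GeometricallyIntegral.isIntegral_of_subsingleton v
  have : CompactSpace V := (quasiCompact_iff_compactSpace v).mp inferInstance
  have : QuasiSeparatedSpace V := (quasiSeparated_iff_quasiSeparatedSpace v).mp inferInstance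
  let φ : CommRingCat.of k ⟶ Γ(V, ⊤) := (Scheme.ΓSpecIso _).inv ≫ v.appTop
  have hφ : v.appTop = (Scheme.ΓSpecIso _).hom ≫ φ := by simp [φ]
  have hfin : φ.hom.Finite := by
    have h := finite_appTop_of_universallyClosed k v
    exact h.comp (RingHom.Finite.of_surjective _
      (ConcreteCategory.bijective_of_isIso (Scheme.ΓSpecIso (CommRingCat.of k)).inv).2)
  -- base change to `L = Γ(V)`
  let t : Spec Γ(V, ⊤) ⟶ Spec (CommRingCat.of k) := Spec.map φ
  have : Flat t := by
    rw [HasRingHomProperty.Spec_iff (P := @Flat)]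
    let := φ.hom.toAlgebra
    exact (inferInstance : Module.Flat k Γ(V, ⊤))
  have hFd : IsField Γ(V, ⊤) := isField_of_universallyClosed k v
  have : IsLocallyNoetherian (Spec Γ(V, ⊤)) := by
    have : IsNoetherianRing Γ(V, ⊤) := by let := hFd.toField; infer_instance
    infer_instance
  have : IsIntegral (Spec Γ(V, ⊤)) := inferInstance
  have : IsIntegral (pullback v t) := inferInstance
  have hdom : IsDomain Γ(pullback v t, ⊤) := inferInstance
  have H := IsPullback.of_hasPullback v t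
  have hiso := isIso_pushoutSection_of_isQuasiSeparated_of_flat_right H (US := ⊤) (UT := ⊤) (UX := ⊤)
    (UY := ⊤) le_top le_top (by simp) (isAffineOpen_top _) (isAffineOpen_top _) isCompact_univ
    isQuasiSeparated_univ
  rw [isIso_pushoutSection_iff] at hiso
  let e : Γ(Spec Γ(V, ⊤), ⊤) ≅ Γ(V, ⊤) := Scheme.ΓSpecIso _
  have he : t.appLE ⊤ ⊤ le_top ≫ e.hom = (Scheme.ΓSpecIso _).hom ≫ φ := by
    rw [show t.appLE ⊤ ⊤ le_top = t.appTop by simp [Scheme.Hom.appLE]]
    exact Scheme.ΓSpecIso_naturality φ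
  have hpo' : IsPushout φ φ ((pullback.fst v t).appLE ⊤ ⊤ (by simp))
      (e.inv ≫ (pullback.snd v t).appLE ⊤ ⊤ (by simp)) :=
    hiso.of_iso (Scheme.ΓSpecIso _) (Iso.refl _) e (Iso.refl _)
      (by simp [Scheme.Hom.appLE, hφ]) he (by simp) (by simp)
  algebraize [φ.hom]
  have hpo : IsPushout φ φ
      (CommRingCat.ofHom Algebra.TensorProduct.includeLeftRingHom :
        Γ(V, ⊤) ⟶ CommRingCat.of (TensorProduct k Γ(V, ⊤) Γ(V, ⊤)))
      (CommRingCat.ofHom Algebra.TensorProduct.includeRight.toRingHom) :=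
    CommRingCat.isPushout_tensorProduct k Γ(V, ⊤) Γ(V, ⊤)
  let ε := (hpo.isoIsPushout _ _ hpo').commRingCatIsoToRingEquiv
  have : IsDomain (TensorProduct k Γ(V, ⊤) Γ(V, ⊤)) := ε.toMulEquiv.isDomain _
  have hL : Module.finrank k Γ(V, ⊤) = 1 := by
    let μ := Algebra.TensorProduct.lmul' (S := Γ(V, ⊤)) k
    have hinj : Function.Injective μ := by
      letI : Field (TensorProduct k Γ(V, ⊤) Γ(V, ⊤)) :=
        (Algebra.IsIntegral.isField_iff_isField (R := k) (algebraMap k _).injective).mp (Field.toIsField k) |>.toField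
      exact μ.toRingHom.injective
    have := LinearMap.finrank_le_finrank_of_injective (f := μ.toLinearMap) hinj
    rw [Module.finrank_tensorProduct] at this
    have hpos : 0 < Module.finrank k Γ(V, ⊤) := Module.finrank_pos
    nlinarith
  have hbot := (Subalgebra.bot_eq_top_iff_finrank_eq_one (F := k) (E := Γ(V, ⊤))).mpr hL
  have hbij : Function.Bijective φ.hom := ⟨φ.hom.injective, fun x => by
    obtain ⟨c, hc⟩ := Algebra.mem_bot.mp (hbot.symm ▸ Algebra.mem_top : x ∈ (⊥ : Subalgebra k Γ(V, ⊤)))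
    exact ⟨c, hc⟩⟩
  rw [hφ]
  exact hbij.comp (ConcreteCategory.bijective_of_isIso (Scheme.ΓSpecIso (CommRingCat.of k)).hom)

/-- `O_T = p_* O_{V × T}` for `V` qcqs over a field `k` with `Γ(V) = k`. -/
lemma bijective_app_snd_of_bijective {V T : Scheme.{u}} (v : V ⟶ Spec (CommRingCat.of k)) (t : T ⟶ Spec (CommRingCat.of k))
    [QuasiCompact v] [QuasiSeparated v] (hv : Function.Bijective v.appTop) (U : T.Opens) :
    Function.Bijective ((pullback.snd v t).app U) := by
  let p := pullback.snd v t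
  have : Flat v := inferInstance
  have aff : ∀ W : T.Opens, IsAffineOpen W → Function.Bijective (p.app W) := by
    intro W hW
    have : Flat t := inferInstance
    have hiso := isIso_pushoutSection_of_isQuasiSeparated_of_flat_right (IsPullback.of_hasPullback v t)
      (US := ⊤) (UT := W) (UX := ⊤) (UY := p ⁻¹ᵁ W) le_top le_top (by simp [p]) (isAffineOpen_top _) hW
      (by
        have : CompactSpace V := (quasiCompact_iff_compactSpace v).mp inferInstance
        exact isCompact_univ)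
      (by
        have : QuasiSeparatedSpace V := (quasiSeparated_iff_quasiSeparatedSpace v).mp inferInstance
        exact isQuasiSeparated_univ)
    rw [isIso_pushoutSection_iff] at hiso
    have : IsIso (v.appLE ⊤ ⊤ le_top) := by
      rw [show v.appLE ⊤ ⊤ le_top = v.appTop by simp [Scheme.Hom.appLE]]
      exact (ConcreteCategory.isIso_iff_bijective _).mpr hv
    have := hiso.isIso_inr_of_isIso
    rw [Scheme.Hom.app_eq_appLE]
    exact ConcreteCategory.bijective_of_isIso _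
  let F : TopCat.Sheaf CommRingCat.{u} T := T.sheaf
  let G : TopCat.Sheaf CommRingCat.{u} T := (TopCat.Sheaf.pushforward _ p.base).obj (pullback v t).sheaf
  let φ : F ⟶ G := ⟨p.c⟩
  have : ∀ x : T, IsIso ((TopCat.Presheaf.stalkFunctor CommRingCat.{u} x).map φ.hom) := by
    intro x
    rw [ConcreteCategory.isIso_iff_bijective]
    constructor
    · intro a b hab
      obtain ⟨W₀, hxW₀, a', rfl⟩ := TopCat.Presheaf.exists_germ_eq F.obj a
      obtain ⟨W₁, hxW₁, b', rfl⟩ := TopCat.Presheaf.exists_germ_eq F.obj b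
      rw [TopCat.Presheaf.stalkFunctor_map_germ_apply, TopCat.Presheaf.stalkFunctor_map_germ_apply] at hab
      obtain ⟨W₂, hx₂, i₀, i₁, he⟩ := TopCat.Presheaf.germ_eq G.obj x hxW₀ hxW₁ _ _ hab
      obtain ⟨_, ⟨W, hW, rfl⟩, hxW, hWle⟩ := T.isBasis_affineOpens.exists_subset_of_mem_open hx₂ W₂.isOpen
      refine TopCat.Presheaf.germ_ext _ W hxW (homOfLE hWle ≫ i₀) (homOfLE hWle ≫ i₁) ((aff W hW).1 ?_)
      have := congrArg (G.obj.map (homOfLE hWle).op) he
      have e0 := G.obj.map_comp i₀.op (homOfLE hWle).op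
      have e1 := G.obj.map_comp i₁.op (homOfLE hWle).op
      have this := ((ConcreteCategory.congr_hom e0 _).trans this).trans (ConcreteCategory.congr_hom e1 _).symm
      exact (ConcreteCategory.congr_hom (p.c.naturality (homOfLE hWle ≫ i₀).op) a').trans
        (this.trans (ConcreteCategory.congr_hom (p.c.naturality (homOfLE hWle ≫ i₁).op) b').symm)
    · intro c
      obtain ⟨W₀, hxW₀, c', rfl⟩ := TopCat.Presheaf.exists_germ_eq G.obj c
      obtain ⟨_, ⟨W, hW, rfl⟩, hxW, hWle⟩ := T.isBasis_affineOpens.exists_subset_of_mem_open hxW₀ W₀.isOpen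
      obtain ⟨a, ha⟩ := (aff W hW).2 (G.obj.map (homOfLE hWle).op c')
      refine ⟨TopCat.Presheaf.germ F.obj W x hxW a, ?_⟩
      rw [TopCat.Presheaf.stalkFunctor_map_germ_apply]
      exact (congrArg (TopCat.Presheaf.germ G.obj W x hxW) ha).trans (TopCat.Presheaf.germ_res_apply G.obj _ _ _ _)
  have : IsIso φ := TopCat.Presheaf.isIso_of_stalkFunctor_map_iso φ
  have : IsIso φ.hom := (TopCat.Sheaf.forget _ _).map_isIso φ
  exact ConcreteCategory.bijective_of_isIso (φ.hom.app (Opposite.op U))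

/-- `O_T = p_* O_{V × T}` for `V` proper and geometrically integral over a field. -/
lemma bijective_app_snd {V T : Scheme.{u}} (v : V ⟶ Spec (CommRingCat.of k)) (t : T ⟶ Spec (CommRingCat.of k))
    [IsProper v] [GeometricallyIntegral v] (U : T.Opens) :
    Function.Bijective ((pullback.snd v t).app U) :=
  bijective_app_snd_of_bijective v t (bijective_appTop v) U

/-- Rigidity over a field, for a target separated over `k`. -/
lemma exists_factor_snd {V T Z : Scheme.{u}} (v : V ⟶ Spec (CommRingCat.of k)) (t : T ⟶ Spec (CommRingCat.of k))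
    [IsProper v] [GeometricallyIntegral v] [LocallyOfFiniteType t] [GeometricallyIntegral t]
    (z : Z ⟶ Spec (CommRingCat.of k)) [IsSeparated z] (f : pullback v t ⟶ Z) (hf : f ≫ z = pullback.fst v t ≫ v)
    (s : T) (hs : ∃ y : Z, ∀ x : ↥(pullback v t), pullback.snd v t x = s → f x = y) :
    ∃ g : T ⟶ Z, pullback.snd v t ≫ g = f := by
  let p := pullback.snd v t
  have : IsIntegral T := GeometricallyIntegral.isIntegral_of_subsingleton t
  have : IsLocallyNoetherian T := LocallyOfFiniteType.isLocallyNoetherian t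
  have h0 : ∀ U : T.Opens, Function.Bijective (p.app U) := bijective_app_snd v t
  have hcl : IsClosedMap p := p.isClosedMap
  refine exists_factor p h0 hcl f fun b => ?_
  obtain ⟨U, W, hW, hsU, hle⟩ := exists_nhd_collapsed p hcl f s hs
  obtain ⟨r, hr⟩ := exists_factor_of_le p h0 f U W hW hle
  -- the two maps on `(V × V) × T` agree on a dense open, hence everywhere
  have : IsIntegral (pullback v t) := inferInstance
  have : IsLocallyNoetherian (pullback v t) := LocallyOfFiniteType.isLocallyNoetherian p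
  let P := pullback p p
  have : IsIntegral P := inferInstanceAs (IsIntegral (pullback p p))
  let a : P ⟶ Z := pullback.fst p p ≫ f
  let c : P ⟶ Z := pullback.snd p p ≫ f
  let q : P ⟶ T := pullback.fst p p ≫ p
  have hac : a ≫ z = c ≫ z := by
    simp only [a, c, Category.assoc, hf, pullback.condition]
    exact pullback.condition_assoc _
  have hU : (q ⁻¹ᵁ U).ι ≫ a = (q ⁻¹ᵁ U).ι ≫ c := by
    have key : ∀ (π : P ⟶ pullback v t) (hπ : π ≫ p = q),
        (q ⁻¹ᵁ U).ι ≫ π ≫ f = (q ∣_ U) ≫ r := by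
      intro π hπ
      have hle : q ⁻¹ᵁ U ≤ π ⁻¹ᵁ (p ⁻¹ᵁ U) := by rw [← hπ]; exact le_rfl
      have h1 : (q ⁻¹ᵁ U).ι ≫ π = π.resLE (p ⁻¹ᵁ U) (q ⁻¹ᵁ U) hle ≫ (p ⁻¹ᵁ U).ι :=
        (Scheme.Hom.resLE_comp_ι _ _).symm
      rw [← Category.assoc, h1, Category.assoc, ← hr, ← Category.assoc]
      congr 1
      rw [← cancel_mono U.ι, Category.assoc, morphismRestrict_ι, morphismRestrict_ι, ← Category.assoc, ← h1,
        Category.assoc, hπ]
    rw [show (q ⁻¹ᵁ U).ι ≫ a = _ from key _ rfl, show (q ⁻¹ᵁ U).ι ≫ c = _ from key _ pullback.condition.symm]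
  have hne : Nonempty (q ⁻¹ᵁ U) := by
    have hp : Function.Surjective p := surjective_of_bijective_app p h0 hcl
    obtain ⟨x, hx⟩ := hp s
    obtain ⟨w, hw1, -⟩ := Scheme.Pullback.exists_preimage_pullback (f := p) (g := p) x x rfl
    exact ⟨⟨w, show p (pullback.fst p p w) ∈ U by rw [hw1, hx]; exact hsU⟩⟩
  have : IsDominant (q ⁻¹ᵁ U).ι := by
    refine ⟨?_⟩
    rw [DenseRange, Scheme.Opens.range_ι]
    exact (q ⁻¹ᵁ U).isOpen.dense ⟨hne.some.1, hne.some.2⟩
  have hac' : a = c := ext_of_isDominant_of_isSeparated z hac (q ⁻¹ᵁ U).ι hU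
  obtain ⟨x₀, hx₀⟩ := surjective_of_bijective_app p h0 hcl b
  refine ⟨f x₀, fun x hx => ?_⟩
  obtain ⟨w, hw1, hw2⟩ := Scheme.Pullback.exists_preimage_pullback (f := p) (g := p) x x₀ (hx.trans hx₀.symm)
  rw [← hw1, ← hw2]
  exact congr($hac' w)

end Field

end Groth.Agent.H23.Rigid

namespace Groth.Agent.H23.Rigid

open CartesianMonoidalCategory MonoidalCategory

/-- A map `V × W ⟶ Z` constant on `V × {w₀}` factors through the projection to `W`. -/
lemma exists_factor_of_lift {k : Type u} [Field k] {V W Z : Over (Spec (CommRingCat.of k))}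
    [IsProper V.hom] [GeometricallyIntegral V.hom] [LocallyOfFiniteType W.hom] [GeometricallyIntegral W.hom]
    [IsSeparated Z.hom] (f : V ⊗ W ⟶ Z) (w₀ : 𝟙_ (Over (Spec (CommRingCat.of k))) ⟶ W)
    (z₀ : 𝟙_ (Over (Spec (CommRingCat.of k))) ⟶ Z)
    (h : lift (𝟙 V) (toUnit V ≫ w₀) ≫ f = toUnit V ≫ z₀) :
    ∃ g : W ⟶ Z, f = snd V W ≫ g := by
  let pt : ↥(𝟙_ (Over (Spec (CommRingCat.of k)))).left := (default : Spec (CommRingCat.of k))
  let p := pullback.snd V.hom W.hom
  let s := lift (𝟙 V) (toUnit V ≫ w₀)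
  have H : IsPullback s.left V.hom p w₀.left := by
    refine IsPullback.of_right ?_ ?_ (IsPullback.of_hasPullback V.hom W.hom)
    · have e1 : s.left ≫ pullback.fst V.hom W.hom = 𝟙 _ := congrArg CommaMorphism.left (lift_fst (𝟙 V) _)
      have e2 : w₀.left ≫ W.hom = 𝟙 _ := Over.w w₀
      rw [e1, e2]
      exact IsPullback.of_id_fst
    · exact (congrArg CommaMorphism.left (lift_snd (𝟙 V) (toUnit V ≫ w₀))).trans rfl
  have hs : ∃ z : Z.left, ∀ x : ↥(pullback V.hom W.hom), p x = w₀.left pt → f.left x = z := by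
    refine ⟨z₀.left pt, fun x hx => ?_⟩
    obtain ⟨w, hw1, hw2⟩ := Scheme.exists_preimage_of_isPullback H x pt hx
    have := congr($(congrArg CommaMorphism.left h) w)
    simp only [Over.comp_left, Scheme.Hom.comp_apply] at this
    rw [← hw1]
    exact this.trans (congrArg z₀.left (Subsingleton.elim (α := Spec (CommRingCat.of k)) _ _))
  obtain ⟨g, hg⟩ := exists_factor_snd V.hom W.hom Z.hom f.left (Over.w f) (w₀.left pt) hs
  have h0 := bijective_app_snd V.hom W.hom
  have hgw : g ≫ Z.hom = W.hom := cancel_left p h0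
    (surjective_of_bijective_app p h0 p.isClosedMap) _ _ (by
      rw [← Category.assoc, hg, ← pullback.condition]; exact Over.w f)
  exact ⟨Over.homMk g hgw, Over.OverMorphism.ext hg.symm⟩

/-- Rigidity: constant on `V × {w₀}` and on `{v₀} × W` implies constant. -/
lemma eq_const {k : Type u} [Field k] {V W Z : Over (Spec (CommRingCat.of k))}
    [IsProper V.hom] [GeometricallyIntegral V.hom] [LocallyOfFiniteType W.hom] [GeometricallyIntegral W.hom]
    [IsSeparated Z.hom] (f : V ⊗ W ⟶ Z) (v₀ : 𝟙_ (Over (Spec (CommRingCat.of k))) ⟶ V)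
    (w₀ : 𝟙_ (Over (Spec (CommRingCat.of k))) ⟶ W) (z₀ : 𝟙_ (Over (Spec (CommRingCat.of k))) ⟶ Z)
    (hV : lift (𝟙 V) (toUnit V ≫ w₀) ≫ f = toUnit V ≫ z₀)
    (hW : lift (toUnit W ≫ v₀) (𝟙 W) ≫ f = toUnit W ≫ z₀) :
    f = toUnit (V ⊗ W) ≫ z₀ := by
  obtain ⟨g, rfl⟩ := exists_factor_of_lift f w₀ z₀ hV
  rw [← Category.assoc, lift_snd, Category.id_comp] at hW
  rw [hW, ← Category.assoc, toUnit_unique (snd V W ≫ toUnit W) (toUnit _)]

end Groth.Agent.H23.Rigid
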