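import Groth.Agent.GrpSchLib.IdentityComp
import Groth.Agent.H23.RedSub
import Mathlib.AlgebraicGeometry.Geometrically.Integral
import Mathlib.AlgebraicGeometry.Morphisms.SchemeTheoreticallyDominant
import Mathlib.RingTheory.Ideal.Height
import Mathlib.RingTheory.Ideal.KrullsHeightTheorem

/-!
Maximal abelian subvarieties of commutative group schemes over a field.
-/

universe u

open CategoryTheory Limits AlgebraicGeometry TopologicalSpace MonoidalCategory CartesianMonoidalCategory
open MonObj GrpObj Groth.Agent.GrpSchLib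
open scoped CategoryTheory.Obj

namespace Groth.Agent.H23.MaxAbelian

variable {k : Type u} [Field k]

/-- A proper, geometrically reduced, connected group scheme over a field is geometrically integral. -/
theorem geometricallyIntegral_of_connected (A : Over (Spec (CommRingCat.of k))) [GrpObj A]
    [IsProper A.hom] [GeometricallyReduced A.hom] [ConnectedSpace A.left] :
    GeometricallyIntegral A.hom := by
  obtain ⟨g, hg, hge⟩ := exists_isMaxPt (η[A].left (IsLocalRing.closedPoint k))
  have hu : closure ({g} : Set A.left) = Set.univ := by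
    rw [← connectedComponent_one hg hge]; exact PreconnectedSpace.connectedComponent_eq_univ _
  have : IsClosedImmersion (𝟙 A : A ⟶ A).left := by rw [Over.id_left]; infer_instance
  have : GeometricallyIrreducible A.hom := geometricallyIrreducible_one hg hge (𝟙 A)
    (hu ▸ Set.range_eq_univ.2 fun x => ⟨x, rfl⟩)
  exact GeometricallyIntegral.of_geometricallyReduced_of_geometricallyIrreducible _

theorem isIntegral_of_iso {X Y : Scheme.{u}} (e : X ≅ Y) [IsIntegral Y] : IsIntegral X :=
  have : Nonempty X := ⟨e.inv (Nonempty.some inferInstance)⟩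
  isIntegral_of_isOpenImmersion e.hom

theorem geometricallyIntegral_of_pullback {X Y : Scheme.{u}} (f : X ⟶ Y)
    (h : ∀ (K : Type u) [Field K] (x : Spec (CommRingCat.of K) ⟶ Y), IsIntegral (pullback f x)) :
    GeometricallyIntegral f := by
  refine ⟨fun K _ x Z a b hp => ?_⟩
  have := h K x
  exact isIntegral_of_iso hp.isoPullback

theorem isIntegral_of_geometricallyIntegral {X : Over (Spec (CommRingCat.of k))}
    [GeometricallyIntegral X.hom] : IsIntegral X.left :=
  GeometricallyIntegral.isIntegral_of_subsingleton X.hom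

theorem geometricallyIntegral_tensor (M A : Over (Spec (CommRingCat.of k))) [IsProper M.hom]
    [GeometricallyIntegral M.hom] [IsProper A.hom] [GeometricallyIntegral A.hom] :
    GeometricallyIntegral (M ⊗ A).hom := by
  refine geometricallyIntegral_of_pullback _ fun K _ x => ?_
  have h : (M ⊗ A).hom = pullback.snd M.hom A.hom ≫ A.hom := by
    rw [← pullback.condition]; rfl
  have : IsIntegral (pullback A.hom x) :=
    GeometricallyIntegral.isIntegral_of_subsingleton (pullback.snd A.hom x)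
  have : IsLocallyNoetherian (pullback A.hom x) :=
    LocallyOfFiniteType.isLocallyNoetherian (pullback.snd A.hom x)
  have : IsIntegral (pullback M.hom (pullback.fst A.hom x ≫ A.hom)) := inferInstance
  let e : pullback (pullback.snd M.hom A.hom ≫ A.hom) x ≅ pullback M.hom (pullback.fst A.hom x ≫ A.hom) :=
    (pullbackRightPullbackFstIso A.hom x (pullback.snd M.hom A.hom)).symm ≪≫
      pullbackLeftPullbackSndIso M.hom A.hom (pullback.fst A.hom x)
  have := isIntegral_of_iso e
  exact (congrArg (fun f => IsIntegral (pullback f x)) h) ▸ this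

/-- The image of a map whose image is stable under the operations is an abelian subvariety. -/
theorem exists_image' {G P : Over (Spec (CommRingCat.of k))} [GrpObj G] [LocallyOfFiniteType G.hom]
    [IsProper P.hom] [GeometricallyIntegral P.hom] (ψ : P ⟶ G)
    (hone : Set.range η[G].left ⊆ Set.range ψ.left)
    (hmul : Set.range ((fst P P ≫ ψ) * (snd P P ≫ ψ)).left ⊆ Set.range ψ.left)
    (hinv : Set.range (ψ⁻¹).left ⊆ Set.range ψ.left) :
    ∃ (N : Over (Spec (CommRingCat.of k))) (_ : GrpObj N) (j : N ⟶ G), IsMonHom j ∧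
      IsClosedImmersion j.left ∧ IsProper N.hom ∧ GeometricallyIntegral N.hom ∧
      Set.range j.left = Set.range ψ.left := by
  have hsep : IsSeparated G.hom :=
    (isSeparated_iff G.hom).mpr ((diagonal_iff_unit @IsClosedImmersion).mpr inferInstance)
  have hP : IsProper (ψ.left ≫ G.hom) := by rw [Over.w ψ]; infer_instance
  have hψ : IsProper ψ.left := IsProper.of_comp ψ.left G.hom
  let Z : Closeds G.left := ⟨Set.range ψ.left, ψ.left.isClosedMap.isClosed_range⟩
  let N : Over (Spec (CommRingCat.of k)) :=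
    Over.mk ((Scheme.IdealSheafData.vanishingIdeal Z).subschemeι ≫ G.hom)
  let j : N ⟶ G := Over.homMk (Scheme.IdealSheafData.vanishingIdeal Z).subschemeι rfl
  have hj : IsClosedImmersion j.left :=
    inferInstanceAs (IsClosedImmersion (Scheme.IdealSheafData.vanishingIdeal Z).subschemeι)
  have hN : IsReduced N.left := RedSub.isReduced_vanishingIdeal Z
  have hmono : Mono j := (Over.forget _).mono_of_mono_map (inferInstanceAs (Mono j.left))
  have hr : Set.range j.left = Set.range ψ.left := RedSub.range_vanishingIdeal Z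
  have hfac : ∀ {T : Over (Spec (CommRingCat.of k))} (f : T ⟶ G), IsReduced T.left →
      Set.range f.left ⊆ Set.range ψ.left → ∃ f₀ : T ⟶ N, f₀ ≫ j = f := by
    intro T f _ hf
    obtain ⟨g, hg⟩ := RedSub.exists_lift_closed f.left j.left (hr ▸ hf)
    refine ⟨Over.homMk g ?_, Over.OverMorphism.ext hg⟩
    show g ≫ j.left ≫ G.hom = _
    rw [reassoc_of% hg, Over.w]
  have : IsIntegral P.left := isIntegral_of_geometricallyIntegral
  obtain ⟨τ, hτ⟩ := hfac ψ inferInstance subset_rfl
  have hτs : Surjective τ.left := ⟨fun n => by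
    obtain ⟨p, hp⟩ : j.left n ∈ Set.range ψ.left := hr.subset ⟨n, rfl⟩
    refine ⟨p, j.left.isEmbedding.injective ?_⟩
    rw [← left_comp_apply, hτ, hp]⟩
  have hτp : IsProper τ.left := by
    have : IsProper (τ.left ≫ j.left) := by rw [← Over.comp_left, hτ]; exact hψ
    exact IsProper.of_comp τ.left j.left
  have hN' : IsProper N.hom := by
    have hsep' : IsSeparated N.hom := inferInstanceAs (IsSeparated (j.left ≫ G.hom))
    have hlft : LocallyOfFiniteType N.hom := inferInstanceAs (LocallyOfFiniteType (j.left ≫ G.hom))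
    have : UniversallyClosed (τ.left ≫ N.hom) := by rw [Over.w τ]; infer_instance
    have : UniversallyClosed N.hom := UniversallyClosed.of_comp_surjective τ.left N.hom
    constructor
  have hN'' : GeometricallyIntegral N.hom := by
    refine geometricallyIntegral_of_pullback _ fun K _ x => ?_
    have : IsIntegral (pullback P.hom x) :=
      GeometricallyIntegral.isIntegral_of_subsingleton (pullback.snd P.hom x)
    let e : pullback τ.left (pullback.fst N.hom x) ≅ pullback P.hom x :=
      pullbackRightPullbackFstIso N.hom x τ.left ≪≫ pullback.congrHom (Over.w τ) rfl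
    have : IsIntegral (pullback τ.left (pullback.fst N.hom x)) := isIntegral_of_iso e
    have : IsSchemeTheoreticallyDominant τ.left :=
      IsSchemeTheoreticallyDominant.of_isDominant τ.left
    let q := pullback.snd τ.left (pullback.fst N.hom x)
    rw [isIntegral_iff_irreducibleSpace_and_isReduced]
    refine ⟨?_, IsSchemeTheoreticallyDominant.isReduced q⟩
    rw [irreducibleSpace_def, Set.top_eq_univ, ← Set.range_eq_univ.2 q.surjective, ← Set.image_univ]
    exact (IrreducibleSpace.isIrreducible_univ _).image _ q.continuous.continuousOn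
  have hNred : IsReduced (N ⊗ N).left := by
    have : IsIntegral (N ⊗ N).left :=
      @isIntegral_of_geometricallyIntegral _ _ (N ⊗ N) (geometricallyIntegral_tensor N N)
    infer_instance
  have : IsReduced (𝟙_ (Over (Spec (CommRingCat.of k)))).left :=
    inferInstanceAs (IsReduced (Spec (CommRingCat.of k)))
  obtain ⟨e₀, he₀⟩ := hfac η[G] inferInstance hone
  obtain ⟨m₀, hm₀⟩ := hfac ((fst N N ≫ j) * (snd N N ≫ j)) hNred (by
    rintro _ ⟨y, rfl⟩
    obtain ⟨p, hp⟩ : y ∈ Set.range (τ ⊗ₘ τ).left := by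
      rw [range_tensorHom (G := N)]
      exact ⟨hτs.surj _, hτs.surj _⟩
    have he : (τ ⊗ₘ τ) ≫ ((fst N N ≫ j) * (snd N N ≫ j)) = (fst P P ≫ ψ) * (snd P P ≫ ψ) := by
      simp only [MonObj.comp_mul, tensorHom_fst_assoc, tensorHom_snd_assoc, hτ]
    rw [← hp, ← left_comp_apply, he]
    exact hmul ⟨_, rfl⟩)
  obtain ⟨v₀, hv₀⟩ := hfac j⁻¹ hN (by
    rintro _ ⟨y, rfl⟩
    obtain ⟨p, rfl⟩ := hτs.surj y
    rw [← left_comp_apply, GrpObj.comp_inv, hτ]
    exact hinv ⟨_, rfl⟩)
  let inst : GrpObj N := grpObjOfFactor j e₀ he₀ m₀ hm₀ v₀ hv₀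
  refine ⟨N, inst, j, ⟨he₀, ?_⟩, hj, hN', hN'', hr⟩
  show m₀ ≫ j = _
  rw [hm₀]
  simp [Hom.mul_def]

/-- The image of a map factoring the operations is an abelian subvariety. -/
theorem exists_image {G P : Over (Spec (CommRingCat.of k))} [GrpObj G] [LocallyOfFiniteType G.hom]
    [IsProper P.hom] [GeometricallyIntegral P.hom] (ψ : P ⟶ G)
    (hone : ∃ e : 𝟙_ _ ⟶ P, e ≫ ψ = η[G])
    (hmul : ∃ m : P ⊗ P ⟶ P, m ≫ ψ = (fst P P ≫ ψ) * (snd P P ≫ ψ))
    (hinv : ∃ v : P ⟶ P, v ≫ ψ = ψ⁻¹) :
    ∃ (N : Over (Spec (CommRingCat.of k))) (_ : GrpObj N) (j : N ⟶ G), IsMonHom j ∧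
      IsClosedImmersion j.left ∧ IsProper N.hom ∧ GeometricallyIntegral N.hom ∧
      Set.range j.left = Set.range ψ.left := by
  have key : ∀ {T : Over (Spec (CommRingCat.of k))} (a : T ⟶ P) (f : T ⟶ G), a ≫ ψ = f →
      Set.range f.left ⊆ Set.range ψ.left := by
    rintro T a f rfl _ ⟨y, rfl⟩
    exact ⟨_, rfl⟩
  obtain ⟨e, he⟩ := hone
  obtain ⟨m, hm⟩ := hmul
  obtain ⟨v, hv⟩ := hinv
  exact exists_image' ψ (key e _ he) (key m _ hm) (key v _ hv)

/-- The candidates: ranges of abelian subvarieties. -/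
def Sub (G : Over (Spec (CommRingCat.of k))) [GrpObj G] (Z : Set G.left) : Prop :=
  ∃ (M : Over (Spec (CommRingCat.of k))) (_ : GrpObj M) (i : M ⟶ G), IsMonHom i ∧
    IsClosedImmersion i.left ∧ IsProper M.hom ∧ GeometricallyIntegral M.hom ∧ Set.range i.left = Z

theorem Sub.props {G : Over (Spec (CommRingCat.of k))} [GrpObj G] {Z : Set G.left} (h : Sub G Z) :
    IsIrreducible Z ∧ IsClosed Z ∧ η[G].left (IsLocalRing.closedPoint k) ∈ Z := by
  obtain ⟨M, _, i, hi, hci, -, hM, rfl⟩ := h
  have : IsIntegral M.left := isIntegral_of_geometricallyIntegral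
  refine ⟨?_, i.left.isClosedEmbedding.isClosed_range, η[M].left (IsLocalRing.closedPoint k), ?_⟩
  · rw [← Set.image_univ]
    exact (IrreducibleSpace.isIrreducible_univ _).image _ i.left.continuous.continuousOn
  · exact congrArg (fun f : 𝟙_ _ ⟶ G => f.left (IsLocalRing.closedPoint k)) (IsMonHom.one_hom i)

/-- A nonempty family of irreducible closed sets through a point has a maximal element. -/
theorem exists_maximal {X : Scheme.{u}} [IsLocallyNoetherian X] (x : X) (S : Set X → Prop)
    (hS : ∀ Z, S Z → IsIrreducible Z ∧ IsClosed Z ∧ x ∈ Z) (hne : ∃ Z, S Z) :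
    ∃ Z, S Z ∧ ∀ Z', S Z' → Z ⊆ Z' → Z = Z' := by
  classical
  obtain ⟨U, hU, hxU, -⟩ := exists_isAffineOpen_mem_and_subset (show x ∈ (⊤ : X.Opens) from trivial)
  have : IsNoetherianRing Γ(X, U) := IsLocallyNoetherian.component_noetherian ⟨U, hU⟩
  let P : ℕ → Prop := fun n => ∃ (Z : Set X) (_ : S Z) (y : Spec Γ(X, U)),
    IsGenericPoint (hU.fromSpec y) Z ∧ y.asIdeal.height = n
  have key : ∀ Z, S Z → ∃ y : Spec Γ(X, U), IsGenericPoint (hU.fromSpec y) Z := by
    intro Z hZ
    obtain ⟨hi, hc, hx⟩ := hS Z hZ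
    have hg := hi.isGenericPoint_genericPoint hc
    obtain ⟨y, hy⟩ : hi.genericPoint ∈ Set.range hU.fromSpec := by
      rw [hU.range_fromSpec]
      exact (hg.mem_open_set_iff U.2).2 ⟨x, hx, hxU⟩
    exact ⟨y, hy ▸ hg⟩
  have hP : ∃ n, P n := by
    obtain ⟨Z, hZ⟩ := hne
    obtain ⟨y, hy⟩ := key Z hZ
    exact ⟨_, Z, hZ, y, hy, (ENat.coe_toNat (Ideal.height_ne_top y.2.ne_top)).symm⟩
  obtain ⟨Z, hZ, y, hy, hn⟩ := Nat.find_spec hP
  refine ⟨Z, hZ, fun Z' hZ' hsub => ?_⟩
  obtain ⟨y', hy'⟩ := key Z' hZ'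
  have hsp : y' ⤳ y := hU.fromSpec.isOpenEmbedding.isInducing.specializes_iff.1
    (hy'.specializes (hsub hy.mem))
  have hle : y'.asIdeal ≤ y.asIdeal := (PrimeSpectrum.le_iff_specializes _ _).2 hsp
  suffices y' = y by rw [← hy.def, ← hy'.def, this]
  by_contra hne'
  have hlt : y'.asIdeal < y.asIdeal := lt_of_le_of_ne hle fun h => hne' (PrimeSpectrum.ext h)
  have := y'.2
  have := y.2
  have h1 := Ideal.height_strict_mono_of_isPrime hlt
  obtain ⟨n', hn'⟩ := ENat.ne_top_iff_exists.1 (Ideal.height_ne_top y'.2.ne_top)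
  have h2 := Nat.find_min' hP ⟨Z', hZ', y', hy', hn'.symm⟩
  rw [hn, ← hn'] at h1
  exact absurd h2 (not_le.2 (by exact_mod_cast h1))

theorem exists_maximal_abelian (G : Over (Spec (CommRingCat.of k))) [GrpObj G] [IsCommMonObj G]
    [LocallyOfFiniteType G.hom] :
    ∃ (M : Over (Spec (CommRingCat.of k))) (_ : GrpObj M) (i : M ⟶ G), IsMonHom i ∧
      IsClosedImmersion i.left ∧ IsProper M.hom ∧ GeometricallyIntegral M.hom ∧
      ∀ (A : Over (Spec (CommRingCat.of k))) [GrpObj A] [IsProper A.hom] [GeometricallyReduced A.hom]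
        [ConnectedSpace A.left] (φ : A ⟶ G), IsMonHom φ → ∃ ψ : A ⟶ M, ψ ≫ i = φ := by
  have : IsLocallyNoetherian G.left := LocallyOfFiniteType.isLocallyNoetherian G.hom
  have h0 : ∃ Z, Sub G Z := by
    have hp : IsProper (𝟙_ (Over (Spec (CommRingCat.of k)))).hom :=
      inferInstanceAs (IsProper (𝟙 (Spec (CommRingCat.of k))))
    have hg : GeometricallyIntegral (𝟙_ (Over (Spec (CommRingCat.of k)))).hom := by
      show GeometricallyIntegral (𝟙 (Spec (CommRingCat.of k)))
      refine geometricallyIntegral_of_pullback _ fun K _ x => ?_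
      exact isIntegral_of_isOpenImmersion (pullback.snd (𝟙 _) x)
    obtain ⟨N, hN, j, h⟩ := exists_image (η[G] : 𝟙_ _ ⟶ G) ⟨𝟙 _, by simp⟩
      ⟨toUnit _, by simp [MonObj.one_eq_one, MonObj.comp_one]⟩
      ⟨𝟙 _, by simp [MonObj.one_eq_one]⟩
    exact ⟨_, N, hN, j, h⟩
  obtain ⟨Z, ⟨M, _, i, hi, hci, hMp, hMg, hZ⟩, hmax⟩ :=
    exists_maximal (η[G].left (IsLocalRing.closedPoint k)) (Sub G) (fun _ h => h.props) h0
  refine ⟨M, _, i, hi, hci, hMp, hMg, fun A _ _ _ _ φ hφ => ?_⟩
  have := geometricallyIntegral_of_connected A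
  have := geometricallyIntegral_tensor M A
  have : IsProper (M ⊗ A).hom := by
    show IsProper (pullback.fst M.hom A.hom ≫ M.hom)
    infer_instance
  let ψ : M ⊗ A ⟶ G := (fst M A ≫ i) * (snd M A ≫ φ)
  obtain ⟨N, hN, j, hjm, hjc, hNp, hNg, hjr⟩ := exists_image ψ
    ⟨lift η[M] η[A], by
      simp [ψ, MonObj.comp_mul, hi.one_hom, hφ.one_hom, MonObj.one_eq_one]⟩
    ⟨lift ((fst (M ⊗ A) (M ⊗ A) ≫ fst M A) * (snd (M ⊗ A) (M ⊗ A) ≫ fst M A))
        ((fst (M ⊗ A) (M ⊗ A) ≫ snd M A) * (snd (M ⊗ A) (M ⊗ A) ≫ snd M A)), by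
      simp only [ψ, MonObj.comp_mul, lift_fst_assoc, lift_snd_assoc, MonObj.mul_comp, Category.assoc]
      exact mul_mul_mul_comm _ _ _ _⟩
    ⟨lift (fst M A)⁻¹ (snd M A)⁻¹, by
      simp only [ψ, MonObj.comp_mul, lift_fst_assoc, lift_snd_assoc, GrpObj.inv_comp, _root_.mul_inv]⟩
  have h1 : lift (𝟙 M) (1 : M ⟶ A) ≫ ψ = i := by
    simp [ψ, MonObj.comp_mul, MonObj.one_comp]
  have h2 : lift (1 : A ⟶ M) (𝟙 A) ≫ ψ = φ := by
    simp [ψ, MonObj.comp_mul, MonObj.one_comp]
  have hsub : Z ⊆ Set.range j.left := by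
    rw [← hZ, hjr, ← h1, Over.comp_left]
    rintro _ ⟨y, rfl⟩
    exact ⟨_, rfl⟩
  have heq := hmax _ ⟨N, hN, j, hjm, hjc, hNp, hNg, rfl⟩ hsub
  have : IsIntegral A.left := isIntegral_of_geometricallyIntegral
  obtain ⟨g, hg⟩ := RedSub.exists_lift_closed φ.left i.left (by
    rw [hZ, heq, hjr, ← h2, Over.comp_left]
    rintro _ ⟨y, rfl⟩
    exact ⟨_, rfl⟩)
  exact ⟨Over.homMk g (by rw [← Over.w i, ← Category.assoc, hg, Over.w]), Over.OverMorphism.ext hg⟩

end Groth.Agent.H23.MaxAbelian
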