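import Groth.Prelude.Def_Flat
import Mathlib.Topology.KrullDimension
import Mathlib.Topology.NoetherianSpace
import Mathlib.Topology.Separation.Basic
import Mathlib.Topology.LocallyFinite
import Mathlib.Topology.Semicontinuity.Defs

/-!
# Elementary properties of the dimension of a topological space
-/

open TopologicalSpace Topology Order

universe u

namespace Groth.Agent.H23.TopDim

variable {X : Type u} [TopologicalSpace X]

theorem isIrreducible_trace {U Z : Set X} (hU : IsOpen U) (hZ : IsIrreducible Z)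
    (h : (Z ∩ U).Nonempty) {T : Set X} (hT : Z ∩ U = Z ∩ T) :
    IsIrreducible (Subtype.val ⁻¹' Z : Set ↥T) := by
  rw [hT] at h
  refine ⟨?_, ?_⟩
  · obtain ⟨x, hx, hx'⟩ := h
    exact ⟨⟨x, hx'⟩, hx⟩
  · rintro u v hu hv ⟨a, ha, hau⟩ ⟨b, hb, hbv⟩
    obtain ⟨u', hu', rfl⟩ := isOpen_induced_iff.mp hu
    obtain ⟨v', hv', rfl⟩ := isOpen_induced_iff.mp hv
    have haU : a.1 ∈ U := (hT.symm.le ⟨ha, a.2⟩).2
    have hbU : b.1 ∈ U := (hT.symm.le ⟨hb, b.2⟩).2
    obtain ⟨c, hcZ, ⟨hcu, hcU⟩, hcv, -⟩ := hZ.2 _ _ (hu'.inter hU) (hv'.inter hU)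
      ⟨a.1, ha, hau, haU⟩ ⟨b.1, hb, hbv, hbU⟩
    exact ⟨⟨c, (hT.le ⟨hcZ, hcU⟩).2⟩, hcZ, hcu, hcv⟩

/-- A chain of irreducible closed sets meeting an open set `U` and contained in a closed set `S`
gives a lower bound for the dimension of `U ∩ S`. -/
theorem length_le_dim_inter (p : LTSeries (IrreducibleCloseds X)) {U S : Set X} (hU : IsOpen U)
    (hh : ((p.head : Set X) ∩ U).Nonempty) (hl : (p.last : Set X) ⊆ S) :
    (p.length : WithBot ℕ∞) ≤ topologicalKrullDim ↥(U ∩ S) := by
  have hmono := p.strictMono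
  have hne : ∀ i, ((p i : Set X) ∩ U).Nonempty := fun i =>
    hh.mono (Set.inter_subset_inter_left _ (hmono.monotone (Fin.zero_le i)))
  have hsub : ∀ i, (p i : Set X) ⊆ S := fun i =>
    Set.Subset.trans (hmono.monotone (Fin.le_last i)) hl
  have hT : ∀ i, (p i : Set X) ∩ U = (p i : Set X) ∩ (U ∩ S) := fun i => by
    rw [← Set.inter_assoc, Set.inter_eq_left.2 (fun x hx => hsub i hx.1)]
  let g : Fin (p.length + 1) → IrreducibleCloseds ↥(U ∩ S) := fun i =>
    ⟨Subtype.val ⁻¹' (p i : Set X), isIrreducible_trace hU (p i).isIrreducible (hne i) (hT i),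
      (p i).isClosed.preimage continuous_subtype_val⟩
  have hg : StrictMono g := fun i j hij => by
    refine lt_of_le_not_ge (fun x hx => hmono.monotone hij.le hx) fun h => ?_
    have h' : (p j : Set X) ∩ U ⊆ (p i : Set X) := fun x hx =>
      h (show (⟨x, ((hT j).le hx).2⟩ : ↥(U ∩ S)) ∈ g j from hx.1)
    have : (p j : Set X) ⊆ (p i : Set X) :=
      (subset_closure_inter_of_isPreirreducible_of_isOpen (p j).isIrreducible.isPreirreducible hU
        (hne j)).trans (closure_minimal h' (p i).isClosed)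
    exact (hmono hij).not_ge this
  exact (LTSeries.mk p.length g hg).length_le_krullDim

theorem length_le_dim_open (p : LTSeries (IrreducibleCloseds X)) {U : Set X} (hU : IsOpen U)
    (hh : ((p.head : Set X) ∩ U).Nonempty) :
    (p.length : WithBot ℕ∞) ≤ topologicalKrullDim ↥U := by
  have := length_le_dim_inter p hU hh (Set.subset_univ _)
  rwa [Set.inter_univ] at this

theorem length_le_dim_subset (p : LTSeries (IrreducibleCloseds X)) {S : Set X}
    (hl : (p.last : Set X) ⊆ S) : (p.length : WithBot ℕ∞) ≤ topologicalKrullDim ↥S := by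
  have := length_le_dim_inter p isOpen_univ
    (by rw [Set.inter_univ]; exact p.head.isIrreducible.nonempty) hl
  rwa [Set.univ_inter] at this

theorem dim_le {c : WithBot ℕ∞}
    (h : ∀ p : LTSeries (IrreducibleCloseds X), (p.length : WithBot ℕ∞) ≤ c) :
    topologicalKrullDim X ≤ c :=
  iSup_le h

theorem dim_le_dim_of_subset {S T : Set X} (h : S ⊆ T) :
    topologicalKrullDim ↥S ≤ topologicalKrullDim ↥T :=
  (IsEmbedding.inclusion h).isInducing.topologicalKrullDim_le

theorem localDim_le_dim (x : X) : FlatMor.localDim X x ≤ topologicalKrullDim X :=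
  iInf_le_of_le ⟨⊤, trivial⟩ (topologicalKrullDim_subspace_le _ _)

theorem length_le_localDim (p : LTSeries (IrreducibleCloseds X)) {x : X}
    (hx : x ∈ (p.head : Set X)) : (p.length : WithBot ℕ∞) ≤ FlatMor.localDim X x :=
  le_iInf fun U => length_le_dim_open p U.1.2 ⟨x, hx, U.2⟩

theorem exists_nhd_dim_eq_localDim (x : X) :
    ∃ U : Opens X, x ∈ U ∧ FlatMor.localDim X x = topologicalKrullDim ↥(U : Set X) := by
  haveI : Nonempty {U : Opens X // x ∈ U} := ⟨⟨⊤, trivial⟩⟩
  obtain ⟨⟨U, hU⟩, h⟩ :=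
    ciInf_mem fun U : {U : Opens X // x ∈ U} => topologicalKrullDim (U.1 : Set X)
  exact ⟨U, hU, h.symm⟩

theorem dim_eq_iSup_localDim :
    topologicalKrullDim X = ⨆ x : X, FlatMor.localDim X x := by
  refine le_antisymm (dim_le fun p => ?_) (iSup_le localDim_le_dim)
  obtain ⟨x, hx⟩ := p.head.isIrreducible.nonempty
  exact le_iSup_of_le x (length_le_localDim p hx)

theorem exists_subset_of_locallyFinite {ι : Type*} {Y : ι → Set X} (hY : ∀ i, IsClosed (Y i))
    (hlf : LocallyFinite Y) {Z : Set X} (hZ : IsIrreducible Z) (hsub : Z ⊆ ⋃ i, Y i) :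
    ∃ i, Z ⊆ Y i := by
  classical
  obtain ⟨z, hz⟩ := hZ.nonempty
  obtain ⟨N, hN, hfin⟩ := hlf z
  obtain ⟨U, hUN, hU, hzU⟩ := mem_nhds_iff.mp hN
  obtain ⟨t, ht, hZt⟩ := isIrreducible_iff_sUnion_isClosed.mp hZ
    (insert Uᶜ (hfin.toFinset.image Y)) (by
      intro s hs
      rcases Finset.mem_insert.1 hs with rfl | hs
      · exact hU.isClosed_compl
      · obtain ⟨i, -, rfl⟩ := Finset.mem_image.1 hs
        exact hY i) (by
      intro x hx
      by_cases hxU : x ∈ U
      · obtain ⟨i, hi⟩ := Set.mem_iUnion.1 (hsub hx)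
        exact ⟨Y i, Finset.mem_coe.2 (Finset.mem_insert_of_mem (Finset.mem_image_of_mem _
          (hfin.mem_toFinset.2 ⟨x, hi, hUN hxU⟩))), hi⟩
      · exact ⟨Uᶜ, Finset.mem_coe.2 (Finset.mem_insert_self _ _), hxU⟩)
  rcases Finset.mem_insert.1 ht with rfl | ht
  · exact absurd hzU (hZt hz)
  · obtain ⟨i, -, rfl⟩ := Finset.mem_image.1 ht
    exact ⟨i, hZt⟩

theorem dim_eq_iSup_of_closed_cover {ι : Type*} {Y : ι → Set X} (hY : ∀ i, IsClosed (Y i))
    (hlf : LocallyFinite Y) (hcov : ⋃ i, Y i = Set.univ) :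
    topologicalKrullDim X = ⨆ i, topologicalKrullDim ↥(Y i) := by
  refine le_antisymm (dim_le fun p => ?_) (iSup_le fun i => topologicalKrullDim_subspace_le _ _)
  obtain ⟨i, hi⟩ := exists_subset_of_locallyFinite hY hlf p.last.isIrreducible
    (hcov ▸ Set.subset_univ _)
  exact le_iSup_of_le i (length_le_dim_subset p hi)

theorem dim_eq_iSup_irreducibleComponents :
    topologicalKrullDim X = ⨆ Y ∈ irreducibleComponents X, topologicalKrullDim ↥Y := by
  refine le_antisymm (dim_le fun p => ?_) (iSup₂_le fun Y _ => topologicalKrullDim_subspace_le _ _)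
  obtain ⟨Y, hY, hsub⟩ :=
    exists_mem_irreducibleComponents_subset_of_isIrreducible _ p.last.isIrreducible
  exact le_iSup₂_of_le Y hY (length_le_dim_subset p hsub)

theorem dim_eq_iSup_of_open_cover {ι : Type*} {U : ι → Opens X} (hcov : ⨆ i, U i = ⊤) :
    topologicalKrullDim X = ⨆ i, topologicalKrullDim ↥(U i : Set X) := by
  refine le_antisymm (dim_le fun p => ?_) (iSup_le fun i => topologicalKrullDim_subspace_le _ _)
  obtain ⟨x, hx⟩ := p.head.isIrreducible.nonempty
  obtain ⟨i, hi⟩ := Opens.mem_iSup.1 (hcov.ge (trivial : x ∈ (⊤ : Opens X)))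
  exact le_iSup_of_le i (length_le_dim_open p (U i).2 ⟨x, hx, hi⟩)

theorem dim_eq_iSup_localDim_closedPoints [NoetherianSpace X] [T0Space X] :
    topologicalKrullDim X =
      ⨆ x ∈ {x : X | IsClosed ({x} : Set X)}, FlatMor.localDim X x := by
  refine le_antisymm (dim_le fun p => ?_) (iSup₂_le fun x _ => localDim_le_dim x)
  obtain ⟨x, hx, hx'⟩ := p.head.isClosed.exists_closed_singleton p.head.isIrreducible.nonempty
  exact le_iSup₂_of_le x hx' (length_le_localDim p hx)

theorem finite_discrete_of_dim_le_zero [NoetherianSpace X] [T0Space X]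
    (h : topologicalKrullDim X ≤ 0) : Finite X ∧ DiscreteTopology X := by
  haveI : T1Space X := ⟨fun x => by
    have hcl : closure ({x} : Set X) ⊆ {x} := by
      intro y hy
      have h1 : IsIrreducible (closure ({x} : Set X)) := isIrreducible_singleton.closure
      have h2 : IsIrreducible (closure ({y} : Set X)) := isIrreducible_singleton.closure
      have hle : (⟨_, h2, isClosed_closure⟩ : IrreducibleCloseds X) ≤
          ⟨_, h1, isClosed_closure⟩ := closure_minimal (by simpa using hy) isClosed_closure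
      have := (krullDim_nonpos_iff_forall_isMax.mp h) _ hle
      have hx : x ∈ closure ({y} : Set X) := this (subset_closure rfl)
      exact ((specializes_iff_mem_closure.2 hx).antisymm (specializes_iff_mem_closure.2 hy)).eq
    exact closure_subset_iff_isClosed.mp hcl⟩
  have hfin : Finite X := by
    have hsing : ∀ Z ∈ irreducibleComponents X, Z.Subsingleton := fun Z hZ => by
      intro a ha b hb
      have h1 : IsIrreducible ({a} : Set X) := isIrreducible_singleton
      have := (krullDim_nonpos_iff_forall_isMax.mp h)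
        (⟨{a}, h1, isClosed_singleton⟩ : IrreducibleCloseds X)
        (b := ⟨Z, hZ.1, isClosed_of_mem_irreducibleComponents _ hZ⟩)
        (fun y hy => by obtain rfl : y = a := hy; exact ha)
      exact ((this hb : b ∈ ({a} : Set X))).symm
    refine Set.finite_univ_iff.mp ?_
    rw [← sUnion_irreducibleComponents]
    exact Set.Finite.sUnion NoetherianSpace.finite_irreducibleComponents
      fun Z hZ => (hsing Z hZ).finite
  exact ⟨hfin, inferInstance⟩

theorem isOpen_singleton_iff [NoetherianSpace X] [T0Space X] (x : X) :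
    IsOpen ({x} : Set X) ↔ FlatMor.localDim X x = 0 := by
  constructor
  · intro hx
    refine le_antisymm (iInf_le_of_le ⟨⟨{x}, hx⟩, rfl⟩ ?_) (le_iInf fun U => ?_)
    · haveI : Subsingleton ↥({x} : Set X) := Set.subsingleton_singleton.coe_sort
      exact topologicalKrullDim_zero_of_discreteTopology _
    · haveI : Nonempty (IrreducibleCloseds ↥(U.1 : Set X)) :=
        ⟨⟨closure {⟨x, U.2⟩}, isIrreducible_singleton.closure, isClosed_closure⟩⟩
      exact krullDim_nonneg
  · intro h
    obtain ⟨U, hxU, hU⟩ := exists_nhd_dim_eq_localDim x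
    haveI : NoetherianSpace ↥(U : Set X) := IsInducing.subtypeVal.noetherianSpace
    obtain ⟨-, hd⟩ := finite_discrete_of_dim_le_zero (X := ↥(U : Set X)) (hU.symm.trans h).le
    have := U.2.isOpenMap_subtype_val _ (isOpen_discrete ({⟨x, hxU⟩} : Set ↥(U : Set X)))
    simpa using this

theorem dim_eq_zero_iff [NoetherianSpace X] [T0Space X] [Nonempty X] :
    topologicalKrullDim X = 0 ↔ Finite X ∧ DiscreteTopology X := by
  refine ⟨fun h => finite_discrete_of_dim_le_zero h.le, fun h => ?_⟩
  haveI := h.2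
  obtain ⟨x⟩ := ‹Nonempty X›
  haveI : Nonempty (IrreducibleCloseds X) :=
    ⟨⟨closure {x}, isIrreducible_singleton.closure, isClosed_closure⟩⟩
  exact le_antisymm (topologicalKrullDim_zero_of_discreteTopology X) krullDim_nonneg

theorem dim_lt_of_ssubset [IrreducibleSpace X] (hfin : topologicalKrullDim X ≠ ⊤) {Y : Set X}
    (hY : IsClosed Y) (hYX : Y ≠ Set.univ) :
    topologicalKrullDim ↥Y < topologicalKrullDim X := by
  let top : IrreducibleCloseds X := ⟨Set.univ, IrreducibleSpace.isIrreducible_univ X, isClosed_univ⟩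
  haveI : Nonempty (IrreducibleCloseds X) := ⟨top⟩
  haveI : FiniteDimensionalOrder (IrreducibleCloseds X) := by
    rcases finiteDimensionalOrder_or_infiniteDimensionalOrder (IrreducibleCloseds X) with h | h
    · exact h
    · exact absurd krullDim_eq_top hfin
  show krullDim (IrreducibleCloseds ↥Y) < krullDim (IrreducibleCloseds X)
  rw [krullDim_eq_length_of_finiteDimensionalOrder (α := IrreducibleCloseds X)]
  refine krullDim_lt_coe_iff.2 fun q => ?_
  let q' : LTSeries (IrreducibleCloseds X) :=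
    q.map _ (IrreducibleCloseds.map_strictMono_of_isInducing
      (IsInducing.subtypeVal : IsInducing (Subtype.val : Y → X)))
  have hlt : q'.last < top := by
    refine lt_of_le_not_ge (Set.subset_univ _) fun h => hYX (Set.eq_univ_of_univ_subset ?_)
    intro x hx
    have hx' : x ∈ closure (Subtype.val '' (q.last : Set Y)) := by
      have := h hx
      rw [LTSeries.last_map] at this
      exact this
    exact closure_minimal (Subtype.coe_image_subset Y _) hY hx'
  exact LTSeries.longestOf_is_longest (q'.snoc top hlt)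

theorem upperSemicontinuous_localDim :
    UpperSemicontinuous fun x : X => FlatMor.localDim X x := by
  intro x c hc
  obtain ⟨U, hxU, hU⟩ := exists_nhd_dim_eq_localDim x
  filter_upwards [U.2.mem_nhds hxU] with y hy
  exact lt_of_le_of_lt (iInf_le_of_le ⟨U, hy⟩ hU.ge) hc

theorem localDim_eq_iSup {x : X} {ι : Type*} [Finite ι] {Y : ι → Set X} (hY : ∀ i, IsClosed (Y i))
    (hx : ∀ i, x ∈ Y i) (hcov : ⋃ i, Y i = Set.univ) :
    FlatMor.localDim X x = ⨆ i, FlatMor.localDim (Y i) ⟨x, hx i⟩ := by
  apply le_antisymm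
  · choose V hV hVd using fun i => exists_nhd_dim_eq_localDim (X := ↥(Y i)) ⟨x, hx i⟩
    choose W hW hWV using fun i => isOpen_induced_iff.mp (V i).2
    let U : Opens X := ⟨⋂ i, W i, isOpen_iInter_of_finite hW⟩
    have hxU : x ∈ U := Set.mem_iInter.2 fun i =>
      show (⟨x, hx i⟩ : ↥(Y i)) ∈ Subtype.val ⁻¹' W i from (hWV i).symm ▸ hV i
    refine iInf_le_of_le ⟨U, hxU⟩ ?_
    refine dim_le fun p => ?_
    obtain ⟨i, hi⟩ := exists_subset_of_locallyFinite (Y := fun i => (Subtype.val ⁻¹' Y i : Set ↥(U : Set X)))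
      (fun i => (hY i).preimage continuous_subtype_val) (locallyFinite_of_finite _)
      p.last.isIrreducible (fun y _ => by
        simpa using (hcov.ge (Set.mem_univ y.1) : y.1 ∈ ⋃ i, Y i))
    refine le_iSup_of_le i ((length_le_dim_subset p hi).trans ?_)
    rw [hVd i]
    let f : ↥(Subtype.val ⁻¹' Y i : Set ↥(U : Set X)) → ↥(V i : Set ↥(Y i)) := fun z =>
      ⟨⟨z.1.1, z.2⟩, (hWV i).le (Set.mem_iInter.1 z.1.2 i)⟩
    have hf : IsInducing f := by
      have h1 : IsInducing ((fun w : ↥(V i : Set ↥(Y i)) => (w.1.1 : X)) ∘ f) := by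
        change IsInducing (fun z : ↥(Subtype.val ⁻¹' Y i : Set ↥(U : Set X)) => (z.1.1 : X))
        exact IsInducing.subtypeVal.comp IsInducing.subtypeVal
      exact IsInducing.of_comp (by fun_prop) (continuous_subtype_val.comp continuous_subtype_val) h1
    exact hf.topologicalKrullDim_le
  · refine iSup_le fun i => le_iInf fun U => ?_
    refine iInf_le_of_le ⟨⟨Subtype.val ⁻¹' (U.1 : Set X), U.1.2.preimage continuous_subtype_val⟩,
      U.2⟩ ?_
    let f : ↥(Subtype.val ⁻¹' (U.1 : Set X) : Set ↥(Y i)) → ↥(U.1 : Set X) := fun z => ⟨z.1.1, z.2⟩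
    have h1 : IsInducing (Subtype.val ∘ f) := by
      change IsInducing (fun z : ↥(Subtype.val ⁻¹' (U.1 : Set X) : Set ↥(Y i)) => (z.1.1 : X))
      exact IsInducing.subtypeVal.comp IsInducing.subtypeVal
    have hf : IsInducing f :=
      IsInducing.of_comp (by fun_prop) continuous_subtype_val h1
    exact hf.topologicalKrullDim_le

end Groth.Agent.H23.TopDim
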