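import Mathlib.AlgebraicGeometry.Morphisms.Separated
import Mathlib.AlgebraicGeometry.Morphisms.Immersion
import Mathlib.AlgebraicGeometry.PullbackCarrier
import Mathlib.AlgebraicGeometry.ResidueField
import Mathlib.AlgebraicGeometry.Properties
import Mathlib.AlgebraicGeometry.FunctionField

/-!
# Criteria of separatedness
-/

open AlgebraicGeometry CategoryTheory CategoryTheory.Limits

universe u

namespace Groth.Agent.H23.SepCrit

variable {X Y : Scheme.{u}}

theorem isSeparated_of_isClosed_range (f : X ⟶ Y)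
    (h : IsClosed (Set.range (pullback.diagonal f))) : IsSeparated f :=
  ⟨.of_isPreimmersion _ h⟩

theorem diagonal_map {W : Scheme.{u}} (g : W ⟶ X) (f : X ⟶ Y) (e) (e') :
    pullback.diagonal (g ≫ f) ≫ pullback.map (g ≫ f) (g ≫ f) f f g g (𝟙 _) e e' =
      g ≫ pullback.diagonal f := by
  apply pullback.hom_ext
  · rw [Category.assoc, Category.assoc, pullback.diagonal_fst, pullback.map, pullback.lift_fst,
      ← Category.assoc, pullback.diagonal_fst, Category.id_comp, Category.comp_id]
  · rw [Category.assoc, Category.assoc, pullback.diagonal_snd, pullback.map, pullback.lift_snd,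
      ← Category.assoc, pullback.diagonal_snd, Category.id_comp, Category.comp_id]

theorem isSeparated_iff_closed_cover (f : X ⟶ Y) {ι : Type*} [Finite ι] (Xk : ι → Scheme.{u})
    (g : ∀ k, Xk k ⟶ X) [∀ k, IsClosedImmersion (g k)]
    (hcov : ∀ x : X, ∃ k, x ∈ Set.range (g k)) :
    IsSeparated f ↔ ∀ k, IsSeparated (g k ≫ f) := by
  refine ⟨fun _ k => inferInstance, fun h => isSeparated_of_isClosed_range f ?_⟩
  let m : ∀ k, pullback.diagonalObj (g k ≫ f) ⟶ pullback.diagonalObj f := fun k =>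
    pullback.map (g k ≫ f) (g k ≫ f) f f (g k) (g k) (𝟙 _) (by simp) (by simp)
  have hm : ∀ k, IsClosedImmersion (m k) := fun k =>
    MorphismProperty.pullbackMap (P := @IsClosedImmersion) inferInstance inferInstance rfl rfl
  have hcomm : ∀ k, pullback.diagonal (g k ≫ f) ≫ m k = g k ≫ pullback.diagonal f := fun k =>
    diagonal_map (g k) f _ _
  have : Set.range (pullback.diagonal f) =
      ⋃ k, m k '' Set.range (pullback.diagonal (g k ≫ f)) := by
    ext z
    constructor
    · rintro ⟨x, rfl⟩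
      obtain ⟨k, a, rfl⟩ := hcov x
      refine Set.mem_iUnion.2 ⟨k, _, ⟨a, rfl⟩, ?_⟩
      rw [← Scheme.Hom.comp_apply, hcomm, Scheme.Hom.comp_apply]
    · intro hz
      obtain ⟨k, _, ⟨a, rfl⟩, rfl⟩ := Set.mem_iUnion.1 hz
      exact ⟨g k a, by rw [← Scheme.Hom.comp_apply, ← hcomm, Scheme.Hom.comp_apply]⟩
  rw [this]
  refine isClosed_iUnion_of_finite fun k => ?_
  haveI := h k
  haveI := hm k
  exact (m k).isClosedEmbedding.isClosedMap _
    (pullback.diagonal (g k ≫ f)).isClosedEmbedding.isClosed_range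

theorem isSeparated_of_pairs_affine (f : X ⟶ Y)
    (h : ∀ x y : X, f x = f y → ∃ U : X.Opens, IsAffineOpen U ∧ x ∈ U ∧ y ∈ U) :
    IsSeparated f := by
  refine isSeparated_of_isClosed_range f (isOpen_compl_iff.mp (isOpen_iff_forall_mem_open.2 ?_))
  intro z hz
  obtain ⟨U, hU, hx, hy⟩ := h (pullback.fst f f z) (pullback.snd f f z) (by
    rw [← Scheme.Hom.comp_apply, ← Scheme.Hom.comp_apply, pullback.condition])
  haveI : IsAffine (U : Scheme.{u}) := hU
  haveI : IsSeparated (U.ι ≫ f) := inferInstance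
  let m : pullback.diagonalObj (U.ι ≫ f) ⟶ pullback.diagonalObj f :=
    pullback.map (U.ι ≫ f) (U.ι ≫ f) f f U.ι U.ι (𝟙 _) (by simp) (by simp)
  have hzm : z ∈ Set.range m := by
    rw [Scheme.Pullback.range_map]
    simp only [Set.mem_inter_iff, Set.mem_preimage, Scheme.Opens.range_ι, SetLike.mem_coe]
    exact ⟨hx, hy⟩
  have hcomm : pullback.diagonal (U.ι ≫ f) ≫ m = U.ι ≫ pullback.diagonal f :=
    diagonal_map U.ι f _ _
  refine ⟨m '' (Set.range (pullback.diagonal (U.ι ≫ f)))ᶜ, ?_,
    m.isOpenEmbedding.isOpenMap _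
      (pullback.diagonal (U.ι ≫ f)).isClosedEmbedding.isClosed_range.isOpen_compl, ?_⟩
  · rintro _ ⟨w, hw, rfl⟩ ⟨a, ha⟩
    have haU : a ∈ U := by
      have h1 : pullback.fst f f (m w) = U.ι (pullback.fst (U.ι ≫ f) (U.ι ≫ f) w) := by
        rw [← Scheme.Hom.comp_apply, ← Scheme.Hom.comp_apply]
        have e : m ≫ pullback.fst f f = pullback.fst (U.ι ≫ f) (U.ι ≫ f) ≫ U.ι :=
          pullback.lift_fst _ _ _
        rw [e]
      rw [← ha, ← Scheme.Hom.comp_apply, pullback.diagonal_fst] at h1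
      have h2 : (U.ι (pullback.fst (U.ι ≫ f) (U.ι ≫ f) w)) ∈ Set.range U.ι := ⟨_, rfl⟩
      rw [← h1, Scheme.Opens.range_ι] at h2
      simpa using h2
    obtain ⟨a', rfl⟩ : a ∈ Set.range U.ι := by rwa [Scheme.Opens.range_ι]
    refine hw ⟨a', m.isOpenEmbedding.injective ?_⟩
    rw [← Scheme.Hom.comp_apply, hcomm, Scheme.Hom.comp_apply, ha]
  · obtain ⟨w, rfl⟩ := hzm
    refine ⟨w, ?_, rfl⟩
    rintro ⟨a', rfl⟩
    exact hz ⟨U.ι a', by rw [← Scheme.Hom.comp_apply, ← hcomm, Scheme.Hom.comp_apply]⟩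

/-- Two sections of a separated morphism over an integral scheme which agree at the generic point
are equal. -/
theorem section_ext {S T : Scheme.{u}} [IsIntegral S] (p : T ⟶ S) [IsSeparated p] (f g : S ⟶ T)
    (hf : f ≫ p = 𝟙 S) (hg : g ≫ p = 𝟙 S)
    (h : f (genericPoint S) = g (genericPoint S)) : f = g := by
  set s := genericPoint S with hs
  refine ext_of_fromSpecResidueField_eq f g p {s} ?_ ?_ (hf.trans hg.symm)
  · exact dense_iff_closure_eq.2 (genericPoint_spec S)
  rintro x rfl
  have hps : p (f s) = s := by rw [← Scheme.Hom.comp_apply, hf]; rfl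
  let α : T.residueField (f s) ⟶ S.residueField s := f.residueFieldMap s
  let β : T.residueField (f s) ⟶ S.residueField s :=
    (T.residueFieldCongr h).hom ≫ g.residueFieldMap s
  have ha : Spec.map α ≫ T.fromSpecResidueField (f s) = S.fromSpecResidueField s ≫ f := by simp [α]
  have hb : Spec.map β ≫ T.fromSpecResidueField (f s) = S.fromSpecResidueField s ≫ g := by
    simp [β]
  let π := p.residueFieldMap (f s)
  have key : ∀ (q : S ⟶ T) (_ : q ≫ p = 𝟙 S) (γ : T.residueField (f s) ⟶ S.residueField s),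
      Spec.map γ ≫ T.fromSpecResidueField (f s) = S.fromSpecResidueField s ≫ q →
        π ≫ γ = (S.residueFieldCongr hps).hom := fun q hq γ hγ => by
    rw [← Spec.map_inj, ← cancel_mono (S.fromSpecResidueField (p (f s))), Spec.map_comp,
      Category.assoc, Scheme.Hom.SpecMap_residueFieldMap_fromSpecResidueField, reassoc_of% hγ,
      hq, Category.comp_id, Scheme.residueFieldCongr_fromSpecResidueField]
  have hA := key f hf α ha
  have hB := key g hg β hb
  have hsurj : Function.Surjective π := by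
    intro t
    obtain ⟨c, hc⟩ :=
      (S.residueFieldCongr hps).commRingCatIsoToRingEquiv.surjective (α t)
    refine ⟨c, α.hom.injective ?_⟩
    rw [← hc, show α (π c) = (π ≫ α) c from rfl, hA]
    rfl
  have : α = β := by
    ext t
    obtain ⟨c, rfl⟩ := hsurj t
    rw [show α (π c) = (π ≫ α) c from rfl, show β (π c) = (π ≫ β) c from rfl, hA, hB]
  rw [← ha, ← hb, this]

end Groth.Agent.H23.SepCrit
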