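import Groth.Agent.H23.P1Charts
import Mathlib.AlgebraicGeometry.Birational.RationalMap
import Mathlib.AlgebraicGeometry.ValuativeCriterion
import Mathlib.AlgebraicGeometry.Morphisms.SurjectiveOnStalks
import Mathlib.AlgebraicGeometry.Morphisms.Flat

/-!
Extending maps given at the generic point.
-/

universe u

open CategoryTheory Limits AlgebraicGeometry TopologicalSpace Polynomial

namespace Groth.Agent.H23.RatExtend

/-- A flat morphism surjective on stalks is bijective on stalks. -/
theorem isIso_stalkMap {X Y : Scheme.{u}} (f : X ⟶ Y) [Flat f] [SurjectiveOnStalks f] (x : X) :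
    IsIso (f.stalkMap x) := by
  rw [ConcreteCategory.isIso_iff_bijective]
  refine ⟨?_, f.stalkMap_surjective x⟩
  let := (f.stalkMap x).hom.toAlgebra
  have : Module.Flat (Y.presheaf.stalk (f x)) (X.presheaf.stalk x) := Flat.stalkMap f x
  have : IsLocalHom (algebraMap (Y.presheaf.stalk (f x)) (X.presheaf.stalk x)) :=
    inferInstanceAs (IsLocalHom (f.stalkMap x).hom)
  have : Module.FaithfullyFlat (Y.presheaf.stalk (f x)) (X.presheaf.stalk x) :=
    Module.FaithfullyFlat.of_flat_of_isLocalHom
  exact FaithfulSMul.algebraMap_injective (Y.presheaf.stalk (f x)) (X.presheaf.stalk x)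

theorem specializes_comp_fromSpecStalkOfMem {X : Scheme.{u}} (U : X.Opens) {x y : X} (h : y ⤳ x)
    (hx : x ∈ U) (hy : y ∈ U) :
    Spec.map (X.presheaf.stalkSpecializes h) ≫ U.fromSpecStalkOfMem x hx =
      U.fromSpecStalkOfMem y hy := by
  rw [← cancel_mono U.ι, Category.assoc, Scheme.Opens.fromSpecStalkOfMem_ι,
    Scheme.Opens.fromSpecStalkOfMem_ι, Scheme.SpecMap_stalkSpecializes_fromSpecStalk]

/-- The generic point maps to any nonempty open. -/
theorem genericPoint_mem {X : Scheme.{u}} [IrreducibleSpace X] (U : X.Opens) {x : X} (hx : x ∈ U) :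
    genericPoint X ∈ U :=
  (genericPoint_specializes x).mem_open U.2 hx

theorem isDominant_fromSpecStalk {X : Scheme.{u}} [IrreducibleSpace X] :
    IsDominant (X.fromSpecStalk (genericPoint X)) := by
  refine ⟨dense_iff_closure_eq.2 (Set.eq_univ_of_forall fun y => ?_)⟩
  refine closure_mono (Set.singleton_subset_iff.2 ?_)
    (specializes_iff_mem_closure.1 (genericPoint_specializes y))
  exact ⟨_, Scheme.fromSpecStalk_closedPoint⟩

theorem isDominant_fromSpecStalkOfMem {X : Scheme.{u}} [IrreducibleSpace X] (U : X.Opens)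
    (h : genericPoint X ∈ U) : IsDominant (U.fromSpecStalkOfMem (genericPoint X) h) := by
  refine ⟨dense_iff_closure_eq.2 (Set.eq_univ_of_forall fun y => ?_)⟩
  have hy : (⟨genericPoint X, h⟩ : U) ⤳ y :=
    Topology.IsInducing.subtypeVal.specializes_iff.1 (genericPoint_specializes y.1)
  have hsub : ({(⟨genericPoint X, h⟩ : U)} : Set U) ⊆
      Set.range (U.fromSpecStalkOfMem (genericPoint X) h) := by
    refine Set.singleton_subset_iff.2 ?_
    refine ⟨IsLocalRing.closedPoint (X.presheaf.stalk (genericPoint X)),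
      U.ι.isOpenEmbedding.injective ?_⟩
    rw [← Scheme.Hom.comp_apply, Scheme.Opens.fromSpecStalkOfMem_ι]
    exact Scheme.fromSpecStalk_closedPoint
  exact closure_mono hsub (specializes_iff_mem_closure.1 hy)

variable {P X S : Scheme.{u}} [IsIntegral P] (sP : P ⟶ S) (sX : X ⟶ S)

/-- Glue the maps given at a set of points compatibly with the one at the generic point. -/
theorem extend [LocallyOfFiniteType sX] [X.IsSeparated] [S.IsSeparated] (φ₀ : Spec (P.presheaf.stalk (genericPoint P)) ⟶ X)
    (h₀ : φ₀ ≫ sX = P.fromSpecStalk _ ≫ sP) (T : Set P)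
    (hT : ∀ p ∈ T, ∃ φ : Spec (P.presheaf.stalk p) ⟶ X, φ ≫ sX = P.fromSpecStalk p ≫ sP ∧
      Spec.map (P.presheaf.stalkSpecializes (genericPoint_specializes p)) ≫ φ = φ₀) :
    ∃ (W : P.Opens) (hg : genericPoint P ∈ W) (H : W.toScheme ⟶ X), T ⊆ W ∧
      H ≫ sX = W.ι ≫ sP ∧ W.fromSpecStalkOfMem (genericPoint P) hg ≫ H = φ₀ := by
  let r := Scheme.RationalMap.ofFunctionField sP sX φ₀ h₀
  have hg : genericPoint P ∈ r.toPartialMap.domain :=
    genericPoint_mem _ r.toPartialMap.dense_domain.nonempty.choose_spec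
  have hφ₀ : r.toPartialMap.domain.fromSpecStalkOfMem (genericPoint P) hg ≫ r.toPartialMap.hom = φ₀ := by
    have h := congrArg Scheme.RationalMap.fromFunctionField r.toRationalMap_toPartialMap
    rw [Scheme.RationalMap.fromFunctionField_ofFunctionField] at h
    exact h
  refine ⟨r.toPartialMap.domain, hg, r.toPartialMap.hom, fun p hp => ?_, ?_, hφ₀⟩
  · obtain ⟨φ, hφ, hsp⟩ := hT p hp
    refine Scheme.RationalMap.mem_domain.2 ⟨Scheme.PartialMap.ofFromSpecStalk sP sX φ hφ,
      Scheme.PartialMap.mem_domain_ofFromSpecStalk sP sX φ hφ, ?_⟩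
    refine Scheme.RationalMap.eq_of_fromFunctionField_eq _ _ ?_
    rw [Scheme.RationalMap.fromFunctionField_toRationalMap,
      Scheme.RationalMap.fromFunctionField_ofFunctionField]
    show Scheme.Opens.fromSpecStalkOfMem _ _ _ ≫ _ = φ₀
    rw [← specializes_comp_fromSpecStalkOfMem _ (genericPoint_specializes p)
      (Scheme.PartialMap.mem_domain_ofFromSpecStalk sP sX φ hφ), Category.assoc]
    refine Eq.trans ?_ hsp
    congr 1
    exact Scheme.PartialMap.fromSpecStalkOfMem_ofFromSpecStalk sP sX φ hφ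
  · have := isDominant_fromSpecStalkOfMem _ hg
    refine ext_of_isDominant (r.toPartialMap.domain.fromSpecStalkOfMem (genericPoint P) hg) ?_
    rw [reassoc_of% hφ₀, h₀, Scheme.Opens.fromSpecStalkOfMem_ι_assoc]

/-- At a point whose local ring is a valuation ring, a proper target allows extension. -/
theorem exists_lift [IsProper sX] (φ₀ : Spec (P.presheaf.stalk (genericPoint P)) ⟶ X)
    (h₀ : φ₀ ≫ sX = P.fromSpecStalk _ ≫ sP) (p : P) (hv : ValuationRing (P.presheaf.stalk p)) :
    ∃ φ : Spec (P.presheaf.stalk p) ⟶ X, φ ≫ sX = P.fromSpecStalk p ≫ sP ∧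
      Spec.map (P.presheaf.stalkSpecializes (genericPoint_specializes p)) ≫ φ = φ₀ := by
  have hE : ValuativeCriterion.Existence sX := by
    have h := ‹IsProper sX›
    rw [IsProper.eq_valuativeCriterion] at h
    exact h.1.1.1.existence
  have hd : IsDomain (P.presheaf.stalk p) :=
    Function.Injective.isDomain _ (IsFractionRing.injective (P.presheaf.stalk p) P.functionField)
  let sq : ValuativeCommSq sX :=
    { R := P.presheaf.stalk p
      domain := hd
      valuationRing := hv
      K := P.functionField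
      i₁ := φ₀
      i₂ := P.fromSpecStalk p ≫ sP
      commSq := ⟨by
        rw [h₀, ← Scheme.SpecMap_stalkSpecializes_fromSpecStalk (genericPoint_specializes p),
          Category.assoc]
        rfl⟩ }
  obtain ⟨l, hl₁, hl₂⟩ := (hE sq).exists_lift
  exact ⟨l, hl₂, hl₁⟩

theorem valuationRing_atPrime {A : Type u} [CommRing A] [IsDomain A] [IsPrincipalIdealRing A]
    (q : Ideal A) [q.IsPrime] : ValuationRing (Localization.AtPrime q) := by
  have : IsPrincipalIdealRing (Localization.AtPrime q) := ⟨fun I => by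
    obtain ⟨a, ha⟩ := IsPrincipalIdealRing.principal (I.comap (algebraMap A (Localization.AtPrime q)))
    refine ⟨algebraMap A _ a, ?_⟩
    conv_lhs => rw [← IsLocalization.map_comap q.primeCompl (Localization.AtPrime q) I]
    rw [Ideal.under, ha]
    simp [Ideal.submodule_span_eq, Ideal.map_span]⟩
  have : IsDomain (Localization.AtPrime q) :=
    IsLocalization.isDomain_localization q.primeCompl_le_nonZeroDivisors
  infer_instance

theorem valuationRing_of_ringEquiv {A B : Type u} [CommRing A] [CommRing B] [IsDomain A] [IsDomain B]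
    [ValuationRing A] (e : A ≃+* B) : ValuationRing B :=
  Function.Surjective.valuationRing e.toRingHom e.surjective

/-- The local rings of the projective line over a field are valuation rings. -/
theorem valuationRing_stalk (K : Type u) [Field K]
    (p : CohB1.ProjSpaceOver 1 (Spec (CommRingCat.of K))) :
    ValuationRing ((CohB1.ProjSpaceOver 1 (Spec (CommRingCat.of K))).presheaf.stalk p) := by
  obtain ⟨i, y, rfl⟩ := P1Charts.exists_chart K p
  have : ValuationRing (Localization.AtPrime (y : PrimeSpectrum K[X]).asIdeal) :=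
    valuationRing_atPrime _
  have : IsDomain (Localization.AtPrime (y : PrimeSpectrum K[X]).asIdeal) :=
    IsLocalization.isDomain_localization (Ideal.primeCompl_le_nonZeroDivisors _)
  let e : Localization.AtPrime (y : PrimeSpectrum K[X]).asIdeal ≃+*
      (Spec (CommRingCat.of K[X])).presheaf.stalk y := (StructureSheaf.stalkIso K[X] y).toRingEquiv
  let e₂ := e.trans (asIso ((P1Charts.chart K i).stalkMap y)).commRingCatIsoToRingEquiv.symm
  have : IsDomain ((CohB1.ProjSpaceOver 1 (Spec (CommRingCat.of K))).presheaf.stalk (P1Charts.chart K i y)) :=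
    e₂.symm.injective.isDomain e₂.symm.toRingHom
  exact valuationRing_of_ringEquiv e₂

theorem toP1_isPullback {A B : Scheme.{u}} (f : A ⟶ B) :
    IsPullback (P1.toP1 f) (CohB1.ProjSpaceOver.toBase 1 A) (CohB1.ProjSpaceOver.toBase 1 B) f := by
  refine IsPullback.of_right ?_ ?_ (IsPullback.of_hasPullback (CohB1.ProjSpace.toSpec 1 (ULift.{u} ℤ))
    (specULiftZIsTerminal.from B))
  · have e : P1.toP1 f ≫ pullback.fst _ _ =
        pullback.fst (CohB1.ProjSpace.toSpec 1 (ULift.{u} ℤ)) (specULiftZIsTerminal.from A) := by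
      simp only [P1.toP1, pullback.map, Category.comp_id]
      exact pullback.lift_fst _ _ _
    rw [e, specULiftZIsTerminal.hom_ext (f ≫ specULiftZIsTerminal.from B) (specULiftZIsTerminal.from A)]
    exact IsPullback.of_hasPullback _ _
  · simp only [P1.toP1, pullback.map, CohB1.ProjSpaceOver.toBase]
    exact pullback.lift_snd _ _ _

theorem flat_fromSpecStalk (X : Scheme.{u}) (x : X) : Flat (X.fromSpecStalk x) := by
  obtain ⟨_, ⟨U, hU, rfl⟩, hxU, -⟩ := X.isBasis_affineOpens.exists_subset_of_mem_open (Set.mem_univ x) isOpen_univ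
  rw [← hU.fromSpecStalk_eq_fromSpecStalk hxU, IsAffineOpen.fromSpecStalk]
  let := TopCat.Presheaf.algebra_section_stalk X.presheaf (⟨x, hxU⟩ : U)
  have := hU.isLocalization_stalk ⟨x, hxU⟩
  have hf : Module.Flat Γ(X, U) (X.presheaf.stalk x) :=
    IsLocalization.flat _ (hU.primeIdealOf ⟨x, hxU⟩).asIdeal.primeCompl
  have : Flat (Spec.map (X.presheaf.germ U x hxU)) :=
    Flat.SpecMap_iff.2 (RingHom.flat_algebraMap_iff.2 hf)
  infer_instance

/-- A flat monomorphism onto a set of points: morphisms spread to a neighbourhood of the image. -/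
theorem exists_spread {Q : Scheme.{u}} [IsIntegral Q] [LocallyOfFiniteType sX] [X.IsSeparated] [S.IsSeparated]
    (π : Q ⟶ P) [Flat π] [SurjectiveOnStalks π] (hgen : π (genericPoint Q) = genericPoint P)
    (g : Q ⟶ X) (hg : g ≫ sX = π ≫ sP) :
    ∃ (W : P.Opens) (H : W.toScheme ⟶ X), Set.range π ⊆ W ∧ H ≫ sX = W.ι ≫ sP ∧
      ∀ {T : Scheme.{u}} (t : T ⟶ Q) (l : T ⟶ W.toScheme), l ≫ W.ι = t ≫ π → l ≫ H = t ≫ g := by
  have hI : ∀ q, IsIso (π.stalkMap q) := isIso_stalkMap π
  let χ : ∀ q : Q, Spec (P.presheaf.stalk (π q)) ⟶ X := fun q =>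
    inv (Spec.map (π.stalkMap q)) ≫ Q.fromSpecStalk q ≫ g
  have hχ : ∀ q, Spec.map (π.stalkMap q) ≫ χ q = Q.fromSpecStalk q ≫ g := fun q => by simp [χ]
  have hover : ∀ q, χ q ≫ sX = P.fromSpecStalk (π q) ≫ sP := fun q => by
    rw [← cancel_epi (Spec.map (π.stalkMap q)), reassoc_of% hχ q, hg,
      Scheme.SpecMap_stalkMap_fromSpecStalk_assoc]
  let gQ := genericPoint Q
  have hs : genericPoint P ⤳ π gQ := specializes_of_eq hgen.symm
  have hs' : π gQ ⤳ genericPoint P := specializes_of_eq hgen
  let φ₀ : Spec (P.presheaf.stalk (genericPoint P)) ⟶ X := Spec.map (P.presheaf.stalkSpecializes hs) ≫ χ gQ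
  have h₀ : φ₀ ≫ sX = P.fromSpecStalk _ ≫ sP := by
    simp only [φ₀, Category.assoc, hover]
    rw [Scheme.SpecMap_stalkSpecializes_fromSpecStalk_assoc]
  obtain ⟨W, hgW, H, hT, hH, hH₀⟩ := extend sP sX φ₀ h₀ (Set.range π) (by
    rintro _ ⟨q, rfl⟩
    refine ⟨χ q, hover q, ?_⟩
    have h := genericPoint_specializes q
    have hpush : Spec.map (P.presheaf.stalkSpecializes (π.base.hom.map_specializes h)) ≫ χ q = χ gQ := by
      rw [← cancel_epi (Spec.map (π.stalkMap gQ)), hχ gQ, ← Category.assoc, ← Spec.map_comp,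
        π.stalkSpecializes_stalkMap gQ q h, Spec.map_comp, Category.assoc, hχ q,
        Scheme.SpecMap_stalkSpecializes_fromSpecStalk_assoc]
    have hcomp : Spec.map (P.presheaf.stalkSpecializes hs) ≫
        Spec.map (P.presheaf.stalkSpecializes (π.base.hom.map_specializes h)) =
        Spec.map (P.presheaf.stalkSpecializes (genericPoint_specializes (π q))) := by
      rw [← Spec.map_comp]
      congr 1
      exact TopCat.Presheaf.stalkSpecializes_comp _ _ _
    rw [← hcomp, Category.assoc, hpush])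
  refine ⟨W, H, hT, hH, ?_⟩
  have hsub : Set.range π ⊆ Set.range W.ι := by rwa [Scheme.Opens.range_ι]
  let πW : Q ⟶ W.toScheme := IsOpenImmersion.lift W.ι π hsub
  have hπW : πW ≫ W.ι = π := IsOpenImmersion.lift_fac _ _ _
  have hk : πW ≫ H = g := by
    have : IsDominant (Q.fromSpecStalk gQ) := isDominant_fromSpecStalk
    refine ext_of_isDominant (Q.fromSpecStalk gQ) ?_
    have hm : π gQ ∈ W := hgen ▸ hgW
    have e : Q.fromSpecStalk gQ ≫ πW = Spec.map (π.stalkMap gQ) ≫ W.fromSpecStalkOfMem (π gQ) hm := by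
      rw [← cancel_mono W.ι]
      simp only [Category.assoc, hπW, Scheme.Opens.fromSpecStalkOfMem_ι,
        Scheme.SpecMap_stalkMap_fromSpecStalk]
    rw [← Category.assoc, e, ← specializes_comp_fromSpecStalkOfMem W hs' hgW hm, Category.assoc,
      Category.assoc, hH₀, ← hχ gQ]
    congr 1
    simp only [φ₀, ← Category.assoc, ← Spec.map_comp, TopCat.Presheaf.stalkSpecializes_comp]
    rw [TopCat.Presheaf.stalkSpecializes_refl]
    simp
  intro T t l hl
  have : l = t ≫ πW := by rw [← cancel_mono W.ι, hl, Category.assoc, hπW]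
  rw [this, Category.assoc, hk]

end Groth.Agent.H23.RatExtend
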