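import Groth.Agent.H23.RigidNoeth

/-!
Consequences of rigidity over a locally noetherian base: connected bases, and stability under base
change of the hypothesis "global functions of the fibres are constant".
-/

universe u

open CategoryTheory Limits AlgebraicGeometry TopologicalSpace

namespace Groth.Agent.H23.RigidApply

variable {X Y S : Scheme.{u}}

/-- The hypothesis on global functions of fibres. -/
def ConstFibres (p : X ⟶ S) : Prop :=
  ∀ s : S, Function.Bijective (pullback.snd p (S.fromSpecResidueField s)).appTop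

lemma constFibres_of_geometricallyIntegral (p : X ⟶ S) [IsProper p] [GeometricallyIntegral p] :
    ConstFibres p := fun s =>
  Rigid.bijective_appTop (k := S.residueField s) (pullback.snd p (S.fromSpecResidueField s))

lemma ConstFibres.baseChange {p : X ⟶ S} [QuasiCompact p] [QuasiSeparated p] (h : ConstFibres p)
    {T : Scheme.{u}} (τ : T ⟶ S) : ConstFibres (pullback.snd p τ) := by
  intro t
  let a := S.fromSpecResidueField (τ t)
  let b := Spec.map (τ.residueFieldMap t)
  let ι := T.fromSpecResidueField t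
  have hab : b ≫ a = ι ≫ τ := Scheme.Hom.SpecMap_residueFieldMap_fromSpecResidueField τ t
  let v : pullback p a ⟶ Spec (CommRingCat.of (S.residueField (τ t))) := pullback.snd p a
  have hv := Rigid.bijective_app_snd_of_bijective v b (h (τ t))
  let e : pullback (pullback.snd p τ) ι ≅ pullback v b :=
    pullbackLeftPullbackSndIso p τ ι ≪≫ pullback.congrHom rfl hab.symm ≪≫ (pullbackLeftPullbackSndIso p a b).symm
  have he : pullback.snd (pullback.snd p τ) ι = e.hom ≫ pullback.snd v b := by
    simp [e, v, pullback.congrHom, pullback.map, pullback.lift_snd, pullbackLeftPullbackSndIso_hom_snd,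
      pullbackLeftPullbackSndIso_inv_snd_snd]
  rw [he, Scheme.Hom.comp_appTop]
  have : IsIso (e.hom.app ⊤) := inferInstance
  exact (@ConcreteCategory.bijective_of_isIso _ _ _ _ _ _ _ _ e.hom.appTop this).comp (hv ⊤)

/-- Factorization over a connected base, proper case. -/
lemma factor_of_isProper [IsLocallyNoetherian S] [PreconnectedSpace S] (p : X ⟶ S) [Flat p] [IsProper p]
    (h0 : ConstFibres p) (g : Y ⟶ S) [IsSeparated g] (π : X ⟶ Y) (hπ : π ≫ g = p)
    (s : S) (hs : s ∈ RigidNoeth.collapsed p π) :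
    ∃ t : S ⟶ Y, t ≫ g = 𝟙 S ∧ π = p ≫ t := by
  obtain ⟨C, hcl, hC, t, ht, hfac⟩ := RigidNoeth.rigidity_of_isProper p h0 g π hπ
  have htop : C = ⊤ := by
    ext1
    exact IsClopen.eq_univ ⟨hcl, C.isOpen⟩ ⟨s, hC ▸ hs⟩
  subst htop
  refine ⟨S.topIso.inv ≫ t, ?_, ?_⟩
  · rw [Category.assoc, ht]; exact S.topIso.inv_hom_id
  · have : IsIso (p ⁻¹ᵁ (⊤ : S.Opens)).ι := inferInstanceAs (IsIso X.topIso.hom)
    rw [← cancel_epi (p ⁻¹ᵁ ⊤).ι, hfac, ← Category.assoc, ← morphismRestrict_ι p ⊤]
    simp [← Scheme.topIso_hom]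

/-- Factorization over a connected base, when there is a section. -/
lemma factor_of_section [IsLocallyNoetherian S] [PreconnectedSpace S] [IsLocallyNoetherian X] (p : X ⟶ S) [Flat p]
    (hcl : IsClosedMap p) (e : S ⟶ X) (he : e ≫ p = 𝟙 S)
    (h0 : ConstFibres p) (g : Y ⟶ S) [IsSeparated g] (π : X ⟶ Y) (hπ : π ≫ g = p)
    (s : S) (hs : s ∈ RigidNoeth.collapsed p π) :
    ∃ t : S ⟶ Y, t ≫ g = 𝟙 S ∧ π = p ≫ t := by
  obtain ⟨C, hclC, hC, hfac⟩ := RigidNoeth.rigidity_of_section p hcl e he h0 g π hπ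
  have htop : C = ⊤ := by
    ext1
    exact IsClopen.eq_univ ⟨hclC, C.isOpen⟩ ⟨s, hC ▸ hs⟩
  subst htop
  refine ⟨e ≫ π, by rw [Category.assoc, hπ, he], ?_⟩
  have : IsIso (p ⁻¹ᵁ (⊤ : S.Opens)).ι := inferInstanceAs (IsIso X.topIso.hom)
  rw [← cancel_epi (p ⁻¹ᵁ ⊤).ι, hfac]

/-- Equal fibres give a collapsed quotient. -/
lemma mem_collapsed_of_comp_eq {p : X ⟶ S} {π : X ⟶ Y} (s : S) (y : Spec (S.residueField s) ⟶ Y)
    (h : pullback.fst p (S.fromSpecResidueField s) ≫ π = pullback.snd p (S.fromSpecResidueField s) ≫ y) :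
    s ∈ RigidNoeth.collapsed p π := by
  obtain ⟨z⟩ := (inferInstance : Nonempty (Spec (S.residueField s)))
  refine ⟨y z, fun x hx => ?_⟩
  obtain ⟨w, hw, hw'⟩ := Scheme.Pullback.exists_preimage_pullback (f := p) (g := S.fromSpecResidueField s) x z
    (hx.trans (Scheme.fromSpecResidueField_apply _ _).symm)
  have := congr($h w)
  simp only [Scheme.Hom.comp_apply, hw, hw'] at this
  exact this

end Groth.Agent.H23.RigidApply
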