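import Mathlib.AlgebraicGeometry.AffineScheme
import Mathlib.AlgebraicGeometry.Morphisms.Flat
import Mathlib.RingTheory.Flat.EquationalCriterion
import Mathlib.RingTheory.Noetherian.Basic
import Mathlib.RingTheory.LocalRing.ResidueField.Basic

/-!
Global functions of a flat scheme over an artinian local ring whose closed fibre has only constant
global functions: they are the constants.  The proof is dévissage along `A ⊋ J + (ε) ⊋ J` with
`m ε ⊆ J`; only left exactness of global sections is used.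
-/

universe u

open CategoryTheory Limits AlgebraicGeometry TopologicalSpace

namespace Groth.Agent.H23.RigidInf

variable {A : Type u} [CommRing A] {X : Scheme.{u}} (p : X ⟶ Spec (CommRingCat.of A))

/-- The structure map to the sections over an open. -/
noncomputable def α (U : X.Opens) : A →+* Γ(X, U) :=
  ((Scheme.ΓSpecIso (CommRingCat.of A)).inv ≫ p.appLE ⊤ U le_top).hom

lemma map_α {U W : X.Opens} (h : W ≤ U) (a : A) :
    X.presheaf.map (homOfLE h).op (α p U a) = α p W a := by
  simp only [α, ← ConcreteCategory.comp_apply, Category.assoc, Scheme.Hom.appLE_map]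

lemma flat_α [Flat p] {U : X.Opens} (hU : IsAffineOpen U) : (α p U).Flat :=
  RingHom.Flat.comp (RingHom.Flat.of_bijective (ConcreteCategory.bijective_of_isIso (Scheme.ΓSpecIso (CommRingCat.of A)).inv))
    (p.flat_appLE (isAffineOpen_top _) hU le_top)

/-- A family of sections over the affine opens, compatible modulo `J`. -/
def Compat (J : Ideal A) (g : ∀ U : X.affineOpens, Γ(X, (U : X.Opens))) : Prop :=
  ∀ (U W : X.affineOpens) (h : (W : X.Opens) ≤ (U : X.Opens)),
    X.presheaf.map (homOfLE h).op (g U) - g W ∈ J.map (α p (W : X.Opens))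

/-- The kernel of restriction to the closed fibre. -/
lemma mem_of_app_eq_zero {k : Type u} [CommRing k] (φ : A →+* k) (hφ : Function.Surjective φ)
    {U : X.Opens} (hU : IsAffineOpen U) (b : Γ(X, U))
    (hb : (pullback.fst p (Spec.map (CommRingCat.ofHom φ))).app U b = 0) :
    b ∈ (RingHom.ker φ).map (α p U) := by
  let t := Spec.map (CommRingCat.ofHom φ)
  let i := pullback.fst p t
  have hiso := isIso_pushoutSection_of_isAffineOpen (IsPullback.of_hasPullback p t)
    (US := ⊤) (UT := ⊤) (UX := U) (UY := i ⁻¹ᵁ U) le_top le_top (by simp [i, t]) (isAffineOpen_top _)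
    (isAffineOpen_top _) hU
  rw [isIso_pushoutSection_iff] at hiso
  let I := (RingHom.ker φ).map (α p U)
  let g : k →+* Γ(X, U) ⧸ I := RingHom.liftOfSurjective φ hφ ⟨(Ideal.Quotient.mk I).comp (α p U), fun a ha =>
    Ideal.Quotient.eq_zero_iff_mem.mpr (Ideal.mem_map_of_mem _ ha)⟩
  have hg : ∀ a, g (φ a) = Ideal.Quotient.mk I (α p U a) := fun a =>
    RingHom.liftOfSurjective_comp_apply φ hφ _ a
  have hw : p.appLE ⊤ U le_top ≫ CommRingCat.ofHom (Ideal.Quotient.mk I) =
      t.appLE ⊤ ⊤ le_top ≫ ((Scheme.ΓSpecIso (CommRingCat.of k)).hom ≫ CommRingCat.ofHom g) := by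
    rw [show t.appLE ⊤ ⊤ le_top = t.appTop by simp [Scheme.Hom.appLE], Scheme.ΓSpecIso_naturality_assoc,
      ← cancel_epi (Scheme.ΓSpecIso (CommRingCat.of A)).inv, Iso.inv_hom_id_assoc]
    ext a
    exact (hg a).symm
  have := hiso.inl_desc _ _ hw
  have hb' : i.appLE U (i ⁻¹ᵁ U) le_rfl b = 0 := by rw [← Scheme.Hom.app_eq_appLE]; exact hb
  have h2 := ConcreteCategory.congr_hom this b
  rw [ConcreteCategory.comp_apply, hb', map_zero] at h2
  exact Ideal.Quotient.eq_zero_iff_mem.mp h2.symm

variable [IsLocalRing A]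

open IsLocalRing in
/-- Flatness: `(J B : ε) = m B` when `(J : ε) = m`. -/
lemma mem_maximal_map_of_mul_mem {B : Type*} [CommRing B] (f : A →+* B) (hf : f.Flat) {J : Ideal A}
    {ε : A} (hε : ε ∉ J) {b : B} (hb : b * f ε ∈ J.map f) : b ∈ (maximalIdeal A).map f := by
  algebraize [f]
  obtain ⟨n, a, y, hsum⟩ : ∃ (n : ℕ) (a : Fin n → A) (y : Fin n → B), (∀ i, a i ∈ J) ∧
      b * f ε = ∑ i, a i • y i := by
    obtain ⟨s, hs, c, hc⟩ := (Submodule.mem_span_image_iff_exists_fun (R := B)).mp
      (show b * f ε ∈ Submodule.span B (f '' (J : Set A)) from hb)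
    refine ⟨s.card, fun i => (s.equivFin.symm i).1, fun i => c (s.equivFin.symm i), fun i => ?_, ?_⟩
    · exact hs (s.equivFin.symm i).2
    · rw [← hc]
      refine Eq.trans ?_ (s.equivFin.symm.sum_comp (fun j => (j : A) • c j)).symm
      exact Finset.sum_congr rfl fun j _ => by rw [smul_eq_mul, Algebra.smul_def, mul_comm]; rfl
  obtain ⟨haJ, hsum⟩ := hsum
  let F : Fin (n + 1) → A := Fin.cons ε (fun i => -a i)
  let Y : Fin (n + 1) → B := Fin.cons b y
  have h0 : ∑ i, F i • Y i = 0 := by
    rw [Fin.sum_univ_succ]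
    simp only [F, Y, Fin.cons_zero, Fin.cons_succ, neg_smul, Finset.sum_neg_distrib, ← hsum]
    rw [Algebra.smul_def, RingHom.algebraMap_toAlgebra]; ring
  obtain ⟨m, c, z, hz, hc⟩ := Module.Flat.iff_forall_isTrivialRelation.mp ‹Module.Flat A B› h0
  rw [show b = ∑ j, c 0 j • z j from hz 0]
  refine sum_mem fun j _ => ?_
  rw [Algebra.smul_def]
  refine Ideal.mul_mem_right _ _ (Ideal.mem_map_of_mem _ ?_)
  by_contra hu
  apply hε
  have h := hc j
  rw [Fin.sum_univ_succ] at h
  simp only [F, Fin.cons_zero, Fin.cons_succ] at h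
  have : ε * c 0 j ∈ J := by
    rw [eq_neg_of_add_eq_zero_left h]
    exact neg_mem (sum_mem fun i _ => J.mul_mem_right _ (neg_mem (haJ i)))
  exact (Ideal.mul_unit_mem_iff_mem J (not_not.mp fun hn => hu ((mem_maximalIdeal _).mpr hn))).mp this

variable {k : Type u} [Field k] (φ : A →+* k) (hφ : Function.Surjective φ)

include hφ in
lemma ker_eq_maximalIdeal : RingHom.ker φ = IsLocalRing.maximalIdeal A :=
  IsLocalRing.eq_maximalIdeal (RingHom.ker_isMaximal_of_surjective φ hφ)

include hφ in
/-- Modulo the maximal ideal a compatible family is constant. -/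
lemma exists_const_mod_maximal
    (h : Function.Bijective (pullback.snd p (Spec.map (CommRingCat.ofHom φ))).appTop)
    (g : ∀ U : X.affineOpens, Γ(X, (U : X.Opens))) (hg : Compat p (IsLocalRing.maximalIdeal A) g) :
    ∃ c : A, ∀ U : X.affineOpens, g U - α p _ c ∈ (IsLocalRing.maximalIdeal A).map (α p (U : X.Opens)) := by
  rw [← ker_eq_maximalIdeal φ hφ] at hg ⊢
  let t := Spec.map (CommRingCat.ofHom φ)
  let i := pullback.fst p t
  let q := pullback.snd p t
  -- the structure map dies on the closed fibre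
  have hα : ∀ (U : X.Opens) (a : A), i.app U (α p U a) =
      q.appLE ⊤ (i ⁻¹ᵁ U) le_top ((Scheme.ΓSpecIso (CommRingCat.of k)).inv (φ a)) := by
    intro U a
    have e1 : (Scheme.ΓSpecIso (CommRingCat.of A)).inv ≫ p.appLE ⊤ U le_top ≫ i.app U =
        CommRingCat.ofHom φ ≫ (Scheme.ΓSpecIso (CommRingCat.of k)).inv ≫ q.appLE ⊤ (i ⁻¹ᵁ U) le_top := by
      rw [Scheme.Hom.app_eq_appLE, Scheme.Hom.appLE_comp_appLE, Scheme.ΓSpecIso_inv_naturality_assoc,
        show (Spec.map (CommRingCat.ofHom φ)).appTop = t.appLE ⊤ ⊤ le_top by simp [t, Scheme.Hom.appLE],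
        Scheme.Hom.appLE_comp_appLE]
      congr 2
      exact pullback.condition
    exact ConcreteCategory.congr_hom e1 a
  have hkill : ∀ (U : X.Opens), ∀ x ∈ (RingHom.ker φ).map (α p U), i.app U x = 0 := by
    intro U x hx
    have : (RingHom.ker φ).map (α p U) ≤ RingHom.ker (i.app U).hom := Ideal.map_le_iff_le_comap.mpr fun a ha => by
      rw [Ideal.mem_comap, RingHom.mem_ker]
      refine (hα U a).trans ?_
      rw [(RingHom.mem_ker).mp ha, map_zero, map_zero]
    exact this hx
  let s : ∀ U : X.affineOpens, Γ(pullback p t, i ⁻¹ᵁ (U : X.Opens)) := fun U => i.app _ (g U)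
  have hcov : (⊤ : (pullback p t).Opens) ≤ ⨆ U : X.affineOpens, i ⁻¹ᵁ (U : X.Opens) := by
    intro x _
    obtain ⟨_, ⟨U, hU, rfl⟩, hx, -⟩ := X.isBasis_affineOpens.exists_subset_of_mem_open (Set.mem_univ (i x)) isOpen_univ
    exact Opens.mem_iSup.mpr ⟨⟨U, hU⟩, hx⟩
  have hcompat : TopCat.Presheaf.IsCompatible (pullback p t).sheaf.obj
      (fun U : X.affineOpens => i ⁻¹ᵁ (U : X.Opens)) s := by
    intro U V
    have key : ∀ W : X.affineOpens, ∀ (h₁ : (W : X.Opens) ≤ (U : X.Opens)),
        (pullback p t).presheaf.map (homOfLE (i.preimage_mono h₁)).op (s U) = s W := by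
      intro W h₁
      have e := ConcreteCategory.congr_hom (i.naturality (homOfLE h₁).op) (g U)
      simp only [ConcreteCategory.comp_apply] at e
      refine Eq.trans ?_ (sub_eq_zero.mp ((map_sub (i.app (W : X.Opens)).hom _ _).symm.trans (hkill _ _ (hg U W h₁))))
      exact e.symm
    refine TopCat.Sheaf.eq_of_locally_eq' (pullback p t).sheaf
      (fun W : {W : X.affineOpens // (W : X.Opens) ≤ (U : X.Opens) ⊓ (V : X.Opens)} => i ⁻¹ᵁ (W.1 : X.Opens))
      _ (fun W => homOfLE (le_inf (i.preimage_mono (W.2.trans inf_le_left)) (i.preimage_mono (W.2.trans inf_le_right))))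
      ?_ _ _ fun W => ?_
    · intro x hx
      obtain ⟨_, ⟨W, hW, rfl⟩, hxW, hWle⟩ := X.isBasis_affineOpens.exists_subset_of_mem_open
        (show i x ∈ ((U : X.Opens) ⊓ (V : X.Opens) : X.Opens) from hx) ((U : X.Opens) ⊓ (V : X.Opens)).isOpen
      exact Opens.mem_iSup.mpr ⟨⟨⟨W, hW⟩, hWle⟩, hxW⟩
    · simp only [← ConcreteCategory.comp_apply, ← Functor.map_comp]
      have e1 := key W.1 (W.2.trans inf_le_left)
      have key' : ∀ W : X.affineOpens, ∀ (h₁ : (W : X.Opens) ≤ (V : X.Opens)),
          (pullback p t).presheaf.map (homOfLE (i.preimage_mono h₁)).op (s V) = s W := by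
        intro W h₁
        have e := ConcreteCategory.congr_hom (i.naturality (homOfLE h₁).op) (g V)
        simp only [ConcreteCategory.comp_apply] at e
        refine Eq.trans ?_ (sub_eq_zero.mp ((map_sub (i.app (W : X.Opens)).hom _ _).symm.trans (hkill _ _ (hg V W h₁))))
        exact e.symm
      exact e1.trans (key' W.1 (W.2.trans inf_le_right)).symm
  obtain ⟨σ, hσ, -⟩ := (pullback p t).sheaf.existsUnique_gluing'
    (fun U : X.affineOpens => i ⁻¹ᵁ (U : X.Opens)) ⊤ (fun U => homOfLE le_top) hcov s hcompat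
  obtain ⟨κ, hκ⟩ := h.2 σ
  obtain ⟨c, hc⟩ := hφ ((Scheme.ΓSpecIso (CommRingCat.of k)).hom κ)
  refine ⟨c, fun U => mem_of_app_eq_zero p φ hφ U.2 _ ?_⟩
  rw [map_sub, sub_eq_zero, hα, hc, Iso.hom_inv_id_apply]
  refine ((congrArg ((pullback p t).presheaf.map (homOfLE (le_top : i ⁻¹ᵁ (U : X.Opens) ≤ ⊤)).op) hκ).trans (hσ U)).symm.trans ?_
  rfl

include hφ in
/-- Dévissage: compatible families modulo any ideal are constant. -/
lemma exists_const [IsNoetherianRing A] [Flat p] (hnil : IsNilpotent (IsLocalRing.maximalIdeal A))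
    (h : Function.Bijective (pullback.snd p (Spec.map (CommRingCat.ofHom φ))).appTop) (J : Ideal A) :
    ∀ g : ∀ U : X.affineOpens, Γ(X, (U : X.Opens)), Compat p J g →
      ∃ c : A, ∀ U : X.affineOpens, g U - α p _ c ∈ J.map (α p (U : X.Opens)) := by
  induction J using WellFoundedGT.induction with
  | _ J ih =>
  intro g hg
  by_cases hJ : J = ⊤
  · exact ⟨0, fun U => by rw [hJ, Ideal.map_top]; trivial⟩
  classical
  obtain ⟨ε, hεJ, hε⟩ : ∃ ε, ε ∉ J ∧ ∀ a ∈ IsLocalRing.maximalIdeal A, a * ε ∈ J := by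
    obtain ⟨N, hN⟩ := hnil
    have hex : ∃ n, IsLocalRing.maximalIdeal A ^ n ≤ J := ⟨N, by rw [hN]; exact bot_le⟩
    have hpos : Nat.find hex ≠ 0 := fun h0 => hJ (by simpa [h0, top_le_iff] using Nat.find_spec hex)
    obtain ⟨ε, hε, hεJ⟩ := SetLike.not_le_iff_exists.mp
      (Nat.find_min hex (Nat.sub_one_lt hpos))
    refine ⟨ε, hεJ, fun a ha => Nat.find_spec hex ?_⟩
    rw [← Nat.succ_pred_eq_of_ne_zero hpos, pow_succ']
    exact Ideal.mul_mem_mul ha hε
  let J' := J ⊔ Ideal.span {ε}
  have hlt : J < J' := lt_of_le_not_ge le_sup_left fun hle =>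
    hεJ (hle (Ideal.mem_sup_right (Ideal.mem_span_singleton_self ε)))
  obtain ⟨c', hc'⟩ := ih J' hlt g (fun U W hle => Ideal.map_mono le_sup_left (hg U W hle))
  have hsplit : ∀ U : X.affineOpens, ∃ b : Γ(X, (U : X.Opens)), g U - α p _ c' - b * α p _ ε ∈ J.map (α p (U : X.Opens)) := by
    intro U
    have := hc' U
    simp only [J', Ideal.map_sup, Ideal.map_span, Set.image_singleton] at this
    obtain ⟨j, hj, e, he, hje⟩ := Submodule.mem_sup.mp this
    obtain ⟨b, rfl⟩ := Ideal.mem_span_singleton'.mp he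
    exact ⟨b, by rw [← hje, add_sub_cancel_right]; exact hj⟩
  choose b hb using hsplit
  have hbc : Compat p (IsLocalRing.maximalIdeal A) b := by
    intro U W hle
    refine mem_maximal_map_of_mul_mem (α p _) (flat_α p W.2) hεJ ?_
    have e1 : X.presheaf.map (homOfLE hle).op (g U - α p _ c' - b U * α p _ ε) ∈ J.map (α p (W : X.Opens)) := by
      have := Ideal.mem_map_of_mem (X.presheaf.map (homOfLE hle).op).hom (hb U)
      rw [Ideal.map_map, show (X.presheaf.map (homOfLE hle).op).hom.comp (α p (U : X.Opens)) = α p (W : X.Opens) from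
        RingHom.ext (map_α p hle)] at this
      exact this
    have e2 := sub_mem (sub_mem e1 (hb W)) (hg U W hle)
    simp only [map_sub, map_mul, map_α] at e2
    rw [← neg_mem_iff]
    convert e2 using 1
    ring
  obtain ⟨c'', hc''⟩ := exists_const_mod_maximal p φ hφ h b hbc
  refine ⟨c' + c'' * ε, fun U => ?_⟩
  have h1 : (b U - α p _ c'') * α p _ ε ∈ J.map (α p (U : X.Opens)) := by
    refine Submodule.span_induction (p := fun x _ => x * α p _ ε ∈ J.map (α p (U : X.Opens))) ?_ ?_ ?_ ?_ (hc'' U)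
    · rintro _ ⟨a, ha, rfl⟩
      rw [← map_mul]
      exact Ideal.mem_map_of_mem _ (hε a ha)
    · simp
    · intro x y _ _ hx hy; rw [add_mul]; exact add_mem hx hy
    · intro r x _ hx; rw [smul_eq_mul, mul_assoc]; exact Ideal.mul_mem_left _ r hx
  have := add_mem (hb U) h1
  convert this using 1
  simp only [map_add, map_mul]
  ring

include hφ in
/-- The global functions are the constants. -/
lemma bijective_appTop [IsNoetherianRing A] [Flat p] (hnil : IsNilpotent (IsLocalRing.maximalIdeal A))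
    (h : Function.Bijective (pullback.snd p (Spec.map (CommRingCat.ofHom φ))).appTop) :
    Function.Bijective p.appTop := by
  let e := Scheme.ΓSpecIso (CommRingCat.of A)
  suffices hb : Function.Bijective (α p ⊤) by
    have : p.appTop = e.hom ≫ CommRingCat.ofHom (α p ⊤) := by
      ext a
      simp [α, e, Scheme.Hom.appLE]
    rw [this]
    exact hb.comp (ConcreteCategory.bijective_of_isIso e.hom)
  refine ⟨(injective_iff_map_eq_zero _).mpr fun c hc => ?_, fun g => ?_⟩
  · by_contra hne
    -- the closed fibre is nonempty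
    have hne' : Nonempty ↥(pullback p (Spec.map (CommRingCat.ofHom φ))) := by
      by_contra hem
      rw [not_nonempty_iff] at hem
      have htop : (⊤ : (pullback p (Spec.map (CommRingCat.ofHom φ))).Opens) = ⊥ := Subsingleton.elim _ _
      have : Subsingleton Γ(pullback p (Spec.map (CommRingCat.ofHom φ)), ⊤) := by rw [htop]; infer_instance
      have : Subsingleton Γ(Spec (CommRingCat.of k), ⊤) := h.1.subsingleton
      have : Subsingleton k := (ConcreteCategory.bijective_of_isIso (Scheme.ΓSpecIso (CommRingCat.of k)).inv).1.subsingleton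
      exact not_nontrivial k inferInstance
    obtain ⟨x⟩ := hne'
    obtain ⟨_, ⟨U, hU, rfl⟩, hx, -⟩ := X.isBasis_affineOpens.exists_subset_of_mem_open
      (Set.mem_univ (pullback.fst p (Spec.map (CommRingCat.ofHom φ)) x)) isOpen_univ
    have h0 : α p U c = 0 := by rw [← map_α p (le_top : U ≤ ⊤), hc, map_zero]
    have h1 : (1 : Γ(X, U)) ∈ (IsLocalRing.maximalIdeal A).map (α p U) :=
      mem_maximal_map_of_mul_mem (α p U) (flat_α p hU) (J := ⊥) (ε := c) (by simpa using hne) (by simp [h0])
    rw [← ker_eq_maximalIdeal φ hφ] at h1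
    let i := pullback.fst p (Spec.map (CommRingCat.ofHom φ))
    have h2 : ∀ y ∈ (RingHom.ker φ).map (α p U), i.app U y = 0 := by
      intro y hy
      refine Submodule.span_induction (p := fun z _ => i.app U z = 0) ?_ (map_zero _) ?_ ?_ hy
      · rintro _ ⟨a, ha, rfl⟩
        have e1 : (Scheme.ΓSpecIso (CommRingCat.of A)).inv ≫ p.appLE ⊤ U le_top ≫ i.app U =
            CommRingCat.ofHom φ ≫ (Scheme.ΓSpecIso (CommRingCat.of k)).inv ≫
              (pullback.snd p (Spec.map (CommRingCat.ofHom φ))).appLE ⊤ (i ⁻¹ᵁ U) le_top := by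
          rw [Scheme.Hom.app_eq_appLE, Scheme.Hom.appLE_comp_appLE, Scheme.ΓSpecIso_inv_naturality_assoc,
            show (Spec.map (CommRingCat.ofHom φ)).appTop = (Spec.map (CommRingCat.ofHom φ)).appLE ⊤ ⊤ le_top by
              simp [Scheme.Hom.appLE],
            Scheme.Hom.appLE_comp_appLE]
          congr 2
          exact pullback.condition
        refine (ConcreteCategory.congr_hom e1 a).trans ?_
        rw [ConcreteCategory.comp_apply, CommRingCat.ofHom_apply, RingHom.mem_ker.mp ha, map_zero]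
      · intro a b _ _ ha hb; rw [map_add, ha, hb, add_zero]
      · intro r a _ ha; rw [smul_eq_mul, map_mul, ha, mul_zero]
    have h3 := h2 1 h1
    rw [map_one] at h3
    have : Nonempty (i ⁻¹ᵁ U) := ⟨⟨x, hx⟩⟩
    exact one_ne_zero h3
  · let gU : ∀ U : X.affineOpens, Γ(X, (U : X.Opens)) := fun U => X.presheaf.map (homOfLE le_top).op g
    obtain ⟨c, hc⟩ := exists_const p φ hφ hnil h ⊥ gU (fun U W hle => by
      rw [Ideal.map_bot, Submodule.mem_bot, sub_eq_zero]
      simp only [gU, ← ConcreteCategory.comp_apply, ← Functor.map_comp, ← op_comp, homOfLE_comp])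
    refine ⟨c, TopCat.Sheaf.eq_of_locally_eq' X.sheaf (fun U : X.affineOpens => (U : X.Opens)) ⊤
      (fun U => homOfLE le_top) (fun x _ => by
        obtain ⟨_, ⟨U, hU, rfl⟩, hx, -⟩ := X.isBasis_affineOpens.exists_subset_of_mem_open (Set.mem_univ x) isOpen_univ
        exact Opens.mem_iSup.mpr ⟨⟨U, hU⟩, hx⟩) _ _ fun U => ?_⟩
    have := hc U
    rw [Ideal.map_bot, Submodule.mem_bot, sub_eq_zero] at this
    exact (map_α p le_top c).trans this.symm

end Groth.Agent.H23.RigidInf
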