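import Groth.Agent.H23.RigidBaseAlg
import Groth.Agent.H23.RigidInf
import Groth.Agent.H23.RigidApply
import Groth.Agent.H23.RatExtend
import Mathlib.AlgebraicGeometry.Morphisms.FinitePresentation
import Mathlib.AlgebraicGeometry.Morphisms.QuasiSeparated

/-!
Functions on a proper flat finitely presented scheme over an arbitrary ring, with constant functions on
fibres and a section: they vanish if their pullback along the section vanishes.
-/

universe u

open CategoryTheory Limits AlgebraicGeometry TopologicalSpace IsLocalRing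

namespace Groth.Agent.H23.RigidBase

open RigidBaseAlg

section Local

variable {A : Type u} [CommRing A] [IsLocalRing A] {X : Scheme.{u}} (p : X ⟶ Spec (CommRingCat.of A))

/-- The inclusion of the closed point. -/
noncomputable abbrev pt (A : Type u) [CommRing A] [IsLocalRing A] :
    Spec (CommRingCat.of (ResidueField A)) ⟶ Spec (CommRingCat.of A) :=
  Spec.map (CommRingCat.ofHom (residue A))

/-- Constants on an open of the closed fibre. -/
noncomputable def β (U : X.Opens) :
    ResidueField A →+* Γ(pullback p (pt A), pullback.fst p (pt A) ⁻¹ᵁ U) :=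
  ((Scheme.ΓSpecIso (CommRingCat.of (ResidueField A))).inv ≫
    (pullback.snd p (pt A)).appLE ⊤ (pullback.fst p (pt A) ⁻¹ᵁ U) le_top).hom

/-- Restriction of functions to the closed fibre. -/
noncomputable def π (U : X.Opens) :
    Γ(X, U) →+* Γ(pullback p (pt A), pullback.fst p (pt A) ⁻¹ᵁ U) :=
  ((pullback.fst p (pt A)).app U).hom

theorem π_α (U : X.Opens) (a : A) : π p U (RigidInf.α p U a) = β p U (residue A a) := by
  have e1 : (Scheme.ΓSpecIso (CommRingCat.of A)).inv ≫ p.appLE ⊤ U le_top ≫ (pullback.fst p (pt A)).app U =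
      CommRingCat.ofHom (residue A) ≫ (Scheme.ΓSpecIso (CommRingCat.of (ResidueField A))).inv ≫
        (pullback.snd p (pt A)).appLE ⊤ (pullback.fst p (pt A) ⁻¹ᵁ U) le_top := by
    rw [Scheme.Hom.app_eq_appLE, Scheme.Hom.appLE_comp_appLE, Scheme.ΓSpecIso_inv_naturality_assoc,
      show (pt A).appTop = (pt A).appLE ⊤ ⊤ le_top by simp [Scheme.Hom.appLE],
      Scheme.Hom.appLE_comp_appLE]
    congr 2
    exact pullback.condition
  exact ConcreteCategory.congr_hom e1 a

theorem map_β {U W : X.Opens} (h : W ≤ U) (v : ResidueField A) :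
    (pullback p (pt A)).presheaf.map (homOfLE ((pullback.fst p (pt A)).preimage_mono h)).op (β p U v) =
      β p W v := by
  simp only [β, ← ConcreteCategory.comp_apply, Category.assoc, Scheme.Hom.appLE_map]

theorem map_π {U W : X.Opens} (h : W ≤ U) (b : Γ(X, U)) :
    (pullback p (pt A)).presheaf.map (homOfLE ((pullback.fst p (pt A)).preimage_mono h)).op (π p U b) =
      π p W (X.presheaf.map (homOfLE h).op b) :=
  (ConcreteCategory.congr_hom ((pullback.fst p (pt A)).naturality (homOfLE h).op) b).symm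

omit [IsLocalRing A] in
theorem finitePresentation_α [LocallyOfFinitePresentation p] {U : X.Opens} (hU : IsAffineOpen U) :
    (RigidInf.α p U).FinitePresentation :=
  RingHom.FinitePresentation.comp
    (Scheme.Hom.finitePresentation_appLE p (isAffineOpen_top _) hU le_top)
    (RingHom.FinitePresentation.of_bijective
      (ConcreteCategory.bijective_of_isIso (Scheme.ΓSpecIso (CommRingCat.of A)).inv))

omit [IsLocalRing A] in
theorem appLE_comp_section {Z W : Scheme.{u}} (q : Z ⟶ W) (f : W ⟶ Z) (hf : f ≫ q = 𝟙 W) (U : Z.Opens)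
    (h₁ : U ≤ q ⁻¹ᵁ ⊤) (h₂ : ⊤ ≤ f ⁻¹ᵁ U) : q.appLE ⊤ U h₁ ≫ f.appLE U ⊤ h₂ = 𝟙 _ := by
  have gen : ∀ (g : W ⟶ W), g = 𝟙 W → ∀ h : ⊤ ≤ g ⁻¹ᵁ ⊤, g.appLE ⊤ ⊤ h = 𝟙 _ := by
    rintro g rfl h
    simp [Scheme.Hom.appLE]
  rw [Scheme.Hom.appLE_comp_appLE]
  exact gen _ hf _

variable {N : Ideal A} (lam : N →ₗ[A] ResidueField A)

/-- The functional relation on an open. -/
def RelU (U : X.Opens) (w : Γ(X, U)) (u : Γ(pullback p (pt A), pullback.fst p (pt A) ⁻¹ᵁ U)) : Prop :=
  @Rel A _ _ Γ(X, U) _ (RigidInf.α p U).toAlgebra N lam _ _ (π p U) (β p U) w u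

theorem RelU.unique [Flat p] {U : X.Opens} (hU : IsAffineOpen U) {w : Γ(X, U)}
    {u u' : Γ(pullback p (pt A), pullback.fst p (pt A) ⁻¹ᵁ U)} (h : RelU p lam U w u)
    (h' : RelU p lam U w u') : u = u' := by
  letI := (RigidInf.α p U).toAlgebra
  have : Module.Flat A Γ(X, U) := RigidInf.flat_α p hU
  exact Rel.unique lam (π p U) (β p U) (π_α p U) h h'

theorem RelU.map {U W : X.Opens} (h : W ≤ U) {w : Γ(X, U)}
    {u : Γ(pullback p (pt A), pullback.fst p (pt A) ⁻¹ᵁ U)} (hr : RelU p lam U w u) :
    RelU p lam W (X.presheaf.map (homOfLE h).op w)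
      ((pullback p (pt A)).presheaf.map (homOfLE ((pullback.fst p (pt A)).preimage_mono h)).op u) := by
  letI := (RigidInf.α p U).toAlgebra
  letI := (RigidInf.α p W).toAlgebra
  exact Rel.map lam hr (π p W) (β p W) (X.presheaf.map (homOfLE h).op).hom
    ((pullback p (pt A)).presheaf.map (homOfLE ((pullback.fst p (pt A)).preimage_mono h)).op).hom
    (RigidInf.map_α p h) (map_β p h) (map_π p h)

variable [Flat p] [LocallyOfFinitePresentation p] [QuasiCompact p]
  (e : Spec (CommRingCat.of A) ⟶ X) (he : e ≫ p = 𝟙 _)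
  (h0 : Function.Bijective (pullback.snd p (pt A)).appTop)

omit [Flat p] [LocallyOfFinitePresentation p] [QuasiCompact p] [IsLocalRing A] in
/-- Killing by finitely many scalars acting nilpotently. -/
theorem exists_killed (S : Finset A) (h : Γ(X, ⊤)) (hne : h ≠ 0)
    (hn : ∀ f ∈ S, ∃ n : ℕ, (RigidInf.α p ⊤ f) ^ n * h = 0) :
    ∃ a : A, RigidInf.α p ⊤ a * h ≠ 0 ∧ ∀ f ∈ S, RigidInf.α p ⊤ f * (RigidInf.α p ⊤ a * h) = 0 := by
  classical
  induction S using Finset.induction_on with
  | empty => exact ⟨1, by rwa [map_one, one_mul], by simp⟩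
  | insert f S hf ih =>
    obtain ⟨a, ha, hS⟩ := ih fun g hg => hn g (Finset.mem_insert_of_mem hg)
    obtain ⟨n, hnf⟩ := hn f (Finset.mem_insert_self f S)
    have hex : ∃ m : ℕ, RigidInf.α p ⊤ f ^ m * (RigidInf.α p ⊤ a * h) = 0 :=
      ⟨n, by rw [mul_left_comm, hnf, mul_zero]⟩
    have h0 : Nat.find hex ≠ 0 := fun h0 => ha (by
      have := Nat.find_spec hex
      rwa [h0, pow_zero, one_mul] at this)
    obtain ⟨m, hm⟩ := Nat.exists_eq_succ_of_ne_zero h0
    refine ⟨f ^ m * a, ?_, fun g hg => ?_⟩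
    · rw [map_mul, map_pow, mul_assoc]
      exact Nat.find_min hex (by omega)
    · rcases Finset.mem_insert.1 hg with rfl | hg
      · rw [map_mul, map_pow, ← mul_assoc (RigidInf.α p ⊤ g), ← mul_assoc (RigidInf.α p ⊤ g), ← pow_succ',
          mul_assoc]
        have := Nat.find_spec hex
        rwa [hm] at this
      · rw [map_mul, mul_assoc, mul_left_comm, hS g hg, mul_zero]

include he h0 in
/-- Over a local ring: a function vanishing on the section on which the maximal ideal acts nilpotently
is zero. -/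
theorem eq_zero_of_local (h : Γ(X, ⊤)) (heh : e.appTop h = 0)
    (htor : ∀ f ∈ maximalIdeal A, ∃ n : ℕ, (RigidInf.α p ⊤ f) ^ n * h = 0) : h = 0 := by
  classical
  by_contra hne
  have hX : CompactSpace X := QuasiCompact.compactSpace_of_compactSpace p
  obtain ⟨s, hs, hcov⟩ := isCompact_and_isOpen_iff_finite_and_eq_biUnion_affineOpens.1
    ⟨(isCompact_univ : IsCompact (Set.univ : Set X)), isOpen_univ⟩
  have : Finite s := hs.to_subtype
  have hmem : ∀ x : X, ∃ U : s, x ∈ (U.1 : X.Opens) := fun x => by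
    have hx : x ∈ ⋃ i ∈ s, ((i : X.Opens) : Set X) := hcov ▸ Set.mem_univ x
    obtain ⟨U, hU, hxU⟩ := Set.mem_iUnion₂.1 hx
    exact ⟨⟨U, hU⟩, hxU⟩
  -- free presentations of the charts modulo a finitely generated ideal
  have hfree : ∀ U : s, ∃ (I : Ideal A), I.FG ∧ I ≤ maximalIdeal A ∧ ∃ (ι : Type u) (y : ι → Γ(X, U.1)),
      (∀ b, ∃ c : ι →₀ A,
        b - c.sum (fun i a => RigidInf.α p U.1 a * y i) ∈ I.map (RigidInf.α p U.1)) ∧
      ∀ c : ι →₀ A, c.sum (fun i a => RigidInf.α p U.1 a * y i) ∈ (maximalIdeal A).map (RigidInf.α p U.1) →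
        ∀ i, c i ∈ maximalIdeal A := by
    intro U
    letI := (RigidInf.α p U.1).toAlgebra
    have : Algebra.FinitePresentation A Γ(X, U.1) := finitePresentation_α p U.1.2
    exact exists_free_mod Γ(X, U.1)
  choose I hIfg hIm ι y hy1 hy2 using hfree
  let J : Ideal A := ⨆ U : s, I U
  have hJfg : J.FG := Submodule.fg_iSup _ hIfg
  have hJm : J ≤ maximalIdeal A := iSup_le hIm
  obtain ⟨S, hS⟩ := hJfg
  obtain ⟨a, hwne, hwS⟩ := exists_killed p S h hne fun f hf => htor f (hJm (hS ▸ Ideal.subset_span hf))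
  let w : Γ(X, ⊤) := RigidInf.α p ⊤ a * h
  have hwJ : ∀ f ∈ J, RigidInf.α p ⊤ f * w = 0 := by
    intro f hf
    rw [← hS] at hf
    induction hf using Submodule.span_induction with
    | mem x hx => exact hwS x hx
    | zero => rw [map_zero, zero_mul]
    | add x x' _ _ hx hx' => rw [map_add, add_mul, hx, hx', add_zero]
    | smul r x _ hx => rw [smul_eq_mul, map_mul, mul_assoc, hx, mul_zero]
  let wU : ∀ U : X.Opens, Γ(X, U) := fun U => X.presheaf.map (homOfLE le_top).op w
  have hwU : ∀ {U W : X.Opens} (hle : W ≤ U), X.presheaf.map (homOfLE hle).op (wU U) = wU W := fun hle => by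
    simp only [wU, ← ConcreteCategory.comp_apply, ← Functor.map_comp, ← op_comp, homOfLE_comp]
  have hC : ∀ U : s, ∃ C : ι U →₀ A,
      wU U.1 = C.sum (fun i a => RigidInf.α p U.1 a * y U i) ∧ ∀ i, ∀ f ∈ J, f * C i = 0 := by
    intro U
    letI := (RigidInf.α p U.1).toAlgebra
    have : Module.Flat A Γ(X, U.1) := RigidInf.flat_α p U.1.2
    refine exists_expansion (I := J) ⟨S, hS⟩ (y U) (fun b => ?_) _ fun f hf => ?_
    · obtain ⟨c, hc⟩ := hy1 U b
      exact ⟨c, Ideal.map_mono (le_iSup I U) hc⟩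
    · show RigidInf.α p U.1 f * wU U.1 = 0
      rw [← RigidInf.map_α p (le_top : (U.1 : X.Opens) ≤ ⊤), ← map_mul, hwJ f hf, map_zero]
  choose C hCw hCJ using hC
  let N : Ideal A := ⨆ U : s, Ideal.span (Set.range (C U))
  have hNfg : N.FG := Submodule.fg_iSup _ fun U => Submodule.fg_span
    ((((C U).support.finite_toSet.image (C U)).insert 0).subset (by
      rintro _ ⟨i, rfl⟩
      by_cases hi : C U i = 0
      · exact Or.inl hi
      · exact Or.inr ⟨i, Finsupp.mem_support_iff.2 hi, rfl⟩))
  have hCN : ∀ U i, C U i ∈ N := fun U i =>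
    (le_iSup (fun U : s => Ideal.span (Set.range (C U))) U) (Ideal.subset_span ⟨i, rfl⟩)
  have hN : N = ⊥ := by
    refine eq_bot_of_forall_functional hNfg fun lam => ?_
    let Xs := pullback p (pt A)
    let j := pullback.fst p (pt A)
    let u : ∀ U : s, Γ(Xs, j ⁻¹ᵁ U.1) := fun U =>
      (C U).support.sum fun i => β p U.1 (lam ⟨C U i, hCN U i⟩) * π p U.1 (y U i)
    have hrel : ∀ U : s, RelU p lam U.1 (wU U.1) (u U) := by
      intro U
      letI := (RigidInf.α p U.1).toAlgebra
      let e := (C U).support.equivFin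
      refine ⟨_, fun l => ⟨C U (e.symm l).1, hCN U _⟩, fun l => y U (e.symm l).1, ?_, ?_⟩
      · rw [hCw U, Finsupp.sum, ← Finset.sum_coe_sort]
        exact (e.symm.sum_comp (fun i => RigidInf.α p U.1 (C U i.1) * y U i.1)).symm
      · refine (Finset.sum_coe_sort (C U).support _).symm.trans ?_
        exact (e.symm.sum_comp (fun i => β p U.1 (lam ⟨C U i.1, hCN U i.1⟩) * π p U.1 (y U i.1))).symm
    have hcompat : TopCat.Presheaf.IsCompatible Xs.sheaf.obj (fun U : s => j ⁻¹ᵁ (U.1 : X.Opens)) u := by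
      intro U V
      refine TopCat.Sheaf.eq_of_locally_eq' Xs.sheaf
        (fun W : {W : X.affineOpens // (W : X.Opens) ≤ (U.1 : X.Opens) ⊓ (V.1 : X.Opens)} => j ⁻¹ᵁ (W.1 : X.Opens))
        _ (fun W => homOfLE (le_inf (j.preimage_mono (W.2.trans inf_le_left)) (j.preimage_mono (W.2.trans inf_le_right))))
        ?_ _ _ fun W => ?_
      · intro x hx
        obtain ⟨_, ⟨W, hW, rfl⟩, hxW, hWle⟩ := X.isBasis_affineOpens.exists_subset_of_mem_open
          (show j x ∈ ((U.1 : X.Opens) ⊓ (V.1 : X.Opens) : X.Opens) from hx) ((U.1 : X.Opens) ⊓ (V.1 : X.Opens)).isOpen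
        exact Opens.mem_iSup.mpr ⟨⟨⟨W, hW⟩, hWle⟩, hxW⟩
      · simp only [← ConcreteCategory.comp_apply, ← Functor.map_comp]
        have e1 := RelU.map p lam (W.2.trans inf_le_left) (hrel U)
        have e2 := RelU.map p lam (W.2.trans inf_le_right) (hrel V)
        rw [hwU] at e1 e2
        exact RelU.unique p lam W.1.2 e1 e2
    obtain ⟨σ, hσ, -⟩ := Xs.sheaf.existsUnique_gluing' (fun U : s => j ⁻¹ᵁ (U.1 : X.Opens)) ⊤
      (fun U => homOfLE le_top) (fun x _ => by
        obtain ⟨U, hU⟩ := hmem (j x)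
        exact Opens.mem_iSup.mpr ⟨U, hU⟩) u hcompat
    obtain ⟨v', hv'⟩ := h0.2 σ
    let v : ResidueField A := (Scheme.ΓSpecIso (CommRingCat.of (ResidueField A))).hom v'
    have hu : ∀ U : s, u U = β p U.1 v := fun U => by
      refine (hσ U).symm.trans ?_
      rw [← hv']
      simp only [β, v, CommRingCat.hom_comp, RingHom.coe_comp, Function.comp_apply, Iso.hom_inv_id_apply]
      rfl
    -- evaluation at the section
    obtain ⟨U, hU⟩ := hmem (e (closedPoint A))
    have heU : ∀ z : Spec (CommRingCat.of A), e z ∈ (U.1 : X.Opens) := fun z =>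
      ((IsLocalRing.specializes_closedPoint z).map e.continuous).mem_open U.1.1.2 hU
    let es : Spec (CommRingCat.of (ResidueField A)) ⟶ Xs :=
      pullback.lift (pt A ≫ e) (𝟙 _) (by rw [Category.assoc, he, Category.comp_id, Category.id_comp])
    have hes : es ≫ j = pt A ≫ e := pullback.lift_fst _ _ _
    have hesU : ⊤ ≤ es ⁻¹ᵁ (j ⁻¹ᵁ (U.1 : X.Opens)) := fun z _ => by
      show j (es z) ∈ (U.1 : X.Opens)
      rw [← Scheme.Hom.comp_apply, hes, Scheme.Hom.comp_apply]
      exact heU _
    let ε : Γ(X, U.1) →+* A :=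
      (e.appLE U.1 ⊤ (fun z _ => heU z) ≫ (Scheme.ΓSpecIso (CommRingCat.of A)).hom).hom
    let εs : Γ(Xs, j ⁻¹ᵁ (U.1 : X.Opens)) →+* ResidueField A :=
      (es.appLE (j ⁻¹ᵁ (U.1 : X.Opens)) ⊤ hesU ≫ (Scheme.ΓSpecIso (CommRingCat.of (ResidueField A))).hom).hom
    have hεα : ∀ b, ε (RigidInf.α p U.1 b) = b := by
      intro b
      have e1 : (Scheme.ΓSpecIso (CommRingCat.of A)).inv ≫ p.appLE ⊤ U.1 le_top ≫
          e.appLE U.1 ⊤ (fun z _ => heU z) ≫ (Scheme.ΓSpecIso (CommRingCat.of A)).hom = 𝟙 _ := by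
        rw [reassoc_of% (appLE_comp_section p e he U.1 le_top (fun z _ => heU z)), Iso.inv_hom_id]
      exact ConcreteCategory.congr_hom e1 b
    have hεβ : ∀ c, εs (β p U.1 c) = c := by
      intro c
      have e1 : (Scheme.ΓSpecIso (CommRingCat.of (ResidueField A))).inv ≫
          (pullback.snd p (pt A)).appLE ⊤ (j ⁻¹ᵁ (U.1 : X.Opens)) le_top ≫
          es.appLE (j ⁻¹ᵁ (U.1 : X.Opens)) ⊤ hesU ≫
            (Scheme.ΓSpecIso (CommRingCat.of (ResidueField A))).hom = 𝟙 _ := by
        rw [reassoc_of% (appLE_comp_section (pullback.snd p (pt A)) es (pullback.lift_snd _ _ _) _ le_top hesU),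
          Iso.inv_hom_id]
      exact ConcreteCategory.congr_hom e1 c
    have hεπ : ∀ b, εs (π p U.1 b) = residue A (ε b) := by
      intro b
      have e1 : j.app U.1 ≫ es.appLE (j ⁻¹ᵁ (U.1 : X.Opens)) ⊤ hesU ≫
          (Scheme.ΓSpecIso (CommRingCat.of (ResidueField A))).hom =
          (e.appLE U.1 ⊤ (fun z _ => heU z) ≫ (Scheme.ΓSpecIso (CommRingCat.of A)).hom) ≫
            CommRingCat.ofHom (residue A) := by
        rw [Category.assoc, ← Scheme.ΓSpecIso_naturality, Scheme.Hom.app_eq_appLE,
          Scheme.Hom.appLE_comp_appLE_assoc,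
          show (pt A).appTop = (pt A).appLE ⊤ ⊤ le_top by simp [Scheme.Hom.appLE],
          Scheme.Hom.appLE_comp_appLE_assoc]
        simp only [hes]
      exact ConcreteCategory.congr_hom e1 b
    have hεw : ε (wU U.1) = 0 := by
      have e1 : X.presheaf.map (homOfLE (le_top : (U.1 : X.Opens) ≤ ⊤)).op ≫ e.appLE U.1 ⊤ (fun z _ => heU z) =
          e.appTop := by
        rw [Scheme.Hom.map_appLE]
        simp [Scheme.Hom.appLE]
      have e2 := ConcreteCategory.congr_hom e1 w
      show (Scheme.ΓSpecIso (CommRingCat.of A)).hom (e.appLE U.1 ⊤ _ (wU U.1)) = 0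
      rw [show e.appLE U.1 ⊤ (fun z _ => heU z) (wU U.1) = e.appTop w from e2, map_mul, heh, mul_zero,
        map_zero]
    have hv : v = 0 := by
      letI := (RigidInf.α p U.1).toAlgebra
      have hr := Rel.map lam (B' := A) (R' := ResidueField A) (hrel U) (residue A) (RingHom.id _) ε εs hεα hεβ hεπ
      rw [hεw, hu U, hεβ] at hr
      exact Rel.unique lam (residue A) (RingHom.id _) (fun _ => rfl) hr ⟨0, Fin.elim0, Fin.elim0, by simp, by simp⟩
    -- independence on every chart
    have hzero : ∀ U : s, ∀ i, lam ⟨C U i, hCN U i⟩ = 0 := by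
      intro U
      have hsum : u U = 0 := by rw [hu, hv, map_zero]
      choose c hc using fun i => Ideal.Quotient.mk_surjective (lam ⟨C U i, hCN U i⟩)
      let cf : ι U →₀ A := (C U).support.sum fun i => Finsupp.single i (c i)
      have hker : cf.sum (fun i a => RigidInf.α p U.1 a * y U i) ∈ (maximalIdeal A).map (RigidInf.α p U.1) := by
        rw [← ker_residue]
        refine RigidInf.mem_of_app_eq_zero p (residue A) residue_surjective U.1.2 _ ?_
        show π p U.1 _ = 0
        rw [← Finsupp.sum_finsetSum_index (by simp) (fun i b b' => by rw [map_add, add_mul]), map_sum, ← hsum]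
        refine Finset.sum_congr rfl fun i _ => ?_
        rw [Finsupp.sum_single_index (by simp), map_mul, π_α]
        exact congrArg (β p U.1 · * _) (hc i)
      intro i
      by_cases hi : i ∈ (C U).support
      · have := hy2 U cf hker i
        rw [Finsupp.finsetSum_apply, Finset.sum_eq_single i (fun j _ hj => Finsupp.single_eq_of_ne hj.symm)
          (fun hn => absurd hi hn), Finsupp.single_eq_same] at this
        rw [← hc i]
        exact Ideal.Quotient.eq_zero_iff_mem.2 this
      · have : (⟨C U i, hCN U i⟩ : N) = 0 := Subtype.ext (Finsupp.notMem_support_iff.1 hi)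
        rw [this, map_zero]
    refine LinearMap.ext fun ⟨x, hx⟩ => ?_
    show lam ⟨x, hx⟩ = 0
    have hle : N ≤ (LinearMap.ker lam).map N.subtype := iSup_le fun U => Ideal.span_le.2 (by
      rintro _ ⟨i, rfl⟩
      exact ⟨⟨C U i, hCN U i⟩, hzero U i, rfl⟩)
    obtain ⟨z, hz, hzx⟩ := hle hx
    rw [show (⟨x, hx⟩ : N) = z from Subtype.ext hzx.symm]
    exact hz
  refine hwne (TopCat.Sheaf.eq_of_locally_eq' X.sheaf (fun U : s => (U.1 : X.Opens)) ⊤
    (fun U => homOfLE le_top) (fun x _ => ?_) _ _ fun U => ?_)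
  · obtain ⟨U, hU⟩ := hmem x
    exact Opens.mem_iSup.mpr ⟨U, hU⟩
  · refine Eq.trans ?_ (map_zero _).symm
    refine (hCw U).trans (Finset.sum_eq_zero fun i _ => ?_)
    show RigidInf.α p U.1 (C U i) * y U i = 0
    rw [show C U i = 0 from (Submodule.mem_bot A).1 (hN ▸ hCN U i), map_zero, zero_mul]

end Local

theorem bijective_snd_of_isIso {Y S T : Scheme.{u}} (q : Y ⟶ S) (f : T ⟶ S) [IsIso f]
    (h : Function.Bijective (pullback.snd q f).appTop) : Function.Bijective q.appTop := by
  have : IsIso f.appTop := inferInstanceAs (IsIso (f.app ⊤))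
  have : IsIso (pullback.fst q f).appTop := inferInstanceAs (IsIso ((pullback.fst q f).app ⊤))
  have e : (pullback.snd q f).appTop = inv f.appTop ≫ q.appTop ≫ (pullback.fst q f).appTop := by
    rw [IsIso.eq_inv_comp, ← Scheme.Hom.comp_appTop, ← Scheme.Hom.comp_appTop, pullback.condition]
  rw [e] at h
  have h1 : Function.Bijective ((pullback.fst q f).appTop ∘ q.appTop) := by
    have hi := ConcreteCategory.bijective_of_isIso (inv f.appTop)
    have : Function.Bijective (((pullback.fst q f).appTop ∘ q.appTop) ∘ inv f.appTop) := h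
    exact (Function.Bijective.of_comp_iff _ hi).1 this
  exact (Function.Bijective.of_comp_iff' (ConcreteCategory.bijective_of_isIso (pullback.fst q f).appTop) _).1 h1

theorem isIso_fromSpecResidueField (K : Type u) [Field K] (z : Spec (CommRingCat.of K)) :
    IsIso ((Spec (CommRingCat.of K)).fromSpecResidueField z) := by
  have hz : (z : PrimeSpectrum K).asIdeal = ⊥ :=
    (Ideal.eq_bot_or_top _).resolve_right (z : PrimeSpectrum K).2.ne_top
  have hb : Function.Bijective (algebraMap K (Localization.AtPrime (z : PrimeSpectrum K).asIdeal)) :=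
    (IsLocalization.atUnits K (z : PrimeSpectrum K).asIdeal.primeCompl (fun x hx => isUnit_iff_ne_zero.2 fun h =>
      hx (by rw [h]; exact zero_mem _))).bijective
  have hs : Function.Surjective (StructureSheaf.toStalk K z) := by
    have h2 := (StructureSheaf.stalkIso K z).toRingEquiv.surjective.comp hb.2
    convert h2 using 2
    ext a
    exact ((StructureSheaf.stalkIso K z).commutes a).symm
  have e : (Spec (CommRingCat.of K)).fromSpecResidueField z =
      Spec.map (CommRingCat.ofHom (StructureSheaf.toStalk K z).hom ≫ (Spec (CommRingCat.of K)).residue z) := by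
    rw [Spec.map_comp]
    show Spec.map _ ≫ (Spec (CommRingCat.of K)).fromSpecStalk z = _
    rw [Scheme.Spec_fromSpecStalk]
    rfl
  rw [e]
  have : IsIso (CommRingCat.ofHom (StructureSheaf.toStalk K z).hom ≫ (Spec (CommRingCat.of K)).residue z) := by
    rw [ConcreteCategory.isIso_iff_bijective]
    exact ⟨RingHom.injective _, ((Spec (CommRingCat.of K)).residue_surjective z).comp hs⟩
  infer_instance

theorem bijective_pt {A : Type u} [CommRing A] [IsLocalRing A] {X : Scheme.{u}}
    (p : X ⟶ Spec (CommRingCat.of A)) [QuasiCompact p] [QuasiSeparated p]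
    (h : RigidApply.ConstFibres p) : Function.Bijective (pullback.snd p (pt A)).appTop := by
  have := isIso_fromSpecResidueField (ResidueField A) (closedPoint (ResidueField A))
  exact bijective_snd_of_isIso _ _ (h.baseChange (pt A) (closedPoint (ResidueField A)))

/-- A function on a proper flat finitely presented scheme with constant functions on fibres which
vanishes on a section is zero. -/
theorem eq_zero_of_section {A : Type u} [CommRing A] {X : Scheme.{u}} (p : X ⟶ Spec (CommRingCat.of A))
    [Flat p] [LocallyOfFinitePresentation p] [IsProper p] (h0 : RigidApply.ConstFibres p)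
    (e : Spec (CommRingCat.of A) ⟶ X) (he : e ≫ p = 𝟙 _)
    (h : Γ(X, ⊤)) (heh : e.appTop h = 0) : h = 0 := by
  classical
  let T : Set X := {x | X.presheaf.germ ⊤ x trivial h ≠ 0}
  suffices T = ∅ by
    refine TopCat.Presheaf.section_ext X.sheaf ⊤ h 0 fun x hx => ?_
    have : x ∉ T := this ▸ Set.notMem_empty x
    rw [map_zero]
    exact not_not.1 this
  by_contra hT
  have hTc : IsClosed T := by
    rw [← isOpen_compl_iff, isOpen_iff_forall_mem_open]
    intro x hx
    obtain ⟨W, hxW, iW, iW', e'⟩ := TopCat.Presheaf.germ_eq X.presheaf (U := ⊤) (V := ⊤) x (Opens.mem_top x) (Opens.mem_top x) h 0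
      ((not_not.1 hx).trans (map_zero _).symm)
    refine ⟨W, fun y hy => not_not.2 ?_, W.2, hxW⟩
    rw [← X.presheaf.germ_res_apply iW y hy, e', map_zero, map_zero]
  obtain ⟨J, hJ⟩ := (PrimeSpectrum.isClosed_iff_zeroLocus_ideal _).1 (p.isClosedMap _ hTc)
  have hJne : J ≠ ⊤ := by
    rintro rfl
    obtain ⟨x, hx⟩ := Set.nonempty_iff_ne_empty.2 hT
    have : p x ∈ p '' T := ⟨x, hx, rfl⟩
    rw [hJ] at this
    simp at this
    exact Set.notMem_empty _ this
  obtain ⟨P, hP⟩ := Ideal.nonempty_minimalPrimes hJne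
  have := hP.1.1
  let Al := Localization.AtPrime P
  let t : Spec (CommRingCat.of Al) ⟶ Spec (CommRingCat.of A) := Spec.map (CommRingCat.ofHom (algebraMap A Al))
  have hte : t ≫ e ≫ p = 𝟙 _ ≫ t := by rw [he, Category.comp_id, Category.id_comp]
  let p' := pullback.snd p t
  let e' : Spec (CommRingCat.of Al) ⟶ pullback p t :=
    pullback.lift (t ≫ e) (𝟙 _) (by rw [Category.assoc]; exact hte)
  let h' := (pullback.fst p t).appTop h
  have : Flat t := (HasRingHomProperty.Spec_iff (P := @Flat)).2 (RingHom.flat_algebraMap_iff.2 inferInstance)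
  have : SurjectiveOnStalks t :=
    SurjectiveOnStalks.Spec_iff.2 (RingHom.surjectiveOnStalks_of_isLocalization P.primeCompl Al)
  have hz : h' = 0 := by
    refine eq_zero_of_local p' e' (pullback.lift_snd _ _ _) ?_ h' ?_ ?_
    · exact bijective_pt p' (h0.baseChange t)
    · show e'.appTop ((pullback.fst p t).appTop h) = 0
      rw [← CommRingCat.comp_apply, ← Scheme.Hom.comp_appTop, pullback.lift_fst, Scheme.Hom.comp_appTop,
        CommRingCat.comp_apply, heh, map_zero]
    · intro f hf
      have : CompactSpace ↥(pullback p t) := QuasiCompact.compactSpace_of_compactSpace p'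
      refine exists_pow_mul_eq_zero_of_res_basicOpen_eq_zero_of_isCompact _
        (isCompact_univ : IsCompact ((⊤ : (pullback p t).Opens) : Set ↥(pullback p t))) h' _ ?_
      refine TopCat.Presheaf.section_ext (pullback p t).sheaf _ _ 0 fun x hx => ?_
      refine Eq.trans ?_ (map_zero _).symm
      have hxb : p' x ∈ (Spec (CommRingCat.of Al)).basicOpen ((Scheme.ΓSpecIso (CommRingCat.of Al)).inv f) := by
        have : x ∈ p' ⁻¹ᵁ (Spec (CommRingCat.of Al)).basicOpen ((Scheme.ΓSpecIso (CommRingCat.of Al)).inv f) := by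
          rw [Scheme.preimage_basicOpen_top]
          convert hx using 2
          simp [RigidInf.α, Scheme.Hom.appLE]
        exact this
      rw [basicOpen_eq_of_affine] at hxb
      have hxT : pullback.fst p t x ∉ T := fun hxT => by
        have hm : p (pullback.fst p t x) ∈ p '' T := ⟨_, hxT, rfl⟩
        rw [hJ, ← Scheme.Hom.comp_apply, pullback.condition, Scheme.Hom.comp_apply] at hm
        have hle : J ≤ (p' x : PrimeSpectrum Al).asIdeal.comap (algebraMap A Al) := hm
        have hP' : (p' x : PrimeSpectrum Al).asIdeal.comap (algebraMap A Al) ≤ P := by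
          conv_rhs => rw [← IsLocalization.AtPrime.under_maximalIdeal Al P]
          exact Ideal.comap_mono (le_maximalIdeal (p' x : PrimeSpectrum Al).2.ne_top)
        have heq := le_antisymm hP' (hP.2 ⟨Ideal.IsPrime.comap _, hle⟩ hP')
        refine hxb (?_ : f ∈ (p' x : PrimeSpectrum Al).asIdeal)
        have hmax : (p' x : PrimeSpectrum Al).asIdeal = maximalIdeal Al := by
          apply (IsLocalization.orderEmbedding P.primeCompl Al).injective
          exact heq.trans (IsLocalization.AtPrime.under_maximalIdeal Al P).symm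
        rw [hmax]; exact hf
      show (pullback p t).presheaf.germ _ x hx ((pullback p t).presheaf.map (homOfLE le_top).op h') = 0
      rw [TopCat.Presheaf.germ_res_apply]
      show (pullback p t).presheaf.germ ⊤ x trivial ((pullback.fst p t).appTop h) = 0
      refine (Scheme.Hom.germ_stalkMap_apply (pullback.fst p t) ⊤ x trivial h).symm.trans ?_
      rw [not_not.1 hxT, map_zero]
  have hPm : (⟨P, hP.1.1⟩ : PrimeSpectrum A) ∈ p '' T := by rw [hJ]; exact hP.1.2
  obtain ⟨x, hxT, hpx⟩ := hPm
  obtain ⟨z, hz1, -⟩ := Scheme.Pullback.exists_preimage_pullback (f := p) (g := t) x (closedPoint Al) (by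
    rw [hpx]
    exact PrimeSpectrum.ext (IsLocalization.AtPrime.under_maximalIdeal Al P).symm)
  refine hxT ?_
  have : SurjectiveOnStalks (pullback.fst p t) := MorphismProperty.pullback_fst p t inferInstance
  have := RatExtend.isIso_stalkMap (pullback.fst p t) z
  have inj := (ConcreteCategory.bijective_of_isIso ((pullback.fst p t).stalkMap z)).1
  have key : (pullback.fst p t).stalkMap z (X.presheaf.germ ⊤ (pullback.fst p t z) trivial h) = 0 := by
    rw [Scheme.Hom.germ_stalkMap_apply]
    show (pullback p t).presheaf.germ ⊤ z trivial h' = 0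
    rw [hz, map_zero]
  subst hz1
  exact inj (key.trans (map_zero _).symm)

end Groth.Agent.H23.RigidBase
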