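import Groth.Agent.MagnetLib.Mono
import Groth.Agent.GrpSchLib.HomFlat
import Groth.Agent.AssLib.FlatField

/-! Extending morphisms into closed subschemes along schematically dominant morphisms, in particular
along `A(M)_T ⟶ A(N)_T` for `N → M` injective. -/

universe u

open CategoryTheory CategoryTheory.Limits MonoidalCategory CartesianMonoidalCategory MonObj
open AlgebraicGeometry Opposite Magnet TensorProduct

namespace Groth.Agent.H23.AMonExt

variable {S : Scheme.{u}}

/-- Lifting through a closed immersion along a schematically dominant morphism. -/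
theorem exists_lift {A B Z X : Scheme.{u}} (w : A ⟶ B) [IsSchemeTheoreticallyDominant w] (j : Z ⟶ X)
    [IsClosedImmersion j] (h : B ⟶ X) (g : A ⟶ Z) (hg : g ≫ j = w ≫ h) : ∃ h' : B ⟶ Z, h' ≫ j = h := by
  have hle : (pullback.snd j h).ker ≤ ⊥ := by
    rw [← w.ker_eq_bot]
    conv_rhs => rw [← pullback.lift_snd g w hg]
    exact Scheme.Hom.le_ker_comp _ _
  haveI := IsClosedImmersion.isIso_iff_ker_eq_bot.mpr (le_bot_iff.mp hle)
  exact ⟨inv (pullback.snd j h) ≫ pullback.fst j h, by rw [Category.assoc, pullback.condition, IsIso.inv_hom_id_assoc]⟩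

/-- `exists_lift` over a base. -/
theorem exists_lift_over {A B Z X : Over S} (w : A ⟶ B) [IsSchemeTheoreticallyDominant w.left] (j : Z ⟶ X)
    [IsClosedImmersion j.left] (h : B ⟶ X) (g : A ⟶ Z) (hg : g ≫ j = w ≫ h) : ∃ h' : B ⟶ Z, h' ≫ j = h := by
  obtain ⟨h', hh⟩ := exists_lift w.left j.left h.left g.left (congrArg Over.Hom.left hg)
  refine ⟨Over.homMk h' ?_, Over.OverMorphism.ext hh⟩
  rw [← Over.w j, ← Category.assoc, hh, Over.w h]

theorem mono_of_isClosedImmersion {Z X : Over S} (j : Z ⟶ X) [IsClosedImmersion j.left] : Mono j :=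
  (Over.forget S).mono_of_mono_map (inferInstanceAs (Mono j.left))

/-- Over a field, base change of a quasi-compact schematically dominant morphism. -/
theorem stDominant_whiskerRight_field {k : Type u} [Field k] {G M : Over (Spec (CommRingCat.of k))} (i : G ⟶ M)
    [IsSchemeTheoreticallyDominant i.left] [QuasiCompact i.left] (A : Over (Spec (CommRingCat.of k))) :
    IsSchemeTheoreticallyDominant (i ▷ A).left := by
  haveI : Flat A.hom := AssLib.flat_over_field A.hom
  haveI : Flat (fst M A).left := inferInstanceAs (Flat (Limits.pullback.fst M.hom A.hom))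
  exact IsSchemeTheoreticallyDominant.of_isPullback (f := i.left) (g := (fst M A).left)
    (GrpSchLib.isPullback_whiskerRight i A).flip

variable {M N : Type} [AddCommMonoid M] [AddCommMonoid N]

theorem stDominant_bc_map_affine (k : Type u) [CommRing k] (z : S ⟶ Spec (CommRingCat.of k))
    (f : N →+ M) (hf : Function.Injective f) (T : Over S) [IsAffine T.left] :
    IsSchemeTheoreticallyDominant ((Over.pullback z).map (AMon.map k f) ▷ T).left := by
  let R : CommRingCat.{u} := Γ(T.left, ⊤)
  let t : Spec R ⟶ T.left := T.left.isoSpec.inv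
  letI : Algebra k R := (Spec.preimage (t ≫ T.hom ≫ z)).hom.toAlgebra
  have hz : Spec.map (CommRingCat.ofHom (algebraMap k R)) = t ≫ T.hom ≫ z := Spec.map_preimage _
  let j : CommRingCat.of (MonoidAlgebra k (Multiplicative N) ⊗[k] R) ⟶
      CommRingCat.of (MonoidAlgebra k (Multiplicative M) ⊗[k] R) :=
    CommRingCat.ofHom (Algebra.TensorProduct.map
      (MonoidAlgebra.mapDomainBialgHom k (AddMonoidHom.toMultiplicative f)).toAlgHom
      (AlgHom.id k R)).toRingHom
  let inL : ∀ (K : Type) [AddCommMonoid K],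
      Spec (CommRingCat.of (MonoidAlgebra k (Multiplicative K) ⊗[k] R)) ⟶ (AMon k K).left :=
    fun K _ => Spec.map (CommRingCat.ofHom (Algebra.TensorProduct.includeLeft :
      MonoidAlgebra k (Multiplicative K) →ₐ[k] MonoidAlgebra k (Multiplicative K) ⊗[k] R).toRingHom)
  let inR : ∀ (K : Type) [AddCommMonoid K],
      Spec (CommRingCat.of (MonoidAlgebra k (Multiplicative K) ⊗[k] R)) ⟶ Spec R :=
    fun K _ => Spec.map (CommRingCat.ofHom (Algebra.TensorProduct.includeRight :
      R →ₐ[k] MonoidAlgebra k (Multiplicative K) ⊗[k] R).toRingHom)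
  have hsq : ∀ (K : Type) [AddCommMonoid K],
      IsPullback (inL K) (inR K ≫ t) (AMon k K).hom (T.hom ≫ z) := fun K _ =>
    (isPullback_SpecMap_of_isPushout _ _ _ _
      (CommRingCat.isPushout_tensorProduct k (MonoidAlgebra k (Multiplicative K)) R)).of_iso
      (Iso.refl _) (Iso.refl _) T.left.isoSpec.symm (Iso.refl _)
      ((Category.comp_id _).trans (Category.id_comp _).symm)
      (Category.id_comp _).symm
      ((Category.comp_id _).trans (Category.id_comp _).symm)
      (by simp only [Iso.symm_hom, Iso.refl_hom, Category.comp_id]; exact hz)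
  have hbig : ∀ (K : Type) [AddCommMonoid K], IsPullback
      (pullback.fst (Red.bc z (AMon k K)).hom T.hom ≫ pullback.fst (AMon k K).hom z)
      (pullback.snd (Red.bc z (AMon k K)).hom T.hom) (AMon k K).hom (T.hom ≫ z) := fun K _ =>
    (IsPullback.of_hasPullback (Red.bc z (AMon k K)).hom T.hom).paste_horiz
      (IsPullback.of_hasPullback (AMon k K).hom z)
  let e : ∀ (K : Type) [AddCommMonoid K],
      Spec (CommRingCat.of (MonoidAlgebra k (Multiplicative K) ⊗[k] R)) ⟶
        (Red.bc z (AMon k K) ⊗ T).left :=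
    fun K _ => ((hsq K).isoIsPullback _ _ (hbig K)).hom
  have e1 : ∀ (K : Type) [AddCommMonoid K],
      e K ≫ pullback.fst (Red.bc z (AMon k K)).hom T.hom ≫ pullback.fst (AMon k K).hom z = inL K :=
    fun K _ => IsPullback.isoIsPullback_hom_fst _ _ _ _
  have e2 : ∀ (K : Type) [AddCommMonoid K],
      e K ≫ pullback.snd (Red.bc z (AMon k K)).hom T.hom = inR K ≫ t :=
    fun K _ => IsPullback.isoIsPullback_hom_snd _ _ _ _
  have hjR : Spec.map j ≫ inR N = inR M := by
    refine (Spec.map_comp _ _).symm.trans ?_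
    congr 1
    ext r
    simp [j]
  have hjL : Spec.map j ≫ inL N = inL M ≫ (AMon.map k f).left := by
    rw [AMon.map_left]
    refine (Spec.map_comp _ _).symm.trans (Eq.trans ?_ (Spec.map_comp _ _))
    congr 1
  have hcomm : e M ≫ ((Over.pullback z).map (AMon.map k f) ▷ T).left = Spec.map j ≫ e N := by
    apply (hbig N).hom_ext
    · rw [Category.assoc (Spec.map j), e1 N, hjL, ← e1 M]
      simp only [Category.assoc]
      congr 1
      erw [← Category.assoc, Over.whiskerRight_left_fst, Category.assoc]
      congr 1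
      exact pullback.lift_fst _ _ _
    · rw [Category.assoc (Spec.map j), e2 N, ← Category.assoc (Spec.map j), hjR, ← e2 M]
      simp only [Category.assoc]
      congr 1
      exact Over.whiskerRight_left_snd _
  haveI : IsSchemeTheoreticallyDominant (Spec.map j) := by
    refine ⟨?_⟩
    rw [Scheme.ker_of_isAffine, (RingHom.injective_iff_ker_eq_bot _).mp ?_]
    · exact le_bot_iff.mp (Scheme.IdealSheafData.le_of_isAffine (by simp))
    · intro a b hab
      apply (ConcreteCategory.bijective_of_isIso (Scheme.ΓSpecIso (CommRingCat.of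
        (MonoidAlgebra k (Multiplicative N) ⊗[k] R))).hom).1
      apply MagnetLib.lTensor_mapDomain_injective k R f hf
      have hn := Scheme.ΓSpecIso_naturality j
      have ha := congrArg (fun q => q.hom a) hn
      have hb := congrArg (fun q => q.hom b) hn
      simp only [CommRingCat.hom_comp, RingHom.comp_apply] at ha hb
      exact ha.symm.trans ((congrArg _ hab).trans hb)
  haveI : ∀ (K : Type) [AddCommMonoid K], IsIso (e K) := fun K _ => ((hsq K).isoIsPullback _ _ (hbig K)).isIso_hom
  rw [show ((Over.pullback z).map (AMon.map k f) ▷ T).left = inv (e M) ≫ Spec.map j ≫ e N from by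
    rw [← hcomm, IsIso.inv_hom_id_assoc]]
  infer_instance

theorem exists_lift_AMonS_map (f : N →+ M) (hf : Function.Injective f) (T : Over S) {Z X : Over S} (j : Z ⟶ X)
    [IsClosedImmersion j.left] (h : AMonS S N ⊗ T ⟶ X) (g : AMonS S M ⊗ T ⟶ Z)
    (hg : g ≫ j = (AMonS.map S f ▷ T) ≫ h) : ∃ h' : AMonS S N ⊗ T ⟶ Z, h' ≫ j = h := by
  suffices hI : IsIso (pullback.snd j.left h.left) by
    refine ⟨Over.homMk (inv (pullback.snd j.left h.left) ≫ pullback.fst j.left h.left) ?_, ?_⟩
    · rw [← Over.w j, Category.assoc, ← Category.assoc (pullback.fst _ _), pullback.condition, Category.assoc,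
        IsIso.inv_hom_id_assoc, Over.w h]
    · apply Over.OverMorphism.ext
      simp [pullback.condition]
  let 𝒰 := Scheme.Pullback.openCoverOfRight T.left.affineCover (AMonS S N).hom T.hom
  show MorphismProperty.isomorphisms Scheme.{u} _
  refine IsZariskiLocalAtTarget.of_openCover (P := MorphismProperty.isomorphisms Scheme.{u}) 𝒰 fun i => ?_
  let T' : Over S := Over.mk (T.left.affineCover.f i ≫ T.hom)
  haveI : IsAffine T'.left := inferInstanceAs (IsAffine (T.left.affineCover.X i))
  let u : T' ⟶ T := Over.homMk (T.left.affineCover.f i)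
  have hu : (AMonS S N ◁ u).left = 𝒰.f i := by
    apply pullback.hom_ext
    · erw [Over.whiskerLeft_left_fst u]
    · erw [Over.whiskerLeft_left_snd u]
  show IsIso _
  haveI : IsSchemeTheoreticallyDominant (AMonS.map S f ▷ T').left :=
    stDominant_bc_map_affine (ULift.{u} ℤ) _ f hf T'
  obtain ⟨h', hh⟩ := exists_lift_over (AMonS.map S f ▷ T') j ((AMonS S N ◁ u) ≫ h) ((AMonS S M ◁ u) ≫ g) (by
    rw [Category.assoc, hg, ← whisker_exchange_assoc])
  have hh' : h'.left ≫ j.left = (AMonS S N ◁ u).left ≫ h.left := congrArg Over.Hom.left hh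
  haveI : IsClosedImmersion (Scheme.Cover.pullbackHom 𝒰 (pullback.snd j.left h.left) i) :=
    inferInstanceAs (IsClosedImmersion (pullback.snd _ _))
  let sec := pullback.lift (f := pullback.snd j.left h.left) (g := 𝒰.f i)
    (pullback.lift h'.left ((AMonS S N ◁ u).left ≫ 𝟙 _) (by rw [hh', Category.comp_id])) (𝟙 _)
    (by rw [pullback.lift_snd, Category.comp_id]; exact hu.trans (Category.id_comp _).symm)
  haveI : IsSplitEpi (Scheme.Cover.pullbackHom 𝒰 (pullback.snd j.left h.left) i) :=
    IsSplitEpi.mk' ⟨sec, pullback.lift_snd _ _ _⟩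
  exact isIso_of_mono_of_isSplitEpi _

end Groth.Agent.H23.AMonExt
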