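import Groth.Agent.H23.AlbFormal
import Groth.Agent.H23.MaxAbelian
import Groth.Agent.GrpSchLib.FieldReduced
import Groth.Agent.GrpSchLib.GeomIrr
import Groth.Agent.GrpSchLib.FieldTop
import Groth.Agent.FibDim.BaseField
import Mathlib.AlgebraicGeometry.AlgClosed.Basic

/-!
The fibres of a morphism from an abelian variety are equidimensional of the same dimension.
-/

universe u

open CategoryTheory Limits AlgebraicGeometry TopologicalSpace MonoidalCategory CartesianMonoidalCategory
open MonObj GrpObj Groth.Agent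
open scoped CategoryTheory.Obj

namespace Groth.Agent.H23.EquidimFibres

section AlgClosed

variable {K : Type u} [Field K] [IsAlgClosed K]

local notation "pt" => IsLocalRing.closedPoint K

theorem geometricallyIntegral_of_isAlgClosed {V : Over (Spec (CommRingCat.of K))} [IsIntegral V.left] :
    GeometricallyIntegral V.hom := by
  have := GrpSchLib.geometricallyIrreducible_of_isAlgClosed V.hom
  have : GeometricallyReduced V.hom := by
    refine ⟨fun L _ x Z a b hp => ?_⟩
    have : IsReduced (pullback V.hom x) := GrpSchLib.isReduced_pullback_of_perfectField V.hom x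
    exact isReduced_of_isOpenImmersion hp.isoPullback.hom
  exact GeometricallyIntegral.of_geometricallyReduced_of_geometricallyIrreducible _

/-- A closed irreducible subset as a reduced subscheme. -/
theorem exists_integral_sub {X : Over (Spec (CommRingCat.of K))} [IsProper X.hom] {Z : Set X.left}
    (hZc : IsClosed Z) (hZ : IsIrreducible Z) :
    ∃ (V : Over (Spec (CommRingCat.of K))) (em : V ⟶ X), IsClosedImmersion em.left ∧
      Set.range em.left = Z ∧ IsProper V.hom ∧ GeometricallyIntegral V.hom ∧ IsIntegral V.left := by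
  let i := (Scheme.IdealSheafData.vanishingIdeal (⟨Z, hZc⟩ : Closeds X.left)).subschemeι
  let V : Over (Spec (CommRingCat.of K)) := Over.mk (i ≫ X.hom)
  let em : V ⟶ X := Over.homMk i rfl
  have hci : IsClosedImmersion em.left := inferInstanceAs (IsClosedImmersion i)
  have hr : Set.range em.left = Z := RedSub.range_vanishingIdeal _
  have : IsReduced V.left := RedSub.isReduced_vanishingIdeal _
  have : IrreducibleSpace V.left := by
    rw [irreducibleSpace_def, Set.top_eq_univ]
    refine ⟨?_, ?_⟩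
    · obtain ⟨z, hz⟩ := hZ.1
      rw [← hr] at hz
      obtain ⟨v, -⟩ := hz
      exact ⟨v, trivial⟩
    · have h2 : IsPreirreducible (em.left '' Set.univ) := by rw [Set.image_univ, hr]; exact hZ.2
      intro A B hA hB h1 h2'
      obtain ⟨A', hA', rfl⟩ := em.left.isEmbedding.isInducing.isOpen_iff.1 hA
      obtain ⟨B', hB', rfl⟩ := em.left.isEmbedding.isInducing.isOpen_iff.1 hB
      obtain ⟨a, -, ha⟩ := h1
      obtain ⟨b, -, hb⟩ := h2'
      obtain ⟨_, ⟨c, -, rfl⟩, hc⟩ := h2 A' B' hA' hB' ⟨_, ⟨a, trivial, rfl⟩, ha⟩ ⟨_, ⟨b, trivial, rfl⟩, hb⟩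
      exact ⟨c, trivial, hc⟩
  have hint : IsIntegral V.left := isIntegral_of_irreducibleSpace_of_isReduced _
  have hp : IsProper V.hom := inferInstanceAs (IsProper (i ≫ X.hom))
  exact ⟨V, em, hci, hr, hp, geometricallyIntegral_of_isAlgClosed, hint⟩

/-- Rigidity: the translate of an irreducible piece of a fibre lies in a fibre. -/
theorem translate_sub {X Y : Over (Spec (CommRingCat.of K))} [GrpObj X] [IsProper X.hom]
    [GeometricallyIntegral X.hom] [IsSeparated Y.hom] (f : X ⟶ Y) {Z : Set X.left}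
    (hZc : IsClosed Z) (hZ : IsIrreducible Z) (a b : 𝟙_ (Over (Spec (CommRingCat.of K))) ⟶ X)
    (ha : a.left pt ∈ Z) (hconst : ∀ z ∈ Z, f.left z = f.left (a.left pt)) :
    (𝟙 X * (toUnit X ≫ (a⁻¹ * b))).left '' Z ⊆ f.left ⁻¹' {f.left (b.left pt)} := by
  obtain ⟨V, em, hci, hr, _, _, _⟩ := exists_integral_sub hZc hZ
  have : IsReduced (𝟙_ (Over (Spec (CommRingCat.of K)))).left :=
    inferInstanceAs (IsReduced (Spec (CommRingCat.of K)))
  obtain ⟨v₀', hv₀'⟩ := RedSub.exists_lift_closed a.left em.left (by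
    rintro _ ⟨y, rfl⟩
    rw [hr, show a.left y = a.left pt from
      congrArg a.left (@Subsingleton.elim (Spec (CommRingCat.of K)) inferInstance _ _)]
    exact ha)
  let v₀ : 𝟙_ _ ⟶ V := Over.homMk v₀' (by rw [← Over.w em, ← Category.assoc, hv₀', Over.w])
  have hv₀ : v₀ ≫ em = a := Over.OverMorphism.ext hv₀'
  let φ : V ⊗ X ⟶ Y := ((fst V X ≫ em) * (toUnit _ ≫ a⁻¹) * snd V X) ≫ f
  have hVc : (em ≫ f) = toUnit V ≫ v₀ ≫ em ≫ f := by
    refine AlbFormal.const_of_subsingleton (Rigid.bijective_appTop V.hom) v₀ (em ≫ f) ?_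
    rintro _ ⟨v, rfl⟩ _ ⟨w, rfl⟩
    exact (hconst _ (hr.subset ⟨v, rfl⟩)).trans (hconst _ (hr.subset ⟨w, rfl⟩)).symm
  rw [← Category.assoc v₀, hv₀] at hVc
  have h0 : lift (𝟙 V) (toUnit V ≫ a) ≫ φ = toUnit V ≫ a ≫ f := by
    rw [← hVc]
    show _ ≫ _ ≫ f = _
    rw [← Category.assoc]
    congr 1
    simp only [MonObj.comp_mul, lift_fst_assoc, lift_snd]
    rw [Category.id_comp, ← Category.assoc (lift (𝟙 V) (toUnit V ≫ a)) (toUnit (V ⊗ X)),
      toUnit_unique (lift (𝟙 V) (toUnit V ≫ a) ≫ toUnit (V ⊗ X)) (toUnit V),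
      _root_.mul_assoc, GrpObj.comp_inv, inv_mul_cancel, _root_.mul_one]
  obtain ⟨g, hg⟩ := Rigid.exists_factor_of_lift φ a (a ≫ f) h0
  have h1 : b ≫ g = b ≫ f := by
    have e := congrArg (lift v₀ b ≫ ·) hg
    simp only [φ, lift_snd_assoc] at e
    rw [← e, ← Category.assoc]
    congr 1
    simp only [MonObj.comp_mul, lift_fst_assoc, lift_snd, hv₀]
    rw [← Category.assoc (lift v₀ b), toUnit_unique (lift v₀ b ≫ toUnit (V ⊗ X)) (𝟙 _), Category.id_comp,
      mul_inv_cancel, _root_.one_mul]
  have h2 : em ≫ (𝟙 X * (toUnit X ≫ (a⁻¹ * b))) ≫ f = toUnit V ≫ b ≫ f := by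
    have e := congrArg (lift (𝟙 V) (toUnit V ≫ b) ≫ ·) hg
    simp only [φ, lift_snd_assoc] at e
    rw [← h1, ← Category.assoc (toUnit V), ← e, ← Category.assoc em, ← Category.assoc (lift (𝟙 V) _)]
    congr 1
    simp only [MonObj.comp_mul, Category.comp_id, lift_fst_assoc, lift_snd, Category.id_comp]
    rw [← Category.assoc (lift (𝟙 V) (toUnit V ≫ b)), toUnit_unique (lift (𝟙 V) (toUnit V ≫ b) ≫ toUnit (V ⊗ X)) (toUnit V),
      ← _root_.mul_assoc]
    simp only [← Category.assoc]
    rw [toUnit_unique (em ≫ toUnit X) (toUnit V)]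
  rintro _ ⟨z, hz, rfl⟩
  rw [← hr] at hz
  obtain ⟨v, rfl⟩ := hz
  have := congrArg (fun φ : V ⟶ Y => φ.left v) h2
  simp only [Over.comp_left, Scheme.Hom.comp_apply] at this
  refine this.trans ?_
  exact congrArg (fun w => f.left (b.left w)) (@Subsingleton.elim (Spec (CommRingCat.of K)) inferInstance _ _)

/-- A rational point in one component of a closed set and in no other one. -/
theorem exists_point_only {X : Over (Spec (CommRingCat.of K))} [IsProper X.hom] {S : Set X.left}
    (hS : IsClosed S) {W : Set S} (hW : W ∈ irreducibleComponents S) :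
    ∃ a : 𝟙_ (Over (Spec (CommRingCat.of K))) ⟶ X, ∃ w ∈ W, a.left pt = w.1 ∧
      ∀ T : Set S, IsIrreducible T → w ∈ T → T ⊆ W := by
  have := LocallyOfFiniteType.jacobsonSpace X.hom
  have : IsLocallyNoetherian X.left := LocallyOfFiniteType.isLocallyNoetherian X.hom
  have : CompactSpace X.left := QuasiCompact.compactSpace_of_compactSpace X.hom
  have : IsNoetherian X.left := { }
  have hfin : (irreducibleComponents S).Finite := NoetherianSpace.finite_irreducibleComponents
  let O : Set S := (⋃ C ∈ irreducibleComponents S \ {W}, C)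
  have hO : IsClosed O :=
    (hfin.subset Set.sdiff_subset).isClosed_biUnion fun C hC => isClosed_of_mem_irreducibleComponents C hC.1
  have hne : ¬ W ⊆ O := by
    intro hsub
    obtain ⟨C, hC, hWC⟩ := isIrreducible_iff_sUnion_isClosed.1 hW.1 (hfin.subset Set.sdiff_subset).toFinset
      (fun C hC => isClosed_of_mem_irreducibleComponents C ((Set.Finite.mem_toFinset _).1 hC).1)
      (by rwa [Set.Finite.coe_toFinset, Set.sUnion_eq_biUnion])
    rw [Set.Finite.mem_toFinset] at hC
    exact hC.2 (Set.mem_singleton_iff.2 (subset_antisymm (hW.2 hC.1.1 hWC) hWC))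
  obtain ⟨w₀, hw₀W, hw₀O⟩ := Set.not_subset.1 hne
  have he : Topology.IsClosedEmbedding (Subtype.val : S → X.left) := hS.isClosedEmbedding_subtypeVal
  have hlc : IsLocallyClosed (Subtype.val '' (W \ O) : Set X.left) :=
    ((isClosed_of_mem_irreducibleComponents W hW).isLocallyClosed.inter hO.isOpen_compl.isLocallyClosed).image
      he.isEmbedding.isInducing (by rw [Subtype.range_val]; exact hS.isLocallyClosed)
  obtain ⟨x, hx, hxc⟩ := nonempty_inter_closedPoints (X := X.left) (Z := Subtype.val '' (W \ O))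
    ⟨_, w₀, ⟨hw₀W, hw₀O⟩, rfl⟩ hlc
  obtain ⟨w, ⟨hwW, hwO⟩, rfl⟩ := hx
  refine ⟨Over.homMk _ ((pointEquivClosedPoint X.hom).symm ⟨w.1, hxc⟩).2, w, hwW, ?_, fun T hT hwT => ?_⟩
  · simp only [pointEquivClosedPoint]
    exact pointOfClosedPoint_apply _ _ _ _
  · obtain ⟨C, hC, hTC⟩ := exists_mem_irreducibleComponents_subset_of_isIrreducible T hT
    by_cases hCW : C = W
    · exact hCW ▸ hTC
    · exact absurd (Set.mem_iUnion₂.2 ⟨C, ⟨hC, hCW⟩, hTC hwT⟩ : w ∈ O) hwO

/-- Over an algebraically closed field all components of all rational fibres have the same dimension. -/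
theorem dim_le {X Y : Over (Spec (CommRingCat.of K))} [GrpObj X] [IsProper X.hom]
    [GeometricallyIntegral X.hom] [IsSeparated Y.hom] (f : X ⟶ Y) (y y' : Y.left)
    (hy : IsClosed ({y} : Set Y.left)) (hy' : IsClosed ({y'} : Set Y.left))
    {Z : Set ↥(f.left ⁻¹' {y})} (hZ : Z ∈ irreducibleComponents ↥(f.left ⁻¹' {y}))
    {Z' : Set ↥(f.left ⁻¹' {y'})} (hZ' : Z' ∈ irreducibleComponents ↥(f.left ⁻¹' {y'})) :
    topologicalKrullDim Z ≤ topologicalKrullDim Z' := by
  have hS := hy.preimage f.left.continuous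
  have hS' := hy'.preimage f.left.continuous
  obtain ⟨a, w, hwZ, haw, -⟩ := exists_point_only hS hZ
  obtain ⟨b, w', -, hbw, honly⟩ := exists_point_only hS' hZ'
  let c : 𝟙_ (Over (Spec (CommRingCat.of K))) ⟶ X := a⁻¹ * b
  let T : X ≅ X :=
    { hom := 𝟙 X * (toUnit X ≫ c)
      inv := 𝟙 X * (toUnit X ≫ c⁻¹)
      hom_inv_id := by simp [MonObj.comp_mul, GrpObj.comp_inv]
      inv_hom_id := by simp [MonObj.comp_mul, GrpObj.comp_inv] }
  have hfa : f.left (a.left pt) = y := haw ▸ w.2
  have hfb : f.left (b.left pt) = y' := hbw ▸ w'.2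
  have hsub := translate_sub f (hS.isClosedEmbedding_subtypeVal.isClosedMap _
    (isClosed_of_mem_irreducibleComponents Z hZ)) (hZ.1.image _ continuous_subtype_val.continuousOn) a b
    ⟨w, hwZ, haw.symm⟩ (by rintro _ ⟨z, -, rfl⟩; exact (show f.left z.1 = y from z.2).trans hfa.symm)
  rw [hfb] at hsub
  let e : ↥(f.left ⁻¹' {y}) → X.left := fun z => T.hom.left z.1
  have hem : Topology.IsEmbedding e :=
    (Scheme.Hom.homeomorph ((Over.forget _).mapIso T).hom).isEmbedding.comp Topology.IsEmbedding.subtypeVal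
  have hmem : ∀ z ∈ Z, e z ∈ f.left ⁻¹' {y'} := fun z hz => hsub ⟨z.1, ⟨z, hz, rfl⟩, rfl⟩
  let j : Z → ↥(f.left ⁻¹' {y'}) := fun z => ⟨e z.1, hmem z.1 z.2⟩
  have hj : Topology.IsEmbedding j := (hem.comp Topology.IsEmbedding.subtypeVal).codRestrict _ _
  have hTa : T.hom.left (a.left pt) = b.left pt := by
    refine congrArg (fun φ : 𝟙_ _ ⟶ X => φ.left pt) (show a ≫ T.hom = b from ?_)
    simp [T, c, MonObj.comp_mul]
  have : IrreducibleSpace Z :=
    { Subtype.preirreducibleSpace hZ.1.2 with toNonempty := ⟨⟨w, hwZ⟩⟩ }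
  have hjsub : Set.range j ⊆ Z' := by
    rw [← Set.image_univ]
    refine honly _ ((IrreducibleSpace.isIrreducible_univ _).image j hj.continuous.continuousOn)
      ⟨⟨w, hwZ⟩, trivial, Subtype.ext ?_⟩
    exact (congrArg T.hom.left haw.symm).trans (hTa.trans hbw)
  exact (hj.codRestrict Z' fun z => hjsub ⟨z, rfl⟩).isInducing.topologicalKrullDim_le

end AlgClosed

section General

/-- The dimensions of the irreducible components. -/
def dims (α : Type u) [TopologicalSpace α] : Set (WithBot ℕ∞) :=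
  (fun Z : Set α => topologicalKrullDim ↥Z) '' irreducibleComponents α

theorem dims_subset_of_homeo {α β : Type u} [TopologicalSpace α] [TopologicalSpace β] (e : α ≃ₜ β) :
    dims α ⊆ dims β := by
  rintro _ ⟨Z, hZ, rfl⟩
  exact ⟨e '' Z, image_mem_irreducibleComponents_of_isPreirreducible_fiber e e.continuous e.isOpenMap
    (fun _ => (Set.subsingleton_singleton.preimage e.injective).isPreirreducible) e.surjective hZ,
    (e.image Z).isHomeomorph.topologicalKrullDim_eq.symm⟩

theorem dims_eq_of_homeo {α β : Type u} [TopologicalSpace α] [TopologicalSpace β] (e : α ≃ₜ β) :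
    dims α = dims β :=
  (dims_subset_of_homeo e).antisymm (dims_subset_of_homeo e.symm)

/-- A geometric fibre has the component dimensions of the fibre. -/
theorem dims_fiber {X Y : Scheme.{u}} (f : X ⟶ Y) [LocallyOfFiniteType f] {K : Type u} [Field K]
    (t : Spec (CommRingCat.of K) ⟶ Y) :
    dims ↥(pullback f t) = dims ↥(f.fiber (t (IsLocalRing.closedPoint K))) := by
  let y := t (IsLocalRing.closedPoint K)
  let ψ := Y.descResidueField (Scheme.stalkClosedPointTo t)
  let g : Spec (CommRingCat.of K) ⟶ Spec (Y.residueField y) := Spec.map ψ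
  have hg : g ≫ Y.fromSpecResidueField y = t :=
    Scheme.descResidueField_stalkClosedPointTo_fromSpecResidueField K Y t
  have : Flat g := GrpSchLib.flat_spec_map_field (K := Y.residueField y) ψ.hom
  have : Surjective g := GrpSchLib.surjective_spec_map_field (K := Y.residueField y) ψ.hom
  let e : pullback (f.fiberToSpecResidueField y) g ≅ pullback f t :=
    pullbackLeftPullbackSndIso f (Y.fromSpecResidueField y) g ≪≫ pullback.congrHom rfl hg
  rw [← dims_eq_of_homeo e.hom.homeomorph]
  exact FibDim.component_dims_baseChange (IsPullback.of_hasPullback (f.fiberToSpecResidueField y) g)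

variable {k : Type u} [Field k]

theorem dims_geometric_eq {X Y : Over (Spec (CommRingCat.of k))} [GrpObj X] [IsProper X.hom]
    [GeometricallyIntegral X.hom] [IsSeparated Y.hom] (f : X ⟶ Y) {K : Type u} [Field K] [IsAlgClosed K]
    (φ : k →+* K) (t t' : Spec (CommRingCat.of K) ⟶ Y.left)
    (ht : t ≫ Y.hom = Spec.map (CommRingCat.ofHom φ)) (ht' : t' ≫ Y.hom = Spec.map (CommRingCat.ofHom φ))
    {d d' : WithBot ℕ∞} (hd : d ∈ dims ↥(pullback f.left t)) (hd' : d' ∈ dims ↥(pullback f.left t')) :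
    d = d' := by
  let b := Spec.map (CommRingCat.ofHom φ)
  let XK := (Over.pullback b).obj X
  let YK := (Over.pullback b).obj Y
  let fK : XK ⟶ YK := (Over.pullback b).map f
  let : GrpObj XK := Functor.grpObjObj
  have : IsProper XK.hom := inferInstanceAs (IsProper (pullback.snd X.hom b))
  have : GeometricallyIntegral XK.hom := inferInstanceAs (GeometricallyIntegral (pullback.snd X.hom b))
  have : IsSeparated YK.hom := inferInstanceAs (IsSeparated (pullback.snd Y.hom b))
  have key : ∀ (s : Spec (CommRingCat.of K) ⟶ Y.left) (hs : s ≫ Y.hom = b),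
      ∃ y : YK.left, IsClosed ({y} : Set YK.left) ∧
        dims ↥(pullback f.left s) = dims ↥(fK.left ⁻¹' {y}) := by
    intro s hs
    let σ : Spec (CommRingCat.of K) ⟶ pullback Y.hom b := pullback.lift s (𝟙 _) (by rw [hs, Category.id_comp])
    have hσ : σ ≫ pullback.snd Y.hom b = 𝟙 _ := pullback.lift_snd _ _ _
    have : IsClosedImmersion σ := isClosedImmersion_of_comp_eq_id _ _ hσ
    have hsub : Subsingleton ↥(Spec (CommRingCat.of K)) := FibDim.subsingleton_spec_field K
    have hrange : Set.range σ = {σ (IsLocalRing.closedPoint K)} := by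
      refine Set.eq_singleton_iff_unique_mem.2 ⟨⟨_, rfl⟩, ?_⟩
      rintro _ ⟨z, rfl⟩
      exact congrArg σ (Subsingleton.elim _ _)
    refine ⟨σ (IsLocalRing.closedPoint K), hrange ▸ σ.isClosedEmbedding.isClosed_range, ?_⟩
    have hsq : IsPullback (pullback.fst X.hom b) fK.left f.left (pullback.fst Y.hom b) := by
      refine IsPullback.of_bot ?_ (pullback.lift_fst _ _ _).symm (IsPullback.of_hasPullback Y.hom b)
      rw [show fK.left ≫ pullback.snd Y.hom b = pullback.snd X.hom b from Over.w fK, Over.w f]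
      exact IsPullback.of_hasPullback X.hom b
    have hpb : IsPullback (pullback.fst fK.left σ ≫ pullback.fst X.hom b) (pullback.snd fK.left σ) f.left s := by
      have := (IsPullback.of_hasPullback fK.left σ).paste_horiz hsq
      rwa [pullback.lift_fst] at this
    rw [← dims_eq_of_homeo hpb.isoPullback.hom.homeomorph]
    refine dims_eq_of_homeo ((pullback.fst fK.left σ).isClosedEmbedding.isEmbedding.toHomeomorph.trans
      (Homeomorph.setCongr ?_))
    rw [Scheme.Pullback.range_fst, hrange]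
  obtain ⟨y, hy, h⟩ := key t ht
  obtain ⟨y', hy', h'⟩ := key t' ht'
  rw [h] at hd
  rw [h'] at hd'
  obtain ⟨Z, hZ, rfl⟩ := hd
  obtain ⟨Z', hZ', rfl⟩ := hd'
  exact (dim_le fK y y' hy hy' hZ hZ').antisymm (dim_le fK y' y hy' hy hZ' hZ)

theorem equidimensional (X : Over (Spec (CommRingCat.of k))) [GrpObj X] [IsProper X.hom]
    [GeometricallyIntegral X.hom] {Y : Scheme.{u}} (q : Y ⟶ Spec (CommRingCat.of k)) [IsSeparated q]
    (f : X.left ⟶ Y) (hf : f ≫ q = X.hom) :
    ∃ d : ℕ, ∀ (y : Y) (Z : Set ↥(f.fiber y)), Z ∈ irreducibleComponents ↥(f.fiber y) →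
      topologicalKrullDim ↥Z = d := by
  let Yo := Over.mk q
  have : IsSeparated Yo.hom := ‹IsSeparated q›
  let fo : X ⟶ Yo := Over.homMk f hf
  have hp : IsProper (f ≫ q) := by rw [hf]; infer_instance
  have : IsProper f := IsProper.of_comp f q
  let x0 : X.left := η[X].left (IsLocalRing.closedPoint k)
  let y0 := f x0
  have hne : ∀ y : Y, ∀ Z ∈ irreducibleComponents ↥(f.fiber y), ∃ d : ℕ, topologicalKrullDim ↥Z = d := by
    intro y Z hZ
    obtain ⟨w, rfl, -⟩ := FDescent.exists_maximal_of_mem_irreducibleComponents hZ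
    exact ⟨_, FibDim.topologicalKrullDim_closure (f.fiberToSpecResidueField y) w⟩
  obtain ⟨d, hd⟩ := hne y0 (irreducibleComponent (f.asFiber x0))
    (irreducibleComponent_mem_irreducibleComponents _)
  refine ⟨d, fun y Z hZ => ?_⟩
  let K := AlgebraicClosure (Y.residueField y)
  let t : Spec (CommRingCat.of K) ⟶ Y :=
    Spec.map (CommRingCat.ofHom (algebraMap (Y.residueField y) K)) ≫ Y.fromSpecResidueField y
  obtain ⟨φ, hφ⟩ := Spec.map_surjective (t ≫ q)
  let t0 : Spec (CommRingCat.of K) ⟶ Y := Spec.map φ ≫ η[X].left ≫ f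
  have hy0 : t0 (IsLocalRing.closedPoint K) = y0 := by
    show f (η[X].left (Spec.map φ _)) = f (η[X].left _)
    exact congrArg (fun z => f (η[X].left z))
      (@Subsingleton.elim (Spec (CommRingCat.of k)) inferInstance _ _)
  have hy : t (IsLocalRing.closedPoint K) = y := by
    show Y.fromSpecResidueField y _ = y
    exact Scheme.fromSpecResidueField_apply _ _
  have ht0 : t0 ≫ q = Spec.map φ := by
    simp only [t0, Category.assoc, hf]
    rw [show η[X].left ≫ X.hom = 𝟙 _ from Over.w η[X]]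
    exact Category.comp_id _
  have h1 : topologicalKrullDim ↥Z ∈ dims ↥(pullback fo.left t) := by
    show _ ∈ dims ↥(pullback f t)
    rw [dims_fiber, hy]; exact ⟨Z, hZ, rfl⟩
  have h2 : (d : WithBot ℕ∞) ∈ dims ↥(pullback fo.left t0) := by
    show _ ∈ dims ↥(pullback f t0)
    rw [dims_fiber, hy0]
    exact ⟨_, irreducibleComponent_mem_irreducibleComponents _, hd⟩
  exact dims_geometric_eq fo φ.hom t t0 hφ.symm ht0 h1 h2

end General

end Groth.Agent.H23.EquidimFibres
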