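import Groth.Agent.Synt29.FGGrass

/-!
Standard charts of a scheme representing the Grassmannian functor of a free module.
-/

set_option autoImplicit false
set_option backward.isDefEq.respectTransparency false
set_option linter.style.haveILetI false

universe u

open TensorProduct CategoryTheory CategoryTheory.Limits AlgebraicGeometry

namespace Groth.Agent.H23.GrassRep

open Synt29 Synt29.GrassGraph Synt29.RepOpen Synt29.LG
open Module (Grassmannian)

variable {R : Type u} [CommRing R] {d k : ℕ}

/-- The Grassmannian functor of a free module. -/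
abbrev F (R : Type u) [CommRing R] (d k : ℕ) : CommAlgCat.{u} R ⥤ Type u :=
  Grassmannian.functor (R := R) (M := Fin d → R) k

/-- The index of a standard chart. -/
abbrev Idx (d k : ℕ) := {S : Finset (Fin d) // S.card = k}

/-- The variables of a standard chart. -/
abbrev Var (S : Finset (Fin d)) := {c // c ∉ S} × {c // c ∈ S}

theorem card_var (S : Idx d k) : Nat.card (Var S.1) = k * (d - k) := by
  classical
  rw [Nat.card_prod, Nat.card_eq_fintype_card, Nat.card_eq_fintype_card, Fintype.card_subtype_compl,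
    Fintype.card_coe, Fintype.card_fin, S.2, mul_comm]

/-- The universal matrix. -/
noncomputable abbrev uX (S : Finset (Fin d)) (c : {c // c ∉ S}) (c' : {c // c ∈ S}) : MvPolynomial (Var S) R :=
  MvPolynomial.X (c, c')

theorem exists_toAway_ne_zero {A L : Type u} [CommRing A] [Algebra R A] [Field L] [Algebra R L]
    {S : Finset (Fin d)} (N : Grassmannian A (A ⊗[R] (Fin d → R)) k) (ψ : A →ₐ[R] L)
    (h : InChart S (Grassmannian.map ψ N)) :
    ∃ a : A, ψ a ≠ 0 ∧ ∀ (B : Type u) [CommRing B] [Algebra R B] (φ : A →ₐ[R] B), IsUnit (φ a) →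
      InChart S (Grassmannian.map φ N) := by
  obtain ⟨a, ha, ha'⟩ := exists_ne_zero_inChart (fun _ : Unit => S) (fun _ => N) ψ (fun _ => h)
  exact ⟨a, ha, fun B _ _ φ hφ => ha' B φ hφ ()⟩

/-- A standard chart. -/
noncomputable def chart (S : Idx d k) : RepOpen.Chart (F R d k) where
  P _ N := InChart S.1 N
  C := CommAlgCat.of R (MvPolynomial (Var S.1) R)
  univ := graph S.1 S.2 (uX S.1)
  mem_univ := graph_inChart S.1 S.2 _
  map_mem φ _ h := h.map φ.hom S.2
  lift {A N} h := by
    obtain ⟨u, hu, huniq⟩ := h.exists_eq S.2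
    refine ⟨CommAlgCat.ofHom (MvPolynomial.aeval fun v => u v.1 v.2), ?_, fun ρ hρ => ?_⟩
    · show Grassmannian.map (MvPolynomial.aeval fun v => u v.1 v.2) (graph S.1 S.2 (uX S.1)) = N
      rw [map_graph, hu]
      simp
    · refine CommAlgCat.hom_ext (MvPolynomial.algHom_ext fun v => ?_)
      replace hρ : Grassmannian.map ρ.hom (graph S.1 S.2 (uX S.1)) = N := hρ
      rw [map_graph] at hρ
      exact (congrFun (congrFun (huniq _ hρ.symm) v.1) v.2).trans (MvPolynomial.aeval_X (fun v => u v.1 v.2) v).symm
  isOpen {A} N L hL ψ h := by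
    letI := hL.toField
    obtain ⟨a, ha, ha'⟩ := exists_toAway_ne_zero N ψ.hom h
    exact ⟨a, ha, ha' _ (toAway A a).hom (IsLocalization.Away.algebraMap_isUnit a)⟩

theorem map_graph_functor {A B : CommAlgCat.{u} R} (φ : A ⟶ B) (S : Idx d k)
    (u : {c // c ∉ S.1} → S.1 → A) :
    (F R d k).map φ (graph S.1 S.2 u) = graph S.1 S.2 (fun a b => φ.hom (u a b)) :=
  map_graph φ.hom S.1 S.2 u

theorem isStandardSmooth_mvPolynomial (R : Type u) [CommRing R] (ι : Type) [Finite ι] :
    Algebra.IsStandardSmoothOfRelativeDimension (Nat.card ι) R (MvPolynomial ι R) := by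
  classical
  have hid : MvPolynomial.aeval (R := R) (MvPolynomial.X : ι → MvPolynomial ι R) = AlgHom.id R _ :=
    MvPolynomial.algHom_ext fun i => MvPolynomial.aeval_X _ i
  let G : Algebra.Generators R (MvPolynomial ι R) ι :=
    Algebra.Generators.ofSurjective MvPolynomial.X fun x => ⟨x, by rw [hid]; rfl⟩
  let P : Algebra.Presentation R (MvPolynomial ι R) ι PEmpty.{1} :=
    { G with
      relation := PEmpty.elim
      span_range_relation_eq_ker := by
        simp only [Set.range_eq_empty, Ideal.span_empty]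
        symm
        rw [← RingHom.injective_iff_ker_eq_bot]
        show Function.Injective (MvPolynomial.aeval (R := R) (MvPolynomial.X : ι → MvPolynomial ι R))
        rw [hid]
        exact fun a b h => h }
  let Q : Algebra.PreSubmersivePresentation R (MvPolynomial ι R) ι PEmpty.{1} :=
    { P with map := PEmpty.elim, map_inj := fun a => a.elim }
  have hQ : IsUnit Q.jacobian := by
    cases nonempty_fintype PEmpty.{1}
    rw [Q.jacobian_eq_jacobiMatrix_det, Matrix.det_isEmpty, _root_.map_one]
    exact isUnit_one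
  exact Algebra.SubmersivePresentation.isStandardSmoothOfRelativeDimension
    ({ Q with jacobian_isUnit := hQ } : Algebra.SubmersivePresentation R (MvPolynomial ι R) ι PEmpty.{1})
    (by simp [Algebra.Presentation.dimension])

variable {X : Over (Spec (CommRingCat.of R))} {e : ∀ A, (sp A ⟶ X) ≃ (F R d k).obj A} (he : IsNat X (F R d k) e)

/-- The immersion of a standard chart. -/
noncomputable abbrev chartHom (e : ∀ A, (sp A ⟶ X) ≃ (F R d k).obj A) (S : Idx d k) : sp (chart S).C ⟶ X :=
  (chart S).hom e

theorem e_chartHom (S : Idx d k) : e _ (chartHom e S) = graph S.1 S.2 (uX S.1) :=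
  (e _).apply_symm_apply _

include he in
theorem exists_mem_range (x : X.left) : ∃ S : Idx d k, x ∈ Set.range (chartHom e S).left := by
  obtain ⟨χ, hχ⟩ : ∃ χ, Spec.map χ = X.left.fromSpecResidueField x ≫ X.hom := ⟨Spec.preimage _, Spec.map_preimage _⟩
  letI : Algebra R (X.left.residueField x) := χ.hom.toAlgebra
  let L : CommAlgCat.{u} R := CommAlgCat.of R (X.left.residueField x)
  let g : sp L ⟶ X := Over.homMk (X.left.fromSpecResidueField x) hχ.symm
  letI : Field (L : Type u) := inferInstanceAs (Field (X.left.residueField x))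
  obtain ⟨S, hS, hch⟩ := exists_cols (e L g)
  obtain ⟨l, hl⟩ := (fac_iff he (chart ⟨S, hS⟩) g).2 hch
  refine ⟨⟨S, hS⟩, l.left (IsLocalRing.closedPoint (X.left.residueField x)), ?_⟩
  rw [← Scheme.Hom.comp_apply, ← Over.comp_left, hl]
  exact Scheme.fromSpecResidueField_apply x _

include he in
theorem isOpenImmersion_chartHom (S : Idx d k) : IsOpenImmersion (chartHom e S).left :=
  isOpenImmersion_hom he (chart S)

/-- The range of a standard chart. -/
noncomputable def chartOpen (S : Idx d k) : X.left.Opens :=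
  haveI := isOpenImmersion_chartHom he S
  (chartHom e S).left.opensRange

theorem iSup_chartOpen : ⨆ S, chartOpen he S = ⊤ :=
  eq_top_iff.2 fun x _ =>
    let ⟨S, hS⟩ := exists_mem_range he x
    TopologicalSpace.Opens.mem_iSup.2 ⟨S, hS⟩

theorem nonempty_chartOpen_iso (S : Idx d k) :
    Nonempty (Over.mk ((chartOpen he S).ι ≫ X.hom) ≅
      Over.mk (𝔸(ULift.{u} (Fin (k * (d - k))); Spec (CommRingCat.of R)) ↘ Spec (CommRingCat.of R))) := by
  haveI := isOpenImmersion_chartHom he S
  obtain ⟨eq⟩ : Nonempty (ULift.{u} (Fin (k * (d - k))) ≃ Var S.1) := by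
    classical
    refine Fintype.card_eq.1 ?_
    rw [← Nat.card_eq_fintype_card (α := Var S.1), card_var, Fintype.card_ulift, Fintype.card_fin]
  let i₁ : Over.mk ((chartOpen he S).ι ≫ X.hom) ≅ sp (chart S).C :=
    (Over.isoMk (chartHom e S).left.isoOpensRange (by
      show (chartHom e S).left.isoOpensRange.hom ≫ (chartHom e S).left.opensRange.ι ≫ X.hom = _
      rw [Scheme.Hom.isoOpensRange_hom_ι_assoc, Over.w])).symm
  let i₂ : sp (chart S).C ≅ sp (CommAlgCat.of R (MvPolynomial (ULift.{u} (Fin (k * (d - k)))) R)) :=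
    Over.isoMk (Scheme.Spec.mapIso ((MvPolynomial.renameEquiv R eq).toRingEquiv.toCommRingCatIso.op)) (by
      show Spec.map _ ≫ Spec.map _ = Spec.map _
      rw [← Spec.map_comp]
      congr 1
      exact CommRingCat.hom_ext (MvPolynomial.renameEquiv R eq).toAlgHom.comp_algebraMap)
  let i₃ : sp (CommAlgCat.of R (MvPolynomial (ULift.{u} (Fin (k * (d - k)))) R)) ≅
      Over.mk (𝔸(ULift.{u} (Fin (k * (d - k))); Spec (CommRingCat.of R)) ↘ Spec (CommRingCat.of R)) :=
    (Over.isoMk (AffineSpace.SpecIso (ULift.{u} (Fin (k * (d - k)))) (CommRingCat.of R)).symm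
      (AffineSpace.SpecIso_inv_over (CommRingCat.of R)))
  exact ⟨i₁ ≪≫ i₂ ≪≫ i₃⟩

include he in
theorem smoothOfRelativeDimension : SmoothOfRelativeDimension (k * (d - k)) X.hom := by
  refine IsZariskiLocalAtSource.of_iSup_eq_top _ (iSup_chartOpen he) fun S => ?_
  haveI := isOpenImmersion_chartHom he S
  rw [show (chartOpen he S).ι ≫ X.hom = (chartHom e S).left.isoOpensRange.inv ≫ (sp (chart S).C).hom by
    rw [Iso.eq_inv_comp]
    show (chartHom e S).left.isoOpensRange.hom ≫ (chartHom e S).left.opensRange.ι ≫ X.hom = _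
    rw [Scheme.Hom.isoOpensRange_hom_ι_assoc, Over.w],
    MorphismProperty.cancel_left_of_respectsIso (P := @SmoothOfRelativeDimension (k * (d - k)))]
  show SmoothOfRelativeDimension (k * (d - k))
    (Spec.map (CommRingCat.ofHom (algebraMap R (MvPolynomial (Var S.1) R))))
  rw [HasRingHomProperty.Spec_iff (P := @SmoothOfRelativeDimension (k * (d - k)))]
  refine RingHom.locally_of (RingHom.isStandardSmoothOfRelativeDimension_respectsIso) _ ?_
  show RingHom.IsStandardSmoothOfRelativeDimension (k * (d - k)) (algebraMap R (MvPolynomial (Var S.1) R))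
  rw [RingHom.isStandardSmoothOfRelativeDimension_algebraMap, ← card_var S]
  exact isStandardSmooth_mvPolynomial R _

end Groth.Agent.H23.GrassRep
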