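import Groth.Agent.H23.CubeField

/-!
Consequences of the theorem of the cube for abelian varieties.
-/

universe u

open CategoryTheory Limits AlgebraicGeometry MonoidalCategory CartesianMonoidalCategory TopologicalSpace Opposite
open scoped MonObj

namespace Groth.Agent.H23.CubeAb

open TrivBasic

open scoped Groth.Agent.H23.PicMul

variable {k : Type u} [Field k] {A : Over (Spec (CommRingCat.of k))}

/-- The class of the pullback of `c` along a morphism. -/
noncomputable abbrev F {T : Over (Spec (CommRingCat.of k))} (c : PicF.Cl A.left) (u : T ⟶ A) : PicF.Cl T.left :=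
  PicMul.pullHom u.left c

theorem cl_eq_one_iff {X : Scheme.{u}} (L : X.Modules) : PicF.cl L = 1 ↔ Triv L :=
  PicMul.cl_eq_iff

theorem pull_F {T T' : Over (Spec (CommRingCat.of k))} (g : T' ⟶ T) (c : PicF.Cl A.left) (u : T ⟶ A) :
    PicMul.pullHom g.left (F c u) = F c (g ≫ u) :=
  PicClLib.pullCl_comp g.left u.left c

theorem F_mul {T : Over (Spec (CommRingCat.of k))} (c d : PicF.Cl A.left) (u : T ⟶ A) :
    F (c * d) u = F c u * F d u := map_mul _ _ _

theorem isUnit_F {T : Over (Spec (CommRingCat.of k))} {c : PicF.Cl A.left} (hc : PicF.IsInvertibleCl c) (u : T ⟶ A) :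
    IsUnit (F c u) :=
  (PicMul.isUnit_of_isInvertibleCl hc).map _

/-- A class pulled back from a point of the base field is trivial. -/
theorem F_const {T : Over (Spec (CommRingCat.of k))} {c : PicF.Cl A.left} (hc : PicF.IsInvertibleCl c)
    (a : 𝟙_ (Over (Spec (CommRingCat.of k))) ⟶ A) : F c (toUnit T ≫ a) = 1 := by
  obtain ⟨L, rfl, hL⟩ := hc
  rw [← pull_F]
  have h : Triv ((Scheme.Modules.pullback a.left).obj L) := by
    obtain ⟨U, hU, e, he⟩ := InvX.exists_frame (PicClLib.isInvertible_pullback a.left hL)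
      (IsLocalRing.closedPoint k)
    obtain rfl : U = ⊤ := top_le_iff.1 fun z _ => by
      haveI : Subsingleton ↥(𝟙_ (Over (Spec (CommRingCat.of k)))).left :=
        inferInstanceAs (Subsingleton (PrimeSpectrum k))
      convert hU
    exact triv_of_frame he
  rw [show F (PicF.cl L) a = 1 from (cl_eq_one_iff _).2 h, map_one]

variable [GrpObj A]

theorem F_one {T : Over (Spec (CommRingCat.of k))} {c : PicF.Cl A.left} (hc : PicF.IsInvertibleCl c) :
    F c (1 : T ⟶ A) = 1 :=
  F_const hc η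

theorem geometricallyConnected_of_integral {X Y : Scheme.{u}} (f : X ⟶ Y) [GeometricallyIntegral f] :
    GeometricallyConnected f := by
  refine ⟨fun K _ y Z fst snd h => ?_⟩
  haveI := GeometricallyIntegral.geometrically_isIntegral (f := f) y fst snd h
  infer_instance

variable [IsProper A.hom] [GeometricallyIntegral A.hom]

/-- The theorem of the cube on the universal triple. -/
theorem cube_univ {c : PicF.Cl A.left} (hc : PicF.IsInvertibleCl c) :
    F c (fst A (A ⊗ A) * (snd A (A ⊗ A) ≫ fst A A) * (snd A (A ⊗ A) ≫ snd A A)) * F c (fst A (A ⊗ A)) *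
        F c (snd A (A ⊗ A) ≫ fst A A) * F c (snd A (A ⊗ A) ≫ snd A A) =
      F c (fst A (A ⊗ A) * (snd A (A ⊗ A) ≫ fst A A)) * F c (fst A (A ⊗ A) * (snd A (A ⊗ A) ≫ snd A A)) *
        F c ((snd A (A ⊗ A) ≫ fst A A) * (snd A (A ⊗ A) ≫ snd A A)) := by
  let p := fst A (A ⊗ A)
  let q := snd A (A ⊗ A) ≫ fst A A
  let r := snd A (A ⊗ A) ≫ snd A A
  let lhs := F c (p * q * r) * F c p * F c q * F c r
  let rhs := F c (p * q) * F c (p * r) * F c (q * r)
  show lhs = rhs
  have hinv : ∀ u : (A ⊗ (A ⊗ A)) ⟶ A, PicF.IsInvertibleCl (F c u) := fun u => PicClLib.isInvertibleCl_pullCl _ hc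
  have hrhs : PicF.IsInvertibleCl rhs :=
    PicMul.isInvertibleCl_mul (PicMul.isInvertibleCl_mul (hinv _) (hinv _)) (hinv _)
  have hlhs : PicF.IsInvertibleCl lhs :=
    PicMul.isInvertibleCl_mul (PicMul.isInvertibleCl_mul (PicMul.isInvertibleCl_mul (hinv _) (hinv _)) (hinv _)) (hinv _)
  obtain ⟨R, hRcl, hR⟩ := hrhs
  obtain ⟨D, hD, hRD⟩ := PicInv.exists_inverse hR
  have h1 : rhs * PicF.cl D = 1 := by
    rw [← hRcl]
    exact PicMul.cl_eq_iff.2 hRD
  obtain ⟨M, hMcl, hM⟩ := PicMul.isInvertibleCl_mul hlhs ⟨D, rfl, hD⟩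
  suffices h : lhs * PicF.cl D = 1 by
    calc lhs = lhs * (PicF.cl D * rhs) := by rw [mul_comm (PicF.cl D), h1, mul_one]
      _ = rhs := by rw [← mul_assoc, h, one_mul]
  rw [← hMcl, cl_eq_one_iff]
  have hslice : ∀ {T : Over (Spec (CommRingCat.of k))} (σ : T ⟶ A ⊗ (A ⊗ A)),
      (σ ≫ p = 1 ∨ σ ≫ q = 1 ∨ σ ≫ r = 1) → Triv ((Scheme.Modules.pullback σ.left).obj M) := by
    intro T σ hσ
    rw [← cl_eq_one_iff]
    show PicMul.pullHom σ.left (PicF.cl M) = 1
    rw [hMcl, map_mul]
    suffices h : PicMul.pullHom σ.left lhs = PicMul.pullHom σ.left rhs by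
      rw [h, ← map_mul, h1, map_one]
    simp only [lhs, rhs, map_mul, pull_F, MonObj.comp_mul]
    rcases hσ with h | h | h <;> simp only [h, one_mul, mul_one, F_one hc] <;>
      simp only [mul_assoc, mul_comm, mul_left_comm]
  haveI : GeometricallyConnected A.hom := geometricallyConnected_of_integral A.hom
  haveI : GeometricallyReduced A.hom := inferInstance
  exact CubeField.cube A A A η η η M hM
    (hslice _ (Or.inl (by simp [p]; rfl)))
    (hslice _ (Or.inr (Or.inl (by simp [q]; rfl))))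
    (hslice _ (Or.inr (Or.inr (by simp [r]; rfl))))

/-- The theorem of the cube for three morphisms. -/
theorem cube {T : Over (Spec (CommRingCat.of k))} {c : PicF.Cl A.left} (hc : PicF.IsInvertibleCl c)
    (f g h : T ⟶ A) :
    F c (f * g * h) * F c f * F c g * F c h = F c (f * g) * F c (f * h) * F c (g * h) := by
  have := congrArg (PicMul.pullHom (lift f (lift g h)).left) (cube_univ hc)
  simp only [map_mul, pull_F, MonObj.comp_mul, lift_fst, lift_snd_assoc, lift_snd] at this
  exact this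

/-- The translation by a point. -/
noncomputable abbrev tr (a : 𝟙_ (Over (Spec (CommRingCat.of k))) ⟶ A) : A ⟶ A := 𝟙 A * (toUnit A ≫ a)

/-- The theorem of the square. -/
theorem square {c : PicF.Cl A.left} (hc : PicF.IsInvertibleCl c) (a b : 𝟙_ (Over (Spec (CommRingCat.of k))) ⟶ A) :
    F c (tr (a * b)) * c = F c (tr a) * F c (tr b) := by
  have h := cube hc (𝟙 A) (toUnit A ≫ a) (toUnit A ≫ b)
  rw [mul_assoc (𝟙 A) (toUnit A ≫ a) (toUnit A ≫ b), ← MonObj.comp_mul, F_const hc, F_const hc, F_const hc, mul_one,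
    mul_one, mul_one, show F c (𝟙 A) = c from PicClLib.pullCl_id c] at h
  exact h

theorem S8119_aux {T : Over (Spec (CommRingCat.of k))} (L : A.left.Modules) (hL : PicF.IsInvertible L)
    (f g h : T ⟶ A) :
    Nonempty (CohB1.tensorMod (CohB1.tensorMod (CohB1.tensorMod ((Scheme.Modules.pullback (f * g * h).left).obj L) ((Scheme.Modules.pullback (f).left).obj L)) ((Scheme.Modules.pullback (g).left).obj L)) ((Scheme.Modules.pullback (h).left).obj L) ≅
      CohB1.tensorMod (CohB1.tensorMod ((Scheme.Modules.pullback (f * g).left).obj L) ((Scheme.Modules.pullback (f * h).left).obj L)) ((Scheme.Modules.pullback (g * h).left).obj L)) :=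
  PicMul.cl_eq_iff.1 (cube ⟨L, rfl, hL⟩ f g h)

theorem S8120_aux (L : A.left.Modules) (hL : PicF.IsInvertible L) (a b : 𝟙_ (Over (Spec (CommRingCat.of k))) ⟶ A) :
    Nonempty (CohB1.tensorMod ((Scheme.Modules.pullback (𝟙 A * (toUnit A ≫ (a * b))).left).obj L) L ≅
      CohB1.tensorMod ((Scheme.Modules.pullback (𝟙 A * (toUnit A ≫ a)).left).obj L) ((Scheme.Modules.pullback (𝟙 A * (toUnit A ≫ b)).left).obj L)) :=
  PicMul.cl_eq_iff.1 (square ⟨L, rfl, hL⟩ a b)

/-- The Mumford identity in the difference of a class. -/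
def IsAdditive (c : PicF.Cl A.left) : Prop :=
  F c (fst A A * snd A A) = F c (fst A A) * F c (snd A A)

omit [IsProper A.hom] [GeometricallyIntegral A.hom] in
theorem IsAdditive.apply {c : PicF.Cl A.left} (h : IsAdditive c) {T : Over (Spec (CommRingCat.of k))} (f g : T ⟶ A) :
    F c (f * g) = F c f * F c g := by
  have := congrArg (PicMul.pullHom (lift f g).left) h
  simp only [map_mul, pull_F, MonObj.comp_mul, lift_fst, lift_snd] at this
  exact this

/-- The difference `m^* - p^* - q^*` is multiplicative in each variable. -/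
theorem mumford_mul {T : Over (Spec (CommRingCat.of k))} {c : PicF.Cl A.left} (hc : PicF.IsInvertibleCl c)
    (f g h : T ⟶ A) :
    F c (f * (g * h)) * F c f * F c g * F c h = F c (f * g) * F c (f * h) * F c (g * h) := by
  rw [← mul_assoc]
  exact cube hc f g h

/-- A module on `A × A` trivial on `0 × A` and on the fibres over all points is trivial. -/
theorem triv_of_fibres {M : (A ⊗ A).left.Modules} (hM : PicF.IsInvertible M)
    (hσ : Triv ((Scheme.Modules.pullback (lift (toUnit A ≫ η) (𝟙 A)).left).obj M))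
    (hall : ∀ w, SeesawGlobal.FieldTriv (snd A A).left M w) : Triv M := by
  haveI : IsProper (snd A A).left := inferInstanceAs (IsProper (pullback.snd A.hom A.hom))
  haveI : Flat (snd A A).left := inferInstanceAs (Flat (pullback.snd A.hom A.hom))
  haveI : IsLocallyNoetherian A.left := LocallyOfFiniteType.isLocallyNoetherian A.hom
  haveI : IsIntegral A.left := GeometricallyIntegral.isIntegral_of_subsingleton A.hom
  exact SeesawGlobal.triv_of_section (f := (snd A A).left) (fun U => Rigid.bijective_app_snd A.hom A.hom U)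
    (lift (toUnit A ≫ η) (𝟙 A)).left (by rw [← Over.comp_left, lift_snd]; rfl) hσ
    fun w => SeesawGlobal.exists_frame_of_isReduced (snd A A).left hM
      (fun v K _ k' _ => by
        show Function.Bijective (pullback.snd (pullback.snd A.hom A.hom) k').appTop
        rw [← pullbackLeftPullbackSndIso_hom_snd A.hom A.hom k', Scheme.Hom.comp_appTop]
        exact (SeesawGlobal.bijective_appTop_iso (pullbackLeftPullbackSndIso A.hom A.hom k')).comp
          (Rigid.bijective_app_snd A.hom (k' ≫ A.hom) ⊤))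
      hall w

/-- The locus of trivial fibres is closed. -/
theorem isClosed_locus {M : (A ⊗ A).left.Modules} (hM : PicF.IsInvertible M) :
    IsClosed {w : A.left | SeesawGlobal.FieldTriv (snd A A).left M w} := by
  haveI : IsProper (snd A A).left := inferInstanceAs (IsProper (pullback.snd A.hom A.hom))
  haveI : Flat (snd A A).left := inferInstanceAs (Flat (pullback.snd A.hom A.hom))
  haveI : GeometricallyIntegral (snd A A).left := inferInstanceAs (GeometricallyIntegral (pullback.snd A.hom A.hom))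
  haveI : IsLocallyNoetherian A.left := LocallyOfFiniteType.isLocallyNoetherian A.hom
  exact SeesawGlobal.isClosed_fieldTriv (snd A A).left hM

theorem fieldTriv_of_rational {M : (A ⊗ A).left.Modules} (hM : PicF.IsInvertible M)
    (a : 𝟙_ (Over (Spec (CommRingCat.of k))) ⟶ A)
    (h : Triv ((Scheme.Modules.pullback (lift (𝟙 A) (toUnit A ≫ a)).left).obj M)) :
    SeesawGlobal.FieldTriv (snd A A).left M (a.left (IsLocalRing.closedPoint k)) := by
  haveI : IsProper (snd A A).left := inferInstanceAs (IsProper (pullback.snd A.hom A.hom))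
  haveI : Flat (snd A A).left := inferInstanceAs (Flat (pullback.snd A.hom A.hom))
  haveI : GeometricallyIntegral (snd A A).left := inferInstanceAs (GeometricallyIntegral (pullback.snd A.hom A.hom))
  haveI : IsLocallyNoetherian A.left := LocallyOfFiniteType.isLocallyNoetherian A.hom
  refine SeesawGlobal.fieldTriv_of_point (snd A A).left hM k (a.left : Spec (CommRingCat.of k) ⟶ A.left) rfl ?_
  refine SeesawGlobal.triv_of_factor (pullback.fst (snd A A).left a.left ≫ (fst A A).left) ?_ h
  have h1 : (lift (𝟙 A) (toUnit A ≫ a)).left ≫ (fst A A).left = 𝟙 _ := by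
    rw [← Over.comp_left, lift_fst]
    rfl
  have h2 : (lift (𝟙 A) (toUnit A ≫ a)).left ≫ (snd A A).left = (toUnit A).left ≫ a.left := by
    rw [← Over.comp_left, lift_snd, Over.comp_left]
  apply pullback.hom_ext
  · show (_ ≫ (lift (𝟙 A) (toUnit A ≫ a)).left) ≫ (fst A A).left = pullback.fst _ _ ≫ (fst A A).left
    rw [Category.assoc, h1, Category.comp_id]
  · show (_ ≫ (lift (𝟙 A) (toUnit A ≫ a)).left) ≫ (snd A A).left = pullback.fst _ _ ≫ (snd A A).left
    rw [Category.assoc, h2, pullback.condition, ← Category.assoc]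
    congr 1
    have hu : (toUnit A).left = A.hom := rfl
    have e1 : (snd A A).left ≫ A.hom = (fst A A).left ≫ A.hom := (Over.w (snd A A)).trans (Over.w (fst A A)).symm
    rw [hu, Category.assoc, ← e1, ← Category.assoc, pullback.condition, Category.assoc, Over.w a]
    exact Category.comp_id _

section AlgClosed

variable [IsAlgClosed k]

/-- The universal difference. -/
theorem isAdditive_of_invariant {c : PicF.Cl A.left} (hc : PicF.IsInvertibleCl c)
    (h : ∀ a, F c (tr a) = c) : IsAdditive c := by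
  let m := F c (fst A A * snd A A)
  let r := F c (fst A A) * F c (snd A A)
  have hr : PicF.IsInvertibleCl r :=
    PicMul.isInvertibleCl_mul (PicClLib.isInvertibleCl_pullCl _ hc) (PicClLib.isInvertibleCl_pullCl _ hc)
  obtain ⟨R, hRcl, hR⟩ := hr
  obtain ⟨D, hD, hRD⟩ := PicInv.exists_inverse hR
  have h1 : r * PicF.cl D = 1 := by rw [← hRcl]; exact PicMul.cl_eq_iff.2 hRD
  obtain ⟨M, hMcl, hM⟩ := PicMul.isInvertibleCl_mul
    (show PicF.IsInvertibleCl m from PicClLib.isInvertibleCl_pullCl _ hc) ⟨D, rfl, hD⟩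
  show m = r
  suffices hh : m * PicF.cl D = 1 by
    calc m = m * (PicF.cl D * r) := by rw [mul_comm (PicF.cl D), h1, mul_one]
      _ = r := by rw [← mul_assoc, hh, one_mul]
  rw [← hMcl, cl_eq_one_iff]
  have hslice : ∀ {T : Over (Spec (CommRingCat.of k))} (σ : T ⟶ A ⊗ A),
      F c ((σ ≫ fst A A) * (σ ≫ snd A A)) = F c (σ ≫ fst A A) * F c (σ ≫ snd A A) →
        Triv ((Scheme.Modules.pullback σ.left).obj M) := by
    intro T σ hσ
    rw [← cl_eq_one_iff]
    show PicMul.pullHom σ.left (PicF.cl M) = 1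
    rw [hMcl, map_mul, show PicMul.pullHom σ.left m = PicMul.pullHom σ.left r by
      simp only [m, r, map_mul, pull_F, MonObj.comp_mul]
      exact hσ, ← map_mul, h1, map_one]
  refine triv_of_fibres hM (hslice _ ?_) ?_
  · rw [lift_fst, lift_snd, show (toUnit A ≫ η : A ⟶ A) = 1 from rfl, one_mul, F_one hc, one_mul]
  · intro w
    haveI : JacobsonSpace ↥A.left := LocallyOfFiniteType.jacobsonSpace A.hom
    have hsub : closedPoints A.left ⊆ {w | SeesawGlobal.FieldTriv (snd A A).left M w} := by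
      intro w hw
      haveI : IsClosedImmersion (A.left.fromSpecResidueField w) := by
        rw [← isClosed_singleton_iff_isClosedImmersion]
        exact hw
      obtain ⟨p, hp⟩ : ∃ p : 𝟙_ (Over (Spec (CommRingCat.of k))) ⟶ A, p.left (IsLocalRing.closedPoint k) = w := by
        obtain ⟨p, hp⟩ := ((pointEquivClosedPoint A.hom).surjective ⟨w, hw⟩)
        exact ⟨Over.homMk p.1 p.2, congrArg Subtype.val hp⟩
      subst hp
      refine fieldTriv_of_rational hM p (hslice _ ?_)
      rw [lift_fst, lift_snd, F_const hc p, mul_one, show F c (𝟙 A) = c from PicClLib.pullCl_id c]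
      exact h p
    exact closure_minimal hsub (isClosed_locus hM)
      (by rw [closure_closedPoints]; trivial)

theorem isAdditive_iff {c : PicF.Cl A.left} (hc : PicF.IsInvertibleCl c) :
    (∀ a, F c (tr a) = c) ↔ IsAdditive c :=
  ⟨isAdditive_of_invariant hc, fun h a => by
    show F c (𝟙 A * (toUnit A ≫ a)) = c
    rw [h.apply, F_const hc, mul_one, show F c (𝟙 A) = c from PicClLib.pullCl_id c]⟩

/-- The differences of translations are antisymmetric. -/
theorem symmetric {c : PicF.Cl A.left} (hc : PicF.IsInvertibleCl c) (a : 𝟙_ (Over (Spec (CommRingCat.of k))) ⟶ A) :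
    PicMul.pullHom (tr a).left (F c (𝟙 A)⁻¹) * c = F c (𝟙 A)⁻¹ * F c (tr a) := by
  obtain ⟨D, hD⟩ := (PicMul.isUnit_of_isInvertibleCl hc).exists_right_inv
  let d := F c (tr a) * D
  have hd : PicF.IsInvertibleCl d := by
    obtain ⟨L, rfl, hL⟩ := hc
    obtain ⟨E, hE, hLE⟩ := PicInv.exists_inverse hL
    have hDE : D = PicF.cl E := by
      calc D = D * (PicF.cl L * PicF.cl E) := by
            rw [show PicF.cl L * PicF.cl E = 1 from PicMul.cl_eq_iff.2 hLE, mul_one]
        _ = PicF.cl E := by rw [← mul_assoc, mul_comm D, hD, one_mul]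
    exact PicMul.isInvertibleCl_mul (PicClLib.isInvertibleCl_pullCl _ ⟨L, rfl, hL⟩) (hDE ▸ ⟨E, rfl, hE⟩)
  have hinv : ∀ b, F d (tr b) = d := by
    intro b
    show PicMul.pullHom (tr b).left (F c (tr a) * D) = F c (tr a) * D
    rw [map_mul, pull_F]
    have h1 : tr b ≫ tr a = tr (b * a) := by
      show tr b ≫ (𝟙 A * (toUnit A ≫ a)) = 𝟙 A * (toUnit A ≫ (b * a))
      rw [MonObj.comp_mul, Category.comp_id, ← Category.assoc, toUnit_unique (tr b ≫ toUnit A) (toUnit A),
        MonObj.comp_mul, mul_assoc]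
    rw [h1]
    have h2 := square hc b a
    have h3 : PicMul.pullHom (tr b).left c * PicMul.pullHom (tr b).left D = 1 := by rw [← map_mul, hD, map_one]
    calc F c (tr (b * a)) * PicMul.pullHom (tr b).left D
        = F c (tr (b * a)) * c * (D * PicMul.pullHom (tr b).left D) := by
          rw [mul_assoc (F c (tr (b * a))) c, ← mul_assoc c, hD, one_mul]
      _ = F c (tr b) * F c (tr a) * (D * PicMul.pullHom (tr b).left D) := by rw [h2]
      _ = F c (tr a) * D * (F c (tr b) * PicMul.pullHom (tr b).left D) := by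
          simp only [mul_assoc, mul_comm, mul_left_comm]
      _ = F c (tr a) * D := by rw [show F c (tr b) * PicMul.pullHom (tr b).left D = 1 from h3, mul_one]
  have hadd := isAdditive_of_invariant hd hinv
  have h0 : F d (𝟙 A) * F d (𝟙 A)⁻¹ = 1 := by rw [← hadd.apply, mul_inv_cancel, F_one hd]
  rw [show F d (𝟙 A) = d from PicClLib.pullCl_id d] at h0
  -- move to the inverse translation
  have e1 : tr a ≫ (𝟙 A)⁻¹ = (𝟙 A)⁻¹ ≫ tr a⁻¹ := by
    show tr a ≫ (𝟙 A)⁻¹ = (𝟙 A)⁻¹ ≫ (𝟙 A * (toUnit A ≫ a⁻¹))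
    rw [GrpObj.comp_inv, Category.comp_id, MonObj.comp_mul, Category.comp_id, ← Category.assoc,
      toUnit_unique ((𝟙 A)⁻¹ ≫ toUnit A) (toUnit A), GrpObj.comp_inv]
    show (𝟙 A * (toUnit A ≫ a))⁻¹ = _
    haveI : IsCommMonObj A := isCommMonObj_of_isProper_of_geometricallyIntegral A
    rw [mul_inv_rev, mul_comm]
  have hsq := square hc a a⁻¹
  rw [mul_inv_cancel, show tr (1 : 𝟙_ (Over (Spec (CommRingCat.of k))) ⟶ A) = 𝟙 A by
    show 𝟙 A * (toUnit A ≫ 1) = 𝟙 A
    rw [show toUnit A ≫ (1 : 𝟙_ (Over (Spec (CommRingCat.of k))) ⟶ A) = 1 from MonObj.comp_one _, mul_one],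
    show F c (𝟙 A) = c from PicClLib.pullCl_id c] at hsq
  have hsq' := congrArg (PicMul.pullHom ((𝟙 A)⁻¹).left) hsq
  rw [map_mul, map_mul, pull_F, pull_F, ← e1] at hsq'
  rw [pull_F]
  -- the antisymmetry of the difference
  have hd0 : F d (𝟙 A)⁻¹ = PicMul.pullHom ((𝟙 A)⁻¹).left (F c (tr a)) * PicMul.pullHom ((𝟙 A)⁻¹).left D :=
    map_mul _ _ _
  rw [hd0, pull_F] at h0
  have hD' : F c (𝟙 A)⁻¹ * PicMul.pullHom ((𝟙 A)⁻¹).left D = 1 := by rw [← map_mul, hD, map_one]
  calc F c (tr a ≫ (𝟙 A)⁻¹) * c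
      = F c (tr a ≫ (𝟙 A)⁻¹) * c * (d * (F c ((𝟙 A)⁻¹ ≫ tr a) * PicMul.pullHom ((𝟙 A)⁻¹).left D)) := by
        rw [h0, mul_one]
    _ = (F c ((𝟙 A)⁻¹ ≫ tr a) * F c (tr a ≫ (𝟙 A)⁻¹)) * PicMul.pullHom ((𝟙 A)⁻¹).left D * F c (tr a) * (c * D) := by
        simp only [d, mul_assoc, mul_comm, mul_left_comm]
    _ = F c (𝟙 A)⁻¹ * F c (𝟙 A)⁻¹ * PicMul.pullHom ((𝟙 A)⁻¹).left D * F c (tr a) * (c * D) := by
        rw [← hsq']
    _ = F c (𝟙 A)⁻¹ * F c (tr a) := by rw [hD, mul_one, mul_assoc (F c (𝟙 A)⁻¹), hD', mul_one]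

end AlgClosed

end Groth.Agent.H23.CubeAb
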