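import Groth.Prelude.Def_Magnet3
import Mathlib.AlgebraicGeometry.Morphisms.FormallyUnramified

/-!
Uniqueness of infinitesimal lifts of families of equivariant maps.
-/

universe u

open CategoryTheory CategoryTheory.Limits MonoidalCategory CartesianMonoidalCategory AlgebraicGeometry Opposite

set_option backward.isDefEq.respectTransparency.types false
set_option backward.isDefEq.respectTransparency false

namespace Groth.Agent.H23.EqvUnr

theorem ker_SpecMap_sq {A : CommRingCat.{u}} {B : CommRingCat.{u}} (φ : A ⟶ B) (h : RingHom.ker φ.hom ^ 2 = ⊥) :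
    IsNilpotent (Spec.map φ).ker := by
  refine ⟨2, Scheme.IdealSheafData.ext_of_isAffine ?_⟩
  simp only [Scheme.IdealSheafData.ideal_pow, Scheme.Hom.ker_apply, Scheme.IdealSheafData.zero_eq_bot,
    Scheme.IdealSheafData.ideal_bot, Pi.bot_apply, Pi.pow_apply]
  rw [eq_bot_iff]
  show RingHom.ker ((Spec.map φ).appTop).hom ^ 2 ≤ ⊥
  have hk : RingHom.ker ((Spec.map φ).appTop).hom = Ideal.comap (Scheme.ΓSpecIso A).hom.hom (RingHom.ker φ.hom) := by
    rw [RingHom.comap_ker, ← CommRingCat.hom_comp, ← Scheme.ΓSpecIso_naturality, CommRingCat.hom_comp]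
    exact (RingHom.ker_comp_of_injective _ (ConcreteCategory.bijective_of_isIso (Scheme.ΓSpecIso B).hom).1).symm
  have hb : Function.Bijective (Scheme.ΓSpecIso A).hom.hom := ConcreteCategory.bijective_of_isIso (Scheme.ΓSpecIso A).hom
  intro x hx
  have hx' : (Scheme.ΓSpecIso A).hom.hom x ∈ RingHom.ker φ.hom ^ 2 := by
    have := Ideal.mem_map_of_mem (Scheme.ΓSpecIso A).hom.hom hx
    rw [Ideal.map_pow, hk, Ideal.map_comap_of_surjective _ hb.2] at this
    exact this
  rw [h, Ideal.mem_bot] at hx'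
  exact (Ideal.mem_bot).2 (hb.1 (hx'.trans (map_zero _).symm))

/-- Lifts along the base change of a square-zero thickening of an affine scheme are unique. -/
theorem ext_of_isPullback {R R₀ : CommRingCat.{u}} (φ : R ⟶ R₀) (hφ : Function.Surjective φ)
    (h : RingHom.ker φ.hom ^ 2 = ⊥) {W W₀ X Y : Scheme.{u}} {i : W₀ ⟶ W} {p₀ : W₀ ⟶ Spec R₀} {p : W ⟶ Spec R}
    (sq : IsPullback i p₀ p (Spec.map φ)) (f : X ⟶ Y) [FormallyUnramified f] {a b : W ⟶ X}
    (hi : i ≫ a = i ≫ b) (hf : a ≫ f = b ≫ f) : a = b := by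
  refine W.affineCover.hom_ext _ _ fun j => ?_
  obtain ⟨ψ, hψ⟩ := Spec.map_surjective (W.affineCover.f j ≫ p : Spec _ ⟶ Spec R)
  let J := Ideal.map ψ.hom (RingHom.ker φ.hom)
  let π := CommRingCat.ofHom (Ideal.Quotient.mk J)
  have hπ : RingHom.ker π.hom = J := Ideal.mk_ker
  have hπ2 : RingHom.ker π.hom ^ 2 = ⊥ := by rw [hπ, ← Ideal.map_pow, h, Ideal.map_bot]
  let χ : R₀ ⟶ CommRingCat.of _ := CommRingCat.ofHom (RingHom.liftOfSurjective φ.hom hφ
    ⟨(Ideal.Quotient.mk J).comp ψ.hom, fun x hx =>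
      Ideal.Quotient.eq_zero_iff_mem.2 (Ideal.mem_map_of_mem _ hx)⟩)
  have hχ : φ ≫ χ = ψ ≫ π := CommRingCat.hom_ext (RingHom.ext fun x => by
    simp only [χ, π, CommRingCat.hom_comp, CommRingCat.hom_ofHom, RingHom.comp_apply]
    exact RingHom.liftOfRightInverse_comp_apply φ.hom _ _ ⟨(Ideal.Quotient.mk J).comp ψ.hom, _⟩ x)
  haveI : IsClosedImmersion (Spec.map π) := IsClosedImmersion.spec_of_surjective _ Ideal.Quotient.mk_surjective
  refine FormallyUnramified.hom_ext (Spec.map π) (ker_SpecMap_sq π hπ2) f ?_ (by rw [Category.assoc, hf, Category.assoc])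
  let t := sq.lift (Spec.map π ≫ W.affineCover.f j) (Spec.map χ) (by
    rw [Category.assoc, ← hψ, ← Spec.map_comp, ← Spec.map_comp, hχ])
  have ht : t ≫ i = Spec.map π ≫ W.affineCover.f j := sq.lift_fst _ _ _
  rw [← Category.assoc, ← Category.assoc, ← ht, Category.assoc, Category.assoc, hi]

variable {S : Scheme.{u}} {B X Y : Over S}

theorem isPullback_whiskerLeft (B : Over S) {T₀ T : Over S} (t : T₀ ⟶ T) :
    IsPullback (B ◁ t).left (snd B T₀).left (snd B T).left t.left := by
  refine IsPullback.of_right (h₁₂ := (fst B T).left) (h₂₂ := T.hom) (v₁₃ := B.hom) ?_ ?_ ?_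
  · rw [← Over.comp_left, whiskerLeft_fst, Over.w t]
    exact IsPullback.of_hasPullback B.hom T₀.hom
  · rw [← Over.comp_left, ← Over.comp_left, whiskerLeft_snd]
  · exact IsPullback.of_hasPullback B.hom T.hom

/-- Families over a square-zero thickening are determined by their restriction and their image under a formally
unramified morphism. -/
theorem ext_whiskerLeft {R R₀ : CommRingCat.{u}} (φ : R ⟶ R₀) (hφ : Function.Surjective φ)
    (h : RingHom.ker φ.hom ^ 2 = ⊥) (str : Spec R ⟶ S) (f : X ⟶ Y) [FormallyUnramified f.left]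
    {a b : B ⊗ Over.mk str ⟶ X}
    (hi : (B ◁ (Over.homMk (Spec.map φ) rfl : Over.mk (Spec.map φ ≫ str) ⟶ Over.mk str)) ≫ a =
      (B ◁ (Over.homMk (Spec.map φ) rfl : Over.mk (Spec.map φ ≫ str) ⟶ Over.mk str)) ≫ b)
    (hf : a ≫ f = b ≫ f) : a = b :=
  Over.OverMorphism.ext (ext_of_isPullback φ hφ h
    (isPullback_whiskerLeft B (Over.homMk (Spec.map φ) rfl : Over.mk (Spec.map φ ≫ str) ⟶ Over.mk str)) f.left
    (by rw [← Over.comp_left, ← Over.comp_left, hi]) (by rw [← Over.comp_left, ← Over.comp_left, hf]))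

end Groth.Agent.H23.EqvUnr
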