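import Groth.Agent.H23.FinCondSch
import Groth.Agent.FDescent.QuasiFlat
import Mathlib.AlgebraicGeometry.Morphisms.Immersion
import Mathlib.AlgebraicGeometry.Morphisms.QuasiCompact
import Mathlib.AlgebraicGeometry.Morphisms.FiniteType
import Mathlib.AlgebraicGeometry.AlgClosed.Basic
import Mathlib.AlgebraicGeometry.PullbackCarrier
import Mathlib.AlgebraicGeometry.ResidueField
import Mathlib.FieldTheory.IsAlgClosed.AlgebraicClosure
import Mathlib.Topology.Sober

/-!
# Quasi-compactness from Noetherian spaces, dominance, surjectivity on geometric points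
-/

open AlgebraicGeometry CategoryTheory CategoryTheory.Limits TopologicalSpace Topology

universe u

namespace Groth.Agent.H23.QCCrit

variable {X Y Z : Scheme.{u}}

theorem noetherianSpace_of_isCompact {S : Set X} (hS : IsCompact S)
    (hX : ∀ x : X, ∃ U : X.Opens, x ∈ U ∧ NoetherianSpace U) : NoetherianSpace S := by
  choose U hxU hU using hX
  obtain ⟨t, ht⟩ := hS.elim_finite_subcover (fun x => (U x : Set X)) (fun x => (U x).2)
    fun x _ => Set.mem_iUnion.2 ⟨x, hxU x⟩
  haveI : ∀ x : t, NoetherianSpace ((U x.1 : Set X)) := fun x => hU x.1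
  haveI : NoetherianSpace (⋃ x : t, (U x.1 : Set X) : Set X) := NoetherianSpace.iUnion _
  exact NoetherianSpace.of_subset (W := ⋃ x : t, (U x.1 : Set X))
    (fun y hy => by simpa using ht hy)

theorem quasiCompact_of_comp (f : X ⟶ Y) (g : Y ⟶ Z) [QuasiCompact (f ≫ g)]
    (hX : ∀ x : X, ∃ U : X.Opens, x ∈ U ∧ NoetherianSpace U) : QuasiCompact f := by
  rw [quasiCompact_iff_forall_isAffineOpen]
  intro V hV
  have hgV : IsCompact (g '' (V : Set Y)) := hV.isCompact.image g.continuous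
  obtain ⟨t, ht⟩ := hgV.elim_finite_subcover (fun W : Z.affineOpens => (W.1 : Set Z))
    (fun W => W.1.2) (fun z _ => by
      obtain ⟨W, hW, hz, -⟩ := exists_isAffineOpen_mem_and_subset (x := z) (U := ⊤) trivial
      exact Set.mem_iUnion.2 ⟨⟨W, hW⟩, hz⟩)
  let S : Set X := ⋃ W : t, (f ≫ g) ⁻¹' (W.1.1 : Set Z)
  have hS : IsCompact S := isCompact_iUnion fun W =>
    (f ≫ g).isCompact_preimage (U := W.1.1) W.1.2.isCompact
  haveI := noetherianSpace_of_isCompact hS hX
  have hsub : ((f ⁻¹ᵁ V : X.Opens) : Set X) ⊆ S := fun x hx => by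
    obtain ⟨W, hW, hxW⟩ := Set.mem_iUnion₂.1 (ht ⟨f x, hx, rfl⟩)
    exact Set.mem_iUnion.2 ⟨⟨W, hW⟩, hxW⟩
  have := (NoetherianSpace.isCompact ((Subtype.val ⁻¹' (f ⁻¹ᵁ V : Set X)) : Set S)).image
    continuous_subtype_val
  rwa [Subtype.image_preimage_coe, Set.inter_eq_right.2 hsub] at this

theorem quasiCompact_of_isImmersion (f : X ⟶ Y) [IsImmersion f]
    (hY : ∀ y : Y, ∃ U : Y.Opens, y ∈ U ∧ NoetherianSpace U) : QuasiCompact f := by
  rw [quasiCompact_iff_forall_isAffineOpen]
  intro V hV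
  haveI := noetherianSpace_of_isCompact hV.isCompact hY
  rw [f.isEmbedding.isCompact_iff]
  have hsub : f '' (f ⁻¹ᵁ V : Set X) ⊆ (V : Set Y) := by
    rintro _ ⟨x, hx, rfl⟩
    exact hx
  have := (NoetherianSpace.isCompact ((Subtype.val ⁻¹' (f '' (f ⁻¹ᵁ V : Set X))) :
    Set (V : Set Y))).image continuous_subtype_val
  rwa [Subtype.image_preimage_coe, Set.inter_eq_right.2 hsub] at this

theorem finiteType_of_over_noetherian {S : Scheme.{u}} [IsLocallyNoetherian S] (p : X ⟶ S)
    (q : Y ⟶ S) [LocallyOfFiniteType p] [QuasiCompact p] (f : X ⟶ Y) (hf : f ≫ q = p) :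
    LocallyOfFiniteType f ∧ QuasiCompact f := by
  haveI : LocallyOfFiniteType (f ≫ q) := hf ▸ ‹_›
  haveI : QuasiCompact (f ≫ q) := hf ▸ ‹_›
  haveI : IsLocallyNoetherian X := LocallyOfFiniteType.isLocallyNoetherian p
  refine ⟨locallyOfFiniteType_of_comp f q, quasiCompact_of_comp f q fun x => ?_⟩
  obtain ⟨U, hU, hx, -⟩ := exists_isAffineOpen_mem_and_subset (x := x) (U := ⊤) trivial
  haveI := IsLocallyNoetherian.component_noetherian ⟨U, hU⟩
  exact ⟨U, hx, noetherianSpace_of_isAffineOpen U hU⟩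

theorem isDominant_iff (f : X ⟶ Y) [QuasiCompact f] :
    IsDominant f ↔ ∀ y : Y, closure {y} ∈ irreducibleComponents (Y : Type u) →
      ∃ x : X, closure {x} ∈ irreducibleComponents (X : Type u) ∧ f x = y := by
  constructor
  · intro h y hy
    obtain ⟨x', hx'⟩ := FDescent.exists_specializes_of_mem_closure_range f
      ((IsDominant.denseRange (f := f)) y)
    have hC := irreducibleComponent_mem_irreducibleComponents x'
    obtain ⟨ξ, hξ, -⟩ := FinCondSch.eq_closure_of_mem_irreducibleComponents hC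
    refine ⟨ξ, hξ ▸ hC, ?_⟩
    have h1 : ξ ⤳ x' := specializes_iff_mem_closure.2 (hξ ▸ mem_irreducibleComponent)
    have h2 : f ξ ⤳ y := (h1.map f.continuous).trans hx'
    have h3 : y ⤳ f ξ := specializes_iff_closure_subset.2
      (hy.2 isIrreducible_singleton.closure (specializes_iff_closure_subset.1 h2))
    exact (h2.antisymm h3).eq
  · intro h
    refine ⟨fun y => ?_⟩
    have hC := irreducibleComponent_mem_irreducibleComponents y
    obtain ⟨η, hη, -⟩ := FinCondSch.eq_closure_of_mem_irreducibleComponents hC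
    obtain ⟨x, -, hx⟩ := h η (hη ▸ hC)
    have : y ∈ closure ({η} : Set Y) := hη ▸ mem_irreducibleComponent
    have hsub : ({η} : Set Y) ⊆ Set.range f := Set.singleton_subset_iff.2 ⟨x, hx⟩
    exact closure_mono hsub this

theorem exists_geomPoint_lift (f : X ⟶ Y) [LocallyOfFiniteType f] [Surjective f] (Ω : Type u)
    [Field Ω] [IsAlgClosed Ω] (y : Spec (CommRingCat.of Ω) ⟶ Y) :
    ∃ x : Spec (CommRingCat.of Ω) ⟶ X, x ≫ f = y := by
  let pr := pullback.snd f y
  haveI : Surjective pr := inferInstance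
  haveI : JacobsonSpace ↥(pullback f y) := LocallyOfFiniteType.jacobsonSpace pr
  obtain ⟨z, -, hz⟩ := nonempty_inter_closedPoints (Z := (Set.univ : Set ↥(pullback f y)))
    ⟨(pr.surjective (IsLocalRing.closedPoint Ω)).choose, trivial⟩ isClosed_univ.isLocallyClosed
  refine ⟨pointOfClosedPoint pr z hz ≫ pullback.fst f y, ?_⟩
  rw [Category.assoc, pullback.condition, pointOfClosedPoint_comp_assoc]

theorem surjective_iff_geomPoints (f : X ⟶ Y) [LocallyOfFiniteType f] :
    Surjective f ↔ ∀ (Ω : Type u) [Field Ω] [IsAlgClosed Ω] (y : Spec (CommRingCat.of Ω) ⟶ Y),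
      ∃ x : Spec (CommRingCat.of Ω) ⟶ X, x ≫ f = y := by
  refine ⟨fun _ Ω _ _ y => exists_geomPoint_lift f Ω y, fun h => ⟨fun y => ?_⟩⟩
  let Ω := AlgebraicClosure (Y.residueField y)
  obtain ⟨x, hx⟩ := h Ω (Spec.map (CommRingCat.ofHom (algebraMap (Y.residueField y) Ω)) ≫
    Y.fromSpecResidueField y)
  refine ⟨x (IsLocalRing.closedPoint Ω), ?_⟩
  rw [← Scheme.Hom.comp_apply, hx, Scheme.Hom.comp_apply, Scheme.fromSpecResidueField_apply]

end Groth.Agent.H23.QCCrit
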