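import Groth.Agent.H23.MaxAbelian
import Groth.Agent.GrpSchLib.HomFlat
import Groth.Agent.VarDim.Fibre
import Groth.Agent.H23.RigidGamma
import Mathlib.RingTheory.Ideal.KrullsHeightTheorem
import Mathlib.AlgebraicGeometry.ZariskisMainTheorem

/-!
Homomorphisms between abelian varieties of equal dimension.
-/

universe u

open CategoryTheory Limits AlgebraicGeometry TopologicalSpace MonoidalCategory CartesianMonoidalCategory
open MonObj GrpObj Groth.Agent

namespace Groth.Agent.H23.Isogeny

variable {k : Type u} [Field k]

/-- Flat local rings only get bigger. -/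
theorem ringKrullDim_le_of_flat {R S : Type u} [CommRing R] [CommRing S] [IsLocalRing R] [IsLocalRing S]
    [IsNoetherianRing R] [IsNoetherianRing S] (φ : R →+* S) [IsLocalHom φ] (hφ : φ.Flat) : ringKrullDim R ≤ ringKrullDim S := by
  letI := φ.toAlgebra
  have : Module.Flat R S := hφ
  have : (IsLocalRing.maximalIdeal S).LiesOver (IsLocalRing.maximalIdeal R) :=
    ⟨(IsLocalRing.maximalIdeal_comap φ).symm⟩
  rw [← IsLocalRing.maximalIdeal_height_eq_ringKrullDim, ← IsLocalRing.maximalIdeal_height_eq_ringKrullDim,
    Ideal.height_eq_height_add_of_liesOver_of_hasGoingDown (IsLocalRing.maximalIdeal R) (IsLocalRing.maximalIdeal S)]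
  exact WithBot.coe_le_coe.2 le_self_add

/-- Zero relative degree everywhere is quasi-finiteness. -/
theorem isFinite_of_fdeg_eq_zero {X Y : Scheme.{u}} (f : X ⟶ Y) [IsProper f]
    (h : ∀ x, VarDim.fdeg f x = 0) : IsFinite f := by
  have : LocallyQuasiFinite f := by
    refine .of_finite_preimage_singleton f fun y => ?_
    have : IsLocallyNoetherian (f.fiber y) :=
      LocallyOfFiniteType.isLocallyNoetherian (f.fiberToSpecResidueField y)
    have : CompactSpace (f.fiber y) := QuasiCompact.compactSpace_of_compactSpace (f.fiberToSpecResidueField y)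
    have : IsNoetherian (f.fiber y) := { }
    have hcl : ∀ z : f.fiber y, IsClosed ({z} : Set (f.fiber y)) := fun z =>
      (VarDim.closedPoint_iff_deg_eq_zero (k := Y.residueField y) (f.fiberToSpecResidueField y) z).2
        (by rw [VarDim.deg_fiber]; exact h _)
    have hfin : Finite (f.fiber y) := by
      have hc := (NoetherianSpace.finite_irreducibleComponents (α := f.fiber y))
      have : (Set.univ : Set (f.fiber y)).Finite := by
        refine (hc.biUnion (t := fun C => C) fun C hC => ?_).subset fun z _ =>
          Set.mem_biUnion (irreducibleComponent_mem_irreducibleComponents z) mem_irreducibleComponent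
        have hg := hC.1.isGenericPoint_genericPoint (isClosed_of_mem_irreducibleComponents C hC)
        rw [← hg.def, (hcl _).closure_eq]
        exact Set.finite_singleton _
      exact Set.finite_univ_iff.1 this
    rw [← f.range_fiberι y]
    exact Set.finite_range _
  exact IsFinite.of_isProper_of_locallyQuasiFinite f

/-- A finite morphism has zero relative degree. -/
theorem fdeg_eq_zero_of_finite {X Y : Scheme.{u}} (f : X ⟶ Y) [IsFinite f] (x : X) : VarDim.fdeg f x = 0 := by
  have h := (VarDim.closedPoint_iff_deg_eq_zero (k := Y.residueField (f x))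
    (f.fiberToSpecResidueField (f x)) (f.asFiber x)).1 (isClosed_discrete _)
  rwa [VarDim.deg_fiber, Scheme.Hom.fiberι_asFiber] at h

variable {X Y : Scheme.{u}} [IsIntegral X] [IsIntegral Y] (p : X ⟶ Spec (CommRingCat.of k))
  (q : Y ⟶ Spec (CommRingCat.of k)) [IsProper p] [IsProper q] (f : X ⟶ Y)

theorem isFinite_of_flat (hf : f ≫ q = p) [Flat f]
    (hdim : topologicalKrullDim X = topologicalKrullDim Y) : IsFinite f := by
  have : IsProper (f ≫ q) := hf ▸ ‹IsProper p›
  have : IsProper f := IsProper.of_comp f q
  have : IsLocallyNoetherian X := LocallyOfFiniteType.isLocallyNoetherian p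
  have : IsLocallyNoetherian Y := LocallyOfFiniteType.isLocallyNoetherian q
  refine isFinite_of_fdeg_eq_zero f fun x => ?_
  obtain ⟨b, hb, -, -⟩ := VarDim.exists_deg_add_stalk p x
  obtain ⟨b', hb', -, hle'⟩ := VarDim.exists_deg_add_stalk q (f x)
  obtain ⟨c, hc, ⟨ξ, hξ, hξd⟩, -⟩ := VarDim.exists_deg_add_stalk p x
  have hbb : b' ≤ b := by
    have := ringKrullDim_le_of_flat (f.stalkMap x).hom (Flat.stalkMap f x)
    rw [hb, hb'] at this
    exact_mod_cast this
  have hcb : c = b := by exact_mod_cast hc.symm.trans hb
  rw [VarDim.topologicalKrullDim_eq_deg_genericPoint p, VarDim.topologicalKrullDim_eq_deg_genericPoint q] at hdim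
  have hd : VarDim.deg p (genericPoint X) = VarDim.deg q (genericPoint Y) := by exact_mod_cast hdim
  have h1 : VarDim.deg p ξ ≤ VarDim.deg p (genericPoint X) :=
    VarDim.deg_le_of_specializes p (genericPoint_specializes ξ)
  have h2 := hle' _ (genericPoint_specializes (f x))
  have h3 := VarDim.deg_eq_add f q hf x
  omega

theorem surjective_of_isFinite (hf : f ≫ q = p) [IsFinite f]
    (hdim : topologicalKrullDim X = topologicalKrullDim Y) : Surjective f := by
  rw [VarDim.topologicalKrullDim_eq_deg_genericPoint p, VarDim.topologicalKrullDim_eq_deg_genericPoint q] at hdim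
  have hd : VarDim.deg p (genericPoint X) = VarDim.deg q (genericPoint Y) := by exact_mod_cast hdim
  have h3 := VarDim.deg_eq_add f q hf (genericPoint X)
  rw [fdeg_eq_zero_of_finite f, add_zero, hd] at h3
  have hgen : f (genericPoint X) = genericPoint Y :=
    VarDim.eq_of_specializes_of_deg_le q (genericPoint_specializes _) (by rw [h3]) |>.symm
  refine ⟨fun y => ?_⟩
  exact (f.isClosedMap.isClosed_range.closure_subset_iff.2 (Set.singleton_subset_iff.2 ⟨_, hgen⟩))
    (specializes_iff_mem_closure.1 (genericPoint_specializes y))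

end Groth.Agent.H23.Isogeny
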