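import Groth.Agent.GrpSchLib.Tangent
import Mathlib.AlgebraicGeometry.Morphisms.FormallyUnramified
import Mathlib.AlgebraicGeometry.AlgClosed.Basic
import Mathlib.Algebra.TrivSqZeroExt.Basic
import Mathlib.RingTheory.Kaehler.Basic
import Mathlib.RingTheory.Jacobson.Ring

/-!
The differential of multiplication by `n` at the unit of a group scheme over a field is `n`.
-/

universe u

open CategoryTheory Limits AlgebraicGeometry MonoidalCategory CartesianMonoidalCategory MonObj TrivSqZeroExt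
open Groth.Agent.GrpSchLib

namespace Groth.Agent.H23.MulTangent

variable {K : Type u} [Field K]

section Points

variable (M : Type u) [AddCommGroup M] [Module K M] [Module Kᵐᵒᵖ M] [IsCentralScalar K M]

theorem subsingleton_spec : Subsingleton (PrimeSpectrum (TrivSqZeroExt K M)) := by
  have key : ∀ P : PrimeSpectrum (TrivSqZeroExt K M), ∀ x, x ∈ P.asIdeal ↔ x.fst = 0 := by
    intro P x
    have hm : ∀ m : M, TrivSqZeroExt.inr m ∈ P.asIdeal := fun m =>
      P.isPrime.mem_of_pow_mem 2 (by simp [pow_two])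
    refine ⟨fun hx => ?_, fun hx => ?_⟩
    · by_contra h
      have h2 : TrivSqZeroExt.inl x.fst ∈ P.asIdeal := by
        have := P.asIdeal.sub_mem hx (hm x.snd)
        nth_rw 1 [← TrivSqZeroExt.inl_fst_add_inr_snd_eq x] at this
        simpa using this
      exact P.isPrime.ne_top (P.asIdeal.eq_top_of_isUnit_mem h2
        ((isUnit_iff_ne_zero.2 h).map (TrivSqZeroExt.inlAlgHom K K M)))
    · rw [← TrivSqZeroExt.inl_fst_add_inr_snd_eq x, hx]
      simpa using hm x.snd
  exact ⟨fun P Q => PrimeSpectrum.ext (Ideal.ext fun x => (key P x).trans (key Q x).symm)⟩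

end Points

section Group

variable {X : Over (Spec (CommRingCat.of K))} [GrpObj X] {B : Type u} [CommRing B] [Algebra K B]
  (j : Spec (CommRingCat.of B) ⟶ X.left) [IsOpenImmersion j]
  (hj : j ≫ X.hom = Spec.map (CommRingCat.ofHom (algebraMap K B)))

/-- The point given by a map from a chart. -/
noncomputable def pt {C : Type u} [CommRing C] [Algebra K C] (g : B →ₐ[K] C) : specOver K C ⟶ X :=
  specHom g ≫ Over.homMk j hj

theorem pt_comp {C C' : Type u} [CommRing C] [Algebra K C] [CommRing C'] [Algebra K C']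
    (g : B →ₐ[K] C) (φ : C →ₐ[K] C') : specHom φ ≫ pt j hj g = pt j hj (φ.comp g) := by
  rw [pt, ← Category.assoc, specHom_comp]
  rfl

theorem pt_injective {C : Type u} [CommRing C] [Algebra K C] :
    Function.Injective (pt (X := X) j hj (C := C)) := by
  intro g g' h
  have h' : Spec.map (CommRingCat.ofHom g.toRingHom) ≫ j = Spec.map (CommRingCat.ofHom g'.toRingHom) ≫ j :=
    congrArg CommaMorphism.left h
  rw [cancel_mono] at h'
  ext b
  exact congrArg (fun q => q.hom b) (Spec.map_injective h')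

theorem exists_pt_of_range {C : Type u} [CommRing C] [Algebra K C] (P : specOver K C ⟶ X)
    (h : Set.range P.left ⊆ Set.range j) : ∃ g : B →ₐ[K] C, pt j hj g = P := by
  obtain ⟨f, hf⟩ : ∃ f : Spec (CommRingCat.of C) ⟶ Spec (CommRingCat.of B), f ≫ j = P.left :=
    ⟨IsOpenImmersion.lift j P.left h, IsOpenImmersion.lift_fac _ _ _⟩
  obtain ⟨φ, rfl⟩ := Spec.map_surjective f
  have hφ : ∀ c : K, φ.hom (algebraMap K B c) = algebraMap K C c := by
    have h1 : Spec.map φ ≫ Spec.map (CommRingCat.ofHom (algebraMap K B)) =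
        Spec.map (CommRingCat.ofHom (algebraMap K C)) := by
      rw [← hj, ← Category.assoc, hf]
      exact Over.w P
    rw [← Spec.map_comp] at h1
    exact fun c => congrArg (fun q => q.hom c) (Spec.map_injective h1)
  exact ⟨{ φ.hom with commutes' := hφ }, Over.OverMorphism.ext hf⟩

variable (M : Type u) [AddCommGroup M] [Module K M] [Module Kᵐᵒᵖ M] [IsCentralScalar K M]

theorem exists_pt {χ : B →ₐ[K] K} (P : specOver K (TrivSqZeroExt K M) ⟶ X)
    (hP : specHom (TrivSqZeroExt.fstHom K K M) ≫ P = pt j hj χ) :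
    ∃ g : B →ₐ[K] TrivSqZeroExt K M, (TrivSqZeroExt.fstHom K K M).comp g = χ ∧ pt j hj g = P := by
  have := subsingleton_spec (K := K) M
  have hr : Set.range P.left ⊆ Set.range j := by
    rintro _ ⟨q, rfl⟩
    let p₀ : Spec (CommRingCat.of K) := IsLocalRing.closedPoint K
    have e : (specHom (TrivSqZeroExt.fstHom K K M)).left p₀ = q := Subsingleton.elim (α := PrimeSpectrum _) _ _
    rw [← e, ← Scheme.Hom.comp_apply]
    exact ⟨_, (congrArg (fun f : specOver K K ⟶ X => f.left p₀) hP).symm⟩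
  obtain ⟨g, rfl⟩ := exists_pt_of_range j hj P hr
  exact ⟨g, pt_injective j hj ((pt_comp j hj g _).symm.trans hP), rfl⟩

variable {χ : B →ₐ[K] K} (hone : pt j hj χ = 1)

include hone in
/-- The product of two tangent vectors at the unit is their sum. -/
theorem snd_mul {g₁ g₂ g₃ : B →ₐ[K] TrivSqZeroExt K M}
    (h₁ : (TrivSqZeroExt.fstHom K K M).comp g₁ = χ) (h₂ : (TrivSqZeroExt.fstHom K K M).comp g₂ = χ)
    (h₃ : pt j hj g₁ * pt j hj g₂ = pt j hj g₃) (b : B) :
    (g₃ b).snd = (g₁ b).snd + (g₂ b).snd := by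
  let i₁ : TrivSqZeroExt K M →ₐ[K] TrivSqZeroExt K (M × M) := TrivSqZeroExt.map (LinearMap.inl K M M)
  let i₂ : TrivSqZeroExt K M →ₐ[K] TrivSqZeroExt K (M × M) := TrivSqZeroExt.map (LinearMap.inr K M M)
  let p₁ : TrivSqZeroExt K (M × M) →ₐ[K] TrivSqZeroExt K M := TrivSqZeroExt.map (LinearMap.fst K M M)
  let p₂ : TrivSqZeroExt K (M × M) →ₐ[K] TrivSqZeroExt K M := TrivSqZeroExt.map (LinearMap.snd K M M)
  let s : TrivSqZeroExt K (M × M) →ₐ[K] TrivSqZeroExt K M :=
    TrivSqZeroExt.map (LinearMap.fst K M M + LinearMap.snd K M M)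
  let P := pt j hj (i₁.comp g₁) * pt j hj (i₂.comp g₂)
  let cst : B →ₐ[K] TrivSqZeroExt K M := (TrivSqZeroExt.inlAlgHom K K M).comp χ
  have hcst : pt j hj cst = 1 := by
    rw [← pt_comp, hone, MonObj.comp_one]
  have hf₁ : ∀ b, (g₁ b).fst = χ b := fun b => AlgHom.congr_fun h₁ b
  have hf₂ : ∀ b, (g₂ b).fst = χ b := fun b => AlgHom.congr_fun h₂ b
  have a₁ : p₁.comp (i₁.comp g₁) = g₁ := by ext b <;> simp [p₁, i₁]
  have a₂ : p₁.comp (i₂.comp g₂) = cst := by ext b <;> simp [p₁, i₂, cst, hf₂]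
  have b₁ : p₂.comp (i₁.comp g₁) = cst := by ext b <;> simp [p₂, i₁, cst, hf₁]
  have b₂ : p₂.comp (i₂.comp g₂) = g₂ := by ext b <;> simp [p₂, i₂]
  have c₁ : s.comp (i₁.comp g₁) = g₁ := by ext b <;> simp [s, i₁]
  have c₂ : s.comp (i₂.comp g₂) = g₂ := by ext b <;> simp [s, i₂]
  have hP : specHom (TrivSqZeroExt.fstHom K K (M × M)) ≫ P = pt j hj χ := by
    have e₁ : (TrivSqZeroExt.fstHom K K (M × M)).comp (i₁.comp g₁) = χ := by
      ext b; simp [i₁, hf₁]
    have e₂ : (TrivSqZeroExt.fstHom K K (M × M)).comp (i₂.comp g₂) = χ := by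
      ext b; simp [i₂, hf₂]
    rw [MonObj.comp_mul, pt_comp, pt_comp, e₁, e₂, hone, _root_.mul_one]
  obtain ⟨g, -, hg⟩ := exists_pt j hj (M × M) P hP
  have q₁ : p₁.comp g = g₁ := pt_injective j hj (by
    rw [← pt_comp, hg, MonObj.comp_mul, pt_comp, pt_comp, a₁, a₂, hcst, _root_.mul_one])
  have q₂ : p₂.comp g = g₂ := pt_injective j hj (by
    rw [← pt_comp, hg, MonObj.comp_mul, pt_comp, pt_comp, b₁, b₂, hcst, _root_.one_mul])
  have q₃ : s.comp g = g₃ := pt_injective j hj (by
    rw [← pt_comp, hg, MonObj.comp_mul, pt_comp, pt_comp, c₁, c₂, h₃])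
  rw [← AlgHom.congr_fun q₃ b, ← AlgHom.congr_fun q₁ b, ← AlgHom.congr_fun q₂ b]
  simp [s, p₁, p₂]

include hone in
/-- Tangent vectors at the unit have no torsion prime to the characteristic. -/
theorem eq_one_of_pow {n : ℕ} (hn : (n : K) ≠ 0) (t : specOver K (TrivSqZeroExt K M) ⟶ X)
    (ht : specHom (TrivSqZeroExt.fstHom K K M) ≫ t = 1) (hpow : t ^ n = 1) : t = 1 := by
  obtain ⟨g, hg, rfl⟩ := exists_pt j hj M t (ht.trans hone.symm)
  let cst : B →ₐ[K] TrivSqZeroExt K M := (TrivSqZeroExt.inlAlgHom K K M).comp χ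
  have hcst : pt j hj cst = 1 := by rw [← pt_comp, hone, MonObj.comp_one]
  have key : ∀ m : ℕ, ∃ gm : B →ₐ[K] TrivSqZeroExt K M, pt j hj gm = pt j hj g ^ m ∧
      (TrivSqZeroExt.fstHom K K M).comp gm = χ ∧ ∀ b, (gm b).snd = (m : K) • (g b).snd := by
    intro m
    induction m with
    | zero =>
      exact ⟨cst, by rw [hcst, _root_.pow_zero], by ext b; simp [cst], fun b => by simp [cst]⟩
    | succ m ih =>
      obtain ⟨gm, h1, h2, h3⟩ := ih
      obtain ⟨g', hg', h⟩ := exists_pt j hj M (pt j hj gm * pt j hj g) (by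
        rw [MonObj.comp_mul, pt_comp, pt_comp, h2, hg, hone, _root_.mul_one])
      exact ⟨g', by rw [h, h1, _root_.pow_succ], hg', fun b => by
        rw [snd_mul j hj M hone h2 hg h.symm, h3, Nat.cast_succ, add_smul, one_smul]⟩
  obtain ⟨gn, h1, h2, h3⟩ := key n
  have hgn : gn = cst := pt_injective j hj (by rw [h1, hpow, hcst])
  have : g = cst := by
    refine AlgHom.ext fun b => TrivSqZeroExt.ext ?_ ?_
    · simpa [cst] using AlgHom.congr_fun hg b
    · have := h3 b
      rw [hgn] at this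
      have h0 : (cst b).snd = 0 := by simp [cst]
      rw [h0] at this
      rw [h0]
      exact (smul_eq_zero.1 this.symm).resolve_left hn
  rw [this, hcst]

end Group

/-- A derivation as a map to the dual numbers. -/
theorem exists_algHom_of_derivation {B : Type u} [CommRing B] [Algebra K B] (χ : B →ₐ[K] K)
    (D : B →ₗ[K] K) (hD : ∀ a b, D (a * b) = χ a * D b + χ b * D a) :
    ∃ g : B →ₐ[K] TrivSqZeroExt K K, ∀ b, g b = TrivSqZeroExt.inl (χ b) + TrivSqZeroExt.inr (D b) := by
  have h1 : D 1 = 0 := by simpa using hD 1 1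
  refine ⟨AlgHom.ofLinearMap
    ((TrivSqZeroExt.inlAlgHom K K K).toLinearMap ∘ₗ χ.toLinearMap + (TrivSqZeroExt.inrHom K K) ∘ₗ D)
    (by simp [h1]) (fun a b => by
      ext
      · simp
      · simp [hD]; ring), fun b => rfl⟩

/-- A unit of a group over an algebraically closed field lies in an affine chart with a rational point. -/
theorem exists_chart {X : Over (Spec (CommRingCat.of K))} [GrpObj X] (p : 𝟙_ (Over (Spec (CommRingCat.of K))) ⟶ X) :
    ∃ (B : Type u) (_ : CommRing B) (_ : Algebra K B) (j : Spec (CommRingCat.of B) ⟶ X.left)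
      (_ : IsOpenImmersion j) (hj : j ≫ X.hom = Spec.map (CommRingCat.ofHom (algebraMap K B)))
      (χ : B →ₐ[K] K), pt j hj χ = toUnit (specOver K K) ≫ p := by
  obtain ⟨W, hW, hp, -⟩ := exists_isAffineOpen_mem_and_subset
    (x := p.left (IsLocalRing.closedPoint K)) (U := ⊤) trivial
  obtain ⟨φ, hφ⟩ := Spec.map_surjective (hW.fromSpec ≫ X.hom)
  let : Algebra K Γ(X.left, W) := φ.hom.toAlgebra
  refine ⟨Γ(X.left, W), inferInstance, inferInstance, hW.fromSpec, inferInstance, hφ.symm, ?_⟩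
  have hr : Set.range (toUnit (specOver K K) ≫ p).left ⊆ Set.range hW.fromSpec := by
    rintro _ ⟨q, rfl⟩
    rw [hW.range_fromSpec]
    have hp' : (toUnit (specOver K K)).left q = IsLocalRing.closedPoint K :=
      Subsingleton.elim (α := PrimeSpectrum K) _ _
    show p.left ((toUnit (specOver K K)).left q) ∈ W
    rw [hp']
    exact hp
  obtain ⟨χ, hχ⟩ := exists_pt_of_range hW.fromSpec hφ.symm _ hr
  exact ⟨χ, hχ⟩

/-- Multiplication by an integer prime to the characteristic is unramified on a commutative group. -/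
theorem formallyUnramified_pow [IsAlgClosed K] (X : Over (Spec (CommRingCat.of K))) [GrpObj X]
    [IsCommMonObj X] [LocallyOfFiniteType X.hom] (n : ℕ) (hn : (n : K) ≠ 0) :
    FormallyUnramified (𝟙 X ^ n : X ⟶ X).left := by
  set f := (𝟙 X ^ n : X ⟶ X).left
  have hw : f ≫ X.hom = X.hom := Over.w (𝟙 X ^ n : X ⟶ X)
  rw [HasRingHomProperty.iff_appLE (P := @FormallyUnramified)]
  intro V' V e
  obtain ⟨φA, hφA⟩ := Spec.map_surjective (V'.2.fromSpec ≫ X.hom)
  obtain ⟨φB, hφB⟩ := Spec.map_surjective (V.2.fromSpec ≫ X.hom)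
  let A := Γ(X.left, V'.1)
  let B := Γ(X.left, V.1)
  let : Algebra K A := φA.hom.toAlgebra
  let : Algebra K B := φB.hom.toAlgebra
  let : Algebra A B := (f.appLE V'.1 V.1 e).hom.toAlgebra
  have hcomp : φA ≫ f.appLE V'.1 V.1 e = φB := by
    apply Spec.map_injective
    rw [Spec.map_comp, hφA, hφB, IsAffineOpen.SpecMap_appLE_fromSpec_assoc f V'.2 V.2 e, hw]
  have : IsScalarTower K A B := IsScalarTower.of_algebraMap_eq fun c =>
    (congrArg (fun q => q.hom c) hcomp).symm
  have hft : Algebra.FiniteType K B := by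
    have h : LocallyOfFiniteType (V.2.fromSpec ≫ X.hom) := inferInstance
    rw [← hφB, HasRingHomProperty.Spec_iff (P := @LocallyOfFiniteType)] at h
    exact h
  have : Algebra.FiniteType A B := Algebra.FiniteType.of_restrictScalars_finiteType K A B
  show Algebra.FormallyUnramified A B
  have : IsJacobsonRing B := isJacobsonRing_of_finiteType (A := K)
  refine ⟨(Submodule.subsingleton_iff B).1 (subsingleton_iff_bot_eq_top.1 ?_)⟩
  by_contra hne
  obtain ⟨m, hm, hsupp⟩ : ∃ m : Ideal B, m.IsMaximal ∧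
      (⊥ : Submodule B Ω[B⁄A]).colon ((⊤ : Submodule B Ω[B⁄A]) : Set _) ≤ m :=
    Ideal.exists_le_maximal _ fun htop => hne (by
      refine (eq_bot_iff.2 fun x _ => ?_).symm
      have := (Submodule.mem_colon).1 ((Ideal.eq_top_iff_one _).1 htop) x trivial
      simpa using this)
  have hlt : m • (⊤ : Submodule B Ω[B⁄A]) < ⊤ := by
    refine lt_of_le_of_ne le_top fun h => ?_
    obtain ⟨r, hr1, hr⟩ := Submodule.exists_sub_one_mem_and_smul_eq_zero_of_fg_of_le_smul m
      (⊤ : Submodule B Ω[B⁄A]) Module.Finite.fg_top h.ge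
    have hrm : r ∈ m := hsupp (Submodule.mem_colon.2 fun x _ => by simpa using hr x trivial)
    exact hm.ne_top ((Ideal.eq_top_iff_one m).2 (by simpa using m.sub_mem hrm hr1))
  -- the residue field of `m` is `K`
  have : Module.Finite K (B ⧸ m) := by
    let := Ideal.Quotient.field m
    exact finite_of_finite_type_of_isJacobsonRing K (B ⧸ m)
  let := Ideal.Quotient.field m
  have hbij : Function.Bijective (algebraMap K (B ⧸ m)) :=
    ⟨(algebraMap K (B ⧸ m)).injective,
      (IsAlgClosed.algebraMap_bijective_of_isIntegral (k := K) (K := B ⧸ m)).2⟩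
  let eK : K ≃ₐ[K] B ⧸ m := AlgEquiv.ofBijective (Algebra.ofId K (B ⧸ m)) hbij
  let χ : B →ₐ[K] K := eK.symm.toAlgHom.comp (Ideal.Quotient.mkₐ K m)
  have hχm : ∀ b, b ∈ m → χ b = 0 := fun b hb => by
    simp [χ, Ideal.Quotient.eq_zero_iff_mem.2 hb]
  -- a functional on the cotangent space
  obtain ⟨x, -, hx⟩ := SetLike.exists_of_lt hlt
  let Q := Ω[B⁄A] ⧸ (m • (⊤ : Submodule B Ω[B⁄A]))
  obtain ⟨ℓ, hℓ⟩ := Module.Projective.exists_dual_ne_zero K
    (show (Submodule.Quotient.mk x : Q) ≠ 0 by rwa [Ne, Submodule.Quotient.mk_eq_zero])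
  let D : B →ₗ[K] K := ℓ ∘ₗ (((m • (⊤ : Submodule B Ω[B⁄A])).mkQ.restrictScalars K) ∘ₗ
    ((KaehlerDifferential.D A B).toLinearMap.restrictScalars K))
  have hsmul : ∀ (b : B) (q : Q), b • q = χ b • q := by
    intro b q
    obtain ⟨y, rfl⟩ := Submodule.Quotient.mk_surjective _ q
    rw [← algebraMap_smul B (χ b) (Submodule.Quotient.mk y : Q), ← Submodule.Quotient.mk_smul,
      ← Submodule.Quotient.mk_smul, Submodule.Quotient.eq, ← sub_smul]
    refine Submodule.smul_mem_smul ?_ trivial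
    rw [← Ideal.Quotient.eq]
    show Ideal.Quotient.mk m b = algebraMap K (B ⧸ m) (χ b)
    exact (eK.apply_symm_apply _).symm
  have hD : ∀ a b, D (a * b) = χ a * D b + χ b * D a := by
    intro a b
    show ℓ (Submodule.Quotient.mk (KaehlerDifferential.D A B (a * b))) = _
    rw [Derivation.leibniz, Submodule.Quotient.mk_add, Submodule.Quotient.mk_smul,
      Submodule.Quotient.mk_smul, hsmul, hsmul, map_add, map_smul, map_smul]
    rfl
  have hDne : D ≠ 0 := by
    intro h
    apply hℓ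
    have : ∀ y ∈ Submodule.span B (Set.range (KaehlerDifferential.D A B)),
        ℓ (Submodule.Quotient.mk y) = 0 := by
      intro y hy
      induction hy using Submodule.span_induction with
      | mem y hy => obtain ⟨b, rfl⟩ := hy; exact LinearMap.congr_fun h b
      | zero => simp
      | add y z _ _ h1 h2 => rw [Submodule.Quotient.mk_add, map_add, h1, h2, add_zero]
      | smul b y _ h1 => rw [Submodule.Quotient.mk_smul, hsmul, map_smul, h1, smul_zero]
    exact this x (KaehlerDifferential.span_range_derivation A B ▸ trivial)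
  obtain ⟨g, hg⟩ := exists_algHom_of_derivation χ D hD
  -- the tangent vector and its translate to the unit
  let t := pt (X := X) V.2.fromSpec hφB.symm g
  let a := pt (X := X) V.2.fromSpec hφB.symm ((TrivSqZeroExt.inlAlgHom K K K).comp χ)
  have hgA : ∀ c : A, g (algebraMap A B c) = ((TrivSqZeroExt.inlAlgHom K K K).comp χ) (algebraMap A B c) := by
    intro c
    rw [hg]
    have : D (algebraMap A B c) = 0 := by simp [D]
    simp [this]
  have hfn : ∀ (C : Type u) [CommRing C] [Algebra K C] (h : B →ₐ[K] C),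
      (pt (X := X) V.2.fromSpec hφB.symm h ^ n).left =
        Spec.map (f.appLE V'.1 V.1 e ≫ CommRingCat.ofHom h.toRingHom) ≫ V'.2.fromSpec := by
    intro C _ _ h
    have e1 : pt (X := X) V.2.fromSpec hφB.symm h ^ n = pt (X := X) V.2.fromSpec hφB.symm h ≫ (𝟙 X ^ n) := by
      rw [MonObj.comp_pow, Category.comp_id]
    rw [e1, Spec.map_comp, Category.assoc, IsAffineOpen.SpecMap_appLE_fromSpec f V'.2 V.2 e]
    show (_ ≫ V.2.fromSpec) ≫ f = _
    exact Category.assoc _ _ _
  have htn : t ^ n = a ^ n := by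
    ext1
    rw [hfn, hfn]
    congr 2
    ext1
    exact RingHom.ext hgA
  obtain ⟨Be, _, _, je, _, hje, χe, hχe⟩ := exists_chart (X := X) η
  have hone : pt je hje χe = 1 := hχe
  have hfst : specHom (TrivSqZeroExt.fstHom K K K) ≫ (t * a⁻¹) = 1 := by
    rw [MonObj.comp_mul, GrpObj.comp_inv, pt_comp, pt_comp, mul_inv_eq_one]
    congr 1
    ext b
    simp [hg]
  have h1 := eq_one_of_pow je hje K hone hn (t * a⁻¹) hfst
    (by rw [_root_.mul_pow, inv_pow, htn, mul_inv_cancel])
  rw [mul_inv_eq_one] at h1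
  have := pt_injective V.2.fromSpec hφB.symm h1
  apply hDne
  ext b
  have := congrArg TrivSqZeroExt.snd (AlgHom.congr_fun this b)
  simpa [hg] using this

end Groth.Agent.H23.MulTangent
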