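import Groth.Agent.Rat20Lib.Extend
import Mathlib.AlgebraicGeometry.FunctionField
import Mathlib.AlgebraicGeometry.Morphisms.Flat
import Mathlib.CategoryTheory.Monoidal.Cartesian.Over
import Mathlib.CategoryTheory.Monoidal.Cartesian.Grp

/-!
Rational maps as points with values in the function field; being defined at a point.
-/

universe u

open CategoryTheory Limits AlgebraicGeometry TopologicalSpace MonoidalCategory CartesianMonoidalCategory IsLocalRing

open scoped MonObj

namespace Groth.Agent.H23.RatPoint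

variable {S : Scheme.{u}}

/-- The spectrum of a local ring, over the base. -/
noncomputable def spO (Y : Over S) (p : Y.left) : Over S :=
  Over.mk (Y.left.fromSpecStalk p ≫ Y.hom)

/-- The closed point of the spectrum of a local ring. -/
noncomputable def spt (Y : Over S) (p : Y.left) : (spO Y p).left := closedPoint (Y.left.presheaf.stalk p)

/-- Restriction to a generalization. -/
noncomputable def res {Y : Over S} {p q : Y.left} (h : q ⤳ p) : spO Y q ⟶ spO Y p :=
  Over.homMk (Spec.map (Y.left.presheaf.stalkSpecializes h))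
    (Scheme.SpecMap_stalkSpecializes_fromSpecStalk_assoc h Y.hom)

theorem res_comp {Y : Over S} {p q r : Y.left} (h : q ⤳ p) (h' : r ⤳ q) :
    res h' ≫ res h = res (h'.trans h) := by
  ext1
  show Spec.map _ ≫ Spec.map _ = Spec.map _
  rw [← Spec.map_comp, TopCat.Presheaf.stalkSpecializes_comp]

theorem res_refl {Y : Over S} {p : Y.left} (h : p ⤳ p) : res h = 𝟙 (spO Y p) := by
  ext1
  show Spec.map _ = 𝟙 _
  rw [TopCat.Presheaf.stalkSpecializes_refl, Spec.map_id]

/-- The map of spectra of local rings induced by a morphism. -/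
noncomputable def stk {Y Z : Over S} (π : Y ⟶ Z) (p : Y.left) : spO Y p ⟶ spO Z (π.left p) :=
  Over.homMk (Spec.map (π.left.stalkMap p)) (by
    show Spec.map _ ≫ Z.left.fromSpecStalk (π.left p) ≫ Z.hom = Y.left.fromSpecStalk p ≫ Y.hom
    rw [Scheme.SpecMap_stalkMap_fromSpecStalk_assoc, Over.w])

theorem res_stk {Y Z : Over S} (π : Y ⟶ Z) {p q : Y.left} (h : q ⤳ p) :
    res h ≫ stk π p = stk π q ≫ res (π.left.base.hom.map_specializes h) := by
  ext1
  show Spec.map _ ≫ Spec.map _ = Spec.map _ ≫ Spec.map _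
  rw [← Spec.map_comp, ← Spec.map_comp]
  congr 1
  exact (π.left.stalkSpecializes_stalkMap q p h).symm

theorem stk_comp {X Y Z : Over S} (π : X ⟶ Y) (ρ : Y ⟶ Z) (p : X.left) :
    stk (π ≫ ρ) p = stk π p ≫ stk ρ (π.left p) := by
  ext1
  show Spec.map ((π.left ≫ ρ.left).stalkMap p) = Spec.map _ ≫ Spec.map _
  exact (congrArg Spec.map (Scheme.Hom.stalkMap_comp _ _ _)).trans (Spec.map_comp _ _)

theorem stk_id {Y : Over S} (p : Y.left) : stk (𝟙 Y) p = 𝟙 (spO Y p) := by
  ext1
  show Spec.map ((𝟙 Y.left : Y.left ⟶ Y.left).stalkMap p) = 𝟙 _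
  rw [Scheme.Hom.stalkMap_id]
  exact Spec.map_id _

theorem res_spt_stk {Y Z : Over S} (π : Y ⟶ Z) (p : Y.left) :
    (stk π p).left (spt Y p) = spt Z (π.left p) :=
  IsLocalRing.comap_closedPoint (π.left.stalkMap p).hom

variable {G : Over S}

/-- The generic point as a scheme over the base. -/
noncomputable abbrev gen (Y : Over S) [IrreducibleSpace Y.left] : Over S := spO Y (genericPoint Y.left)

/-- A point with values in the function field is defined at `p`. -/
def DefAt {Y : Over S} [IrreducibleSpace Y.left] (φ : gen Y ⟶ G) (p : Y.left) : Prop :=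
  ∃ g : spO Y p ⟶ G, res (genericPoint_specializes p) ≫ g = φ

theorem defAt_gen {Y : Over S} [IrreducibleSpace Y.left] (φ : gen Y ⟶ G) :
    DefAt φ (genericPoint Y.left) :=
  ⟨φ, by rw [res_refl, Category.id_comp]⟩

theorem DefAt.generalize {Y : Over S} [IrreducibleSpace Y.left] {φ : gen Y ⟶ G} {p q : Y.left}
    (h : DefAt φ p) (hq : q ⤳ p) : DefAt φ q := by
  obtain ⟨g, hg⟩ := h
  exact ⟨res hq ≫ g, by rw [← Category.assoc, res_comp, hg]⟩

theorem range_subset {Y : Over S} {p : Y.left} (g : spO Y p ⟶ G) {W : G.left.Opens}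
    (h : g.left (spt Y p) ∈ W) : Set.range g.left ⊆ W := by
  rintro _ ⟨q, rfl⟩
  exact ((IsLocalRing.specializes_closedPoint q).map g.left.continuous).mem_open W.2 h

section Group

variable [GrpObj G]

theorem DefAt.mul {Y : Over S} [IrreducibleSpace Y.left] {φ ψ : gen Y ⟶ G} {p : Y.left}
    (h : DefAt φ p) (h' : DefAt ψ p) : DefAt (φ * ψ) p := by
  obtain ⟨g, rfl⟩ := h
  obtain ⟨g', rfl⟩ := h'
  exact ⟨g * g', MonObj.comp_mul _ _ _⟩

theorem DefAt.inv {Y : Over S} [IrreducibleSpace Y.left] {φ : gen Y ⟶ G} {p : Y.left}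
    (h : DefAt φ p) : DefAt φ⁻¹ p := by
  obtain ⟨g, rfl⟩ := h
  exact ⟨g⁻¹, GrpObj.comp_inv _ _⟩

/-- The image of the unit point. -/
theorem one_apply {T : Over S} (t : T.left) : (1 : T ⟶ G).left t = (η : 𝟙_ (Over S) ⟶ G).left (T.hom t) :=
  rfl

end Group

section Pull

variable {Y Z : Over S} [IrreducibleSpace Y.left] [IrreducibleSpace Z.left] (π : Y ⟶ Z)
  (hπ : π.left (genericPoint Y.left) ⤳ genericPoint Z.left)

/-- Pulling back along a morphism respecting generic points. -/
noncomputable def pull (φ : gen Z ⟶ G) : gen Y ⟶ G := stk π _ ≫ res hπ ≫ φ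

theorem res_stk_eq (φ : gen Z ⟶ G) (p : Y.left) (g : spO Z (π.left p) ⟶ G)
    (hg : res (genericPoint_specializes (π.left p)) ≫ g = φ) :
    res (genericPoint_specializes p) ≫ stk π p ≫ g = pull π hπ φ := by
  rw [← Category.assoc, res_stk, pull, ← hg, Category.assoc, ← Category.assoc (res hπ), res_comp]

include hπ in
theorem DefAt.pull {φ : gen Z ⟶ G} {p : Y.left} (h : DefAt φ (π.left p)) :
    DefAt (pull π hπ φ) p := by
  obtain ⟨g, hg⟩ := h
  exact ⟨_, res_stk_eq π hπ φ p g hg⟩

theorem pull_of_eq_id {π : Y ⟶ Y} (h : π = 𝟙 Y)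
    (hπ : π.left (genericPoint Y.left) ⤳ genericPoint Y.left) (φ : gen Y ⟶ G) : pull π hπ φ = φ := by
  subst h
  show stk (𝟙 Y) _ ≫ res hπ ≫ φ = φ
  rw [stk_id]
  refine (Category.id_comp _).trans ?_
  exact (congrArg (· ≫ φ) (res_refl (p := genericPoint Y.left) hπ)).trans (Category.id_comp φ)

end Pull

section Sep

variable {Y : Over S} [IsIntegral Y.left] [G.left.IsSeparated]

theorem isDominant_res (p : Y.left) :
    IsDominant (res (Y := Y) (genericPoint_specializes p)).left := by
  show IsDominant (Spec.map (Y.left.presheaf.stalkSpecializes (genericPoint_specializes p)))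
  refine ⟨PrimeSpectrum.denseRange_comap_iff_ker_le_nilRadical _ |>.2 ?_⟩
  exact (le_of_eq ((RingHom.injective_iff_ker_eq_bot _).1
    (show Function.Injective (algebraMap (Y.left.presheaf.stalk p) Y.left.functionField) from
      IsFractionRing.injective _ _))).trans bot_le

theorem isReduced_spO (p : Y.left) : IsReduced (spO Y p).left :=
  inferInstanceAs (IsReduced (Spec (Y.left.presheaf.stalk p)))

/-- Lifts are unique. -/
theorem lift_ext {p : Y.left} {g g' : spO Y p ⟶ G}
    (h : res (genericPoint_specializes p) ≫ g = res (genericPoint_specializes p) ≫ g') : g = g' := by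
  have := isDominant_res p
  have := isReduced_spO p
  ext1
  exact ext_of_isDominant (res (Y := Y) (genericPoint_specializes p)).left (congrArg CommaMorphism.left h)

/-- A morphism defined at a point and its ratio along a morphism of sections. -/
theorem ratio_spt [GrpObj G] {P : Over S} (D : Y ⟶ P) (p₁ p₂ : P ⟶ Y)
    (h₁ : D ≫ p₁ = 𝟙 Y) (h₂ : D ≫ p₂ = 𝟙 Y) (φ : gen Y ⟶ G) (y : Y.left)
    (g₁ : spO Y (p₁.left (D.left y)) ⟶ G) (g₂ : spO Y (p₂.left (D.left y)) ⟶ G)
    (hg₁ : res (genericPoint_specializes _) ≫ g₁ = φ) (hg₂ : res (genericPoint_specializes _) ≫ g₂ = φ) :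
    stk D y ≫ ((stk p₁ _ ≫ g₁) * (stk p₂ _ ≫ g₂)⁻¹) = 1 := by
  have key : ∀ (π : Y ⟶ Y), π = 𝟙 Y → ∀ g : spO Y (π.left y) ⟶ G,
      res (genericPoint_specializes _) ≫ g = φ →
        res (genericPoint_specializes y) ≫ stk π y ≫ g = φ := fun π hπ g hg => by
    have hs : π.left (genericPoint Y.left) ⤳ genericPoint Y.left := by subst hπ; exact specializes_rfl
    rw [res_stk_eq π hs φ y g hg, pull_of_eq_id hπ hs]
  rw [MonObj.comp_mul, GrpObj.comp_inv, ← Category.assoc, ← Category.assoc, ← stk_comp, ← stk_comp,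
    mul_inv_eq_one]
  exact lift_ext ((key (D ≫ p₁) h₁ g₁ hg₁).trans (key (D ≫ p₂) h₂ g₂ hg₂).symm)

end Sep

section Affine

variable {Y : Over S} [IsIntegral Y.left] {W : G.left.Opens} (hW : IsAffineOpen W)

/-- A function on the open, pulled back to the function field. -/
noncomputable def coord (φ : gen Y ⟶ G) (hφ : Set.range φ.left ⊆ W) :
    Γ(G.left, W) ⟶ Y.left.functionField :=
  Rat20Lib.pointHom hW φ.left hφ

theorem range_gen_subset {φ : gen Y ⟶ G} {p : Y.left} (g : spO Y p ⟶ G)
    (hg : res (genericPoint_specializes p) ≫ g = φ) (h : g.left (spt Y p) ∈ W) :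
    Set.range φ.left ⊆ W := by
  subst hg
  rintro _ ⟨t, rfl⟩
  exact range_subset g h ⟨_, rfl⟩

theorem coord_mem {φ : gen Y ⟶ G} (hφ : Set.range φ.left ⊆ W) {p : Y.left} (g : spO Y p ⟶ G)
    (hg : res (genericPoint_specializes p) ≫ g = φ) (h : g.left (spt Y p) ∈ W) (a : Γ(G.left, W)) :
    ∃ b, algebraMap (Y.left.presheaf.stalk p) Y.left.functionField b = coord hW φ hφ a := by
  refine ⟨Rat20Lib.pointHom hW g.left (range_subset g h) a, ?_⟩
  have : Rat20Lib.pointHom hW g.left (range_subset g h) ≫
      Y.left.presheaf.stalkSpecializes (genericPoint_specializes p) = coord hW φ hφ := by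
    apply Spec.map_injective
    rw [← cancel_mono hW.fromSpec, Spec.map_comp, Category.assoc, Rat20Lib.pointHom_spec, coord,
      Rat20Lib.pointHom_spec]
    exact congrArg CommaMorphism.left hg
  exact congrArg (fun ψ : Γ(G.left, W) ⟶ Y.left.functionField => ψ a) this

theorem defAt_of_coord [S.IsSeparated] {φ : gen Y ⟶ G} (hφ : Set.range φ.left ⊆ W) (p : Y.left)
    (h : ∀ a : Γ(G.left, W), ∃ b, algebraMap (Y.left.presheaf.stalk p) Y.left.functionField b =
      coord hW φ hφ a) : DefAt φ p := by
  let R := Y.left.presheaf.stalk p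
  let i : R →+* Y.left.functionField := algebraMap R Y.left.functionField
  have hinj : Function.Injective i := IsFractionRing.injective _ _
  let e := RingEquiv.ofBijective i.rangeRestrict
    ⟨fun a b hab => hinj (congrArg Subtype.val hab), i.rangeRestrict_surjective⟩
  let ψ : Γ(G.left, W) →+* R := e.symm.toRingHom.comp ((coord hW φ hφ).hom.codRestrict i.range h)
  have hψ : CommRingCat.ofHom ψ ≫ Y.left.presheaf.stalkSpecializes (genericPoint_specializes p) =
      coord hW φ hφ := by
    ext a
    exact congrArg Subtype.val (e.apply_symm_apply ⟨coord hW φ hφ a, h a⟩)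
  have hgen : Spec.map (Y.left.presheaf.stalkSpecializes (genericPoint_specializes p)) ≫
      Spec.map (CommRingCat.ofHom ψ) ≫ hW.fromSpec = φ.left := by
    rw [← Category.assoc]
    refine ((congrArg (· ≫ hW.fromSpec) ((Spec.map_comp _ _).symm.trans (congrArg Spec.map hψ)))).trans ?_
    exact Rat20Lib.pointHom_spec hW φ.left hφ
  have := isDominant_res p
  have := isReduced_spO p
  have hover : (Spec.map (CommRingCat.ofHom ψ) ≫ hW.fromSpec) ≫ G.hom = (spO Y p).hom := by
    haveI : IsDominant (res (Y := Y) (genericPoint_specializes p)).left := isDominant_res p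
    refine ext_of_isDominant (X := (spO Y p).left) (f := (Spec.map (CommRingCat.ofHom ψ) ≫ hW.fromSpec) ≫ G.hom) (g := (spO Y p).hom) (res (Y := Y) (genericPoint_specializes p)).left ?_
    rw [Over.w, ← Category.assoc]
    exact (congrArg (· ≫ G.hom) hgen).trans (Over.w φ)
  exact ⟨Over.homMk _ hover, Over.OverMorphism.ext hgen⟩

end Affine

/-- Being defined descends along a morphism flat at the point. -/
theorem defAt_of_pull [S.IsSeparated] {Y Z : Over S} [IsIntegral Y.left] [IsIntegral Z.left]
    (π : Y ⟶ Z) [Flat π.left] (hπ : π.left (genericPoint Y.left) ⤳ genericPoint Z.left)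
    {φ : gen Z ⟶ G} {p : Y.left} (h : DefAt (pull π hπ φ) p) : DefAt φ (π.left p) := by
  obtain ⟨g, hg⟩ := h
  obtain ⟨W, hW, hw, -⟩ := exists_isAffineOpen_mem_and_subset (x := g.left (spt Y p)) (U := ⊤) trivial
  have hpull : Set.range (pull π hπ φ).left ⊆ W := range_gen_subset g hg hw
  have hpt : Subsingleton (gen Z).left := inferInstanceAs (Subsingleton (PrimeSpectrum Z.left.functionField))
  have hφ : Set.range φ.left ⊆ W := by
    rintro _ ⟨t, rfl⟩
    have := hpull ⟨spt Y _, rfl⟩
    have e : (stk π (genericPoint Y.left) ≫ res hπ).left (spt Y _) = t := Subsingleton.elim _ _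
    rw [← e]
    exact this
  refine defAt_of_coord hW hφ _ fun a => ?_
  let Az := Z.left.presheaf.stalk (π.left p)
  let Ay := Y.left.presheaf.stalk p
  let i : Az ⟶ Ay := π.left.stalkMap p
  let j : Z.left.functionField ⟶ Y.left.functionField :=
    Z.left.presheaf.stalkSpecializes hπ ≫ π.left.stalkMap _
  have hcomm : Z.left.presheaf.stalkSpecializes (genericPoint_specializes (π.left p)) ≫ j =
      i ≫ Y.left.presheaf.stalkSpecializes (genericPoint_specializes p) := by
    simp only [j, i, ← Category.assoc, TopCat.Presheaf.stalkSpecializes_comp]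
    exact π.left.stalkSpecializes_stalkMap _ _ _
  have hcoord : coord hW φ hφ ≫ j = coord hW (pull π hπ φ) hpull := by
    apply Spec.map_injective
    rw [← cancel_mono hW.fromSpec]
    simp only [j, Spec.map_comp, Category.assoc, coord, Rat20Lib.pointHom_spec]
    rfl
  obtain ⟨b, hb⟩ := coord_mem hW hpull g hg hw a
  obtain ⟨x, y, hy, hxy⟩ := IsFractionRing.div_surjective (A := Az) (coord hW φ hφ a)
  have hy' : algebraMap Az Z.left.functionField y ≠ 0 :=
    IsFractionRing.to_map_ne_zero_of_mem_nonZeroDivisors hy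
  have hx : i x = i y * b := by
    apply IsFractionRing.injective Ay Y.left.functionField
    rw [map_mul, hb, ← congrArg (fun ψ : Γ(G.left, W) ⟶ Y.left.functionField => ψ a) hcoord]
    have e : ∀ t : Az, algebraMap Ay Y.left.functionField (i t) = j (algebraMap Az Z.left.functionField t) :=
      fun t => (congrArg (fun ψ : Az ⟶ Y.left.functionField => ψ t) hcomm).symm
    rw [e, e]
    refine Eq.trans (congrArg j.hom ?_) (map_mul j.hom _ (coord hW φ hφ a))
    rw [← hxy, mul_div_cancel₀ _ hy']
  algebraize [i.hom]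
  have : Module.Flat Az Ay := Flat.stalkMap π.left p
  have : IsLocalHom (algebraMap Az Ay) := inferInstanceAs (IsLocalHom (π.left.stalkMap p).hom)
  have : Module.FaithfullyFlat Az Ay := Module.FaithfullyFlat.of_flat_of_isLocalHom
  have hmem : x ∈ Ideal.span {y} := by
    rw [← Ideal.comap_map_eq_self_of_faithfullyFlat (B := Ay) (Ideal.span {y}), Ideal.mem_comap,
      Ideal.map_span, Set.image_singleton]
    exact Ideal.mem_span_singleton'.2 ⟨b, (mul_comm _ _).trans hx.symm⟩
  obtain ⟨c, hc⟩ := Ideal.mem_span_singleton'.1 hmem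
  refine ⟨c, ?_⟩
  rw [← hxy, ← hc, map_mul]
  exact (mul_div_cancel_right₀ _ hy').symm

end Groth.Agent.H23.RatPoint
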