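import Groth.Agent.H23.RigidGen
import Groth.Agent.H23.RigidGamma
import Groth.Agent.H23.RatPoint
import Mathlib.AlgebraicGeometry.Geometrically.Connected
import Mathlib.AlgebraicGeometry.Geometrically.Reduced
import Mathlib.CategoryTheory.Monoidal.Cartesian.Grp

/-!
Rigidity for group schemes over an arbitrary base.
-/

universe u

open CategoryTheory Limits AlgebraicGeometry TopologicalSpace MonoidalCategory CartesianMonoidalCategory

open scoped MonObj

namespace Groth.Agent.H23.RigidAb

variable {S : Scheme.{u}}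

theorem isPreconnected_preimage {X : Scheme.{u}} (f : X ⟶ S) [GeometricallyConnected f] (s : S) :
    _root_.IsPreconnected (f ⁻¹' {s}) := by
  rw [← f.range_fiberι s]
  exact isPreconnected_range (f.fiberι s).continuous

theorem section_hom {X : Over S} (e : 𝟙_ (Over S) ⟶ X) : e.left ≫ X.hom = 𝟙 S := Over.w e

theorem lift_left_snd {X : Over S} (eX : 𝟙_ (Over S) ⟶ X) (W : Over S) :
    (lift (toUnit W ≫ eX) (𝟙 W)).left ≫ (snd X W).left = 𝟙 W.left := by
  rw [← Over.comp_left, lift_snd, Over.id_left]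

/-- A map which collapses every fibre of a proper flat finitely presented scheme with connected reduced
geometric fibres is constant. -/
theorem eq_toUnit_comp {X Y : Over S} [IsProper X.hom] [Flat X.hom] [LocallyOfFinitePresentation X.hom]
    [GeometricallyReduced X.hom] [GeometricallyConnected X.hom] (e : 𝟙_ (Over S) ⟶ X) (f : X ⟶ Y)
    (h : ∀ s, s ∈ RigidNoeth.collapsed X.hom f.left) : f = toUnit X ≫ e ≫ f :=
  Over.OverMorphism.ext (RigidGen.eq_comp_section X.hom (RigidGamma.constFibres X.hom) e.left (section_hom e)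
    f.left h)

/-- A pairing of group schemes trivial on both axes is trivial. -/
theorem eq_one_of_slices {X W Y : Over S} [GrpObj X] [IsProper X.hom] [Flat X.hom]
    [LocallyOfFinitePresentation X.hom] [GeometricallyReduced X.hom] [GeometricallyConnected X.hom]
    [GrpObj W] [GeometricallyConnected W.hom] [GrpObj Y] [IsSeparated Y.hom] (d : X ⊗ W ⟶ Y)
    (h1 : lift (𝟙 X) (toUnit X ≫ η[W]) ≫ d = 1) (h2 : lift (toUnit W ≫ η[X]) (𝟙 W) ≫ d = 1) :
    d = 1 := by
  let p := pullback.snd X.hom W.hom
  let e : W.left ⟶ (X ⊗ W).left := (lift (toUnit W ≫ η[X]) (𝟙 W)).left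
  have he : e ≫ p = 𝟙 W.left := lift_left_snd η[X] W
  have h0 : RigidApply.ConstFibres p := (RigidGamma.constFibres X.hom).baseChange W.hom
  have hp : (X ⊗ W).hom = p ≫ W.hom := pullback.condition
  have hg : p ≫ e ≫ d.left ≫ Y.hom = d.left ≫ Y.hom := by
    have hd : d.left ≫ Y.hom = p ≫ W.hom := (Over.w d).trans hp
    rw [hd, reassoc_of% he]
  obtain ⟨C, hCc, hC, hCeq⟩ := RigidGen.of_section p h0 e he Y.hom d.left hg
  -- the unit section of `W` lies in the collapsed locus
  have hunit : ∀ s : S, η[W].left s ∈ RigidNoeth.collapsed p d.left := by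
    intro s
    refine ⟨η[Y].left s, fun z hz => ?_⟩
    let sl : X.left ⟶ (X ⊗ W).left := (lift (𝟙 X) (toUnit X ≫ η[W])).left
    have hfst : sl ≫ pullback.fst X.hom W.hom = 𝟙 X.left := by
      show sl ≫ (fst X W).left = 𝟙 X.left
      rw [← Over.comp_left, lift_fst, Over.id_left]
    have hsnd : sl ≫ p = X.hom ≫ η[W].left := by
      show sl ≫ (snd X W).left = (toUnit X).left ≫ η[W].left
      rw [← Over.comp_left, lift_snd, Over.comp_left]
    have hsq : IsPullback sl X.hom p η[W].left := by
      refine IsPullback.of_right (h₁₂ := pullback.fst X.hom W.hom) (h₂₂ := W.hom) (v₁₃ := X.hom) ?_ hsnd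
        (IsPullback.of_hasPullback X.hom W.hom).flip.flip
      rw [hfst, section_hom]
      exact IsPullback.of_horiz_isIso ⟨by simp⟩
    obtain ⟨w, hw, -⟩ := Scheme.exists_preimage_of_isPullback hsq z s hz
    subst hw
    have e2 : sl ≫ d.left = X.hom ≫ η[Y].left := by
      show sl ≫ d.left = (toUnit X).left ≫ η[Y].left
      rw [← Over.comp_left, h1, ← Over.comp_left]
      rfl
    have e3 : X.hom w = s := by
      have hinj : Function.Injective η[W].left := fun a b hab => by
        have hid : ∀ c, W.hom (η[W].left c) = c := fun c => congr($(section_hom η[W]) c)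
        rw [← hid a, ← hid b, hab]
      refine hinj ?_
      rw [← hz, ← Scheme.Hom.comp_apply, ← Scheme.Hom.comp_apply, hsnd]
    rw [← Scheme.Hom.comp_apply, e2, Scheme.Hom.comp_apply, e3]
  have htop : ∀ x : W.left, x ∈ RigidNoeth.collapsed p d.left := by
    intro x
    rw [← hC]
    refine (isPreconnected_preimage W.hom (W.hom x)).subset_isClopen ⟨hCc, C.2⟩
      ⟨η[W].left (W.hom x), ?_, hC ▸ hunit (W.hom x)⟩ rfl
    show W.hom (η[W].left (W.hom x)) = W.hom x
    rw [← Scheme.Hom.comp_apply η[W].left, section_hom]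
    rfl
  have key : d.left = p ≫ e ≫ d.left := RigidGen.eq_comp_section p h0 e he d.left htop
  have key' : d = snd X W ≫ lift (toUnit W ≫ η[X]) (𝟙 W) ≫ d := Over.OverMorphism.ext key
  rw [key', h2, MonObj.comp_one]

/-- Pointed maps of abelian schemes are homomorphisms. -/
theorem isMonHom_of_one {X Y : Over S} [GrpObj X] [IsProper X.hom] [Flat X.hom]
    [LocallyOfFinitePresentation X.hom] [GeometricallyReduced X.hom] [GeometricallyConnected X.hom]
    [GrpObj Y] [IsSeparated Y.hom] (f : X ⟶ Y) (hf : η[X] ≫ f = η[Y]) : IsMonHom f := by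
  have hη : toUnit X ≫ η[X] ≫ f = (1 : X ⟶ Y) := by rw [hf]; rfl
  have key : (μ[X] ≫ f) * (snd X X ≫ f)⁻¹ * (fst X X ≫ f)⁻¹ = 1 := by
    refine eq_one_of_slices _ ?_ ?_
    · have e : lift (𝟙 X) (toUnit X ≫ η[X]) ≫ μ[X] = 𝟙 X := by
        rw [← Hom.one_def, ← Hom.mul_def, _root_.mul_one]
      simp only [MonObj.comp_mul, GrpObj.comp_inv, reassoc_of% e, lift_fst_assoc, lift_snd_assoc,
        Category.id_comp, Category.assoc, hη, inv_one, _root_.mul_one, _root_.mul_inv_cancel]
    · have e : lift (toUnit X ≫ η[X]) (𝟙 X) ≫ μ[X] = 𝟙 X := by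
        rw [← Hom.one_def, ← Hom.mul_def, _root_.one_mul]
      simp only [MonObj.comp_mul, GrpObj.comp_inv, reassoc_of% e, lift_fst_assoc, lift_snd_assoc,
        Category.id_comp, Category.assoc, hη, inv_one, _root_.mul_one, _root_.mul_inv_cancel]
  refine ⟨hf, ?_⟩
  rw [mul_inv_eq_one, mul_inv_eq_iff_eq_mul] at key
  rw [key, Hom.mul_def]
  congr 1

end Groth.Agent.H23.RigidAb
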