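import Groth.Agent.H23.LocNoethTop
import Mathlib.AlgebraicGeometry.Noetherian
import Mathlib.AlgebraicGeometry.Properties
import Mathlib.AlgebraicGeometry.Stalk
import Mathlib.AlgebraicGeometry.IdealSheaf.Basic
import Mathlib.Topology.Sober
import Mathlib.RingTheory.Noetherian.Nilpotent
import Mathlib.Data.DFinsupp.WellFounded

/-!
# Irreducible and reduced neighbourhoods on locally Noetherian schemes
-/

open AlgebraicGeometry CategoryTheory TopologicalSpace Topology

universe u

namespace Groth.Agent.H23.FinCondSch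

variable {X : Scheme.{u}}

theorem exists_top_generization_iff (x : X) :
    (nilradical (X.presheaf.stalk x)).IsPrime ↔ ∃ ξ : X, ξ ⤳ x ∧ ∀ η : X, η ⤳ x → ξ ⤳ η := by
  constructor
  · intro h
    let p : Spec (X.presheaf.stalk x) := (⟨_, h⟩ : PrimeSpectrum _)
    refine ⟨X.fromSpecStalk x p, ?_, fun η hη => ?_⟩
    · have : X.fromSpecStalk x p ∈ {y | y ⤳ x} :=
        (Scheme.range_fromSpecStalk (X := X) (x := x)).le ⟨p, rfl⟩
      exact this
    · obtain ⟨q, rfl⟩ := (Scheme.range_fromSpecStalk (X := X) (x := x)).ge hη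
      refine Specializes.map ((PrimeSpectrum.le_iff_specializes p q).mp ?_)
        (X.fromSpecStalk x).continuous
      exact nilradical_le_prime q.asIdeal
  · rintro ⟨ξ, hξ, h⟩
    obtain ⟨p, rfl⟩ := (Scheme.range_fromSpecStalk (X := X) (x := x)).ge hξ
    have : nilradical (X.presheaf.stalk x) = p.asIdeal := by
      refine le_antisymm (nilradical_le_prime p.asIdeal) ?_
      rw [nilradical_eq_sInf]
      refine le_sInf fun J hJ => ?_
      let q : Spec (X.presheaf.stalk x) := (⟨J, hJ⟩ : PrimeSpectrum _)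
      have hq : X.fromSpecStalk x q ⤳ x :=
        (Scheme.range_fromSpecStalk (X := X) (x := x)).le ⟨q, rfl⟩
      exact (PrimeSpectrum.le_iff_specializes p q).mpr
        ((X.fromSpecStalk x).isEmbedding.isInducing.specializes_iff.mp (h _ hq))
    rw [this]
    exact p.isPrime

theorem eq_closure_of_mem_irreducibleComponents {Z : Set X} (hZ : Z ∈ irreducibleComponents X) :
    ∃ ξ : X, Z = closure {ξ} ∧ ∀ y : X, y ⤳ ξ → ξ ⤳ y := by
  refine ⟨hZ.1.genericPoint,
    (hZ.1.closure_genericPoint (isClosed_of_mem_irreducibleComponents _ hZ)).symm, fun y hy => ?_⟩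
  have h1 := hZ.1.closure_genericPoint (isClosed_of_mem_irreducibleComponents _ hZ)
  have hsub : Z ⊆ closure {y} := by
    rw [← h1]
    exact specializes_iff_closure_subset.mp hy
  refine specializes_iff_closure_subset.mpr ?_
  rw [h1]
  exact hZ.2 isIrreducible_singleton.closure hsub

theorem unique_component {x : X} (h : (nilradical (X.presheaf.stalk x)).IsPrime)
    {Z Z' : Set X} (hZ : Z ∈ irreducibleComponents X) (hZ' : Z' ∈ irreducibleComponents X)
    (hx : x ∈ Z) (hx' : x ∈ Z') : Z = Z' := by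
  obtain ⟨ξ, -, hξ⟩ := (exists_top_generization_iff x).mp h
  obtain ⟨a, rfl, ha⟩ := eq_closure_of_mem_irreducibleComponents hZ
  obtain ⟨b, rfl, hb⟩ := eq_closure_of_mem_irreducibleComponents hZ'
  have h1 := hξ a (specializes_iff_mem_closure.2 hx)
  have h2 := hξ b (specializes_iff_mem_closure.2 hx')
  rw [((ha _ h1).antisymm h1).eq, ((hb _ h2).antisymm h2).eq]

theorem pairwiseDisjoint_iff :
    (irreducibleComponents X).PairwiseDisjoint id ↔
      ∀ x : X, (nilradical (X.presheaf.stalk x)).IsPrime := by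
  refine ⟨fun hd x => ?_, fun h Z hZ Z' hZ' hne => Set.disjoint_left.2 fun x hx hx' =>
    hne (unique_component (h x) hZ hZ' hx hx')⟩
  rw [exists_top_generization_iff]
  have hC : irreducibleComponent x ∈ irreducibleComponents X :=
    irreducibleComponent_mem_irreducibleComponents x
  obtain ⟨ξ, hξ, -⟩ := eq_closure_of_mem_irreducibleComponents hC
  refine ⟨ξ, specializes_iff_mem_closure.2 (hξ ▸ mem_irreducibleComponent), fun η hη => ?_⟩
  refine specializes_iff_mem_closure.2 (hξ ▸ ?_)
  have hxη : x ∈ irreducibleComponent η :=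
    hη.mem_closed isClosed_irreducibleComponent mem_irreducibleComponent
  rw [hd.elim hC (irreducibleComponent_mem_irreducibleComponents η)
    (Set.not_disjoint_iff.2 ⟨x, mem_irreducibleComponent, hxη⟩)]
  exact mem_irreducibleComponent

theorem hasNoetherianNhds [IsLocallyNoetherian X] :
    ∀ x : X, ∃ U ∈ nhds x, NoetherianSpace U := fun x => by
  obtain ⟨U, hU, hx, -⟩ := exists_isAffineOpen_mem_and_subset (x := x) (U := ⊤) trivial
  haveI := IsLocallyNoetherian.component_noetherian ⟨U, hU⟩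
  exact ⟨U, U.2.mem_nhds hx, noetherianSpace_of_isAffineOpen U hU⟩

theorem exists_irreducible_nhd [IsLocallyNoetherian X] (x : X)
    (hx : (nilradical (X.presheaf.stalk x)).IsPrime) :
    ∃ U : X.Opens, x ∈ U ∧ IsIrreducible (U : Set X) := by
  have hC := irreducibleComponent_mem_irreducibleComponents x
  have h : irreducibleComponent x ∈ nhds x :=
    LocNoethTop.exists_nhd_subset_of_unique hasNoetherianNhds fun Z' hZ' hx' =>
      unique_component hx hZ' hC hx' mem_irreducibleComponent
  obtain ⟨V, hVZ, hV, hxV⟩ := mem_nhds_iff.mp h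
  exact ⟨⟨V, hV⟩, hxV, ⟨x, hxV⟩, hC.1.isPreirreducible.open_subset hV hVZ⟩

theorem exists_reduced_nhd [IsLocallyNoetherian X] (x : X)
    [_root_.IsReduced (X.presheaf.stalk x)] :
    ∃ U : X.Opens, x ∈ U ∧ IsReduced (U : Scheme.{u}) := by
  obtain ⟨V, hV, hxV, -⟩ := exists_isAffineOpen_mem_and_subset (x := x) (U := ⊤) trivial
  haveI := IsLocallyNoetherian.component_noetherian ⟨V, hV⟩
  obtain ⟨s, hs⟩ := (isNoetherianRing_iff_ideal_fg _).1 inferInstance
    (nilradical Γ(X, V))
  have h : ∀ g : Γ(X, V), g ∈ s → ∃ (W : X.Opens) (i : W ⟶ V), x ∈ W ∧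
      X.presheaf.map i.op g = 0 := by
    intro g hg
    have hn : IsNilpotent g := mem_nilradical.1 (hs ▸ Ideal.subset_span hg)
    have h0 : X.presheaf.germ V x hxV g = X.presheaf.germ V x hxV 0 := by
      rw [map_zero]
      exact (hn.map (X.presheaf.germ V x hxV).hom).eq_zero
    obtain ⟨W, hxW, i₁, i₂, he⟩ := X.presheaf.germ_eq x hxV hxV g 0 h0
    exact ⟨W, i₁, hxW, by rw [he, map_zero]⟩
  choose W iW hxW hW using h
  let T : Set X := (V : Set X) ∩ ⋂ g : s, (W g.1 g.2 : Set X)
  have hT : IsOpen T := V.2.inter (isOpen_iInter_of_finite fun g => (W g.1 g.2).2)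
  obtain ⟨f, hf, hxf⟩ := hV.exists_basicOpen_le (V := ⟨T, hT⟩)
    ⟨x, hxV, Set.mem_iInter.2 fun g => hxW g.1 g.2⟩ hxV
  refine ⟨X.basicOpen f, hxf, ?_⟩
  haveI : IsAffine (X.basicOpen f : Scheme.{u}) := hV.basicOpen f
  haveI : IsLocalization.Away f Γ(X, X.basicOpen f) := hV.isLocalization_basicOpen f
  have hnil : nilradical Γ(X, X.basicOpen f) = ⊥ := by
    have h1 : (nilradical Γ(X, V)).map (algebraMap Γ(X, V) Γ(X, X.basicOpen f)) = ⊥ := by
      rw [← hs, Ideal.map_span, Ideal.span_eq_bot]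
      rintro _ ⟨g, hg, rfl⟩
      have hle : X.basicOpen f ≤ W g hg := fun y hy => Set.mem_iInter.1 (hf hy).2 ⟨g, hg⟩
      have : algebraMap Γ(X, V) Γ(X, X.basicOpen f) g =
          X.presheaf.map (homOfLE hle).op (X.presheaf.map (iW g hg).op g) := by
        rw [← CommRingCat.comp_apply, ← Functor.map_comp]
        rfl
      rw [this, hW g hg, map_zero]
    have h2 := IsLocalization.map_radical (Submonoid.powers f) Γ(X, X.basicOpen f)
      (⊥ : Ideal Γ(X, V))
    rw [Ideal.map_bot] at h2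
    exact le_bot_iff.1 ((le_of_eq h2.symm).trans h1.le)
  haveI : _root_.IsReduced Γ(X, X.basicOpen f) := nilradical_eq_bot_iff.mp hnil
  haveI : _root_.IsReduced Γ((X.basicOpen f : Scheme.{u}), ⊤) :=
    isReduced_of_injective (X.basicOpen f).topIso.hom.hom
      (ConcreteCategory.bijective_of_isIso (X.basicOpen f).topIso.hom).1
  exact isReduced_of_isAffine_isReduced _

theorem exists_integral_nhd [IsLocallyNoetherian X] (x : X) [IsDomain (X.presheaf.stalk x)] :
    ∃ U : X.Opens, x ∈ U ∧ IsIntegral (U : Scheme.{u}) := by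
  obtain ⟨U, hxU, hU⟩ := exists_reduced_nhd x
  have hp : (nilradical (X.presheaf.stalk x)).IsPrime := by
    rw [nilradical_eq_zero]; exact Ideal.isPrime_bot
  obtain ⟨V, hxV, hV⟩ := exists_irreducible_nhd x hp
  refine ⟨U ⊓ V, ⟨hxU, hxV⟩, (isIntegral_iff_irreducibleSpace_and_isReduced _).mpr ⟨?_, ?_⟩⟩
  · have : IsIrreducible ((U ⊓ V : X.Opens) : Set X) := ⟨⟨x, hxU, hxV⟩,
      hV.isPreirreducible.open_subset (U ⊓ V).2 fun y hy => hy.2⟩
    exact Subtype.irreducibleSpace this
  · haveI := hU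
    exact isReduced_of_isOpenImmersion (X.homOfLE (inf_le_left : U ⊓ V ≤ U))

theorem irreducibleSpace_iff [IsLocallyNoetherian X] :
    IrreducibleSpace X ↔ ConnectedSpace X ∧ ∀ x : X, (nilradical (X.presheaf.stalk x)).IsPrime := by
  rw [← pairwiseDisjoint_iff]
  constructor
  · intro h
    refine ⟨inferInstance, ?_⟩
    rw [irreducibleComponents_eq_singleton]
    exact Set.pairwiseDisjoint_singleton _ _
  · rintro ⟨hc, hd⟩
    obtain ⟨x⟩ := hc.toNonempty
    have h32 : (irreducibleComponents X).PairwiseDisjoint id ↔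
        ∀ x : X, IsIrreducible (connectedComponent x) :=
      (LocNoethTop.tfae (X := X) hasNoetherianNhds).out 3 2
    have := h32.mp hd x
    rw [PreconnectedSpace.connectedComponent_eq_univ x] at this
    exact (irreducibleSpace_def X).mpr this

theorem isIntegral_iff [IsLocallyNoetherian X] :
    IsIntegral X ↔ ConnectedSpace X ∧ ∀ x : X, IsDomain (X.presheaf.stalk x) := by
  rw [isIntegral_iff_irreducibleSpace_and_isReduced, irreducibleSpace_iff]
  constructor
  · rintro ⟨⟨hc, hp⟩, hr⟩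
    refine ⟨hc, fun x => ?_⟩
    have := hp x
    rw [nilradical_eq_zero, Ideal.zero_eq_bot] at this
    haveI : NoZeroDivisors (X.presheaf.stalk x) :=
      ⟨fun {a b} hab => by simpa using this.mem_or_mem (show a * b ∈ (⊥ : Ideal _) by simpa using hab)⟩
    exact NoZeroDivisors.to_isDomain _
  · rintro ⟨hc, hd⟩
    refine ⟨⟨hc, fun x => ?_⟩, ?_⟩
    · haveI := hd x
      rw [nilradical_eq_zero]; exact Ideal.isPrime_bot
    · haveI : ∀ x : X, _root_.IsReduced (X.presheaf.stalk x) := fun x => by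
        haveI := hd x; infer_instance
      exact isReduced_of_isReduced_stalk X

theorem isNilpotent_nilradical [IsNoetherian X] : IsNilpotent X.nilradical := by
  obtain ⟨s, hs⟩ := (isCompact_univ (X := X)).elim_finite_subcover
    (fun U : X.affineOpens => (U.1 : Set X)) (fun U => U.1.2) (fun x _ => by
      obtain ⟨U, hU, hx, -⟩ := exists_isAffineOpen_mem_and_subset (x := x) (U := ⊤) trivial
      exact Set.mem_iUnion.2 ⟨⟨U, hU⟩, hx⟩)
  have hn : ∀ U : X.affineOpens, IsNilpotent (X.nilradical.ideal U) := fun U => by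
    haveI := IsLocallyNoetherian.component_noetherian U
    have : X.nilradical.ideal U = nilradical Γ(X, U) := by
      simp [Scheme.nilradical, nilradical]
    rw [this]
    exact IsNoetherianRing.isNilpotent_nilradical _
  choose n hn using hn
  refine ⟨s.sup n, le_antisymm (Scheme.IdealSheafData.le_of_iSup_eq_top (fun U : s => U.1) ?_ ?_)
    bot_le⟩
  · rw [eq_top_iff]
    intro x _
    obtain ⟨U, hU, hx⟩ := Set.mem_iUnion₂.1 (hs (Set.mem_univ x))
    exact Opens.mem_iSup.2 ⟨⟨U, hU⟩, hx⟩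
  · rintro ⟨U, hU⟩
    rw [Scheme.IdealSheafData.ideal_pow, Pi.pow_apply,
      pow_eq_zero_of_le (Finset.le_sup hU) (hn U)]
    exact bot_le

theorem wellFoundedGT [IsNoetherian X] : WellFoundedGT X.IdealSheafData := by
  obtain ⟨s, hs⟩ := (isCompact_univ (X := X)).elim_finite_subcover
    (fun U : X.affineOpens => (U.1 : Set X)) (fun U => U.1.2) (fun x _ => by
      obtain ⟨U, hU, hx, -⟩ := exists_isAffineOpen_mem_and_subset (x := x) (U := ⊤) trivial
      exact Set.mem_iUnion.2 ⟨⟨U, hU⟩, hx⟩)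
  haveI : ∀ U : s, IsNoetherianRing Γ(X, U.1.1) := fun U =>
    IsLocallyNoetherian.component_noetherian U.1
  let F : X.IdealSheafData → ∀ U : s, Ideal Γ(X, U.1.1) := fun I U => I.ideal U.1
  have hF : StrictMono F := fun I J hlt => by
    refine lt_of_le_of_ne (fun U => hlt.le U.1) fun h => hlt.ne ?_
    refine Scheme.IdealSheafData.ext_of_iSup_eq_top (fun U : s => U.1) ?_ (congrFun h)
    rw [eq_top_iff]
    intro x _
    obtain ⟨U, hU, hx⟩ := Set.mem_iUnion₂.1 (hs (Set.mem_univ x))
    exact Opens.mem_iSup.2 ⟨⟨U, hU⟩, hx⟩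
  haveI : WellFoundedGT (∀ U : s, Ideal Γ(X, U.1.1)) :=
    ⟨(Pi.wellFoundedLT (α := fun U : s => (Ideal Γ(X, U.1.1))ᵒᵈ)).wf⟩
  exact hF.wellFoundedGT

end Groth.Agent.H23.FinCondSch
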