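import Groth.Agent.H23.RatProduct
import Mathlib.AlgebraicGeometry.Group.Abelian
import Mathlib.AlgebraicGeometry.Sites.Fpqc
import Mathlib.AlgebraicGeometry.AffineSpace

/-!
The product lemma over any field, and maps from affine spaces.
-/

universe u

open CategoryTheory Limits AlgebraicGeometry MonoidalCategory CartesianMonoidalCategory
open CategoryTheory.Functor.Monoidal CategoryTheory.Functor.LaxMonoidal

open scoped MonObj

namespace Groth.Agent.H23.RatProductK

variable {K : Type u} [Field K]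

/-- Base change to an algebraic closure. -/
noncomputable abbrev bc (K : Type u) [Field K] :=
  Over.pullback (Spec.map (CommRingCat.ofHom (algebraMap K (AlgebraicClosure K))))

/-- A map from a product into a proper group which is constant on two axes is constant. -/
theorem eq_const {V W A : Over (Spec (CommRingCat.of K))}
    [Smooth V.hom] [IsSeparated V.hom] [GeometricallyIntegral V.hom]
    [Smooth W.hom] [IsSeparated W.hom] [GeometricallyIntegral W.hom]
    [GrpObj A] [IsProper A.hom] [GeometricallyIntegral A.hom]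
    (v₀ : 𝟙_ (Over (Spec (CommRingCat.of K))) ⟶ V) (w₀ : 𝟙_ (Over (Spec (CommRingCat.of K))) ⟶ W)
    (a₀ : 𝟙_ (Over (Spec (CommRingCat.of K))) ⟶ A) (g : V ⊗ W ⟶ A)
    (hV : lift (𝟙 V) (toUnit V ≫ w₀) ≫ g = toUnit V ≫ a₀)
    (hW : lift (toUnit W ≫ v₀) (𝟙 W) ≫ g = toUnit W ≫ a₀) : g = toUnit _ ≫ a₀ := by
  let F := bc K
  have : Smooth (F.obj V).hom := inferInstanceAs (Smooth (pullback.snd V.hom _))
  have : IsSeparated (F.obj V).hom := inferInstanceAs (IsSeparated (pullback.snd V.hom _))
  have : GeometricallyIntegral (F.obj V).hom :=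
    inferInstanceAs (GeometricallyIntegral (pullback.snd V.hom _))
  have : Smooth (F.obj W).hom := inferInstanceAs (Smooth (pullback.snd W.hom _))
  have : IsSeparated (F.obj W).hom := inferInstanceAs (IsSeparated (pullback.snd W.hom _))
  have : GeometricallyIntegral (F.obj W).hom :=
    inferInstanceAs (GeometricallyIntegral (pullback.snd W.hom _))
  have : IsProper (F.obj A).hom := inferInstanceAs (IsProper (pullback.snd A.hom _))
  have : GeometricallyIntegral (F.obj A).hom :=
    inferInstanceAs (GeometricallyIntegral (pullback.snd A.hom _))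
  let : GrpObj (F.obj A) := Functor.grpObjObj
  have key := RatProduct.eq_const (k := AlgebraicClosure K) (Functor.LaxMonoidal.ε F ≫ F.map v₀) (Functor.LaxMonoidal.ε F ≫ F.map w₀)
    (Functor.LaxMonoidal.ε F ≫ F.map a₀) (Functor.LaxMonoidal.μ F V W ≫ F.map g) ?_ ?_
  · apply F.map_injective
    rw [← cancel_epi (μIso F V W).hom]
    refine key.trans ?_
    rw [μIso_hom, ← comp_toUnit (Functor.LaxMonoidal.μ F V W), Category.assoc, F.map_comp,
      ← toUnit_ε, Category.assoc]
  · have e : lift (𝟙 (F.obj V)) (toUnit (F.obj V) ≫ Functor.LaxMonoidal.ε F ≫ F.map w₀) ≫ Functor.LaxMonoidal.μ F V W =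
        F.map (lift (𝟙 V) (toUnit V ≫ w₀)) := by
      rw [← Category.assoc (toUnit _), toUnit_ε, ← F.map_comp, ← F.map_id, lift_μ]
    rw [reassoc_of% e, ← F.map_comp, hV, F.map_comp, ← toUnit_ε, Category.assoc]
  · have e : lift (toUnit (F.obj W) ≫ Functor.LaxMonoidal.ε F ≫ F.map v₀) (𝟙 (F.obj W)) ≫ Functor.LaxMonoidal.μ F V W =
        F.map (lift (toUnit W ≫ v₀) (𝟙 W)) := by
      rw [← Category.assoc (toUnit _), toUnit_ε, ← F.map_comp, ← F.map_id, lift_μ]
    rw [reassoc_of% e, ← F.map_comp, hW, F.map_comp, ← toUnit_ε, Category.assoc]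

/-- Affine space over the field. -/
noncomputable abbrev affine (K : Type u) [Field K] (n : Type u) : Over (Spec (CommRingCat.of K)) :=
  Over.mk (𝔸(n; Spec (CommRingCat.of K)) ↘ Spec (CommRingCat.of K))

theorem smooth_affine (n : Type u) [Finite n] : Smooth (affine K n).hom := by
  have h : Smooth (Spec.map (CommRingCat.ofHom (MvPolynomial.C : K →+* MvPolynomial n K))) :=
    (HasRingHomProperty.Spec_iff (P := @Smooth)).2
      (RingHom.smooth_algebraMap.2 (⟨inferInstance, inferInstance⟩ : Algebra.Smooth K (MvPolynomial n K)))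
  have e : (AffineSpace.SpecIso n (CommRingCat.of K)).hom ≫
      Spec.map (CommRingCat.ofHom (MvPolynomial.C : K →+* MvPolynomial n K)) = (affine K n).hom := by
    refine (congrArg ((AffineSpace.SpecIso n (CommRingCat.of K)).hom ≫ ·)
      (AffineSpace.SpecIso_inv_over (CommRingCat.of K)).symm).trans ?_
    exact Iso.hom_inv_id_assoc _ _
  rw [← e]
  infer_instance

/-- Maps from affine space into proper geometrically integral groups are constant. -/
theorem affine_const {A : Over (Spec (CommRingCat.of K))}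
    [GrpObj A] [IsProper A.hom] [GeometricallyIntegral A.hom] (n : Type u) [Finite n]
    (g : affine K n ⟶ A) : ∃ a : 𝟙_ (Over (Spec (CommRingCat.of K))) ⟶ A, g = toUnit _ ≫ a := by
  have := smooth_affine (K := K) n
  have := smooth_affine (K := K) PUnit.{u+1}
  have : IsSeparated (affine K n).hom := inferInstanceAs (IsSeparated (𝔸(n; Spec (CommRingCat.of K)) ↘ _))
  have : IsSeparated (affine K PUnit.{u+1}).hom :=
    inferInstanceAs (IsSeparated (𝔸(PUnit.{u+1}; Spec (CommRingCat.of K)) ↘ _))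
  have : GeometricallyIntegral (affine K n).hom :=
    inferInstanceAs (GeometricallyIntegral (𝔸(n; Spec (CommRingCat.of K)) ↘ _))
  have : GeometricallyIntegral (affine K PUnit.{u+1}).hom :=
    inferInstanceAs (GeometricallyIntegral (𝔸(PUnit.{u+1}; Spec (CommRingCat.of K)) ↘ _))
  let pt : ∀ (m : Type u) (c : K), 𝟙_ (Over (Spec (CommRingCat.of K))) ⟶ affine K m := fun m c =>
    Over.homMk (AffineSpace.homOfVector (𝟙 _) fun _ => (Scheme.ΓSpecIso (CommRingCat.of K)).inv c)
      (AffineSpace.homOfVector_over _ _)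
  let sm : affine K PUnit.{u+1} ⊗ affine K n ⟶ affine K n :=
    Over.homMk (AffineSpace.homOfVector (affine K PUnit.{u+1} ⊗ affine K n).hom fun i =>
      (fst (affine K PUnit.{u+1}) (affine K n)).left.appTop (AffineSpace.coord _ PUnit.unit) *
        (snd (affine K PUnit.{u+1}) (affine K n)).left.appTop (AffineSpace.coord _ i))
      (AffineSpace.homOfVector_over _ _)
  have hcoord : ∀ {T : Over (Spec (CommRingCat.of K))} (t : T ⟶ affine K PUnit.{u+1})
      (x : T ⟶ affine K n) (i : n), (lift t x ≫ sm).left.appTop (AffineSpace.coord _ i) =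
        t.left.appTop (AffineSpace.coord _ PUnit.unit) * x.left.appTop (AffineSpace.coord _ i) := by
    intro T t x i
    rw [Over.comp_left, Scheme.Hom.comp_appTop, CommRingCat.comp_apply]
    refine (congrArg (lift t x).left.appTop (AffineSpace.homOfVector_appTop_coord _ _ i)).trans ?_
    rw [map_mul, ← CommRingCat.comp_apply, ← CommRingCat.comp_apply, ← Scheme.Hom.comp_appTop,
      ← Scheme.Hom.comp_appTop, ← Over.comp_left, ← Over.comp_left, lift_fst, lift_snd]
  have hext : ∀ {T : Over (Spec (CommRingCat.of K))} (x y : T ⟶ affine K n),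
      (∀ i, x.left.appTop (AffineSpace.coord _ i) = y.left.appTop (AffineSpace.coord _ i)) → x = y :=
    fun x y h => Over.OverMorphism.ext (AffineSpace.hom_ext ((Over.w x).trans (Over.w y).symm) h)
  have hpt : ∀ (m : Type u) (c : K) {T : Over (Spec (CommRingCat.of K))} (i : m),
      (toUnit T ≫ pt m c).left.appTop (AffineSpace.coord _ i) =
        (toUnit T).left.appTop ((Scheme.ΓSpecIso (CommRingCat.of K)).inv c) := by
    intro m c T i
    rw [Over.comp_left, Scheme.Hom.comp_appTop, CommRingCat.comp_apply]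
    exact congrArg (toUnit T).left.appTop (AffineSpace.homOfVector_appTop_coord _ _ i)
  have h0 := eq_const (pt PUnit.{u+1} 0) (pt n 0) (pt n 0 ≫ g) (sm ≫ g) ?_ ?_
  · refine ⟨pt n 0 ≫ g, ?_⟩
    have h1 : lift (toUnit (affine K n) ≫ pt PUnit.{u+1} 1) (𝟙 _) ≫ sm = 𝟙 _ :=
      hext _ _ fun i => by
        rw [hcoord, hpt, map_one, map_one, one_mul]
    have := congrArg (fun t => lift (toUnit (affine K n) ≫ pt PUnit.{u+1} 1) (𝟙 _) ≫ t) h0
    simp only [reassoc_of% h1] at this
    exact this.trans (by rw [← Category.assoc, comp_toUnit])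
  · rw [← Category.assoc, ← Category.assoc]
    congr 1
    exact hext _ _ fun i => by simp only [hcoord, hpt, map_zero, mul_zero]
  · rw [← Category.assoc, ← Category.assoc]
    congr 1
    exact hext _ _ fun i => by simp only [hcoord, hpt, map_zero, zero_mul]

section Descent

variable {V W : Over (Spec (CommRingCat.of K))} [QuasiCompact W.hom] [Nonempty W.left]

/-- The projection from a product is an effective epimorphism of schemes. -/
theorem effectiveEpi_fst : EffectiveEpi (fst V W).left := by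
  have : Flat W.hom := inferInstance
  have : Surjective W.hom := ⟨Function.surjective_to_subsingleton (α := W.left) (β := Spec (CommRingCat.of K)) _⟩
  have e : (fst V W).left = pullback.fst V.hom W.hom := rfl
  rw [e]
  infer_instance

theorem epi_fst {A : Over (Spec (CommRingCat.of K))} {a b : V ⟶ A}
    (h : fst V W ≫ a = fst V W ≫ b) : a = b := by
  have := effectiveEpi_fst (V := V) (W := W)
  exact Over.OverMorphism.ext ((cancel_epi (fst V W).left).1 (congrArg CommaMorphism.left h))

/-- A map from a product independent of the second variable factors through the projection. -/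
theorem exists_desc {A : Over (Spec (CommRingCat.of K))} (h : V ⊗ W ⟶ A)
    (hh : (V ◁ fst W W) ≫ h = (V ◁ snd W W) ≫ h) : ∃ f : V ⟶ A, fst V W ≫ f = h := by
  have := effectiveEpi_fst (V := V) (W := W)
  have cond : ∀ {Z : Scheme.{u}} (g₁ g₂ : Z ⟶ (V ⊗ W).left),
      g₁ ≫ (fst V W).left = g₂ ≫ (fst V W).left → g₁ ≫ h.left = g₂ ≫ h.left := by
    intro Z g₁ g₂ hg
    let T : Over (Spec (CommRingCat.of K)) := Over.mk (g₁ ≫ (V ⊗ W).hom)
    let a : T ⟶ V ⊗ W := Over.homMk g₁ rfl
    let b : T ⟶ V ⊗ W := Over.homMk g₂ (by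
      show g₂ ≫ (V ⊗ W).hom = g₁ ≫ (V ⊗ W).hom
      rw [← Over.w (fst V W), reassoc_of% hg])
    have hab : a ≫ fst V W = b ≫ fst V W := Over.OverMorphism.ext hg
    let t : T ⟶ V ⊗ (W ⊗ W) := lift (a ≫ fst V W) (lift (a ≫ snd V W) (b ≫ snd V W))
    have ha : t ≫ (V ◁ fst W W) = a := by
      refine CartesianMonoidalCategory.hom_ext _ _ ?_ ?_ <;> simp [t]
    have hb : t ≫ (V ◁ snd W W) = b := by
      refine CartesianMonoidalCategory.hom_ext _ _ ?_ ?_ <;> simp [t, hab]
    have := congrArg (t ≫ ·) hh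
    simp only [reassoc_of% ha, reassoc_of% hb] at this
    exact congrArg CommaMorphism.left this
  refine ⟨Over.homMk (EffectiveEpi.desc (fst V W).left h.left cond) ?_, ?_⟩
  · rw [← cancel_epi (fst V W).left, ← Category.assoc, EffectiveEpi.fac, Over.w h, Over.w (fst V W)]
  · exact Over.OverMorphism.ext (EffectiveEpi.fac (fst V W).left h.left cond)

end Descent

theorem exists_point {L : Type u} [Field L] [IsAlgClosed L] (X : Over (Spec (CommRingCat.of L)))
    [LocallyOfFiniteType X.hom] [Nonempty X.left] :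
    Nonempty (𝟙_ (Over (Spec (CommRingCat.of L))) ⟶ X) := by
  have : JacobsonSpace X.left := LocallyOfFiniteType.jacobsonSpace (Y := Spec _) X.hom
  obtain ⟨x, -, hx⟩ := nonempty_inter_closedPoints (Z := (Set.univ : Set X.left)) Set.univ_nonempty
    isOpen_univ.isLocallyClosed
  exact ⟨Over.homMk (pointOfClosedPoint X.hom x hx) (pointOfClosedPoint_comp ..)⟩

/-- The part of a map on a product not depending on the first variable's origin is independent of
the second variable. -/
theorem swap_eq {V W A : Over (Spec (CommRingCat.of K))}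
    [Smooth V.hom] [IsSeparated V.hom] [GeometricallyIntegral V.hom]
    [Smooth W.hom] [IsSeparated W.hom] [GeometricallyIntegral W.hom]
    [GrpObj A] [IsProper A.hom] [GeometricallyIntegral A.hom]
    (v₀ : 𝟙_ (Over (Spec (CommRingCat.of K))) ⟶ V) (f : V ⊗ W ⟶ A) :
    (V ◁ fst W W) ≫ (f * (snd V W ≫ lift (toUnit W ≫ v₀) (𝟙 W) ≫ f)⁻¹) =
      (V ◁ snd W W) ≫ (f * (snd V W ≫ lift (toUnit W ≫ v₀) (𝟙 W) ≫ f)⁻¹) := by
  let F := bc K
  have : Smooth (F.obj V).hom := inferInstanceAs (Smooth (pullback.snd V.hom _))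
  have : IsSeparated (F.obj V).hom := inferInstanceAs (IsSeparated (pullback.snd V.hom _))
  have : GeometricallyIntegral (F.obj V).hom :=
    inferInstanceAs (GeometricallyIntegral (pullback.snd V.hom _))
  have : Smooth (F.obj W).hom := inferInstanceAs (Smooth (pullback.snd W.hom _))
  have : IsSeparated (F.obj W).hom := inferInstanceAs (IsSeparated (pullback.snd W.hom _))
  have : GeometricallyIntegral (F.obj W).hom :=
    inferInstanceAs (GeometricallyIntegral (pullback.snd W.hom _))
  have : IsProper (F.obj A).hom := inferInstanceAs (IsProper (pullback.snd A.hom _))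
  have : GeometricallyIntegral (F.obj A).hom :=
    inferInstanceAs (GeometricallyIntegral (pullback.snd A.hom _))
  have : IsIntegral (F.obj W).left := MaxAbelian.isIntegral_of_geometricallyIntegral
  have := RatExt.geometricallyIntegral_prod (F.obj W) (F.obj W)
  have hcom : (F.obj W ⊗ F.obj W).hom = pullback.fst (F.obj W).hom (F.obj W).hom ≫ (F.obj W).hom := rfl
  have : Smooth (F.obj W ⊗ F.obj W).hom := by rw [hcom]; infer_instance
  have : IsSeparated (F.obj W ⊗ F.obj W).hom := by rw [hcom]; infer_instance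
  let : GrpObj (F.obj A) := Functor.grpObjObj
  obtain ⟨w⟩ := exists_point (F.obj W)
  -- the transported map
  let f' : F.obj V ⊗ F.obj W ⟶ F.obj A := Functor.LaxMonoidal.μ F V W ≫ F.map f
  let v₀' : 𝟙_ _ ⟶ F.obj V := Functor.LaxMonoidal.ε F ≫ F.map v₀
  let h' : F.obj V ⊗ F.obj W ⟶ F.obj A :=
    f' * (snd (F.obj V) (F.obj W) ≫ lift (toUnit (F.obj W) ≫ v₀') (𝟙 (F.obj W)) ≫ f')⁻¹
  let d : F.obj V ⊗ (F.obj W ⊗ F.obj W) ⟶ F.obj A :=
    ((F.obj V ◁ fst (F.obj W) (F.obj W)) ≫ h') * ((F.obj V ◁ snd (F.obj W) (F.obj W)) ≫ h')⁻¹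
  have hd : d = 1 := by
    refine (RatProduct.eq_const (k := AlgebraicClosure K) v₀' (lift w w) 1 d ?_ ?_).trans (MonObj.comp_one _)
    · have e : lift (𝟙 (F.obj V)) (toUnit (F.obj V) ≫ lift w w) ≫ (F.obj V ◁ fst (F.obj W) (F.obj W)) =
          lift (𝟙 (F.obj V)) (toUnit (F.obj V) ≫ lift w w) ≫ (F.obj V ◁ snd (F.obj W) (F.obj W)) := by
        simp
      simp only [d, MonObj.comp_mul, GrpObj.comp_inv, reassoc_of% e, _root_.mul_inv_cancel, MonObj.comp_one]
    · have e : ∀ p : F.obj W ⊗ F.obj W ⟶ F.obj W,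
          lift (toUnit (F.obj W ⊗ F.obj W) ≫ v₀') (𝟙 _) ≫ (F.obj V ◁ p) =
            p ≫ lift (toUnit (F.obj W) ≫ v₀') (𝟙 _) := fun p => by ext <;> simp
      have e' : lift (toUnit (F.obj W) ≫ v₀') (𝟙 _) ≫ h' = 1 := by
        simp only [h', MonObj.comp_mul, GrpObj.comp_inv, lift_snd_assoc, Category.id_comp,
          _root_.mul_inv_cancel]
      simp only [d, MonObj.comp_mul, GrpObj.comp_inv, reassoc_of% e, e', MonObj.comp_one, inv_one, _root_.one_mul]
  have hh' : (F.obj V ◁ fst (F.obj W) (F.obj W)) ≫ h' = (F.obj V ◁ snd (F.obj W) (F.obj W)) ≫ h' :=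
    mul_inv_eq_one.1 hd
  have hμ : Functor.LaxMonoidal.μ F V W ≫ F.map (f * (snd V W ≫ lift (toUnit W ≫ v₀) (𝟙 W) ≫ f)⁻¹) = h' := by
    have e : lift (toUnit (F.obj W) ≫ v₀') (𝟙 (F.obj W)) ≫ Functor.LaxMonoidal.μ F V W =
        F.map (lift (toUnit W ≫ v₀) (𝟙 W)) := by
      rw [← Category.assoc (toUnit _), toUnit_ε, ← F.map_comp, ← F.map_id, lift_μ]
    simp only [h', f', Functor.map_mul, Functor.map_inv', MonObj.comp_mul, GrpObj.comp_inv,
      reassoc_of% e, Functor.map_comp, μ_snd_assoc]
  have hμ2 : ∀ p : W ⊗ W ⟶ W, (F.obj V ◁ Functor.LaxMonoidal.μ F W W) ≫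
      Functor.LaxMonoidal.μ F V (W ⊗ W) ≫ F.map (V ◁ p) =
        (F.obj V ◁ (Functor.LaxMonoidal.μ F W W ≫ F.map p)) ≫ Functor.LaxMonoidal.μ F V W := fun p => by
    rw [← Functor.LaxMonoidal.μ_natural_right, MonoidalCategory.whiskerLeft_comp_assoc]
  apply F.map_injective
  rw [← cancel_epi (μIso F V (W ⊗ W)).hom, ← cancel_epi (F.obj V ◁ (μIso F W W).hom)]
  simp only [μIso_hom, F.map_comp]
  rw [reassoc_of% (hμ2 (fst W W)), reassoc_of% (hμ2 (snd W W)), μ_fst, μ_snd, hμ]
  exact hh'

end Groth.Agent.H23.RatProductK
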