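import Groth.Agent.H23.RatSec
import Groth.Agent.KFlatLib.Scheme.PullTensor

/-! Flat pull-back commutes with the first Chern class cap. -/

set_option autoImplicit false
set_option linter.style.haveILetI false

universe u

open AlgebraicGeometry CategoryTheory TopologicalSpace Opposite IsLocalRing
open scoped TensorProduct

namespace Groth.Agent.H23.C1Pull

open Groth.Agent FiniteFibreSum FlatShift RatSec DivPull

variable {X X' : Scheme.{u}} (p : X' ⟶ X) (L : X.Modules)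

/-- The pullback of a stalk element. -/
noncomputable def pm (x' : X') (m : L.presheaf.stalk (p x')) :
    ((Scheme.Modules.pullback p).obj L).presheaf.stalk x' :=
  (KFlatLib.stalkPullbackIso p x').inv.app L
    (KFlatLib.u1 (p.stalkMap x').hom ((DerSch.stalkFunctor X (p x')).obj L) m)

theorem pm_smul (x' : X') (r : X.presheaf.stalk (p x')) (m : L.presheaf.stalk (p x')) :
    pm p L x' (r • m) = (p.stalkMap x').hom r • pm p L x' m := by
  refine Eq.trans (congrArg ((KFlatLib.stalkPullbackIso p x').inv.app L) ?_)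
    (((KFlatLib.stalkPullbackIso p x').inv.app L).hom.map_smul _ _)
  exact ((ModuleCat.extendRestrictScalarsAdj (p.stalkMap x').hom).unit.app
    ((DerSch.stalkFunctor X (p x')).obj L)).hom.map_smul r m

theorem pm_germ (x' : X') (U : X.Opens) (hx : p x' ∈ U) (s : Γ(L, U)) :
    pm p L x' (L.presheaf.germ U (p x') hx s) =
      ((Scheme.Modules.pullback p).obj L).presheaf.germ (p ⁻¹ᵁ U) x' hx (KFlatLib.pb p s) := by
  refine (congrArg ((KFlatLib.stalkPullbackIso p x').inv.app L)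
    (KFlatLib.stalkPullbackIso_gm p x' L U hx s).symm).trans ?_
  exact Iso.hom_inv_id_apply ((KFlatLib.stalkPullbackIso p x').app L) _

theorem pm_stalkSpecializes {z x' : X'} (hz : z ⤳ x') (m : L.presheaf.stalk (p x')) :
    pm p L z (L.presheaf.stalkSpecializes (hz.map p.continuous) m) =
      ((Scheme.Modules.pullback p).obj L).presheaf.stalkSpecializes hz (pm p L x' m) := by
  obtain ⟨U, hx, s, rfl⟩ := L.presheaf.germ_exist m
  rw [pm_germ, TopCat.Presheaf.germ_stalkSpecializes_apply, TopCat.Presheaf.germ_stalkSpecializes_apply, pm_germ]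

variable {p L}

theorem isGen_pm {x' : X'} {t : L.presheaf.stalk (p x')} (ht : IsGen t) : IsGen (pm p L x' t) := by
  let R := X.presheaf.stalk (p x')
  let S := X'.presheaf.stalk x'
  let M : ModuleCat R := (DerSch.stalkFunctor X (p x')).obj L
  let N : ModuleCat S := (ModuleCat.extendScalars (p.stalkMap x').hom).obj M
  let i := ((KFlatLib.stalkPullbackIso p x').app L).toLinearEquiv
  algebraize [(p.stalkMap x').hom]
  let e₀ : R ≃ₗ[R] M := LinearEquiv.ofBijective (LinearMap.toSpanSingleton R M t)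
    ⟨(injective_iff_map_eq_zero _).2 fun r hr => ht.2 r hr,
      fun m => Submodule.mem_span_singleton.1 (ht.1.ge (Submodule.mem_top : m ∈ ⊤))⟩
  let e : S ≃ₗ[S] S ⊗[R] M := (TensorProduct.AlgebraTensorModule.rid R S S).symm.trans
    (TensorProduct.AlgebraTensorModule.congr (LinearEquiv.refl S S) e₀)
  have he : ∀ a : S, e a = a • ((1 : S) ⊗ₜ[R] t) := fun a => by
    rw [TensorProduct.smul_tmul', smul_eq_mul, mul_one]
    simp [e, e₀]
    rfl
  have key : ∀ a : S, a • pm p L x' t = i.symm (e a) := fun a => by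
    rw [he]
    exact (i.symm.map_smul a _).symm
  refine ⟨eq_top_iff.2 fun m _ => Submodule.mem_span_singleton.2 ⟨e.symm (i m), ?_⟩, fun a ha => ?_⟩
  · rw [key, e.apply_symm_apply]
    exact i.symm_apply_apply m
  · rw [key] at ha
    exact e.map_eq_zero_iff.1 (i.symm.map_eq_zero_iff.1 ha)

variable (p L)

/-- Rational sections of the pullback. -/
noncomputable def vPull (v : (ξ : X) → Cyc.secFibre L ξ) (z : X') :
    Cyc.secFibre ((Scheme.Modules.pullback p).obj L) z :=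
  cls _ z (pm p L z (Classical.choose (Submodule.Quotient.mk_surjective _ (v (p z)))))

variable {p L}

theorem residue_stalkMap (z : X') (φ : X.presheaf.stalk (p z)) :
    X'.residue z ((p.stalkMap z).hom φ) = p.residueFieldMap z (X.residue (p z) φ) :=
  (congrArg (fun g : X.presheaf.stalk (p z) ⟶ X'.residueField z => g.hom φ) (Scheme.residue_residueFieldMap p z)).symm

theorem vPull_eq {v : (ξ : X) → Cyc.secFibre L ξ} {z : X'} {g : L.presheaf.stalk (p z)} (hg : IsGen g)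
    {φ : X.presheaf.stalk (p z)} (hv : v (p z) = φ • cls L (p z) g) :
    vPull p L v z = (p.stalkMap z).hom φ • cls _ z (pm p L z g) := by
  have hm := Classical.choose_spec (Submodule.Quotient.mk_surjective _ (v (p z)))
  obtain ⟨ψ, hψ⟩ := Submodule.mem_span_singleton.1 (hg.1.ge (Submodule.mem_top :
    Classical.choose (Submodule.Quotient.mk_surjective _ (v (p z))) ∈ ⊤))
  rw [vPull, ← hψ, pm_smul, cls_smul, cls_smul_eq_iff (isGen_pm hg), residue_stalkMap, residue_stalkMap]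
  refine congrArg _ ((cls_smul_eq_iff hg ψ φ).1 ?_)
  rw [← hv, ← cls_smul, hψ]
  exact hm

theorem vPull_ne_zero (hL : PicF.IsInvertible L) {v : (ξ : X) → Cyc.secFibre L ξ} (hv : ∀ ξ, v ξ ≠ 0)
    (z : X') : vPull p L v z ≠ 0 := by
  obtain ⟨g, hg, -⟩ := exists_gen hL (p z)
  obtain ⟨φ, hφ⟩ := exists_coord hg (v (p z))
  rw [vPull_eq hg hφ, ← residue_ne_zero (isGen_pm hg), residue_stalkMap]
  exact (map_ne_zero _).2 ((residue_ne_zero hg).2 (hφ ▸ hv _))

variable [IsLocallyNoetherian X] [IsLocallyNoetherian X'] {δ : X → ℤ} {δ' : X' → ℤ} {c : ℤ}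

theorem secDivFun_vPull (hL : PicF.IsInvertible L) (hL' : PicF.IsInvertible ((Scheme.Modules.pullback p).obj L))
    (hd' : Cyc.IsDimFun X' δ') {v : (ξ : X) → Cyc.secFibre L ξ} (hv : ∀ ξ, v ξ ≠ 0) {z x' : X'}
    (hz : z ⤳ x') {t : L.presheaf.stalk (p x')} (ht : IsGen t)
    (htz : IsGen (L.presheaf.stalkSpecializes (hz.map p.continuous) t)) {ξ : X} (hzξ : p z = ξ)
    (h : ξ ⤳ p x') {φ : X.presheaf.stalk ξ} (hφ : v ξ = φ • cls L ξ (L.presheaf.stalkSpecializes h t)) :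
    Cyc.secDivFun δ' ((Scheme.Modules.pullback p).obj L) z (vPull p L v z) x' =
      Cyc.divFun δ' z (pullRes p hzξ (X.residue ξ φ)) x' := by
  subst hzξ
  rw [pullRes_rfl, ← residue_stalkMap]
  refine secDivFun_eq hL' hd' hz (isGen_pm ht).1 ?_ ?_
  · rw [vPull_eq htz hφ, ← pm_stalkSpecializes]
  · rw [residue_stalkMap]
    exact (map_ne_zero _).2 ((residue_ne_zero htz).2 (hφ ▸ hv _))

variable [Flat p]

theorem pullFun_secDivFun (hL : PicF.IsInvertible L) (hL' : PicF.IsInvertible ((Scheme.Modules.pullback p).obj L))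
    (hc : HasShift p δ' δ c) (hd : Cyc.IsDimFun X δ) (hd' : Cyc.IsDimFun X' δ')
    {v : (ξ : X) → Cyc.secFibre L ξ} (hv : ∀ ξ, v ξ ≠ 0) (ξ : X) (x' : X') :
    Cyc.pullFun p δ' δ c (Cyc.secDivFun δ L ξ (v ξ)) x' =
      ∑ᶠ z ∈ {z : X' | p z = ξ ∧ FibDim.FibMax p z}, ((fibreLen p z).toNat : ℤ) *
        Cyc.secDivFun δ' ((Scheme.Modules.pullback p).obj L) z (vPull p L v z) x' := by
  classical
  by_cases h : ξ ⤳ p x'
  swap
  · rw [finsum_mem_eq_zero_of_forall_eq_zero fun z hz => by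
      rw [Cyc.secDivFun, dif_neg fun h' => h (hz.1 ▸ h'.1.map p.continuous), mul_zero]]
    simp [Cyc.pullFun, Cyc.secDivFun, h]
  obtain ⟨t, ht, ht'⟩ := exists_gen hL (p x')
  obtain ⟨φ, hφ⟩ := exists_coord (ht' ξ h) (v ξ)
  have hφ0 : X.residue ξ φ ≠ 0 := (residue_ne_zero (ht' ξ h)).2 (hφ ▸ hv ξ)
  have e : Cyc.pullFun p δ' δ c (Cyc.secDivFun δ L ξ (v ξ)) x' =
      Cyc.pullFun p δ' δ c (Cyc.divFun δ ξ (X.residue ξ φ)) x' := by
    simp only [Cyc.pullFun, secDivFun_eq hL hd h ht.1 hφ hφ0]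
  rw [e, pullFun_divFun p hc hd hd' hφ0 x']
  refine finsum_mem_congr rfl fun z hz => ?_
  rw [term, dif_pos hz.1]
  refine congrArg _ ?_
  by_cases hzx : z ⤳ x'
  · exact (secDivFun_vPull hL hL' hd' hv hzx ht (ht' _ _) hz.1 h hφ).symm
  · rw [Cyc.secDivFun, dif_neg fun h' => hzx h'.1, Cyc.divFun, dif_neg fun h' => hzx h'.1]

omit [IsLocallyNoetherian X] [Flat p] in
theorem pullFun_eq (hc : HasShift p δ' δ c) (hd' : Cyc.IsDimFun X' δ') (α : X → ℤ) (z : X') :
    Cyc.pullFun p δ' δ c α z =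
      haveI := Classical.propDecidable (FibDim.FibMax p z)
      if FibDim.FibMax p z then α (p z) * ((fibreLen p z).toNat : ℤ) else 0 := by
  classical
  by_cases hz : FibDim.FibMax p z
  · rw [Cyc.pullFun, if_pos (hc.eq_of_fibMax hz), if_pos hz]
    rfl
  · rw [Cyc.pullFun, if_neg fun h => hz (hc.fibMax_of_ge hd' h.ge), if_neg hz]

omit [Flat p] in
theorem locFin_pullFun (hc : HasShift p δ' δ c) (hd' : Cyc.IsDimFun X' δ') {α : X → ℤ}
    (hfin : ∀ z : X, ∃ U ∈ nhds z, (U ∩ Function.support α).Finite) (z : X') :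
    ∃ U ∈ nhds z, (U ∩ Function.support (Cyc.pullFun p δ' δ c α)).Finite := by
  classical
  obtain ⟨U, hU, hf⟩ := hfin (p z)
  obtain ⟨W, hWU, hWo, hzW⟩ := mem_nhds_iff.1 hU
  obtain ⟨V, hV, hzV, hVW⟩ := exists_isAffineOpen_mem_and_subset (x := z) (U := p ⁻¹ᵁ ⟨W, hWo⟩) hzW
  refine ⟨V, V.2.mem_nhds hzV, (hf.biUnion fun ξ _ => finite_gens_inter p ξ hV.isCompact).subset ?_⟩
  rintro y ⟨hyV, hy⟩
  rw [Function.mem_support, pullFun_eq hc hd'] at hy
  split_ifs at hy with hm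
  · exact Set.mem_biUnion (x := p y) ⟨hWU (hVW hyV), left_ne_zero_of_mul hy⟩ ⟨⟨rfl, hm⟩, hyV⟩
  · exact absurd rfl hy

theorem pullFun_c1CapFun (hL : PicF.IsInvertible L) (hL' : PicF.IsInvertible ((Scheme.Modules.pullback p).obj L))
    (hc : HasShift p δ' δ c) (hd : Cyc.IsDimFun X δ) (hd' : Cyc.IsDimFun X' δ') {α : X → ℤ}
    (hfin : ∀ z : X, ∃ U ∈ nhds z, (U ∩ Function.support α).Finite)
    {v : (ξ : X) → Cyc.secFibre L ξ} (hv : ∀ ξ, v ξ ≠ 0) :
    Cyc.pullFun p δ' δ c (Cyc.c1CapFun δ L α v) =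
      Cyc.c1CapFun δ' ((Scheme.Modules.pullback p).obj L) (Cyc.pullFun p δ' δ c α) (vPull p L v) := by
  classical
  funext x'
  let S : Set X := {ξ | α ξ ≠ 0 ∧ ξ ⤳ p x'}
  have hS : S.Finite := finite_specializing hfin (p x')
  let T : Set X' := ⋃ ξ ∈ S, {z : X' | p z = ξ ∧ FibDim.FibMax p z} ∩ {z | z ⤳ x'}
  obtain ⟨V, hV, hxV, -⟩ := exists_isAffineOpen_mem_and_subset (x := x') (U := (⊤ : X'.Opens)) trivial
  have hfinz : ∀ ξ, ({z : X' | p z = ξ ∧ FibDim.FibMax p z} ∩ {z | z ⤳ x'}).Finite := fun ξ =>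
    (finite_gens_inter p ξ hV.isCompact).subset fun z hz =>
      ⟨hz.1, show z ∈ (V : Set X') from Specializes.mem_open hz.2 V.2 hxV⟩
  have hT : T.Finite := hS.biUnion fun ξ _ => hfinz ξ
  let f : X' → ℤ := fun z => Cyc.pullFun p δ' δ c α z *
    Cyc.secDivFun δ' ((Scheme.Modules.pullback p).obj L) z (vPull p L v z) x'
  have hf : Function.support f ⊆ hT.toFinset := fun z hz => by
    have hzx : z ⤳ x' := by
      by_contra hn
      exact hz (show f z = 0 by simp [f, Cyc.secDivFun, hn])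
    have hz' := left_ne_zero_of_mul hz
    rw [pullFun_eq hc hd'] at hz'
    split_ifs at hz' with hm
    · exact hT.mem_toFinset.2 (Set.mem_biUnion (x := p z)
        ⟨left_ne_zero_of_mul hz', hzx.map p.continuous⟩ ⟨⟨rfl, hm⟩, hzx⟩)
    · exact absurd rfl hz'
  change Cyc.pullFun p δ' δ c (Cyc.c1CapFun δ L α v) x' = ∑ᶠ z, f z
  rw [finsum_eq_sum_of_support_subset f hf]
  have hlin : Cyc.pullFun p δ' δ c (Cyc.c1CapFun δ L α v) x' =
      ∑ ξ ∈ hS.toFinset, α ξ * Cyc.pullFun p δ' δ c (Cyc.secDivFun δ L ξ (v ξ)) x' := by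
    have e : ∀ y, y = p x' → Cyc.c1CapFun δ L α v y = ∑ ξ ∈ hS.toFinset, α ξ * Cyc.secDivFun δ L ξ (v ξ) y := by
      rintro y rfl
      refine finsum_eq_sum_of_support_subset _ fun ξ hξ => hS.mem_toFinset.2 ⟨left_ne_zero_of_mul hξ, ?_⟩
      by_contra hn
      exact hξ (by simp [Cyc.secDivFun, hn])
    simp only [Cyc.pullFun]
    split_ifs
    · rw [e _ rfl, Finset.sum_mul]
      exact Finset.sum_congr rfl fun ξ _ => mul_assoc _ _ _
    · simp
  rw [hlin, ← Finset.sum_fiberwise_of_maps_to (s := hT.toFinset) (t := hS.toFinset) (g := fun z => p z)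
    (fun z hz => by
      obtain ⟨ξ, hξ, ⟨⟨rfl, -⟩, -⟩⟩ := Set.mem_iUnion₂.1 (hT.mem_toFinset.1 hz)
      exact hS.mem_toFinset.2 hξ) f]
  refine Finset.sum_congr rfl fun ξ hξ => ?_
  rw [pullFun_secDivFun hL hL' hc hd hd' hv ξ x',
    finsum_mem_eq_sum_of_inter_support_eq (t := hT.toFinset.filter fun z => p z = ξ), Finset.mul_sum]
  · refine Finset.sum_congr rfl fun z hz => ?_
    obtain ⟨hzT, rfl⟩ := Finset.mem_filter.1 hz
    obtain ⟨ξ', -, ⟨⟨-, hm⟩, -⟩⟩ := Set.mem_iUnion₂.1 (hT.mem_toFinset.1 hzT)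
    simp only [f, pullFun_eq hc hd', if_pos hm]
    ring
  · ext z
    simp only [Set.mem_inter_iff, Function.mem_support, Finset.coe_filter, Set.mem_setOf_eq, Set.Finite.mem_toFinset]
    constructor
    · rintro ⟨⟨hzξ, hm⟩, h0⟩
      have hzx : z ⤳ x' := by
        by_contra hn
        exact h0 (by simp [Cyc.secDivFun, hn])
      exact ⟨⟨Set.mem_biUnion (hS.mem_toFinset.1 hξ) ⟨⟨hzξ, hm⟩, hzx⟩, hzξ⟩, h0⟩
    · rintro ⟨⟨hzT, hzξ⟩, h0⟩
      obtain ⟨ξ', -, ⟨⟨-, hm⟩, -⟩⟩ := Set.mem_iUnion₂.1 hzT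
      exact ⟨⟨hzξ, hm⟩, h0⟩

theorem ratEquiv_pull (hL : PicF.IsInvertible L) (hL' : PicF.IsInvertible ((Scheme.Modules.pullback p).obj L))
    (hc : HasShift p δ' δ c) (hd : Cyc.IsDimFun X δ) (hd' : Cyc.IsDimFun X' δ') {k : ℤ} (α : AlgebraicCycle X ℤ)
    (hα : α ∈ Cyc.Zk X δ k) {v : (ξ : X) → Cyc.secFibre L ξ} (hv : ∀ ξ, v ξ ≠ 0)
    {u : (ξ : X') → Cyc.secFibre ((Scheme.Modules.pullback p).obj L) ξ} (hu : ∀ ξ, u ξ ≠ 0)
    {γ₁ γ₂ : AlgebraicCycle X' ℤ} (h₁ : ⇑γ₁ = Cyc.pullFun p δ' δ c (Cyc.c1CapFun δ L ⇑α v))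
    (h₂ : ⇑γ₂ = Cyc.c1CapFun δ' ((Scheme.Modules.pullback p).obj L) (Cyc.pullFun p δ' δ c ⇑α) u) :
    Cyc.RatEquiv δ' (k + c - 1) γ₁ γ₂ := by
  classical
  have hfin : ∀ z : X, ∃ U ∈ nhds z, (U ∩ Function.support ⇑α).Finite := fun z => by
    obtain ⟨U, hU, hf⟩ := α.supportLocallyFiniteWithinDomain' z (Set.mem_univ z)
    exact ⟨U, hU, hf⟩
  refine ratEquiv_c1Cap hL' hd' (fun z hz => ?_) (locFin_pullFun hc hd' hfin) (vPull_ne_zero hL hv) hu
    (h₁.trans (pullFun_c1CapFun hL hL' hc hd hd' hfin hv)) h₂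
  rw [pullFun_eq hc hd']
  split_ifs with hm
  · have h0 : α (p z) = 0 := by
      by_contra h0
      have hk : δ (p z) = k := by_contra fun hne => h0 (hα (p z) hne)
      exact hz (by rw [hc.eq_of_fibMax hm, hk]; ring)
    rw [h0, zero_mul]
  · rfl

end Groth.Agent.H23.C1Pull
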