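import Groth.Agent.H23.RatSec

/-! Transport of rational sections along isomorphisms of modules. -/

set_option autoImplicit false
set_option linter.style.haveILetI false

universe u

open AlgebraicGeometry CategoryTheory IsLocalRing

namespace Groth.Agent.H23.RatSec

open Groth.Agent

variable {X : Scheme.{u}} {L L' : X.Modules} (e : L ≅ L')

/-- The map of stalks of an isomorphism. -/
noncomputable def stalkIso (x : X) : L.presheaf.stalk x ≃ₗ[X.presheaf.stalk x] L'.presheaf.stalk x :=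
  ((DerSch.stalkFunctor X x).mapIso e).toLinearEquiv

theorem stalkIso_germ (x : X) (U : X.Opens) (hx : x ∈ U) (s : Γ(L, U)) :
    stalkIso e x (L.presheaf.germ U x hx s) = L'.presheaf.germ U x hx (e.hom.app U s) :=
  DerSch.stalkFunctor_map_germ x e.hom U hx s

theorem stalkIso_stalkSpecializes {ξ x : X} (h : ξ ⤳ x) (m : L.presheaf.stalk x) :
    stalkIso e ξ (L.presheaf.stalkSpecializes h m) = L'.presheaf.stalkSpecializes h (stalkIso e x m) := by
  obtain ⟨U, hx, s, rfl⟩ := L.presheaf.germ_exist m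
  rw [TopCat.Presheaf.germ_stalkSpecializes_apply, stalkIso_germ, stalkIso_germ,
    TopCat.Presheaf.germ_stalkSpecializes_apply]

theorem IsGen.map_iso {x : X} {t : L.presheaf.stalk x} (ht : IsGen t) : IsGen (stalkIso e x t) := by
  refine ⟨eq_top_iff.2 fun m _ => ?_, fun a ha => ht.2 a ((stalkIso e x).injective (by rw [map_smul, ha, map_zero]))⟩
  obtain ⟨a, ha⟩ := Submodule.mem_span_singleton.1 (ht.1.ge (Submodule.mem_top : (stalkIso e x).symm m ∈ ⊤))
  exact Submodule.mem_span_singleton.2 ⟨a, by rw [← map_smul, ha, LinearEquiv.apply_symm_apply]⟩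

/-- Transport of a rational section. -/
noncomputable def mapSec (ξ : X) : Cyc.secFibre L ξ ≃ₗ[X.presheaf.stalk ξ] Cyc.secFibre L' ξ :=
  Submodule.Quotient.equiv _ _ (stalkIso e ξ) (by
    rw [Submodule.map_smul'', Submodule.map_top, LinearEquiv.range])

theorem mapSec_cls (ξ : X) (m : L.presheaf.stalk ξ) : mapSec e ξ (cls L ξ m) = cls L' ξ (stalkIso e ξ m) := rfl

theorem mapSec_ne_zero {v : (ξ : X) → Cyc.secFibre L ξ} (hv : ∀ ξ, v ξ ≠ 0) (ξ : X) : mapSec e ξ (v ξ) ≠ 0 :=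
  fun h => hv ξ ((mapSec e ξ).injective (h.trans (map_zero _).symm))

variable [IsLocallyNoetherian X] {δ : X → ℤ}

theorem secDivFun_mapSec (hL : PicF.IsInvertible L) (hL' : PicF.IsInvertible L') (hd : Cyc.IsDimFun X δ) {ξ : X}
    {v : Cyc.secFibre L ξ} (hv : v ≠ 0) :
    Cyc.secDivFun δ L' ξ (mapSec e ξ v) = Cyc.secDivFun δ L ξ v := by
  classical
  funext x
  by_cases h : ξ ⤳ x
  swap
  · simp [Cyc.secDivFun, h]
  obtain ⟨t, ht, ht'⟩ := exists_gen hL x
  obtain ⟨φ, hφ⟩ := exists_coord (ht' ξ h) v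
  have hφ0 : X.residue ξ φ ≠ 0 := (residue_ne_zero (ht' ξ h)).2 (hφ ▸ hv)
  rw [secDivFun_eq hL hd h ht.1 hφ hφ0, secDivFun_eq hL' hd h (ht.map_iso e).1 ?_ hφ0]
  rw [hφ, map_smul, mapSec_cls, stalkIso_stalkSpecializes]

theorem c1CapFun_mapSec (hL : PicF.IsInvertible L) (hL' : PicF.IsInvertible L') (hd : Cyc.IsDimFun X δ) (α : X → ℤ)
    {v : (ξ : X) → Cyc.secFibre L ξ} (hv : ∀ ξ, v ξ ≠ 0) :
    Cyc.c1CapFun δ L' α (fun ξ => mapSec e ξ (v ξ)) = Cyc.c1CapFun δ L α v := by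
  funext x
  exact finsum_congr fun ξ => by rw [secDivFun_mapSec e hL hL' hd (hv ξ)]

omit [IsLocallyNoetherian X] in
theorem exists_sections (hL : PicF.IsInvertible L) : ∃ v : (ξ : X) → Cyc.secFibre L ξ, ∀ ξ, v ξ ≠ 0 := by
  choose t ht _ using exists_gen hL
  refine ⟨fun ξ => (1 : X.presheaf.stalk ξ) • cls L ξ (t ξ), fun ξ => ?_⟩
  rw [← residue_ne_zero (ht ξ), map_one]
  exact one_ne_zero

omit [IsLocallyNoetherian X] in
/-- Transport of a zero scheme. -/
theorem isZeroSchemeOf_mapIso {D : Scheme.{u}} {i : D ⟶ X} {s : L.presheaf.obj (Opposite.op ⊤)}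
    (hD : Cyc.IsZeroSchemeOf i L s) : Cyc.IsZeroSchemeOf i L' (e.hom.app ⊤ s) := by
  refine ⟨hD.1.trans (Set.ext fun x => ?_), fun d => ?_⟩
  · show cls L x _ = 0 ↔ cls L' x _ = 0
    rw [← stalkIso_germ, ← mapSec_cls]
    exact (map_eq_zero_iff (mapSec e x) (mapSec e x).injective).symm
  · obtain ⟨t, f, ht, hs, hk⟩ := hD.2 d
    refine ⟨stalkIso e _ t, f, eq_top_iff.2 fun m _ => ?_, ?_, hk⟩
    · obtain ⟨a, ha⟩ := Submodule.mem_span_singleton.1 (ht.ge (Submodule.mem_top : (stalkIso e _).symm m ∈ ⊤))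
      exact Submodule.mem_span_singleton.2 ⟨a, by rw [← map_smul, ha, LinearEquiv.apply_symm_apply]⟩
    · rw [← map_smul, ← hs, stalkIso_germ]

omit [IsLocallyNoetherian X] in
theorem mapSec_gysinChoice (s : L.presheaf.obj (Opposite.op ⊤)) (w : (ξ : X) → Cyc.secFibre L ξ) (ξ : X) :
    mapSec e ξ (Cyc.gysinChoice L s w ξ) =
      Cyc.gysinChoice L' (e.hom.app ⊤ s) (fun ξ => mapSec e ξ (w ξ)) ξ := by
  classical
  have h : mapSec e ξ (cls L ξ (L.presheaf.germ ⊤ ξ trivial s)) =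
      cls L' ξ (L'.presheaf.germ ⊤ ξ trivial (e.hom.app ⊤ s)) := by
    rw [mapSec_cls, stalkIso_germ]
  by_cases h0 : cls L ξ (L.presheaf.germ ⊤ ξ trivial s) = 0
  · rw [show Cyc.gysinChoice L s w ξ = w ξ from if_neg (not_not_intro h0),
      show Cyc.gysinChoice L' (e.hom.app ⊤ s) (fun ξ => mapSec e ξ (w ξ)) ξ = mapSec e ξ (w ξ) from
        if_neg (not_not_intro (by rw [← show _ = Submodule.Quotient.mk _ from h, h0, map_zero]))]
  · rw [show Cyc.gysinChoice L s w ξ = cls L ξ (L.presheaf.germ ⊤ ξ trivial s) from if_pos h0, h]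
    refine (if_pos fun h' => h0 ((mapSec e ξ).injective ?_)).symm
    rw [h, map_zero]
    exact h'

end Groth.Agent.H23.RatSec
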