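import Groth.Agent.H23.RatSec
import Groth.Agent.KFlatLib.Scheme.PullTensor
import Groth.Agent.InvX.Tensor

/-! Rational sections of tensor products. -/

set_option autoImplicit false
set_option linter.style.haveILetI false

universe u

open AlgebraicGeometry CategoryTheory TopologicalSpace Opposite MonoidalCategory
open scoped TensorProduct

namespace Groth.Agent.H23.RatSecTensor

open Groth.Agent RatSec

variable {X : Scheme.{u}} {L N : X.Modules}

/-- The product of two stalk elements. -/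
noncomputable def tm (x : X) (a : L.presheaf.stalk x) (b : N.presheaf.stalk x) :
    (CohB1.tensorMod L N).presheaf.stalk x :=
  (KFlatLib.stalkTensorIso x L N).hom
    ((a : ((DerSch.stalkFunctor X x).obj L : Type u)) ⊗ₜ[X.presheaf.stalk x]
      (b : ((DerSch.stalkFunctor X x).obj N : Type u)))

theorem tm_smul_smul (x : X) (r r' : X.presheaf.stalk x) (a : L.presheaf.stalk x) (b : N.presheaf.stalk x) :
    tm x (r • a) (r' • b) = (r * r') • tm x a b := by
  refine Eq.trans (congrArg (KFlatLib.stalkTensorIso x L N).hom ?_)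
    ((KFlatLib.stalkTensorIso x L N).hom.hom.map_smul (r * r') _)
  exact TensorProduct.smul_tmul_smul r r' (a : ((DerSch.stalkFunctor X x).obj L : Type u))
    (b : ((DerSch.stalkFunctor X x).obj N : Type u))

theorem tm_germ (x : X) (U : X.Opens) (hx : x ∈ U) (s : Γ(L, U)) (t : Γ(N, U)) :
    tm x (L.presheaf.germ U x hx s) (N.presheaf.germ U x hx t) =
      (CohB1.tensorMod L N).presheaf.germ U x hx (KFlatLib.tmSh L N s t) :=
  KFlatLib.stalkTensorIso_gm L N U hx s t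

theorem tm_stalkSpecializes {z x : X} (h : z ⤳ x) (a : L.presheaf.stalk x) (b : N.presheaf.stalk x) :
    tm z (L.presheaf.stalkSpecializes h a) (N.presheaf.stalkSpecializes h b) =
      (CohB1.tensorMod L N).presheaf.stalkSpecializes h (tm x a b) := by
  obtain ⟨W, hW, s, t, rfl, rfl⟩ := KFlatLib.exists_germP_pair (P := DCoh.toP.obj L) (Q := DCoh.toP.obj N) a b
  change tm z (L.presheaf.stalkSpecializes h (L.presheaf.germ W x hW s))
    (N.presheaf.stalkSpecializes h (N.presheaf.germ W x hW t)) =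
    (CohB1.tensorMod L N).presheaf.stalkSpecializes h (tm x (L.presheaf.germ W x hW s) (N.presheaf.germ W x hW t))
  rw [TopCat.Presheaf.germ_stalkSpecializes_apply, TopCat.Presheaf.germ_stalkSpecializes_apply, tm_germ, tm_germ,
    TopCat.Presheaf.germ_stalkSpecializes_apply]

theorem isGen_tm {x : X} {a : L.presheaf.stalk x} {b : N.presheaf.stalk x} (ha : IsGen a) (hb : IsGen b) :
    IsGen (tm x a b) := by
  let R := X.presheaf.stalk x
  let ML : ModuleCat R := (DerSch.stalkFunctor X x).obj L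
  let MN : ModuleCat R := (DerSch.stalkFunctor X x).obj N
  let eL : R ≃ₗ[R] ML := LinearEquiv.ofBijective (LinearMap.toSpanSingleton R ML a)
    ⟨(injective_iff_map_eq_zero _).2 fun r hr => ha.2 r hr,
      fun m => Submodule.mem_span_singleton.1 (ha.1.ge (Submodule.mem_top : m ∈ ⊤))⟩
  let eN : R ≃ₗ[R] MN := LinearEquiv.ofBijective (LinearMap.toSpanSingleton R MN b)
    ⟨(injective_iff_map_eq_zero _).2 fun r hr => hb.2 r hr,
      fun m => Submodule.mem_span_singleton.1 (hb.1.ge (Submodule.mem_top : m ∈ ⊤))⟩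
  let i := (KFlatLib.stalkTensorIso x L N).toLinearEquiv
  let e := (TensorProduct.lid R R).symm.trans (TensorProduct.congr eL eN)
  have key : ∀ r : R, r • tm x a b = i (e r) := fun r => by
    refine (i.map_smul r _).symm.trans (congrArg i ?_)
    simp [e, eL, eN, TensorProduct.smul_tmul']
    rfl
  refine ⟨eq_top_iff.2 fun m _ => Submodule.mem_span_singleton.2 ⟨e.symm (i.symm m), ?_⟩, fun r hr => ?_⟩
  · rw [key, e.apply_symm_apply]
    exact i.apply_symm_apply m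
  · rw [key] at hr
    exact e.map_eq_zero_iff.1 (i.map_eq_zero_iff.1 hr)

/-- A representative of an element of the fibre. -/
noncomputable def rep {ξ : X} (s : Cyc.secFibre L ξ) : L.presheaf.stalk ξ :=
  Classical.choose (Submodule.Quotient.mk_surjective _ s)

/-- The product of two rational sections. -/
noncomputable def vTensor (sL : (ξ : X) → Cyc.secFibre L ξ) (sN : (ξ : X) → Cyc.secFibre N ξ) (ξ : X) :
    Cyc.secFibre (CohB1.tensorMod L N) ξ :=
  cls _ ξ (tm ξ (rep (sL ξ)) (rep (sN ξ)))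

theorem exists_rep {ξ : X} {g : L.presheaf.stalk ξ} (hg : IsGen g) {s : Cyc.secFibre L ξ}
    {φ : X.presheaf.stalk ξ} (hs : s = φ • cls L ξ g) :
    ∃ φ' : X.presheaf.stalk ξ, rep s = φ' • g ∧ X.residue ξ φ' = X.residue ξ φ := by
  obtain ⟨φ', hφ'⟩ := Submodule.mem_span_singleton.1 (hg.1.ge (Submodule.mem_top : rep s ∈ ⊤))
  refine ⟨φ', hφ'.symm, (cls_smul_eq_iff hg φ' φ).1 ?_⟩
  rw [← hs, ← cls_smul, hφ']
  exact Classical.choose_spec (Submodule.Quotient.mk_surjective _ s)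

theorem vTensor_eq {sL : (ξ : X) → Cyc.secFibre L ξ} {sN : (ξ : X) → Cyc.secFibre N ξ} {ξ : X}
    {g : L.presheaf.stalk ξ} (hg : IsGen g) {g' : N.presheaf.stalk ξ} (hg' : IsGen g') {φ ψ : X.presheaf.stalk ξ}
    (hφ : sL ξ = φ • cls L ξ g) (hψ : sN ξ = ψ • cls N ξ g') :
    vTensor sL sN ξ = (φ * ψ) • cls _ ξ (tm ξ g g') := by
  obtain ⟨φ', h1, h1'⟩ := exists_rep hg hφ
  obtain ⟨ψ', h2, h2'⟩ := exists_rep hg' hψ
  rw [vTensor, h1, h2, tm_smul_smul, cls_smul, cls_smul_eq_iff (isGen_tm hg hg'), map_mul, map_mul, h1', h2']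

variable (hL : PicF.IsInvertible L) (hN : PicF.IsInvertible N)
include hL hN

theorem vTensor_ne_zero {sL : (ξ : X) → Cyc.secFibre L ξ} (hsL : ∀ ξ, sL ξ ≠ 0)
    {sN : (ξ : X) → Cyc.secFibre N ξ} (hsN : ∀ ξ, sN ξ ≠ 0) (ξ : X) : vTensor sL sN ξ ≠ 0 := by
  obtain ⟨g, hg, -⟩ := exists_gen hL ξ
  obtain ⟨g', hg', -⟩ := exists_gen hN ξ
  obtain ⟨φ, hφ⟩ := exists_coord hg (sL ξ)
  obtain ⟨ψ, hψ⟩ := exists_coord hg' (sN ξ)
  rw [vTensor_eq hg hg' hφ hψ, ← residue_ne_zero (isGen_tm hg hg'), map_mul]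
  exact mul_ne_zero ((residue_ne_zero hg).2 (hφ ▸ hsL _)) ((residue_ne_zero hg').2 (hψ ▸ hsN _))

variable [IsLocallyNoetherian X] {δ : X → ℤ}

theorem secDivFun_vTensor (hd : Cyc.IsDimFun X δ) {sL : (ξ : X) → Cyc.secFibre L ξ} (hsL : ∀ ξ, sL ξ ≠ 0)
    {sN : (ξ : X) → Cyc.secFibre N ξ} (hsN : ∀ ξ, sN ξ ≠ 0) (ξ : X) :
    Cyc.secDivFun δ (CohB1.tensorMod L N) ξ (vTensor sL sN ξ) =
      Cyc.secDivFun δ L ξ (sL ξ) + Cyc.secDivFun δ N ξ (sN ξ) := by
  classical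
  funext x
  by_cases h : ξ ⤳ x
  swap
  · simp [Cyc.secDivFun, h]
  obtain ⟨t, ht, ht'⟩ := exists_gen hL x
  obtain ⟨t', hu, hu'⟩ := exists_gen hN x
  obtain ⟨φ, hφ⟩ := exists_coord (ht' ξ h) (sL ξ)
  obtain ⟨ψ, hψ⟩ := exists_coord (hu' ξ h) (sN ξ)
  have hφ0 : X.residue ξ φ ≠ 0 := (residue_ne_zero (ht' ξ h)).2 (hφ ▸ hsL ξ)
  have hψ0 : X.residue ξ ψ ≠ 0 := (residue_ne_zero (hu' ξ h)).2 (hψ ▸ hsN ξ)
  have hT : PicF.IsInvertible (CohB1.tensorMod L N) := InvX.isInvertible_tensorMod hL hN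
  rw [Pi.add_apply, secDivFun_eq hT hd h (isGen_tm ht hu).1 (φ := φ * ψ)
    (by rw [vTensor_eq (ht' ξ h) (hu' ξ h) hφ hψ, tm_stalkSpecializes])
    (by rw [map_mul]; exact mul_ne_zero hφ0 hψ0), secDivFun_eq hL hd h ht.1 hφ hφ0,
    secDivFun_eq hN hd h hu.1 hψ hψ0, map_mul, CycLib.divFun_mul hd hφ0 hψ0, Pi.add_apply]

/-- The cap is additive in the line bundle. -/
theorem ratEquiv_c1Cap_tensor (hd : Cyc.IsDimFun X δ) {α : X → ℤ} {k : ℤ} (hα : ∀ ξ, δ ξ ≠ k + 1 → α ξ = 0)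
    (hfin : ∀ z : X, ∃ U ∈ nhds z, (U ∩ Function.support α).Finite)
    {sL : (ξ : X) → Cyc.secFibre L ξ} (hsL : ∀ ξ, sL ξ ≠ 0) {sN : (ξ : X) → Cyc.secFibre N ξ}
    (hsN : ∀ ξ, sN ξ ≠ 0) {sT : (ξ : X) → Cyc.secFibre (CohB1.tensorMod L N) ξ} (hsT : ∀ ξ, sT ξ ≠ 0)
    {γL γN γT : AlgebraicCycle X ℤ} (hγL : ⇑γL = Cyc.c1CapFun δ L α sL) (hγN : ⇑γN = Cyc.c1CapFun δ N α sN)
    (hγT : ⇑γT = Cyc.c1CapFun δ (CohB1.tensorMod L N) α sT) : Cyc.RatEquiv δ k (γL + γN) γT := by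
  refine ratEquiv_c1Cap (InvX.isInvertible_tensorMod hL hN) hd hα hfin (vTensor_ne_zero hL hN hsL hsN) hsT ?_ hγT
  funext x
  rw [Function.locallyFinsuppWithin.coe_add, Pi.add_apply, congrFun hγL x, congrFun hγN x]
  simp only [Cyc.c1CapFun]
  rw [← finsum_add_distrib (finite_support_c1Cap hfin sL x) (finite_support_c1Cap hfin sN x)]
  exact finsum_congr fun ξ => by rw [secDivFun_vTensor hL hN hd hsL hsN ξ, Pi.add_apply, mul_add]

end Groth.Agent.H23.RatSecTensor
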