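import Groth.Agent.CycLib.Pull
import Groth.Agent.FibDim.Comp
import Groth.Agent.KFlatLib.Scheme.Pullback
import Mathlib.RingTheory.LocalRing.Length

/-! Flat morphisms (not nec. of finite type) with a shift of dimension functions at fibre-maximal points. -/

set_option autoImplicit false

universe u

open AlgebraicGeometry CategoryTheory

namespace Groth.Agent.H23.FlatShift

open Groth.Agent

variable {X Y Z : Scheme.{u}}

/-- `δX` is `δY + c` at maximal points of fibres. -/
def HasShift (f : X ⟶ Y) (δX : X → ℤ) (δY : Y → ℤ) (c : ℤ) : Prop :=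
  ∀ x : X, (∀ y, f y = f x → y ⤳ x → y = x) → δX x = δY (f x) + c

theorem fibMax_iff (f : X ⟶ Y) (x : X) : FibDim.FibMax f x ↔ ∀ y, f y = f x → y ⤳ x → y = x :=
  ⟨fun h y e s => h y s e, fun h y s e => h y e s⟩

theorem exists_fibMax_gen (f : X ⟶ Y) (x : X) : ∃ z, z ⤳ x ∧ f z = f x ∧ FibDim.FibMax f z := by
  obtain ⟨η, hη, hmax⟩ := FibDim.exists_maximal_generization (f.asFiber x)
  refine ⟨f.fiberι (f x) η, ?_, FibDim.fiber_apply_fiberι f η, (FibDim.fibMax_fiberι_iff f η).2 hmax⟩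
  have := hη.map (f.fiberι (f x)).continuous
  rwa [Scheme.Hom.fiberι_asFiber] at this

variable {f : X ⟶ Y} {δX : X → ℤ} {δY : Y → ℤ} {c : ℤ}

theorem HasShift.eq_of_fibMax (h : HasShift f δX δY c) {x : X} (hx : FibDim.FibMax f x) :
    δX x = δY (f x) + c := h x ((fibMax_iff f x).1 hx)

theorem HasShift.le (h : HasShift f δX δY c) (hd : Cyc.IsDimFun X δX) (x : X) :
    δX x ≤ δY (f x) + c := by
  obtain ⟨z, hz, e, hmax⟩ := exists_fibMax_gen f x
  have h1 := h.eq_of_fibMax hmax
  rw [e] at h1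
  exact (CycLib.delta_le hd hz).trans h1.le

theorem HasShift.fibMax_of_ge (h : HasShift f δX δY c) (hd : Cyc.IsDimFun X δX) {x : X}
    (hx : δY (f x) + c ≤ δX x) : FibDim.FibMax f x := by
  obtain ⟨z, hz, e, hmax⟩ := exists_fibMax_gen f x
  have h1 := h.eq_of_fibMax hmax
  rw [e] at h1
  rw [← CycLib.eq_of_delta_le hd hz (h1 ▸ hx)]
  exact hmax

theorem fibMax_comp [Flat f] (g : Y ⟶ Z) {x : X} (hx : FibDim.FibMax (f ≫ g) x) :
    FibDim.FibMax f x ∧ FibDim.FibMax g (f x) := by
  refine ⟨fun z hz e => hx z hz (by rw [Scheme.Hom.comp_apply, e, Scheme.Hom.comp_apply]), fun w hw e => ?_⟩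
  obtain ⟨z, hz, rfl⟩ := CycLib.exists_generization f hw
  rw [hx z hz (by rw [Scheme.Hom.comp_apply, e, Scheme.Hom.comp_apply])]

theorem HasShift.comp [Flat f] (h : HasShift f δX δY c) {g : Y ⟶ Z} {δZ : Z → ℤ} {c' : ℤ}
    (h' : HasShift g δY δZ c') : HasShift (f ≫ g) δX δZ (c' + c) := fun x hx => by
  obtain ⟨h1, h2⟩ := fibMax_comp g ((fibMax_iff (f ≫ g) x).2 hx)
  rw [h.eq_of_fibMax h1, h'.eq_of_fibMax h2, Scheme.Hom.comp_apply]
  ring

/-- Composition of pull-backs, given only upper bounds on the dimension functions. -/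
theorem pullFun_comp_of_le (f : X ⟶ Y) (g : Y ⟶ Z) [Flat f] (δX : X → ℤ) (δY : Y → ℤ) (δZ : Z → ℤ)
    {r s : ℤ} (hf : ∀ x, δX x ≤ δY (f x) + r) (hg : ∀ y, δY y ≤ δZ (g y) + s) (α : Z → ℤ) :
    Cyc.pullFun f δX δY r (Cyc.pullFun g δY δZ s α) = Cyc.pullFun (f ≫ g) δX δZ (s + r) α := by
  funext x
  have h1 := hf x
  have h2 := hg (f x)
  simp only [Cyc.pullFun]
  rw [show δZ ((f ≫ g) x) = δZ (g (f x)) from rfl, show α ((f ≫ g) x) = α (g (f x)) from rfl,
    CycLib.length_fibre_comp f g x, ENat.toNat_mul]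
  split_ifs with a b c c <;> first | (exfalso; omega) | (push_cast; ring) | simp

theorem le_of_hasRelDim (f : X ⟶ Y) [LocallyOfFiniteType f] {r : ℕ} (hr : Cyc.HasRelDim f r)
    (hδ : Cyc.DeltaCompat f δX δY) (x : X) : δX x ≤ δY (f x) + r := by
  have h1 := CycLib.rd_le_of_hasRelDim f hr x
  rw [CycLib.deltaCompat_eq f hδ x]
  omega

theorem hasShift_of_hasRelDim (f : X ⟶ Y) [LocallyOfFiniteType f] {r : ℕ} (hr : Cyc.HasRelDim f r)
    (hδ : Cyc.DeltaCompat f δX δY) : HasShift f δX δY r := fun x hx => by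
  rw [CycLib.deltaCompat_eq f hδ x, CycLib.rd_eq_of_hasRelDim f hr ((fibMax_iff f x).2 hx)]

section Sheaf

open scoped TensorProduct

/-- Length of a stalk of a flat pull-back. -/
theorem length_stalk_pullback (f : X ⟶ Y) [Flat f] (F : Y.Modules) (x : X) :
    Module.length (X.presheaf.stalk x) (((Scheme.Modules.pullback f).obj F).presheaf.stalk x) =
      Module.length (Y.presheaf.stalk (f x)) (F.presheaf.stalk (f x)) *
      Module.length (X.presheaf.stalk x) (X.presheaf.stalk x ⧸ Ideal.map (f.stalkMap x).hom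
        (IsLocalRing.maximalIdeal (Y.presheaf.stalk (f x)))) := by
  have hflat : (f.stalkMap x).hom.Flat := Flat.stalkMap f x
  have e := ((KFlatLib.stalkPullbackIso f x).app F).toLinearEquiv
  refine e.length_eq.trans ?_
  algebraize [(f.stalkMap x).hom]
  haveI : IsLocalHom (algebraMap (Y.presheaf.stalk (f x)) (X.presheaf.stalk x)) :=
    inferInstanceAs <| IsLocalHom (f.stalkMap x).hom
  exact IsLocalRing.length_baseChange (Y.presheaf.stalk (f x)) (X.presheaf.stalk x)
    ((DerSch.stalkFunctor Y (f x)).obj F)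

theorem nontrivial_of_pullback (f : X ⟶ Y) [Flat f] (F : Y.Modules) (x : X)
    (h : Nontrivial (((Scheme.Modules.pullback f).obj F).presheaf.stalk x)) :
    Nontrivial (F.presheaf.stalk (f x)) := by
  have := length_stalk_pullback f F x
  by_contra hn
  rw [not_nontrivial_iff_subsingleton] at hn
  rw [Module.length_eq_zero (R := Y.presheaf.stalk (f x)) (M := F.presheaf.stalk (f x)), zero_mul,
    Module.length_eq_zero_iff] at this
  exact not_subsingleton _ this

/-- Flat pull-back of the cycle of a sheaf. -/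
theorem sheafFun_pullback (f : X ⟶ Y) [Flat f] (δX : X → ℤ) (δY : Y → ℤ) {c : ℤ}
    (hf : ∀ x, δX x ≤ δY (f x) + c) (k : ℤ) (F : Y.Modules)
    (hdim : ∀ y : Y, Nontrivial (F.presheaf.stalk y) → δY y ≤ k) :
    (∀ x : X, Nontrivial (((Scheme.Modules.pullback f).obj F).presheaf.stalk x) → δX x ≤ k + c) ∧
      Cyc.pullFun f δX δY c (Cyc.sheafFun δY k F) =
        Cyc.sheafFun δX (k + c) ((Scheme.Modules.pullback f).obj F) := by
  refine ⟨fun x hx => ?_, funext fun x => ?_⟩
  · have := hdim _ (nontrivial_of_pullback f F x hx)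
    have := hf x
    omega
  · have h1 := hf x
    simp only [Cyc.pullFun, Cyc.sheafFun]
    rw [length_stalk_pullback f F x, ENat.toNat_mul]
    rcases subsingleton_or_nontrivial (F.presheaf.stalk (f x)) with hs | hs
    · rw [Module.length_eq_zero]
      simp
    have h2 := hdim _ hs
    split_ifs with a b b <;> first | (exfalso; omega) | (push_cast; ring) | simp

end Sheaf

end Groth.Agent.H23.FlatShift
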