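import Groth.Agent.H23.RatSec

/-! The cap with the first Chern class is a cycle. -/

set_option autoImplicit false
set_option linter.style.haveILetI false

universe u

open AlgebraicGeometry CategoryTheory TopologicalSpace Opposite

namespace Groth.Agent.H23.RatSec

open Groth.Agent

variable {X : Scheme.{u}} {L : X.Modules} [IsLocallyNoetherian X] {δ : X → ℤ}

theorem locFin_secDivFun (hL : PicF.IsInvertible L) (hd : Cyc.IsDimFun X δ) {ξ : X} {s : Cyc.secFibre L ξ}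
    (hs : s ≠ 0) (z : X) : ∃ U ∈ nhds z, (U ∩ Function.support (Cyc.secDivFun δ L ξ s)).Finite := by
  classical
  obtain ⟨U, hzU, e, he⟩ := InvX.exists_frame hL z
  by_cases hξ : ξ ∈ U
  · obtain ⟨φ, hφ⟩ := exists_coord (isGen_germ he ξ hξ) s
    have hφ0 : X.residue ξ φ ≠ 0 := (residue_ne_zero (isGen_germ he ξ hξ)).2 (hφ ▸ hs)
    obtain ⟨W, hW, hf⟩ := (CycLib.divCycle hd ξ _ hφ0).supportLocallyFiniteWithinDomain' z (Set.mem_univ z)
    refine ⟨W ∩ U, Filter.inter_mem hW (U.2.mem_nhds hzU), hf.subset ?_⟩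
    rintro x ⟨⟨hxW, hxU⟩, hx⟩
    refine ⟨hxW, ?_⟩
    show Cyc.divFun δ ξ (X.residue ξ φ) x ≠ 0
    have h : ξ ⤳ x := by
      by_contra hn
      exact hx (by simp [Cyc.secDivFun, hn])
    rw [← secDivFun_eq hL hd h (isGen_germ he x hxU).1 (s := s) (φ := φ) ?_ hφ0]
    · exact hx
    · rw [hφ, TopCat.Presheaf.germ_stalkSpecializes_apply]
  · refine ⟨U, U.2.mem_nhds hzU, Set.finite_empty.subset ?_⟩
    rintro x ⟨hxU, hx⟩
    refine hx ?_
    have hn : ¬ ξ ⤳ x := fun h => hξ (h.mem_open U.2 hxU)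
    simp [Cyc.secDivFun, hn]

/-- `c₁(L) ∩ α` as a cycle. -/
noncomputable def c1CapCycle (hL : PicF.IsInvertible L) (hd : Cyc.IsDimFun X δ) (α : AlgebraicCycle X ℤ)
    (s : (ξ : X) → Cyc.secFibre L ξ) (hs : ∀ ξ, s ξ ≠ 0) : AlgebraicCycle X ℤ where
  toFun := Cyc.c1CapFun δ L ⇑α s
  supportWithinDomain' := fun _ _ => trivial
  supportLocallyFiniteWithinDomain' := fun z _ => by
    classical
    obtain ⟨U₀, hU₀, hf₀⟩ := α.supportLocallyFiniteWithinDomain' z (Set.mem_univ z)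
    obtain ⟨W, hWU, hWo, hzW⟩ := mem_nhds_iff.1 hU₀
    choose V hV hVf using fun ξ => locFin_secDivFun hL hd (hs ξ) z
    let T : Set X := W ∩ Function.support ⇑α
    have hT : T.Finite := hf₀.subset (Set.inter_subset_inter_left _ hWU)
    refine ⟨W ∩ ⋂ ξ ∈ T, V ξ, Filter.inter_mem (hWo.mem_nhds hzW) ((Filter.biInter_mem hT).2 fun ξ _ => hV ξ),
      (hT.biUnion fun ξ _ => hVf ξ).subset ?_⟩
    rintro x ⟨⟨hxW, hxV⟩, hx⟩
    obtain ⟨ξ, hξ⟩ : ∃ ξ, α ξ * Cyc.secDivFun δ L ξ (s ξ) x ≠ 0 := by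
      by_contra hn
      push Not at hn
      exact hx (finsum_eq_zero_of_forall_eq_zero hn)
    have hsp : ξ ⤳ x := by
      by_contra hn
      exact hξ (by simp [Cyc.secDivFun, hn])
    have hξT : ξ ∈ T := ⟨hsp.mem_open hWo hxW, left_ne_zero_of_mul hξ⟩
    exact Set.mem_biUnion hξT ⟨Set.mem_iInter₂.1 hxV ξ hξT, right_ne_zero_of_mul hξ⟩

theorem coe_c1CapCycle (hL : PicF.IsInvertible L) (hd : Cyc.IsDimFun X δ) (α : AlgebraicCycle X ℤ)
    (s : (ξ : X) → Cyc.secFibre L ξ) (hs : ∀ ξ, s ξ ≠ 0) :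
    ⇑(c1CapCycle hL hd α s hs) = Cyc.c1CapFun δ L ⇑α s := rfl

end Groth.Agent.H23.RatSec
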