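import Groth.Agent.H23.C1Pull
import Groth.Agent.H23.C1Cycle
import Groth.Agent.CycLib.DivPushAll
import Groth.Agent.PicClLib.Basic

/-! Projection formula for the first Chern class cap. -/

set_option autoImplicit false
set_option linter.style.haveILetI false

universe u

open AlgebraicGeometry CategoryTheory TopologicalSpace Opposite

namespace Groth.Agent.H23.C1Push

open Groth.Agent RatSec C1Pull DivPull

variable {X Y : Scheme.{u}} [IsLocallyNoetherian X] [IsLocallyNoetherian Y]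
  {δX : X → ℤ} {δY : Y → ℤ} {p : X ⟶ Y} [IsProper p] {L : Y.Modules}

/-- Push-forward of the divisor of a pulled back section. -/
theorem map_secDivFun (hL : PicF.IsInvertible L) (hdX : Cyc.IsDimFun X δX) (hdY : Cyc.IsDimFun Y δY)
    (hδ : Cyc.DeltaCompat p δX δY) {v : (η : Y) → Cyc.secFibre L η} (hv : ∀ η, v η ≠ 0) (ξ : X) (y : Y) :
    (p ⁻¹' {y} ∩ Function.support fun x =>
        Cyc.secDivFun δX ((Scheme.Modules.pullback p).obj L) ξ (vPull p L v ξ) x *
          (AlgebraicCycle.mapCoeff p δX δY x : ℤ)).Finite ∧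
    ∑ᶠ x ∈ p ⁻¹' {y}, Cyc.secDivFun δX ((Scheme.Modules.pullback p).obj L) ξ (vPull p L v ξ) x *
        (AlgebraicCycle.mapCoeff p δX δY x : ℤ) =
      (AlgebraicCycle.mapCoeff p δX δY ξ : ℤ) * Cyc.secDivFun δY L (p ξ) (v (p ξ)) y := by
  classical
  have hL' := PicClLib.isInvertible_pullback p hL
  by_cases h : p ξ ⤳ y
  swap
  · have h0 : ∀ x ∈ p ⁻¹' {y}, Cyc.secDivFun δX ((Scheme.Modules.pullback p).obj L) ξ (vPull p L v ξ) x *
        (AlgebraicCycle.mapCoeff p δX δY x : ℤ) = 0 := fun x hx => by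
      rw [Cyc.secDivFun, dif_neg fun h' => h ((show p x = y from hx) ▸ h'.1.map p.continuous), zero_mul]
    refine ⟨Set.finite_empty.subset fun x hx => hx.2 (h0 x hx.1), ?_⟩
    rw [finsum_mem_eq_zero_of_forall_eq_zero h0, Cyc.secDivFun, dif_neg fun h' => h h'.1, mul_zero]
  obtain ⟨U, hy, e, he⟩ := InvX.exists_frame hL y
  have hgy := isGen_germ he y hy
  have hgξ : IsGen (L.presheaf.stalkSpecializes h (L.presheaf.germ U y hy e)) := by
    rw [TopCat.Presheaf.germ_stalkSpecializes_apply]; exact isGen_germ he _ _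
  obtain ⟨φ, hφ⟩ := exists_coord hgξ (v (p ξ))
  have hφ0 : Y.residue (p ξ) φ ≠ 0 := (residue_ne_zero hgξ).2 (hφ ▸ hv _)
  let a := Y.residue (p ξ) φ
  have ha' : p.residueFieldMap ξ a ≠ 0 := (map_ne_zero _).2 hφ0
  have hx0 : ∀ x ∈ p ⁻¹' {y}, Cyc.secDivFun δX ((Scheme.Modules.pullback p).obj L) ξ (vPull p L v ξ) x =
      Cyc.divFun δX ξ (p.residueFieldMap ξ a) x := by
    rintro x (rfl : p x = y)
    by_cases hx : ξ ⤳ x
    · exact (secDivFun_vPull hL hL' hdX hv hx hgy hgξ rfl h hφ).trans (by rw [pullRes_rfl])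
    · rw [Cyc.secDivFun, dif_neg fun h' => hx h'.1, Cyc.divFun, dif_neg fun h' => hx h'.1]
  refine ⟨(CycLib.finite_support_inter_fibre p (CycLib.divCycle hdX ξ _ ha') y).subset ?_, ?_⟩
  · rintro x ⟨hxy, hx⟩
    refine ⟨?_, hxy⟩
    show Cyc.divFun δX ξ (p.residueFieldMap ξ a) x ≠ 0
    rw [← hx0 x hxy]
    exact left_ne_zero_of_mul hx
  rw [finsum_mem_congr rfl fun x hx => by rw [hx0 x hx]]
  rw [secDivFun_eq hL hdY h hgy.1 hφ hφ0]
  by_cases hξ : δX ξ = δY (p ξ)
  · rw [CycLib.map_divFun_of_eq p hdX hdY hδ hξ ha' y]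
    obtain ⟨n, hn, hna⟩ := CycLib.normGen_residueFieldMap p ξ a
    rw [hna, CycLib.divFun_pow hdY hφ0, hn, AlgebraicCycle.mapCoeff, if_pos (show δX ξ = δY (p.base ξ) from hξ)]
  · have hlt : δY (p ξ) < δX ξ := lt_of_le_of_ne (CycLib.le_of_deltaCompat p hδ ξ) (Ne.symm hξ)
    rw [CycLib.map_divFun_of_lt p hdY hδ hlt ha' y, AlgebraicCycle.mapCoeff,
      if_neg (show ¬ δX ξ = δY (p.base ξ) from hξ), Nat.cast_zero, zero_mul]

theorem map_c1Cap (hL : PicF.IsInvertible L) (hdX : Cyc.IsDimFun X δX) (hdY : Cyc.IsDimFun Y δY)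
    (hδ : Cyc.DeltaCompat p δX δY) (α : AlgebraicCycle X ℤ) {v : (η : Y) → Cyc.secFibre L η} (hv : ∀ η, v η ≠ 0) :
    ⇑(AlgebraicCycle.map p δX δY (c1CapCycle (PicClLib.isInvertible_pullback p hL) hdX α (vPull p L v)
        (vPull_ne_zero hL hv))) =
      Cyc.c1CapFun δY L ⇑(AlgebraicCycle.map p δX δY α) v := by
  classical
  funext y
  let S : Set X := {ξ | α ξ ≠ 0 ∧ p ξ ⤳ y}
  obtain ⟨U, hU, hyU, -⟩ := exists_isAffineOpen_mem_and_subset (x := y) (U := (⊤ : Y.Opens)) trivial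
  have hS : S.Finite := (α.locallyFiniteSupport.finite_inter_support_of_isCompact
    ((quasiCompact_iff p).1 inferInstance U U.isOpen hU.isCompact)).subset fun ξ hξ =>
      ⟨show p ξ ∈ U from hξ.2.mem_open U.2 hyU, hξ.1⟩
  let c : X → ℤ := fun x => (AlgebraicCycle.mapCoeff p δX δY x : ℤ)
  let D : X → X → ℤ := fun ξ x => Cyc.secDivFun δX ((Scheme.Modules.pullback p).obj L) ξ (vPull p L v ξ) x
  let G : Y → ℤ := fun η => Cyc.secDivFun δY L η (v η) y
  have hmain := fun ξ => map_secDivFun hL hdX hdY hδ hv ξ y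
  have hLHS : AlgebraicCycle.map p δX δY (c1CapCycle (PicClLib.isInvertible_pullback p hL) hdX α (vPull p L v)
      (vPull_ne_zero hL hv)) y = ∑ ξ ∈ hS.toFinset, α ξ * (c ξ * G (p ξ)) := by
    rw [CycLib.map_apply', coe_c1CapCycle]
    have hsum : ∀ x ∈ p ⁻¹' {y}, Cyc.c1CapFun δX ((Scheme.Modules.pullback p).obj L) ⇑α (vPull p L v) x * c x =
        ∑ ξ ∈ hS.toFinset, α ξ * (D ξ x * c x) := by
      rintro x (rfl : p x = y)
      rw [Cyc.c1CapFun, finsum_eq_sum_of_support_subset _ (fun ξ hξ => hS.mem_toFinset.2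
        ⟨left_ne_zero_of_mul hξ, by
          by_contra hn
          exact hξ (by simp [Cyc.secDivFun, show ¬ ξ ⤳ x from fun h => hn (h.map p.continuous)])⟩),
        Finset.sum_mul]
      exact Finset.sum_congr rfl fun ξ _ => mul_assoc _ _ _
    rw [finsum_mem_congr rfl hsum]
    simp only [finsum_mem_def]
    have hind : ∀ x, (p ⁻¹' {y}).indicator (fun x => ∑ ξ ∈ hS.toFinset, α ξ * (D ξ x * c x)) x =
        ∑ ξ ∈ hS.toFinset, α ξ * (p ⁻¹' {y}).indicator (fun x => D ξ x * c x) x := fun x => by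
      by_cases hx : x ∈ p ⁻¹' {y} <;> simp [hx]
    rw [finsum_congr hind, finsum_sum_comm]
    · refine Finset.sum_congr rfl fun ξ _ => ?_
      rw [← mul_finsum, ← finsum_mem_def]
      exact congrArg _ (hmain ξ).2
    · intro ξ _
      refine (hmain ξ).1.subset fun x hx => ?_
      rw [Function.mem_support] at hx
      by_cases hxy : x ∈ p ⁻¹' {y}
      · rw [Set.indicator_of_mem hxy] at hx
        exact ⟨hxy, right_ne_zero_of_mul hx⟩
      · simp [hxy] at hx
  rw [hLHS, Cyc.c1CapFun, finsum_eq_sum_of_support_subset (s := hS.toFinset.image fun ξ => p ξ) _ ?_,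
    ← Finset.sum_fiberwise_of_maps_to (t := hS.toFinset.image fun ξ => p ξ) (g := fun ξ => p ξ)
      (fun ξ hξ => Finset.mem_image_of_mem _ hξ)]
  · refine Finset.sum_congr rfl fun η hη => ?_
    obtain ⟨ξ₀, hξ₀, rfl⟩ := Finset.mem_image.1 hη
    rw [CycLib.map_apply', finsum_mem_eq_sum_of_inter_support_eq
      (t := hS.toFinset.filter fun ξ => p ξ = p ξ₀), Finset.sum_mul]
    · refine Finset.sum_congr rfl fun ξ hξ => ?_
      simp only [G, c, (Finset.mem_filter.1 hξ).2]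
      ring
    · ext ξ
      simp only [Set.mem_inter_iff, Function.mem_support, Finset.coe_filter, Set.mem_ofPred_eq,
        Set.Finite.mem_toFinset, Set.mem_preimage, Set.mem_singleton_iff]
      constructor
      · rintro ⟨h1, h2⟩
        exact ⟨⟨⟨left_ne_zero_of_mul h2, h1 ▸ (hS.mem_toFinset.1 hξ₀).2⟩, h1⟩, h2⟩
      · rintro ⟨⟨-, h1⟩, h2⟩
        exact ⟨h1, h2⟩
  · intro η hη
    rw [Finset.mem_coe, Finset.mem_image]
    have hsp : η ⤳ y := by
      by_contra hn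
      exact hη (by simp [Cyc.secDivFun, hn])
    have h1 := left_ne_zero_of_mul hη
    rw [CycLib.map_apply'] at h1
    obtain ⟨ξ, hξ, hne⟩ := exists_ne_zero_of_finsum_mem_ne_zero h1
    obtain rfl : p ξ = η := hξ
    exact ⟨ξ, hS.mem_toFinset.2 ⟨left_ne_zero_of_mul hne, hsp⟩, rfl⟩

end Groth.Agent.H23.C1Push
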