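import Groth.Agent.H23.FiniteFibreSum
import Groth.Agent.FlatDvr.FibreStalk
import Groth.Agent.FibDim.Basic

/-! Residue degrees times fibre lengths are preserved by base change. -/

set_option autoImplicit false

universe u

open AlgebraicGeometry CategoryTheory Limits

namespace Groth.Agent.H23.FiniteFibreSum

open Groth.Agent

variable {X Y X' Y' : Scheme.{u}}

/-- The length of the local ring of a point in its fibre. -/
noncomputable def fibreLen (p : X' ⟶ X) (z : X') : ℕ∞ :=
  Module.length (X'.presheaf.stalk z) (X'.presheaf.stalk z ⧸ Ideal.map (p.stalkMap z).hom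
    (IsLocalRing.maximalIdeal (X.presheaf.stalk (p z))))

theorem length_self_of_surjective {R S : Type u} [CommRing R] [CommRing S] (f : R →+* S)
    (hf : Function.Surjective f) {I : Ideal R} (hI : RingHom.ker f = I) :
    Module.length R (R ⧸ I) = Module.length S S := by
  subst hI
  rw [Module.length_eq_of_surjective (S := R) (R := R ⧸ RingHom.ker f) Ideal.Quotient.mk_surjective]
  exact length_self_of_bijective _ (RingHom.quotientKerEquivOfSurjective hf).bijective

theorem fibreLen_fiberι (p : X' ⟶ X) {x : X} (w : ↥(p.fiber x)) :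
    fibreLen p (p.fiberι x w) = Module.length ((p.fiber x).presheaf.stalk w) ((p.fiber x).presheaf.stalk w) :=
  length_self_of_surjective _ ((p.fiberι x).stalkMap_surjective w) (FlatDvr.ker_stalkMap_fiberι p w)

theorem sum_fibre {q : Y' ⟶ Y} {f' : Y' ⟶ X'} {f : Y ⟶ X} {p : X' ⟶ X} (h : IsPullback q f' f p) (y : Y)
    (x' : X') (hfy : f y = p x') (hfin : (f.residueFieldMap y).hom.Finite) (hlen : fibreLen p x' ≠ ⊤) :
    (f' ⁻¹' {x'} ∩ q ⁻¹' {y}).Finite ∧
      ∑ᶠ y' ∈ f' ⁻¹' {x'} ∩ q ⁻¹' {y}, f'.residueDegree y' * (fibreLen q y').toNat =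
        f.residueDegree y * (fibreLen p x').toNat := by
  obtain ⟨v, rfl⟩ : x' ∈ Set.range (p.fiberι (f y)) := by rw [Scheme.Hom.range_fiberι]; exact hfy.symm
  let φ := f.residueFieldMap y
  let a := q.fiberToSpecResidueField y
  have hw : (q.fiberι y ≫ f') ≫ p = (a ≫ Spec.map φ) ≫ X.fromSpecResidueField (f y) := by
    rw [Category.assoc, Category.assoc, ← h.w, ← Category.assoc (q.fiberι y), Scheme.Hom.fiber_fac]
    simp [φ, a]
  have hF : IsPullback (p.fiberι (f y)) (p.fiberToSpecResidueField (f y)) p (X.fromSpecResidueField (f y)) :=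
    IsPullback.of_hasPullback _ _
  let π := hF.lift _ _ hw
  have hbig : IsPullback (q.fiberι y ≫ f') a p (Spec.map φ ≫ X.fromSpecResidueField (f y)) := by
    rw [show Spec.map φ ≫ X.fromSpecResidueField (f y) = Y.fromSpecResidueField y ≫ f by simp [φ]]
    exact IsPullback.paste_vert (IsPullback.of_hasPullback q (Y.fromSpecResidueField y)).flip h |>.flip
  have hsq : IsPullback a π (Spec.map φ) (p.fiberToSpecResidueField (f y)) := by
    refine (IsPullback.of_right ?_ (hF.lift_snd _ _ hw) hF).flip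
    exact (hF.lift_fst _ _ hw).symm ▸ hbig
  haveI : IsArtinianRing ((p.fiber (f y)).presheaf.stalk v) := by
    rw [fibreLen_fiberι] at hlen
    exact (isFiniteLength_iff_isNoetherian_isArtinian.1 (Module.length_ne_top_iff.1 hlen)).2
  obtain ⟨hfinset, hsum⟩ := sum_points_field φ (Field.toIsField _) hfin (p.fiberToSpecResidueField (f y)) π a hsq v
  have hιπ : ∀ w, f' (q.fiberι y w) = p.fiberι (f y) (π w) := fun w => by
    rw [← Scheme.Hom.comp_apply, ← hF.lift_fst _ _ hw]
    rfl
  have himg : f' ⁻¹' {p.fiberι (f y) v} ∩ q ⁻¹' {y} = q.fiberι y '' (π ⁻¹' {v}) := by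
    ext z
    constructor
    · rintro ⟨hz1, hz2⟩
      obtain ⟨w, rfl⟩ : z ∈ Set.range (q.fiberι y) := by rw [Scheme.Hom.range_fiberι]; exact hz2
      exact ⟨w, (p.fiberι (f y)).isEmbedding.injective ((hιπ w).symm.trans hz1), rfl⟩
    · rintro ⟨w, hw', rfl⟩
      refine ⟨?_, FibDim.fiber_apply_fiberι q w⟩
      show f' (q.fiberι y w) = _
      rw [hιπ w, show π w = v from hw']
  rw [himg, finsum_mem_image ((q.fiberι y).isEmbedding.injective.injOn)]
  refine ⟨hfinset.image _, ?_⟩
  rw [fibreLen_fiberι]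
  refine Eq.trans (finsum_mem_congr rfl fun w _ => ?_) hsum
  rw [fibreLen_fiberι]
  refine congrArg (· * _) ?_
  have h1 := CycLib.residueDegree_comp (q.fiberι y) f' w
  have h2 := CycLib.residueDegree_comp π (p.fiberι (f y)) w
  rw [CycLib.residueDegree_preimmersion (q.fiberι y), mul_one] at h1
  rw [CycLib.residueDegree_preimmersion (p.fiberι (f y)), one_mul, residueDegree_congr' (hF.lift_fst _ _ hw), h1] at h2
  exact h2

end Groth.Agent.H23.FiniteFibreSum
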