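import Groth.Agent.H23.GysinPb
import Groth.Agent.H23.FibreDegSum

/-! Fibre lengths of the inverse image of a closed subscheme. -/

set_option autoImplicit false
set_option linter.style.haveILetI false

universe u

open AlgebraicGeometry CategoryTheory CategoryTheory.Limits IsLocalRing

namespace Groth.Agent.H23.GysinPb

open Groth.Agent FiniteFibreSum

theorem length_quot_map {R S : Type u} [CommRing R] [CommRing S] (φ : R →+* S) (hφ : Function.Surjective φ)
    {I : Ideal R} (hI : RingHom.ker φ ≤ I) :
    Module.length S (S ⧸ I.map φ) = Module.length R (R ⧸ I) := by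
  let q : R →+* S ⧸ I.map φ := (Ideal.Quotient.mk _).comp φ
  letI : Algebra R S := φ.toAlgebra
  rw [← Module.length_eq_of_surjective (S := R) (R := S) (M := S ⧸ I.map φ) hφ]
  let l : R →ₗ[R] S ⧸ I.map φ := LinearMap.toSpanSingleton R _ 1
  have hl : ∀ r, l r = q r := fun r => by
    show r • (1 : S ⧸ I.map φ) = _
    rw [Algebra.smul_def, mul_one]
    rfl
  have hker : LinearMap.ker l = I := by
    ext r
    rw [LinearMap.mem_ker, hl]
    show Ideal.Quotient.mk (I.map φ) (φ r) = 0 ↔ r ∈ I
    rw [Ideal.Quotient.eq_zero_iff_mem, ← Ideal.mem_comap, Ideal.comap_map_of_surjective φ hφ,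
      show I ⊔ Ideal.comap φ ⊥ = I from sup_eq_left.2 hI]
  have hsurj : Function.Surjective l := fun b => by
    obtain ⟨s, rfl⟩ := Ideal.Quotient.mk_surjective b
    obtain ⟨r, rfl⟩ := hφ s
    exact ⟨r, hl r⟩
  exact ((Submodule.quotEquivOfEq _ _ hker.symm).trans (l.quotKerEquivOfSurjective hsurj)).length_eq.symm

variable {X X' D : Scheme.{u}} (f : X' ⟶ X) (i : D ⟶ X) [IsClosedImmersion i]

theorem map_maximalIdeal_congr {x : X'} {y : X} (e : f x = y) :
    Ideal.map (X.presheaf.stalkSpecializes (specializes_of_eq e) ≫ f.stalkMap x).hom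
      (maximalIdeal (X.presheaf.stalk y)) = Ideal.map (f.stalkMap x).hom (maximalIdeal (X.presheaf.stalk (f x))) := by
  subst e
  rw [show X.presheaf.stalkSpecializes (specializes_of_eq (Eq.refl (f x))) = 𝟙 _ from
    TopCat.Presheaf.stalkSpecializes_refl _ _, Category.id_comp]

theorem fibreLen_snd (z : (pullback f i : Scheme.{u})) :
    fibreLen (pullback.snd f i) z = fibreLen f (pullback.fst f i z) := by
  let d := pullback.snd f i z
  let x := pullback.fst f i z
  let φ := ((pullback.fst f i).stalkMap z).hom
  have hmax : (maximalIdeal (X.presheaf.stalk (i d))).map (i.stalkMap d).hom =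
      maximalIdeal (D.presheaf.stalk d) :=
    IsLocalRing.map_maximalIdeal_of_surjective _ (i.stalkMap_surjective d)
  have hsq : ((pullback.snd f i).stalkMap z).hom.comp (i.stalkMap d).hom = φ.comp (baseMap f i z).hom := by
    have h1 : i.stalkMap d ≫ (pullback.snd f i).stalkMap z = baseMap f i z ≫ (pullback.fst f i).stalkMap z := by
      rw [baseMap, Category.assoc, ← Scheme.Hom.stalkMap_comp, ← Scheme.Hom.stalkMap_comp,
        Scheme.Hom.stalkMap_congr_hom _ _ (pullback.condition (f := f) (g := i)) z, TopCat.Presheaf.stalkCongr_hom]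
      erw [← Category.assoc, TopCat.Presheaf.stalkSpecializes_comp, TopCat.Presheaf.stalkSpecializes_refl,
        Category.id_comp]
    exact congrArg CommRingCat.Hom.hom h1
  have hmap : Ideal.map ((pullback.snd f i).stalkMap z).hom (maximalIdeal (D.presheaf.stalk d)) =
      (Ideal.map (baseMap f i z).hom (maximalIdeal (X.presheaf.stalk (i d)))).map φ := by
    rw [← hmax, Ideal.map_map, hsq, ← Ideal.map_map]
  have hle : RingHom.ker φ ≤ Ideal.map (baseMap f i z).hom (maximalIdeal (X.presheaf.stalk (i d))) :=
    (ker_stalkMap_fst_le f i z).trans (Ideal.map_mono (le_maximalIdeal (RingHom.ker_ne_top _)))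
  unfold fibreLen
  rw [show Ideal.map ((pullback.snd f i).stalkMap z).hom (maximalIdeal (D.presheaf.stalk (pullback.snd f i z))) = _
    from hmap, length_quot_map φ ((pullback.fst f i).stalkMap_surjective z) hle,
    show Ideal.map (baseMap f i z).hom (maximalIdeal (X.presheaf.stalk (i d))) = _ from
      map_maximalIdeal_congr f (apply_fst_eq f i z)]

end Groth.Agent.H23.GysinPb
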