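import Groth.Agent.H23.GysinFun
import Groth.Agent.H23.GysinLen
import Groth.Agent.H23.C1Pull
import Groth.Agent.H23.C1Push
import Groth.Agent.H23.SecIso
import Groth.Agent.CycLib.DivPushAll

/-! Gysin maps and flat pull-back in an arbitrary cartesian square. -/

set_option autoImplicit false
set_option linter.style.haveILetI false

universe u

open AlgebraicGeometry CategoryTheory CategoryTheory.Limits IsLocalRing

namespace Groth.Agent.H23.GysinSq

open Groth.Agent FiniteFibreSum RatSec C1Pull GysinLib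

variable {E P X' X D : Scheme.{u}}

theorem ker_stalkMap_iso_comp (a : E ⟶ P) [IsIso a] (i : P ⟶ X) (d : E) :
    RingHom.ker ((a ≫ i).stalkMap d).hom = RingHom.ker (i.stalkMap (a d)).hom := by
  rw [Scheme.Hom.stalkMap_comp]
  show RingHom.ker ((a.stalkMap d).hom.comp (i.stalkMap (a d)).hom) = _
  exact RingHom.ker_comp_of_injective _ (ConcreteCategory.bijective_of_isIso (a.stalkMap d)).1

theorem isZeroSchemeOf_of_iso (a : E ⟶ P) [IsIso a] (i : P ⟶ X) {L : X.Modules}
    {s : L.presheaf.obj (Opposite.op ⊤)} (h : Cyc.IsZeroSchemeOf (a ≫ i) L s) : Cyc.IsZeroSchemeOf i L s := by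
  refine ⟨?_, fun z => ?_⟩
  · rw [← h.1, Scheme.Hom.comp_base, TopCat.coe_comp,
      Set.range_comp, (Scheme.Hom.surjective a).range_eq, Set.image_univ]
  · obtain ⟨d, rfl⟩ := a.surjective z
    obtain ⟨t, f, ht, hs, hk⟩ := h.2 d
    exact ⟨t, f, ht, hs, (ker_stalkMap_iso_comp a i d).symm.trans hk⟩

theorem length_map_comp {R S T : Type u} [CommRing R] [CommRing S] [CommRing T] (φ : S →+* T)
    (hφ : Function.Bijective φ) (ψ : R →+* S) (m : Ideal R) :
    Module.length T (T ⧸ m.map (φ.comp ψ)) = Module.length S (S ⧸ m.map ψ) := by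
  rw [← Ideal.map_map]
  exact GysinPb.length_quot_map φ hφ.2 (le_of_eq_of_le ((RingHom.injective_iff_ker_eq_bot _).1 hφ.1) bot_le)

theorem fibreLen_iso_comp (a : E ⟶ P) [IsIso a] (g : P ⟶ D) (d : E) :
    fibreLen (a ≫ g) d = fibreLen g (a d) := by
  unfold FiniteFibreSum.fibreLen
  rw [Scheme.Hom.stalkMap_comp]
  show Module.length _ (_ ⧸ Ideal.map ((a.stalkMap d).hom.comp (g.stalkMap (a d)).hom)
    (maximalIdeal (D.presheaf.stalk (g (a d))))) = _
  exact length_map_comp _ (ConcreteCategory.bijective_of_isIso (a.stalkMap d)) _ _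

variable {j : E ⟶ X'} {q : E ⟶ D} {f : X' ⟶ X} {i : D ⟶ X} [IsClosedImmersion i] [IsClosedImmersion j]
  [IsLocallyNoetherian X] [IsLocallyNoetherian X'] {δ : X → ℤ} {δ' : X' → ℤ} {L : X.Modules}
  {s : L.presheaf.obj (Opposite.op ⊤)} {s' : ((Scheme.Modules.pullback f).obj L).presheaf.obj (Opposite.op ⊤)}

/-- Gysin and flat pull-back commute. -/
theorem ratEquiv_gysin_pull [Flat f] {c : ℤ} (h : IsPullback j q f i) (hc : FlatShift.HasShift f δ' δ c)
    (hd : Cyc.IsDimFun X δ) (hd' : Cyc.IsDimFun X' δ') (hL : PicF.IsInvertible L) (hD : Cyc.IsZeroSchemeOf i L s)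
    (hD' : Cyc.IsZeroSchemeOf j ((Scheme.Modules.pullback f).obj L) s') {k : ℤ} (α : AlgebraicCycle X ℤ)
    (hα : α ∈ Cyc.Zk X δ (k + 1)) {w : (ξ : X) → Cyc.secFibre L ξ} (hw : ∀ ξ, w ξ ≠ 0)
    {w' : (ξ : X') → Cyc.secFibre ((Scheme.Modules.pullback f).obj L) ξ} (hw' : ∀ ξ, w' ξ ≠ 0)
    {ζ₁ ζ₂ : AlgebraicCycle E ℤ}
    (h₁ : ∀ z, ζ₁ z = Cyc.c1CapFun δ' ((Scheme.Modules.pullback f).obj L) (Cyc.pullFun f δ' δ c ⇑α)
      (Cyc.gysinChoice ((Scheme.Modules.pullback f).obj L) s' w') (j z))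
    (h₂ : ⇑ζ₂ = Cyc.pullFun q (fun z => δ' (j z)) (fun d => δ (i d)) c
      (fun d => Cyc.c1CapFun δ L ⇑α (Cyc.gysinChoice L s w) (i d))) :
    Cyc.RatEquiv (fun z => δ' (j z)) (k + c) ζ₁ ζ₂ := by
  classical
  have hL' := PicClLib.isInvertible_pullback f hL
  have hgc := gysinChoice_ne_zero (L := L) s hw
  have hgc' := gysinChoice_ne_zero (L := (Scheme.Modules.pullback f).obj L) s' hw'
  have hfin := locFin α
  let a := h.isoPullback.hom
  have ha : j = a ≫ pullback.fst f i := h.isoPullback_hom_fst.symm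
  have hb : q = a ≫ pullback.snd f i := h.isoPullback_hom_snd.symm
  have hD'' : Cyc.IsZeroSchemeOf (pullback.fst f i) ((Scheme.Modules.pullback f).obj L) s' :=
    isZeroSchemeOf_of_iso a _ (ha ▸ hD')
  let β : AlgebraicCycle X' ℤ :=
    { toFun := Cyc.pullFun f δ' δ c ⇑α
      supportWithinDomain' := fun _ _ => trivial
      supportLocallyFiniteWithinDomain' := fun z _ => locFin_pullFun hc hd' hfin z }
  have hβ : β ∈ Cyc.Zk X' δ' (k + c + 1) := fun z hz => by
    show Cyc.pullFun f δ' δ c ⇑α z = 0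
    rw [Cyc.pullFun]
    split_ifs with h
    · rw [hα (f z) (fun h' => hz (by omega)), zero_mul]
    · rfl
  refine ratEquiv_restrict j hL' hd' β hβ hgc' (vPull_ne_zero hL hgc)
    (fun ξ hξ => (secDivFun_gysinChoice f i hL hd' hD hD'' w w' ?_).symm) h₁ fun z => ?_
  · rw [hD''.1, ← hD'.1]
    exact hξ
  show ζ₂ z = Cyc.c1CapFun δ' _ (Cyc.pullFun f δ' δ c ⇑α) _ _
  rw [congrFun h₂ z, ← pullFun_c1CapFun hL hL' hc hd hd' hfin hgc]
  have e : f (j z) = i (q z) := by
    show (j ≫ f) z = (q ≫ i) z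
    rw [h.w]
  have el : ∀ (jj : E ⟶ X') (qq : E ⟶ D), jj = a ≫ pullback.fst f i → qq = a ≫ pullback.snd f i →
      fibreLen qq z = fibreLen f (jj z) := by
    rintro _ _ rfl rfl
    rw [fibreLen_iso_comp]
    exact GysinPb.fibreLen_snd f i (a z)
  simp only [Cyc.pullFun, ← e]
  split_ifs with hh
  · exact congrArg _ (congrArg (fun n : ℕ∞ => (n.toNat : ℤ)) (el j q ha hb))
  · rfl

theorem isZeroSchemeOf_iso_comp {T : Scheme.{u}} (a : E ⟶ P) [IsIso a] (i : P ⟶ T) {M : T.Modules}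
    {m : M.presheaf.obj (Opposite.op ⊤)} (h : Cyc.IsZeroSchemeOf i M m) : Cyc.IsZeroSchemeOf (a ≫ i) M m :=
  isZeroSchemeOf_of_iso (inv a) (a ≫ i) (by rwa [IsIso.inv_hom_id_assoc])

omit [IsLocallyNoetherian X'] [IsLocallyNoetherian X] [IsClosedImmersion j] in
/-- The pulled back section cuts out the inverse image. -/
theorem isZeroSchemeOf_pb (h : IsPullback j q f i) (hL : PicF.IsInvertible L) (hD : Cyc.IsZeroSchemeOf i L s) :
    Cyc.IsZeroSchemeOf j ((Scheme.Modules.pullback f).obj L) (KFlatLib.pb f (U := ⊤) s) := by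
  rw [← h.isoPullback_hom_fst]
  refine isZeroSchemeOf_iso_comp _ _ ?_
  have hgerm : ∀ x : X', ((Scheme.Modules.pullback f).obj L).presheaf.germ ⊤ x trivial (KFlatLib.pb f (U := ⊤) s) =
      pm f L x (L.presheaf.germ ⊤ (f x) trivial s) := fun x => (pm_germ f L x ⊤ trivial s).symm
  refine ⟨Set.ext fun x => ?_, fun z => ?_⟩
  · rw [range_fst_eq, Set.mem_preimage, hD.1, Set.mem_setOf_eq, Set.mem_setOf_eq, hgerm]
    obtain ⟨t, ht, -⟩ := exists_gen hL (f x)
    obtain ⟨φ, hφ⟩ := Submodule.mem_span_singleton.1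
      (ht.1.ge (Submodule.mem_top : L.presheaf.germ ⊤ (f x) trivial s ∈ ⊤))
    show cls L (f x) _ = 0 ↔ cls _ x _ = 0
    rw [← hφ, pm_smul, cls_smul, cls_smul, ← not_ne_iff, ← residue_ne_zero ht, ← not_ne_iff (b := (0 : Cyc.secFibre _ x)),
      ← residue_ne_zero (isGen_pm ht), residue_stalkMap, not_ne_iff, not_ne_iff]
    exact (map_eq_zero _).symm
  · obtain ⟨t, φ, ht, hst, hker⟩ := hD.2 (pullback.snd f i z)
    have hsp := specializes_of_eq (GysinPb.apply_fst_eq f i z)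
    refine ⟨pm f L (pullback.fst f i z) (L.presheaf.stalkSpecializes hsp t),
      (f.stalkMap (pullback.fst f i z)).hom ((X.presheaf.stalkSpecializes hsp).hom φ),
      (isGen_pm ((isGen_of_span hL ht).2 _ hsp)).1, ?_, ?_⟩
    · rw [hgerm, ← pm_smul, ← ZeroSec.stalkSpecializes_smul, ← hst, TopCat.Presheaf.germ_stalkSpecializes_apply]
    · rw [GysinPb.ker_stalkMap_fst, hker, Ideal.map_span, Set.image_singleton]
      rfl

omit [IsLocallyNoetherian X] in
/-- Two sections with the same inverse image give the same divisors outside it. -/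
theorem secDivFun_gysinChoice_indep {s'' : ((Scheme.Modules.pullback f).obj L).presheaf.obj (Opposite.op ⊤)}
    (h : IsPullback j q f i) (hd' : Cyc.IsDimFun X' δ') (hL : PicF.IsInvertible L) (hD : Cyc.IsZeroSchemeOf i L s)
    (hD' : Cyc.IsZeroSchemeOf j ((Scheme.Modules.pullback f).obj L) s')
    (hD'' : Cyc.IsZeroSchemeOf j ((Scheme.Modules.pullback f).obj L) s'')
    (w' w'' : (ξ : X') → Cyc.secFibre ((Scheme.Modules.pullback f).obj L) ξ) {ξ : X'} (hξ : ξ ∉ Set.range j) :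
    Cyc.secDivFun δ' _ ξ (Cyc.gysinChoice ((Scheme.Modules.pullback f).obj L) s' w' ξ) =
      Cyc.secDivFun δ' _ ξ (Cyc.gysinChoice ((Scheme.Modules.pullback f).obj L) s'' w'' ξ) := by
  have hP' : Cyc.IsZeroSchemeOf (pullback.fst f i) ((Scheme.Modules.pullback f).obj L) s' :=
    isZeroSchemeOf_of_iso h.isoPullback.hom _ (by rwa [h.isoPullback_hom_fst])
  have hP'' : Cyc.IsZeroSchemeOf (pullback.fst f i) ((Scheme.Modules.pullback f).obj L) s'' :=
    isZeroSchemeOf_of_iso h.isoPullback.hom _ (by rwa [h.isoPullback_hom_fst])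
  have hξ' : ξ ∉ Set.range (pullback.fst f i) := by
    rw [hP'.1, ← hD'.1]
    exact hξ
  obtain ⟨w, -⟩ := exists_sections hL
  exact (secDivFun_gysinChoice f i hL hd' hD hP' w w' hξ').symm.trans
    (secDivFun_gysinChoice f i hL hd' hD hP'' w w'' hξ')

/-- Gysin and proper push-forward commute. -/
theorem ratEquiv_gysin_push [IsProper f] [IsProper q] (h : IsPullback j q f i) (hX : Cyc.IsSetup X δ)
    (hX' : Cyc.IsSetup X' δ') (hδ : Cyc.DeltaCompat f δ' δ) (hL : PicF.IsInvertible L)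
    (hD : Cyc.IsZeroSchemeOf i L s) (hD' : Cyc.IsZeroSchemeOf j ((Scheme.Modules.pullback f).obj L) s') {k : ℤ}
    (α' : AlgebraicCycle X' ℤ) (hα' : α' ∈ Cyc.Zk X' δ' (k + 1)) {w : (ξ : X) → Cyc.secFibre L ξ}
    (hw : ∀ ξ, w ξ ≠ 0) {w' : (ξ : X') → Cyc.secFibre ((Scheme.Modules.pullback f).obj L) ξ} (hw' : ∀ ξ, w' ξ ≠ 0)
    {γ : AlgebraicCycle D ℤ}
    (hγ : ∀ d, γ d = Cyc.c1CapFun δ L ⇑(AlgebraicCycle.map f δ' δ α') (Cyc.gysinChoice L s w) (i d))
    {γ' : AlgebraicCycle E ℤ}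
    (hγ' : ∀ z, γ' z = Cyc.c1CapFun δ' ((Scheme.Modules.pullback f).obj L) ⇑α'
      (Cyc.gysinChoice ((Scheme.Modules.pullback f).obj L) s' w') (j z)) :
    Cyc.RatEquiv (fun d => δ (i d)) k γ (AlgebraicCycle.map q (fun z => δ' (j z)) (fun d => δ (i d)) γ') := by
  classical
  have hL' := PicClLib.isInvertible_pullback f hL
  have hgc := gysinChoice_ne_zero (L := L) s hw
  have hgc' := gysinChoice_ne_zero (L := (Scheme.Modules.pullback f).obj L) s' hw'
  have hv := vPull_ne_zero (p := f) hL hgc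
  have hP' : Cyc.IsZeroSchemeOf (pullback.fst f i) ((Scheme.Modules.pullback f).obj L) s' :=
    isZeroSchemeOf_of_iso h.isoPullback.hom _ (by rwa [h.isoPullback_hom_fst])
  have hr : Set.range j = Set.range (pullback.fst f i) := hD'.1.trans hP'.1.symm
  let A := c1CapCycle hL' hX'.2.2 α' _ hv
  let A' := CycLib.restrictCycle j j.isClosedEmbedding.injective A
  have h1 : Cyc.RatEquiv (fun z => δ' (j z)) k A' γ' :=
    ratEquiv_restrict j hL' hX'.2.2 α' hα' hv hgc'
      (fun ξ hξ => secDivFun_gysinChoice f i hL hX'.2.2 hD hP' w w' (hr ▸ hξ)) (fun z => rfl) hγ'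
  have hDs := isSetup_closedImmersion i hX
  have hPs := isSetup_closedImmersion j hX'
  have happ : ∀ z, f (j z) = i (q z) := fun z => by
    show (j ≫ f) z = (q ≫ i) z
    rw [h.w]
  have hg : Cyc.DeltaCompat q (fun z => δ' (j z)) (fun d => δ (i d)) := fun z => by
    obtain ⟨n, hn, hn'⟩ := hδ (j z)
    refine ⟨n, ?_, ?_⟩
    · rw [← hn]
      exact FibDim.rdeg_congr_preimmersion (f := f) (f' := q) (a := j) (b := i) h.w.symm z
    · show δ' (j z) = δ (i (q z)) + _
      rw [hn', happ]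
  have h2 := CycLib.ratEquiv_map q hPs hDs hg h1
  refine cast (congrArg (fun c => Cyc.RatEquiv (fun d => δ (i d)) k c _) ?_) h2
  have hA : AlgebraicCycle.map j (fun z => δ' (j z)) δ' A' = A := by
    ext x
    by_cases hx : x ∈ Set.range j
    · obtain ⟨z, rfl⟩ := hx
      rw [CycLib.map_preimmersion_apply]
      rfl
    · rw [CycLib.map_apply_not_range _ _ δ' A' hx]
      symm
      refine finsum_eq_zero_of_forall_eq_zero fun ξ => mul_eq_zero_of_right _ ?_
      by_cases hsp : ξ ⤳ x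
      · have hξ : ξ ∉ Set.range j := fun hr' =>
          hx (hsp.mem_closed j.isClosedEmbedding.isClosed_range hr')
        rw [secDivFun_gysinChoice f i hL hX'.2.2 hD hP' w w' (hr ▸ hξ)]
        have h0 := c1CapFun_eq_zero j hL' hX'.2.2 hD' (Pi.single ξ 1) w' hx
        rwa [Cyc.c1CapFun, finsum_eq_single _ ξ (fun η hη => by rw [Pi.single_eq_of_ne hη, zero_mul]),
          Pi.single_eq_same, one_mul] at h0
      · simp [Cyc.secDivFun, hsp]
  ext d
  have h3 : AlgebraicCycle.map i (fun d => δ (i d)) δ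
      (AlgebraicCycle.map q (fun z => δ' (j z)) (fun d => δ (i d)) A') = AlgebraicCycle.map f δ' δ A := by
    rw [CycLib.map_map _ _ hg (deltaCompat_closedImmersion i δ), ← hA,
      CycLib.map_map _ _ (deltaCompat_closedImmersion j δ') hδ]
    congr 1
    exact h.w.symm
  rw [← CycLib.map_preimmersion_apply i δ
    (AlgebraicCycle.map q (fun z => δ' (j z)) (fun d => δ (i d)) A') d, h3,
    congrFun (C1Push.map_c1Cap hL hX'.2.2 hX.2.2 hδ α' hgc) (i d), hγ d]

end Groth.Agent.H23.GysinSq
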