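import Groth.Prelude.Def_GrassD
import Groth.Agent.KFlatLib.Perfect.LocFree

/-!
Flag schemes as iterated Grassmannians.
-/

set_option autoImplicit false
set_option linter.style.haveILetI false
set_option backward.isDefEq.respectTransparency false

universe u

open CategoryTheory CategoryTheory.Limits AlgebraicGeometry

namespace Groth.Agent.H23.GrassFlag

open Grass

section lemmas

variable {X G G' T : Scheme.{u}} {E : X.Modules}

/-- Base change of a quotient in two steps. -/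
theorem quotBC_quotBC {π : G ⟶ X} {π' : G' ⟶ X} {a : G' ⟶ G} {b : T ⟶ G'} {g : T ⟶ G} {g' : T ⟶ X}
    (ha : a ≫ π = π') (hb : b ≫ a = g) (hg : g ≫ π = g') (hbπ : b ≫ π' = g') {Q : G.Modules} {M : G'.Modules}
    (q : (Scheme.Modules.pullback π).obj E ⟶ Q) (u : (Scheme.Modules.pullback a).obj Q ⟶ M) :
    quotBC hg q ≫ quotBC hb u = quotBC hbπ (quotBC ha q ≫ u) := by
  subst ha hb hg
  have h := NatTrans.congr_app (Scheme.Modules.pseudofunctor_associativity b a π) E
  simp only [NatTrans.comp_app, Functor.whiskerRight_app, Functor.whiskerLeft_app, Functor.associator_hom_app,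
    Category.id_comp, eqToHom_app] at h
  have hc : ∀ {A B : Scheme.{u}} {f f' : A ⟶ B} (e : f = f') (N : B.Modules),
      (Scheme.Modules.pullbackCongr e).inv.app N = eqToHom (by rw [e]) := fun e N => by
    subst e; simp [Scheme.Modules.pullbackCongr]
  have key : eqToHom (by rw [Category.assoc]) ≫ (Scheme.Modules.pullbackComp (b ≫ a) π).inv.app E ≫
        (Scheme.Modules.pullbackComp b a).inv.app _ =
      (Scheme.Modules.pullbackComp b (a ≫ π)).inv.app E ≫
        (Scheme.Modules.pullback b).map ((Scheme.Modules.pullbackComp a π).inv.app E) := by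
    rw [← reassoc_of% h]
    simp
  have hnat := (Scheme.Modules.pullbackComp b a).inv.naturality q
  dsimp at hnat
  simp only [quotBC, hc, Functor.map_comp, Category.assoc, eqToHom_map]
  rw [eqToHom_refl _ (rfl : (Scheme.Modules.pullback (b ≫ a)).obj Q = _)]
  simp only [Category.id_comp]
  rw [reassoc_of% hnat]
  rw [eqToHom_refl _ (rfl : (Scheme.Modules.pullback b).obj ((Scheme.Modules.pullback (a ≫ π)).obj E) = _)]
  simp only [Category.id_comp]
  rw [← reassoc_of% key]
  simp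

theorem quotBC_comp {π : G ⟶ X} {b : T ⟶ G} {g : T ⟶ X} (hg : b ≫ π = g) {Q M : G.Modules}
    (q : (Scheme.Modules.pullback π).obj E ⟶ Q) (f : Q ⟶ M) :
    quotBC hg (q ≫ f) = quotBC hg q ≫ (Scheme.Modules.pullback b).map f := by
  simp only [quotBC, Functor.map_comp, Category.assoc]

theorem epi_quotBC {π : G ⟶ X} {b : T ⟶ G} {g : T ⟶ X} (hg : b ≫ π = g) {Q : G.Modules}
    (q : (Scheme.Modules.pullback π).obj E ⟶ Q) [Epi q] : Epi (quotBC hg q) := by
  haveI := epi_pullback_map b q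
  exact epi_comp _ _

end lemmas

theorem rank_pullback {X Y : Scheme.{u}} (f : X ⟶ Y) {M : Y.Modules} {r : ℕ}
    (hM : FlatMod.IsFinLocFreeOfRank r M) : FlatMod.IsFinLocFreeOfRank r ((Scheme.Modules.pullback f).obj M) := fun x => by
  obtain ⟨U, hx, ⟨e⟩⟩ := hM (f.base x)
  exact ⟨f ⁻¹ᵁ U, hx, ⟨((PullPush.pullRestrictIso f U).app M).symm ≪≫
    (Scheme.Modules.pullback (f ∣_ U)).mapIso e ≪≫ KFlatLib.pullFreeIso _ r⟩⟩

theorem isGrass {X F F' : Scheme.{u}} {π : F ⟶ X} {π' : F' ⟶ X} {E : X.Modules}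
    {m : ℕ} {n : Fin (m + 2) → ℕ}
    {Q : Fin (m + 1) → F.Modules} {q : ∀ i, (Scheme.Modules.pullback π).obj E ⟶ Q i}
    (hF : IsFlag π E (fun i => n (Fin.castSucc i)) Q q)
    {Q' : Fin (m + 2) → F'.Modules} {q' : ∀ i, (Scheme.Modules.pullback π').obj E ⟶ Q' i}
    (hF' : IsFlag π' E n Q' q') (φ : F' ⟶ F) (hφ : φ ≫ π = π')
    (li : ∀ i, (Scheme.Modules.pullback φ).obj (Q i) ≅ Q' (Fin.castSucc i))
    (hli : ∀ i, quotBC hφ (q i) ≫ (li i).hom = q' (Fin.castSucc i))
    (t : Q' (Fin.castSucc (Fin.last m)) ⟶ Q' (Fin.last (m + 1)))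
    (ht : q' (Fin.castSucc (Fin.last m)) ≫ t = q' (Fin.last (m + 1))) :
    IsGrass φ (Q (Fin.last m)) (n (Fin.last (m + 1))) (Q' (Fin.last (m + 1))) ((li (Fin.last m)).hom ≫ t) := by
  refine ⟨hF'.rank _, ?_, fun T g L hL s hs => ?_⟩
  · haveI := hF'.epi (Fin.last (m + 1))
    haveI : Epi t := by
      have : Epi (q' (Fin.castSucc (Fin.last m)) ≫ t) := by rw [ht]; infer_instance
      exact epi_of_epi (q' (Fin.castSucc (Fin.last m))) t
    exact epi_comp _ _
  haveI := hs
  let L' : Fin (m + 2) → T.Modules := Fin.snoc (fun i => (Scheme.Modules.pullback g).obj (Q i)) L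
  have hLc : ∀ i, L' (Fin.castSucc i) = (Scheme.Modules.pullback g).obj (Q i) := fun i => by
    simp [L', Fin.snoc_castSucc]
  have hLl : L' (Fin.last (m + 1)) = L := by simp [L', Fin.snoc_last]
  let s' : ∀ i, (Scheme.Modules.pullback (g ≫ π)).obj E ⟶ L' i :=
    Fin.lastCases (quotBC (g := g ≫ π) rfl (q (Fin.last m)) ≫ s ≫ eqToHom hLl.symm)
      (fun i => quotBC (g := g ≫ π) rfl (q i) ≫ eqToHom (hLc i).symm)
  have hsc : ∀ i, s' (Fin.castSucc i) = quotBC (g := g ≫ π) rfl (q i) ≫ eqToHom (hLc i).symm := fun i => by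
    simp [s']
  have hsl : s' (Fin.last (m + 1)) = quotBC (g := g ≫ π) rfl (q (Fin.last m)) ≫ s ≫ eqToHom hLl.symm := by
    simp [s']
  have hepi : ∀ i, Epi (quotBC (g := g ≫ π) rfl (q i)) := fun i => by
    haveI := hF.epi i
    exact epi_quotBC (rfl : g ≫ π = g ≫ π) (q i)
  have hQg : ∀ i, FlatMod.IsFinLocFreeOfRank (n (Fin.castSucc i)) ((Scheme.Modules.pullback g).obj (Q i)) := fun i =>
    rank_pullback g (hF.rank i)
  have hrank : ∀ i, FlatMod.IsFinLocFreeOfRank (n i) (L' i) := fun i => by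
    refine Fin.lastCases ?_ (fun i => ?_) i
    · rw [hLl]; exact hL
    · rw [hLc]; exact hQg i
  have hsepi : ∀ i, Epi (s' i) := fun i => by
    refine Fin.lastCases ?_ (fun i => ?_) i
    · rw [hsl]; haveI := hepi (Fin.last m); infer_instance
    · rw [hsc]; haveI := hepi i; infer_instance
  have hnest : ∀ i j, i ≤ j → ∃ r : L' i ⟶ L' j, s' i ≫ r = s' j := fun i j => by
    refine Fin.lastCases ?_ (fun i => ?_) i <;> refine Fin.lastCases ?_ (fun j => ?_) j
    · exact fun _ => ⟨𝟙 _, Category.comp_id _⟩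
    · exact fun h => absurd h (not_le.2 (Fin.castSucc_lt_last j))
    · intro _
      obtain ⟨r, hr⟩ := hF.nested i (Fin.last m) (Fin.le_last _)
      refine ⟨eqToHom (hLc i) ≫ (Scheme.Modules.pullback g).map r ≫ s ≫ eqToHom hLl.symm, ?_⟩
      rw [hsc, hsl, Category.assoc, eqToHom_trans_assoc, eqToHom_refl, Category.id_comp, ← Category.assoc, ← quotBC_comp, hr]
    · intro h
      obtain ⟨r, hr⟩ := hF.nested i j (Fin.castSucc_le_castSucc_iff.1 h)
      refine ⟨eqToHom (hLc i) ≫ (Scheme.Modules.pullback g).map r ≫ eqToHom (hLc j).symm, ?_⟩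
      rw [hsc, hsc, Category.assoc, eqToHom_trans_assoc, eqToHom_refl, Category.id_comp, ← Category.assoc, ← quotBC_comp, hr]
  obtain ⟨h, ⟨hh, e, he⟩, huniq⟩ := hF'.univ T (g ≫ π) L' hrank s' hsepi hnest
  have hg : h ≫ φ = g := by
    refine (hF.univ T (g ≫ π) (fun i => (Scheme.Modules.pullback g).obj (Q i)) hQg
      (fun i => quotBC rfl (q i)) hepi (fun i j hij => ?_)).unique ⟨?_, fun i => ?_, fun i => ?_⟩
      ⟨rfl, fun i => Iso.refl _, fun i => Category.comp_id _⟩
    · obtain ⟨r, hr⟩ := hF.nested i j hij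
      exact ⟨(Scheme.Modules.pullback g).map r, by rw [← quotBC_comp, hr]⟩
    · rw [Category.assoc, hφ, hh]
    · exact ((Scheme.Modules.pullbackComp h φ).app (Q i)).symm ≪≫ (Scheme.Modules.pullback h).mapIso (li i) ≪≫
        e (Fin.castSucc i) ≪≫ eqToIso (hLc i)
    · have hb : (h ≫ φ) ≫ π = g ≫ π := by rw [Category.assoc, hφ, hh]
      have key := quotBC_quotBC hφ (rfl : h ≫ φ = h ≫ φ) hb hh (q i) (li i).hom
      rw [hli] at key
      have h1 := he (Fin.castSucc i)
      rw [hsc, ← key] at h1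
      have h2 := congrArg (· ≫ eqToHom (hLc i)) h1
      simp only [Category.assoc, eqToHom_trans, eqToHom_refl, Category.comp_id] at h2
      refine Eq.trans ?_ h2
      simp [quotBC, Scheme.Modules.pullbackCongr]
  refine ⟨h, ⟨hg, e (Fin.last (m + 1)) ≪≫ eqToIso hLl, ?_⟩, fun h' hh' => ?_⟩
  · haveI := hepi (Fin.last m)
    rw [← cancel_epi (quotBC (g := g ≫ π) rfl (q (Fin.last m))), ← Category.assoc,
      quotBC_quotBC hφ hg rfl hh (q (Fin.last m)) ((li (Fin.last m)).hom ≫ t), ← Category.assoc (quotBC hφ _), hli, ht,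
      Iso.trans_hom, ← Category.assoc (quotBC hh _), he, hsl]
    simp
  · obtain ⟨hg', e', he'⟩ := hh'
    have hh2 : h' ≫ π' = g ≫ π := by rw [← hφ, reassoc_of% hg']
    have key : ∀ i, quotBC (g := g ≫ π) rfl (q i) ≫ quotBC hg' (li i).hom = quotBC hh2 (q' (Fin.castSucc i)) := fun i => by
      rw [quotBC_quotBC hφ hg' rfl hh2, hli]
    haveI hiso : ∀ i, IsIso (quotBC hg' (li i).hom) := fun i => inferInstance
    let ei : ∀ i, (Scheme.Modules.pullback h').obj (Q' i) ≅ L' i :=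
      Fin.lastCases (e' ≪≫ eqToIso hLl.symm) (fun i => (asIso (quotBC hg' (li i).hom)).symm ≪≫ eqToIso (hLc i).symm)
    refine huniq h' ⟨hh2, ei, fun i => ?_⟩
    refine Fin.lastCases ?_ (fun i => ?_) i
    · simp only [ei, Fin.lastCases_last, Iso.trans_hom, eqToIso.hom]
      rw [hsl, ← he', ← ht, quotBC_comp, ← key, quotBC_comp]
      simp only [quotBC, Category.assoc]
    · simp only [ei, Fin.lastCases_castSucc, Iso.trans_hom, eqToIso.hom]
      rw [hsc, ← key, Category.assoc, Iso.symm_hom]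
      exact congrArg (quotBC (g := g ≫ π) rfl (q i) ≫ ·) ((asIso (quotBC hg' (li i).hom)).hom_inv_id_assoc _)

end Groth.Agent.H23.GrassFlag
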