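import Groth.Agent.H23.CorrLoci
import Groth.Agent.H23.Isogeny
import Groth.Agent.CDiv6.Normal
import Groth.Agent.Neron6.BirOpen
import Groth.Agent.VarDim.Local

/-!
Correspondences over a smooth curve; dominance of composites.
-/

universe u

open CategoryTheory CategoryTheory.Limits AlgebraicGeometry TopologicalSpace

namespace Groth.Agent.H23.CurveCorr

variable {k : Type u} [Field k]

/-- A dominant map from an integral scheme to a regular integral curve is flat. -/
theorem flat_of_dominant {Z C : Scheme.{u}} [IsIntegral Z] [IsIntegral C] (q : C ⟶ Spec (CommRingCat.of k))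
    [Smooth q] (hC : topologicalKrullDim C ≤ 1) (f : Z ⟶ C) (hf : f (genericPoint Z) = genericPoint C) :
    Flat f := by
  have : IsLocallyNoetherian C := LocallyOfFiniteType.isLocallyNoetherian q
  have hN : Pi1.IsNormalScheme C := Neron6.isNormalScheme_of_smooth q fun x => by
    have hF : IsField ((Spec (CommRingCat.of k)).presheaf.stalk x) := by
      rw [show x = genericPoint (Spec (CommRingCat.of k)) from Subsingleton.elim _ _]
      exact Field.toIsField (Spec (CommRingCat.of k)).functionField
    letI := hF.toField
    exact ⟨inferInstance, inferInstance⟩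
  refine Flat.of_stalkMap _ fun z => ?_
  have hinj : Function.Injective (f.stalkMap z).hom := by
    have hz : genericPoint Z ⤳ z := genericPoint_specializes z
    have hc : f (genericPoint Z) ⤳ f z := hz.map f.continuous
    have h1 : Function.Injective (C.presheaf.stalkSpecializes hc).hom := by
      have : ∀ (a : C) (h : a ⤳ f z), a = genericPoint C →
          Function.Injective (C.presheaf.stalkSpecializes h).hom := by
        rintro a h rfl
        exact IsFractionRing.injective (C.presheaf.stalk (f z)) C.functionField
      exact this _ hc hf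
    have h2 : Function.Injective (f.stalkMap (genericPoint Z)).hom := by
      have hF : IsField (C.presheaf.stalk (f (genericPoint Z))) := by
        rw [hf]; exact Field.toIsField C.functionField
      letI := hF.toField
      exact (f.stalkMap (genericPoint Z)).hom.injective
    refine Function.Injective.of_comp (f := (Z.presheaf.stalkSpecializes hz).hom) ?_
    rw [← RingHom.coe_comp, ← CommRingCat.hom_comp, ← Scheme.Hom.stalkSpecializes_stalkMap,
      CommRingCat.hom_comp, RingHom.coe_comp]
    exact h2.comp h1
  letI : Algebra (C.presheaf.stalk (f z)) (Z.presheaf.stalk z) := (f.stalkMap z).hom.toAlgebra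
  show Module.Flat (C.presheaf.stalk (f z)) (Z.presheaf.stalk z)
  have := (hN (f z)).1
  have := (hN (f z)).2
  obtain ⟨b, hb, ⟨η, -, hηd⟩, -⟩ := VarDim.exists_deg_add_stalk q (f z)
  have hb1 : b ≤ 1 := by
    have h := (le_iSup (fun x : C => ((VarDim.deg q x : ℕ∞) : WithBot ℕ∞)) η).trans
      ((VarDim.topologicalKrullDim_eq_iSup_deg q).symm.le.trans hC)
    have h' : VarDim.deg q η ≤ 1 := by exact_mod_cast h
    omega
  have hB : IsBezout (C.presheaf.stalk (f z)) := by
    interval_cases b
    · have : Ring.KrullDimLE 0 (C.presheaf.stalk (f z)) := Ring.krullDimLE_iff.2 hb.le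
      letI := Ring.KrullDimLE.isField_of_isDomain (R := C.presheaf.stalk (f z)) |>.toField
      infer_instance
    · have := CDiv6.isDVR_of_dim_eq_one (C.presheaf.stalk (f z)) (by simpa using hb)
      infer_instance
  have : FaithfulSMul (C.presheaf.stalk (f z)) (Z.presheaf.stalk z) :=
    (faithfulSMul_iff_algebraMap_injective _ _).2 hinj
  refine Module.Flat.flat_iff_torsion_eq_bot_of_isBezout.2 ?_
  rw [eq_bot_iff]
  rintro a ⟨⟨v, hv⟩, hva⟩
  have hva' : (f.stalkMap z).hom v * a = 0 := hva
  exact (mul_eq_zero.1 hva').resolve_left fun h0 => nonZeroDivisors.ne_zero hv (hinj (by rw [map_zero]; exact h0))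

/-- A proper dominant map of curves is finite. -/
theorem isFinite_of_dominant {Z C : Scheme.{u}} [IrreducibleSpace Z] [IrreducibleSpace C]
    (q : C ⟶ Spec (CommRingCat.of k)) [LocallyOfFiniteType q] (f : Z ⟶ C) [IsProper f]
    (hd : topologicalKrullDim Z ≤ topologicalKrullDim C) (hC : topologicalKrullDim C ≤ 1)
    (hgen : f (genericPoint Z) = genericPoint C) : IsFinite f := by
  rw [VarDim.topologicalKrullDim_eq_deg_genericPoint q,
    VarDim.topologicalKrullDim_eq_deg_genericPoint (f ≫ q)] at hd
  rw [VarDim.topologicalKrullDim_eq_deg_genericPoint q] at hC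
  have hd' : VarDim.deg (f ≫ q) (genericPoint Z) ≤ VarDim.deg q (genericPoint C) := by exact_mod_cast hd
  have hC' : VarDim.deg q (genericPoint C) ≤ 1 := by exact_mod_cast hC
  refine Isogeny.isFinite_of_fdeg_eq_zero f fun z => ?_
  have e := VarDim.deg_comp_eq f q z
  by_cases hz : genericPoint Z = z
  · subst hz; rw [hgen] at e; omega
  · have : VarDim.deg (f ≫ q) z < VarDim.deg (f ≫ q) (genericPoint Z) := by
      by_contra hlt
      exact hz (VarDim.eq_of_specializes_of_deg_le (f ≫ q) (genericPoint_specializes z) (not_lt.1 hlt))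
    omega

theorem map_genericPoint_of_surjective {Z C : Scheme.{u}} [IrreducibleSpace Z] [IrreducibleSpace C]
    (f : Z ⟶ C) (hs : Function.Surjective f) : f (genericPoint Z) = genericPoint C := by
  obtain ⟨z, hz⟩ := hs (genericPoint C)
  exact ((hz ▸ (genericPoint_specializes z).map f.continuous :
    f (genericPoint Z) ⤳ genericPoint C).antisymm (genericPoint_specializes _)).eq

/-- Dominance of a composite with a dominant map between irreducible schemes of equal dimension. -/
theorem isDominant_comp_iff {X Y W : Scheme.{u}} (p : X ⟶ Spec (CommRingCat.of k))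
    (qY : Y ⟶ Spec (CommRingCat.of k)) (qW : W ⟶ Spec (CommRingCat.of k))
    [LocallyOfFiniteType p] [QuasiCompact p] [LocallyOfFiniteType qY] [LocallyOfFiniteType qW]
    [IrreducibleSpace Y] [IrreducibleSpace W] (hdim : topologicalKrullDim Y = topologicalKrullDim W)
    (ρ : X ⟶ Y) (η : Y ⟶ W) [IsDominant η] (hη : η ≫ qW = qY) :
    IsDominant (ρ ≫ η) ↔ IsDominant ρ := by
  refine ⟨fun h => ?_, fun h => inferInstance⟩
  have : CompactSpace X := QuasiCompact.compactSpace_of_compactSpace p
  obtain ⟨x, hx⟩ := VarDim.mem_range_of_maximal p (ρ ≫ η) (η := genericPoint W)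
    (by rw [(ρ ≫ η).denseRange.closure_range]; trivial)
    (fun y hy => (hy.antisymm (genericPoint_specializes y)).eq)
  rw [VarDim.topologicalKrullDim_eq_deg_genericPoint qY,
    VarDim.topologicalKrullDim_eq_deg_genericPoint qW] at hdim
  have hdim' : VarDim.deg qY (genericPoint Y) = VarDim.deg qW (genericPoint W) := by exact_mod_cast hdim
  have h1 : VarDim.deg qW (η (ρ x)) ≤ VarDim.deg qY (ρ x) := VarDim.deg_map_le η qW hη (ρ x)
  rw [show η (ρ x) = genericPoint W from hx] at h1
  have hy : genericPoint Y = ρ x :=
    VarDim.eq_of_specializes_of_deg_le qY (genericPoint_specializes _) (by omega)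
  refine ⟨fun y => ?_⟩
  exact closure_mono (Set.singleton_subset_iff.2 (Set.mem_range_self (f := ρ) x))
    (specializes_iff_mem_closure.1 (hy ▸ genericPoint_specializes y))

end Groth.Agent.H23.CurveCorr
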