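import Groth.Agent.H23.PicMul
import Groth.Agent.InvX.GenLocusPull
import Groth.Agent.InvX.Tensor
import Groth.Agent.PicClLib.Basic

/-!
Trivial invertible modules, and the locus where a section is a frame.
-/

universe u

open CategoryTheory CategoryTheory.Limits AlgebraicGeometry TopologicalSpace Opposite

namespace Groth.Agent.H23.TrivBasic

open Groth.Agent.InvX

variable {X Y Z : Scheme.{u}} {L M : X.Modules}

/-- The module is isomorphic to the structure sheaf. -/
def Triv (L : X.Modules) : Prop := Nonempty (L ≅ Coh.structureModule X)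

theorem Triv.of_iso (e : L ≅ M) : Triv L → Triv M := fun ⟨φ⟩ => ⟨e.symm ≪≫ φ⟩

theorem Triv.isInvertible (h : Triv L) : PicF.IsInvertible L :=
  PicMul.isInvertible_of_iso h.some.symm isInvertible_structureModule

theorem Triv.exists_frame (h : Triv L) : ∃ e : Γ(L, ⊤), IsFrame e :=
  ⟨_, (InvX.isFrame_one ⊤).map_iso h.some.symm⟩

theorem triv_of_frame {e : Γ(L, ⊤)} (he : IsFrame e) : Triv L := by
  have h : IsFrame (AModX.res L (le_top : (⊤ : X.Opens) ≤ ⊤) (one (ofSect e))) := by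
    rw [one_ofSect, AModX.res_self]
    exact he
  haveI : IsIso (ofSect e) := by
    refine Scheme.Modules.Hom.isIso_iff_isIso_app.2 fun V => (ConcreteCategory.isIso_iff_bijective _).2 ?_
    have hfun : ((ofSect e).app V : _ → _) = fun r : Γ(X, V) => r • AModX.res L (le_top : V ≤ ⊤) e :=
      funext fun r => (app_eq_smul (ofSect e) r).trans (by rw [one_ofSect])
    rw [hfun]
    exact he V le_top
  exact ⟨(asIso (ofSect e)).symm⟩

theorem Triv.pullback (f : Y ⟶ X) (h : Triv L) : Triv ((Scheme.Modules.pullback f).obj L) :=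
  ⟨(Scheme.Modules.pullback f).mapIso h.some ≪≫ (PicClLib.nonempty_pullback_structureModule f).some⟩

theorem triv_comp_iff (g : Z ⟶ Y) (f : Y ⟶ X) :
    Triv ((Scheme.Modules.pullback g).obj ((Scheme.Modules.pullback f).obj L)) ↔
      Triv ((Scheme.Modules.pullback (g ≫ f)).obj L) :=
  ⟨Triv.of_iso ((Scheme.Modules.pullbackComp g f).app L),
    Triv.of_iso ((Scheme.Modules.pullbackComp g f).app L).symm⟩

theorem triv_congr {f f' : Y ⟶ X} (h : f = f') :
    Triv ((Scheme.Modules.pullback f).obj L) ↔ Triv ((Scheme.Modules.pullback f').obj L) := by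
  subst h
  rfl

theorem triv_id_iff : Triv ((Scheme.Modules.pullback (𝟙 X)).obj L) ↔ Triv L :=
  ⟨Triv.of_iso ((Scheme.Modules.pullbackId X).app L), Triv.of_iso ((Scheme.Modules.pullbackId X).app L).symm⟩

/-- Pulling back along an isomorphism reflects triviality. -/
theorem triv_of_isIso (f : Y ⟶ X) [IsIso f] (h : Triv ((Scheme.Modules.pullback f).obj L)) : Triv L := by
  have h1 := (triv_comp_iff (inv f) f).1 (h.pullback (inv f))
  rw [triv_congr (IsIso.inv_hom_id f), triv_id_iff] at h1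
  exact h1

/-- Where a global section is a frame. -/
noncomputable def locus (s : Γ(L, ⊤)) : X.Opens := CohB1.genLocus L (ofSect s)

theorem mem_locus_iff {s : Γ(L, ⊤)} {x : X} :
    x ∈ locus s ↔ ∃ U : X.Opens, x ∈ U ∧ IsFrame (AModX.res L (le_top : U ≤ ⊤) s) := by
  refine ⟨fun hx => ?_, fun ⟨U, hx, hU⟩ => le_genLocus _ (by rwa [one_ofSect]) hx⟩
  obtain ⟨U, hU, h⟩ := mem_genLocus hx
  rw [one_ofSect] at h
  exact ⟨U, hU, h⟩

theorem le_locus {s : Γ(L, ⊤)} {U : X.Opens} (hU : IsFrame (AModX.res L (le_top : U ≤ ⊤) s)) : U ≤ locus s :=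
  fun _ hx => mem_locus_iff.2 ⟨U, hx, hU⟩

theorem isFrame_of_germwise {U : X.Opens} {e : Γ(L, U)}
    (h : ∀ x ∈ U, ∃ (W : X.Opens) (hW : W ≤ U), x ∈ W ∧ IsFrame (AModX.res L hW e)) : IsFrame e := by
  refine isFrame_of_germ fun x hx => ?_
  obtain ⟨W, hW, hxW, hf⟩ := h x hx
  have := hf.germ_bijective hxW
  rw [germ_res' hW hxW] at this
  exact this

theorem isFrame_res_of_le_locus {s : Γ(L, ⊤)} {U : X.Opens} (hU : U ≤ locus s) :
    IsFrame (AModX.res L (le_top : U ≤ ⊤) s) := by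
  refine isFrame_of_germwise fun x hx => ?_
  obtain ⟨W, hxW, hW⟩ := mem_locus_iff.1 (hU hx)
  refine ⟨W ⊓ U, inf_le_right, ⟨hxW, hx⟩, ?_⟩
  have := hW.res (inf_le_left : W ⊓ U ≤ W)
  rw [AModX.res_res] at this ⊢
  exact this

theorem locus_eq_top_iff {s : Γ(L, ⊤)} : locus s = ⊤ ↔ IsFrame s := by
  refine ⟨fun h => ?_, fun h => top_le_iff.1 (le_locus (by rwa [AModX.res_self]))⟩
  have := isFrame_res_of_le_locus (U := ⊤) (s := s) h.ge
  rwa [AModX.res_self] at this

theorem locus_eq_basicOpen {s : Γ(L, ⊤)} {U : X.Opens} {e : Γ(L, U)} (he : IsFrame e) {g : Γ(X, U)}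
    (hg : AModX.res L (le_top : U ≤ ⊤) s = g • e) : locus s ⊓ U = X.basicOpen g :=
  genLocus_inf _ he (by rwa [one_ofSect])

/-- The locus of a pulled back section is the preimage. -/
theorem locus_pullElt (hL : PicF.IsInvertible L) (u : Y ⟶ X) (s : Γ(L, ⊤)) :
    locus (show Γ((Scheme.Modules.pullback u).obj L, ⊤) from pullElt u s) = u ⁻¹ᵁ locus s := by
  refine Opens.ext (Set.ext fun y => ?_)
  obtain ⟨U, hyU, ε, hε⟩ := InvX.exists_frame hL (u y)
  obtain ⟨g, hg⟩ := hε.exists_coord le_rfl (AModX.res L (le_top : U ≤ ⊤) s)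
  rw [AModX.res_self] at hg
  have h' : AModX.res _ (le_top : u ⁻¹ᵁ U ≤ ⊤) (show Γ((Scheme.Modules.pullback u).obj L, ⊤) from pullElt u s) =
      u.app U g • pullElt u ε := by
    refine (res_pullElt u (le_top : U ≤ ⊤) s).trans ?_
    rw [hg, pullElt_smul]
  have h1 := congrArg (fun V : Y.Opens => y ∈ V) (locus_eq_basicOpen (isFrame_pullElt u hε) h')
  have h2 := congrArg (fun V : X.Opens => u y ∈ V) (locus_eq_basicOpen hε hg)
  have hyU' : y ∈ u ⁻¹ᵁ U := hyU
  rw [← Scheme.preimage_basicOpen] at h1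
  simp only [Opens.mem_inf, hyU, hyU', and_true, eq_iff_iff] at h1 h2
  exact h1.trans h2.symm

/-- A section which pulls back to a frame is a frame around the image. -/
theorem mem_locus_of_pullElt (hL : PicF.IsInvertible L) (u : Y ⟶ X) (s : Γ(L, ⊤))
    (h : IsFrame (show Γ((Scheme.Modules.pullback u).obj L, ⊤) from pullElt u s)) (y : Y) :
    u y ∈ locus s := by
  have h1 : y ∈ u ⁻¹ᵁ locus s := by
    rw [← locus_pullElt hL u s, locus_eq_top_iff.2 h]
    trivial
  exact h1

/-- A nonzero section of a trivial module over a ring of constants forming a field is a frame. -/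
theorem isFrame_of_ne_zero (hL : Triv L) (hΓ : IsField Γ(X, ⊤)) {s : Γ(L, ⊤)} (hs : s ≠ 0) :
    IsFrame s := by
  obtain ⟨e, he⟩ := hL.exists_frame
  obtain ⟨g, hg⟩ := he.exists_coord le_rfl s
  rw [AModX.res_self] at hg
  rw [hg]
  refine he.isUnit_smul ?_
  obtain ⟨h, hh⟩ := hΓ.mul_inv_cancel (a := g) fun h0 => hs (by rw [hg, h0, zero_smul])
  exact IsUnit.of_mul_eq_one h hh

/-- Some point lies in the locus of a nonzero section over a reduced scheme. -/
theorem locus_ne_bot [IsReduced X] (hL : PicF.IsInvertible L) {s : Γ(L, ⊤)} (hs : s ≠ 0) : locus s ≠ ⊥ := by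
  intro hbot
  refine hs (AModX.eq_of_locally (M := L) _ _ fun p _ => ?_)
  obtain ⟨U, hU, e, he⟩ := InvX.exists_frame hL p
  obtain ⟨g, hg⟩ := he.exists_coord le_rfl (AModX.res L (le_top : U ≤ ⊤) s)
  rw [AModX.res_self] at hg
  have h := locus_eq_basicOpen he hg
  rw [hbot, bot_inf_eq] at h
  refine ⟨U, le_top, hU, ?_⟩
  rw [hg, AlgebraicGeometry.eq_zero_of_basicOpen_eq_bot g h.symm, zero_smul, map_zero]

end Groth.Agent.H23.TrivBasic
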