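import Groth.Agent.KRegLib.Regular
import Groth.Agent.KRegLib.Kinds
import Groth.Agent.Cohen4.RegHom
import Groth.Agent.FlatDvr.DimFibre
import Groth.Agent.VarDim.Top
import Groth.Agent.VarDim.Local
import Groth.Agent.GrpSchLib.SmoothRegular
import Mathlib.AlgebraicGeometry.AlgClosed.Basic

/-!
# The diagonal of a nonsingular variety is a regular immersion
-/

set_option autoImplicit false
set_option linter.style.haveILetI false
set_option backward.isDefEq.respectTransparency.types false

universe u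

open AlgebraicGeometry CategoryTheory CategoryTheory.Limits TopologicalSpace IsLocalRing RingTheory.Sequence

namespace Groth.Agent.H23.DiagReg

open Groth.Agent

variable {K : Type u} [Field K] {X : Scheme.{u}} (f : X ⟶ Spec (CommRingCat.of K))

theorem deg_eq_zero [LocallyOfFiniteType f] {x : X} (hx : IsClosed ({x} : Set X)) : VarDim.deg f x = 0 := by
  have h := VarDim.topologicalKrullDim_closure_singleton f x
  rw [hx.closure_eq] at h
  have h' := h.symm.le.trans (topologicalKrullDim_zero_of_discreteTopology _)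
  exact Nat.le_zero.1 (by exact_mod_cast h')

theorem dim_stalk_closed [LocallyOfFiniteType f] [IsIntegral X] {n : ℕ} (hn : topologicalKrullDim X = n) {x : X}
    (hx : IsClosed ({x} : Set X)) : ringKrullDim (X.presheaf.stalk x) = n := by
  obtain ⟨b, hb, ⟨η, hη, hηb⟩, hle⟩ := VarDim.exists_deg_add_stalk f x
  rw [deg_eq_zero f hx, zero_add] at hηb hle
  have h := VarDim.topologicalKrullDim_eq_deg_genericPoint f
  rw [hn] at h
  have h' : VarDim.deg f (genericPoint X) = n := by exact_mod_cast h.symm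
  have h1 := hle _ (genericPoint_specializes x)
  have h2 := VarDim.deg_le_of_specializes f (genericPoint_specializes η)
  rw [hb]
  norm_cast
  omega

/-- Regular sequences generating the kernel, localised at a point. -/
theorem exists_stalk_seq {Z P : Scheme.{u}} [IsLocallyNoetherian P] (i : Z ⟶ P) (U : P.affineOpens) (z : Z)
    (hzU : i z ∈ U.1) [IsClosedImmersion (i ∣_ U.1)] (rs : List Γ(P, U.1)) (hrs : IsWeaklyRegular Γ(P, U.1) rs)
    (hker : RingHom.ker (i.app U.1).hom = Ideal.ofList rs) :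
    ∃ rs' : List (P.presheaf.stalk (i z)), rs'.length = rs.length ∧ IsRegular (P.presheaf.stalk (i z)) rs' ∧
        RingHom.ker (i.stalkMap z).hom = Ideal.ofList rs' := by
  obtain ⟨hV, hs⟩ := Groth.Agent.Synt29.surjective_app_of_isClosedImmersion_restrict i U.1 U.2
  let φ : Γ(P, U.1) →+* Γ(Z, i ⁻¹ᵁ U.1) := (i.app U.1).hom
  letI : Algebra Γ(P, U.1) (P.presheaf.stalk (i z)) := (P.presheaf.germ U.1 (i z) hzU).hom.toAlgebra
  letI : Algebra Γ(Z, i ⁻¹ᵁ U.1) (Z.presheaf.stalk z) := (Z.presheaf.germ (i ⁻¹ᵁ U.1) z hzU).hom.toAlgebra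
  haveI hX : IsLocalization.AtPrime (P.presheaf.stalk (i z)) (U.2.primeIdealOf ⟨i z, hzU⟩).asIdeal :=
    U.2.isLocalization_stalk ⟨i z, hzU⟩
  haveI hZ : IsLocalization.AtPrime (Z.presheaf.stalk z) (hV.primeIdealOf ⟨z, hzU⟩).asIdeal :=
    hV.isLocalization_stalk ⟨z, hzU⟩
  have hc := congrArg PrimeSpectrum.asIdeal
    (IsAffineOpen.comap_primeIdealOf_appLE (f := i) U.1 U.2 (i ⁻¹ᵁ U.1) hV le_rfl hzU)
  have he : (i.appLE U.1 (i ⁻¹ᵁ U.1) le_rfl).hom = φ := by simp only [φ, Scheme.Hom.app_eq_appLE]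
  have hcomap : (U.2.primeIdealOf ⟨i z, hzU⟩).asIdeal = (hV.primeIdealOf ⟨z, hzU⟩).asIdeal.comap φ := by
    rw [← hc, PrimeSpectrum.comap_asIdeal, he]
  let ψ : P.presheaf.stalk (i z) →+* Z.presheaf.stalk z := (i.stalkMap z).hom
  have hf : ∀ a : Γ(P, U.1), ψ (algebraMap _ _ a) = algebraMap _ _ (φ a) := fun a =>
    Scheme.Hom.germ_stalkMap_apply i U.1 z hzU a
  have hM : Submonoid.map φ (U.2.primeIdealOf ⟨i z, hzU⟩).asIdeal.primeCompl =
      (hV.primeIdealOf ⟨z, hzU⟩).asIdeal.primeCompl := by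
    ext b
    constructor
    · rintro ⟨a, ha, rfl⟩ hb
      exact ha (by rw [hcomap]; exact hb)
    · intro hb
      obtain ⟨a, rfl⟩ := hs b
      exact ⟨a, fun h => hb (by rw [hcomap] at h; exact h), rfl⟩
  have hfm : ψ = IsLocalization.map (Z.presheaf.stalk z) φ
      (show (U.2.primeIdealOf ⟨i z, hzU⟩).asIdeal.primeCompl ≤
        (hV.primeIdealOf ⟨z, hzU⟩).asIdeal.primeCompl.comap φ from
        Submonoid.map_le_iff_le_comap.1 hM.le) := by
    refine IsLocalization.ringHom_ext (U.2.primeIdealOf ⟨i z, hzU⟩).asIdeal.primeCompl (RingHom.ext fun a => ?_)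
    rw [RingHom.comp_apply, RingHom.comp_apply, hf, IsLocalization.map_eq]
  have hker' : RingHom.ker ψ = (RingHom.ker φ).map (algebraMap Γ(P, U.1) (P.presheaf.stalk (i z))) := by
    rw [hfm]
    exact IsLocalization.ker_map (Z.presheaf.stalk z) φ hM
  haveI : Module.Flat Γ(P, U.1) (P.presheaf.stalk (i z)) :=
    IsLocalization.flat _ (U.2.primeIdealOf ⟨i z, hzU⟩).asIdeal.primeCompl
  have hI : RingHom.ker ψ = Ideal.ofList (rs.map (algebraMap Γ(P, U.1) (P.presheaf.stalk (i z)))) := by
    rw [hker', ← Ideal.map_ofList]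
    exact congrArg _ hker
  refine ⟨_, List.length_map _, ⟨hrs.of_flat, fun htop => ?_⟩, hI⟩
  rw [← hI, smul_eq_mul, Ideal.mul_top] at htop
  exact RingHom.ker_ne_top ψ htop.symm

/-- At a closed point of the diagonal the local ring of the product has twice the dimension. -/
theorem dim_stalk_diagonal [IsAlgClosed K] [Smooth f] [IsSeparated f] [IsIntegral X] {n : ℕ}
    (hn : topologicalKrullDim X = n) {x : X} (hx : IsClosed ({x} : Set X)) :
    ringKrullDim ((pullback f f).presheaf.stalk (pullback.diagonal f x)) =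
      ringKrullDim (X.presheaf.stalk x) + n := by
  let p := pullback.fst f f
  let c := pullback.diagonal f x
  haveI : IsLocallyNoetherian (pullback f f) := LocallyOfFiniteType.isLocallyNoetherian (p ≫ f)
  haveI : IsLocallyNoetherian X := LocallyOfFiniteType.isLocallyNoetherian f
  have hpc : p c = x := by
    rw [← Scheme.Hom.comp_apply, pullback.diagonal_fst]
    rfl
  let r := X.fromSpecResidueField (p c)
  haveI : IsIso (r ≫ f) := by
    have hc' : IsClosed ({p c} : Set X) := hpc ▸ hx
    rw [show r ≫ f = Spec.map (residueFieldIsoBase f (p c) hc').inv from (SpecMap_residueFieldIsoBase_inv f _ hc').symm]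
    infer_instance
  let e : p.fiber (p c) ⟶ X := p.fiberι (p c) ≫ pullback.snd f f
  have hpb : IsPullback e (p.fiberToSpecResidueField (p c)) f (r ≫ f) :=
    (IsPullback.of_hasPullback p r).paste_horiz (IsPullback.of_hasPullback f f).flip
  haveI : IsIso e := hpb.isIso_fst_of_isIso
  have hw : e (p.asFiber c) = x := by
    show pullback.snd f f (p.fiberι (p c) (p.asFiber c)) = x
    rw [Scheme.Hom.fiberι_asFiber, ← Scheme.Hom.comp_apply, pullback.diagonal_snd]
    rfl
  letI := (p.stalkMap c).hom.toAlgebra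
  haveI : Module.Flat (X.presheaf.stalk (p c)) ((pullback f f).presheaf.stalk c) :=
    RingHom.flat_algebraMap_iff.mp (Flat.stalkMap p c)
  haveI : IsLocalHom (algebraMap (X.presheaf.stalk (p c)) ((pullback f f).presheaf.stalk c)) :=
    inferInstanceAs (IsLocalHom (p.stalkMap c).hom)
  have hdim := Cohen4.dim_eq_of_flat (A := X.presheaf.stalk (p c)) (B := (pullback f f).presheaf.stalk c)
  have hfib : ringKrullDim ((p.fiber (p c)).presheaf.stalk (p.asFiber c)) = n := by
    rw [← ringKrullDim_eq_of_ringEquiv (asIso (e.stalkMap (p.asFiber c))).commRingCatIsoToRingEquiv, hw]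
    exact dim_stalk_closed f hn hx
  rw [show ringKrullDim ((pullback f f).presheaf.stalk c) = _ from hdim,
    show ringKrullDim (X.presheaf.stalk (p c)) = ringKrullDim (X.presheaf.stalk x) by rw [hpc]]
  congr 1
  refine Eq.trans ?_ hfib
  rw [FlatDvr.ringKrullDim_stalk_fibre, Scheme.Hom.fiberι_asFiber]
  rfl

theorem isRegularImmersion [IsAlgClosed K] [Smooth f] [IsSeparated f] [IsIntegral X] {n : ℕ}
    (hn : topologicalKrullDim X = n) :
    RegImm.IsRegularImmersionOfCodim RegImm.Kind.regular n (pullback.diagonal f) := by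
  let Δ := pullback.diagonal f
  haveI : IsLocallyNoetherian (pullback f f) := LocallyOfFiniteType.isLocallyNoetherian (pullback.fst f f ≫ f)
  haveI : IsLocallyNoetherian X := LocallyOfFiniteType.isLocallyNoetherian f
  refine ⟨inferInstance, fun z => ?_⟩
  obtain ⟨x, hzx, hx⟩ := VarDim.exists_closed_specialization f z
  obtain ⟨D, hD, hxD, -⟩ := exists_isAffineOpen_mem_and_subset (x := Δ x) (U := ⊤) trivial
  obtain ⟨hD', hDs⟩ := Synt29.surjective_app_of_isClosedImmersion_restrict Δ D hD
  haveI := KRegLib.isRegularRing_sections (X := pullback f f)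
    (fun q => GrpSchLib.isRegularLocalRing_stalk_of_smooth (pullback.fst f f ≫ f) q) hD
  haveI := KRegLib.isRegularRing_sections (X := X)
    (fun q => GrpSchLib.isRegularLocalRing_stalk_of_smooth f q) hD'
  have hk := KRegLib.kReg_of_regular (Δ.app D).hom hDs (hD'.primeIdealOf ⟨x, hxD⟩).asIdeal
  have hc := congrArg PrimeSpectrum.asIdeal
    (IsAffineOpen.comap_primeIdealOf_appLE (f := Δ) D hD (Δ ⁻¹ᵁ D) hD' le_rfl hxD)
  have he : (Δ.appLE D (Δ ⁻¹ᵁ D) le_rfl).hom = (Δ.app D).hom := by rw [Scheme.Hom.app_eq_appLE]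
  rw [PrimeSpectrum.comap_asIdeal, he] at hc
  rw [hc] at hk
  obtain ⟨U, hxU, hcl, rs, hrs, hker⟩ :=
    KRegLib.regImmAt_of_kReg RegImm.Kind.regular Δ x hD hxD hk
  refine ⟨U, (hzx.map Δ.continuous).mem_open U.1.isOpen hxU, hcl, rs, ?_, hrs, hker⟩
  obtain ⟨rs', hlen, hreg, hker'⟩ := exists_stalk_seq Δ U x hxU rs hrs.toIsWeaklyRegular hker
  have h1 := ringKrullDim_add_length_eq_ringKrullDim_of_isRegular rs' hreg
  rw [← hker', ringKrullDim_eq_of_ringEquiv (RingHom.quotientKerEquivOfSurjective (Δ.stalkMap_surjective x)),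
    dim_stalk_diagonal f hn hx, dim_stalk_closed f hn hx, hlen] at h1
  have h2 : n + rs.length = n + n := by exact_mod_cast h1
  omega

end Groth.Agent.H23.DiagReg
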