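import Groth.Agent.H23.P1Div

/-! Graphs of functions in the projective line. -/

set_option autoImplicit false
set_option linter.style.haveILetI false

universe u

open AlgebraicGeometry CategoryTheory CategoryTheory.Limits IsLocalRing TopologicalSpace

namespace Groth.Agent.H23.P1Graph

open Groth.Agent P1Sect

variable {X : Scheme.{u}} {δ : X → ℤ} {δP : ↥(CohB1.ProjSpaceOver 1 X) → ℤ}

/-- The point given by a graph, and its coordinate. -/
theorem point_data (hP : Cyc.DeltaCompat (CohB1.ProjSpaceOver.toBase 1 X) δP δ) {T : Scheme.{u}}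
    (g : T ⟶ CohB1.ProjSpaceOver 1 X) (J : T ⟶ X) [IsPreimmersion J]
    (hJ : g ≫ CohB1.ProjSpaceOver.toBase 1 X = J)
    (φ : HomogeneousLocalization.Away P1.grading.{u} (P1.T 0) →+* Γ(T, ⊤))
    (hg : g ≫ pr X = T.toSpecΓ ≫ Spec.map (CommRingCat.ofHom φ) ≫ jZ 0) (t : T) {V : X.Opens} (hV : J t ∈ V)
    (b : Γ(X, V)) (hb : (J.stalkMap t).hom (X.presheaf.germ V (J t) hV b) = T.presheaf.germ ⊤ t trivial (φ (eZ 0)))
    (hu : IsUnit (X.presheaf.germ V (J t) hV b)) :
    g t ∈ P1Sect.V X 0 ∧ g t ∈ P1Sect.V X 1 ∧ δP (g t) = δ (CohB1.ProjSpaceOver.toBase 1 X (g t)) ∧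
      (CohB1.ProjSpaceOver.toBase 1 X).residueDegree (g t) = 1 ∧
      CohB1.ProjSpaceOver.toBase 1 X (g t) = J t ∧
      ∃ a : X.residueField (CohB1.ProjSpaceOver.toBase 1 X (g t)),
        Cyc.divFun δ (CohB1.ProjSpaceOver.toBase 1 X (g t)) a = Cyc.divFun δ (J t) (X.evaluation V (J t) hV b) ∧
        (CohB1.ProjSpaceOver.toBase 1 X).residueFieldMap (g t) a =
          (CohB1.ProjSpaceOver 1 X).residue (g t) (P1Fam.coord 0 (g t)) := by
  subst hJ
  let π := CohB1.ProjSpaceOver.toBase 1 X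
  obtain ⟨h0, he⟩ := P1Div.stalkMap_c g 0 φ hg t
  let p := g t
  have hu' : IsUnit ((CohB1.ProjSpaceOver 1 X).presheaf.germ _ p h0 (c X 0)) := by
    refine IsUnit.of_map (g.stalkMap t).hom _ ?_
    rw [he, ← hb]
    exact hu.map _
  have h1 : p ∈ P1Sect.V X 1 := (mem_other_iff' X 0 h0).2 hu'
  have hbij := CycLib.residueFieldMap_bijective (g ≫ π) t
  rw [Scheme.residueFieldMap_comp] at hbij
  have hsurj : Function.Surjective (π.residueFieldMap p) := fun a => by
    obtain ⟨c, hc⟩ := hbij.2 ((g.residueFieldMap t).hom a)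
    exact ⟨c, (g.residueFieldMap t).hom.injective hc⟩
  refine ⟨h0, h1, ?_, ?_, rfl, X.evaluation V (π (g t)) hV b, rfl, ?_⟩
  · obtain ⟨n, hn, he'⟩ := hP p
    letI := (π.residueFieldMap p).hom.toAlgebra
    haveI : Algebra.IsIntegral (X.residueField (π p)) ((CohB1.ProjSpaceOver 1 X).residueField p) :=
      ⟨fun a => by obtain ⟨c, rfl⟩ := hsurj a; exact isIntegral_algebraMap⟩
    haveI : Algebra.IsAlgebraic (X.residueField (π p)) ((CohB1.ProjSpaceOver 1 X).residueField p) := inferInstance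
    have h0' : Algebra.trdeg (X.residueField (π p)) ((CohB1.ProjSpaceOver 1 X).residueField p) = 0 :=
      trdeg_eq_zero
    rw [h0'] at hn
    have : n = 0 := by exact_mod_cast hn.symm
    subst this
    simpa using he'
  · have h1' := CycLib.residueDegree_comp g π t
    rw [CycLib.residueDegree_preimmersion (g ≫ π)] at h1'
    exact Nat.eq_one_of_mul_eq_one_right h1'.symm
  · apply (g.residueFieldMap t).hom.injective
    have e1 : (g.residueFieldMap t).hom ((CohB1.ProjSpaceOver 1 X).residue p (P1Fam.coord 0 p)) =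
        T.residue t (T.presheaf.germ ⊤ t trivial (φ (eZ 0))) := by
      rw [P1Fam.coord, dif_pos (show p ∈ P1Sect.V X 0 ⊓ P1Sect.V X (1 - 0) from ⟨h0, h1⟩), ← he]
      exact congrArg (fun m => m.hom ((CohB1.ProjSpaceOver 1 X).presheaf.germ _ p h0 (c X 0)))
        (Scheme.residue_residueFieldMap g t)
    rw [e1, ← hb]
    have e2 := congrArg (fun m => m.hom (X.presheaf.germ V ((g ≫ π) t) hV b))
      (Scheme.residue_residueFieldMap (g ≫ π) t)
    rw [Scheme.residueFieldMap_comp] at e2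
    exact e2

theorem chart_eval {T : Scheme.{u}} (v : Γ(T, ⊤)) :
    ((CommRingCat.ofHom (P1.chartMap 0 Γ(T, ⊤) v)).hom) (eZ 0) = v := P1Div.chartMap_eZ 0 _ v

theorem isRadical_ker {T P : Scheme.{u}} [IsReduced T] (g : T ⟶ P) [QuasiCompact g] (U : P.affineOpens) :
    (g.ker.ideal U).IsRadical := by
  rw [Scheme.Hom.ker_apply]
  intro a ⟨n, hn⟩
  rw [RingHom.mem_ker, map_pow] at hn
  rw [RingHom.mem_ker]
  exact IsReduced.eq_zero _ ⟨n, hn⟩

theorem image_integral {T P : Scheme.{u}} [IsIntegral T] (g : T ⟶ P) [QuasiCompact g] :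
    ∃ _ : IsIntegral g.ker.subscheme, g.ker.subschemeι (genericPoint g.ker.subscheme) = g (genericPoint T) := by
  haveI : IsReduced g.ker.subscheme := RedSub.isReduced_subscheme (isRadical_ker g)
  have hd : DenseRange (g.toImage : T → g.ker.subscheme) := g.toImage.denseRange
  have hgen : IsGenericPoint (g.toImage (genericPoint T)) (⊤ : Set g.ker.subscheme) := by
    refine ((genericPoint_spec T).image g.toImage.continuous).trans ?_
    rw [Set.top_eq_univ, Set.image_univ]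
    exact hd.closure_range
  haveI : IrreducibleSpace g.ker.subscheme := by
    rw [irreducibleSpace_def]
    exact hgen.isIrreducible
  haveI : IsIntegral g.ker.subscheme := isIntegral_of_irreducibleSpace_of_isReduced _
  refine ⟨inferInstance, ?_⟩
  have e := (genericPoint_spec g.ker.subscheme).eq hgen
  rw [e]
  show (g.toImage ≫ g.imageι) (genericPoint T) = _
  rw [g.toImage_imageι]

theorem graph_closure [IsIntegral X] (hX : Cyc.IsSetup X δ) (n : ℤ) (hn : δ (genericPoint X) = n) (U : X.Opens)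
    (hη : genericPoint X ∈ U) (f : Γ(X, U)) (hf : IsUnit f) (x : X) :
    Cyc.divFun δ (genericPoint X) (X.evaluation U (genericPoint X) hη f) x =
      Cyc.subschemeFun δ (n - 1) (pullback.snd (P1.graphClosureι X U f) (P1.sect X 0)) x -
        Cyc.subschemeFun δ (n - 1) (pullback.snd (P1.graphClosureι X U f) (P1.sect X 1)) x := by
  haveI := hX.1
  let π := CohB1.ProjSpaceOver.toBase 1 X
  haveI : Nonempty (↑U : Scheme.{u}) := ⟨⟨_, hη⟩⟩
  haveI : IsIntegral (↑U : Scheme.{u}) := isIntegral_of_isOpenImmersion U.ι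
  have hJ : P1.graph X U f ≫ π = U.ι := pullback.lift_snd _ _ _
  haveI : QuasiCompact (P1.graph X U f ≫ π) := by rw [hJ]; infer_instance
  haveI : QuasiCompact (P1.graph X U f) := QuasiCompact.of_comp (P1.graph X U f) π
  let φ : HomogeneousLocalization.Away P1.grading.{u} (P1.T 0) →+* Γ((↑U : Scheme.{u}), ⊤) :=
    U.topIso.inv.hom.comp (P1.chartMap 0 Γ(X, U) f)
  have hg : P1.graph X U f ≫ pr X = (↑U : Scheme.{u}).toSpecΓ ≫ Spec.map (CommRingCat.ofHom φ) ≫ jZ 0 := by
    refine (pullback.lift_fst _ _ _).trans ?_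
    show _ = (↑U : Scheme.{u}).toSpecΓ ≫ Spec.map (CommRingCat.ofHom (P1.chartMap 0 Γ(X, U) f) ≫ U.topIso.inv) ≫ _
    rw [Spec.map_comp]
    simp [Scheme.Opens.toSpecΓ]
  obtain ⟨hI, hgen⟩ := image_integral (P1.graph X U f)
  let t := genericPoint (↑U : Scheme.{u})
  have ht : U.ι t = genericPoint X := genericPoint_eq_of_isOpenImmersion U.ι
  have hb : (U.ι.stalkMap t).hom (X.presheaf.germ U (U.ι t) t.2 f) =
      (↑U : Scheme.{u}).presheaf.germ ⊤ t trivial (φ (eZ 0)) := by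
    rw [show φ (eZ 0) = U.topIso.inv.hom f from congrArg U.topIso.inv.hom (P1Div.chartMap_eZ 0 _ f)]
    refine (Scheme.Hom.germ_stalkMap_apply U.ι U t t.2 f).trans ?_
    refine Eq.trans ?_ (TopCat.Presheaf.germ_res_apply (↑U : Scheme.{u}).presheaf
      (homOfLE (le_top : U.ι ⁻¹ᵁ U ≤ ⊤)) t t.2 (U.topIso.inv.hom f))
    refine congrArg _ ?_
    show (U.ι.app U).hom f = (U.topIso.inv ≫ (↑U : Scheme.{u}).presheaf.map (homOfLE le_top).op).hom f
    rw [Scheme.Opens.topIso_inv, Scheme.Opens.ι_app, Scheme.Opens.toScheme_presheaf_map]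
    erw [← Functor.map_comp]
    rfl
  obtain ⟨h0, h1, hδ, hdeg, hπ, a, ha, ha'⟩ := point_data (δP := fun p => δ (π p) + FibDim.rd π p) (δ := δ)
    (ChowDesc.deltaCompat_rd π δ) (P1.graph X U f) U.ι hJ φ hg t (V := U) t.2 f hb (hf.map _)
  have key : ∀ y, y = genericPoint X → ∀ hy : y ∈ U,
      Cyc.divFun δ y (X.evaluation U y hy f) = Cyc.divFun δ (genericPoint X) (X.evaluation U (genericPoint X) hη f) := by
    rintro y rfl _
    rfl
  rw [← key _ ht t.2, ← ha]
  have hk : δ (π (P1.graph X U f t)) = n - 1 + 1 := by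
    show δ (CohB1.ProjSpaceOver.toBase 1 X (P1.graph X U f t)) = _
    rw [hπ, ht, hn]; ring
  haveI : IsIntegral (P1.graph X U f).ker.subscheme := hI
  haveI : IsClosedImmersion (P1.graphClosureι X U f) :=
    inferInstanceAs (IsClosedImmersion (P1.graph X U f).ker.subschemeι)
  have main := P1Div.fibres_eq_divFun (δP := fun p => δ (π p) + FibDim.rd π p) hX (ChowDesc.deltaCompat_rd π δ)
    (k := n - 1) (P1.graphClosureι X U f) (W := (P1.graph X U f).ker.subscheme)
  have hgen' : P1.graphClosureι X U f (genericPoint (P1.graph X U f).ker.subscheme) = P1.graph X U f t := hgen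
  revert main
  rw [hgen']
  intro main
  exact (main (hδ.trans hk) h0 h1 hk hdeg a ha' x).symm

theorem exists_family (hX : Cyc.IsSetup X δ) (hP : Cyc.DeltaCompat (CohB1.ProjSpaceOver.toBase 1 X) δP δ) {k : ℤ}
    (ξ : X) (hk : δ ξ = k + 1) (f : X.residueField ξ) (hf : f ≠ 0) :
    ∃ (W : Scheme.{u}) (_ : IsIntegral W) (ι : W ⟶ CohB1.ProjSpaceOver 1 X) (_ : IsClosedImmersion ι),
      (δP (ι (genericPoint W)) = k + 1 ∧ ι (genericPoint W) ∉ Set.range ⇑(P1.sect X 0) ∧
        ι (genericPoint W) ∉ Set.range ⇑(P1.sect X 1)) ∧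
      Set.range ι ⊆ CohB1.ProjSpaceOver.toBase 1 X ⁻¹' closure {ξ} ∧
      ∀ x, Cyc.divFun δ ξ f x = Cyc.subschemeFun δ k (pullback.snd ι (P1.sect X 0)) x -
        Cyc.subschemeFun δ k (pullback.snd ι (P1.sect X 1)) x := by
  haveI := hX.1
  let π := CohB1.ProjSpaceOver.toBase 1 X
  obtain ⟨s, rfl⟩ := Ideal.Quotient.mk_surjective f
  obtain ⟨V, hξV, b, rfl⟩ := X.presheaf.exists_germ_eq (x := ξ) s
  have hu : IsUnit (X.presheaf.germ V ξ hξV b) := by
    by_contra hu
    exact hf (Ideal.Quotient.eq_zero_iff_mem.2 hu)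
  obtain ⟨Z, hZ, j, hjc, hj, -⟩ := CycLib.exists_closure_point ξ
  subst hj
  haveI := hZ
  haveI := hjc
  let O : Z.Opens := j ⁻¹ᵁ V
  haveI : Nonempty (↑O : Scheme.{u}) := ⟨⟨genericPoint Z, hξV⟩⟩
  haveI : IsIntegral (↑O : Scheme.{u}) := isIntegral_of_isOpenImmersion O.ι
  let J : (↑O : Scheme.{u}) ⟶ X := O.ι ≫ j
  let v : Γ((↑O : Scheme.{u}), ⊤) := O.topIso.inv.hom ((j.app V).hom b)
  let g : (↑O : Scheme.{u}) ⟶ CohB1.ProjSpaceOver 1 X :=
    pullback.lift ((↑O : Scheme.{u}).toSpecΓ ≫ Spec.map (CommRingCat.ofHom (P1.chartMap 0 _ v)) ≫ jZ 0) J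
      (specULiftZIsTerminal.hom_ext _ _)
  let t := genericPoint (↑O : Scheme.{u})
  have ht : O.ι t = genericPoint Z := genericPoint_eq_of_isOpenImmersion O.ι
  have htV : J t ∈ V := by
    show j (O.ι t) ∈ V
    rw [ht]; exact hξV
  have hb : (J.stalkMap t).hom (X.presheaf.germ V (J t) htV b) =
      (↑O : Scheme.{u}).presheaf.germ ⊤ t trivial (P1.chartMap 0 _ v (eZ 0)) := by
    rw [P1Div.chartMap_eZ]
    refine (Scheme.Hom.germ_stalkMap_apply J V t htV b).trans ?_
    refine Eq.trans ?_ (TopCat.Presheaf.germ_res_apply (↑O : Scheme.{u}).presheaf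
      (homOfLE (le_top : J ⁻¹ᵁ V ≤ ⊤)) t htV v)
    refine congrArg _ ?_
    show (j.app V ≫ O.ι.app O).hom b =
      (j.app V ≫ O.topIso.inv ≫ (↑O : Scheme.{u}).presheaf.map (homOfLE le_top).op).hom b
    rw [Scheme.Opens.topIso_inv, Scheme.Opens.ι_app, Scheme.Opens.toScheme_presheaf_map]
    erw [← Functor.map_comp]
    rfl
  have key : ∀ y, y = j (genericPoint Z) → ∀ hy : y ∈ V, IsUnit (X.presheaf.germ V y hy b) ∧ δ y = k + 1 ∧
      Cyc.divFun δ y (X.evaluation V y hy b) =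
        Cyc.divFun δ (j (genericPoint Z)) (X.residue _ (X.presheaf.germ V _ hξV b)) := by
    rintro y rfl hy
    exact ⟨hu, hk, rfl⟩
  obtain ⟨hu', hk', hdiv⟩ := key (J t) (congrArg j ht) htV
  obtain ⟨h0, h1, hδ, hdeg, hπ, a, ha, ha'⟩ := point_data hP g J (pullback.lift_snd _ _ _) _
    (pullback.lift_fst _ _ _) t htV b hb hu'
  obtain ⟨W, hW, ι, hιc, hι, hr⟩ := CycLib.exists_closure_point (g t)
  haveI := hW
  haveI := hιc
  have hk'' : δ (π (g t)) = k + 1 := by
    show δ (CohB1.ProjSpaceOver.toBase 1 X (g t)) = _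
    rw [hπ, hk']
  refine ⟨W, hW, ι, hιc, ⟨by rw [hι, hδ]; exact hk'', ?_, ?_⟩, ?_, fun x => ?_⟩
  · rw [hι]
    rintro ⟨y, hy⟩
    exact P1Fam.sect_ne 0 y (hy.symm ▸ h1)
  · rw [hι]
    rintro ⟨y, hy⟩
    exact P1Fam.sect_ne 1 y (hy.symm ▸ h0)
  · rw [hr]
    refine closure_minimal ?_ (isClosed_closure.preimage π.continuous)
    rintro _ rfl
    refine subset_closure ?_
    show CohB1.ProjSpaceOver.toBase 1 X (g t) = j (genericPoint Z)
    rw [hπ]; exact congrArg j ht
  · have main := P1Div.fibres_eq_divFun hX hP (k := k) ι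
    revert main
    rw [hι]
    intro main
    rw [main (hδ.trans hk'') h0 h1 hk'' hdeg a ha' x, ha, hdiv]
    rfl

end Groth.Agent.H23.P1Graph
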