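import Groth.Prelude.Def_Coh
import Groth.Prelude.Def_Pic
import Mathlib.AlgebraicGeometry.Modules.Sheaf
import Mathlib.Topology.Sheaves.Stalks
import Mathlib.AlgebraicGeometry.Properties

/-!
Locality for morphisms of sheaves of modules on schemes and endomorphisms of the structure module.
-/

universe u

open CategoryTheory Limits AlgebraicGeometry Opposite TopologicalSpace

namespace Groth.Agent.H23.ModLoc

variable {X : Scheme.{u}}

/-- A morphism of modules which is an isomorphism locally is an isomorphism. -/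
lemma isIso_of_locally {M N : X.Modules} (φ : M ⟶ N)
    (h : ∀ x : X, ∃ U : X.Opens, x ∈ U ∧ IsIso ((Scheme.Modules.restrictFunctor U.ι).map φ)) :
    IsIso φ := by
  have hst : ∀ x : X, IsIso ((TopCat.Presheaf.stalkFunctor Ab.{u} x).map
      ((Scheme.Modules.toPresheaf X).map φ)) := by
    intro x
    obtain ⟨U, hx, hiso⟩ := h x
    have e := Scheme.Modules.restrictStalkNatIso U.ι ⟨x, hx⟩
    refine (NatIso.isIso_map_iff e φ).mp ?_
    change IsIso ((TopCat.Presheaf.stalkFunctor Ab.{u} _).map ((Scheme.Modules.toPresheaf _).map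
      ((Scheme.Modules.restrictFunctor U.ι).map φ)))
    infer_instance
  let F : TopCat.Sheaf Ab.{u} X := ⟨M.presheaf, Scheme.Modules.isSheaf M⟩
  let G : TopCat.Sheaf Ab.{u} X := ⟨N.presheaf, Scheme.Modules.isSheaf N⟩
  let ψ : F ⟶ G := ⟨(Scheme.Modules.toPresheaf X).map φ⟩
  have : ∀ x : X, IsIso ((TopCat.Presheaf.stalkFunctor Ab.{u} x).map ψ.hom) := hst
  have : IsIso ψ := TopCat.Presheaf.isIso_of_stalkFunctor_map_iso ψ
  have : IsIso ((Scheme.Modules.toPresheaf X).map φ) :=
    (TopCat.Sheaf.forget _ _).map_isIso ψ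
  exact isIso_of_reflects_iso φ (Scheme.Modules.toPresheaf X)

/-- Morphisms of modules are equal if they are equal locally. -/
lemma hom_ext_of_locally {M N : X.Modules} (φ ψ : M ⟶ N)
    (h : ∀ x : X, ∃ U : X.Opens, x ∈ U ∧
      (Scheme.Modules.restrictFunctor U.ι).map φ = (Scheme.Modules.restrictFunctor U.ι).map ψ) :
    φ = ψ := by
  choose U hU he using h
  refine Scheme.Modules.hom_ext _ _ fun V => ?_
  ext m
  refine TopCat.Sheaf.eq_of_locally_eq' (⟨N.presheaf, Scheme.Modules.isSheaf N⟩ : TopCat.Sheaf Ab.{u} X)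
    (fun x : X => U x ⊓ V) V (fun x => homOfLE inf_le_right)
    (fun x hx => TopologicalSpace.Opens.mem_iSup.mpr ⟨x, hU x, hx⟩) _ _ fun x => ?_
  have hW : (U x).ι ''ᵁ ((U x).ι ⁻¹ᵁ (U x ⊓ V)) = U x ⊓ V := by
    rw [Scheme.Hom.image_preimage_eq_opensRange_inf, Scheme.Opens.opensRange_ι]
    simp
  have h1 : φ.app (U x ⊓ V) = ψ.app (U x ⊓ V) := by
    rw [← hW]
    exact congr(($(he x)).app ((U x).ι ⁻¹ᵁ (U x ⊓ V)))
  have n1 := ConcreteCategory.congr_hom (φ.mapPresheaf.naturality (homOfLE (inf_le_right : U x ⊓ V ≤ V)).op) m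
  have n2 := ConcreteCategory.congr_hom (ψ.mapPresheaf.naturality (homOfLE (inf_le_right : U x ⊓ V ≤ V)).op) m
  change φ.app _ (M.presheaf.map _ m) = N.presheaf.map _ (φ.app V m) at n1
  change ψ.app _ (M.presheaf.map _ m) = N.presheaf.map _ (ψ.app V m) at n2
  change N.presheaf.map _ (φ.app V m) = N.presheaf.map _ (ψ.app V m)
  rw [← n1, ← n2, h1]

/-- An endomorphism of the structure module as a function on sections of the structure sheaf. -/
noncomputable def endApp (f : Coh.structureModule X ⟶ Coh.structureModule X) (U : X.Opens) (r : Γ(X, U)) :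
    Γ(X, U) := (f.val.app (op U)).hom r

/-- The global function by which an endomorphism of the structure module multiplies. -/
noncomputable def coeff (f : Coh.structureModule X ⟶ Coh.structureModule X) : Γ(X, ⊤) :=
  endApp f ⊤ 1

lemma app_eq_mul (f : Coh.structureModule X ⟶ Coh.structureModule X) (U : X.Opens) (r : Γ(X, U)) :
    endApp f U r = r * X.presheaf.map (homOfLE (le_top : U ≤ ⊤)).op (coeff f) := by
  have h1 := PresheafOfModules.naturality_apply f.val (homOfLE (le_top : U ≤ ⊤)).op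
    (1 : X.ringCatSheaf.obj.obj (op ⊤))
  have h2 : (Coh.structureModule X).val.map (homOfLE (le_top : U ≤ ⊤)).op
      (1 : X.ringCatSheaf.obj.obj (op ⊤)) = (1 : X.ringCatSheaf.obj.obj (op U)) :=
    map_one (X.ringCatSheaf.obj.map (homOfLE (le_top : U ≤ ⊤)).op).hom
  rw [h2] at h1
  have h3 := (f.val.app (op U)).hom.map_smul r (1 : X.ringCatSheaf.obj.obj (op U))
  have h4 : endApp f U (r * 1) = r * endApp f U 1 := h3
  rw [mul_one] at h4
  rw [h4]
  exact congrArg (r * ·) h1

lemma coeff_comp (f g : Coh.structureModule X ⟶ Coh.structureModule X) :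
    coeff (f ≫ g) = coeff f * coeff g := by
  change endApp g ⊤ (endApp f ⊤ _) = _
  rw [app_eq_mul g ⊤]
  have : X.presheaf.map (homOfLE (le_top : (⊤ : X.Opens) ≤ ⊤)).op = 𝟙 _ := X.presheaf.map_id _
  rw [this]
  rfl

lemma coeff_id : coeff (𝟙 (Coh.structureModule X)) = 1 := rfl

lemma coeff_zero : coeff (0 : Coh.structureModule X ⟶ Coh.structureModule X) = 0 := rfl

lemma coeff_injective : Function.Injective (coeff (X := X)) := by
  intro f g h
  refine Scheme.Modules.hom_ext _ _ fun U => ?_
  ext r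
  change endApp f U r = endApp g U r
  rw [app_eq_mul f U, app_eq_mul g U, h]

lemma isIso_of_isUnit_coeff (f : Coh.structureModule X ⟶ Coh.structureModule X) (h : IsUnit (coeff f)) :
    IsIso f := by
  refine Scheme.Modules.Hom.isIso_iff_isIso_app.mpr fun U => ?_
  rw [ConcreteCategory.isIso_iff_bijective]
  change Function.Bijective (fun r : Γ(X, U) => endApp f U r)
  simp only [app_eq_mul f U]
  exact (h.map (X.presheaf.map (homOfLE (le_top : U ≤ ⊤)).op).hom).unit.mulRight_bijective

lemma coeff_natural {Y : Scheme.{u}} (j : Y ⟶ X) [IsOpenImmersion j]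
    (f : Coh.structureModule X ⟶ Coh.structureModule X) :
    coeff ((Scheme.Modules.restrictUnitIso j).inv ≫ (Scheme.Modules.restrictFunctor j).map f ≫
      (Scheme.Modules.restrictUnitIso j).hom) = j.appTop (coeff f) := by
  change (j.appIso ⊤).hom (endApp f (j ''ᵁ ⊤) ((j.appIso ⊤).inv 1)) = _
  rw [map_one, app_eq_mul f, one_mul, Scheme.Hom.appIso_hom']
  rw [← ConcreteCategory.comp_apply, Scheme.Hom.map_appLE]
  simp [Scheme.Hom.appLE]

/-- A section of an invertible module on an integral scheme vanishing on a nonempty open is zero. -/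
lemma section_eq_zero_of_restrict_eq_zero [IsIntegral X] {L : X.Modules} (hL : PicF.IsInvertible L)
    (U : X.Opens) (hU : (U : Set X).Nonempty) (V : X.Opens) (hUV : U ≤ V) (m : Γ(L, V))
    (hm : L.presheaf.map (homOfLE hUV).op m = 0) : m = 0 := by
  choose W hW e using hL
  refine TopCat.Sheaf.eq_of_locally_eq' (⟨L.presheaf, Scheme.Modules.isSheaf L⟩ : TopCat.Sheaf Ab.{u} X)
    (fun x : X => W x ⊓ V) V (fun x => homOfLE inf_le_right)
    (fun x hx => TopologicalSpace.Opens.mem_iSup.mpr ⟨x, hW x, hx⟩) _ _ fun x => ?_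
  change L.presheaf.map _ m = L.presheaf.map _ 0
  rw [map_zero]
  by_cases hne : ((W x ⊓ V : X.Opens) : Set X).Nonempty
  swap
  · have : (W x ⊓ V : X.Opens) = ⊥ := by
      ext1; simpa [Set.not_nonempty_iff_eq_empty] using hne
    have hs : Subsingleton (L.presheaf.obj (op (W x ⊓ V))) := by
      rw [this]
      exact (AddCommGrpCat.subsingleton_of_isZero
        ((TopCat.Sheaf.isTerminalOfEmpty (⟨L.presheaf, Scheme.Modules.isSheaf L⟩ : TopCat.Sheaf Ab.{u} X)).isZero))
    exact Subsingleton.elim _ _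
  have hmeet : ((W x ⊓ U : X.Opens) : Set X).Nonempty :=
    nonempty_preirreducible_inter (W x).isOpen U.isOpen (hne.mono inf_le_left) hU
  let A : (W x).toScheme.Opens := (W x).ι ⁻¹ᵁ (W x ⊓ V)
  let B : (W x).toScheme.Opens := (W x).ι ⁻¹ᵁ (W x ⊓ U)
  have hA : (W x).ι ''ᵁ A = W x ⊓ V := by
    rw [Scheme.Hom.image_preimage_eq_opensRange_inf, Scheme.Opens.opensRange_ι]; simp
  have hB : (W x).ι ''ᵁ B = W x ⊓ U := by
    rw [Scheme.Hom.image_preimage_eq_opensRange_inf, Scheme.Opens.opensRange_ι]; simp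
  have hBA : B ≤ A := fun y hy => ⟨hy.1, hUV hy.2⟩
  have hBne : Nonempty B := by
    obtain ⟨y, hy⟩ := hmeet
    exact ⟨⟨⟨y, hy.1⟩, hy⟩⟩
  have : IsIntegral (W x).toScheme :=
    have : Nonempty (W x).toScheme := ⟨⟨x, hW x⟩⟩
    isIntegral_of_isOpenImmersion (W x).ι
  obtain ⟨ε⟩ := e x
  let m' : Γ(L.restrict (W x).ι, A) := L.presheaf.map (homOfLE (hA.le.trans inf_le_right)).op m
  have hm' : (L.restrict (W x).ι).presheaf.map (homOfLE hBA).op m' = 0 := by
    change L.presheaf.map _ (L.presheaf.map _ m) = 0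
    rw [← ConcreteCategory.comp_apply, ← Functor.map_comp]
    have := congrArg (L.presheaf.map (homOfLE (hB.le.trans inf_le_right)).op) hm
    rw [map_zero, ← ConcreteCategory.comp_apply, ← Functor.map_comp] at this
    exact this
  have he : ε.hom.app A m' = 0 := by
    apply map_injective_of_isIntegral (W x).toScheme (homOfLE hBA)
    refine Eq.trans ?_ (map_zero ((W x).toScheme.presheaf.map (homOfLE hBA).op).hom).symm
    have := ConcreteCategory.congr_hom (ε.hom.mapPresheaf.naturality (homOfLE hBA).op) m'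
    change ε.hom.app B ((L.restrict (W x).ι).presheaf.map (homOfLE hBA).op m') = _ at this
    rw [hm', map_zero] at this
    exact this.symm
  have : m' = 0 := by
    apply (ConcreteCategory.bijective_of_isIso (ε.hom.app A)).1
    rw [he, map_zero]
  have := congrArg (L.presheaf.map (homOfLE hA.ge).op) this
  refine Eq.trans ?_ (this.trans (map_zero (L.presheaf.map (homOfLE hA.ge).op).hom))
  change _ = L.presheaf.map _ (L.presheaf.map _ m)
  rw [← ConcreteCategory.comp_apply, ← Functor.map_comp]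
  rfl

end Groth.Agent.H23.ModLoc
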