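import Groth.Agent.H23.Chern.Comm
import Groth.Agent.H23.Chern.Split
import Groth.Agent.H23.Chern.Det
import Groth.Agent.Lib.DegComp
import Groth.Agent.Lib.NefPull
import Groth.Agent.Lib.CurveRR
import Groth.Agent.Lib.CurveDeg
import Groth.Agent.CurveCohLib.Stable
import Groth.Agent.CycLib.Finite
import Groth.Agent.CycLib.Pull
import Groth.Agent.WeilLib.Geometry

/-! The degree of a bundle on a proper scheme of dimension one is the degree of its determinant. -/

set_option autoImplicit false
set_option backward.isDefEq.respectTransparency false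
set_option backward.isDefEq.respectTransparency.types false

universe u

open CategoryTheory CategoryTheory.Limits AlgebraicGeometry TopologicalSpace Opposite

noncomputable section

namespace Groth.Agent.H23.DegDet

open Groth.Agent Groth.Agent.H23.Chern Groth.Agent.H23.ProjBd

/-- Every point of the base lifts to a point with the same residue field. -/
theorem exists_rational {P X : Scheme.{u}} {π : P ⟶ X} {d : ℕ} (h : Tower π d) :
    ∀ [IsLocallyNoetherian X] (ξ : X), ∃ z : P, π z = ξ ∧ Function.Surjective (π.residueFieldMap z) := by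
  induction h with
  | of_iso π h =>
    intro _ ξ
    obtain ⟨z, rfl⟩ := π.surjective ξ
    exact ⟨z, rfl, (ConcreteCategory.bijective_of_isIso (π.residueFieldMap z)).2⟩
  | step π d h p F O1 q n hE hP ih =>
    intro _ ξ
    haveI := isProper_of_projBundle hP hE
    haveI := LocallyOfFiniteType.isLocallyNoetherian p
    have hc := hasCoords_of_projBundle hP hE
    obtain ⟨η, hη⟩ := (hc.coords ξ).exists_isEta (hc.mem_nhd ξ) (i := n) le_rfl
    obtain ⟨z, hz, hs⟩ := ih η
    subst hz
    refine ⟨z, hη.apply_eq, ?_⟩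
    rw [Scheme.residueFieldMap_comp]
    exact hs.comp (ProjBd.Coords.IsEta.residueFieldMap_surjective (hc.coords ξ) (hc.mem_nhd ξ) hη)

variable (k : Type u) [Field k] {X : Scheme.{u}} [X.Over (Spec (CommRingCat.of k))]
  [IsProper (X ↘ Spec (CommRingCat.of k))]

/-- The degree of a filtered bundle on an integral curve is the degree of its determinant. -/
theorem deg_filt [IsIntegral X] (hdim : topologicalKrullDim X = 1) {E : X.Modules} {r : ℕ} (hF : Filt E r) :
    Curv2.deg k X E r = Curv2.deg k X (H28.ExtBase.L E r) 1 := by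
  haveI := CurveCohLib.isNoetherian_of_proper (k := k) (X := X)
  induction hF with
  | zero E h =>
    have l := H28.KvbModel.lf_of_rank (Filt.zero E h).rank
    obtain ⟨e₀⟩ := H28.ExtSh.nonempty_iso_L l (H28.KvbLam.isExtPow_zero E)
    rw [CurveRR.deg_congr k e₀ 1]
    have h0 : Curv2.euler k X E = 0 := by
      have hs : (ShortComplex.mk (0 : E ⟶ E) (0 : E ⟶ E) (by simp)).ShortExact :=
        { exact := ShortComplex.exact_of_isZero_X₂ _ h
          mono_f := ⟨fun a b _ => h.eq_of_tgt a b⟩
          epi_g := ⟨fun a b _ => h.eq_of_src a b⟩ }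
      have hc : Coh.IsCoh E := CurveDeg.isCoh_of_isFinLocFree (Chern.isFinLocFree_of_rank (Filt.zero E h).rank)
      have := CurveCohLib.euler_additive (k := k) hs hc hc hc
      simpa using this
    simp [Curv2.deg, h0]
  | step S hS h3 r h ih =>
    have h₁ := h.rank
    have h₃ := InvEnd.isFinLocFreeOfRank_one h3
    have hD₁ : PicF.IsInvertible (H28.ExtBase.L S.X₁ r) :=
      H28.PBCores.isInvertible_iff_rank.2 (H28.PBCores.rank_top h₁)
    obtain ⟨eT⟩ := H28.PBCores.det_ext hS h₁ h₃
    rw [CurveCohLib.deg_add k hS (CurveDeg.isCoh_of_isFinLocFree (Chern.isFinLocFree_of_rank h₁))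
      (CurveDeg.isCoh_of_isFinLocFree (Chern.isFinLocFree_of_rank (Filt.step S hS h3 r h).rank))
      (CurveDeg.isCoh_of_isFinLocFree (Chern.isFinLocFree_of_rank h₃)) r 1, ih,
      ← CurveRR.deg_congr k eT 1]
    exact (CurveRR.deg_tensor k hdim hD₁ h3).symm

/-- On every curve of the scheme the degree is that of the determinant. -/
theorem degAt_det {E L : X.Modules} {n : ℕ} (hE : FlatMod.IsFinLocFreeOfRank n E) (hL : ExtPow.IsExtPow n E L)
    (ξ : X) (hdim : topologicalKrullDim ↥(closure ({ξ} : Set X)) = 1) :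
    DegComp.degAt k E n ξ = DegComp.degAt k L 1 ξ := by
  haveI := CurveCohLib.isNoetherian_of_proper (k := k) (X := X)
  obtain ⟨P, π, d, hT, hF⟩ := exists_split n E hE
  haveI := hT.proper
  obtain ⟨z, hz, hs⟩ := exists_rational hT ξ
  letI : P.Over (Spec (CommRingCat.of k)) := ⟨π ≫ (X ↘ Spec (CommRingCat.of k))⟩
  haveI : IsProper (P ↘ Spec (CommRingCat.of k)) := inferInstanceAs (IsProper (π ≫ (X ↘ Spec (CommRingCat.of k))))
  obtain ⟨hintJ, hrJ, -⟩ := NefPull.closure_data ξ
  obtain ⟨hintC, hrC, -⟩ := NefPull.closure_data z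
  haveI := hintJ
  haveI := hintC
  let ι := (IntMult.ptIdeal ξ).subschemeι
  let j := (IntMult.ptIdeal z).subschemeι
  letI : (IntMult.ptIdeal ξ).subscheme.Over (Spec (CommRingCat.of k)) := ⟨ι ≫ (X ↘ Spec (CommRingCat.of k))⟩
  haveI : IsProper ((IntMult.ptIdeal ξ).subscheme ↘ Spec (CommRingCat.of k)) :=
    inferInstanceAs (IsProper (ι ≫ (X ↘ Spec (CommRingCat.of k))))
  letI : (IntMult.ptIdeal z).subscheme.Over (Spec (CommRingCat.of k)) := ⟨j ≫ (P ↘ Spec (CommRingCat.of k))⟩
  haveI : IsProper ((IntMult.ptIdeal z).subscheme ↘ Spec (CommRingCat.of k)) :=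
    inferInstanceAs (IsProper (j ≫ (P ↘ Spec (CommRingCat.of k))))
  haveI := CurveCohLib.isNoetherian_of_proper (k := k) (X := X)
  haveI := FibDim.subsingleton_spec_field k
  have hJ : topologicalKrullDim (IntMult.ptIdeal ξ).subscheme = 1 := by
    rw [IsHomeomorph.topologicalKrullDim_eq _
      ((ι.isEmbedding.toHomeomorph).trans (Homeomorph.setCongr hrJ)).isHomeomorph, hdim]
  have hrd : FibDim.rd π z = 0 := CycLib.rd_eq_zero_of_finite π z (RingHom.Finite.of_surjective _ hs)
  have hC : topologicalKrullDim (IntMult.ptIdeal z).subscheme = 1 := by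
    rw [IsHomeomorph.topologicalKrullDim_eq _
      ((j.isEmbedding.toHomeomorph).trans (Homeomorph.setCongr hrC)).isHomeomorph,
      FibDim.topologicalKrullDim_closure (π ≫ (X ↘ Spec (CommRingCat.of k))), CycLib.rd_comp, hrd, add_zero, hz,
      ← FibDim.topologicalKrullDim_closure (X ↘ Spec (CommRingCat.of k)), hdim]
  have hjgen : j (genericPoint (IntMult.ptIdeal z).subscheme) = z := by
    refine (Specializes.antisymm ?_ ?_).eq
    · obtain ⟨w, hw⟩ : z ∈ Set.range j := hrC.ge (subset_closure rfl)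
      exact ((genericPoint_specializes w).map j.continuous).trans (specializes_of_eq hw)
    · exact specializes_iff_mem_closure.2 (hrC ▸ ⟨_, rfl⟩)
  obtain ⟨a, ha⟩ := H23.RedSub.exists_lift_closed (j ≫ π) ι (by
    rw [hrJ]
    rintro _ ⟨c, rfl⟩
    refine specializes_iff_mem_closure.1 ?_
    have h1 := ((genericPoint_specializes c).map j.continuous).map π.continuous
    rw [hjgen, hz] at h1
    exact h1)
  have hak : a ≫ ((IntMult.ptIdeal ξ).subscheme ↘ Spec (CommRingCat.of k)) =
      (IntMult.ptIdeal z).subscheme ↘ Spec (CommRingCat.of k) := by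
    show a ≫ ι ≫ _ = j ≫ π ≫ _
    rw [← Category.assoc, ha, Category.assoc]
  set c₀ := genericPoint (IntMult.ptIdeal z).subscheme with hc₀
  have hgen : a c₀ = genericPoint (IntMult.ptIdeal ξ).subscheme := by
    refine ι.isClosedEmbedding.injective ?_
    have h1 : ι (a c₀) = ξ :=
      (congrArg (fun φ : (IntMult.ptIdeal z).subscheme ⟶ X => φ c₀) ha).trans ((congrArg π hjgen).trans hz)
    rw [h1]
    refine (Specializes.antisymm ?_ ?_).eq
    · exact specializes_iff_mem_closure.2 (hrJ ▸ ⟨_, rfl⟩)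
    · exact ((genericPoint_specializes _).map ι.continuous).trans (specializes_of_eq h1)
  have hone : a.residueDegree c₀ = 1 := by
    have h1 : (a ≫ ι).residueDegree c₀ = (j ≫ π).residueDegree c₀ :=
      congrArg (fun φ : (IntMult.ptIdeal z).subscheme ⟶ X => φ.residueDegree c₀) ha
    rw [CycLib.residueDegree_comp, CycLib.residueDegree_comp, CycLib.residueDegree_preimmersion j,
      CycLib.residueDegree_preimmersion ι, one_mul, mul_one, hjgen] at h1
    rw [h1, WeilLib.residueDegree_eq_one_of_surjective π z hs]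
  have key : ∀ {F : X.Modules} {m : ℕ}, FlatMod.IsFinLocFreeOfRank m F →
      Curv2.deg k _ ((Scheme.Modules.pullback (j ≫ π)).obj F) m = DegComp.degAt k F m ξ := fun {F} {m} hF' => by
    have h1 := DegPull.deg_pullback k hC hJ a hak hgen (GrassFlag.rank_pullback ι hF')
    rw [hone, Nat.cast_one, one_mul] at h1
    exact (CurveRR.deg_congr k ((Scheme.Modules.pullbackComp a ι).app F ≪≫
      (Scheme.Modules.pullbackCongr ha).app F) m).symm.trans h1
  have l := H28.KvbModel.lf_of_rank hE
  obtain ⟨eL⟩ := H28.ExtSh.nonempty_iso_L l hL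
  obtain ⟨e₁⟩ := H28.ExtPull.nonempty_pullback_L (j ≫ π) n l
  have hLi : PicF.IsInvertible (H28.ExtBase.L E n) := H28.PBCores.isInvertible_iff_rank.2 (H28.PBCores.rank_top hE)
  have hLr : FlatMod.IsFinLocFreeOfRank 1 L := (ConsPropLib.isFinLocFreeOfRank_iso eL).1 (InvEnd.isFinLocFreeOfRank_one hLi)
  have hF2 : Filt ((Scheme.Modules.pullback (j ≫ π)).obj E) n :=
    (hF.pull j).iso ((Scheme.Modules.pullbackComp j π).app E)
  rw [← key hE, ← key hLr, deg_filt k hC hF2]
  exact CurveRR.deg_congr k (e₁.symm ≪≫ (Scheme.Modules.pullback (j ≫ π)).mapIso eL) 1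

/-- The degree of a bundle is the degree of its determinant. -/
theorem deg_det (hdim : topologicalKrullDim X ≤ 1) {E L : X.Modules} {n : ℕ}
    (hE : FlatMod.IsFinLocFreeOfRank n E) (hL : ExtPow.IsExtPow n E L) :
    Curv2.deg k X E n = Curv2.deg k X L 1 := by
  haveI := CurveCohLib.isNoetherian_of_proper (k := k) (X := X)
  have l := H28.KvbModel.lf_of_rank hE
  obtain ⟨eL⟩ := H28.ExtSh.nonempty_iso_L l hL
  have hLr : FlatMod.IsFinLocFreeOfRank 1 L :=
    (ConsPropLib.isFinLocFreeOfRank_iso eL).1 (InvEnd.isFinLocFreeOfRank_one (H28.PBCores.isInvertible_iff_rank.2 (H28.PBCores.rank_top hE)))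
  have hsup : topologicalKrullDim ↥(CohB1.support (Coh.structureModule X)) ≤ 1 :=
    (Topology.IsEmbedding.subtypeVal.isInducing.topologicalKrullDim_le).trans hdim
  have key : ∀ {F : X.Modules} {m : ℕ} (hF : FlatMod.IsFinLocFreeOfRank m F), Curv2.deg k X F m =
      ∑ᶠ ξ : X, (if topologicalKrullDim (closure ({ξ} : Set X)) = (1 : WithBot ℕ∞) then
        ((Module.length (X.presheaf.stalk ξ) ((Coh.structureModule X).presheaf.stalk ξ)).toNat : ℤ) *
          DegComp.degAt k F m ξ else 0) := fun {F} {m} hF => by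
    rw [← DegComp.euler_sum k hF (QCoh.isCoh_structureModule' (X := X)) hsup,
      CurveCohLib.euler_congr (k := k) (KFlatLib.tensorUnitIso F)]
    rfl
  rw [key hE, key hLr]
  refine finsum_congr fun ξ => ?_
  split_ifs with h
  · rw [degAt_det k hE hL ξ h]
  · rfl

end Groth.Agent.H23.DegDet

end
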