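import Groth.Agent.ZetaLib.ProjPoints
import Groth.Agent.Proj16.RelDomain
import Groth.Agent.H23.RatProductK

/-!
Charts of projective space and maps to abelian varieties.
-/

universe u

open CategoryTheory Limits AlgebraicGeometry MonoidalCategory CartesianMonoidalCategory
open HomogeneousLocalization (Away)

namespace Groth.Agent.H23.PnChart

open Groth.Agent.ZetaLib

noncomputable section

variable (n : ℕ) (k : Type u) [Field k]

local notation "𝒜" => CohB1.polyGrading n k
local notation "T" => (MvPolynomial.X : Fin (n + 1) → MvPolynomial (Fin (n + 1)) k)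

/-- The index set of the chart coordinates. -/
abbrev Idx (i : Fin (n + 1)) : Type u := ULift.{u} {j : Fin (n + 1) // j ≠ i}

/-- Setting `T_i = 1`. -/
def dh (i : Fin (n + 1)) : MvPolynomial (Fin (n + 1)) k →+* MvPolynomial (Idx n i) k :=
  (MvPolynomial.aeval fun j => if h : j = i then 1 else MvPolynomial.X (ULift.up ⟨j, h⟩)).toRingHom

/-- The coordinates map. -/
def fromChart (i : Fin (n + 1)) : MvPolynomial (Idx n i) k →+* Away 𝒜 (T i) :=
  MvPolynomial.eval₂Hom (base n k i) fun j => coord n k i j.down.1

theorem coord_self (i : Fin (n + 1)) : coord n k i i = 1 :=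
  HomogeneousLocalization.val_injective _ (by
    rw [HomogeneousLocalization.val_one]
    have h := val_coord n k i i
    have hu : IsUnit (algebraMap (MvPolynomial (Fin (n + 1)) k) (Localization (Submonoid.powers (T i))) (T i)) :=
      IsLocalization.map_units _ (⟨T i, 1, pow_one _⟩ : Submonoid.powers (T i))
    exact hu.mul_left_injective (h.trans (_root_.one_mul _).symm))

theorem fromChart_surjective (i : Fin (n + 1)) : Function.Surjective (fromChart n k i) := by
  have h : (fromChart n k i).comp (dh n k i) = dehom n k i := by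
    apply MvPolynomial.ringHom_ext
    · intro c
      simp [fromChart, dh, dehom]
    · intro j
      by_cases hj : j = i
      · subst hj; simp [fromChart, dh, dehom, coord_self]
      · simp [fromChart, dh, dehom, hj]
  intro z
  obtain ⟨x, rfl⟩ := surjective_dehom n k i z
  exact ⟨dh n k i x, congr($h x)⟩

theorem fromChart_injective (i : Fin (n + 1)) : Function.Injective (fromChart n k i) := by
  have hu : IsUnit (dh n k i (T i)) := by simp [dh]
  let L : Localization (Submonoid.powers (T i)) →+* MvPolynomial (Idx n i) k :=
    IsLocalization.Away.lift (T i) hu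
  let val : Away 𝒜 (T i) →+* Localization (Submonoid.powers (T i)) := algebraMap _ _
  have h : (L.comp val).comp (fromChart n k i) = RingHom.id _ := by
    apply MvPolynomial.ringHom_ext
    · intro c
      show L (val (fromChart n k i (MvPolynomial.C c))) = _
      rw [fromChart, MvPolynomial.eval₂Hom_C]
      show L ((base n k i c).val) = _
      rw [val_base, IsLocalization.Away.lift_eq]
      simp [dh]
    · rintro ⟨j, hj⟩
      show L (val (fromChart n k i (MvPolynomial.X (ULift.up ⟨j, hj⟩)))) = _
      rw [fromChart, MvPolynomial.eval₂Hom_X']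
      have h := congrArg L (val_coord n k i j)
      rw [map_mul, IsLocalization.Away.lift_eq, IsLocalization.Away.lift_eq] at h
      have h1 : dh n k i (T i) = 1 := by simp [dh]
      rw [h1, _root_.mul_one] at h
      show L ((coord n k i j).val) = _
      rw [h]
      simp [dh, hj]
  exact fun a b hab => by
    have := congrArg (L.comp val) hab
    rwa [← RingHom.comp_apply, ← RingHom.comp_apply, h] at this

/-- The chart as a map from affine space. -/
def affChart (i : Fin (n + 1)) : RatProductK.affine k (Idx n i) ⟶ Over.mk (CohB1.ProjSpace.toSpec n k) :=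
  let e : Away 𝒜 (T i) →+* MvPolynomial (Idx n i) k :=
    (RingEquiv.ofBijective (fromChart n k i) ⟨fromChart_injective n k i, fromChart_surjective n k i⟩).symm.toRingHom
  Over.homMk ((AffineSpace.SpecIso (Idx n i) (CommRingCat.of k)).hom ≫ Spec.map (CommRingCat.ofHom e) ≫ chart n k i) (by
    have he : CommRingCat.ofHom (base n k i) ≫ CommRingCat.ofHom e =
        CommRingCat.ofHom (MvPolynomial.C : k →+* MvPolynomial (Idx n i) k) := by
      refine CommRingCat.hom_ext (RingHom.ext fun c => ?_)
      show (RingEquiv.ofBijective (fromChart n k i) ⟨fromChart_injective n k i, fromChart_surjective n k i⟩).symm (base n k i c) = _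
      rw [RingEquiv.symm_apply_eq]
      show _ = fromChart n k i (MvPolynomial.C c)
      rw [fromChart, MvPolynomial.eval₂Hom_C]
    show (_ ≫ _ ≫ _) ≫ CohB1.ProjSpace.toSpec n k = _
    rw [Category.assoc, Category.assoc, chart_toSpec, ← Spec.map_comp, he]
    refine (congrArg ((AffineSpace.SpecIso (Idx n i) (CommRingCat.of k)).hom ≫ ·)
      (AffineSpace.SpecIso_inv_over (CommRingCat.of k)).symm).trans ?_
    exact Iso.hom_inv_id_assoc _ _)

theorem isIntegral_projSpace : IsIntegral (CohB1.ProjSpace n k) := by
  refine Proj16.isIntegral_proj_of_isDomain 𝒜 fun h => ?_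
  have hm : T 0 ∈ (HomogeneousIdeal.irrelevant 𝒜).toIdeal :=
    HomogeneousIdeal.mem_irrelevant_of_mem 𝒜 Nat.one_pos (X_mem_one n k 0)
  rw [h, Ideal.mem_bot] at hm
  exact MvPolynomial.X_ne_zero 0 hm

/-- A map of projective space to an abelian variety is constant. -/
theorem const {A : Over (Spec (CommRingCat.of k))} [GrpObj A] [IsProper A.hom] [GeometricallyIntegral A.hom]
    (g : Over.mk (CohB1.ProjSpace.toSpec n k) ⟶ A) :
    ∃ a : 𝟙_ (Over (Spec (CommRingCat.of k))) ⟶ A, g = toUnit _ ≫ a := by
  obtain ⟨a, ha⟩ := RatProductK.affine_const (Idx n 0) (affChart n k 0 ≫ g)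
  refine ⟨a, Over.OverMorphism.ext ?_⟩
  haveI := isIntegral_projSpace n k
  haveI : IsIntegral (Over.mk (CohB1.ProjSpace.toSpec n k)).left := isIntegral_projSpace n k
  haveI : IsOpenImmersion (affChart n k 0).left := by
    have hb := RingEquiv.bijective (RingEquiv.ofBijective (fromChart n k 0)
      ⟨fromChart_injective n k 0, fromChart_surjective n k 0⟩).symm
    have : IsIso (CommRingCat.ofHom (RingEquiv.ofBijective (fromChart n k 0)
      ⟨fromChart_injective n k 0, fromChart_surjective n k 0⟩).symm.toRingHom) :=
      (ConcreteCategory.isIso_iff_bijective _).2 hb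
    show IsOpenImmersion (_ ≫ _ ≫ _)
    infer_instance
  haveI : Nonempty (RatProductK.affine k (Idx n 0)).left :=
    ⟨(AffineSpace.homOfVector (𝟙 _) (fun _ => 0) :
      Spec (CommRingCat.of k) ⟶ 𝔸(Idx n 0; Spec (CommRingCat.of k))) (IsLocalRing.closedPoint k)⟩
  haveI : IsDominant (affChart n k 0).left :=
    ⟨(affChart n k 0).left.isOpenEmbedding.isOpen_range.dense (Set.range_nonempty _)⟩
  refine ext_of_isDominant_of_isSeparated A.hom ((Over.w g).trans (Over.w (toUnit _ ≫ a)).symm)
    (affChart n k 0).left ?_
  rw [← Over.comp_left, ← Over.comp_left, ha, ← Category.assoc, comp_toUnit]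

end

end Groth.Agent.H23.PnChart
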