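import Groth.Agent.H23.Rigid
import Groth.Prelude.Def_Coh
import Mathlib.CategoryTheory.Monoidal.Cartesian.Grp
import Mathlib.LinearAlgebra.FiniteDimensional.Basic

/-!
Formal consequences of rigidity over a field used for Albanese morphisms: pointed maps of abelian
varieties are homomorphisms, `H⁰ = k` as bijectivity of `k → Γ`, maps with one-point image are constant.
-/

universe u

open CategoryTheory MonoidalCategory CartesianMonoidalCategory MonObj GrpObj AlgebraicGeometry Opposite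

namespace Groth.Agent.H23.AlbFormal

variable {k : Type u} [Field k]

local notation "Sk" => Over (Spec (CommRingCat.of k))

lemma pt_toUnit {T T' : Sk} (x : 𝟙_ Sk ⟶ T) (y : 𝟙_ Sk ⟶ T') : x ≫ toUnit T ≫ y = y := by
  rw [← Category.assoc, toUnit_unique (x ≫ toUnit _) (𝟙 _), Category.id_comp]

lemma toUnit_one {T G : Sk} [GrpObj G] : toUnit T ≫ η[G] = (1 : T ⟶ G) := rfl

/-- A pointed map from an abelian variety to a separated group scheme is a homomorphism. -/
theorem isMonHom_of_one {A G : Sk} [GrpObj A] [IsProper A.hom] [GeometricallyIntegral A.hom]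
    [GrpObj G] [IsSeparated G.hom] (f : A ⟶ G) (hf : η[A] ≫ f = η[G]) : IsMonHom f := by
  refine ⟨hf, ?_⟩
  have e1 : (1 : A ⟶ A) ≫ f = 1 := by
    rw [← toUnit_one, Category.assoc, hf]; rfl
  have hq : (μ[A] ≫ f) * (((fst A A) ≫ f) * ((snd A A) ≫ f))⁻¹ = 1 := by
    refine (Rigid.eq_const _ η[A] η[A] η[G] ?_ ?_).trans toUnit_one
    · simp only [MonObj.comp_mul, GrpObj.comp_inv, lift_fst_assoc, lift_snd_assoc]
      rw [← Category.assoc _ μ[A], ← Hom.mul_def]
      simp only [Category.id_comp, Category.assoc, hf, toUnit_one, _root_.mul_one, e1, mul_inv_cancel]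
    · simp only [MonObj.comp_mul, GrpObj.comp_inv, lift_fst_assoc, lift_snd_assoc]
      rw [← Category.assoc _ μ[A], ← Hom.mul_def]
      simp only [Category.id_comp, Category.assoc, hf, toUnit_one, _root_.one_mul, e1, mul_inv_cancel]
  rw [mul_inv_eq_one] at hq
  rw [hq, Hom.mul_def]
  congr 1

/-- Two homomorphisms composed with a constant: uniqueness of the affine-linear factor. -/
theorem factor_translate {X A G : Sk} [GrpObj A] [IsProper A.hom] [GeometricallyIntegral A.hom]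
    [GrpObj G] [IsSeparated G.hom] (x₀ : 𝟙_ Sk ⟶ X) (alb : X ⟶ A) (halb : x₀ ≫ alb = η[A]) (φ : X ⟶ G)
    (huniv : ∀ g : X ⟶ G, x₀ ≫ g = η[G] → ∃! h : A ⟶ G, IsMonHom h ∧ alb ≫ h = g) :
    ∃ h : A ⟶ G, IsMonHom h ∧ (alb ≫ h) * (toUnit X ≫ x₀ ≫ φ) = φ ∧
      ∀ g : A ⟶ G, alb ≫ g = φ → g = h * (toUnit A ≫ x₀ ≫ φ) := by
  obtain ⟨h, ⟨hm, hh⟩, huniq⟩ := huniv (φ * (toUnit X ≫ x₀ ≫ φ)⁻¹)
    (by rw [MonObj.comp_mul, GrpObj.comp_inv, pt_toUnit, mul_inv_cancel, MonObj.one_eq_one])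
  refine ⟨h, hm, by rw [hh, inv_mul_cancel_right], fun g hg => ?_⟩
  have he : η[A] ≫ g = x₀ ≫ φ := by rw [← hg, reassoc_of% halb]
  have hg' : alb ≫ (g * (toUnit A ≫ x₀ ≫ φ)⁻¹) = φ * (toUnit X ≫ x₀ ≫ φ)⁻¹ := by
    rw [MonObj.comp_mul, GrpObj.comp_inv, hg, ← Category.assoc alb, toUnit_unique (alb ≫ toUnit _) (toUnit _)]
  have hpt : η[A] ≫ (g * (toUnit A ≫ x₀ ≫ φ)⁻¹) = η[G] := by
    rw [MonObj.comp_mul, GrpObj.comp_inv, pt_toUnit, he, mul_inv_cancel, MonObj.one_eq_one]
  rw [← huniq _ ⟨isMonHom_of_one _ hpt, hg'⟩, inv_mul_cancel_right]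

/-- `H⁰(X, O) ≅ Γ(X, O)` linearly. -/
noncomputable def HHZeroEquiv (X : Scheme.{u}) [X.Over (Spec (CommRingCat.of k))] :
    Coh.HH X (Coh.structureModule X) 0 ≃+ Coh.Γtop X :=
  CategoryTheory.Sheaf.H.equiv₀ _ Limits.isTerminalTop

lemma HHZeroEquiv_smul (X : Scheme.{u}) [X.Over (Spec (CommRingCat.of k))] (c : k)
    (x : Coh.HH X (Coh.structureModule X) 0) :
    HHZeroEquiv (k := k) X (c • x) = Coh.toGlobal (X ↘ Spec (CommRingCat.of k)) c * HHZeroEquiv (k := k) X x := by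
  refine (CategoryTheory.Sheaf.H.equiv₀_naturality (f := Coh.smulAb (Coh.structureModule X) _)
    (hT := Limits.isTerminalTop) x).symm.trans ?_
  rw [Coh.smulAb_app]
  have : ∀ r, Coh.resTop X (op ⊤) r = r := fun r => by
    simp [Coh.resTop]
  rw [this]
  rfl

theorem bijective_appTop_of_finrank (X : Scheme.{u}) [X.Over (Spec (CommRingCat.of k))]
    (h0 : Module.finrank k (Coh.HH X (Coh.structureModule X) 0) = 1) :
    Function.Bijective (X ↘ Spec (CommRingCat.of k)).appTop := by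
  let t := Coh.toGlobal (X ↘ Spec (CommRingCat.of k))
  letI : Algebra k (Coh.Γtop X) := RingHom.toAlgebra' t fun c x => @mul_comm Γ(X, ⊤) _ _ _
  let e : Coh.HH X (Coh.structureModule X) 0 ≃ₗ[k] Coh.Γtop X :=
    (HHZeroEquiv (k := k) X).toLinearEquiv fun c x => HHZeroEquiv_smul X c x
  have hf : Module.finrank k (Coh.Γtop X) = 1 := e.finrank_eq ▸ h0
  have : Nontrivial (Coh.Γtop X) := Module.nontrivial_of_finrank_eq_succ hf
  have hb : Function.Bijective t := by
    refine ⟨t.injective, fun x => ?_⟩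
    obtain ⟨c, hc⟩ := (finrank_eq_one_iff_of_nonzero' (1 : Coh.Γtop X) one_ne_zero).mp hf x
    exact ⟨c, by rw [← hc, Algebra.smul_def, _root_.mul_one]; rfl⟩
  have hiso := ConcreteCategory.bijective_of_isIso (Scheme.ΓSpecIso (CommRingCat.of k)).inv
  exact (Function.Bijective.of_comp_iff _ hiso).mp hb

/-- A map with one point image from a scheme with global functions `k` is constant. -/
theorem const_of_subsingleton {X A : Sk} (hX : Function.Bijective X.hom.appTop) (x₀ : 𝟙_ Sk ⟶ X)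
    (f : X ⟶ A) (hf : (Set.range f.left).Subsingleton) : f = toUnit X ≫ x₀ ≫ f := by
  refine Over.OverMorphism.ext ?_
  have hx : x₀.left ≫ X.hom = 𝟙 _ := Over.w x₀
  let pt : ↥(Spec (CommRingCat.of k)) := IsLocalRing.closedPoint k
  let z := f.left (x₀.left pt)
  obtain ⟨_, ⟨V, hV, rfl⟩, hzV, -⟩ :=
    A.left.isBasis_affineOpens.exists_subset_of_mem_open (Set.mem_univ z) isOpen_univ
  let V : A.left.Opens := V
  have hr : ∀ w, f.left w ∈ V := fun w => by
    rw [hf ⟨w, rfl⟩ ⟨x₀.left pt, rfl⟩]; exact hzV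
  have h1 : Set.range f.left ⊆ Set.range V.ι := by
    rintro _ ⟨w, rfl⟩; rw [Scheme.Opens.range_ι]; exact hr w
  let g := IsOpenImmersion.lift V.ι f.left h1
  have hg : g ≫ V.ι = f.left := IsOpenImmersion.lift_fac _ _ _
  change f.left = X.hom ≫ x₀.left ≫ f.left
  rw [← hg, ← Category.assoc x₀.left, ← Category.assoc X.hom]
  congr 1
  have : IsAffine V := hV
  refine ext_of_isAffine ?_
  ext a
  obtain ⟨c, hc⟩ := hX.2 (g.appTop a)
  have := congr(($hx).appTop c)
  simp only [Scheme.Hom.comp_appTop, Scheme.Hom.id_app, ConcreteCategory.comp_apply, ConcreteCategory.id_apply] at this ⊢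
  rw [← hc]
  congr 1
  exact this.symm

end Groth.Agent.H23.AlbFormal
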