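import Groth.Agent.H23.RatCodim
import Groth.Agent.H23.RatExtend
import Groth.Agent.H23.MaxAbelian

/-!
Partial maps and points with values in the function field; extension into proper groups.
-/

universe u

open CategoryTheory Limits AlgebraicGeometry TopologicalSpace MonoidalCategory CartesianMonoidalCategory IsLocalRing

open scoped MonObj

namespace Groth.Agent.H23.RatExt

open RatPoint

variable {K : Type u} [Field K] {X G : Over (Spec (CommRingCat.of K))}

/-- Products of geometrically integral schemes of finite type. -/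
theorem geometricallyIntegral_prod (M A : Over (Spec (CommRingCat.of K))) [LocallyOfFiniteType A.hom]
    [GeometricallyIntegral M.hom] [GeometricallyIntegral A.hom] [LocallyOfFiniteType M.hom] :
    GeometricallyIntegral (M ⊗ A).hom := by
  refine MaxAbelian.geometricallyIntegral_of_pullback _ fun L _ x => ?_
  have h : (M ⊗ A).hom = pullback.snd M.hom A.hom ≫ A.hom := by
    rw [← pullback.condition]; rfl
  have : IsIntegral (pullback A.hom x) :=
    GeometricallyIntegral.isIntegral_of_subsingleton (pullback.snd A.hom x)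
  have : IsLocallyNoetherian (pullback A.hom x) :=
    LocallyOfFiniteType.isLocallyNoetherian (pullback.snd A.hom x)
  have : IsIntegral (pullback M.hom (pullback.fst A.hom x ≫ A.hom)) := inferInstance
  let e : pullback (pullback.snd M.hom A.hom ≫ A.hom) x ≅ pullback M.hom (pullback.fst A.hom x ≫ A.hom) :=
    (pullbackRightPullbackFstIso A.hom x (pullback.snd M.hom A.hom)).symm ≪≫
      pullbackLeftPullbackSndIso M.hom A.hom (pullback.fst A.hom x)
  have := MaxAbelian.isIntegral_of_iso e
  exact (congrArg (fun f => IsIntegral (pullback f x)) h) ▸ this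

theorem isIntegral_sq [GeometricallyIntegral X.hom] [LocallyOfFiniteType X.hom] :
    IsIntegral (X ⊗ X).left := by
  have := geometricallyIntegral_prod X X
  exact MaxAbelian.isIntegral_of_geometricallyIntegral

section

variable [IsIntegral X.left]

/-- The point with values in the function field given by a map on a nonempty open. -/
noncomputable def ofOpen {U : X.left.Opens} (h : genericPoint X.left ∈ U) (f : U.toScheme ⟶ G.left)
    (hf : f ≫ G.hom = U.ι ≫ X.hom) : gen X ⟶ G :=
  Over.homMk (U.fromSpecStalkOfMem (genericPoint X.left) h ≫ f) (by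
    show (_ ≫ f) ≫ G.hom = X.left.fromSpecStalk _ ≫ X.hom
    rw [Category.assoc, hf, Scheme.Opens.fromSpecStalkOfMem_ι_assoc])

theorem fromSpecStalkOfMem_homOfLE {U V : X.left.Opens} (e : U ≤ V) (y : X.left) (hy : y ∈ U) :
    U.fromSpecStalkOfMem y hy ≫ X.left.homOfLE e = V.fromSpecStalkOfMem y (e hy) := by
  rw [← cancel_mono V.ι, Category.assoc, Scheme.homOfLE_ι, Scheme.Opens.fromSpecStalkOfMem_ι,
    Scheme.Opens.fromSpecStalkOfMem_ι]

variable {U : X.left.Opens} (hU : genericPoint X.left ∈ U) (f : U.toScheme ⟶ G.left)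
  (hf : f ≫ G.hom = U.ι ≫ X.hom)

/-- An extension near a point shows that the rational map is defined there. -/
theorem defAt_of_local {V : X.left.Opens} (g : V.toScheme ⟶ G.left) (hg : g ≫ G.hom = V.ι ≫ X.hom)
    {y : X.left} (hy : y ∈ V)
    (he : X.left.homOfLE (inf_le_right : U ⊓ V ≤ V) ≫ g = X.left.homOfLE (inf_le_left : U ⊓ V ≤ U) ≫ f) :
    DefAt (ofOpen hU f hf) y := by
  have hgV : genericPoint X.left ∈ V := RatExtend.genericPoint_mem _ hy
  refine ⟨Over.homMk (V.fromSpecStalkOfMem y hy ≫ g) ?_, ?_⟩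
  · show (_ ≫ g) ≫ G.hom = X.left.fromSpecStalk _ ≫ X.hom
    rw [Category.assoc, hg, Scheme.Opens.fromSpecStalkOfMem_ι_assoc]
  · ext1
    show Spec.map (X.left.presheaf.stalkSpecializes (genericPoint_specializes y)) ≫
      V.fromSpecStalkOfMem y hy ≫ g = U.fromSpecStalkOfMem _ hU ≫ f
    rw [← Category.assoc, RatExtend.specializes_comp_fromSpecStalkOfMem _ _ hy hgV,
      ← fromSpecStalkOfMem_homOfLE (inf_le_right : U ⊓ V ≤ V) _ ⟨hU, hgV⟩,
      ← fromSpecStalkOfMem_homOfLE (inf_le_left : U ⊓ V ≤ U) _ ⟨hU, hgV⟩, Category.assoc, he,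
      Category.assoc]

variable [LocallyOfFiniteType G.hom] [IsSeparated G.hom]

/-- A rational map extends to a neighbourhood of the points where it is defined. -/
theorem exists_local (T : Set X.left) (hT : ∀ y ∈ T, DefAt (ofOpen hU f hf) y) :
    ∃ (V : X.left.Opens) (g : V.toScheme ⟶ G.left), T ⊆ V ∧ g ≫ G.hom = V.ι ≫ X.hom ∧
      X.left.homOfLE (inf_le_right : U ⊓ V ≤ V) ≫ g = X.left.homOfLE (inf_le_left : U ⊓ V ≤ U) ≫ f := by
  have : G.left.IsSeparated := ⟨by rw [← terminal.comp_from G.hom]; exact inferInstance⟩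
  obtain ⟨V, hgV, g, hTV, hg, hg₀⟩ := RatExtend.extend X.hom G.hom (ofOpen hU f hf).left
    (Over.w (ofOpen hU f hf)) T fun y hy => by
      obtain ⟨χ, hχ⟩ := hT y hy
      exact ⟨χ.left, Over.w χ, congrArg CommaMorphism.left hχ⟩
  refine ⟨V, g, hTV, hg, ?_⟩
  have : Nonempty (U ⊓ V : X.left.Opens) := ⟨⟨_, hU, hgV⟩⟩
  have : IsDominant ((U ⊓ V).fromSpecStalkOfMem (genericPoint X.left) ⟨hU, hgV⟩) :=
    RatExtend.isDominant_fromSpecStalkOfMem _ _
  refine ext_of_isDominant ((U ⊓ V).fromSpecStalkOfMem (genericPoint X.left) ⟨hU, hgV⟩) ?_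
  rw [← Category.assoc, ← Category.assoc, fromSpecStalkOfMem_homOfLE, fromSpecStalkOfMem_homOfLE]
  exact hg₀

end

/-- A rational map to a proper group is defined everywhere on a smooth variety. -/
theorem defAt_of_isProper [Smooth X.hom] [IsSeparated X.hom] [IsIntegral X.left]
    [IsIntegral (X ⊗ X).left] [GrpObj G] [IsProper G.hom] (φ : gen X ⟶ G) (x : X.left) :
    DefAt φ x := by
  by_contra hx
  obtain ⟨y, -, hy, hny⟩ := RatCodim.exists_codimOne φ x hx
  have : IsLocallyNoetherian X.left := LocallyOfFiniteType.isLocallyNoetherian X.hom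
  have hN : Pi1.IsNormalScheme X.left := fun p => by
    have := GrpSchLib.isRegularLocalRing_stalk_of_smooth X.hom p
    exact ⟨inferInstance, RegLoc6.isIntegrallyClosed_of_isRegularLocalRing _⟩
  have hc : Order.coheight y = 1 := by
    rw [ringKrullDim_stalk_eq_coheight] at hy
    exact_mod_cast hy
  have := CDiv6.isDVR_of_coheight_one hN hc
  obtain ⟨g, hg, hg₀⟩ := RatExtend.exists_lift X.hom G.hom φ.left (Over.w φ) y inferInstance
  exact hny ⟨Over.homMk g hg, Over.OverMorphism.ext hg₀⟩

/-- A rational map to a proper group extends to a smooth variety. -/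
theorem exists_extension [Smooth X.hom] [IsSeparated X.hom] [GeometricallyIntegral X.hom]
    [GrpObj G] [IsProper G.hom] (U : X.left.Opens) (hU : (U : Set X.left).Nonempty)
    (f : U.toScheme ⟶ G.left) (hf : f ≫ G.hom = U.ι ≫ X.hom) :
    ∃ g : X ⟶ G, U.ι ≫ g.left = f := by
  have : IsIntegral X.left := MaxAbelian.isIntegral_of_geometricallyIntegral
  have := isIntegral_sq (X := X)
  have hgU : genericPoint X.left ∈ U := RatExtend.genericPoint_mem _ hU.choose_spec
  obtain ⟨V, g, hV, hg, he⟩ := exists_local hgU f hf Set.univ fun y _ => defAt_of_isProper _ y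
  obtain rfl : V = ⊤ := top_unique fun y _ => hV (Set.mem_univ y)
  refine ⟨Over.homMk (X.left.topIso.inv ≫ g) (by rw [Category.assoc, hg]; exact X.left.topIso.inv_hom_id_assoc X.hom), ?_⟩
  show U.ι ≫ X.left.topIso.inv ≫ g = f
  have h1 : U.ι ≫ X.left.topIso.inv = X.left.homOfLE (le_top (a := U)) := by
    rw [Iso.comp_inv_eq]
    exact (Scheme.homOfLE_ι _ _).symm
  have h2 : X.left.homOfLE (le_inf le_rfl le_top : U ≤ U ⊓ ⊤) ≫
      X.left.homOfLE (inf_le_left : U ⊓ ⊤ ≤ U) = 𝟙 _ := by
    rw [Scheme.homOfLE_homOfLE, Scheme.homOfLE_rfl]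
  rw [reassoc_of% h1, ← Scheme.homOfLE_homOfLE X.left (le_inf le_rfl le_top : U ≤ U ⊓ ⊤)
    (inf_le_right : U ⊓ ⊤ ≤ ⊤), Category.assoc, he, reassoc_of% h2]

end Groth.Agent.H23.RatExt
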