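import Groth.Agent.NagataLib.Field
import Groth.Agent.RegLoc6.J2Crit
import Groth.Agent.CotTLib.SmoothField
import Groth.Agent.CDiv6.Normal
import Mathlib.RingTheory.Valuation.LocalSubring
import Mathlib.RingTheory.Ideal.KrullsHeightTheorem

/-!
Smooth models of a function field omitting a given non-constant function.
-/

universe u

open IsLocalRing

namespace Groth.Agent.H23.RatModel

variable {k L : Type u} [Field k] [Field L] [Algebra k L]

/-- A subalgebra of a field whose quotients exhaust the field has it as fraction field. -/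
theorem isFractionRing_of_forall (C : Subalgebra k L)
    (h : ∀ x : L, ∃ a b : C, b ≠ 0 ∧ x * b = a) : IsFractionRing C L where
  map_units y := isUnit_iff_ne_zero.2 fun hy =>
    nonZeroDivisors.ne_zero y.2 (Subtype.ext hy)
  surj x := by
    obtain ⟨a, b, hb, e⟩ := h x
    exact ⟨(a, ⟨b, mem_nonZeroDivisors_of_ne_zero hb⟩), e⟩
  exists_of_eq {a b} e := ⟨1, by rw [Subtype.ext e]⟩

theorem exists_div {C : Subalgebra k L} [IsFractionRing C L] (x : L) :
    ∃ a b : C, b ≠ 0 ∧ x * b = a := by
  obtain ⟨a, b, hb, e⟩ := IsFractionRing.div_surjective (A := C) x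
  have hb0 : (b : L) ≠ 0 := fun h => nonZeroDivisors.ne_zero hb (Subtype.ext h)
  exact ⟨a, b, nonZeroDivisors.ne_zero hb, by rw [← e]; exact div_mul_cancel₀ (a : L) hb0⟩

variable [IsAlgClosed k]

theorem exists_valuation (c : L) (hc : c ∉ Set.range (algebraMap k L)) :
    ∃ V : ValuationSubring L, (∀ a : k, algebraMap k L a ∈ V) ∧ c ∉ V := by
  let R : Subring L := (algebraMap k L).range
  have : IsIntegrallyClosedIn R L := by
    refine (Subring.isIntegrallyClosedIn_iff).mpr fun {x} hx => ?_
    let e : k →+* R := (algebraMap k L).rangeRestrict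
    have hx' : IsIntegral k x := by
      obtain ⟨p, hp, hpx⟩ := hx
      obtain ⟨q, rfl⟩ := Polynomial.map_surjective e (algebraMap k L).rangeRestrict_surjective p
      refine ⟨q, (Function.Injective.monic_map_iff e.injective).2 hp, ?_⟩
      rw [Polynomial.eval₂_map] at hpx
      exact hpx
    have hd := IsAlgClosed.degree_eq_one_of_irreducible k (minpoly.irreducible hx')
    exact minpoly.mem_range_of_degree_eq_one k x hd
  obtain ⟨V, hV, hcV⟩ := Subring.exists_le_valuationSubring_of_isIntegrallyClosedIn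
    (R := R) (x := c) (fun h => hc h)
  exact ⟨V, fun a => hV ⟨a, rfl⟩, hcV⟩

/-- A normal finitely generated model in which the inverse of a given function is not a unit. -/
theorem exists_normal_model (C₀ : Subalgebra k L) [Algebra.FiniteType k C₀] [IsFractionRing C₀ L]
    (c : L) (hc : c ∉ Set.range (algebraMap k L)) :
    ∃ C : Subalgebra k L, Algebra.FiniteType k C ∧ IsFractionRing C L ∧ IsIntegrallyClosed C ∧
      c ∉ C ∧ c⁻¹ ∈ C := by
  classical
  obtain ⟨V, hkV, hcV⟩ := exists_valuation c hc
  have hc' : c⁻¹ ∈ V := (V.mem_or_inv_mem c).resolve_left hcV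
  obtain ⟨s, hs⟩ := (Subalgebra.fg_iff_finiteType C₀).2 ‹_›
  have hV : ∀ x : L, ∃ y : L, y ∈ V ∧ (y = x ∨ y = x⁻¹) := fun x => (V.mem_or_inv_mem x).elim
    (fun h => ⟨x, h, .inl rfl⟩) fun h => ⟨x⁻¹, h, .inr rfl⟩
  choose y hy hy' using hV
  let A₀ : Subalgebra k L := Algebra.adjoin k (insert c⁻¹ (y '' s))
  have hA₀V : ∀ a ∈ A₀, a ∈ V := fun a ha => by
    induction ha using Algebra.adjoin_induction with
    | mem x hx =>
      rcases hx with rfl | ⟨x, -, rfl⟩
      exacts [hc', hy x]
    | algebraMap r => exact hkV r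
    | add a b _ _ ha hb => exact V.toSubring.add_mem ha hb
    | mul a b _ _ ha hb => exact V.toSubring.mul_mem ha hb
  have : Algebra.FiniteType k A₀ := (Subalgebra.fg_iff_finiteType A₀).1
    ((Subalgebra.fg_def).2 ⟨_, (s.finite_toSet.image y).insert _, rfl⟩)
  let F : IntermediateField k L := IntermediateField.adjoin k (A₀ : Set L)
  have hF : ∀ x : L, x ∈ F := fun x => by
    obtain ⟨a, b, hb, e⟩ := exists_div (C := C₀) x
    have h : ∀ z : C₀, (z : L) ∈ F := fun z => by
      obtain ⟨z, hz0⟩ := z
      show z ∈ F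
      have hz : z ∈ Algebra.adjoin k (s : Set L) := hs.symm ▸ hz0
      clear hz0
      induction hz using Algebra.adjoin_induction with
      | mem w hw =>
        have hw' : y w ∈ F := IntermediateField.subset_adjoin _ _
          (Algebra.subset_adjoin (Set.mem_insert_of_mem _ ⟨w, hw, rfl⟩))
        rcases hy' w with h | h
        · rwa [h] at hw'
        · rw [h] at hw'
          exact inv_inv w ▸ F.inv_mem hw'
      | algebraMap r => exact F.algebraMap_mem r
      | add a b _ _ ha hb => exact F.add_mem ha hb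
      | mul a b _ _ ha hb => exact F.mul_mem ha hb
    have hb0 : (b : L) ≠ 0 := fun h0 => hb (Subtype.ext h0)
    rw [(eq_div_iff hb0).2 e]
    exact F.div_mem (h a) (h b)
  have : IsFractionRing A₀ L := isFractionRing_of_forall A₀ fun x => by
    obtain ⟨r, s', hr, hs', e⟩ : ∃ r s' : L, r ∈ A₀ ∧ s' ∈ A₀ ∧ x = r / s' := by
      obtain ⟨r, hr, s', hs', e⟩ := IntermediateField.mem_adjoin_iff_div.1 (hF x)
      rw [Algebra.adjoin_eq] at hr hs'
      exact ⟨r, s', hr, hs', e⟩
    by_cases h0 : s' = 0
    · exact ⟨0, 1, one_ne_zero, by simp [e, h0]⟩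
    exact ⟨⟨r, hr⟩, ⟨s', hs'⟩, fun h => h0 (congrArg Subtype.val h),
      by show x * s' = r; rw [e, div_mul_cancel₀ r h0]⟩
  let A₁' : Subalgebra A₀ L := integralClosure A₀ L
  have : Module.Finite A₀ A₁' := by
    have hN := NagataLib.isN2_of_finiteType k A₀
    letI : Algebra (FractionRing A₀) L := FractionRing.liftAlgebra A₀ L
    haveI : IsScalarTower A₀ (FractionRing A₀) L := FractionRing.isScalarTower_liftAlgebra A₀ L
    refine hN L (Module.Finite.of_surjective (Algebra.linearMap (FractionRing A₀) L) fun x => ?_)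
    obtain ⟨a, b, hb, e⟩ := IsFractionRing.div_surjective (A := A₀) x
    refine ⟨algebraMap A₀ _ a / algebraMap A₀ _ b, ?_⟩
    rw [Algebra.linearMap_apply, map_div₀, ← IsScalarTower.algebraMap_apply,
      ← IsScalarTower.algebraMap_apply, e]
  let A₁ : Subalgebra k L := A₁'.restrictScalars k
  have : IsScalarTower k A₀ A₁' := IsScalarTower.of_algebraMap_eq fun _ => rfl
  have hft' : Algebra.FiniteType k A₁' := Algebra.FiniteType.trans (S := A₀) inferInstance inferInstance
  have hft : Algebra.FiniteType k A₁ := hft' 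
  have hfrac : IsFractionRing A₁ L := isFractionRing_of_forall A₁ fun x => by
    obtain ⟨a, b, hb, e⟩ := exists_div (C := A₀) x
    exact ⟨⟨a, A₁'.algebraMap_mem a⟩, ⟨b, A₁'.algebraMap_mem b⟩,
      fun h => hb (Subtype.ext (congrArg Subtype.val h :)), e⟩
  refine ⟨A₁, hft, hfrac, ?_, ?_, A₁'.algebraMap_mem ⟨c⁻¹, Algebra.subset_adjoin (Set.mem_insert _ _)⟩⟩
  · refine (isIntegrallyClosed_iff L).2 fun {x} hx => ?_
    have hx' : IsIntegral A₁' x := hx
    exact ⟨⟨x, isIntegral_trans (R := A₀) x hx'⟩, rfl⟩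
  · intro h
    have hint : IsIntegral A₀ c := h
    refine hcV ?_
    have : IsIntegral V c := by
      obtain ⟨p, hp, hpc⟩ := hint
      let j : A₀ →+* V := (algebraMap A₀ L).codRestrict V.toSubring fun a => hA₀V a a.2
      refine ⟨p.map j, hp.map j, ?_⟩
      rw [Polynomial.eval₂_map]
      exact hpc
    obtain ⟨v, hv⟩ := IsIntegrallyClosed.algebraMap_eq_of_integral (K := L) this
    rw [← hv]
    exact v.2

/-- A smooth finitely generated model omitting a given non-constant function. -/
theorem exists_smooth_model (C₀ : Subalgebra k L) [Algebra.FiniteType k C₀] [IsFractionRing C₀ L]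
    (c : L) (hc : c ∉ Set.range (algebraMap k L)) :
    ∃ C : Subalgebra k L, Algebra.FiniteType k C ∧ Algebra.Smooth k C ∧ IsFractionRing C L ∧ c ∉ C := by
  obtain ⟨A, hft, hfrac, hic, hcA, huA⟩ := exists_normal_model C₀ c hc
  let u : A := ⟨c⁻¹, huA⟩
  have : IsNoetherianRing A := Algebra.FiniteType.isNoetherianRing k A
  have hc0 : c ≠ 0 := fun h => hc ⟨0, by rw [map_zero, h]⟩
  have hu : ¬ IsUnit u := fun h => hcA (by
    obtain ⟨v, hv⟩ := h.exists_right_inv
    have : c = (v : L) := by
      have e : c⁻¹ * (v : L) = 1 := congrArg Subtype.val hv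
      rw [← mul_one c, ← e, mul_inv_cancel_left₀ hc0]
    rw [this]
    exact v.2)
  obtain ⟨p, hp⟩ := Ideal.nonempty_minimalPrimes (I := Ideal.span {u})
    (fun h => hu (Ideal.span_singleton_eq_top.1 h))
  have := hp.1.1
  have hup : u ∈ p := hp.1.2 (Ideal.mem_span_singleton_self u)
  have hdim : ringKrullDim (Localization.AtPrime p) = 1 := by
    rw [IsLocalization.AtPrime.ringKrullDim_eq_height p (Localization.AtPrime p)]
    have h1 := Ideal.height_le_one_of_isPrincipal_of_mem_minimalPrimes (Ideal.span {u}) p hp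
    have h0 : p.height ≠ 0 := fun h => by
      rw [Ideal.height_eq_zero_iff, IsDomain.minimalPrimes_eq_singleton_bot] at h
      rw [h] at hup
      exact hc0 (inv_eq_zero.1 (congrArg Subtype.val (Ideal.mem_bot.1 hup)))
    rw [le_antisymm h1 (Order.one_le_iff_ne_zero.2 h0)]
    rfl
  have : IsDomain (Localization.AtPrime p) :=
    IsLocalization.isDomain_localization p.primeCompl_le_nonZeroDivisors
  have : IsIntegrallyClosed (Localization.AtPrime p) :=
    isIntegrallyClosed_of_isLocalization _ _ p.primeCompl_le_nonZeroDivisors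
  have : IsDiscreteValuationRing (Localization.AtPrime p) := CDiv6.isDVR_of_dim_eq_one _ hdim
  have hopen := RegLoc6.isOpen_regular_of_finite_j0 k (fun A' _ _ _ _ =>
    RegLoc6.j0_iff.2 ⟨Set.univ, isOpen_univ, ⟨⟨⊥, Ideal.isPrime_bot⟩, trivial⟩, fun x _ => by
      have : IsNoetherianRing A' := IsNoetherianRing.of_finite k A'
      have : IsArtinianRing A' := IsArtinianRing.of_finite k A'
      have hfield : IsField A' := IsArtinianRing.isField_of_isDomain A' 
      apply RegLoc6.isRegularLocalRing_of_isField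
      rw [IsLocalRing.isField_iff_maximalIdeal_eq, ← Localization.AtPrime.map_eq_maximalIdeal]
      letI := hfield.toField
      refine (congrArg (Ideal.map _) ((Ideal.eq_bot_or_top x.asIdeal).resolve_right x.2.ne_top)).trans ?_
      exact Ideal.map_bot⟩) A
  have : JacobsonSpace (PrimeSpectrum A) := by
    have : IsJacobsonRing A := isJacobsonRing_of_finiteType (A := k)
    infer_instance
  obtain ⟨w, ⟨hwr, hwu⟩, hwc⟩ := nonempty_inter_closedPoints
    (Z := {q : PrimeSpectrum A | IsRegularLocalRing (Localization.AtPrime q.asIdeal)} ∩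
      PrimeSpectrum.zeroLocus {u})
    ⟨⟨p, hp.1.1⟩, by exact (inferInstance : IsRegularLocalRing (Localization.AtPrime p)),
      Set.singleton_subset_iff.2 hup⟩
    (hopen.isLocallyClosed.inter (PrimeSpectrum.isClosed_zeroLocus _).isLocallyClosed)
  have : w.asIdeal.IsMaximal := (PrimeSpectrum.isClosed_singleton_iff_isMaximal w).1 hwc
  have := CotTLib.isSmoothAt_of_isRegularLocalRing (k := k) w.asIdeal hwr
  have : Algebra.FinitePresentation k A := Algebra.FinitePresentation.of_finiteType.1 hft
  obtain ⟨g, hgw, hgs⟩ := Algebra.IsSmoothAt.exists_notMem_smooth k w.asIdeal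
  have hg0 : (g : L) ≠ 0 := fun h => hgw (by rw [show g = 0 from Subtype.ext h]; exact zero_mem _)
  let φ : Localization.Away g →ₐ[k] L := IsLocalization.liftAlgHom (M := Submonoid.powers g)
    (f := A.val) (fun z => isUnit_iff_ne_zero.2 (by
      obtain ⟨n, hn⟩ := z.2
      rw [show (z : A) = g ^ n from hn.symm]
      simpa using pow_ne_zero n hg0))
  have hφ : ∀ a, φ (algebraMap A _ a) = a := fun a => IsLocalization.lift_eq _ a
  have hinj : Function.Injective φ := IsLocalization.lift_injective_iff _ |>.2 fun a b =>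
    ⟨fun h => by
      have := congrArg φ h
      rw [hφ, hφ] at this
      exact this, fun h => congrArg _ (Subtype.ext h)⟩
  let e : Localization.Away g ≃ₐ[k] φ.range := AlgEquiv.ofInjective φ hinj
  have : Algebra.Smooth k φ.range := Algebra.Smooth.of_equiv e
  refine ⟨φ.range, inferInstance, inferInstance, isFractionRing_of_forall _ fun x => ?_, ?_⟩
  · obtain ⟨a, b, hb, e'⟩ := exists_div (C := A) x
    exact ⟨⟨a, _, hφ a⟩, ⟨b, _, hφ b⟩, fun h => hb (Subtype.ext (congrArg Subtype.val h :)), e'⟩
  · rintro ⟨z, hz⟩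
    obtain ⟨⟨a, t⟩, ht⟩ := IsLocalization.surj (Submonoid.powers g) z
    obtain ⟨n, hn⟩ := t.2
    have hn' : (t : A) = g ^ n := hn.symm
    have e1 := congrArg φ ht
    rw [map_mul, hφ, hφ, hn'] at e1
    rw [show φ z = c from hz] at e1
    have e2 : g ^ n = u * a := Subtype.ext (by
      show ((g ^ n : A) : L) = c⁻¹ * (a : L)
      rw [← e1, ← mul_assoc, inv_mul_cancel₀ hc0, one_mul])
    exact hgw (w.isPrime.mem_of_pow_mem n (e2 ▸ w.asIdeal.mul_mem_right a (hwu rfl)))

end Groth.Agent.H23.RatModel
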