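import Groth.Agent.H23.MulTangent
import Groth.Agent.H23.MaxAbelian
import Groth.Agent.GrpSchLib.Cartier
import Groth.Agent.GrpSchLib.UnramifiedFibre
import Mathlib.AlgebraicGeometry.Group.Abelian
import Mathlib.AlgebraicGeometry.Morphisms.LocalFlatDescent
import Mathlib.AlgebraicGeometry.Morphisms.SmoothFiber
import Mathlib.AlgebraicGeometry.Geometrically.Connected
import Mathlib.AlgebraicGeometry.Geometrically.Reduced
import Mathlib.AlgebraicGeometry.ZariskisMainTheorem
import Mathlib.RingTheory.Unramified.LocalStructure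
import Mathlib.RingTheory.Smooth.StandardSmoothCotangent
import Mathlib.RingTheory.Etale.Kaehler

/-!
Multiplication by an invertible integer on an abelian scheme is finite etale.
-/

universe u

open CategoryTheory Limits AlgebraicGeometry MonoidalCategory CartesianMonoidalCategory MonObj
open scoped TensorProduct

namespace Groth.Agent.H23.MulEtale

section Fibres

variable {S : Scheme.{u}} {X : Over S} [GrpObj X]

/-- The base change of a morphism over the base. -/
theorem isPullback_map {T : Scheme.{u}} (σ : T ⟶ S) (φ : X ⟶ X) :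
    IsPullback (pullback.fst X.hom σ) ((Over.pullback σ).map φ).left φ.left (pullback.fst X.hom σ) := by
  have e1 : ((Over.pullback σ).map φ).left ≫ pullback.fst X.hom σ = pullback.fst X.hom σ ≫ φ.left := by
    simp
    exact pullback.lift_fst _ _ _
  have e2 : ((Over.pullback σ).map φ).left ≫ pullback.snd X.hom σ = pullback.snd X.hom σ := by
    simp
    exact pullback.lift_snd _ _ _
  refine IsPullback.of_bot ?_ e1.symm (IsPullback.of_hasPullback X.hom σ)
  rw [e2, Over.w φ]
  exact IsPullback.of_hasPullback X.hom σ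

theorem map_pow {T : Scheme.{u}} (σ : T ⟶ S) (n : ℕ) :
    letI : GrpObj ((Over.pullback σ).obj X) := Functor.grpObjObj
    (Over.pullback σ).map (𝟙 X ^ n) = 𝟙 ((Over.pullback σ).obj X) ^ n := by
  letI : GrpObj ((Over.pullback σ).obj X) := Functor.grpObjObj
  show (Over.pullback σ).homMonoidHom (𝟙 X ^ n) = _
  rw [_root_.map_pow]
  show ((Over.pullback σ).map (𝟙 X)) ^ n = _
  rw [CategoryTheory.Functor.map_id]

variable [IsProper X.hom] [GeometricallyReduced X.hom] [GeometricallyConnected X.hom]

theorem formallyUnramified_fibre (n : ℕ) (hn : IsUnit (n : Γ(S, ⊤))) (y : X.left) :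
    FormallyUnramified ((𝟙 X ^ n : X ⟶ X).left.fiberToSpecResidueField y) := by
  let L := AlgebraicClosure (X.left.residueField y)
  let g : Spec (CommRingCat.of L) ⟶ Spec (X.left.residueField y) :=
    Spec.map (CommRingCat.ofHom (algebraMap (X.left.residueField y) L))
  let r := X.left.fromSpecResidueField y
  let q := g ≫ r
  let σ := q ≫ X.hom
  let Xk := (Over.pullback σ).obj X
  letI : GrpObj Xk := Functor.grpObjObj
  have : IsProper Xk.hom := inferInstanceAs (IsProper (pullback.snd X.hom σ))
  have : GeometricallyReduced Xk.hom := inferInstanceAs (GeometricallyReduced (pullback.snd X.hom σ))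
  have : GeometricallyConnected Xk.hom := inferInstanceAs (GeometricallyConnected (pullback.snd X.hom σ))
  have : Nonempty Xk.left := ⟨(η[Xk]).left (IsLocalRing.closedPoint L)⟩
  have : ConnectedSpace Xk.left := GeometricallyConnected.connectedSpace_of_subsingleton (f := Xk.hom)
  have := MaxAbelian.geometricallyIntegral_of_connected Xk
  have : IsCommMonObj Xk := isCommMonObj_of_isProper_of_geometricallyIntegral Xk
  have hnL : (n : L) ≠ 0 := by
    have h := hn.map ((σ.appTop ≫ (Scheme.ΓSpecIso (CommRingCat.of L)).hom).hom)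
    rw [map_natCast] at h
    exact h.ne_zero
  set f := (𝟙 X ^ n : X ⟶ X).left
  let fL := ((Over.pullback σ).map (𝟙 X ^ n)).left
  have hfL : FormallyUnramified fL := by
    show FormallyUnramified ((Over.pullback σ).map (𝟙 X ^ n)).left
    rw [map_pow σ n]
    exact MulTangent.formallyUnramified_pow Xk n hnL
  let qk : Spec (CommRingCat.of L) ⟶ pullback X.hom σ := pullback.lift q (𝟙 _) (Category.id_comp _).symm
  have hqk : qk ≫ pullback.fst X.hom σ = q := pullback.lift_fst _ _ _
  have h1 : IsPullback (pullback.fst fL qk ≫ pullback.fst X.hom σ) (pullback.snd fL qk) f q := by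
    have := (IsPullback.of_hasPullback fL qk).paste_horiz (isPullback_map σ (𝟙 X ^ n))
    rwa [hqk] at this
  have h2 : FormallyUnramified (pullback.snd f q) := by
    have h := MorphismProperty.pullback_snd (P := @FormallyUnramified) fL qk hfL
    rw [← h1.isoPullback_hom_snd] at h
    exact (MorphismProperty.cancel_left_of_respectsIso @FormallyUnramified _ _).1 h
  have h3 : FormallyUnramified (pullback.snd (pullback.snd f r) g) := by
    have e := pullbackLeftPullbackSndIso_hom_snd f r g
    rw [← e]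
    exact (MorphismProperty.cancel_left_of_respectsIso @FormallyUnramified _ _).2 h2
  have : Surjective g := ⟨fun p => ⟨IsLocalRing.closedPoint L, @Subsingleton.elim (PrimeSpectrum (X.left.residueField y)) _ _ _⟩⟩
  have : Flat g := by
    rw [HasRingHomProperty.Spec_iff (P := @Flat)]
    show (algebraMap (X.left.residueField y) L).Flat
    rw [RingHom.flat_algebraMap_iff]
    infer_instance
  exact MorphismProperty.of_pullback_snd_of_descendsAlong (Q := @Surjective ⊓ @Flat ⊓ @QuasiCompact)
    (g := g) ⟨⟨inferInstance, inferInstance⟩, inferInstance⟩ h3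

variable [Flat X.hom] [LocallyOfFinitePresentation X.hom]

theorem formallyUnramified_pow (n : ℕ) (hn : IsUnit (n : Γ(S, ⊤))) :
    FormallyUnramified (𝟙 X ^ n : X ⟶ X).left := by
  have : LocallyOfFiniteType (𝟙 X ^ n : X ⟶ X).left := by
    have : LocallyOfFiniteType ((𝟙 X ^ n : X ⟶ X).left ≫ X.hom) := by rw [Over.w]; infer_instance
    exact locallyOfFiniteType_of_comp _ X.hom
  exact GrpSchLib.formallyUnramified_of_fibres _ (formallyUnramified_fibre n hn)

theorem smooth : Smooth X.hom := by
  let : GrpObj (Over.mk X.hom) := ‹GrpObj X›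
  refine Smooth.of_smooth_fiberToSpecResidueField X.hom fun s => ?_
  let : GrpObj (Over.mk (pullback.snd X.hom (S.fromSpecResidueField s))) := Over.grpObjMkPullbackSnd
  have : LocallyOfFiniteType (Over.mk (pullback.snd X.hom (S.fromSpecResidueField s))).hom :=
    inferInstanceAs (LocallyOfFiniteType (pullback.snd X.hom (S.fromSpecResidueField s)))
  refine GrpSchLib.smooth_of_isReduced_baseChange (K := S.residueField s)
    (Over.mk (pullback.snd X.hom (S.fromSpecResidueField s))) ?_
  exact GeometricallyReduced.geometrically_isReduced (f := pullback.snd X.hom (S.fromSpecResidueField s))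
    _ _ _ (IsPullback.of_hasPullback _ _)

end Fibres

section Rank

variable {X S : Scheme.{u}} (p : X ⟶ S)

/-- The rank of differentials at a point. -/
noncomputable def rk (x : X) : ℕ :=
  letI := (p.stalkMap x).hom.toAlgebra
  Module.finrank (X.presheaf.stalk x) Ω[X.presheaf.stalk x⁄S.presheaf.stalk (p x)]

/-- Differentials of local rings. -/
theorem nonempty_equiv {U : S.Opens} (hU : IsAffineOpen U) {V : X.Opens} (hV : IsAffineOpen V)
    (e : V ≤ p ⁻¹ᵁ U) {x : X} (hx : x ∈ V) :
    letI := (p.appLE U V e).hom.toAlgebra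
    letI := (X.presheaf.germ V x hx).hom.toAlgebra
    letI := (p.stalkMap x).hom.toAlgebra
    Nonempty (X.presheaf.stalk x ⊗[Γ(X, V)] Ω[Γ(X, V)⁄Γ(S, U)] ≃ₗ[X.presheaf.stalk x]
      Ω[X.presheaf.stalk x⁄S.presheaf.stalk (p x)]) := by
  letI := (p.appLE U V e).hom.toAlgebra
  letI := (X.presheaf.germ V x hx).hom.toAlgebra
  letI := (p.stalkMap x).hom.toAlgebra
  letI : Algebra Γ(S, U) (S.presheaf.stalk (p x)) := (S.presheaf.germ U (p x) (e hx)).hom.toAlgebra
  letI : Algebra Γ(S, U) (X.presheaf.stalk x) :=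
    ((X.presheaf.germ V x hx).hom.comp (p.appLE U V e).hom).toAlgebra
  have : IsScalarTower Γ(S, U) Γ(X, V) (X.presheaf.stalk x) := IsScalarTower.of_algebraMap_eq fun _ => rfl
  have : IsScalarTower Γ(S, U) (S.presheaf.stalk (p x)) (X.presheaf.stalk x) := by
    refine IsScalarTower.of_algebraMap_eq' ?_
    show ((p.appLE U V e) ≫ X.presheaf.germ V x hx).hom = (S.presheaf.germ U (p x) (e hx) ≫ p.stalkMap x).hom
    rw [Scheme.Hom.germ_stalkMap]
    congr 1
    rw [Scheme.Hom.appLE, Category.assoc, X.presheaf.germ_res]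
  have := hV.isLocalization_stalk ⟨x, hx⟩
  have := hU.isLocalization_stalk ⟨p x, e hx⟩
  have : Algebra.FormallyEtale Γ(X, V) (X.presheaf.stalk x) :=
    Algebra.FormallyEtale.of_isLocalization (hV.primeIdealOf ⟨x, hx⟩).asIdeal.primeCompl
  have : Algebra.FormallyEtale Γ(S, U) (S.presheaf.stalk (p x)) :=
    Algebra.FormallyEtale.of_isLocalization (hU.primeIdealOf ⟨p x, e hx⟩).asIdeal.primeCompl
  let e1 := KaehlerDifferential.tensorKaehlerEquivOfFormallyEtale Γ(S, U) Γ(X, V) (X.presheaf.stalk x)
  let m := KaehlerDifferential.map Γ(S, U) (S.presheaf.stalk (p x)) (X.presheaf.stalk x) (X.presheaf.stalk x)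
  have hm : Function.Bijective m := by
    refine ⟨(injective_iff_map_eq_zero m).2 fun ω hω => ?_,
      KaehlerDifferential.map_surjective Γ(S, U) (S.presheaf.stalk (p x)) (X.presheaf.stalk x)⟩
    obtain ⟨z, rfl⟩ := (KaehlerDifferential.exact_mapBaseChange_map Γ(S, U) (S.presheaf.stalk (p x))
      (X.presheaf.stalk x) ω).1 hω
    rw [Subsingleton.elim z 0, map_zero]
  exact ⟨e1.trans (LinearEquiv.ofBijective m hm)⟩

theorem rk_eq_finrank {U : S.Opens} (hU : IsAffineOpen U) {V : X.Opens} (hV : IsAffineOpen V)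
    (e : V ≤ p ⁻¹ᵁ U) (h : (p.appLE U V e).hom.IsStandardSmooth) {x : X} (hx : x ∈ V) :
    letI := (p.appLE U V e).hom.toAlgebra
    rk p x = Module.finrank Γ(X, V) Ω[Γ(X, V)⁄Γ(S, U)] := by
  letI := (p.appLE U V e).hom.toAlgebra
  letI := (X.presheaf.germ V x hx).hom.toAlgebra
  letI := (p.stalkMap x).hom.toAlgebra
  have : Algebra.IsStandardSmooth Γ(S, U) Γ(X, V) := h
  have : Nonempty V := ⟨⟨x, hx⟩⟩
  obtain ⟨E⟩ := nonempty_equiv p hU hV e hx
  rw [rk, ← E.finrank_eq, Module.finrank_baseChange]

theorem isLocallyConstant_rk [Smooth p] : IsLocallyConstant (rk p) := by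
  rw [IsLocallyConstant.iff_exists_open]
  intro x
  obtain ⟨U, hU, V, hV, hx, e, h⟩ := Smooth.exists_isStandardSmooth p x
  exact ⟨V, V.isOpen, hx, fun y hy => by rw [rk_eq_finrank p hU hV e h hy, rk_eq_finrank p hU hV e h hx]⟩

/-- An unramified map between smooth schemes preserving the rank of differentials is etale. -/
theorem etale_of_rk_eq {Y : Scheme.{u}} (f : X ⟶ Y) (q : Y ⟶ S) (hf : f ≫ q = p) [Smooth p] [Smooth q]
    [FormallyUnramified f] (hrk : ∀ x, rk p x = rk q (f x)) : Etale f := by
  subst hf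
  rw [HasRingHomProperty.iff_exists_appLE (P := @Etale)
    (RingHom.Etale.stableUnderComposition.stableUnderCompositionWithLocalizationAway
      fun _ _ _ _ _ r _ => RingHom.etale_algebraMap.2 (Algebra.Etale.of_isLocalizationAway r)).1]
  intro x₀
  obtain ⟨U, hU, W, hW, hx₀, eW, hWss⟩ := Smooth.exists_isStandardSmooth q (f x₀)
  obtain ⟨V, hV, hxV, hVW⟩ := exists_isAffineOpen_mem_and_subset (x := x₀) (U := f ⁻¹ᵁ W) hx₀
  have eV : V ≤ f ⁻¹ᵁ W := hVW
  refine ⟨⟨W, hW⟩, ⟨V, hV⟩, hxV, eV, ?_⟩
  have eU : V ≤ (f ≫ q) ⁻¹ᵁ U := fun z hz => eW (eV hz)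
  have hcomp : q.appLE U W eW ≫ f.appLE W V eV = (f ≫ q).appLE U V eU :=
    Scheme.Hom.appLE_comp_appLE f q U W V eW eV
  let R := Γ(S, U)
  let A := Γ(Y, W)
  let B := Γ(X, V)
  letI : Algebra R A := (q.appLE U W eW).hom.toAlgebra
  letI : Algebra R B := ((f ≫ q).appLE U V eU).hom.toAlgebra
  letI : Algebra A B := (f.appLE W V eV).hom.toAlgebra
  have : IsScalarTower R A B := IsScalarTower.of_algebraMap_eq fun c =>
    (congrArg (fun m => m.hom c) hcomp).symm
  have hA : Algebra.IsStandardSmooth R A := hWss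
  have hB : Algebra.Smooth R B := HasRingHomProperty.appLE (P := @Smooth) (f ≫ q) inferInstance ⟨U, hU⟩ ⟨V, hV⟩ eU
  have hBA : Algebra.FormallyUnramified A B :=
    HasRingHomProperty.appLE (P := @FormallyUnramified) f inferInstance ⟨W, hW⟩ ⟨V, hV⟩ eV
  show Algebra.Etale A B
  have : Algebra.FinitePresentation A B := Algebra.FinitePresentation.of_restrict_scalars_finitePresentation R A B
  let u := KaehlerDifferential.mapBaseChange R A B
  have hsurj : Function.Surjective u := fun ω =>
    (KaehlerDifferential.exact_mapBaseChange_map R A B ω).1 (Subsingleton.elim _ _)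
  have hinj : Function.Injective u := by
    let b := Module.Free.chooseBasis A Ω[A⁄R]
    let bB := b.baseChange B
    refine (injective_iff_map_eq_zero u).2 fun z hz => bB.ext_elem fun i => ?_
    rw [map_zero, Finsupp.zero_apply]
    refine TopCat.Presheaf.section_ext X.sheaf V _ _ fun x hx => ?_
    show X.presheaf.germ V x hx _ = X.presheaf.germ V x hx 0
    rw [map_zero]
    letI := (X.presheaf.germ V x hx).hom.toAlgebra
    letI := (f.stalkMap x).hom.toAlgebra
    letI := ((f ≫ q).stalkMap x).hom.toAlgebra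
    let O := X.presheaf.stalk x
    let uO := LinearMap.baseChange O u
    have : Nonempty W := ⟨⟨f x, eV hx⟩⟩
    have : Nonempty V := ⟨⟨x, hx⟩⟩
    have hB' : Module.finrank O (O ⊗[B] Ω[B⁄R]) = Module.finrank O (O ⊗[B] (B ⊗[A] Ω[A⁄R])) := by
      obtain ⟨E⟩ := nonempty_equiv (f ≫ q) hU hV eU hx
      rw [E.finrank_eq, Module.finrank_baseChange, Module.finrank_baseChange]
      exact (hrk x).trans (rk_eq_finrank q hU hW eW hWss (eV hx))
    have : Module.Projective O (O ⊗[B] Ω[B⁄R]) := inferInstance
    have : Module.Free O (O ⊗[B] Ω[B⁄R]) := Module.free_of_flat_of_isLocalRing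
    have hbij : Function.Bijective uO :=
      OrzechProperty.bijective_of_surjective_of_finrank_le uO
        (LinearMap.lTensor_surjective O hsurj) hB'.ge
    have h0 : uO (1 ⊗ₜ z) = 0 := by
      show (1 : O) ⊗ₜ[B] u z = 0
      rw [hz, TensorProduct.tmul_zero]
    have h1 : (1 : O) ⊗ₜ[B] z = 0 := hbij.1 (h0.trans (map_zero uO).symm)
    have h2 := congrArg (fun w => (bB.baseChange O).repr w i) h1
    simp only [Module.Basis.baseChange_repr_tmul, map_zero, Finsupp.zero_apply] at h2
    simp [Algebra.smul_def] at h2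
    try rw [map_zero]
    exact h2
  have hsub : Subsingleton (Algebra.H1Cotangent A B) := by
    refine ⟨fun a b => ?_⟩
    have key : ∀ c : Algebra.H1Cotangent A B, c = 0 := fun c => by
      have hδ : Algebra.H1Cotangent.δ R A B c = 0 := hinj (by
        rw [map_zero]
        exact (Algebra.H1Cotangent.exact_δ_mapBaseChange R A B).apply_apply_eq_zero c)
      obtain ⟨c', rfl⟩ := (Algebra.H1Cotangent.exact_map_δ R A B c).1 hδ
      rw [Subsingleton.elim c' 0, map_zero]
    rw [key a, key b]
  have : Algebra.FormallySmooth A B := ⟨inferInstance, hsub⟩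
  have : Algebra.FormallyEtale A B := Algebra.FormallyEtale.iff_formallyUnramified_and_formallySmooth.2 ⟨hBA, ‹_›⟩
  exact ⟨inferInstance, inferInstance⟩

end Rank

section Main

variable {S : Scheme.{u}} {X : Over S} [GrpObj X] [IsProper X.hom] [Flat X.hom]
  [LocallyOfFinitePresentation X.hom] [GeometricallyReduced X.hom] [GeometricallyConnected X.hom]

theorem etale_pow (n : ℕ) (hn : IsUnit (n : Γ(S, ⊤))) : Etale (𝟙 X ^ n : X ⟶ X).left := by
  have := formallyUnramified_pow (X := X) n hn
  have := smooth (X := X)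
  refine etale_of_rk_eq X.hom (𝟙 X ^ n : X ⟶ X).left X.hom (Over.w _) fun x => ?_
  refine (isLocallyConstant_rk X.hom).apply_eq_of_isPreconnected
    (X.hom.isConnected_preimage_singleton (X.hom x)).isPreconnected rfl ?_
  show X.hom ((𝟙 X ^ n : X ⟶ X).left x) = X.hom x
  rw [← Scheme.Hom.comp_apply, Over.w]

theorem etale_zpow (n : ℤ) (hn : IsUnit (n : Γ(S, ⊤))) : Etale (𝟙 X ^ n : X ⟶ X).left := by
  obtain ⟨m, rfl | rfl⟩ := n.eq_nat_or_neg
  · rw [zpow_natCast]
    exact etale_pow m (by simpa using hn)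
  · rw [zpow_neg, zpow_natCast, Hom.inv_def]
    have := etale_pow (X := X) m (by simpa using hn)
    have : IsIso (GrpObj.inv (X := X)).left :=
      (Over.forget S).map_isIso (GrpObj.inv (X := X))
    show Etale (_ ≫ _)
    infer_instance

theorem isFinite_zpow (n : ℤ) (hn : IsUnit (n : Γ(S, ⊤))) : IsFinite (𝟙 X ^ n : X ⟶ X).left := by
  have := etale_zpow (X := X) n hn
  have : IsProper (𝟙 X ^ n : X ⟶ X).left := by
    have : IsProper ((𝟙 X ^ n : X ⟶ X).left ≫ X.hom) := by rw [Over.w]; infer_instance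
    exact IsProper.of_comp _ X.hom
  have : LocallyQuasiFinite (𝟙 X ^ n : X ⟶ X).left := by
    rw [HasRingHomProperty.iff_appLE (P := @LocallyQuasiFinite)]
    intro U V e
    let φ := (𝟙 X ^ n : X ⟶ X).left.appLE U.1 V.1 e
    letI := φ.hom.toAlgebra
    have h : Algebra.Etale Γ(X.left, U.1) Γ(X.left, V.1) :=
      HasRingHomProperty.appLE (P := @Etale) _ inferInstance U V e
    show φ.hom.QuasiFinite
    rw [← RingHom.algebraMap_toAlgebra φ.hom, RingHom.quasiFinite_algebraMap]
    infer_instance
  exact IsFinite.of_isProper_of_locallyQuasiFinite _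

theorem surjective_zpow (n : ℤ) (hn : IsUnit (n : Γ(S, ⊤))) : Surjective (𝟙 X ^ n : X ⟶ X).left := by
  have := etale_zpow (X := X) n hn
  have := isFinite_zpow (X := X) n hn
  set f := (𝟙 X ^ n : X ⟶ X).left
  have hclop : IsClopen (Set.range f) := ⟨f.isClosedMap.isClosed_range, f.isOpenMap.isOpen_range⟩
  refine ⟨fun x => ?_⟩
  have hs := (X.hom.isConnected_preimage_singleton (X.hom x)).isPreconnected.subset_isClopen hclop
    ⟨η[X].left (X.hom x), ?_, η[X].left (X.hom x), ?_⟩
  · exact hs rfl
  · show X.hom (η[X].left (X.hom x)) = X.hom x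
    rw [← Scheme.Hom.comp_apply, Over.w η[X]]
    rfl
  · show ((η[X] ≫ 𝟙 X ^ n).left) (X.hom x) = _
    rw [GrpObj.comp_zpow, Category.comp_id, MonObj.one_eq_one, one_zpow]

end Main

end Groth.Agent.H23.MulEtale
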