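import Mathlib.AlgebraicGeometry.SpreadingOut
import Mathlib.AlgebraicGeometry.Morphisms.FinitePresentation
import Mathlib.AlgebraicGeometry.Morphisms.FiniteType

/-!
# Spreading out from a point without hypotheses on the source
-/

open AlgebraicGeometry CategoryTheory TopologicalSpace

universe u

namespace Groth.Agent.H23.SpreadFP

variable {X Y S : Scheme.{u}}

theorem exists_affine_nhd_res_eq_zero {x : X} {U : X.Opens} (hxU : x ∈ U) {s : Set Γ(X, U)}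
    (hs : s.Finite) (h : ∀ a ∈ s, X.presheaf.germ U x hxU a = 0) :
    ∃ (V : X.Opens) (hVU : V ≤ U), IsAffineOpen V ∧ x ∈ V ∧
      ∀ a ∈ s, X.presheaf.map (homOfLE hVU).op a = 0 := by
  have h' : ∀ a, a ∈ s → ∃ (W : X.Opens) (i : W ⟶ U), x ∈ W ∧ X.presheaf.map i.op a = 0 := by
    intro a ha
    obtain ⟨W, hxW, i₁, i₂, he⟩ := X.presheaf.germ_eq x hxU hxU a 0 (by rw [h a ha, map_zero])
    exact ⟨W, i₁, hxW, by rw [he, map_zero]⟩
  choose W iW hxW hW using h'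
  haveI := hs.to_subtype
  let T : X.Opens := ⟨(U : Set X) ∩ ⋂ a : s, (W a.1 a.2 : Set X),
    U.2.inter (isOpen_iInter_of_finite fun a => (W a.1 a.2).2)⟩
  obtain ⟨V, hV, hxV, hVT⟩ := exists_isAffineOpen_mem_and_subset (x := x) (U := T)
    ⟨hxU, Set.mem_iInter.2 fun a => hxW a.1 a.2⟩
  refine ⟨V, fun y hy => (hVT hy).1, hV, hxV, fun a ha => ?_⟩
  have hle : V ≤ W a ha := fun y hy => Set.mem_iInter.1 (hVT hy).2 ⟨a, ha⟩
  have : X.presheaf.map (homOfLE (fun y hy => (hVT hy).1 : V ≤ U)).op a =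
      X.presheaf.map (homOfLE hle).op (X.presheaf.map (iW a ha).op a) := by
    rw [← CommRingCat.comp_apply, ← Functor.map_comp]
    rfl
  rw [this, hW a ha, map_zero]

/-- A homomorphism to a local ring from a finitely presented algebra lifts to a neighbourhood. -/
theorem exists_lift {x : X} {U : X.Opens} (hxU : x ∈ U) {R A : CommRingCat.{u}}
    (φ : A ⟶ X.presheaf.stalk x) (φRA : R ⟶ A) (φRX : R ⟶ Γ(X, U))
    (hA : RingHom.FinitePresentation φRA.hom)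
    (e : φRA ≫ φ = φRX ≫ X.presheaf.germ U x hxU) :
    ∃ (V : X.Opens) (hxV : x ∈ V) (φ' : A ⟶ Γ(X, V)) (i : V ≤ U), IsAffineOpen V ∧
      φ = φ' ≫ X.presheaf.germ V x hxV ∧
      φRX ≫ X.presheaf.map (homOfLE i).op = φRA ≫ φ' := by
  letI := φRA.hom.toAlgebra
  obtain ⟨n, π, hπ, hker⟩ := (hA : Algebra.FinitePresentation R A).out
  obtain ⟨s, hs⟩ := hker
  choose W hxW g hg using fun i : Fin n => X.presheaf.exists_germ_eq (φ (π (MvPolynomial.X i)))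
  let T : X.Opens := ⟨(U : Set X) ∩ ⋂ i : Fin n, (W i : Set X),
    U.2.inter (isOpen_iInter_of_finite fun i => (W i).2)⟩
  have hxT : x ∈ T := ⟨hxU, Set.mem_iInter.2 hxW⟩
  have hTU : T ≤ U := fun y hy => hy.1
  have hTW : ∀ i, T ≤ W i := fun i y hy => Set.mem_iInter.1 hy.2 i
  let Φ : MvPolynomial (Fin n) R →+* Γ(X, T) :=
    MvPolynomial.eval₂Hom ((φRX ≫ X.presheaf.map (homOfLE hTU).op).hom)
      fun i => X.presheaf.map (homOfLE (hTW i)).op (g i)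
  have hΦ : (X.presheaf.germ T x hxT).hom.comp Φ = φ.hom.comp π.toRingHom := by
    apply MvPolynomial.ringHom_ext
    · intro r
      show X.presheaf.germ T x hxT (Φ (MvPolynomial.C r)) = φ (π (MvPolynomial.C r))
      rw [show π (MvPolynomial.C r) = φRA r from π.commutes r]
      simp only [Φ, MvPolynomial.eval₂Hom_C, CommRingCat.comp_apply, CommRingCat.hom_comp,
        RingHom.comp_apply]
      rw [TopCat.Presheaf.germ_res_apply]
      exact (congrArg (fun ψ : R ⟶ X.presheaf.stalk x => ψ r) e).symm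
    · intro i
      show X.presheaf.germ T x hxT (Φ (MvPolynomial.X i)) = φ (π (MvPolynomial.X i))
      simp only [Φ, MvPolynomial.eval₂Hom_X']
      rw [TopCat.Presheaf.germ_res_apply]
      exact hg i
  obtain ⟨V, hVT, hV, hxV, hzero⟩ := exists_affine_nhd_res_eq_zero hxT
    (s := Φ '' (s : Set (MvPolynomial (Fin n) R))) (s.finite_toSet.image _) (by
      rintro _ ⟨p, hp, rfl⟩
      rw [show X.presheaf.germ T x hxT (Φ p) = φ (π p) from RingHom.congr_fun hΦ p,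
        show π p = 0 from RingHom.mem_ker.1 (hs ▸ Ideal.subset_span hp), map_zero])
  let Φ' : MvPolynomial (Fin n) R →+* Γ(X, V) := (X.presheaf.map (homOfLE hVT).op).hom.comp Φ
  have hle : RingHom.ker π.toRingHom ≤ RingHom.ker Φ' := by
    show RingHom.ker π.toRingHom ≤ _
    rw [← hs, Ideal.span_le]
    intro p hp
    exact RingHom.mem_ker.2 (hzero _ ⟨p, hp, rfl⟩)
  let φ' := RingHom.liftOfSurjective π.toRingHom hπ ⟨Φ', hle⟩
  have hφ' : ∀ p, φ' (π p) = Φ' p := fun p =>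
    RingHom.liftOfRightInverse_comp_apply _ _ _ _ p
  refine ⟨V, hxV, CommRingCat.ofHom φ', hVT.trans hTU, hV, ?_, ?_⟩
  · ext a
    obtain ⟨p, rfl⟩ := hπ a
    show φ (π p) = X.presheaf.germ V x hxV (φ' (π p))
    rw [hφ']
    simp only [Φ', RingHom.comp_apply]
    rw [TopCat.Presheaf.germ_res_apply]
    exact (RingHom.congr_fun hΦ p).symm
  · ext r
    show X.presheaf.map (homOfLE (hVT.trans hTU)).op (φRX r) = φ' (φRA r)
    rw [show φRA r = π (MvPolynomial.C r) from (π.commutes r).symm, hφ']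
    simp only [Φ', Φ, RingHom.comp_apply, MvPolynomial.eval₂Hom_C, CommRingCat.hom_comp]
    rw [← CommRingCat.comp_apply, ← CommRingCat.comp_apply, ← CommRingCat.comp_apply,
      ← Functor.map_comp]
    rfl

theorem spread_out (sX : X ⟶ S) (sY : Y ⟶ S) [LocallyOfFinitePresentation sY] {x : X} {y : Y}
    (e : sX x = sY y) (φ : Y.presheaf.stalk y ⟶ X.presheaf.stalk x)
    (h : sY.stalkMap y ≫ φ =
      S.presheaf.stalkSpecializes (Inseparable.of_eq e).specializes ≫ sX.stalkMap x) :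
    ∃ (U : X.Opens) (hxU : x ∈ U) (f : U.toScheme ⟶ Y),
      Spec.map φ ≫ Y.fromSpecStalk y = U.fromSpecStalkOfMem x hxU ≫ f ∧
      f ≫ sY = U.ι ≫ sX := by
  obtain ⟨_, ⟨U, hU, rfl⟩, hxU, -⟩ :=
    S.isBasis_affineOpens.exists_subset_of_mem_open (Set.mem_univ (sX x)) isOpen_univ
  have hyU : sY y ∈ U := e ▸ hxU
  obtain ⟨_, ⟨V : Y.Opens, hV, rfl⟩, hyV, iVU⟩ :=
    Y.isBasis_affineOpens.exists_subset_of_mem_open hyU (sY ⁻¹ᵁ U).2
  have : sY.appLE U V iVU ≫ Y.presheaf.germ V y hyV ≫ φ =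
      sX.app U ≫ X.presheaf.germ (sX ⁻¹ᵁ U) x hxU := by
    rw [Scheme.Hom.appLE, Category.assoc, Y.presheaf.germ_res_assoc,
      ← Scheme.Hom.germ_stalkMap_assoc, h]
    simp
  obtain ⟨W, hxW, φ', i, hW, h₁, h₂⟩ :=
    exists_lift (R := Γ(S, U)) (A := Γ(Y, V)) (U := sX ⁻¹ᵁ U) (x := x) hxU
      (Y.presheaf.germ _ y hyV ≫ φ) (sY.appLE U V iVU) (sX.app U)
      (sY.finitePresentation_appLE hU hV _) this
  refine ⟨W, hxW, W.toSpecΓ ≫ Spec.map φ' ≫ hV.fromSpec, ?_, ?_⟩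
  · rw [W.fromSpecStalkOfMem_toSpecΓ_assoc x hxW, ← Spec.map_comp_assoc, ← h₁,
      Spec.map_comp, Category.assoc, ← IsAffineOpen.fromSpecStalk,
      IsAffineOpen.fromSpecStalk_eq_fromSpecStalk]
  · simp only [Category.assoc]
    rw [← IsAffineOpen.SpecMap_appLE_fromSpec sY hU hV iVU, ← Spec.map_comp_assoc, ← h₂,
      ← Scheme.Hom.appLE, ← hW.isoSpec_hom, IsAffineOpen.SpecMap_appLE_fromSpec sX hU hW i,
      ← Iso.eq_inv_comp, IsAffineOpen.isoSpec_inv_ι_assoc]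

theorem spread_out_unique (sX : X ⟶ S) (sY : Y ⟶ S) [LocallyOfFiniteType sY]
    (f g : X ⟶ Y) (hf : f ≫ sY = sX) (hg : g ≫ sY = sX) {x : X} (e : f x = g x)
    (H : f.stalkMap x =
      Y.presheaf.stalkSpecializes (Inseparable.of_eq e.symm).specializes ≫ g.stalkMap x) :
    ∃ U : X.Opens, x ∈ U ∧ U.ι ≫ f = U.ι ≫ g := by
  obtain ⟨U₀, hU₀, hxU₀, -⟩ := exists_isAffineOpen_mem_and_subset (x := sX x) (U := ⊤) trivial
  have hfx : f x ∈ sY ⁻¹ᵁ U₀ := by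
    show sY (f x) ∈ U₀
    rw [← Scheme.Hom.comp_apply, hf]
    exact hxU₀
  obtain ⟨V, hV, hxV, hVU⟩ := exists_isAffineOpen_mem_and_subset hfx
  have hgx : g x ∈ V := e ▸ hxV
  let W : X.Opens := f ⁻¹ᵁ V ⊓ g ⁻¹ᵁ V
  have hxW : x ∈ W := ⟨hxV, hgx⟩
  letI : Algebra Γ(S, U₀) Γ(Y, V) := (sY.appLE U₀ V hVU).hom.toAlgebra
  obtain ⟨s, hs⟩ := (sY.finiteType_appLE hU₀ hV hVU : Algebra.FiniteType Γ(S, U₀) Γ(Y, V)).out
  let a : Γ(Y, V) ⟶ Γ(X, W) := f.appLE V W inf_le_left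
  let b : Γ(Y, V) ⟶ Γ(X, W) := g.appLE V W inf_le_right
  have hgerm : a ≫ X.presheaf.germ W x hxW = b ≫ X.presheaf.germ W x hxW := by
    simp only [a, b, Scheme.Hom.appLE, Category.assoc, X.presheaf.germ_res',
      ← Scheme.Hom.germ_stalkMap, H]
    simp only [TopCat.Presheaf.germ_stalkSpecializes_assoc, Scheme.Hom.germ_stalkMap]
  obtain ⟨U, hUW, hU, hxU, hzero⟩ := exists_affine_nhd_res_eq_zero hxW
    (s := (fun c => a c - b c) '' (s : Set Γ(Y, V))) (s.finite_toSet.image _) (by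
      rintro _ ⟨c, -, rfl⟩
      rw [map_sub, sub_eq_zero]
      exact congrArg (fun ψ : Γ(Y, V) ⟶ X.presheaf.stalk x => ψ c) hgerm)
  let a' : Γ(Y, V) ⟶ Γ(X, U) := f.appLE V U (hUW.trans inf_le_left)
  let b' : Γ(Y, V) ⟶ Γ(X, U) := g.appLE V U (hUW.trans inf_le_right)
  have ha' : a' = a ≫ X.presheaf.map (homOfLE hUW).op := (Scheme.Hom.appLE_map _ _ _).symm
  have hb' : b' = b ≫ X.presheaf.map (homOfLE hUW).op := (Scheme.Hom.appLE_map _ _ _).symm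
  have hbase : sY.appLE U₀ V hVU ≫ a' = sY.appLE U₀ V hVU ≫ b' := by
    simp only [a', b']
    rw [Scheme.Hom.appLE_comp_appLE, Scheme.Hom.appLE_comp_appLE]
    subst hf
    simp only [hg]
  have hab : a' = b' := by
    let E : Subalgebra Γ(S, U₀) Γ(Y, V) :=
      { RingHom.eqLocus a'.hom b'.hom with
        algebraMap_mem' := fun r =>
          congrArg (fun ψ : Γ(S, U₀) ⟶ Γ(X, U) => ψ r) hbase }
    have : ⊤ ≤ E := by
      rw [← hs]
      refine Algebra.adjoin_le fun c hc => ?_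
      have h0 := hzero _ ⟨c, hc, rfl⟩
      show a' c = b' c
      rw [ha', hb']
      exact sub_eq_zero.1 (by rw [CommRingCat.comp_apply, CommRingCat.comp_apply, ← map_sub]; exact h0)
    ext c
    exact this (Algebra.mem_top : c ∈ ⊤)
  refine ⟨U, hxU, ?_⟩
  rw [← Scheme.Hom.resLE_comp_ι f (hUW.trans inf_le_left),
    ← Scheme.Hom.resLE_comp_ι g (hUW.trans inf_le_right)]
  congr 1
  have : IsAffine V := hV
  suffices ∀ (U' V') (eU : U = U') (eV : V = V'),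
      f.appLE V' U' (eU ▸ eV ▸ hUW.trans inf_le_left) =
        g.appLE V' U' (eU ▸ eV ▸ hUW.trans inf_le_right) by
    rw [← cancel_mono V.toScheme.isoSpec.hom]
    simp only [Scheme.isoSpec, asIso_hom, Scheme.toSpecΓ_naturality,
      Scheme.Hom.app_eq_appLE, Scheme.Hom.resLE_appLE]
    congr 2
    apply this <;> simp
  rintro _ _ rfl rfl
  exact hab

theorem spread_out_unique' (sX : X ⟶ S) (sY : Y ⟶ S) [LocallyOfFiniteType sY]
    (f g : X ⟶ Y) (hf : f ≫ sY = sX) (hg : g ≫ sY = sX) {x : X}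
    (e : X.fromSpecStalk x ≫ f = X.fromSpecStalk x ≫ g) :
    ∃ U : X.Opens, x ∈ U ∧ U.ι ≫ f = U.ι ≫ g := by
  fapply spread_out_unique sX sY f g hf hg
  · simpa using congr($e (IsLocalRing.closedPoint _))
  · apply Spec.map_injective
    rw [← cancel_mono (Y.fromSpecStalk _)]
    simpa [Scheme.SpecMap_stalkSpecializes_fromSpecStalk]

theorem fromSpecStalkOfMem_homOfLE {U V : X.Opens} (h : U ≤ V) (x : X) (hx : x ∈ U) :
    U.fromSpecStalkOfMem x hx ≫ X.homOfLE h = V.fromSpecStalkOfMem x (h hx) := by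
  rw [← cancel_mono V.ι, Category.assoc, Scheme.homOfLE_ι, Scheme.Opens.fromSpecStalkOfMem_ι,
    Scheme.Opens.fromSpecStalkOfMem_ι]

theorem fromSpecStalkOfMem_apply (U : X.Opens) (x : X) (hx : x ∈ U) :
    U.fromSpecStalkOfMem x hx (IsLocalRing.closedPoint _) = ⟨x, hx⟩ :=
  U.ι.isEmbedding.injective (by
    rw [← Scheme.Hom.comp_apply, Scheme.Opens.fromSpecStalkOfMem_ι,
      Scheme.fromSpecStalk_closedPoint]
    rfl)

theorem eq_on_nhd (sY : Y ⟶ S) [LocallyOfFiniteType sY] {U : X.Opens} {x : X} (hx : x ∈ U)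
    (a b : U.toScheme ⟶ Y) (hab : a ≫ sY = b ≫ sY)
    (e : U.fromSpecStalkOfMem x hx ≫ a = U.fromSpecStalkOfMem x hx ≫ b) :
    ∃ (W : X.Opens) (hWU : W ≤ U), x ∈ W ∧ X.homOfLE hWU ≫ a = X.homOfLE hWU ≫ b := by
  obtain ⟨W', hxW', hW'⟩ := spread_out_unique' (a ≫ sY) sY a b rfl hab.symm
    (x := (⟨x, hx⟩ : U.toScheme)) (by
      simp only [Scheme.Opens.fromSpecStalkOfMem, Category.assoc] at e
      exact (cancel_epi _).1 e)
  refine ⟨U.ι ''ᵁ W', U.ι_image_le W', ⟨_, hxW', rfl⟩, ?_⟩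
  have he : (U.ι.isoImage W').hom ≫ X.homOfLE (U.ι_image_le W') = W'.ι := by
    rw [← cancel_mono U.ι, Category.assoc, Scheme.homOfLE_ι, Scheme.Hom.isoImage_hom_ι]
  rw [← cancel_epi (U.ι.isoImage W').hom, reassoc_of% he, reassoc_of% he, hW']

theorem exists_nhd_roundTrip (sX : X ⟶ S) (sY : Y ⟶ S) [LocallyOfFiniteType sX]
    {U : X.Opens} {V : Y.Opens} {x : X} {y : Y} (hxU : x ∈ U) (hyV : y ∈ V)
    (f : U.toScheme ⟶ Y) (g : V.toScheme ⟶ X)
    (φ : Y.presheaf.stalk y ⟶ X.presheaf.stalk x) (ψ : X.presheaf.stalk x ⟶ Y.presheaf.stalk y)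
    [IsLocalHom φ.hom] (hψφ : ψ ≫ φ = 𝟙 _)
    (hf₁ : Spec.map φ ≫ Y.fromSpecStalk y = U.fromSpecStalkOfMem x hxU ≫ f)
    (hf₂ : f ≫ sY = U.ι ≫ sX)
    (hg₁ : Spec.map ψ ≫ X.fromSpecStalk x = V.fromSpecStalkOfMem y hyV ≫ g)
    (hg₂ : g ≫ sX = V.ι ≫ sY) :
    f ⟨x, hxU⟩ = y ∧
    ∃ (W : X.Opens) (hWU : W ≤ U), x ∈ W ∧ ∀ (p : W.toScheme), f (X.homOfLE hWU p) ∈ V ∧
      ∀ (T : Scheme.{u}) (t : T ⟶ W.toScheme) (t' : T ⟶ V.toScheme),
        t' ≫ V.ι = t ≫ X.homOfLE hWU ≫ f → t' ≫ g = t ≫ W.ι := by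
  have hy : f ⟨x, hxU⟩ = y := by
    have := congrArg (fun m => m (IsLocalRing.closedPoint (X.presheaf.stalk x))) hf₁
    simp only [Scheme.Hom.comp_apply, fromSpecStalkOfMem_apply] at this
    rw [← this]
    have hcp : Spec.map φ (IsLocalRing.closedPoint (X.presheaf.stalk x)) =
        IsLocalRing.closedPoint (Y.presheaf.stalk y) := IsLocalRing.comap_closedPoint φ.hom
    rw [hcp, Scheme.fromSpecStalk_closedPoint]
  refine ⟨hy, ?_⟩
  let A : X.Opens := U.ι ''ᵁ (f ⁻¹ᵁ V)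
  have hxA : x ∈ A := ⟨⟨x, hxU⟩, show f ⟨x, hxU⟩ ∈ V from hy.symm ▸ hyV, rfl⟩
  have hAU : A ≤ U := U.ι_image_le _
  have hr : ∀ p : A.toScheme, f (X.homOfLE hAU p) ∈ V := by
    rintro ⟨_, p, hp, rfl⟩
    rw [Scheme.homOfLE_apply']
    exact hp
  let fA : A.toScheme ⟶ V.toScheme := IsOpenImmersion.lift V.ι (X.homOfLE hAU ≫ f) (by
    rw [Scheme.Opens.range_ι]
    rintro _ ⟨p, rfl⟩
    rw [Scheme.Hom.comp_apply]
    exact hr p)
  have hfA : fA ≫ V.ι = X.homOfLE hAU ≫ f := IsOpenImmersion.lift_fac _ _ _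
  obtain ⟨W, hWA, hxW, hW⟩ := eq_on_nhd sX hxA (fA ≫ g) A.ι (by
    rw [Category.assoc, hg₂, ← Category.assoc, hfA, Category.assoc, hf₂, Scheme.homOfLE_ι_assoc])
    (by
      have h1 : A.fromSpecStalkOfMem x hxA ≫ fA = Spec.map φ ≫ V.fromSpecStalkOfMem y hyV := by
        rw [← cancel_mono V.ι, Category.assoc, hfA, ← Category.assoc, fromSpecStalkOfMem_homOfLE,
          ← hf₁, Category.assoc, Scheme.Opens.fromSpecStalkOfMem_ι]
      rw [reassoc_of% h1, ← hg₁, Scheme.Opens.fromSpecStalkOfMem_ι, ← Spec.map_comp_assoc, hψφ,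
        Spec.map_id, Category.id_comp])
  refine ⟨W, hWA.trans hAU, hxW, fun p => ⟨?_, ?_⟩⟩
  · have := hr (X.homOfLE hWA p)
    rwa [← Scheme.Hom.comp_apply (X.homOfLE hWA) (X.homOfLE hAU), Scheme.homOfLE_homOfLE] at this
  · intro T t t' ht
    have : t' = t ≫ X.homOfLE hWA ≫ fA := by
      rw [← cancel_mono V.ι, ht, Category.assoc, Category.assoc, hfA, ← Scheme.homOfLE_homOfLE_assoc]
    rw [this, Category.assoc, Category.assoc, hW, Scheme.homOfLE_ι]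

theorem spread_out_iso (sX : X ⟶ S) (sY : Y ⟶ S) [LocallyOfFinitePresentation sX]
    [LocallyOfFinitePresentation sY] {x : X} {y : Y} (e : sX x = sY y)
    (φ : Y.presheaf.stalk y ⟶ X.presheaf.stalk x) [IsIso φ]
    (h : sY.stalkMap y ≫ φ =
      S.presheaf.stalkSpecializes (Inseparable.of_eq e).specializes ≫ sX.stalkMap x) :
    ∃ (U : X.Opens) (hxU : x ∈ U) (V : Y.Opens) (f : U.toScheme ⟶ V.toScheme), IsIso f ∧
      Spec.map φ ≫ Y.fromSpecStalk y = U.fromSpecStalkOfMem x hxU ≫ f ≫ V.ι ∧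
        f ≫ V.ι ≫ sY = U.ι ≫ sX := by
  obtain ⟨U, hxU, f, hf₁, hf₂⟩ := spread_out sX sY e φ h
  obtain ⟨V, hyV, g, hg₁, hg₂⟩ := spread_out sY sX e.symm (inv φ) (by
    rw [IsIso.comp_inv_eq, Category.assoc, h]
    simp)
  obtain ⟨hy, W, hWU, hxW, hW⟩ := exists_nhd_roundTrip sX sY hxU hyV f g φ (inv φ)
    (IsIso.inv_hom_id φ) hf₁ hf₂ hg₁ hg₂
  obtain ⟨hx, W₂, hW₂V, hyW₂, hW₂⟩ := exists_nhd_roundTrip sY sX hyV hxU g f (inv φ) φ
    (IsIso.hom_inv_id φ) hg₁ hg₂ hf₁ hf₂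
  let U' : X.Opens := W.ι ''ᵁ ((X.homOfLE hWU ≫ f) ⁻¹ᵁ W₂)
  have hU'W : U' ≤ W := W.ι_image_le _
  let V' : Y.Opens := W₂.ι ''ᵁ ((Y.homOfLE hW₂V ≫ g) ⁻¹ᵁ U')
  have hV'W : V' ≤ W₂ := W₂.ι_image_le _
  have hxU' : x ∈ U' := ⟨⟨x, hxW⟩, by
    show (X.homOfLE hWU ≫ f) ⟨x, hxW⟩ ∈ W₂
    rw [Scheme.Hom.comp_apply, Scheme.homOfLE_apply', hy]
    exact hyW₂, rfl⟩
  -- the inverse pair
  have hgmem : ∀ q : V'.toScheme, g (Y.homOfLE (hV'W.trans hW₂V) q) ∈ U' := by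
    rintro ⟨_, q, hq, rfl⟩
    have : (Y.homOfLE hW₂V ≫ g) q ∈ U' := hq
    rw [Scheme.Hom.comp_apply] at this
    convert this using 2
    exact Subtype.ext (by rw [Scheme.homOfLE_apply, Scheme.homOfLE_apply]; rfl)
  have hfmem : ∀ p : U'.toScheme, f (X.homOfLE (hU'W.trans hWU) p) ∈ V' := by
    intro p
    obtain ⟨q, hq, hqp⟩ := p.2
    have h1 : f (X.homOfLE (hU'W.trans hWU) p) ∈ W₂ := by
      have : (X.homOfLE hWU ≫ f) q ∈ W₂ := hq
      rw [Scheme.Hom.comp_apply] at this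
      convert this using 2
      exact Subtype.ext (by rw [Scheme.homOfLE_apply, Scheme.homOfLE_apply]; exact hqp.symm)
    have hpV : f (X.homOfLE hWU (X.homOfLE hU'W p)) ∈ V := (hW _).1
    refine ⟨⟨_, h1⟩, ?_, rfl⟩
    show (Y.homOfLE hW₂V ≫ g) ⟨_, h1⟩ ∈ U'
    rw [Scheme.Hom.comp_apply, Scheme.homOfLE_apply']
    let l : U'.toScheme ⟶ V.toScheme := IsOpenImmersion.lift V.ι
      (X.homOfLE hU'W ≫ X.homOfLE hWU ≫ f) (by
        rw [Scheme.Opens.range_ι]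
        rintro _ ⟨r, rfl⟩
        rw [Scheme.Hom.comp_apply, Scheme.Hom.comp_apply]
        exact (hW _).1)
    have hl : l ≫ V.ι = X.homOfLE hU'W ≫ X.homOfLE hWU ≫ f := IsOpenImmersion.lift_fac _ _ _
    have hlg := (hW (X.homOfLE hU'W p)).2 _ (X.homOfLE hU'W) l hl
    rw [Scheme.homOfLE_ι] at hlg
    have hpt : g (l p) = U'.ι p := by
      rw [← Scheme.Hom.comp_apply, hlg]
    have hlp : V.ι (l p) = f (X.homOfLE (hU'W.trans hWU) p) := by
      rw [← Scheme.Hom.comp_apply, hl, Scheme.homOfLE_homOfLE_assoc, Scheme.Hom.comp_apply]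
    have hpU : U'.ι p ∈ U' := p.2
    convert hpU using 1
    rw [← hpt]
    congr 1
    exact Subtype.ext hlp.symm
  let f' : U'.toScheme ⟶ V'.toScheme :=
    IsOpenImmersion.lift V'.ι (X.homOfLE (hU'W.trans hWU) ≫ f) (by
      rw [Scheme.Opens.range_ι]
      rintro _ ⟨p, rfl⟩
      rw [Scheme.Hom.comp_apply]
      exact hfmem p)
  have hf' : f' ≫ V'.ι = X.homOfLE (hU'W.trans hWU) ≫ f := IsOpenImmersion.lift_fac _ _ _
  let g' : V'.toScheme ⟶ U'.toScheme :=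
    IsOpenImmersion.lift U'.ι (Y.homOfLE (hV'W.trans hW₂V) ≫ g) (by
      rw [Scheme.Opens.range_ι]
      rintro _ ⟨q, rfl⟩
      rw [Scheme.Hom.comp_apply]
      exact hgmem q)
  have hg' : g' ≫ U'.ι = Y.homOfLE (hV'W.trans hW₂V) ≫ g := IsOpenImmersion.lift_fac _ _ _
  have h1 : f' ≫ g' = 𝟙 _ := by
    rw [← cancel_mono U'.ι, Category.assoc, hg', ← Category.assoc, Category.id_comp,
      ← Scheme.homOfLE_ι X hU'W]
    refine (hW (X.homOfLE hU'W ⟨x, hxU'⟩)).2 _ (X.homOfLE hU'W) _ ?_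
    rw [Category.assoc, Scheme.homOfLE_ι, hf', Scheme.homOfLE_homOfLE_assoc]
  have hyV' : y ∈ V' := by
    have := hfmem ⟨x, hxU'⟩
    rwa [Scheme.homOfLE_apply', hy] at this
  have h2 : g' ≫ f' = 𝟙 _ := by
    rw [← cancel_mono V'.ι, Category.assoc, hf', ← Category.assoc, Category.id_comp,
      ← Scheme.homOfLE_ι Y hV'W]
    refine (hW₂ (Y.homOfLE hV'W ⟨y, hyV'⟩)).2 _ (Y.homOfLE hV'W) _ ?_
    rw [Category.assoc, Scheme.homOfLE_ι, hg', Scheme.homOfLE_homOfLE_assoc]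
  refine ⟨U', hxU', V', f', ⟨g', h1, h2⟩, ?_, ?_⟩
  · rw [hf', ← Category.assoc, fromSpecStalkOfMem_homOfLE, hf₁]
  · rw [← Category.assoc, hf', Category.assoc, hf₂, Scheme.homOfLE_ι_assoc]

end Groth.Agent.H23.SpreadFP
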