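import Groth.Agent.CDiv6.Factorial
import Groth.Agent.VarGeom.Normal
import Groth.Agent.CycLib.Basic
import Groth.Agent.H23.FibreDegSum

/-! Primes of a stalk versus generizations, and lengths of localised quotients. -/

set_option autoImplicit false

universe u

open AlgebraicGeometry CategoryTheory IsLocalRing

namespace Groth.Agent.H23.StalkPrimes

open Groth.Agent CDiv6

variable {X X' : Scheme.{u}}

theorem isLocalization_primeOf {x y : X} (h : y ⤳ x) :
    @IsLocalization.AtPrime _ _ (X.presheaf.stalk y) _ (X.presheaf.stalkSpecializes h).hom.toAlgebra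
      (primeOf h).asIdeal (primeOf h).2 := by
  obtain ⟨S, hS⟩ := VarGeom.exists_isLocalization_stalkSpecializes h
  letI := (X.presheaf.stalkSpecializes h).hom.toAlgebra
  refine IsLocalization.of_le S _ (fun r hr => ?_) fun r hr => ?_
  · exact fun hmem => (mem_primeOf h r).1 hmem (IsLocalization.map_units (X.presheaf.stalk y) (⟨r, hr⟩ : S))
  · by_contra hu
    exact hr ((mem_primeOf h r).2 hu)

theorem primeOf_le_iff {x y z : X} (hy : y ⤳ x) (hz : z ⤳ x) :
    (primeOf hz).asIdeal ≤ (primeOf hy).asIdeal ↔ z ⤳ y := by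
  refine (PrimeSpectrum.le_iff_specializes _ _).trans ((X.fromSpecStalk x).isEmbedding.isInducing.specializes_iff.symm.trans ?_)
  rw [fromSpecStalk_primeOf, fromSpecStalk_primeOf]

theorem primeOf_inj {x y z : X} (hy : y ⤳ x) (hz : z ⤳ x)
    (h : (primeOf hy).asIdeal = (primeOf hz).asIdeal) : y = z :=
  (((primeOf_le_iff hy hz).1 h.ge).antisymm ((primeOf_le_iff hz hy).1 h.le)).eq.symm

theorem exists_point {x : X} (Q : Ideal (X.presheaf.stalk x)) [Q.IsPrime] :
    ∃ (y : X) (h : y ⤳ x), (primeOf h).asIdeal = Q :=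
  ⟨_, fromSpecStalk_specializes ⟨Q, ‹_›⟩, congrArg PrimeSpectrum.asIdeal (primeOf_fromSpecStalk _)⟩

theorem comap_primeOf (p : X' ⟶ X) {x' z : X'} (h : z ⤳ x') :
    (primeOf h).asIdeal.comap (p.stalkMap x').hom = (primeOf (h.map p.continuous)).asIdeal := by
  suffices PrimeSpectrum.comap (p.stalkMap x').hom (primeOf h) = primeOf (h.map p.continuous) from
    congrArg PrimeSpectrum.asIdeal this
  refine (X.fromSpecStalk (p x')).isEmbedding.injective ?_
  have e : X.fromSpecStalk (p x') (PrimeSpectrum.comap (p.stalkMap x').hom (primeOf h)) =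
      p (X'.fromSpecStalk x' (primeOf h)) := by
    symm
    show (X'.fromSpecStalk x' ≫ p) _ = _
    rw [← Scheme.SpecMap_stalkMap_fromSpecStalk]
    rfl
  rw [e, fromSpecStalk_primeOf, fromSpecStalk_primeOf]

theorem map_le_iff (p : X' ⟶ X) {x' z : X'} (hz : z ⤳ x') {ξ : X} (h : ξ ⤳ p x') :
    (primeOf h).asIdeal.map (p.stalkMap x').hom ≤ (primeOf hz).asIdeal ↔ ξ ⤳ p z := by
  rw [Ideal.map_le_iff_le_comap, comap_primeOf, primeOf_le_iff]

/-- The length of a quotient localised at a prime. -/
theorem length_localized_quot {R S : Type u} [CommRing R] [CommRing S] [Algebra R S] (I Q : Ideal R) [Q.IsPrime]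
    [IsLocalization.AtPrime S Q] (hIQ : I ≤ Q) (q : Ideal (R ⧸ I)) [q.IsPrime]
    (hq : q = Q.map (Ideal.Quotient.mk I)) :
    Module.length (Localization.AtPrime q) (LocalizedModule q.primeCompl (R ⧸ I)) =
      Module.length S (S ⧸ I.map (algebraMap R S)) := by
  have hcomap : q.comap (Ideal.Quotient.mk I) = Q := by
    rw [hq, Ideal.comap_map_of_surjective _ Ideal.Quotient.mk_surjective, ← RingHom.ker_eq_comap_bot, Ideal.mk_ker,
      sup_eq_left.2 hIQ]
  let T := S ⧸ I.map (algebraMap R S)
  haveI : IsLocalization q.primeCompl T := by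
    have h1 : IsLocalization (Q.primeCompl.map (Ideal.Quotient.mk I)) T :=
      IsLocalization.of_surjective Q.primeCompl S (Ideal.Quotient.mk I) Ideal.Quotient.mk_surjective
        (Ideal.Quotient.mk (I.map (algebraMap R S))) Ideal.Quotient.mk_surjective rfl
        (by rw [Ideal.mk_ker, Ideal.mk_ker])
    have e : Q.primeCompl.map (Ideal.Quotient.mk I) = q.primeCompl := by
      ext t
      obtain ⟨t, rfl⟩ := Ideal.Quotient.mk_surjective t
      constructor
      · rintro ⟨s, hs, hst⟩ hmem
        refine hs ?_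
        show s ∈ Q
        rw [← hcomap]
        show Ideal.Quotient.mk I s ∈ q
        rw [show Ideal.Quotient.mk I s = Ideal.Quotient.mk I t from hst]
        exact hmem
      · intro h
        exact ⟨t, fun hmem => h (hq ▸ Ideal.mem_map_of_mem _ hmem), rfl⟩
    rwa [e] at h1
  let e : Localization.AtPrime q ≃ₐ[R ⧸ I] T := IsLocalization.algEquiv q.primeCompl _ _
  rw [((IsLocalizedModule.iso q.primeCompl (Algebra.linearMap (R ⧸ I) (Localization.AtPrime q))).extendScalarsOfIsLocalization
    q.primeCompl (Localization.AtPrime q)).length_eq,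
    Module.length_eq_of_surjective (S := S) (R := T) (M := T) Ideal.Quotient.mk_surjective]
  exact FiniteFibreSum.length_self_of_bijective e.toRingEquiv.toRingHom e.bijective

end Groth.Agent.H23.StalkPrimes
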