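import Groth.Agent.H23.PrincipalAt
import Groth.Agent.H23.StalkPrimes

/-!
# Principal prime cycles, global equations and triviality of invertible modules
-/

universe u

set_option backward.isDefEq.respectTransparency false
set_option backward.isDefEq.respectTransparency.types false
set_option linter.style.haveILetI false

open CategoryTheory AlgebraicGeometry TopologicalSpace Opposite IsLocalRing

namespace Groth.Agent.H23.PrincipalGlobal

open Groth.Agent Groth.Agent.RefX Groth.Agent.H23.PrincipalAt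

section

open Groth.Agent.AModX Groth.Agent.InvX

variable {X : Scheme.{u}}

/-- A trivialisation over an open gives a frame. -/
theorem exists_frame_of_iso {L : X.Modules} {U : X.Opens}
    (φ : L.restrict U.ι ≅ Coh.structureModule U.toScheme) :
    ∃ e : Γ(L, U), InvX.IsFrame e := by
  let e' : Γ(L.restrict U.ι, ⊤) := φ.inv.app ⊤ (1 : Γ(U.toScheme, ⊤))
  refine ⟨res L (le_of_eq U.ι_image_top.symm) (show Γ(L, U.ι ''ᵁ ⊤) from e'), fun V hV => ?_⟩
  obtain ⟨V', rfl⟩ : ∃ V', U.ι ''ᵁ V' = V := ⟨U.ι ⁻¹ᵁ V, by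
    rw [Scheme.Hom.image_preimage_eq_opensRange_inf, Scheme.Opens.opensRange_ι]
    exact inf_eq_right.mpr hV⟩
  have hb : Function.Bijective (φ.inv.app V') :=
    (ConcreteCategory.isIso_iff_bijective _).1 (Scheme.Modules.Hom.isIso_iff_isIso_app.1 inferInstance V')
  have key : ∀ r : Γ(X, U.ι ''ᵁ V'), (show Γ(L.restrict U.ι, V') from
      r • res L (hV : U.ι ''ᵁ V' ≤ U) (res L (le_of_eq U.ι_image_top.symm)
        (show Γ(L, U.ι ''ᵁ ⊤) from e'))) = φ.inv.app V' ((U.ι.appIso V').hom r) := by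
    intro r
    have h1 : φ.inv.app V' (1 : Γ(U.toScheme, V')) = res (L.restrict U.ι) le_top e' := by
      rw [← app_res]
      exact congrArg (φ.inv.app V') (map_one (resR (le_top : V' ≤ ⊤))).symm
    conv_rhs => rw [show (U.ι.appIso V').hom r = (U.ι.appIso V').hom r • (1 : Γ(U.toScheme, V')) from
      (mul_one _).symm]
    erw [Scheme.Modules.Hom.app_smul, h1]
    rw [res_res]
    show r • res L (U.ι.image_mono (le_top : V' ≤ ⊤)) (show Γ(L, U.ι ''ᵁ ⊤) from e') = (U.ι.appIso V').inv.hom ((U.ι.appIso V').hom r) •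
      res L (U.ι.image_mono (le_top : V' ≤ ⊤)) (show Γ(L, U.ι ''ᵁ ⊤) from e')
    rw [Iso.hom_inv_id_apply]
  have he2 : (fun r : Γ(X, U.ι ''ᵁ V') => (show Γ(L.restrict U.ι, V') from
      r • res L (hV : U.ι ''ᵁ V' ≤ U) (res L (le_of_eq U.ι_image_top.symm)
        (show Γ(L, U.ι ''ᵁ ⊤) from e')))) = (φ.inv.app V') ∘ (U.ι.appIso V').hom := funext key
  have hiso : Function.Bijective (U.ι.appIso V').hom :=
    (ConcreteCategory.isIso_iff_bijective _).1 inferInstance
  exact (congrArg Function.Bijective he2).mpr (hb.comp hiso)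


/-- Frames around the points of an open make the restriction invertible. -/
theorem isInvertible_restrict_of_frames {F : X.Modules} (U : X.Opens)
    (h : ∀ y ∈ U, ∃ (V : X.Opens) (_ : y ∈ V) (e : Γ(F, V)), InvX.IsFrame e) :
    PicF.IsInvertible (F.restrict U.ι) := by
  intro y
  obtain ⟨V, hyV, e, he⟩ := h y.1 y.2
  obtain ⟨e⟩ := InvX.nonempty_iso_of_isFrame he
  set W : (U : Scheme.{u}).Opens := U.ι ⁻¹ᵁ V with hW
  have hle : U.ι ''ᵁ W ≤ V := by
    rintro _ ⟨z, hz, rfl⟩
    exact hz
  let b : (W : Scheme.{u}) ⟶ (V : Scheme.{u}) := (U.ι.isoImage W).hom ≫ X.homOfLE hle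
  have hb : b ≫ V.ι = W.ι ≫ U.ι := by simp [b]
  exact ⟨W, hyV, ⟨ParaFX.restrictTwice _ W.ι U.ι ≪≫ ((Scheme.Modules.restrictFunctorCongr hb).app _).symm ≪≫
    (ParaFX.restrictTwice _ b V.ι).symm ≪≫ (Scheme.Modules.restrictFunctor b).mapIso e ≪≫
    Scheme.Modules.restrictUnitIso b⟩⟩

end

variable {X : Scheme.{u}} [IsIntegral X] [IsLocallyNoetherian X]

/-- Global equations of the codimension one points. -/
def HasEquations (X : Scheme.{u}) : Prop :=
  ∀ ζ : X, Order.coheight ζ = 1 → ∃ g : Γ(X, ⊤),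
    (∀ (x : X) (h : ζ ⤳ x),
      (maximalIdeal (X.presheaf.stalk ζ)).comap (X.presheaf.stalkSpecializes h).hom =
        Ideal.span {X.presheaf.germ ⊤ x trivial g}) ∧
    ∀ x : X, ¬ ζ ⤳ x → IsUnit (X.presheaf.germ ⊤ x trivial g)

theorem ufd_of_hasEquations (h : HasEquations X) (x : X) :
    UniqueFactorizationMonoid (X.presheaf.stalk x) := by
  refine UniqueFactorizationMonoid.iff_exists_prime_mem_of_isPrime.2 fun Q hQ hQp => ?_
  obtain ⟨b, hb, hb0⟩ := Submodule.exists_mem_ne_zero_of_ne_bot hQ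
  obtain ⟨P, hP, hPQ⟩ := Ideal.exists_minimalPrimes_le (show Ideal.span {b} ≤ Q by simpa [Ideal.span_le] using hb)
  haveI := hP.1.1
  have hP0 : P ≠ ⊥ := fun h => hb0 (by
    have := hP.1.2 (Ideal.mem_span_singleton_self b)
    rw [h] at this
    simpa using this)
  have hP1 := CDiv6.height_eq_one_of_prime hP0 (Ideal.height_le_one_of_isPrincipal_of_mem_minimalPrimes _ P hP)
  obtain ⟨ζ, hζ, rfl⟩ := StalkPrimes.exists_point P
  obtain ⟨g, hg, -⟩ := h ζ (by rw [← CDiv6.height_primeOf hζ, hP1])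
  have e : (CDiv6.primeOf hζ).asIdeal = Ideal.span {X.presheaf.germ ⊤ x trivial g} := hg x hζ
  have hne : X.presheaf.germ ⊤ x trivial g ≠ 0 := fun h0 => hP0 (by
    rw [e, h0, Ideal.span_singleton_zero])
  exact ⟨_, hPQ (e ▸ Ideal.mem_span_singleton_self _),
    (Ideal.span_singleton_prime hne).1 (e ▸ inferInstance)⟩

theorem normal_of_ufd (h : ∀ x : X, UniqueFactorizationMonoid (X.presheaf.stalk x)) :
    Pi1.IsNormalScheme X := fun x => by
  haveI := h x
  exact ⟨inferInstance, inferInstance⟩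

theorem exists_ord_single (h : HasEquations X) (z₀ : X) (h₀ : Order.coheight z₀ = 1) :
    ∃ f : X.functionField, f ≠ 0 ∧ ∀ z : X, Order.coheight z = 1 → single z₀ z = Scheme.ord f z := by
  have hX := normal_of_ufd (ufd_of_hasEquations h)
  obtain ⟨g, hg, hu⟩ := h z₀ h₀
  haveI := CDiv6.isDVR_of_coheight_one hX h₀
  have hmax : maximalIdeal (X.presheaf.stalk z₀) = Ideal.span {X.presheaf.germ ⊤ z₀ trivial g} := by
    rw [← hg z₀ specializes_rfl, TopCat.Presheaf.stalkSpecializes_refl]
    exact (Ideal.comap_id _).symm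
  have hirr : Irreducible (X.presheaf.germ ⊤ z₀ trivial g) :=
    (IsDiscreteValuationRing.irreducible_iff_uniformizer _).2 hmax
  have hK : ∀ z : X, algebraMap (X.presheaf.stalk z) X.functionField (X.presheaf.germ ⊤ z trivial g) =
      X.presheaf.germ ⊤ (genericPoint X) trivial g := fun z => by
    rw [algebraMap_germ]
  have h0 : algebraMap (X.presheaf.stalk z₀) X.functionField (X.presheaf.germ ⊤ z₀ trivial g) ≠ 0 :=
    (map_ne_zero_iff _ (IsFractionRing.injective _ _)).2 hirr.ne_zero
  refine ⟨X.presheaf.germ ⊤ (genericPoint X) trivial g, hK z₀ ▸ h0, fun z hz => ?_⟩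
  by_cases hzz : z = z₀
  · subst hzz
    haveI : Ring.KrullDimLE 1 (X.presheaf.stalk z) := krullDimLE_of_coheight_le hz.le
    rw [single, if_pos rfl, ← hK z]
    exact ((Scheme.ord_eq_iff hz h0).2 (Ring.ordFrac_irreducible hirr)).symm
  · have hnz : ¬ z₀ ⤳ z := fun hsp => hzz (by
      by_contra hne
      have := coheight_two_le hsp (Ne.symm hne) fun he => by
        rw [he, coheight_genericPoint] at h₀; exact zero_ne_one h₀
      rw [hz] at this
      exact absurd this (by norm_num))
    have hun := hu z hnz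
    have hne : X.presheaf.germ ⊤ z trivial g ≠ 0 := hun.ne_zero
    rw [single, if_neg hzz, ← hK z]
    refine (CDiv6.ord_toK_eq_zero specializes_rfl hne fun hm => ?_).symm
    exact (CDiv6.mem_primeOf _ _).1 hm (hun.map _)

open Classical in
/-- Combinations of globally principal prime cycles are globally principal. -/
theorem exists_ord_eq [CompactSpace X]
    (h : ∀ z₀ : X, Order.coheight z₀ = 1 →
      ∃ f : X.functionField, f ≠ 0 ∧ ∀ z : X, Order.coheight z = 1 → single z₀ z = Scheme.ord f z)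
    {D : X → ℤ} (hfin : LocFin D) :
    ∃ f : X.functionField, f ≠ 0 ∧ ∀ z : X, Order.coheight z = 1 → D z = Scheme.ord f z := by
  have hS : {z : X | Order.coheight z = 1 ∧ D z ≠ 0}.Finite := by
    have hcov : (Set.univ : Set X) ⊆ ⋃ V : X.affineOpens, (V.1 : Set X) := fun x _ => by
      obtain ⟨_, ⟨V, hV, rfl⟩, hxV, -⟩ :=
        X.isBasis_affineOpens.exists_subset_of_mem_open (Set.mem_univ x) isOpen_univ
      exact Set.mem_iUnion.2 ⟨⟨V, hV⟩, hxV⟩
    obtain ⟨t, ht⟩ := isCompact_univ.elim_finite_subcover (fun V : X.affineOpens => (V.1 : Set X))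
      (fun V => V.1.isOpen) hcov
    refine (t.finite_toSet.biUnion fun V _ => hfin V.1 V.2).subset ?_
    rintro z ⟨hz, hz0⟩
    obtain ⟨V, hV, hzV⟩ := Set.mem_iUnion₂.1 (ht (Set.mem_univ z))
    exact Set.mem_iUnion₂.2 ⟨V, hV, hzV, hz, hz0⟩
  suffices H : ∀ T : Finset X, (∀ z ∈ T, Order.coheight z = 1) → ∃ f : X.functionField, f ≠ 0 ∧
      ∀ z : X, Order.coheight z = 1 → (if z ∈ T then D z else 0) = Scheme.ord f z by
    obtain ⟨f, hf, hfz⟩ := H hS.toFinset fun z hz => (hS.mem_toFinset.1 hz).1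
    refine ⟨f, hf, fun z hz => ?_⟩
    rw [← hfz z hz]
    split_ifs with h0
    · rfl
    · by_contra hc
      exact h0 (hS.mem_toFinset.2 ⟨hz, hc⟩)
  intro T
  induction T using Finset.induction with
  | empty => intro _; exact ⟨1, one_ne_zero, fun z _ => by simp [ord_one]⟩
  | insert a s ha ih =>
    intro hT
    obtain ⟨f, hf, hfa⟩ := h a (hT a (Finset.mem_insert_self _ _))
    obtain ⟨g, hg, hgs⟩ := ih fun z hz => hT z (Finset.mem_insert_of_mem hz)
    refine ⟨f ^ (D a) * g, mul_ne_zero (zpow_ne_zero _ hf) hg, fun z hz => ?_⟩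
    have hpow : ∀ n : ℤ, Scheme.ord (f ^ n) z = n * Scheme.ord f z := by
      intro n
      induction n using Int.induction_on with
      | zero => simp [ord_one]
      | succ i hi => rw [zpow_add_one₀ hf, Scheme.ord_mul (zpow_ne_zero _ hf) hf, hi]; ring
      | pred i hi =>
        rw [zpow_sub_one₀ hf, Scheme.ord_mul (zpow_ne_zero _ hf) (inv_ne_zero hf), hi, ord_inv hf]
        ring
    rw [Scheme.ord_mul (zpow_ne_zero _ hf) hg, ← hgs z hz, hpow, ← hfa z hz, single]
    by_cases hza : z = a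
    · subst hza; simp [ha]
    · simp [hza]

theorem picTrivial_of_hasEquations [CompactSpace X] (h : HasEquations X) (L : X.Modules)
    (hL : PicF.IsInvertible L) : Nonempty (L ≅ Coh.structureModule X) := by
  have hX := normal_of_ufd (ufd_of_hasEquations h)
  have hf := hasFrames_of_invertible hL
  obtain ⟨U, hU, e, he⟩ := hf (genericPoint X) (by rw [coheight_genericPoint]; exact zero_le)
  have hv := germ_frame_ne_zero he hU
  obtain ⟨f, hf0, hfz⟩ := exists_ord_eq (exists_ord_single h)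
    (D := fun z => Cyc.secOrdAt L (genericPoint X) z (specializes_genericPoint z) (clsη L _))
    fun V hV => finite_secOrd hf hv hV
  exact nonempty_iso_of_principal hX hL hv hf0 hfz

theorem exists_ord_single_of_trivial (hU : ∀ x : X, UniqueFactorizationMonoid (X.presheaf.stalk x))
    (hP : ∀ L : X.Modules, PicF.IsInvertible L → Nonempty (L ≅ Coh.structureModule X)) (z₀ : X)
    (h₀ : Order.coheight z₀ = 1) :
    ∃ f : X.functionField, f ≠ 0 ∧ ∀ z : X, Order.coheight z = 1 → single z₀ z = Scheme.ord f z := by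
  have hX := normal_of_ufd hU
  obtain ⟨L, hL, v, hv, hD⟩ := exists_invertible hX (single z₀) (locFin_single z₀)
    (principalAt_single_of_ufd hX hU h₀)
  obtain ⟨ι⟩ := hP L hL
  obtain ⟨w, hw, hw0⟩ := isDivOf_unit (X := X)
  obtain ⟨f, hf, hfz⟩ := exists_ord_of_iso ι (hasFrames_of_invertible hL)
    (hasFrames_of_invertible InvX.isInvertible_structureModule) hv hw
  refine ⟨f, hf, fun z hz => ?_⟩
  rw [← hD z hz, hfz z hz, hw0 z hz]
  simp

theorem exists_ord_single_of_open_trivial (hX : Pi1.IsNormalScheme X)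
    (hP : ∀ (U : X.Opens) (L : (U : Scheme.{u}).Modules), PicF.IsInvertible L →
      Nonempty (L ≅ Coh.structureModule (U : Scheme.{u}))) (z₀ : X) :
    ∃ f : X.functionField, f ≠ 0 ∧ ∀ z : X, Order.coheight z = 1 → single z₀ z = Scheme.ord f z := by
  obtain ⟨F, hF, v, hv, hD⟩ := exists_ref1_of_orders hX (single z₀) (locFin_single z₀)
  let U : X.Opens := sSup {V : X.Opens | ∃ e : Γ(F, V), InvX.IsFrame e}
  have hinv : PicF.IsInvertible (F.restrict U.ι) := isInvertible_restrict_of_frames U fun y hy => by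
    obtain ⟨V, ⟨e, he⟩, hyV⟩ := Opens.mem_sSup.1 hy
    exact ⟨V, hyV, e, he⟩
  obtain ⟨φ⟩ := hP U _ hinv
  obtain ⟨e, he⟩ := exists_frame_of_iso φ
  have hmem : ∀ z : X, Order.coheight z ≤ 1 → z ∈ U := fun z hz => by
    obtain ⟨V, hzV, e', he'⟩ := hasFrames_of_isRef1 hX hF z hz
    exact Opens.mem_sSup.2 ⟨V, ⟨e', he'⟩, hzV⟩
  obtain ⟨f, hf, hfz⟩ := of_frame hv hD he (hmem _ (by rw [coheight_genericPoint]; exact zero_le))
  exact ⟨f, hf, fun z hz => hfz z (hmem z hz.le) hz⟩

theorem exists_global_of_ord_nonneg (hX : Pi1.IsNormalScheme X) {f : X.functionField} (hf : f ≠ 0)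
    (h : ∀ z : X, Order.coheight z = 1 → 0 ≤ Scheme.ord f z) :
    ∃ g : Γ(X, ⊤), X.presheaf.germ ⊤ (genericPoint X) trivial g = f := by
  have hfr : HasFrames (Coh.structureModule X) := hasFrames_of_invertible InvX.isInvertible_structureModule
  have he := InvX.isFrame_one (X := X) (⊤ : X.Opens)
  have hv : (show X.presheaf.stalk (genericPoint X) from f) •
      (Coh.structureModule X).presheaf.germ ⊤ (genericPoint X) trivial (show Γ(Coh.structureModule X, ⊤) from (1 : Γ(X, ⊤))) ≠ 0 := fun h0 => by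
    rcases smul_eq_zero_generic h0 with h1 | h1
    · exact hf h1
    · exact germ_frame_ne_zero he _ h1
  obtain ⟨t, ht⟩ := exists_section_of_mem_range hX isRef1_unit.1 isRef1_unit.2.1 (W := ⊤) trivial
    fun z _ hz1 => (secOrd_nonneg_iff hX hfr hz1 hv).1 (by
      rw [secOrd_frame he (x := z) trivial hz1 hf]; exact h z hz1)
  obtain ⟨r, hr⟩ := he.exists_coord le_rfl t
  refine ⟨r, (he.germ_bijective (x := genericPoint X) trivial).1 ?_⟩
  rw [AModX.res_self] at hr
  rw [hr, QCoh.germ_smul'] at ht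
  exact ht

theorem hasEquations_of_ord_single (hX : Pi1.IsNormalScheme X)
    (h : ∀ z₀ : X, Order.coheight z₀ = 1 →
      ∃ f : X.functionField, f ≠ 0 ∧ ∀ z : X, Order.coheight z = 1 → single z₀ z = Scheme.ord f z) :
    HasEquations X := by
  intro ζ hζ
  obtain ⟨f, hf, hfz⟩ := h ζ hζ
  have hs : ∀ z : X, 0 ≤ single ζ z := fun z => by rw [single]; split_ifs <;> omega
  obtain ⟨g, hg⟩ := exists_global_of_ord_nonneg hX hf fun z hz => hfz z hz ▸ hs z
  have hK : ∀ z : X, algebraMap (X.presheaf.stalk z) X.functionField (X.presheaf.germ ⊤ z trivial g) = f :=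
    fun z => by rw [algebraMap_germ]; exact hg
  have hne : ∀ z : X, X.presheaf.germ ⊤ z trivial g ≠ 0 := fun z h0 => hf (by rw [← hK z, h0, map_zero])
  refine ⟨g, fun x hx => ?_, fun x hx => ?_⟩
  · show (CDiv6.primeOf hx).asIdeal = _
    refine le_antisymm (fun a ha => ?_) ((Ideal.span_singleton_le_iff_mem _).2 ?_)
    · rcases eq_or_ne a 0 with rfl | ha0
      · exact zero_mem _
      have haK : algebraMap (X.presheaf.stalk x) X.functionField a ≠ 0 :=
        (map_ne_zero_iff _ (IsFractionRing.injective _ _)).2 ha0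
      obtain ⟨c, hc⟩ : CDiv6.Reg x (algebraMap (X.presheaf.stalk x) X.functionField a * f⁻¹) := by
        refine CDiv6.reg_of_forall_ord_nonneg hX (mul_ne_zero haK (inv_ne_zero hf)) fun z hz hz1 => ?_
        rw [Scheme.ord_mul haK (inv_ne_zero hf), ord_inv hf, ← hfz z hz1, single]
        have h0 : 0 ≤ Scheme.ord (algebraMap (X.presheaf.stalk x) X.functionField a) z :=
          CDiv6.ord_toK_nonneg hz ha0
        split_ifs with hzz
        · subst hzz
          have h1 : 1 ≤ Scheme.ord (algebraMap (X.presheaf.stalk x) X.functionField a) z :=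
            CDiv6.one_le_ord_toK hX hz hz1 ha0 ha
          omega
        · omega
      refine Ideal.mem_span_singleton'.2 ⟨c, IsFractionRing.injective (X.presheaf.stalk x) X.functionField ?_⟩
      rw [map_mul, hc, hK x]
      field_simp
    · by_contra hn
      have h1 : Scheme.ord (algebraMap (X.presheaf.stalk x) X.functionField (X.presheaf.germ ⊤ x trivial g)) ζ = 0 :=
        CDiv6.ord_toK_eq_zero hx (hne x) hn
      rw [hK x, ← hfz ζ hζ, single, if_pos rfl] at h1
      exact one_ne_zero h1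
  · obtain ⟨c, hc⟩ : CDiv6.Reg x f⁻¹ := by
      refine CDiv6.reg_of_forall_ord_nonneg hX (inv_ne_zero hf) fun z hz hz1 => ?_
      rw [ord_inv hf, ← hfz z hz1, single, if_neg fun e : z = ζ => hx (e ▸ hz)]
      simp
    refine IsUnit.of_mul_eq_one c (IsFractionRing.injective (X.presheaf.stalk x) X.functionField ?_)
    rw [map_mul, hc, hK x, map_one, mul_inv_cancel₀ hf]

omit [IsIntegral X] [IsLocallyNoetherian X] in
theorem hasEquations_restrict (h : HasEquations X) (U : X.Opens) : HasEquations (U : Scheme.{u}) := by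
  intro ζ hζ
  have hc : Order.coheight (U.ι ζ) = 1 := by
    have h1 : ringKrullDim (X.presheaf.stalk (U.ι ζ)) = ringKrullDim (U.toScheme.presheaf.stalk ζ) :=
      ringKrullDim_eq_of_ringEquiv (asIso (U.ι.stalkMap ζ)).commRingCatIsoToRingEquiv
    rw [ringKrullDim_stalk_eq_coheight, ringKrullDim_stalk_eq_coheight, hζ] at h1
    exact_mod_cast h1
  obtain ⟨g, hg, hu⟩ := h (U.ι ζ) hc
  refine ⟨U.ι.appTop g, fun x hx => ?_, fun x hx => ?_⟩
  · have hbij : Function.Bijective (U.ι.stalkMap x).hom := ConcreteCategory.bijective_of_isIso (U.ι.stalkMap x)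
    show (CDiv6.primeOf hx).asIdeal = _
    rw [← Ideal.map_comap_of_surjective _ hbij.2 (CDiv6.primeOf hx).asIdeal, StalkPrimes.comap_primeOf,
      show (CDiv6.primeOf (hx.map U.ι.continuous)).asIdeal = _ from hg (U.ι x) (hx.map U.ι.continuous),
      Ideal.map_span, Set.image_singleton]
    congr 2
    exact Scheme.Hom.germ_stalkMap_apply U.ι ⊤ x trivial g
  · have hx' : ¬ U.ι ζ ⤳ U.ι x := fun h' => hx (U.ι.isOpenEmbedding.isInducing.specializes_iff.1 h')
    have := (hu (U.ι x) hx').map (U.ι.stalkMap x).hom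
    rwa [show (U.ι.stalkMap x).hom (X.presheaf.germ ⊤ (U.ι x) trivial g) =
      U.toScheme.presheaf.germ ⊤ x trivial (U.ι.appTop g) from Scheme.Hom.germ_stalkMap_apply U.ι ⊤ x trivial g] at this

theorem open_picTrivial [CompactSpace X] (h : HasEquations X) (U : X.Opens) (L : (U : Scheme.{u}).Modules)
    (hL : PicF.IsInvertible L) : Nonempty (L ≅ Coh.structureModule (U : Scheme.{u})) := by
  rcases isEmpty_or_nonempty (U : Scheme.{u}) with hE | hN
  · have hsub : ∀ (M : (U : Scheme.{u}).Modules) (W : (U : Scheme.{u}).Opens), Subsingleton Γ(M, W) :=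
      fun M W => ⟨fun a b => AModX.eq_of_locally a b fun p _ => (hE.false p).elim⟩
    haveI : IsIso (0 : L ⟶ Coh.structureModule (U : Scheme.{u})) :=
      Scheme.Modules.Hom.isIso_iff_isIso_app.2 fun W => (ConcreteCategory.isIso_iff_bijective _).2
        ⟨fun a b _ => (hsub L W).elim a b, fun b => ⟨0, (hsub _ W).elim _ b⟩⟩
    exact ⟨asIso (0 : L ⟶ Coh.structureModule (U : Scheme.{u}))⟩
  haveI : IsIntegral (U : Scheme.{u}) := isIntegral_of_isOpenImmersion U.ι
  haveI : IsLocallyNoetherian (U : Scheme.{u}) := isLocallyNoetherian_of_isOpenImmersion U.ι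
  haveI : CompactSpace (U : Scheme.{u}) := by
    haveI : NoetherianSpace X := by
      haveI : IsNoetherian X := ⟨⟩
      infer_instance
    exact isCompact_iff_compactSpace.1 (NoetherianSpace.isCompact (U : Set X))
  exact picTrivial_of_hasEquations (hasEquations_restrict h U) L hL

end Groth.Agent.H23.PrincipalGlobal
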