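import Groth.Agent.H23.FinTrace

/-!
Rank-two algebras and their traces.
-/

universe u

open CategoryTheory CategoryTheory.Limits AlgebraicGeometry TopologicalSpace Opposite

namespace Groth.Agent.H23.DblAlg

variable {X : Scheme.{u}}

open FinTrace

theorem trGlue_small {A : RelSpec.QCAlg X} (hA : FlatMod.IsFinLocFree A.toModule) {V : X.Opens} (hV : Small A V)
    (a : A.presheaf.obj (op V)) : trGlue hA V a = trW A V a := by
  have h := trGlue_spec hA V a V le_rfl hV
  have e1 : X.presheaf.map (homOfLE (le_refl V)).op = 𝟙 _ := X.presheaf.map_id _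
  have e2 : A.presheaf.map (homOfLE (le_refl V)).op = 𝟙 _ := A.presheaf.map_id _
  rw [e1, e2] at h
  exact h

theorem isFinLocFree_of_rank {M : X.Modules} {d : ℕ} (h : FlatMod.IsFinLocFreeOfRank d M) :
    FlatMod.IsFinLocFree M := fun x =>
  let ⟨U, hx, he⟩ := h x
  ⟨U, d, hx, he⟩

theorem strMod_comp_trace {A : RelSpec.QCAlg X} {d : ℕ} (hA : FlatMod.IsFinLocFreeOfRank d A.toModule)
    {τ : A.toModule ⟶ Coh.structureModule X} (hτ : FinCov.IsTrace A τ) :
    FinCov.strMod A ≫ τ = d • 𝟙 (Coh.structureModule X) := by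
  have hA' := isFinLocFree_of_rank hA
  rw [isTrace_app hτ hA']
  choose U hU e using hA
  choose s hs using fun x => Frame.exists_frame (e x).some
  refine Scheme.Modules.hom_ext _ _ fun W => ?_
  ext r
  have hrhs : (d • 𝟙 (Coh.structureModule X)).app W r = d • r :=
    map_nsmul ({ toFun := fun φ => φ.app W r, map_zero' := rfl, map_add' := fun _ _ => rfl } :
      (Coh.structureModule X ⟶ Coh.structureModule X) →+ Γ(Coh.structureModule X, W)) d (𝟙 _)
  refine Eq.trans ?_ hrhs.symm
  show trGlue hA' W ((A.str.app (op W)).hom (show Γ(X, W) from r)) = d • (show Γ(X, W) from r)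
  refine X.sheaf.eq_of_locally_eq' (fun x : X => U x ⊓ W) W (fun x => homOfLE inf_le_right)
    (fun x hx => Opens.mem_iSup.mpr ⟨x, hU x, hx⟩) _ _ fun x => ?_
  show X.presheaf.map (homOfLE inf_le_right).op _ = X.presheaf.map (homOfLE inf_le_right).op _
  rw [map_nsmul, ← trGlue_res, str_res, trGlue_small hA' ⟨d, U x, s x, hs x, inf_le_left⟩]
  exact trW_algebraMap A (hs x) inf_le_left _

/-- The free module of rank one. -/
noncomputable def freeOneIso (X : Scheme.{u}) : FlatMod.freeMod X 1 ≅ Coh.structureModule X :=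
  coproductUniqueIso fun _ : Fin 1 => Coh.structureModule X

theorem exists_gen {L : X.Modules} (hL : PicF.IsInvertible L) (x : X) :
    ∃ (U : X.Opens) (l : L.val.obj (op U)), x ∈ U ∧ Frame.IsFrame L (U := U) fun _ : Fin 1 => l := by
  obtain ⟨U, hx, ⟨e⟩⟩ := hL x
  obtain ⟨s, hs⟩ := Frame.exists_frame (e ≪≫ (freeOneIso _).symm)
  refine ⟨U, s 0, hx, ?_⟩
  rwa [show (fun _ : Fin 1 => s 0) = s from funext fun i => by rw [Subsingleton.elim i 0]]

section

variable {L : X.Modules} {m : CohB1.tensorMod L L ⟶ Coh.structureModule X} {A : RelSpec.QCAlg X}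
  {j : L ⟶ A.toModule} (h : FinCov.IsDblAlg L m A j)

/-- `j` on sections, into the ring. -/
noncomputable def jS (j : L ⟶ A.toModule) (U : X.Opens) (l : L.val.obj (op U)) : A.presheaf.obj (op U) :=
  FinCov.toSec A ((j.val.app (op U)).hom l)

theorem jS_res {U W : X.Opens} (hW : W ≤ U) (l : L.val.obj (op U)) :
    A.presheaf.map (homOfLE hW).op (jS j U l) = jS j W (L.presheaf.map (homOfLE hW).op l) :=
  (PresheafOfModules.naturality_apply j.val (homOfLE hW).op l).symm

theorem jS_smul (W : X.Opens) (r : Γ(X, W)) (l : Γ(L, W)) :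
    jS j W (r • l : Γ(L, W)) = (A.str.app (op W)).hom r * jS j W l :=
  Scheme.Modules.Hom.app_smul j r l

include h in
theorem frame_pair {U : X.Opens} {l : L.val.obj (op U)}
    (hl : Frame.IsFrame L (U := U) fun _ : Fin 1 => l) :
    IsFrameA A (n := 2) ![1, jS j U l] := by
  intro W hW
  let l' : Γ(L, W) := L.presheaf.map (homOfLE hW).op l
  have e : combA A ![1, jS j U l] W hW = (fun p : Γ(X, W) × L.val.obj (op W) =>
      (A.str.app (op W)).hom p.1 + FinCov.toSec A ((j.val.app (op W)).hom p.2)) ∘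
        (fun c : Fin 2 → Γ(X, W) => (c 0, (Frame.comb L (fun _ : Fin 1 => l) W hW fun _ => c 1))) := by
    funext c
    simp only [Function.comp, combA, Fin.sum_univ_two, Matrix.cons_val_zero, Matrix.cons_val_one, map_one, mul_one,
      Frame.comb, Fin.sum_univ_one]
    rw [jS_res]
    exact congrArg _ (jS_smul W (c 1) l').symm
  rw [e]
  refine (h.1 W).comp ⟨fun c d hcd => ?_, fun p => ?_⟩
  · obtain ⟨h0, h1⟩ := Prod.mk.inj hcd
    have h1' := congrFun ((hl W hW).1 h1) 0
    funext i
    fin_cases i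
    · exact h0
    · exact h1'
  · obtain ⟨c, hc⟩ := (hl W hW).2 p.2
    refine ⟨![p.1, c 0], Prod.ext rfl ?_⟩
    refine Eq.trans ?_ hc
    exact congrArg (Frame.comb L (fun _ : Fin 1 => l) W hW) (funext fun i => by rw [Subsingleton.elim i 0]; try rfl)

include h in
theorem isFinLocFreeOfRank_two (hL : PicF.IsInvertible L) : FlatMod.IsFinLocFreeOfRank 2 A.toModule := by
  intro x
  obtain ⟨U, l, hx, hl⟩ := exists_gen hL x
  exact ⟨U, hx, Frame.exists_iso_of_frame (M := A.toModule) _ (frame_pair h hl)⟩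

include h in
theorem trW_j {U : X.Opens} {l : L.val.obj (op U)} (hl : Frame.IsFrame L (U := U) fun _ : Fin 1 => l)
    {W : X.Opens} (hW : W ≤ U) (l' : L.val.obj (op W)) : trW A W (jS j W l') = 0 := by
  letI := alg A W
  let b := basisA A (frame_pair h hl) W hW
  let g : L.val.obj (op W) := L.presheaf.map (homOfLE hW).op l
  obtain ⟨c, hc⟩ := (hl W hW).2 l'
  have hl' : jS j W l' = (A.str.app (op W)).hom (c 0) * jS j W g := by
    rw [← hc, Frame.comb, Fin.sum_univ_one]; exact jS_smul W (c 0) g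
  have hb0 : b 0 = 1 := by
    show basisA A (frame_pair h hl) W hW 0 = 1
    rw [basisA_apply]; simp
  have hb1 : b 1 = jS j W g := by
    show basisA A (frame_pair h hl) W hW 1 = _
    rw [basisA_apply]; exact jS_res hW l
  have e0 : jS j W l' * b 0 = c 0 • b 1 := by rw [hb0, hb1, mul_one, hl']; rfl
  have e1 : jS j W l' * b 1 = (c 0 * (show Γ(X, W) from (m.val.app (op W)).hom (SecTwist.tmul L L W g g))) • b 0 := by
    rw [hb0, hb1, hl', mul_assoc]
    refine (congrArg ((A.str.app (op W)).hom (c 0) * ·) (h.2 W g g)).trans ?_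
    exact ((map_mul (A.str.app (op W)).hom _ _).symm).trans (mul_one _).symm
  unfold trW
  rw [Algebra.trace_eq_matrix_trace b]
  simp [Matrix.trace, Fin.sum_univ_two, Algebra.leftMulMatrix_eq_repr_mul, e0, e1]

include h in
theorem trace_eq_zero_iff (hL : PicF.IsInvertible L) (h2 : IsUnit (2 : Γ(X, ⊤)))
    {τ : A.toModule ⟶ Coh.structureModule X} (hτ : FinCov.IsTrace A τ) (U : X.Opens)
    (a : A.toModule.val.obj (op U)) :
    (τ.val.app (op U)).hom a = 0 ↔ a ∈ Set.range (j.val.app (op U)).hom := by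
  have hA := isFinLocFree_of_rank (isFinLocFreeOfRank_two h hL)
  rw [isTrace_app hτ hA]
  choose V l hV hl using exists_gen hL
  have hS : ∀ x, Small A (V x ⊓ U) := fun x => ⟨2, V x, _, frame_pair h (hl x), inf_le_left⟩
  have hj : ∀ l' : L.val.obj (op U), trGlue hA U (jS j U l') = 0 := fun l' => by
    refine X.sheaf.eq_of_locally_eq' (fun x : X => V x ⊓ U) U (fun x => homOfLE inf_le_right)
      (fun x hx => Opens.mem_iSup.mpr ⟨x, hV x, hx⟩) _ _ fun x => ?_
    show X.presheaf.map (homOfLE inf_le_right).op _ = X.presheaf.map (homOfLE inf_le_right).op _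
    rw [map_zero, ← trGlue_res, jS_res, trGlue_small hA (hS x)]
    exact trW_j h (hl x) inf_le_left _
  have h2U : IsUnit (2 : Γ(X, U)) := by
    have := h2.map (X.presheaf.map (homOfLE (le_top : U ≤ ⊤)).op).hom
    rwa [map_ofNat] at this
  obtain ⟨⟨r, l'⟩, hp⟩ := (h.1 U).2 a
  have hr : trGlue hA U ((A.str.app (op U)).hom r) = 2 • r := by
    refine X.sheaf.eq_of_locally_eq' (fun x : X => V x ⊓ U) U (fun x => homOfLE inf_le_right)
      (fun x hx => Opens.mem_iSup.mpr ⟨x, hV x, hx⟩) _ _ fun x => ?_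
    show X.presheaf.map (homOfLE inf_le_right).op _ = X.presheaf.map (homOfLE inf_le_right).op _
    rw [map_nsmul, ← trGlue_res, str_res, trGlue_small hA (hS x)]
    exact trW_algebraMap A (frame_pair h (hl x)) inf_le_left _
  show trGlue hA U a = 0 ↔ _
  constructor
  · intro h0
    have hp' : (A.str.app (op U)).hom r + jS j U l' = FinCov.toSec A a := hp
    have : 2 • r = 0 := by
      have e := trGlue_add hA U ((A.str.app (op U)).hom r) (jS j U l')
      rw [hp', hj, add_zero, hr] at e
      exact e.symm.trans h0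
    rw [nsmul_eq_mul, Nat.cast_ofNat] at this
    rw [h2U.mul_right_eq_zero] at this
    refine ⟨l', ?_⟩
    rw [this, map_zero, zero_add] at hp'
    exact hp'
  · rintro ⟨l'', rfl⟩
    exact hj l''

end

end Groth.Agent.H23.DblAlg
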