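import Groth.Agent.FlatCxLib.Reduced
import Mathlib.RingTheory.Filtration
import Mathlib.RingTheory.Nakayama
import Mathlib.LinearAlgebra.Dual.Lemmas
import Mathlib.Algebra.Module.Projective

/-!
Forms on a finite module which do not vanish at a prime.
-/

universe u

open TensorProduct

namespace Groth.Agent.H23.SeesawMod

variable {A : Type u} [CommRing A] {Q : Type u} [AddCommGroup Q] [Module A Q] [Module.Finite A Q]
  (p : Ideal A) [p.IsPrime]

/-- The forms with values in a field, seen on the fibre. -/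
noncomputable def dualEquiv (K : Type u) [Field K] [Algebra A K] :
    (Q →ₗ[A] K) ≃ₗ[K] Module.Dual K (K ⊗[A] Q) :=
  LinearMap.liftBaseChangeEquiv K

/-- If the forms with values in the residue field form a line, the fibre is a line. -/
theorem fibreRank_eq_one (x : PrimeSpectrum A)
    (h0 : ∃ g : Q →ₗ[A] x.asIdeal.ResidueField, g ≠ 0)
    (h1 : ∀ g g' : Q →ₗ[A] x.asIdeal.ResidueField, g ≠ 0 → ∃ c : x.asIdeal.ResidueField, g' = c • g) :
    FlatCxLib.fibreRank Q x = 1 := by
  let k := x.asIdeal.ResidueField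
  obtain ⟨g, hg⟩ := h0
  have h : Module.finrank k (Q →ₗ[A] k) = 1 :=
    finrank_eq_one g hg fun w => (h1 g w hg).imp fun c hc => hc.symm
  rw [(dualEquiv k).finrank_eq, Subspace.dual_finrank_eq] at h
  exact h

/-- A finite module with a line as fibre is cyclic near the prime. -/
theorem exists_generator (x : PrimeSpectrum A) (h : FlatCxLib.fibreRank Q x = 1) :
    ∃ q₀ : Q, ∃ c ∉ x.asIdeal, ∀ q : Q, ∃ a : A, c • q = a • q₀ := by
  classical
  obtain ⟨s, hs1, hs2⟩ := FlatCxLib.exists_generators_near Q x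
  obtain ⟨q₀, hq₀⟩ : ∃ q₀ : Q, (s : Set Q) ⊆ {q₀} := by
    rcases s.eq_empty_or_nonempty with rfl | ⟨q, hq⟩
    · exact ⟨0, by simp⟩
    · exact ⟨q, fun r hr => Set.mem_singleton_iff.2 (Finset.card_le_one.1 (hs1.trans h.le) r hr q hq)⟩
  have hle : Submodule.span A (s : Set Q) ≤ Submodule.span A {q₀} := Submodule.span_mono hq₀
  have hs3 : ¬ Module.annihilator A (Q ⧸ Submodule.span A (s : Set Q)) ≤ x.asIdeal := fun hc =>
    hs2 (Module.mem_support_iff_of_finite.2 hc)
  obtain ⟨c, hc, hcx⟩ := SetLike.not_le_iff_exists.1 hs3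
  refine ⟨q₀, c, hcx, fun q => ?_⟩
  have h1 : c • (Submodule.Quotient.mk q : Q ⧸ Submodule.span A (s : Set Q)) = 0 :=
    Module.mem_annihilator.1 hc _
  rw [← Submodule.Quotient.mk_smul, Submodule.Quotient.mk_eq_zero] at h1
  obtain ⟨a, ha⟩ := Submodule.mem_span_singleton.1 (hle h1)
  exact ⟨a, ha.symm⟩

/-- The thickenings of a prime. -/
abbrev Thick (n : ℕ) : Type u :=
  Localization.AtPrime p ⧸ IsLocalRing.maximalIdeal (Localization.AtPrime p) ^ n

theorem isUnit_thick {n : ℕ} {c : A} (hc : c ∉ p) : IsUnit (algebraMap A (Thick p n) c) := by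
  rw [IsScalarTower.algebraMap_apply A (Localization.AtPrime p) (Thick p n)]
  exact (IsLocalization.map_units (Localization.AtPrime p) (⟨c, hc⟩ : p.primeCompl)).map _

/-- Forms without annihilator on all thickenings give a form on `Q` not vanishing at the prime. -/
theorem exists_form [IsNoetherianRing A] (x : PrimeSpectrum A)
    (h0 : ∃ g : Q →ₗ[A] x.asIdeal.ResidueField, g ≠ 0)
    (h1 : ∀ g g' : Q →ₗ[A] x.asIdeal.ResidueField, g ≠ 0 → ∃ c : x.asIdeal.ResidueField, g' = c • g)
    (hn : ∀ n : ℕ, ∃ g : Q →ₗ[A] Thick x.asIdeal n, ∀ b : Thick x.asIdeal n, b • g = 0 → b = 0) :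
    ∃ f : Q →ₗ[A] A, Algebra.linearMap A x.asIdeal.ResidueField ∘ₗ f ≠ 0 := by
  obtain ⟨q₀, c, hc, hq⟩ := exists_generator x (fibreRank_eq_one x h0 h1)
  let p := x.asIdeal
  let J : Ideal A := LinearMap.ker (LinearMap.toSpanSingleton A Q q₀)
  have hJ : ∀ a ∈ J, algebraMap A (Localization.AtPrime p) a = 0 := by
    intro a ha
    rw [← Submodule.mem_bot (Localization.AtPrime p), ← Ideal.iInf_pow_eq_bot_of_isLocalRing _
      (IsLocalRing.maximalIdeal.isMaximal (Localization.AtPrime p)).ne_top, Submodule.mem_iInf]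
    intro n
    obtain ⟨g, hg⟩ := hn n
    rw [← Ideal.Quotient.eq_zero_iff_mem]
    show algebraMap A (Thick p n) a = 0
    have h2 : algebraMap A (Thick p n) (c * a) = 0 := by
      refine hg _ (LinearMap.ext fun q => ?_)
      obtain ⟨b, hb⟩ := hq q
      rw [LinearMap.smul_apply, smul_eq_mul, ← Algebra.smul_def, mul_comm, mul_smul, ← g.map_smul, ← g.map_smul,
        LinearMap.zero_apply, hb, smul_smul, mul_comm, ← smul_smul,
        show a • q₀ = 0 from LinearMap.mem_ker.1 ha, smul_zero, map_zero]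
    rw [map_mul] at h2
    exact (isUnit_thick p hc).mul_right_eq_zero.1 h2
  classical
  obtain ⟨d, hd, hdJ⟩ : ∃ d ∉ p, ∀ a ∈ J, d * a = 0 := by
    obtain ⟨S, hS⟩ := (IsNoetherian.noetherian J : J.FG)
    have hS' : ∀ a ∈ S, ∃ d : p.primeCompl, (d : A) * a = 0 := fun a ha =>
      (IsLocalization.map_eq_zero_iff p.primeCompl _ a).1 (hJ a (hS ▸ Submodule.subset_span ha))
    choose d hd using hS'
    refine ⟨∏ a ∈ S.attach, (d a.1 a.2 : A), fun hp => ?_, fun a ha => ?_⟩
    · obtain ⟨b, -, hb⟩ := Ideal.IsPrime.prod_mem_iff.1 hp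
      exact (d b.1 b.2).2 hb
    · rw [← hS] at ha
      induction ha using Submodule.span_induction with
      | mem b hb =>
        rw [← Finset.mul_prod_erase _ _ (Finset.mem_attach S ⟨b, hb⟩)]
        rw [mul_right_comm, hd, zero_mul]
      | zero => exact mul_zero _
      | add u v _ _ hu hv => rw [mul_add, hu, hv, add_zero]
      | smul r u _ hu => rw [smul_eq_mul, mul_left_comm, hu, mul_zero]
  choose φ hφ using hq
  have hcongr : ∀ a a' : A, a • q₀ = a' • q₀ → d * a = d * a' := fun a a' h => by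
    have := hdJ (a - a') (LinearMap.mem_ker.2 (by simp [sub_smul, h]))
    linear_combination this
  let f : Q →ₗ[A] A :=
    { toFun := fun q => d * φ q
      map_add' := fun q q' => by
        rw [← mul_add]
        exact hcongr _ _ (by rw [← hφ, add_smul, ← hφ, ← hφ, smul_add])
      map_smul' := fun r q => by
        rw [smul_eq_mul, RingHom.id_apply, mul_left_comm]
        exact hcongr _ _ (by rw [← hφ, mul_smul, ← hφ, smul_comm]) }
  refine ⟨f, fun hf => ?_⟩
  have h2 : d * φ q₀ = d * c := hcongr _ _ (hφ q₀).symm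
  have h3 := LinearMap.congr_fun hf q₀
  simp only [LinearMap.comp_apply, Algebra.linearMap_apply, LinearMap.zero_apply,
    Ideal.algebraMap_residueField_eq_zero] at h3
  rw [show f q₀ = d * c from h2] at h3
  rcases (Ideal.IsPrime.mem_or_mem inferInstance h3) with h4 | h4
  · exact hd h4
  · exact hc h4

omit [Module.Finite A Q] in
/-- A nonzero form on a finite projective module comes from a form with values in the ring. -/
theorem exists_form_of_projective [Module.Projective A Q] {g : Q →ₗ[A] p.ResidueField} (hg : g ≠ 0) :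
    ∃ f : Q →ₗ[A] A, Algebra.linearMap A p.ResidueField ∘ₗ f ≠ 0 := by
  by_contra H
  push Not at H
  refine hg (LinearMap.ext fun q => ?_)
  obtain ⟨s, hs⟩ := Module.projective_def'.1 (inferInstance : Module.Projective A Q)
  have hz : ∀ r : Q, algebraMap A p.ResidueField (s q r) = 0 := fun r => by
    exact LinearMap.congr_fun (H (Finsupp.lapply r ∘ₗ s)) q
  have h := congrArg g (LinearMap.congr_fun hs q)
  simp only [LinearMap.comp_apply, LinearMap.id_apply, Finsupp.linearCombination_apply, Finsupp.sum,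
    map_sum, map_smul] at h
  rw [LinearMap.zero_apply, ← h]
  refine Finset.sum_eq_zero fun r _ => ?_
  rw [id, Algebra.smul_def, hz r, zero_mul]

end Groth.Agent.H23.SeesawMod
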