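import Groth.Agent.H23.SecRep
import Groth.Agent.H23.SeesawMod
import Groth.Agent.H23.TrivBasic
import Groth.Agent.H23.Rigid
import Groth.Agent.Lib.CurveDeg

/-!
The seesaw arguments over an affine base.
-/

universe u

open CategoryTheory CategoryTheory.Limits AlgebraicGeometry TopologicalSpace Opposite

namespace Groth.Agent.H23.Seesaw

open Groth.Agent.InvX TrivBasic

/-- An invertible module is flat over the base of a flat morphism. -/
theorem isFlatOver_of_isInvertible {X S : Scheme.{u}} (f : X ⟶ S) [Flat f] {L : X.Modules}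
    (hL : PicF.IsInvertible L) : FlatMod.IsFlatOver f L := fun x => by
  obtain ⟨U, hx, e, he⟩ := InvX.exists_frame hL x
  show FlatMod.IsFlatOverAt f L x
  unfold FlatMod.IsFlatOverAt
  letI := FlatMod.moduleStalkOver f L x
  letI : Algebra (S.presheaf.stalk (f.base x)) (X.presheaf.stalk x) := (f.stalkMap x).hom.toAlgebra
  haveI : IsScalarTower (S.presheaf.stalk (f.base x)) (X.presheaf.stalk x) (L.presheaf.stalk x) :=
    IsScalarTower.of_algebraMap_smul fun _ _ => rfl
  haveI : Module.Flat (S.presheaf.stalk (f.base x)) (X.presheaf.stalk x) := Flat.stalkMap f x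
  let e' : X.presheaf.stalk x ≃ₗ[X.presheaf.stalk x] L.presheaf.stalk x :=
    LinearEquiv.ofBijective
      (LinearMap.toSpanSingleton (X.presheaf.stalk x) (L.presheaf.stalk x) ((L.presheaf.germ U x hx).hom e))
      (he.germ_bijective hx)
  exact Module.Flat.of_linearEquiv (e'.restrictScalars (S.presheaf.stalk (f.base x))).symm

variable {A : Type u} [CommRing A] {X : Scheme.{u}} [X.Over (Spec (CommRingCat.of A))]

local notation "π" => (X ↘ Spec (CommRingCat.of A))

/-- The map to the spectrum of a ring induced by an algebra. -/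
noncomputable abbrev specAlg (A : Type u) (B : Type u) [CommRing A] [CommRing B] [Algebra A B] :
    Spec (CommRingCat.of B) ⟶ Spec (CommRingCat.of A) := Spec.map (CommRingCat.ofHom (algebraMap A B))

variable (A) in
/-- The fibre over a prime. -/
noncomputable abbrev fibreOf (X : Scheme.{u}) [X.Over (Spec (CommRingCat.of A))] (x : PrimeSpectrum A) : Scheme.{u} :=
  pullback (X ↘ Spec (CommRingCat.of A)) (specAlg A x.asIdeal.ResidueField)

/-- The restriction to the fibre over a prime is trivial. -/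
def FibreTriv (L : X.Modules) (x : PrimeSpectrum A) : Prop :=
  Triv ((Scheme.Modules.pullback (pullback.fst π (specAlg A x.asIdeal.ResidueField))).obj L)

/-- The global functions of the fibre over a prime are the constants. -/
def FibreH0 (X : Scheme.{u}) [X.Over (Spec (CommRingCat.of A))] (x : PrimeSpectrum A) : Prop :=
  Function.Bijective (pullback.snd (X ↘ Spec (CommRingCat.of A)) (specAlg A x.asIdeal.ResidueField)).appTop

theorem toGlobal_bijective {K : Type u} [CommRing K] {V : Scheme.{u}} (v : V ⟶ Spec (CommRingCat.of K))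
    (hv : Function.Bijective v.appTop) : Function.Bijective (Coh.toGlobal v) :=
  hv.comp (ConcreteCategory.bijective_of_isIso (Scheme.ΓSpecIso (CommRingCat.of K)).inv)

theorem isField_Γ {K : Type u} [Field K] {V : Scheme.{u}} (v : V ⟶ Spec (CommRingCat.of K))
    (hv : Function.Bijective v.appTop) : IsField Γ(V, ⊤) :=
  MulEquiv.isField (Field.toIsField K)
    (RingEquiv.ofBijective (Coh.toGlobal v : K →+* Γ(V, ⊤)) (toGlobal_bijective v hv)).symm.toMulEquiv

theorem range_specAlg (x : PrimeSpectrum A) (z : ↥(Spec (CommRingCat.of x.asIdeal.ResidueField))) :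
    (specAlg A x.asIdeal.ResidueField) z = x := by
  refine PrimeSpectrum.ext ?_
  have hz : z.asIdeal = ⊥ := Ideal.eq_bot_of_prime z.asIdeal
  show Ideal.comap (algebraMap A x.asIdeal.ResidueField) z.asIdeal = x.asIdeal
  rw [hz]
  ext a
  rw [Ideal.mem_comap, Submodule.mem_bot, Ideal.algebraMap_residueField_eq_zero]

/-- The points of the fibre over a prime. -/
theorem exists_fibre_point (x : PrimeSpectrum A) (y : X) (hy : π y = x) :
    ∃ z, (pullback.fst π (specAlg A x.asIdeal.ResidueField)) z = y := by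
  haveI : Nonempty ↥(Spec (CommRingCat.of x.asIdeal.ResidueField)) :=
    inferInstanceAs (Nonempty (PrimeSpectrum x.asIdeal.ResidueField))
  obtain ⟨s⟩ : Nonempty ↥(Spec (CommRingCat.of x.asIdeal.ResidueField)) := inferInstance
  obtain ⟨z, hz, -⟩ := Scheme.Pullback.exists_preimage_pullback (f := π)
    (g := specAlg A x.asIdeal.ResidueField) y s (hy.trans (range_specAlg x s).symm)
  exact ⟨z, hz⟩

section Noeth

variable [IsNoetherianRing A] [IsProper (X ↘ Spec (CommRingCat.of A))] [Flat (X ↘ Spec (CommRingCat.of A))]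

theorem exists_rep (L : X.Modules) (hL : PicF.IsInvertible L) :
    ∃ (Q : ModuleCat.{u} A) (_ : Module.Finite A Q) (e : (Q →ₗ[A] A) ≃+ Γ(L, ⊤)), SecRep.IsRep L Q e := by
  haveI : IsLocallyNoetherian X := LocallyOfFiniteType.isLocallyNoetherian π
  exact SecRep.exists_rep L (CurveDeg.isCoh_of_isInvertible hL) (isFlatOver_of_isInvertible π hL)

variable {L : X.Modules} {Q : ModuleCat.{u} A} {e : (Q →ₗ[A] A) ≃+ Γ(L, ⊤)}

/-- The forms with values in the residue field on a trivial fibre form a line. -/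
theorem line_of_fibreTriv (hQ : SecRep.IsRep L Q e) (x : PrimeSpectrum A) (h0 : FibreH0 X x)
    (hT : FibreTriv L x) :
    (∃ g : Q →ₗ[A] x.asIdeal.ResidueField, g ≠ 0) ∧
      ∀ g g' : Q →ₗ[A] x.asIdeal.ResidueField, g ≠ 0 → ∃ c : x.asIdeal.ResidueField, g' = c • g := by
  obtain ⟨eB, he1, -⟩ := hQ x.asIdeal.ResidueField _ _ _ (IsPullback.of_hasPullback π _)
  have hF := isField_Γ _ h0
  haveI := hF.toField.toNontrivial
  constructor
  · obtain ⟨s, hs⟩ := hT.exists_frame
    refine ⟨eB.symm s, fun h => ?_⟩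
    have hs0 : s = 0 := by rw [← eB.apply_symm_apply s, h, map_zero]
    exact zero_ne_one (hs.coord_unique le_rfl (r := 0) (r' := 1) (by simp [hs0]))
  · intro g g' hg
    have hf := TrivBasic.isFrame_of_ne_zero hT hF (s := eB g) fun h => hg (eB.injective (h.trans (map_zero eB).symm))
    obtain ⟨r, hr⟩ := hf.exists_coord le_rfl (eB g')
    obtain ⟨c, hc⟩ := (toGlobal_bijective _ h0).2 r
    refine ⟨c, eB.injective ?_⟩
    rw [hr, AModX.res_self, ← hc]
    exact (he1 c g).symm

/-- A form not vanishing at a prime gives a frame near a trivial fibre. -/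
theorem exists_frame_of_form (hL : PicF.IsInvertible L) (hQ : SecRep.IsRep L Q e) (x : PrimeSpectrum A)
    (h0 : FibreH0 X x) (hT : FibreTriv L x) (f : Q →ₗ[A] A)
    (hf : Algebra.linearMap A x.asIdeal.ResidueField ∘ₗ f ≠ 0) :
    ∃ U : (Spec (CommRingCat.of A)).Opens, x ∈ U ∧
      IsFrame (AModX.res L (le_top : π ⁻¹ᵁ U ≤ ⊤) (e f)) := by
  obtain ⟨eB, -, he2⟩ := hQ x.asIdeal.ResidueField _ _ _ (IsPullback.of_hasPullback π _)
  have hfr : IsFrame (show Γ((Scheme.Modules.pullback (pullback.fst π (specAlg A x.asIdeal.ResidueField))).obj L, ⊤)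
      from pullElt (pullback.fst π (specAlg A x.asIdeal.ResidueField)) (e f)) :=
    TrivBasic.isFrame_of_ne_zero hT (isField_Γ _ h0) fun h => hf (eB.injective (((he2 f).trans h).trans (map_zero eB).symm))
  let C : Set ↥(Spec (CommRingCat.of A)) := π '' ((locus (e f) : Set X)ᶜ)
  have hC : IsClosed C := (Scheme.Hom.isClosedMap π) _ (locus (e f)).isOpen.isClosed_compl
  refine ⟨⟨Cᶜ, hC.isOpen_compl⟩, fun hx => ?_, isFrame_res_of_le_locus fun y hy => ?_⟩
  · obtain ⟨y, hy, hyx⟩ := hx
    obtain ⟨z, hz⟩ := exists_fibre_point x y hyx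
    exact hy (hz ▸ mem_locus_of_pullElt hL _ _ hfr z)
  · by_contra hy'
    exact hy ⟨y, hy', rfl⟩

/-- The thickenings of the fibre over a prime are trivial, with no new torsion. -/
def ThickTriv (L : X.Modules) (x : PrimeSpectrum A) : Prop :=
  ∀ n : ℕ, Triv ((Scheme.Modules.pullback
      (pullback.fst π (specAlg A (SeesawMod.Thick x.asIdeal n)))).obj L) ∧
    Function.Injective (pullback.snd π (specAlg A (SeesawMod.Thick x.asIdeal n))).appTop

/-- A module trivial on all thickenings of a fibre is trivial near the fibre. -/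
theorem exists_frame_of_thick (hL : PicF.IsInvertible L) (x : PrimeSpectrum A) (h0 : FibreH0 X x)
    (hT : FibreTriv L x) (hn : ThickTriv L x) :
    ∃ U : (Spec (CommRingCat.of A)).Opens, x ∈ U ∧ ∃ s : Γ(L, π ⁻¹ᵁ U), IsFrame s := by
  obtain ⟨Q, _, e, hQ⟩ := exists_rep (A := A) L hL
  obtain ⟨h1, h2⟩ := line_of_fibreTriv hQ x h0 hT
  obtain ⟨f, hf⟩ := SeesawMod.exists_form x h1 h2 fun n => by
    obtain ⟨eB, he1, -⟩ := hQ (SeesawMod.Thick x.asIdeal n) _ _ _ (IsPullback.of_hasPullback π _)
    obtain ⟨hTn, hinj⟩ := hn n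
    obtain ⟨s, hs⟩ := hTn.exists_frame
    refine ⟨eB.symm s, fun b hb => ?_⟩
    have hinj' : Function.Injective
        (Coh.toGlobal (pullback.snd π (specAlg A (SeesawMod.Thick x.asIdeal n)))) :=
      hinj.comp (ConcreteCategory.bijective_of_isIso (Scheme.ΓSpecIso _).inv).1
    refine hinj' (((hs.coord_unique le_rfl (r' := 0) ?_)).trans (map_zero _).symm)
    rw [AModX.res_self, zero_smul]
    refine ((congrArg (_ • ·) (eB.apply_symm_apply s).symm).trans (he1 b _).symm).trans ?_
    exact (congrArg eB hb).trans (map_zero eB)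
  obtain ⟨U, hx, hU⟩ := exists_frame_of_form hL hQ x h0 hT f hf
  exact ⟨U, hx, _, hU⟩

/-- Over a reduced base, a module trivial on all fibres is trivial near each of them. -/
theorem exists_frame_of_isReduced [IsReduced A] (hL : PicF.IsInvertible L)
    (h0 : ∀ x : PrimeSpectrum A, FibreH0 X x) (hT : ∀ x : PrimeSpectrum A, FibreTriv L x)
    (x : PrimeSpectrum A) :
    ∃ U : (Spec (CommRingCat.of A)).Opens, x ∈ U ∧ ∃ s : Γ(L, π ⁻¹ᵁ U), IsFrame s := by
  obtain ⟨Q, _, e, hQ⟩ := exists_rep (A := A) L hL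
  have hrk : ∀ y : PrimeSpectrum A, FlatCxLib.fibreRank Q y = 1 := fun y =>
    SeesawMod.fibreRank_eq_one y (line_of_fibreTriv hQ y (h0 y) (hT y)).1
      (line_of_fibreTriv hQ y (h0 y) (hT y)).2
  haveI : Module.Flat A Q := FlatCxLib.flat_of_isLocallyConstant_fibreRank Q (by
    rw [show FlatCxLib.fibreRank (A := A) Q = fun _ => 1 from funext hrk]
    exact IsLocallyConstant.const 1)
  haveI : Module.FinitePresentation A Q := Module.finitePresentation_of_finite A Q
  haveI : Module.Projective A Q := Module.Flat.projective_of_finitePresentation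
  obtain ⟨g, hg⟩ := (line_of_fibreTriv hQ x (h0 x) (hT x)).1
  obtain ⟨f, hf⟩ := SeesawMod.exists_form_of_projective x.asIdeal hg
  obtain ⟨U, hx, hU⟩ := exists_frame_of_form hL hQ x (h0 x) (hT x) f hf
  exact ⟨U, hx, _, hU⟩

theorem exists_form_ne_zero_iff (Q : Type u) [AddCommGroup Q] [Module A Q] [Module.Finite A Q] (x : PrimeSpectrum A) :
    (∃ g : Q →ₗ[A] x.asIdeal.ResidueField, g ≠ 0) ↔ x ∈ Module.support A Q := by
  have hsup : x ∈ Module.support A Q ↔ FlatCxLib.fibreRank Q x ≠ 0 := by
    rw [FlatCxLib.fibreRank, Module.mem_support_iff_nontrivial_residueField_tensorProduct]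
    exact Module.finrank_pos_iff.symm.trans pos_iff_ne_zero
  rw [hsup]
  let k := x.asIdeal.ResidueField
  have h : Module.finrank k (Q →ₗ[A] k) = FlatCxLib.fibreRank Q x := by
    rw [(SeesawMod.dualEquiv k).finrank_eq, Subspace.dual_finrank_eq]
    rfl
  rw [← h]
  haveI : Module.Finite k (Q →ₗ[A] k) := Module.Finite.equiv (SeesawMod.dualEquiv (Q := Q) k).symm
  constructor
  · rintro ⟨g, hg⟩ h'
    haveI := Module.finrank_zero_iff.1 h'
    exact hg (Subsingleton.elim _ _)
  · intro h'
    by_contra H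
    push Not at H
    haveI : Subsingleton (Q →ₗ[A] k) := ⟨fun a b => (H a).trans (H b).symm⟩
    exact h' Module.finrank_zero_of_subsingleton

/-- For geometrically integral fibres a fibre is trivial iff the module and its inverse both have nonzero
sections on it. -/
theorem fibreTriv_iff_support [GeometricallyIntegral (X ↘ Spec (CommRingCat.of A))] (hL : PicF.IsInvertible L)
    {D : X.Modules} (hD : PicF.IsInvertible D) (φ : CohB1.tensorMod L D ≅ Coh.structureModule X)
    {Q : ModuleCat.{u} A} [Module.Finite A Q] {e : (Q →ₗ[A] A) ≃+ Γ(L, ⊤)} (hQ : SecRep.IsRep L Q e)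
    {Q' : ModuleCat.{u} A} [Module.Finite A Q'] {e' : (Q' →ₗ[A] A) ≃+ Γ(D, ⊤)} (hQ' : SecRep.IsRep D Q' e')
    (x : PrimeSpectrum A) : FibreTriv L x ↔ x ∈ Module.support A Q ∧ x ∈ Module.support A Q' := by
  let X' := fibreOf A X x
  let p := pullback.fst π (specAlg A x.asIdeal.ResidueField)
  let v := pullback.snd π (specAlg A x.asIdeal.ResidueField)
  have h0 : Function.Bijective v.appTop := Rigid.bijective_appTop v
  refine Iff.trans ?_ (and_congr (exists_form_ne_zero_iff (A := A) Q x) (exists_form_ne_zero_iff (A := A) Q' x))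
  constructor
  · intro hT
    refine ⟨(line_of_fibreTriv hQ x h0 hT).1, (line_of_fibreTriv hQ' x h0 ?_).1⟩
    refine Triv.of_iso ((PicMul.unit _).some) ?_
    refine Triv.of_iso (PicGrp.tensorModIso (Iso.refl _) hT.some) ?_
    refine Triv.of_iso ((PicMul.comm _ _).some) ?_
    refine Triv.of_iso ((PicMul.pull p L D).some) ?_
    exact Triv.pullback p ⟨φ⟩
  · rintro ⟨⟨g, hg⟩, g', hg'⟩
    obtain ⟨eB, -, -⟩ := hQ x.asIdeal.ResidueField _ p v (IsPullback.of_hasPullback π _)
    obtain ⟨eB', -, -⟩ := hQ' x.asIdeal.ResidueField _ p v (IsPullback.of_hasPullback π _)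
    haveI : IsIntegral X' := GeometricallyIntegral.isIntegral_of_subsingleton v
    have hs : eB g ≠ 0 := fun h => hg (eB.injective (h.trans (map_zero eB).symm))
    have hs' : eB' g' ≠ 0 := fun h => hg' (eB'.injective (h.trans (map_zero eB').symm))
    have hP := PicClLib.isInvertible_pullback p hL
    have hP' := PicClLib.isInvertible_pullback p hD
    have hne : locus (eB g) ⊓ locus (eB' g') ≠ ⊥ := by
      intro h
      obtain ⟨z, hz⟩ := Opens.ne_bot_iff_nonempty _ |>.1 (locus_ne_bot hP hs)
      obtain ⟨z', hz'⟩ := Opens.ne_bot_iff_nonempty _ |>.1 (locus_ne_bot hP' hs')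
      obtain ⟨w, hw⟩ := nonempty_preirreducible_inter (locus (eB g)).isOpen (locus (eB' g')).isOpen
        ⟨z, hz⟩ ⟨z', hz'⟩
      exact (Opens.ne_bot_iff_nonempty _).2 ⟨w, hw⟩ h
    let ψ : CohB1.tensorMod ((Scheme.Modules.pullback p).obj L) ((Scheme.Modules.pullback p).obj D) ≅
        Coh.structureModule X' :=
      (PicMul.pull p L D).some.symm ≪≫ (Scheme.Modules.pullback p).mapIso φ ≪≫
        (PicClLib.nonempty_pullback_structureModule p).some
    let m := mulHom (ofSect (eB g)) (ofSect (eB' g'))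
    have hloc : locus (one m) = locus (eB g) ⊓ locus (eB' g') := by
      refine Eq.trans ?_ (genLocus_mulHom hP hP' (ofSect (eB g)) (ofSect (eB' g')))
      show CohB1.genLocus _ (ofSect (one m)) = CohB1.genLocus _ m
      congr 1
      show ofSect (one (ofSect _)) = ofSect _
      rw [one_ofSect]
    have hm : one m ≠ 0 := by
      intro h
      refine hne (hloc.symm.trans ?_)
      refine bot_unique fun z hz => ?_
      obtain ⟨U, hzU, hU⟩ := mem_locus_iff.1 hz
      rw [h, map_zero] at hU
      have h01 := hU.coord_unique le_rfl (r := (0 : Γ(X', U))) (r' := 1) (by simp)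
      have : U = ⊥ := by
        rw [← X'.basicOpen_of_isUnit (isUnit_one : IsUnit (1 : Γ(X', U))), ← h01, Scheme.basicOpen_zero]
      exact this ▸ hzU
    have hframe : IsFrame (one m) :=
      TrivBasic.isFrame_of_ne_zero ⟨ψ⟩ (isField_Γ v h0) hm
    have htop : locus (eB g) ⊓ locus (eB' g') = ⊤ := hloc.symm.trans (locus_eq_top_iff.2 hframe)
    exact triv_of_frame (locus_eq_top_iff.1 (top_le_iff.1 (htop.ge.trans inf_le_left)))

/-- For geometrically integral fibres the locus of trivial fibres is closed. -/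
theorem isClosed_fibreTriv [GeometricallyIntegral (X ↘ Spec (CommRingCat.of A))] (hL : PicF.IsInvertible L) :
    IsClosed {x : ↥(Spec (CommRingCat.of A)) | FibreTriv L x} := by
  obtain ⟨D, hD, ⟨φ⟩⟩ := PicInv.exists_inverse hL
  obtain ⟨Q, hfin, e, hQ⟩ := exists_rep (A := A) L hL
  obtain ⟨Q', hfin', e', hQ'⟩ := exists_rep (A := A) D hD
  rw [show {x : ↥(Spec (CommRingCat.of A)) | FibreTriv L x} = Module.support A Q ∩ Module.support A Q' from
    Set.ext fun x => fibreTriv_iff_support hL hD φ hQ hQ' x]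
  exact Module.isClosed_support.inter Module.isClosed_support

/-- For geometrically integral fibres triviality descends from any field over a prime. -/
theorem fibreTriv_of_field [GeometricallyIntegral (X ↘ Spec (CommRingCat.of A))] (hL : PicF.IsInvertible L)
    (x : PrimeSpectrum A) (K : Type u) [Field K] [Algebra A K] (hx : RingHom.ker (algebraMap A K) = x.asIdeal)
    (hT : Triv ((Scheme.Modules.pullback (pullback.fst π (specAlg A K))).obj L)) : FibreTriv L x := by
  obtain ⟨D, hD, ⟨φ⟩⟩ := PicInv.exists_inverse hL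
  obtain ⟨Q, hfin, e, hQ⟩ := exists_rep (A := A) L hL
  obtain ⟨Q', hfin', e', hQ'⟩ := exists_rep (A := A) D hD
  let p := pullback.fst π (specAlg A K)
  haveI : IsIntegral (pullback π (specAlg A K)) :=
    GeometricallyIntegral.isIntegral_of_subsingleton (pullback.snd π (specAlg A K))
  have hsupp : ∀ (M : X.Modules) (R : ModuleCat.{u} A) (eR : (R →ₗ[A] A) ≃+ Γ(M, ⊤)),
      SecRep.IsRep M R eR → Triv ((Scheme.Modules.pullback p).obj M) → x ∈ Module.support A R := by
    intro M R eR hR hM
    obtain ⟨eB, -, -⟩ := hR K _ p (pullback.snd π (specAlg A K)) (IsPullback.of_hasPullback π _)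
    obtain ⟨s, hs⟩ := hM.exists_frame
    have hg : eB.symm s ≠ 0 := fun h => by
      have hs0 : s = 0 := by rw [← eB.apply_symm_apply s, h, map_zero]
      exact zero_ne_one (hs.coord_unique le_rfl (r := 0) (r' := 1) (by simp [hs0]))
    obtain ⟨q, hq⟩ : ∃ q, eB.symm s q ≠ 0 := by
      by_contra H
      push Not at H
      exact hg (LinearMap.ext H)
    refine Module.mem_support_iff_exists_annihilator.2 ⟨q, fun a ha => ?_⟩
    rw [← hx, RingHom.mem_ker]
    have h0 := congrArg (eB.symm s) (Submodule.mem_annihilator_span_singleton q a |>.1 ha)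
    rw [map_smul, map_zero, Algebra.smul_def] at h0
    exact (mul_eq_zero.1 h0).resolve_right hq
  refine (fibreTriv_iff_support hL hD φ hQ hQ' x).2 ⟨hsupp L Q e hQ hT, hsupp D Q' e' hQ' ?_⟩
  refine Triv.of_iso ((PicMul.unit _).some) ?_
  refine Triv.of_iso (PicGrp.tensorModIso (Iso.refl _) hT.some) ?_
  refine Triv.of_iso ((PicMul.comm _ _).some) ?_
  refine Triv.of_iso ((PicMul.pull p L D).some) ?_
  exact Triv.pullback p ⟨φ⟩

end Noeth

end Groth.Agent.H23.Seesaw
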