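import Mathlib.Topology.NoetherianSpace
import Mathlib.Topology.Connected.LocallyConnected
import Mathlib.Topology.Irreducible

/-!
# Spaces in which every point has a Noetherian neighbourhood
-/

open TopologicalSpace Topology

universe u

namespace Groth.Agent.H23.LocNoethTop

variable {X : Type u} [TopologicalSpace X]

theorem exists_open_noetherian (hX : ∀ x : X, ∃ U ∈ nhds x, NoetherianSpace U) (x : X) {F : Set X}
    (hF : IsOpen F) (hx : x ∈ F) :
    ∃ N : Set X, IsOpen N ∧ x ∈ N ∧ N ⊆ F ∧ NoetherianSpace N := by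
  obtain ⟨U, hU, hUn⟩ := hX x
  obtain ⟨V, hVU, hV, hxV⟩ := mem_nhds_iff.mp hU
  exact ⟨V ∩ F, hV.inter hF, ⟨hxV, hx⟩, Set.inter_subset_right,
    NoetherianSpace.of_subset (W := U) (fun y hy => hVU hy.1)⟩

theorem locallyConnectedSpace (hX : ∀ x : X, ∃ U ∈ nhds x, NoetherianSpace U) :
    LocallyConnectedSpace X := by
  rw [locallyConnectedSpace_iff_connectedComponentIn_open]
  intro F hF x _
  rw [isOpen_iff_mem_nhds]
  intro y hy
  have hyF : y ∈ F := connectedComponentIn_subset _ _ hy
  obtain ⟨N, hN, hyN, hNF, hNn⟩ := exists_open_noetherian hX y hF hyF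
  haveI := hNn
  let y' : N := ⟨y, hyN⟩
  let T : Set (Set N) := {Z | Z ∈ irreducibleComponents N ∧ y' ∉ Z}
  have hT : IsClosed (⋃₀ T) :=
    Set.sUnion_eq_biUnion (s := T) ▸ Set.Finite.isClosed_biUnion
      (NoetherianSpace.finite_irreducibleComponents.subset fun Z hZ => hZ.1)
      fun Z hZ => isClosed_of_mem_irreducibleComponents _ hZ.1
  have hM : Subtype.val '' (⋃₀ T)ᶜ ∈ nhds y :=
    (hN.isOpenMap_subtype_val _ hT.isOpen_compl).mem_nhds
      ⟨y', fun h => by obtain ⟨Z, hZ, hyZ⟩ := h; exact hZ.2 hyZ, rfl⟩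
  refine Filter.mem_of_superset hM ?_
  rintro _ ⟨z, hz, rfl⟩
  rw [connectedComponentIn_eq hy]
  have hzc : z ∈ irreducibleComponent z := mem_irreducibleComponent
  have hyc : y' ∈ irreducibleComponent z := by
    by_contra h
    exact hz ⟨_, ⟨irreducibleComponent_mem_irreducibleComponents z, h⟩, hzc⟩
  exact ((isIrreducible_irreducibleComponent (x := z)).isConnected.isPreconnected.image _
    continuous_subtype_val.continuousOn).subset_connectedComponentIn ⟨y', hyc, rfl⟩
    (by rintro _ ⟨w, -, rfl⟩; exact hNF w.2) ⟨z, hzc, rfl⟩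

theorem exists_nhd_subset_of_unique (hX : ∀ x : X, ∃ U ∈ nhds x, NoetherianSpace U) {x : X}
    {Z : Set X} (h : ∀ Z' ∈ irreducibleComponents X, x ∈ Z' → Z' = Z) : Z ∈ nhds x := by
  obtain ⟨N, hN, hxN, -, hNn⟩ := exists_open_noetherian hX x isOpen_univ trivial
  haveI := hNn
  let T : Set (Set X) := {Z' | Z' ∈ irreducibleComponents X ∧ (Z' ∩ N).Nonempty ∧ x ∉ Z'}
  have hfin : T.Finite := by
    let T' : Set (Set N) := irreducibleComponents N
    refine Set.Finite.of_finite_image (f := fun Z' : Set X => (Subtype.val ⁻¹' Z' : Set N))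
      ((NoetherianSpace.finite_irreducibleComponents (α := N)).subset ?_) ?_
    · rintro _ ⟨Z', ⟨hZ', ⟨w, hw, hwN⟩, -⟩, rfl⟩
      exact preimage_mem_irreducibleComponents hZ' hN.isOpenEmbedding_subtypeVal
        ⟨w, hw, ⟨w, hwN⟩, rfl⟩
    · rintro A ⟨hA, hAN, -⟩ B ⟨hB, hBN, -⟩ hAB
      have key : A ∩ N = B ∩ N := by
        have := congrArg (Set.image Subtype.val) hAB
        simpa [Set.inter_comm] using this
      have hclA : closure (A ∩ N) = A := Set.Subset.antisymm
        (closure_minimal Set.inter_subset_left (isClosed_of_mem_irreducibleComponents _ hA))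
        (subset_closure_inter_of_isPreirreducible_of_isOpen hA.1.isPreirreducible hN hAN)
      have hclB : closure (B ∩ N) = B := Set.Subset.antisymm
        (closure_minimal Set.inter_subset_left (isClosed_of_mem_irreducibleComponents _ hB))
        (subset_closure_inter_of_isPreirreducible_of_isOpen hB.1.isPreirreducible hN hBN)
      rw [← hclA, ← hclB, key]
  have hC : IsClosed (⋃₀ T) :=
    Set.sUnion_eq_biUnion (s := T) ▸ hfin.isClosed_biUnion
      fun Z' hZ' => isClosed_of_mem_irreducibleComponents _ hZ'.1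
  refine Filter.mem_of_superset ((hN.sdiff hC).mem_nhds ⟨hxN, ?_⟩) ?_
  · rintro ⟨Z', hZ', hx'⟩
    exact hZ'.2.2 hx'
  · rintro y ⟨hyN, hy⟩
    have hyc : y ∈ irreducibleComponent y := mem_irreducibleComponent
    have hxc : x ∈ irreducibleComponent y := by
      by_contra hh
      exact hy ⟨_, ⟨irreducibleComponent_mem_irreducibleComponents y, ⟨y, hyc, hyN⟩, hh⟩, hyc⟩
    exact h _ (irreducibleComponent_mem_irreducibleComponents y) hxc ▸ hyc

theorem isOpen_of_pairwiseDisjoint (hX : ∀ x : X, ∃ U ∈ nhds x, NoetherianSpace U)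
    (hd : (irreducibleComponents X).PairwiseDisjoint id) {Z : Set X}
    (hZ : Z ∈ irreducibleComponents X) : IsOpen Z :=
  isOpen_iff_mem_nhds.2 fun _ hx => exists_nhd_subset_of_unique hX fun _ hZ' hx' =>
    hd.elim hZ' hZ (Set.not_disjoint_iff.2 ⟨_, hx', hx⟩)

theorem tfae (hX : ∀ x : X, ∃ U ∈ nhds x, NoetherianSpace U) :
    List.TFAE [∀ Z ∈ irreducibleComponents X, IsOpen Z,
      irreducibleComponents X = Set.range (connectedComponent : X → Set X),
      ∀ x : X, IsIrreducible (connectedComponent x),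
      (irreducibleComponents X).PairwiseDisjoint id] := by
  tfae_have 4 → 1 := fun hd Z hZ => isOpen_of_pairwiseDisjoint hX hd hZ
  tfae_have 1 → 2 := by
    intro ho
    have key : ∀ Z ∈ irreducibleComponents X, ∀ x ∈ Z, connectedComponent x = Z := by
      intro Z hZ x hx
      have hclop : IsClopen Z := ⟨isClosed_of_mem_irreducibleComponents _ hZ, ho Z hZ⟩
      exact (hclop.connectedComponent_subset hx).antisymm
        (hZ.1.isConnected.isPreconnected.subset_connectedComponent hx)
    ext Z
    constructor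
    · intro hZ
      obtain ⟨x, hx⟩ := hZ.1.nonempty
      exact ⟨x, key Z hZ x hx⟩
    · rintro ⟨x, rfl⟩
      rw [key _ (irreducibleComponent_mem_irreducibleComponents x) x mem_irreducibleComponent]
      exact irreducibleComponent_mem_irreducibleComponents x
  tfae_have 2 → 3 := fun h x => (h.ge ⟨x, rfl⟩ : connectedComponent x ∈ irreducibleComponents X).1
  tfae_have 3 → 4 := by
    intro h Z hZ Z' hZ' hne
    by_contra hd
    obtain ⟨x, hx, hx'⟩ := Set.not_disjoint_iff.1 hd
    have key : ∀ W ∈ irreducibleComponents X, x ∈ W → W = connectedComponent x := fun W hW hxW => by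
      have hsub := hW.1.isConnected.isPreconnected.subset_connectedComponent hxW
      exact hsub.antisymm (hW.2 (h x) hsub)
    exact hne ((key Z hZ hx).trans (key Z' hZ' hx').symm)
  tfae_finish

end Groth.Agent.H23.LocNoethTop
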