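import Groth.Agent.H23.MulEtale
import Groth.Agent.RegLoc6.Normal
import Mathlib.RingTheory.Filtration
import Mathlib.FieldTheory.IntermediateField.Adjoin.Basic

/-!
Torsion points of an abelian scheme over a normal local ring inject into those of the closed fibre.
-/

universe u

open CategoryTheory Limits AlgebraicGeometry MonoidalCategory CartesianMonoidalCategory MonObj IsLocalRing

namespace Groth.Agent.H23.TorsRed

/-- Sections of a finite unramified algebra over a noetherian local ring inject into the closed fibre. -/
theorem residue_comp_injective {R C : Type u} [CommRing R] [IsNoetherianRing R] [IsLocalRing R]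
    [CommRing C] [Algebra R C] [Algebra.FormallyUnramified R C] {φ ψ : C →ₐ[R] R}
    (h : ∀ c, residue R (φ c) = residue R (ψ c)) : φ = ψ := by
  have key : ∀ n : ℕ, ∀ c, φ c - ψ c ∈ maximalIdeal R ^ (n + 1) := by
    intro n
    induction n with
    | zero => exact fun c => by rw [pow_one, ← IsLocalRing.residue_eq_zero_iff, map_sub, h, sub_self]
    | succ n ih =>
      let q := Ideal.Quotient.mkₐ R (maximalIdeal R ^ (n + 2))
      let J := (maximalIdeal R ^ (n + 1)).map (Ideal.Quotient.mk (maximalIdeal R ^ (n + 2)))
      have hJ : J ^ 2 = ⊥ := by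
        rw [← Ideal.map_pow, ← pow_mul, Ideal.map_eq_bot_iff_le_ker, Ideal.mk_ker]
        exact Ideal.pow_le_pow_right (by omega)
      have := Algebra.FormallyUnramified.comp_injective J hJ (a₁ := q.comp φ) (a₂ := q.comp ψ) (by
        refine AlgHom.ext fun c => ?_
        show Ideal.Quotient.mk J (q (φ c)) = Ideal.Quotient.mk J (q (ψ c))
        rw [Ideal.Quotient.eq, ← map_sub]
        exact Ideal.mem_map_of_mem _ (ih c))
      intro c
      have := AlgHom.congr_fun this c
      exact Ideal.Quotient.eq.1 this
  refine AlgHom.ext fun c => sub_eq_zero.1 ?_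
  rw [← Ideal.mem_bot, ← Ideal.iInf_pow_eq_bot_of_isLocalRing (maximalIdeal R)
    (maximalIdeal.isMaximal R).ne_top, Submodule.mem_iInf]
  intro n
  rcases n with _ | n
  · simp
  · exact key n c

theorem card_algHom_le {R C : Type u} [CommRing R] [IsDomain R] [IsNoetherianRing R] [IsLocalRing R]
    [IsIntegrallyClosed R] [CommRing C] [Algebra R C] [Module.Finite R C] [Algebra.FormallyUnramified R C] :
    Nat.card (C →ₐ[R] FractionRing R) ≤ Nat.card (C →ₐ[R] ResidueField R) := by
  have hex : ∀ φ : C →ₐ[R] FractionRing R, ∃ ψ : C →ₐ[R] R,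
      (Algebra.ofId R (FractionRing R)).comp ψ = φ := by
    intro φ
    have hint : ∀ c, ∃ r, algebraMap R (FractionRing R) r = φ c := fun c =>
      IsIntegrallyClosed.isIntegral_iff.1 ((Algebra.IsIntegral.isIntegral (R := R) c).map φ)
    choose f hf using hint
    have hinj := IsFractionRing.injective R (FractionRing R)
    refine ⟨{ toFun := f, map_one' := hinj (by rw [hf, map_one, map_one]),
              map_mul' := fun a b => hinj (by rw [map_mul, hf, hf, hf, map_mul]),
              map_zero' := hinj (by rw [hf, map_zero, map_zero]),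
              map_add' := fun a b => hinj (by rw [map_add, hf, hf, hf, map_add]),
              commutes' := fun r => hinj (by rw [hf, AlgHom.commutes]; rfl) }, AlgHom.ext hf⟩
  choose L hL using hex
  refine Nat.card_le_card_of_injective (fun φ => (Algebra.ofId R (ResidueField R)).comp (L φ)) ?_
  intro a b h
  rw [← hL a, ← hL b, residue_comp_injective fun c => AlgHom.congr_fun h c]

variable {R : Type u} [CommRing R] (A : Over (Spec (CommRingCat.of R))) [GrpObj A] (m : ℕ)

/-- The kernel of multiplication by `m`. -/
noncomputable abbrev tors : Scheme.{u} := pullback (η[A]).left (𝟙 A ^ m : A ⟶ A).left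

/-- Points of the kernel are torsion points. -/
noncomputable def ptsEquiv (T : Over (Spec (CommRingCat.of R))) :
    {a : T ⟶ A // a ^ m = 1} ≃ {t : T.left ⟶ tors A m // t ≫ pullback.fst _ _ = T.hom} where
  toFun a := ⟨pullback.lift T.hom a.1.left (by
      have h : (a.1 ≫ (𝟙 A ^ m)).left = (1 : T ⟶ A).left := by
        rw [MonObj.comp_pow, Category.comp_id, a.2]
      exact h.symm), pullback.lift_fst _ _ _⟩
  invFun t := ⟨Over.homMk (t.1 ≫ pullback.snd _ _) (by
      rw [Category.assoc, ← Over.w (𝟙 A ^ m : A ⟶ A), ← pullback.condition_assoc, Over.w η[A]]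
      exact (Category.comp_id _).trans t.2), by
      rw [← Category.comp_id (Over.homMk _ _), ← MonObj.comp_pow]
      ext1
      show (t.1 ≫ pullback.snd _ _) ≫ (𝟙 A ^ m : A ⟶ A).left = T.hom ≫ η[A].left
      rw [Category.assoc, ← pullback.condition, ← Category.assoc, t.2]⟩
  left_inv a := by
    ext : 2
    exact pullback.lift_snd _ _ _
  right_inv t := by
    ext : 1
    apply pullback.hom_ext
    · rw [pullback.lift_fst, t.2]
    · rw [pullback.lift_snd]; rfl

end Groth.Agent.H23.TorsRed
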