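import Mathlib

/-!
Rational endomorphisms of an object which is, up to an integer, a direct sum of orthogonal objects.
-/

set_option autoImplicit false
set_option linter.unusedSectionVars false
set_option maxHeartbeats 400000

universe v u

open CategoryTheory TensorProduct

namespace Groth.Agent.H23.MatrixEndQ

variable {C : Type u} [Category.{v} C] [Preadditive C]

/-- An endomorphism as an element of the endomorphism ring. -/
abbrev asE {Z : C} (f : Z ⟶ Z) : End Z := f

/-- The rational endomorphisms of `X`, up to an integer the sum of the `Y i` with multiplicities `J i`,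
are the product of the matrix algebras. -/
theorem nonempty_algEquiv (X : C) {ι : Type} [Fintype ι] [DecidableEq ι] (Y : ι → C) (J : ι → Type)
    [∀ i, Fintype (J i)] [∀ i, DecidableEq (J i)] (p : ∀ i, J i → (X ⟶ Y i)) (q : ∀ i, J i → (Y i ⟶ X))
    (N : ℤ) (hN : N ≠ 0) (h0 : ∀ i j, i ≠ j → ∀ f : Y i ⟶ Y j, f = 0)
    (hqp : ∀ i (s t : J i), q i t ≫ p i s = if s = t then N • 𝟙 (Y i) else 0)
    (hpq : ∑ i, ∑ t, p i t ≫ q i t = N • 𝟙 X) :
    Nonempty (ℚ ⊗[ℤ] End X ≃ₐ[ℚ] (Π i, Matrix (J i) (J i) (ℚ ⊗[ℤ] End (Y i)))) := by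
  classical
  have hNQ : (N : ℚ) ≠ 0 := Int.cast_ne_zero.2 hN
  let e : ∀ i, End (Y i) → ℚ ⊗[ℤ] End (Y i) := fun i x => (N : ℚ)⁻¹ ⊗ₜ[ℤ] x
  let F : ∀ i, End X → Matrix (J i) (J i) (ℚ ⊗[ℤ] End (Y i)) := fun i x =>
    Matrix.of fun s t => e i ((q i t ≫ x ≫ p i s : Y i ⟶ Y i) : End (Y i))
  have hz : ∀ {Z : C} (r : ℚ) (n : ℤ) (x : End Z), (r ⊗ₜ[ℤ] (n • x)) = ((n : ℚ) * r) ⊗ₜ[ℤ] x := fun r n x => by
    rw [tmul_smul, TensorProduct.smul_tmul', zsmul_eq_mul]
  have Fone : ∀ i, F i (𝟙 X) = 1 := fun i => by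
    ext s t
    simp only [F, e, Matrix.of_apply, Category.id_comp, hqp, Matrix.one_apply]
    split
    · rw [show (N • 𝟙 (Y i) : Y i ⟶ Y i) = N • (1 : End (Y i)) from rfl, hz, mul_inv_cancel₀ hNQ]
      rfl
    · exact tmul_zero _ _
  have Fadd : ∀ i (x y : End X), F i (x + y) = F i x + F i y := fun i x y => by
    ext s t
    simp only [F, e, Matrix.of_apply, Matrix.add_apply]
    rw [← tmul_add]
    congr 1
    show _ = (q i t ≫ x ≫ p i s : Y i ⟶ Y i) + (q i t ≫ y ≫ p i s : Y i ⟶ Y i)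
    rw [← Preadditive.comp_add, ← Preadditive.add_comp]
  have Fmul : ∀ i (x y : End X), F i (x * y) = F i x * F i y := fun i x y => by
    ext s t
    simp only [F, e, Matrix.of_apply, Matrix.mul_apply, Algebra.TensorProduct.tmul_mul_tmul]
    rw [← tmul_sum]
    have hsum : (∑ r, ((asE (q i r ≫ x ≫ p i s)) * (asE (q i t ≫ y ≫ p i r)))) =
        N • ((q i t ≫ (x * y) ≫ p i s : Y i ⟶ Y i) : End (Y i)) := by
      show (∑ r, ((q i t ≫ y ≫ p i r) ≫ q i r ≫ x ≫ p i s : Y i ⟶ Y i)) = N • (q i t ≫ (y ≫ x) ≫ p i s : Y i ⟶ Y i)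
      have hvan : ∀ j, j ≠ i → (∑ r : J j, q i t ≫ y ≫ (p j r ≫ q j r) ≫ x ≫ p i s) = 0 := fun j hj =>
        Finset.sum_eq_zero fun r _ => by
          have := h0 i j (Ne.symm hj) (q i t ≫ y ≫ p j r)
          simp only [Category.assoc] at this ⊢
          rw [reassoc_of% this]
          simp
      have key := congrArg (fun w => q i t ≫ y ≫ w ≫ x ≫ p i s) hpq
      simp only [Preadditive.sum_comp, Preadditive.comp_sum, Preadditive.zsmul_comp, Preadditive.comp_zsmul,
        Category.id_comp] at key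
      rw [Finset.sum_eq_single i (fun j _ hj => by simpa only [Category.assoc] using hvan j hj)
        (fun h => absurd (Finset.mem_univ i) h)] at key
      simp only [Category.assoc] at key ⊢
      exact key
    rw [hsum, hz]
    congr 1
    field_simp
  let φ₀ : End X →+* Π i, Matrix (J i) (J i) (ℚ ⊗[ℤ] End (Y i)) :=
    RingHom.mk' ⟨⟨fun x i => F i x, funext Fone⟩, fun x y => funext fun i => Fmul i x y⟩
      fun x y => funext fun i => Fadd i x y
  let φ₁ : End X →ₐ[ℤ] Π i, Matrix (J i) (J i) (ℚ ⊗[ℤ] End (Y i)) :=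
    { φ₀ with commutes' := fun n => by
                  show φ₀ (algebraMap ℤ (End X) n) = _
                  rw [eq_intCast (algebraMap ℤ (End X)) n, map_intCast, eq_intCast (algebraMap ℤ (Π i, Matrix (J i) (J i) (ℚ ⊗[ℤ] End (Y i)))) n] }
  let Φ : ℚ ⊗[ℤ] End X →ₐ[ℚ] Π i, Matrix (J i) (J i) (ℚ ⊗[ℤ] End (Y i)) :=
    Algebra.TensorProduct.lift (Algebra.ofId ℚ _) φ₁ fun r x => Algebra.commutes r _
  have hΦ : ∀ (r : ℚ) (x : End X) i s t, Φ (r ⊗ₜ x) i s t = ((r * (N : ℚ)⁻¹) ⊗ₜ[ℤ] ((q i t ≫ x ≫ p i s : Y i ⟶ Y i) : End (Y i))) := by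
    intro r x i s t
    rw [show Φ (r ⊗ₜ x) = algebraMap ℚ _ r * φ₁ x from Algebra.TensorProduct.lift_tmul (Algebra.ofId ℚ _) φ₁ _ r x,
      ← Algebra.smul_def]
    show r • e i (asE (q i t ≫ x ≫ p i s)) = _
    simp only [e]
    rw [TensorProduct.smul_tmul', smul_eq_mul]
  let c : ∀ i, J i → J i → (End (Y i) →ₗ[ℤ] End X) := fun i s t =>
    (AddMonoidHom.mk' (fun y : End (Y i) => ((p i t ≫ y ≫ q i s : X ⟶ X) : End X)) fun y z => by
      show _ = (p i t ≫ y ≫ q i s : X ⟶ X) + (p i t ≫ z ≫ q i s : X ⟶ X)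
      rw [← Preadditive.comp_add, ← Preadditive.add_comp]).toIntLinearMap
  let L : ∀ i, J i → J i → (ℚ ⊗[ℤ] End (Y i) →ₗ[ℚ] ℚ ⊗[ℤ] End X) := fun i s t =>
    (N : ℚ)⁻¹ • (c i s t).baseChange ℚ
  have hc : ∀ i s t (y : End (Y i)), c i s t y = (p i t ≫ y ≫ q i s : X ⟶ X) := fun _ _ _ _ => rfl
  have hL : ∀ i s t (r : ℚ) (y : End (Y i)),
      L i s t (r ⊗ₜ y) = ((N : ℚ)⁻¹ * r) ⊗ₜ[ℤ] ((p i t ≫ y ≫ q i s : X ⟶ X) : End X) := by
    intro i s t r y
    simp only [L, LinearMap.smul_apply, LinearMap.baseChange_tmul, hc, TensorProduct.smul_tmul', smul_eq_mul]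
  let Ψ : (Π i, Matrix (J i) (J i) (ℚ ⊗[ℤ] End (Y i))) → ℚ ⊗[ℤ] End X := fun M => ∑ i, ∑ s, ∑ t, L i s t (M i s t)
  have hΨadd : ∀ M M', Ψ (M + M') = Ψ M + Ψ M' := fun M M' => by
    simp only [Ψ, Pi.add_apply, Matrix.add_apply, map_add, Finset.sum_add_distrib]
  have left : ∀ z, Ψ (Φ z) = z := by
    intro z
    induction z using TensorProduct.induction_on with
    | zero => simp [Ψ]
    | add a b ha hb => rw [map_add, hΨadd, ha, hb]
    | tmul r x =>
      simp only [Ψ, hΦ, hL]
      simp only [← tmul_sum]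
      have hsum : (∑ i, ∑ s, ∑ t, ((p i t ≫ (q i t ≫ x ≫ p i s) ≫ q i s : X ⟶ X) : End X)) = (N * N) • x := by
        show (∑ i, ∑ s, ∑ t, (p i t ≫ (q i t ≫ x ≫ p i s) ≫ q i s : X ⟶ X)) = (N * N) • (x : X ⟶ X)
        have key : (∑ j, ∑ s : J j, (∑ i, ∑ t : J i, p i t ≫ q i t) ≫ x ≫ p j s ≫ q j s) = (N * N) • (x : X ⟶ X) := by
          rw [hpq]
          simp only [Preadditive.zsmul_comp, Category.id_comp, ← Finset.smul_sum, ← Preadditive.comp_sum, hpq,
            Preadditive.comp_zsmul, Category.comp_id, smul_smul]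
        rw [← key]
        refine Finset.sum_congr rfl fun j _ => Finset.sum_congr rfl fun s _ => ?_
        simp only [Preadditive.sum_comp]
        rw [Finset.sum_eq_single j]
        · simp only [Category.assoc]
        · intro i _ hij
          refine Finset.sum_eq_zero fun t _ => ?_
          have := h0 i j hij (q i t ≫ x ≫ p j s)
          simp only [Category.assoc] at this ⊢
          rw [reassoc_of% this]
          simp
        · exact fun h => absurd (Finset.mem_univ j) h
      rw [hsum, hz]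
      congr 1
      push_cast
      field_simp
  have right : ∀ M, Φ (Ψ M) = M := by
    intro M
    have key : ∀ i s t w, Φ (L i s t w) = Pi.single (M := fun i => Matrix (J i) (J i) (ℚ ⊗[ℤ] End (Y i))) i (Matrix.single s t w) := by
      intro i s t w
      induction w using TensorProduct.induction_on with
      | zero => simp
      | add a b ha hb => rw [map_add, map_add, ha, hb, ← Pi.single_add, Matrix.single_add]
      | tmul r y =>
        funext j
        ext s' t'
        rw [hL, hΦ]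
        by_cases hij : j = i
        · subst hij
          rw [Pi.single_eq_same, Matrix.single_apply]
          have e' : (q j t' ≫ (p j t ≫ y ≫ q j s) ≫ p j s' : Y j ⟶ Y j) =
              if s = s' ∧ t = t' then (N * N) • (y : Y j ⟶ Y j) else 0 := by
            rw [show q j t' ≫ (p j t ≫ y ≫ q j s) ≫ p j s' = (q j t' ≫ p j t) ≫ (y : Y j ⟶ Y j) ≫ (q j s ≫ p j s') from by
              simp only [Category.assoc], hqp, hqp]
            by_cases h1 : t = t' <;> by_cases h2 : s = s'
            · subst h1; subst h2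
              simp only [and_self, if_true]
              rw [Preadditive.zsmul_comp, Preadditive.comp_zsmul, Category.id_comp, Category.comp_id, smul_smul]
            · simp [h2, Ne.symm h2]
            · simp [h1]
            · simp [h1]
          rw [show ((q j t' ≫ (p j t ≫ y ≫ q j s) ≫ p j s' : Y j ⟶ Y j) : End (Y j)) = _ from e']
          split
          · rw [show ((N * N) • (y : Y j ⟶ Y j) : Y j ⟶ Y j) = (N * N) • (y : End (Y j)) from rfl, hz]
            congr 1
            push_cast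
            field_simp
          · exact tmul_zero _ _
        · rw [Pi.single_eq_of_ne hij, Matrix.zero_apply]
          have h3 := h0 j i hij (q j t' ≫ p i t)
          have e' : (q j t' ≫ (p i t ≫ y ≫ q i s) ≫ p j s' : Y j ⟶ Y j) = 0 := by
            simp only [Category.assoc]
            rw [reassoc_of% h3]
            simp
          rw [show ((q j t' ≫ (p i t ≫ y ≫ q i s) ≫ p j s' : Y j ⟶ Y j) : End (Y j)) = 0 from e']
          exact tmul_zero _ _
    simp only [Ψ, map_sum, key]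
    rw [Finset.sum_congr rfl fun i _ => show
      ∑ s, ∑ t, Pi.single (M := fun i => Matrix (J i) (J i) (ℚ ⊗[ℤ] End (Y i))) i (Matrix.single s t (M i s t)) =
        Pi.single i (M i) from by
        rw [show (Pi.single (M := fun i => Matrix (J i) (J i) (ℚ ⊗[ℤ] End (Y i))) i (M i)) =
          Pi.single i (∑ s, ∑ t, Matrix.single s t (M i s t)) from congrArg _ (Matrix.matrix_eq_sum_single (M i))]
        simp only [← AddMonoidHom.single_apply, map_sum]]
    exact Finset.univ_sum_single M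
  exact ⟨AlgEquiv.ofBijective Φ ⟨fun a b h => by rw [← left a, h, left], fun M => ⟨Ψ M, right M⟩⟩⟩

end Groth.Agent.H23.MatrixEndQ
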