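import Groth.Agent.GrpSchLib.KernelPair
import Mathlib.AlgebraicGeometry.Morphisms.Finite
import Mathlib.AlgebraicGeometry.Morphisms.UniversallyInjective
import Mathlib.AlgebraicGeometry.Morphisms.LocalFlatDescent
import Mathlib.AlgebraicGeometry.Morphisms.FlatDescent
import Mathlib.RingTheory.Spectrum.Prime.Topology

/-!
Properties of an isogeny are read on its kernel.
-/

universe u

open CategoryTheory Limits MonoidalCategory CartesianMonoidalCategory MonObj AlgebraicGeometry

namespace Groth.Agent.H23.KerIsog

variable {S : Scheme.{u}} {X Y : Over S} [GrpObj Y] {N : Over S} (i : N ⟶ X) (f : X ⟶ Y)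

theorem prop_ker (P : MorphismProperty Scheme.{u}) [P.IsStableUnderBaseChange]
    (hN : AlgGrp.IsKernel i f) (h : P f.left) : P N.hom := by
  have h' : IsPullback i.left (toUnit N).left f.left (η[Y]).left := hN.map (Over.forget S)
  have h1 := MorphismProperty.of_isPullback h' h
  exact (show (toUnit N).left = N.hom from rfl) ▸ h1

theorem prop_of_ker (P : MorphismProperty Scheme.{u}) [P.IsStableUnderBaseChange] [P.RespectsIso]
    [P.DescendsAlong (@Surjective ⊓ @Flat ⊓ @QuasiCompact : MorphismProperty Scheme.{u})]
    [GrpObj X] [IsMonHom f] (hN : AlgGrp.IsKernel i f) [Flat f.left] [Surjective f.left] [QuasiCompact f.left]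
    (h : P N.hom) : P f.left := by
  obtain ⟨p, hp, hps⟩ := GrpSchLib.exists_kernelPair_iso i f hN
  have h1 : P (snd N X).left := MorphismProperty.pullback_snd (P := P) N.hom X.hom h
  rw [← hps, P.cancel_left_of_respectsIso] at h1
  exact MorphismProperty.of_pullback_snd_of_descendsAlong (P := P)
    (Q := @Surjective ⊓ @Flat ⊓ @QuasiCompact) (g := f.left) ⟨⟨inferInstance, inferInstance⟩, inferInstance⟩ h1

/-- A connected finite scheme over a field with a rational point is radicial. -/
theorem universallyInjective_of_connected {k : Type u} [Field k] {N : Scheme.{u}}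
    (q : N ⟶ Spec (CommRingCat.of k)) [IsFinite q] [ConnectedSpace N] (e : Spec (CommRingCat.of k) ⟶ N)
    (he : e ≫ q = 𝟙 _) : UniversallyInjective q := by
  have : DiscreteTopology N := by
    have : IsAffine N := isAffine_of_isAffineHom q
    obtain ⟨φ, hφ⟩ := Spec.map_surjective (N.isoSpec.inv ≫ q)
    have h1 : IsFinite (Spec.map φ) := by rw [hφ]; infer_instance
    rw [IsFinite.SpecMap_iff] at h1
    algebraize [φ.hom]
    have : IsArtinianRing Γ(N, ⊤) := IsArtinianRing.of_finite k _
    exact (Scheme.homeoOfIso N.isoSpec).symm.discreteTopology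
  have : Subsingleton N := ⟨fun a b => by
    rcases isClopen_iff.1 (isClopen_discrete ({b} : Set N)) with h | h
    · exact absurd h (Set.singleton_ne_empty b)
    · exact Set.mem_singleton_iff.1 (h ▸ Set.mem_univ a)⟩
  have : Surjective e := ⟨fun n => ⟨IsLocalRing.closedPoint k, Subsingleton.elim _ _⟩⟩
  rw [UniversallyInjective.iff_diagonal]
  have hd : e ≫ pullback.diagonal q = pullback.lift (𝟙 (Spec (CommRingCat.of k))) (𝟙 _) rfl ≫
      pullback.map (𝟙 (Spec (CommRingCat.of k))) (𝟙 _) q q e e (𝟙 _) (by simp [he]) (by simp [he]) := by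
    apply pullback.hom_ext <;>
      simp only [Category.assoc, pullback.diagonal_fst, pullback.diagonal_snd, pullback.map, pullback.lift_fst, pullback.lift_snd, pullback.lift_fst_assoc, pullback.lift_snd_assoc, Category.comp_id, Category.id_comp] <;>
      simp
  have hs : Surjective (pullback.lift (f := 𝟙 (Spec (CommRingCat.of k))) (g := 𝟙 _)
      (𝟙 (Spec (CommRingCat.of k))) (𝟙 _) rfl) := by
    have : IsIso (pullback.lift (f := 𝟙 (Spec (CommRingCat.of k))) (g := 𝟙 _)
        (𝟙 (Spec (CommRingCat.of k))) (𝟙 _) rfl) :=
      ⟨pullback.fst _ _, pullback.lift_fst _ _ _, by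
        apply pullback.hom_ext
        · rw [Category.assoc, pullback.lift_fst, Category.id_comp, Category.comp_id]
        · rw [Category.assoc, pullback.lift_snd, Category.id_comp]
          exact pullback.condition⟩
    infer_instance
  have hm : Surjective (pullback.map (𝟙 (Spec (CommRingCat.of k))) (𝟙 _) q q e e (𝟙 _)
      (by simp [he]) (by simp [he])) := ⟨fun z => by
    have hz : z ∈ Set.range (pullback.map (𝟙 (Spec (CommRingCat.of k))) (𝟙 _) q q e e (𝟙 _)
        (by simp [he]) (by simp [he])) := by
      rw [Scheme.Pullback.range_map]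
      exact ⟨⟨IsLocalRing.closedPoint k, Subsingleton.elim _ _⟩, ⟨IsLocalRing.closedPoint k, Subsingleton.elim _ _⟩⟩
    exact hz⟩
  have : Surjective (e ≫ pullback.diagonal q) := by rw [hd]; infer_instance
  exact Surjective.of_comp e (pullback.diagonal q)

theorem connected_of_universallyInjective {k : Type u} [Field k] {N : Scheme.{u}}
    (q : N ⟶ Spec (CommRingCat.of k)) [UniversallyInjective q] (e : Spec (CommRingCat.of k) ⟶ N) :
    ConnectedSpace N := by
  have : Subsingleton N := q.injective.subsingleton
  have : Nonempty N := ⟨e (IsLocalRing.closedPoint k)⟩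
  exact { toPreconnectedSpace := ⟨Set.subsingleton_univ.isPreconnected⟩, toNonempty := inferInstance }

end Groth.Agent.H23.KerIsog
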