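import Groth.Agent.H23.C1Glue

/-! Gysin maps and caps. -/

set_option autoImplicit false
set_option linter.style.haveILetI false

universe u

open AlgebraicGeometry CategoryTheory TopologicalSpace Opposite

namespace Groth.Agent.H23.GysinLib

open Groth.Agent RatSec C1Pull

variable {X D : Scheme.{u}} [IsLocallyNoetherian X] {δ : X → ℤ} {L : X.Modules} {i : D ⟶ X} [IsClosedImmersion i]

theorem c1CapFun_degree (α : X → ℤ) {k : ℤ} (hα : ∀ ξ, δ ξ ≠ k → α ξ = 0) (s : (ξ : X) → Cyc.secFibre L ξ)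
    {x : X} (hx : δ x ≠ k - 1) : Cyc.c1CapFun δ L α s x = 0 := by
  classical
  refine finsum_eq_zero_of_forall_eq_zero fun ξ => ?_
  by_cases h : δ ξ = k
  · rw [show Cyc.secDivFun δ L ξ (s ξ) x = 0 from dif_neg fun h' => hx (by omega), mul_zero]
  · rw [hα ξ h, zero_mul]

/-- The cycle `i^* α`. -/
noncomputable def gysinCycle (hL : PicF.IsInvertible L) (hd : Cyc.IsDimFun X δ) (i : D ⟶ X) [IsClosedImmersion i]
    (s : L.presheaf.obj (Opposite.op ⊤)) (α : AlgebraicCycle X ℤ) {w : (ξ : X) → Cyc.secFibre L ξ}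
    (hw : ∀ ξ, w ξ ≠ 0) : AlgebraicCycle D ℤ :=
  CycLib.restrictCycle i i.isClosedEmbedding.injective (c1CapCycle hL hd α _ (gysinChoice_ne_zero s hw))

theorem map_gysinCycle {s : L.presheaf.obj (Opposite.op ⊤)} (hL : PicF.IsInvertible L) (hd : Cyc.IsDimFun X δ)
    (hD : Cyc.IsZeroSchemeOf i L s) (α : AlgebraicCycle X ℤ) {w : (ξ : X) → Cyc.secFibre L ξ} (hw : ∀ ξ, w ξ ≠ 0) :
    ⇑(AlgebraicCycle.map i (fun d => δ (i d)) δ (gysinCycle hL hd i s α hw)) =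
      Cyc.c1CapFun δ L ⇑α (Cyc.gysinChoice L s w) := by
  funext x
  by_cases hx : x ∈ Set.range i
  · obtain ⟨d, rfl⟩ := hx
    rw [CycLib.map_preimmersion_apply]
    rfl
  · rw [CycLib.map_apply_not_range i _ δ _ hx, c1CapFun_eq_zero i hL hd hD ⇑α w hx]

theorem exists_pull_cap {s : L.presheaf.obj (Opposite.op ⊤)} (hL : PicF.IsInvertible L) (hd : Cyc.IsDimFun X δ)
    (hD : Cyc.IsZeroSchemeOf i L s) {k : ℤ} (α : AlgebraicCycle X ℤ) (hα : α ∈ Cyc.Zk X δ (k + 2))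
    {w : (ξ : X) → Cyc.secFibre L ξ} (hw : ∀ ξ, w ξ ≠ 0) {N : X.Modules} (hN : PicF.IsInvertible N)
    {v : (ξ : X) → Cyc.secFibre N ξ} (hv : ∀ ξ, v ξ ≠ 0) {γ : D → ℤ}
    (hγ : ∀ d, γ d = Cyc.c1CapFun δ L ⇑α (Cyc.gysinChoice L s w) (i d))
    {t : (d : D) → Cyc.secFibre ((Scheme.Modules.pullback i).obj N) d} (ht : ∀ d, t d ≠ 0)
    {ζ : AlgebraicCycle D ℤ} (hζ : ⇑ζ = Cyc.c1CapFun (fun d => δ (i d)) ((Scheme.Modules.pullback i).obj N) γ t) :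
    ∃ B : AlgebraicCycle D ℤ, Cyc.RatEquiv (fun d => δ (i d)) k B ζ ∧
      ∀ d, B d = Cyc.c1CapFun δ N (Cyc.c1CapFun δ L ⇑α (Cyc.gysinChoice L s w)) v (i d) := by
  haveI : IsLocallyNoetherian D := LocallyOfFiniteType.isLocallyNoetherian i
  have hN' := PicClLib.isInvertible_pullback i hN
  have hdD := CycLib.isDimFun_closedImmersion i hd
  have hγ' : γ = ⇑(gysinCycle hL hd i s α hw) := funext hγ
  subst hγ'
  refine ⟨c1CapCycle hN' hdD _ (vPull i N v) (vPull_ne_zero hN hv),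
    ratEquiv_c1Cap hN' hdD (fun d hd' => ?_) (locFin _) (vPull_ne_zero hN hv) ht (coe_c1CapCycle _ _ _ _ _) hζ,
    fun d => ?_⟩
  · exact (hγ d).trans (c1CapFun_degree ⇑α (fun ξ h => hα ξ h) _ (by omega))
  · rw [← CycLib.map_preimmersion_apply i δ (c1CapCycle hN' hdD (gysinCycle hL hd i s α hw) (vPull i N v)
      (vPull_ne_zero hN hv)) d,
      congrFun (C1Push.map_c1Cap hN hdD hd (deltaCompat_closedImmersion i δ) (gysinCycle hL hd i s α hw) hv) (i d),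
      map_gysinCycle hL hd hD α hw]

theorem gysin_c1Cap {s : L.presheaf.obj (Opposite.op ⊤)} (hL : PicF.IsInvertible L) (hd : Cyc.IsDimFun X δ)
    (hD : Cyc.IsZeroSchemeOf i L s) {k : ℤ} (α : AlgebraicCycle X ℤ) (hα : α ∈ Cyc.Zk X δ (k + 2))
    {w : (ξ : X) → Cyc.secFibre L ξ} (hw : ∀ ξ, w ξ ≠ 0) {N : X.Modules} (hN : PicF.IsInvertible N)
    {v : (ξ : X) → Cyc.secFibre N ξ} (hv : ∀ ξ, v ξ ≠ 0) {β : X → ℤ} (hβ : β = Cyc.c1CapFun δ N ⇑α v) {γ : D → ℤ}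
    (hγ : ∀ d, γ d = Cyc.c1CapFun δ L ⇑α (Cyc.gysinChoice L s w) (i d))
    {t : (d : D) → Cyc.secFibre ((Scheme.Modules.pullback i).obj N) d} (ht : ∀ d, t d ≠ 0)
    {ζ₁ ζ₂ : AlgebraicCycle D ℤ} (h₁ : ∀ d, ζ₁ d = Cyc.c1CapFun δ L β (Cyc.gysinChoice L s w) (i d))
    (h₂ : ⇑ζ₂ = Cyc.c1CapFun (fun d => δ (i d)) ((Scheme.Modules.pullback i).obj N) γ t) :
    Cyc.RatEquiv (fun d => δ (i d)) k ζ₁ ζ₂ := by
  haveI : IsLocallyNoetherian D := LocallyOfFiniteType.isLocallyNoetherian i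
  obtain ⟨B, hB, hBv⟩ := exists_pull_cap hL hd hD α hα hw hN hv hγ ht h₂
  refine RatOn.trans (CycLib.isDimFun_closedImmersion i hd) ?_ hB
  have hgc := gysinChoice_ne_zero (L := L) s hw
  refine RatOn.restrict' hd i (T := Set.range i) le_rfl (C1Glue.zeroOn_comm hL hN hd (fun ξ h => hα ξ h) (locFin α)
    hgc hgc hv hv fun ξ ζ _ h1 _ h3 => Or.inr (C1Glue.coherent_gysinChoice hL hD w w h1 h3)) fun d => ?_
  rw [h₁, hBv, hβ]

end Groth.Agent.H23.GysinLib
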