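import Groth.Agent.H23.ChowDesc
import Groth.Agent.H23.GysinComm
import Groth.Agent.PicClLib.Basic

/-! The first Chern class as an operational class. -/

set_option autoImplicit false
set_option linter.style.haveILetI false

universe u

open AlgebraicGeometry CategoryTheory

namespace Groth.Agent.H23.C1Class

open Groth.Agent RatSec ChowDesc

variable {X : Scheme.{u}} {δ : X → ℤ} {L : X.Modules}

/-- The cap is a cycle of the expected dimension. -/
theorem capCycle_mem [IsLocallyNoetherian X] (hL : PicF.IsInvertible L) (hd : Cyc.IsDimFun X δ) {k : ℤ}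
    {α : AlgebraicCycle X ℤ} (hα : α ∈ Cyc.Zk X δ k) (v : (ξ : X) → Cyc.secFibre L ξ) (hv : ∀ ξ, v ξ ≠ 0) :
    c1CapCycle hL hd α v hv ∈ Cyc.Zk X δ (k - 1) := fun x hx => by
  rw [coe_c1CapCycle]
  exact GysinLib.c1CapFun_degree ⇑α (fun ξ hξ => hα ξ hξ) v hx

/-- The cap on cycles. -/
noncomputable def capHom [IsLocallyNoetherian X] (hL : PicF.IsInvertible L) (hd : Cyc.IsDimFun X δ) (k : ℤ)
    (v : (ξ : X) → Cyc.secFibre L ξ) (hv : ∀ ξ, v ξ ≠ 0) : ↥(ChowOps.zk X δ k) →+ ChowOps.CH X δ (k - 1) :=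
  AddMonoidHom.mk' (fun a => ChowOps.cl (c1CapCycle hL hd (a : AlgebraicCycle X ℤ) v hv) (capCycle_mem hL hd a.2 v hv))
    fun a b => by
      rw [← Bivar.cl_add _ _ (capCycle_mem hL hd a.2 v hv) (capCycle_mem hL hd b.2 v hv)]
      refine Bivar.cl_congr (DFunLike.coe_injective ?_) _ _
      rw [Function.locallyFinsuppWithin.coe_add, coe_c1CapCycle, coe_c1CapCycle, coe_c1CapCycle,
        ← Bivar.c1CapFun_add]
      rfl

variable (hX : Cyc.IsSetup X δ)

/-- The cap on Chow classes, with fixed sections. -/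
noncomputable def capCH (hL : PicF.IsInvertible L) (k : ℤ) : ChowOps.CH X δ k →+ ChowOps.CH X δ (k - 1) :=
  haveI := hX.1
  lift (capHom hL hX.2.2 k _ (exists_sections hL).choose_spec) fun a ha => by
    refine (cl_eq_of_ratEquiv (β := 0) (capCycle_mem hL hX.2.2 a.2 _ _) ((ChowOps.zk X δ (k - 1)).zero_mem) ?_).trans
      Bivar.cl_zero
    show Cyc.RatEquivZero δ (k - 1) (_ - 0)
    rw [sub_zero]
    refine RatOn.ratEquivZero (T := Set.univ) ?_
    rw [coe_c1CapCycle]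
    refine C1Desc.zeroOn_c1Cap hL hX.2.2 ?_ (exists_sections hL).choose_spec fun ξ ζ _ _ _ h => absurd trivial h
    rw [sub_add_cancel]
    exact RatOn.of_ratEquivZero ha

theorem capCH_cl [IsLocallyNoetherian X] (hL : PicF.IsInvertible L) {k : ℤ} {α : AlgebraicCycle X ℤ}
    (hα : α ∈ Cyc.Zk X δ k) {v : (ξ : X) → Cyc.secFibre L ξ} (hv : ∀ ξ, v ξ ≠ 0) {γ : AlgebraicCycle X ℤ}
    (hγ : ⇑γ = Cyc.c1CapFun δ L ⇑α v) (hγ' : γ ∈ Cyc.Zk X δ (k - 1)) :
    capCH hX hL k (ChowOps.cl α hα) = ChowOps.cl γ hγ' := by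
  refine cl_eq_of_ratEquiv (capCycle_mem hL hX.2.2 hα _ (exists_sections hL).choose_spec) hγ' ?_
  exact ratEquiv_c1Cap hL hX.2.2 (α := ⇑α) (fun ξ hξ => hα ξ (by omega)) (GysinLib.locFin α)
    (exists_sections hL).choose_spec hv (coe_c1CapCycle hL hX.2.2 α _ _) hγ

omit hX

variable {δX : X → ℤ} {L : X.Modules}

/-- The operational first Chern class. -/
noncomputable def c1 (hX : Cyc.IsSetup X δX) (hL : PicF.IsInvertible L) : Bivar.OpCl 1 X δX where
  op s k := capCH (isSetup_osq hX s) (PicClLib.isInvertible_pullback s.g hL) k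
  push s t h _ w k := by
    intro α hα
    have hs := isSetup_osq hX s
    have ht := isSetup_osq hX t
    haveI := hs.1
    haveI := ht.1
    have hδ := deltaCompat_hom h w
    have hLs := PicClLib.isInvertible_pullback s.g hL
    have hLt := PicClLib.isInvertible_pullback t.g hL
    have hLh := PicClLib.isInvertible_pullback h hLs
    obtain ⟨v, hv⟩ := exists_sections hLt
    obtain ⟨w', hw'⟩ := exists_sections hLs
    refine ⟨_, capCycle_mem hLt ht.2.2 hα v hv, capCH_cl ht hLt hα hv (coe_c1CapCycle hLt ht.2.2 α v hv) _, ?_⟩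
    rw [capCH_cl hs hLs (Bivar.cycMap_mem_Zk h t.δ s.δ k hα) hw'
      (coe_c1CapCycle hLs hs.2.2 _ w' hw') (capCycle_mem hLs hs.2.2 (Bivar.cycMap_mem_Zk h t.δ s.δ k hα) w' hw')]
    refine (cl_eq_of_ratEquiv _ _ ?_).symm
    have hu := mapSec_ne_zero (pbIso h w L) hv
    have hv' := C1Pull.vPull_ne_zero (p := h) hLs hw'
    have h1 := ratEquiv_c1Cap hLh ht.2.2 (k := k - 1) (α := ⇑α) (fun ξ hξ => hα ξ (by omega)) (GysinLib.locFin α)
      hu hv' (γ := c1CapCycle hLt ht.2.2 α v hv) (by rw [coe_c1CapCycle, c1CapFun_mapSec _ hLt hLh ht.2.2 _ hv])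
      (coe_c1CapCycle hLh ht.2.2 α _ hv')
    have h2 := CycLib.ratEquiv_map h ht hs hδ h1
    refine cast ?_ h2
    congr 1
    refine DFunLike.coe_injective ?_
    rw [coe_c1CapCycle]
    exact C1Push.map_c1Cap hLs ht.2.2 hs.2.2 hδ α hw'
  pull s t h _ r hr w k := by
    intro α hα
    have hs := isSetup_osq hX s
    have ht := isSetup_osq hX t
    haveI := hs.1
    haveI := ht.1
    haveI := s.lft
    haveI := t.lft
    haveI : LocallyOfFiniteType (h ≫ s.g) := w ▸ t.lft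
    haveI : LocallyOfFiniteType h := locallyOfFiniteType_of_comp h s.g
    have hc := FlatShift.hasShift_of_hasRelDim h hr (deltaCompat_hom h w)
    have hLs := PicClLib.isInvertible_pullback s.g hL
    have hLt := PicClLib.isInvertible_pullback t.g hL
    have hLh := PicClLib.isInvertible_pullback h hLs
    obtain ⟨w', hw'⟩ := exists_sections hLs
    refine ⟨_, capCycle_mem hLs hs.2.2 hα w' hw', capCH_cl hs hLs hα hw' (coe_c1CapCycle hLs hs.2.2 α w' hw') _,
      fun α₁ hα₁e hα₁ => ?_⟩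
    obtain ⟨v, hv⟩ := exists_sections hLt
    let β₁ : AlgebraicCycle t.Y ℤ :=
      { toFun := Cyc.pullFun h t.δ s.δ r ⇑(c1CapCycle hLs hs.2.2 α w' hw')
        supportWithinDomain' := fun _ _ => trivial
        supportLocallyFiniteWithinDomain' := fun z _ => C1Pull.locFin_pullFun hc ht.2.2
          (GysinLib.locFin (c1CapCycle hLs hs.2.2 α w' hw')) z }
    have hβ₁ : β₁ ∈ Cyc.Zk t.Y t.δ (k + r - 1) := by
      have := Bivar.pullFun_mem_Zk h t.δ s.δ r (k - 1) (capCycle_mem hLs hs.2.2 hα w' hw') β₁ rfl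
      rwa [show k - 1 + (r : ℤ) = k + r - 1 by ring] at this
    refine ⟨β₁, by rw [show k + (r : ℤ) - 1 = k + r - 1 from rfl]; exact hβ₁, rfl, ?_⟩
    rw [capCH_cl ht hLt hα₁ hv (coe_c1CapCycle hLt ht.2.2 α₁ v hv) (capCycle_mem hLt ht.2.2 hα₁ v hv)]
    refine (cl_eq_of_ratEquiv _ _ ?_).symm
    exact C1Pull.ratEquiv_pull hLs hLh hc hs.2.2 ht.2.2 α hα hw' (mapSec_ne_zero (pbIso h w L) hv)
      (γ₁ := β₁) rfl (by rw [coe_c1CapCycle, c1CapFun_mapSec _ hLt hLh ht.2.2 _ hv, hα₁e])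
  gysin s t i _ w L₀ hL₀ σ hσ k := by
    intro α hα
    have hs := isSetup_osq hX s
    have ht := isSetup_osq hX t
    haveI := hs.1
    haveI := ht.1
    have hδ := delta_closedImmersion i w
    have hLs := PicClLib.isInvertible_pullback s.g hL
    have hLt := PicClLib.isInvertible_pullback t.g hL
    have hLi := PicClLib.isInvertible_pullback i hLs
    obtain ⟨w', hw'⟩ := exists_sections hLs
    obtain ⟨v, hv⟩ := exists_sections hLt
    refine ⟨_, capCycle_mem hLs hs.2.2 hα w' hw', capCH_cl hs hLs hα hw' (coe_c1CapCycle hLs hs.2.2 α w' hw') _,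
      fun w₀ hw₀ γ hγe hγ => ?_⟩
    let ζ := GysinLib.gysinCycle hL₀ hs.2.2 i σ (c1CapCycle hLs hs.2.2 α w' hw') hw₀
    have hζe : ∀ d, ζ d = Cyc.c1CapFun s.δ L₀ ⇑(c1CapCycle hLs hs.2.2 α w' hw') (Cyc.gysinChoice L₀ σ w₀) (i d) :=
      fun d => rfl
    have hζ : ζ ∈ Cyc.Zk t.Y t.δ (k - 1 - 1) := fun d hd => by
      rw [hζe]
      exact GysinLib.c1CapFun_degree _ (fun ξ hξ => capCycle_mem hLs hs.2.2 hα w' hw' ξ hξ) _ (by
        rwa [hδ] at hd)
    refine ⟨ζ, hζ, hζe, ?_⟩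
    rw [capCH_cl ht hLt hγ hv (coe_c1CapCycle hLt ht.2.2 γ v hv) (capCycle_mem hLt ht.2.2 hγ v hv)]
    refine (cl_eq_of_ratEquiv _ _ ?_).symm
    have h1 := GysinLib.gysin_c1Cap (i := i) hL₀ hs.2.2 hσ (k := k - 2) α (fun x hx => hα x (by omega)) hw₀ hLs hw'
      (coe_c1CapCycle hLs hs.2.2 α w' hw') (γ := ⇑γ) hγe (mapSec_ne_zero (pbIso i w L) hv) (ζ₁ := ζ)
      (ζ₂ := c1CapCycle hLt ht.2.2 γ v hv) hζe
      (by rw [coe_c1CapCycle, c1CapFun_mapSec _ hLt hLi (hδ ▸ ht.2.2) _ hv, hδ])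
    rw [show k - 1 - 1 = k - 2 by ring]
    generalize c1CapCycle hLt ht.2.2 γ v hv = C at h1 ⊢
    rw [hδ]
    exact h1

theorem isC1Class (hX : Cyc.IsSetup X δX) (hL : PicF.IsInvertible L) : Bivar.IsC1Class L (c1 hX hL) := by
  refine ⟨hL, fun s k α hα v hv γ hγ hγ' => ?_⟩
  haveI := (isSetup_osq hX s).1
  exact capCH_cl (isSetup_osq hX s) (PicClLib.isInvertible_pullback s.g hL) hα hv hγ hγ'

end Groth.Agent.H23.C1Class
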