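import Groth.Agent.CycLib.LFT
import Groth.Agent.PopescuLib.IndCatenary
import Groth.Agent.DimFormula.Catenary
import Mathlib.RingTheory.RingHom.FiniteType
import Mathlib.RingTheory.Localization.LocalizationLocalization

/-! Schemes locally of finite type over a setup are setups. -/

set_option autoImplicit false
set_option linter.style.haveILetI false

universe u

open AlgebraicGeometry CategoryTheory

namespace Groth.Agent.H23.SetupLFT

open Groth.Agent

variable {X Y : Scheme.{u}} (g : Y ⟶ X) [LocallyOfFiniteType g]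

theorem isUniversallyCatenary_stalk (y : Y) (hcat : CAlg.IsUniversallyCatenary (X.presheaf.stalk (g y))) :
    CAlg.IsUniversallyCatenary (Y.presheaf.stalk y) := by
  obtain ⟨V, hV, hyV, -⟩ := exists_isAffineOpen_mem_and_subset (x := g y) (U := ⊤) trivial
  obtain ⟨U, hU, hyU, hUV⟩ := exists_isAffineOpen_mem_and_subset (x := y) (U := g ⁻¹ᵁ V) hyV
  let φ := (g.appLE V U hUV).hom
  let p := (hV.primeIdealOf ⟨g y, hyV⟩).asIdeal
  letI : Algebra Γ(X, V) (X.presheaf.stalk (g y)) := (X.presheaf.germ V (g y) hyV).hom.toAlgebra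
  haveI : IsLocalization.AtPrime (X.presheaf.stalk (g y)) p := hV.isLocalization_stalk ⟨g y, hyV⟩
  letI : Algebra Γ(Y, U) (Y.presheaf.stalk y) := (Y.presheaf.germ U y hyU).hom.toAlgebra
  haveI : IsLocalization.AtPrime (Y.presheaf.stalk y) (hU.primeIdealOf ⟨y, hyU⟩).asIdeal :=
    hU.isLocalization_stalk ⟨y, hyU⟩
  let M := p.primeCompl.map φ
  let B' := Localization M
  let ψ : X.presheaf.stalk (g y) →+* B' := IsLocalization.map B' φ (Submonoid.le_comap_map p.primeCompl)
  have hψ : ψ.FiniteType := RingHom.finiteType_localizationPreserves φ p.primeCompl (X.presheaf.stalk (g y)) B'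
    (g.finiteType_appLE hV hU hUV)
  letI := ψ.toAlgebra
  haveI : Algebra.FiniteType (X.presheaf.stalk (g y)) B' := hψ
  have hB : CAlg.IsUniversallyCatenary B' := PopescuLib.isUniversallyCatenary_of_finiteType hcat
  have hcomm : ∀ a, Y.presheaf.germ U y hyU (φ a) = (g.stalkMap y).hom (X.presheaf.germ V (g y) hyV a) := fun a => by
    rw [Scheme.Hom.germ_stalkMap_apply, show φ a = (g.appLE V U hUV).hom a from rfl, Scheme.Hom.appLE,
      CommRingCat.comp_apply, TopCat.Presheaf.germ_res_apply]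
  have hle : M ≤ (hU.primeIdealOf ⟨y, hyU⟩).asIdeal.primeCompl := by
    rintro _ ⟨a, ha, rfl⟩
    intro hmem
    have hu : IsUnit (X.presheaf.germ V (g y) hyV a) := IsLocalization.map_units (X.presheaf.stalk (g y)) (⟨a, ha⟩ : p.primeCompl)
    have h2 := hu.map (g.stalkMap y).hom
    rw [← hcomm] at h2
    exact (IsLocalization.AtPrime.isUnit_to_map_iff (Y.presheaf.stalk y) (hU.primeIdealOf ⟨y, hyU⟩).asIdeal _).1 h2 hmem
  letI : Algebra B' (Y.presheaf.stalk y) := (IsLocalization.lift (M := M) (g := algebraMap Γ(Y, U) (Y.presheaf.stalk y))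
    fun s => IsLocalization.map_units (Y.presheaf.stalk y) (⟨s.1, hle s.2⟩ :
      (hU.primeIdealOf ⟨y, hyU⟩).asIdeal.primeCompl)).toAlgebra
  haveI : IsScalarTower Γ(Y, U) B' (Y.presheaf.stalk y) :=
    IsScalarTower.of_algebraMap_eq fun r => (IsLocalization.lift_eq _ r).symm
  haveI := IsLocalization.isLocalization_of_submonoid_le B' (Y.presheaf.stalk y) M
    (hU.primeIdealOf ⟨y, hyU⟩).asIdeal.primeCompl hle
  exact DimFormula.isUniversallyCatenary_localization hB
    ((hU.primeIdealOf ⟨y, hyU⟩).asIdeal.primeCompl.map (algebraMap Γ(Y, U) B')) _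

theorem isSetup {δX : X → ℤ} {δ : Y → ℤ} (hX : Cyc.IsSetup X δX) (hδ : Cyc.DeltaCompat g δ δX) :
    Cyc.IsSetup Y δ := by
  haveI := hX.1
  exact ⟨LocallyOfFiniteType.isLocallyNoetherian g, fun y => isUniversallyCatenary_stalk g y (hX.2.1 (g y)),
    CycLib.isDimFun_of_deltaCompat g hX hδ⟩

end Groth.Agent.H23.SetupLFT
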