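import Groth.Prelude.Def_P1
import Mathlib.RingTheory.PolynomialAlgebra
import Mathlib.RingTheory.FiniteType
import Mathlib.AlgebraicGeometry.ProjectiveSpectrum.Proper
import Mathlib.AlgebraicGeometry.Properties
import Mathlib.AlgebraicGeometry.Morphisms.Proper

/-!
The two standard charts `Spec R[X] ⟶ P^1_R`.
-/

universe u

open CategoryTheory Limits AlgebraicGeometry Polynomial

namespace Groth.Agent.H23.P1Charts


/-- The base ring. -/
abbrev Z : Type u := ULift.{u} ℤ

/-- The coordinate map of the i-th chart. -/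
noncomputable abbrev θ (i : Fin (1 + 1)) :
    HomogeneousLocalization.Away P1.grading.{u} (P1.T i) →+* Z.{u}[X] :=
  P1.chartMap i Z.{u}[X] Polynomial.X

theorem castHom_eq : (Int.castRingHom Z.{u}[X]).comp ULift.ringEquiv.{0, u}.toRingHom = Polynomial.C := by
  refine RingHom.ext fun r => ?_
  obtain ⟨r⟩ := r
  exact (eq_intCast (Polynomial.C.comp (ULift.ringEquiv (R := ℤ)).symm.toRingHom) r).symm

/-- Dehomogenisation. -/
noncomputable abbrev ev (i : Fin (1 + 1)) : MvPolynomial (Fin (1 + 1)) Z.{u} →+* Z.{u}[X] :=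
  MvPolynomial.eval₂Hom Polynomial.C (Function.update (fun _ => Polynomial.X) i 1)

theorem ev_monomial (i : Fin (1 + 1)) (d : Fin (1 + 1) →₀ ℕ) (c : Z.{u}) :
    ev i (MvPolynomial.monomial d c) = Polynomial.monomial (d (1 - i)) c := by
  rw [ev, MvPolynomial.eval₂Hom_monomial, Finsupp.prod_fintype _ _ (fun _ => pow_zero _),
    Fin.prod_univ_two, ← Polynomial.C_mul_X_pow_eq_monomial]
  fin_cases i <;> simp

theorem ev_injective (i : Fin (1 + 1)) {n : ℕ} {p : MvPolynomial (Fin (1 + 1)) Z.{u}}
    (hp : p.IsHomogeneous n) (h : ev i p = 0) : p = 0 := by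
  classical
  refine MvPolynomial.ext _ _ fun d => ?_
  by_contra hd
  rw [MvPolynomial.coeff_zero] at hd
  have key : ∀ e ∈ p.support, e (1 - i) = d (1 - i) → e = d := fun e he h1 => by
    have h2 := hp (MvPolynomial.mem_support_iff.1 he)
    have h3 := hp hd
    simp only [Finsupp.weight_apply, Pi.one_apply, smul_eq_mul, mul_one] at h2 h3
    rw [Finsupp.sum_fintype _ _ (fun _ => rfl), Fin.sum_univ_two] at h2 h3
    ext j
    fin_cases i <;> fin_cases j <;> simp at h1 ⊢ <;> omega
  apply hd
  have h4 : Polynomial.coeff (ev i p) (d (1 - i)) = 0 := by rw [h]; simp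
  conv_lhs at h4 => rw [p.as_sum, map_sum]
  rw [Polynomial.finset_sum_coeff, Finset.sum_eq_single d] at h4
  · rw [ev_monomial, Polynomial.coeff_monomial, if_pos rfl] at h4
    exact h4
  · intro e he hed
    rw [ev_monomial, Polynomial.coeff_monomial, if_neg (fun hh => hed (key e he hh))]
  · intro hd'
    exact absurd (MvPolynomial.mem_support_iff.2 hd) hd'

theorem θ_mk (i : Fin (1 + 1)) (n : ℕ) (p : MvPolynomial (Fin (1 + 1)) Z.{u}) (hp : p ∈ P1.grading (n • 1)) :
    θ i (HomogeneousLocalization.Away.mk P1.grading (P1.X_mem i) n p hp) = ev i p := by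
  simp only [θ, P1.chartMap, RingHom.comp_apply, HomogeneousLocalization.algebraMap_apply,
    HomogeneousLocalization.Away.val_mk]
  rw [Localization.mk_eq_mk', IsLocalization.Away.lift, IsLocalization.lift_mk'_spec, castHom_eq]
  simp [MvPolynomial.eval₂_X, ev]

theorem θ_bijective (i : Fin (1 + 1)) : Function.Bijective (θ i) := by
  constructor
  · rw [injective_iff_map_eq_zero]
    intro a ha
    obtain ⟨n, p, hp, rfl⟩ := HomogeneousLocalization.Away.mk_surjective P1.grading (P1.X_mem i) a
    rw [θ_mk] at ha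
    have : p = 0 := ev_injective i ((MvPolynomial.mem_homogeneousSubmodule _ _).1 hp) ha
    subst this
    apply HomogeneousLocalization.val_injective
    simp [Localization.mk_zero]
  · intro f
    induction f using Polynomial.induction_on' with
    | add a b ha hb =>
      obtain ⟨a, rfl⟩ := ha
      obtain ⟨b, rfl⟩ := hb
      exact ⟨a + b, map_add _ _ _⟩
    | monomial m c =>
      refine ⟨HomogeneousLocalization.Away.mk P1.grading (P1.X_mem i) m
        (MvPolynomial.monomial (Finsupp.single (1 - i) m) c) ?_, ?_⟩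
      · rw [MvPolynomial.mem_homogeneousSubmodule, smul_eq_mul, mul_one]
        exact MvPolynomial.isHomogeneous_monomial _ (Finsupp.degree_single _ _)
      · rw [θ_mk, ev_monomial, Finsupp.single_eq_same]

/-- The chart of P^1 over ℤ. -/
noncomputable def chartZ (i : Fin (1 + 1)) : Spec (CommRingCat.of Z.{u}[X]) ⟶ CohB1.ProjSpace 1 Z.{u} :=
  Spec.map (CommRingCat.ofHom (θ i)) ≫ Proj.awayι P1.grading (P1.T i) (P1.X_mem i) one_pos

instance (i : Fin (1 + 1)) : IsOpenImmersion (chartZ.{u} i) := by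
  have : IsIso (CommRingCat.ofHom (θ.{u} i)) :=
    (ConcreteCategory.isIso_iff_bijective _).2 (θ_bijective i)
  have h1 : IsOpenImmersion (Spec.map (CommRingCat.ofHom (θ.{u} i))) := inferInstance
  have h2 : IsOpenImmersion (Proj.awayι P1.grading.{u} (P1.T i) (P1.X_mem i) one_pos) := inferInstance
  exact MorphismProperty.comp_mem @IsOpenImmersion _ _ h1 h2

theorem opensRange_chartZ (i : Fin (1 + 1)) :
    (chartZ.{u} i).opensRange = Proj.basicOpen P1.grading (P1.T i) := by
  have : IsIso (CommRingCat.ofHom (θ.{u} i)) :=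
    (ConcreteCategory.isIso_iff_bijective _).2 (θ_bijective i)
  exact (Scheme.Hom.opensRange_comp_of_isIso (Spec.map (CommRingCat.ofHom (θ.{u} i)))
    (Proj.awayι P1.grading.{u} (P1.T i) (P1.X_mem i) one_pos)).trans (Proj.opensRange_awayι _ _ _ _)

theorem iSup_chartZ : ⨆ i, (chartZ.{u} i).opensRange = ⊤ := by
  simp only [opensRange_chartZ]
  refine Proj.iSup_basicOpen_eq_top' _ _ (fun i => ⟨1, P1.X_mem i⟩) ?_
  refine top_le_iff.1 fun p _ => ?_
  induction p using MvPolynomial.induction_on with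
  | C r => exact Subalgebra.algebraMap_mem _ (⟨MvPolynomial.C r, MvPolynomial.isHomogeneous_C _ _⟩ : P1.grading 0)
  | add a b ha hb => exact add_mem (ha trivial) (hb trivial)
  | mul_X a j ha => exact mul_mem (ha trivial) (Algebra.subset_adjoin ⟨j, rfl⟩)

variable (R : Type u) [CommRing R]

/-- The base map. -/
noncomputable abbrev up : Z.{u} →+* R := (Int.castRingHom R).comp ULift.ringEquiv.toRingHom

/-- The coefficient change. -/
noncomputable abbrev upX : Z.{u}[X] →+* R[X] := Polynomial.mapRingHom (up R)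

/-- The chart of P^1 over R. -/
noncomputable def chart (i : Fin (1 + 1)) :
    Spec (CommRingCat.of R[X]) ⟶ CohB1.ProjSpaceOver 1 (Spec (CommRingCat.of R)) :=
  pullback.lift (Spec.map (CommRingCat.ofHom (upX R)) ≫ chartZ i)
    (Spec.map (CommRingCat.ofHom Polynomial.C)) (specULiftZIsTerminal.hom_ext _ _)

theorem chart_toBase (i : Fin (1 + 1)) :
    chart R i ≫ CohB1.ProjSpaceOver.toBase 1 _ = Spec.map (CommRingCat.ofHom Polynomial.C) :=
  pullback.lift_snd _ _ _

theorem chart_fst (i : Fin (1 + 1)) :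
    chart R i ≫ pullback.fst _ _ = Spec.map (CommRingCat.ofHom (upX R)) ≫ chartZ i :=
  pullback.lift_fst _ _ _

theorem isPushout_map (A B : Type u) [CommRing A] [CommRing B] (g : A →+* B) :
    IsPushout (CommRingCat.ofHom g) (CommRingCat.ofHom (Polynomial.C (R := A)))
      (CommRingCat.ofHom (Polynomial.C (R := B))) (CommRingCat.ofHom (Polynomial.mapRingHom g)) := by
  let : Algebra A B := g.toAlgebra
  let : Algebra A[X] B[X] := Polynomial.algebra A B
  have : IsScalarTower A A[X] B[X] := IsScalarTower.of_algebraMap_eq' (RingHom.ext fun r => (Polynomial.map_C (algebraMap A B)).symm)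
  exact CommRingCat.isPushout_of_isPushout A B A[X] B[X]

theorem isPullback_chart (i : Fin (1 + 1)) :
    IsPullback (Spec.map (CommRingCat.ofHom (upX R))) (chart R i) (chartZ i)
      (pullback.fst (CohB1.ProjSpace.toSpec 1 Z.{u}) (specULiftZIsTerminal.from (Spec (CommRingCat.of R)))) := by
  refine IsPullback.of_bot ?_ (chart_fst R i).symm
    (IsPullback.of_hasPullback (CohB1.ProjSpace.toSpec 1 Z.{u})
      (specULiftZIsTerminal.from (Spec (CommRingCat.of R))))
  have hp := isPullback_SpecMap_of_isPushout _ _ _ _ (isPushout_map Z.{u} R (up R))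
  have e1 : chartZ i ≫ CohB1.ProjSpace.toSpec 1 Z.{u} =
      Spec.map (CommRingCat.ofHom (Polynomial.C (R := Z.{u}))) := specULiftZIsTerminal.hom_ext _ _
  have e2 : chart R i ≫ pullback.snd (CohB1.ProjSpace.toSpec 1 Z.{u})
      (specULiftZIsTerminal.from (Spec (CommRingCat.of R))) =
      Spec.map (CommRingCat.ofHom (Polynomial.C (R := R))) := chart_toBase R i
  rw [e1, e2, specULiftZIsTerminal.hom_ext (specULiftZIsTerminal.from (Spec (CommRingCat.of R)))
    (Spec.map (CommRingCat.ofHom (up R)))]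
  exact hp.flip

instance (i : Fin (1 + 1)) : IsOpenImmersion (chart R i) :=
  MorphismProperty.of_isPullback (P := @IsOpenImmersion) (isPullback_chart R i) inferInstance

theorem range_chart (i : Fin (1 + 1)) : Set.range (chart R i) =
    (pullback.fst (CohB1.ProjSpace.toSpec 1 Z.{u}) (specULiftZIsTerminal.from (Spec (CommRingCat.of R)))) ⁻¹'
      Set.range (chartZ i) := by
  have h := (isPullback_chart R i).flip
  rw [← h.isoPullback_hom_fst, Scheme.Hom.comp_base, TopCat.coe_comp, Set.range_comp,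
    Set.range_eq_univ.2 h.isoPullback.hom.surjective, Set.image_univ, Scheme.Pullback.range_fst]
  rfl

theorem exists_chart (x : CohB1.ProjSpaceOver 1 (Spec (CommRingCat.of R))) :
    ∃ (i : Fin (1 + 1)) (y : Spec (CommRingCat.of R[X])), chart R i y = x := by
  obtain ⟨i, hi⟩ := TopologicalSpace.Opens.mem_iSup.1 (iSup_chartZ.{u}.ge
    (Set.mem_univ ((pullback.fst (CohB1.ProjSpace.toSpec 1 Z.{u})
      (specULiftZIsTerminal.from (Spec (CommRingCat.of R)))) x)))
  exact ⟨i, (range_chart R i).ge hi⟩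

theorem range_inter_nonempty [Nontrivial R] :
    (Set.range (chart R 0) ∩ Set.range (chart R 1)).Nonempty := by
  obtain ⟨p⟩ : Nonempty (Spec (CommRingCat.of R)) :=
    inferInstanceAs (Nonempty (PrimeSpectrum R))
  let x : Spec (CommRingCat.of R[X]) := Spec.map (CommRingCat.ofHom (Polynomial.evalRingHom 1)) p
  refine ⟨_, ⟨x, rfl⟩, (range_chart R 1).ge ?_⟩
  show (chart R 0 ≫ pullback.fst _ _) x ∈ Set.range (chartZ 1)
  rw [chart_fst]
  change _ ∈ (chartZ 1).opensRange
  rw [opensRange_chartZ, Scheme.Hom.comp_apply, chartZ, Scheme.Hom.comp_apply]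
  change _ ∈ Proj.awayι _ _ _ _ ⁻¹ᵁ Proj.basicOpen _ _
  rw [Proj.awayι_preimage_basicOpen _ (P1.X_mem 0) one_pos (P1.X_mem 1) one_pos]
  intro hmem
  have h1 : θ 0 (HomogeneousLocalization.Away.isLocalizationElem (P1.X_mem 0) (P1.X_mem 1)) =
      Polynomial.X := by
    rw [HomogeneousLocalization.Away.isLocalizationElem, θ_mk]
    simp [ev]
  change Polynomial.evalRingHom 1 (upX R (θ 0 _)) ∈ p.asIdeal at hmem
  rw [h1] at hmem
  simp at hmem
  exact p.2.ne_top ((Ideal.eq_top_iff_one _).2 hmem)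

instance [IsDomain R] : IsIntegral (CohB1.ProjSpaceOver 1 (Spec (CommRingCat.of R))) := by
  have : IsReduced (CohB1.ProjSpaceOver 1 (Spec (CommRingCat.of R))) := by
    have : ∀ x, _root_.IsReduced ((CohB1.ProjSpaceOver 1 (Spec (CommRingCat.of R))).presheaf.stalk x) := by
      intro x
      obtain ⟨i, y, rfl⟩ := exists_chart R x
      exact isReduced_of_injective ((chart R i).stalkMap y).hom
        (ConcreteCategory.bijective_of_isIso _).1
    exact isReduced_of_isReduced_stalk _
  have : IrreducibleSpace (CohB1.ProjSpaceOver 1 (Spec (CommRingCat.of R))) := by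
    rw [irreducibleSpace_def, Set.top_eq_univ]
    have hirr : ∀ i, IsIrreducible (Set.range (chart R i)) := fun i => by
      rw [← Set.image_univ]
      exact (IrreducibleSpace.isIrreducible_univ _).image _ (chart R i).continuous.continuousOn
    have hne := range_inter_nonempty R
    refine ⟨hne.mono (Set.subset_univ _), fun A B hA hB hA' hB' => ?_⟩
    obtain ⟨a, -, ha⟩ := hA'
    obtain ⟨b, -, hb⟩ := hB'
    obtain ⟨i, a', rfl⟩ := exists_chart R a
    obtain ⟨j, b', rfl⟩ := exists_chart R b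
    have key : ∀ l m, (Set.range (chart R l) ∩ Set.range (chart R m)).Nonempty := by
      intro l m
      fin_cases l <;> fin_cases m
      · exact hne.mono (fun z hz => ⟨hz.1, hz.1⟩)
      · exact hne
      · exact hne.mono (fun z hz => ⟨hz.2, hz.1⟩)
      · exact hne.mono (fun z hz => ⟨hz.2, hz.2⟩)
    obtain ⟨z, hz, hzA, hzj⟩ := (hirr i).2 A _ hA (chart R j).isOpenEmbedding.isOpen_range
      ⟨_, ⟨a', rfl⟩, ha⟩ (key i j)
    obtain ⟨w, hw, hwB, hwA⟩ := (hirr j).2 B A hB hA ⟨_, ⟨b', rfl⟩, hb⟩ ⟨z, hzj, hzA⟩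
    exact ⟨w, trivial, hwA, hwB⟩
  exact isIntegral_of_irreducibleSpace_of_isReduced _

theorem isProper_toSpec : IsProper (CohB1.ProjSpace.toSpec 1 Z.{u}) := by
  have : IsScalarTower Z.{u} (CohB1.polyGrading 1 Z.{u} 0) (MvPolynomial (Fin (1 + 1)) Z.{u}) :=
    IsScalarTower.of_algebraMap_eq' (R := Z.{u}) (S := CohB1.polyGrading 1 Z.{u} 0)
      (A := MvPolynomial (Fin (1 + 1)) Z.{u}) (RingHom.ext fun _ => rfl)
  have : Algebra.FiniteType (CohB1.polyGrading 1 Z.{u} 0) (MvPolynomial (Fin (1 + 1)) Z.{u}) :=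
    Algebra.FiniteType.of_restrictScalars_finiteType Z.{u} _ _
  have : IsIso (CommRingCat.ofHom (algebraMap Z.{u} (CohB1.polyGrading 1 Z.{u} 0))) := by
    rw [ConcreteCategory.isIso_iff_bijective]
    refine ⟨fun a b h => MvPolynomial.C_injective _ _ (congrArg Subtype.val h), fun ⟨p, hp⟩ => ?_⟩
    exact ⟨p.coeff 0, Subtype.ext (MvPolynomial.totalDegree_eq_zero_iff_eq_C.1
      (Nat.le_zero.1 ((MvPolynomial.mem_homogeneousSubmodule _ _).1 hp).totalDegree_le)).symm⟩
  have h1 : IsProper (Proj.toSpecZero (CohB1.polyGrading 1 Z.{u})) := inferInstance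
  have h2 : IsProper (Spec.map (CommRingCat.ofHom (algebraMap Z.{u} (CohB1.polyGrading 1 Z.{u} 0)))) := inferInstance
  exact MorphismProperty.comp_mem @IsProper _ _ h1 h2

instance (S : Scheme.{u}) : IsProper (CohB1.ProjSpaceOver.toBase 1 S) :=
  MorphismProperty.pullback_snd _ _ isProper_toSpec

end Groth.Agent.H23.P1Charts
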