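import Groth.Agent.H23.TwistLcm
import Groth.Agent.VAmpleX.Immersion
import Groth.Agent.PnCoh.Chow.Proper
import Mathlib.AlgebraicGeometry.ProjectiveSpectrum.Proper

/-!
# Very ample twisting sheaves on `Proj` of a finitely generated graded algebra
-/

universe u

open CategoryTheory CategoryTheory.Limits AlgebraicGeometry TopologicalSpace Opposite HomogeneousLocalization

set_option backward.isDefEq.respectTransparency false
set_option backward.isDefEq.respectTransparency.types false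
set_option linter.style.haveILetI false

namespace Groth.Agent.H23.ProjVeryAmple

open Groth.Agent

variable {R A : Type u} [CommRing R] [CommRing A] [Algebra R A]
  (𝒜 : ℕ → Submodule R A) [GradedAlgebra 𝒜]

/-- The structure map of `Proj`. -/
noncomputable def str : Proj 𝒜 ⟶ Spec (CommRingCat.of R) :=
  Proj.toSpecZero 𝒜 ≫ Spec.map (CommRingCat.ofHom (algebraMap R (𝒜 0)))

variable {𝒜}

theorem ι_str {g : A} {n : ℕ} (hg : g ∈ 𝒜 n) (hn : 0 < n) :
    (Proj.basicOpen 𝒜 g).ι ≫ str 𝒜 = (Proj.basicOpen 𝒜 g).toSpecΓ ≫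
      Spec.map (CommRingCat.ofHom (algebraMap R (𝒜 0)) ≫
        CommRingCat.ofHom (HomogeneousLocalization.fromZeroRingHom 𝒜 _) ≫ Proj.awayToSection 𝒜 g) := by
  have h : (Proj.basicOpen 𝒜 g).ι = (Proj.basicOpenIsoSpec 𝒜 g hg hn).hom ≫ Proj.awayι 𝒜 g hg hn := by
    rw [Proj.awayι, Iso.hom_inv_id_assoc]
  rw [str, h, Category.assoc, Proj.awayι_toSpecZero_assoc, Proj.basicOpenIsoSpec_hom, Proj.basicOpenToSpec,
    Spec.map_comp, Spec.map_comp]
  simp only [Category.assoc]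

theorem awayToSection_algebraMap_mem {g : A} {n : ℕ} (hg : g ∈ 𝒜 n) (hn : 0 < n)
    (P : Subring Γ(Proj 𝒜, Proj.basicOpen 𝒜 g))
    (hP : Set.range (VAmpleX.baseFn (str 𝒜) (Proj.basicOpen 𝒜 g)) ⊆ P) (r : R) :
    (Proj.awayToSection 𝒜 g).hom (HomogeneousLocalization.fromZeroRingHom 𝒜 (Submonoid.powers g) (algebraMap R (𝒜 0) r)) ∈ P := by
  refine hP ⟨(Scheme.ΓSpecIso (CommRingCat.of R)).inv r, ?_⟩
  let D := Proj.basicOpen 𝒜 g
  have h1 : (str 𝒜).appLE ⊤ D le_top = (D.ι ≫ str 𝒜).appTop ≫ D.topIso.hom := by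
    simp [Scheme.Hom.appLE, ← Functor.map_comp]
  have h2 : (str 𝒜).appLE ⊤ D le_top = (Scheme.ΓSpecIso _).hom ≫ (CommRingCat.ofHom (algebraMap R (𝒜 0)) ≫
      CommRingCat.ofHom (HomogeneousLocalization.fromZeroRingHom 𝒜 _) ≫ Proj.awayToSection 𝒜 g) := by
    rw [h1, ι_str hg hn, Scheme.Hom.comp_appTop, Category.assoc, Scheme.Opens.toSpecΓ_appTop]
    simp only [Category.assoc]
    exact Scheme.ΓSpecIso_naturality _
  show ((str 𝒜).appLE ⊤ D le_top).hom _ = _
  rw [h2]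
  simp
  rfl

theorem sec_eq_smul {g b : A} {n : ℕ} (hg : g ∈ 𝒜 n) (hb : b ∈ 𝒜 n) :
    AModX.res (Twist.twist 𝒜 (n : ℤ)) (le_top : Proj.basicOpen 𝒜 g ≤ ⊤) (TwistLcm.sec hb) =
      (Proj.awayToSection 𝒜 g).hom (Away.mk 𝒜 hg 1 b (by rwa [one_smul])) •
        AModX.res (Twist.twist 𝒜 (n : ℤ)) (le_top : Proj.basicOpen 𝒜 g ≤ ⊤) (TwistLcm.sec hg) := by
  refine Subtype.ext (funext fun x => Subtype.ext ?_)
  refine Eq.trans ?_ (Twist.coe_smul_val (n : ℤ) x.1 _ _).symm
  erw [ProjectiveSpectrum.Proj.awayToSection_apply]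
  rw [Away.val_mk]
  exact ProjUPX.loc_aux _ b g x.2 _

omit [GradedAlgebra 𝒜] in
theorem prod_mem_prod {ι : Type*} (t : Finset ι) (M : ι → Submodule R A) (x : ι → A) (h : ∀ i ∈ t, x i ∈ M i) :
    ∏ i ∈ t, x i ∈ ∏ i ∈ t, M i := by
  classical
  induction t using Finset.induction_on with
  | empty => simpa using Submodule.mem_one.2 ⟨1, map_one _⟩
  | insert a t ha ih =>
    rw [Finset.prod_insert ha, Finset.prod_insert ha]
    exact Submodule.mul_mem_mul (h a (Finset.mem_insert_self _ _)) (ih fun i hi => h i (Finset.mem_insert_of_mem hi))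

/-- The criterion. -/
theorem exists_closedImmersion {s : ℕ} (f : Fin s → A) (deg : Fin s → ℕ) (hf : ∀ i, f i ∈ 𝒜 (deg i))
    (hgen : Algebra.adjoin R (Set.range f) = ⊤) (hdeg : ∀ i, 0 < deg i) {n : ℕ} (hn : 0 < n)
    {κ : Type u} [Fintype κ] (g : κ → 𝒜 n) (hcov : ∀ x : Proj 𝒜, ∃ i, x ∈ Proj.basicOpen 𝒜 (g i : A))
    (hspan : ∀ i, ∀ k : ℕ, ∀ a ∈ 𝒜 (k • n), ∃ M, a * (g i : A) ^ M ∈ 𝒜 n ^ (k + M)) :
    ∃ (N : ℕ) (i : Proj 𝒜 ⟶ CohB1.ProjSpaceOver N (Spec (CommRingCat.of R))), IsClosedImmersion i ∧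
      i ≫ pullback.snd (CohB1.ProjSpace.toSpec N (ULift.{u} ℤ)) (specULiftZIsTerminal.from (Spec (CommRingCat.of R))) =
        str 𝒜 ∧
      Nonempty (Twist.twist 𝒜 (n : ℤ) ≅
        (Scheme.Modules.pullback i).obj (Twist.twistOver N (Spec (CommRingCat.of R)) 1)) := by
  classical
  have hA0 : ∀ z : 𝒜 0, ∃ r : R, algebraMap R (𝒜 0) r = z := fun z => by
    have hz := ZeroCycLib.le_span_monomials 𝒜 f deg hf hgen 0 z.2
    rw [show (fun e : Fin s → ℕ => ∏ i, f i ^ e i) '' {e | ∑ i, e i * deg i = 0} = {1} from ?_,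
      Submodule.mem_span_singleton] at hz
    · obtain ⟨r, hr⟩ := hz
      exact ⟨r, Subtype.ext ((Algebra.smul_def r (1 : A)).symm.trans hr ▸ (mul_one _).symm)⟩
    · refine Set.eq_singleton_iff_unique_mem.2 ⟨⟨0, by simp, by simp⟩, ?_⟩
      rintro _ ⟨e, he, rfl⟩
      refine Finset.prod_eq_one fun i _ => ?_
      have := (Finset.sum_eq_zero_iff.1 (show ∑ i, e i * deg i = 0 from he)) i (Finset.mem_univ i)
      rw [(Nat.mul_eq_zero.1 this).resolve_right (hdeg i).ne', pow_zero]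
  obtain ⟨T, hT⟩ : (𝒜 n).FG := by
    have hfin : {e : Fin s → ℕ | ∑ i, e i * deg i = n}.Finite := by
      refine (Set.Finite.pi (t := fun _ : Fin s => Set.Iic n) fun _ => Set.finite_Iic n).subset ?_
      intro e he i _
      refine le_trans (Nat.le_mul_of_pos_right _ (hdeg i)) ?_
      exact le_trans (Finset.single_le_sum (f := fun j => e j * deg j) (fun j _ => Nat.zero_le _)
        (Finset.mem_univ i)) (le_of_eq he)
    refine Submodule.fg_def.2 ⟨_, hfin.image (fun e : Fin s → ℕ => ∏ i, f i ^ e i), le_antisymm ?_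
      (ZeroCycLib.le_span_monomials 𝒜 f deg hf hgen n)⟩
    rw [Submodule.span_le]
    rintro _ ⟨e, he, rfl⟩
    exact (show ∑ i, e i * deg i = n from he) ▸ ZeroCycLib.monomial_mem 𝒜 f deg hf e
  have hTn : ∀ t ∈ T, t ∈ 𝒜 n := fun t ht => hT ▸ Submodule.subset_span ht
  have hcovn : ∀ x : Proj 𝒜, ∃ b : 𝒜 n, x ∈ Proj.basicOpen 𝒜 (b : A) := fun x =>
    (hcov x).elim fun i hi => ⟨g i, hi⟩
  refine (?main : RelAmple.IsRelVeryAmplePn (str 𝒜) (Twist.twist 𝒜 (n : ℤ)) → _) (VAmpleX.exists_immersion' (str 𝒜) (Twist.twist 𝒜 (n : ℤ))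
    (TwistLcm.isInvertible hcovn) (fun k => TwistLcm.sec (g k).2) (fun k => Proj.basicOpen 𝒜 (g k : A))
    (fun k => TwistLcm.genLocus_sec hcovn (g k).2)
    (fun k => Proj.isAffineOpen_basicOpen 𝒜 _ (g k).2 hn) hcov (fun _ => ((T : Set A) : Type u))
    (fun k t => (Proj.awayToSection 𝒜 (g k : A)).hom (Away.mk 𝒜 (g k).2 1 t.1 (by rw [one_smul]; exact hTn _ t.2)))
    (fun _ t => TwistLcm.sec (hTn _ t.2)) (fun k t => sec_eq_smul (g k).2 (hTn _ t.2)) ?hg)
  case main =>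
    rintro ⟨N, i, hi, hcomp, hiso⟩
    haveI : IsProper (CohB1.ProjSpace.toSpec N (ULift.{u} ℤ)) := PnCoh.Chow.isProper_toSpec N _
    haveI : IsSeparated (pullback.snd (CohB1.ProjSpace.toSpec N (ULift.{u} ℤ))
        (specULiftZIsTerminal.from (Spec (CommRingCat.of R)))) := MorphismProperty.pullback_snd _ _ inferInstance
    haveI : IsProper (str 𝒜) := by
      haveI : IsScalarTower R (𝒜 0) A := ⟨fun r z a => smul_mul_assoc r (z : A) a⟩
      haveI : Algebra.FiniteType R A := ⟨⟨(Finset.univ.image f), by simpa using hgen⟩⟩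
      haveI : Algebra.FiniteType (𝒜 0) A := Algebra.FiniteType.of_restrictScalars_finiteType R (𝒜 0) A
      haveI : IsClosedImmersion (Spec.map (CommRingCat.ofHom (algebraMap R (𝒜 0)))) :=
        IsClosedImmersion.spec_of_surjective _ fun z => hA0 z
      exact MorphismProperty.comp_mem _ (Proj.toSpecZero 𝒜) _ inferInstance inferInstance
    haveI : IsProper (i ≫ pullback.snd (CohB1.ProjSpace.toSpec N (ULift.{u} ℤ))
        (specULiftZIsTerminal.from (Spec (CommRingCat.of R)))) := by rw [hcomp]; infer_instance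
    haveI : IsProper i := IsProper.of_comp i (pullback.snd (CohB1.ProjSpace.toSpec N (ULift.{u} ℤ))
      (specULiftZIsTerminal.from (Spec (CommRingCat.of R))))
    exact ⟨N, i, IsClosedImmersion.of_isPreimmersion i i.isClosedMap.isClosed_range, hcomp, hiso⟩
  case hg =>
    intro j P hP hPb
    refine eq_top_iff.2 fun x _ => ?_
    obtain ⟨y, rfl⟩ : ∃ y, (Proj.awayToSection 𝒜 (g j : A)).hom y = x :=
      (ConcreteCategory.bijective_of_isIso (Proj.basicOpenIsoAway 𝒜 (g j : A) (g j).2 hn).hom).2 x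
    obtain ⟨k, a, ha, rfl⟩ := Away.mk_surjective 𝒜 (g j).2 y
    let S : Subring (Away 𝒜 (g j : A)) := P.comap (Proj.awayToSection 𝒜 (g j : A)).hom
    change Away.mk 𝒜 (g j).2 k a ha ∈ S
    have hR : ∀ r : R, fromZeroRingHom 𝒜 _ (algebraMap R (𝒜 0) r) ∈ S :=
      awayToSection_algebraMap_mem (g j).2 hn P hP
    have hlin : ∀ b (hb : b ∈ 𝒜 n), Away.mk 𝒜 (g j).2 1 b (by rwa [one_smul]) ∈ S := by
      intro b hb
      obtain ⟨_, h⟩ : ∃ hb : b ∈ 𝒜 (1 • n), Away.mk 𝒜 (g j).2 1 b hb ∈ S := by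
        rw [← hT] at hb
        induction hb using Submodule.span_induction with
        | mem b hb => exact ⟨by rw [one_smul]; exact hTn _ hb, hPb ⟨⟨b, hb⟩, rfl⟩⟩
        | zero =>
          refine ⟨zero_mem _, ?_⟩
          convert zero_mem S
          apply val_injective
          simp [Localization.mk_zero]
        | add b c _ _ hb hc =>
          obtain ⟨hb, hb'⟩ := hb
          obtain ⟨hc, hc'⟩ := hc
          refine ⟨add_mem hb hc, ?_⟩
          convert add_mem hb' hc'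
          apply val_injective
          simp [Localization.add_mk_self]
        | smul r b _ hb =>
          obtain ⟨hb, hb'⟩ := hb
          refine ⟨Submodule.smul_mem _ r hb, ?_⟩
          convert mul_mem (hR r) hb'
          apply val_injective
          rw [val_mul, Away.val_mk, Away.val_mk]
          show _ = Localization.mk (algebraMap R A r) 1 * _
          rw [Localization.mk_mul, one_mul, Algebra.smul_def]
      exact h
    obtain ⟨M, hM⟩ := hspan j k a ha
    obtain ⟨ha', h⟩ : ∃ h : a * (g j : A) ^ M ∈ 𝒜 ((k + M) • n), Away.mk 𝒜 (g j).2 (k + M) _ h ∈ S := by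
      generalize a * (g j : A) ^ M = c at hM
      generalize k + M = m at hM
      induction hM using Submodule.pow_induction_on_left' with
      | algebraMap r =>
        refine ⟨by rw [zero_smul]; exact SetLike.algebraMap_mem_graded _ r, ?_⟩
        convert hR r
        apply val_injective
        rw [Away.val_mk]
        show _ = Localization.mk (algebraMap R A r) 1
        simp
        rfl
      | add x y i _ _ hx hy =>
        obtain ⟨hx, hx'⟩ := hx
        obtain ⟨hy, hy'⟩ := hy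
        refine ⟨add_mem hx hy, ?_⟩
        convert add_mem hx' hy'
        apply val_injective
        simp [Localization.add_mk_self]
      | mem_mul b hb i x _ hx =>
        obtain ⟨hx, hx'⟩ := hx
        refine ⟨by rw [succ_nsmul']; exact SetLike.mul_mem_graded hb hx, ?_⟩
        convert mul_mem (hlin b hb) hx'
        apply val_injective
        simp [Localization.mk_mul, pow_succ']
    convert h using 1
    apply val_injective
    rw [Away.val_mk, Away.val_mk, Localization.mk_eq_mk_iff, Localization.r_iff_exists]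
    exact ⟨1, by simp [pow_add]; ring⟩

section MixedDegree

variable {s : ℕ} {f : Fin s → A} {deg : Fin s → ℕ}

theorem le_pow_lcm (hdeg : ∀ i, 0 < deg i) (hf : ∀ i, f i ∈ 𝒜 (deg i))
    (hgen : Algebra.adjoin R (Set.range f) = ⊤) {a : ℕ} (ha : 0 < a) (has : s - 1 ≤ a) :
    ∀ k : ℕ, 𝒜 (k * (a * Finset.univ.lcm deg)) ≤ 𝒜 (a * Finset.univ.lcm deg) ^ k := by
  set L := Finset.univ.lcm deg
  have hn : (s - 1) * (L - 1) ≤ a * L := Nat.mul_le_mul has (Nat.sub_le _ _)
  have hstep : ∀ m, a * L ≤ m → 𝒜 (m + a * L) ≤ 𝒜 m * 𝒜 (a * L) := by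
    intro m hm
    have aux : ∀ j, 0 < j → 𝒜 (m + j * L) ≤ 𝒜 m * 𝒜 (j * L) := by
      intro j hj
      induction j with
      | zero => omega
      | succ j ih =>
        rcases Nat.eq_zero_or_pos j with rfl | hj'
        · simp only [zero_add, one_mul]
          exact (ZeroCycLib.le_mul_lcm 𝒜 f deg hdeg hf hgen m (hn.trans hm)).le
        · rw [Nat.succ_mul, ← add_assoc,
            ZeroCycLib.le_mul_lcm 𝒜 f deg hdeg hf hgen _ (hn.trans (hm.trans (Nat.le_add_right _ _)))]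
          refine (mul_le_mul' (ih hj') le_rfl).trans ?_
          rw [mul_assoc]
          exact mul_le_mul' le_rfl (ZeroCycLib.mul_le 𝒜 _ _)
    exact aux a ha
  intro k
  induction k with
  | zero =>
    rw [zero_mul, pow_zero]
    refine (ZeroCycLib.le_span_monomials 𝒜 f deg hf hgen 0).trans (Submodule.span_le.2 ?_)
    rintro _ ⟨e, he, rfl⟩
    refine Submodule.mem_one.2 ⟨1, ?_⟩
    rw [map_one]
    refine (Finset.prod_eq_one fun i _ => ?_).symm
    have := (Finset.sum_eq_zero_iff.1 (show ∑ i, e i * deg i = 0 from he)) i (Finset.mem_univ i)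
    rw [(Nat.mul_eq_zero.1 this).resolve_right (hdeg i).ne', pow_zero]
  | succ k ih =>
    rcases Nat.eq_zero_or_pos k with rfl | hk
    · simp
    · rw [Nat.succ_mul, pow_succ]
      exact (hstep _ (Nat.le_mul_of_pos_left _ hk)).trans (mul_le_mul' ih le_rfl)

theorem exists_closedImmersion_lcm (hdeg : ∀ i, 0 < deg i) (hf : ∀ i, f i ∈ 𝒜 (deg i))
    (hgen : Algebra.adjoin R (Set.range f) = ⊤) {a : ℕ} (ha : 0 < a) (has : s - 1 ≤ a) :
    ∃ (N : ℕ) (i : Proj 𝒜 ⟶ CohB1.ProjSpaceOver N (Spec (CommRingCat.of R))), IsClosedImmersion i ∧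
      i ≫ pullback.snd (CohB1.ProjSpace.toSpec N (ULift.{u} ℤ)) (specULiftZIsTerminal.from (Spec (CommRingCat.of R))) =
        str 𝒜 ∧
      Nonempty (Twist.twist 𝒜 ((a * Finset.univ.lcm deg : ℕ) : ℤ) ≅
        (Scheme.Modules.pullback i).obj (Twist.twistOver N (Spec (CommRingCat.of R)) 1)) := by
  have hd : ∀ i, deg i ∣ a * Finset.univ.lcm deg := fun i => (Finset.dvd_lcm (Finset.mem_univ i)).mul_left a
  choose q hq using hd
  have hmem : ∀ i, f i ^ q i ∈ 𝒜 (a * Finset.univ.lcm deg) := fun i => by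
    rw [hq i, mul_comm]; simpa using SetLike.pow_mem_graded (q i) (hf i)
  refine exists_closedImmersion f deg hf hgen hdeg (Nat.mul_pos ha (TwistLcm.lcm_pos hdeg))
    (fun i : ULift.{u} (Fin s) => ⟨f i.down ^ q i.down, hmem _⟩) (fun x => ?_) fun i k c hc => ⟨0, ?_⟩
  · obtain ⟨i, hi⟩ := TwistLcm.exists_notMem hdeg hf hgen x
    exact ⟨⟨i⟩, TwistX.notMem_pow hi _⟩
  · rw [pow_zero, mul_one, add_zero]
    exact le_pow_lcm hdeg hf hgen ha has k hc

end MixedDegree

section CoveredDegreeOne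

omit [GradedAlgebra 𝒜] in
theorem exists_finite_gens (d : ℕ) (hgen : Algebra.adjoin R (⋃ i ∈ Finset.Icc 1 d, (𝒜 i : Set A)) = ⊤)
    [Algebra.FiniteType R A] : ∃ (s : ℕ) (f : Fin s → A) (deg : Fin s → ℕ),
      (∀ i, f i ∈ 𝒜 (deg i)) ∧ (∀ i, 1 ≤ deg i ∧ deg i ≤ d) ∧ Algebra.adjoin R (Set.range f) = ⊤ := by
  classical
  let U : Set A := ⋃ i ∈ Finset.Icc 1 d, (𝒜 i : Set A)
  have key : ∀ x ∈ Algebra.adjoin R U, ∃ T : Finset A, (T : Set A) ⊆ U ∧ x ∈ Algebra.adjoin R (T : Set A) := by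
    intro x hx
    induction hx using Algebra.adjoin_induction with
    | mem x hx => exact ⟨{x}, by simpa using hx, Algebra.subset_adjoin (by simp)⟩
    | algebraMap r => exact ⟨∅, by simp, Subalgebra.algebraMap_mem _ r⟩
    | add x y _ _ hx hy =>
      obtain ⟨S, hS, hxS⟩ := hx
      obtain ⟨T, hT, hyT⟩ := hy
      exact ⟨S ∪ T, by simp [hS, hT], add_mem (Algebra.adjoin_mono (by simp) hxS) (Algebra.adjoin_mono (by simp) hyT)⟩
    | mul x y _ _ hx hy =>
      obtain ⟨S, hS, hxS⟩ := hx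
      obtain ⟨T, hT, hyT⟩ := hy
      exact ⟨S ∪ T, by simp [hS, hT], mul_mem (Algebra.adjoin_mono (by simp) hxS) (Algebra.adjoin_mono (by simp) hyT)⟩
  obtain ⟨S, hS⟩ := (inferInstance : Algebra.FiniteType R A).out
  choose T hTU hT using fun x : A => key x (by rw [show Algebra.adjoin R U = ⊤ from hgen]; trivial)
  let W : Finset A := S.biUnion T
  have hW : Algebra.adjoin R (W : Set A) = ⊤ := by
    refine eq_top_iff.2 (hS ▸ Algebra.adjoin_le fun x hx => ?_)
    exact Algebra.adjoin_mono (Finset.coe_subset.2 (Finset.subset_biUnion_of_mem T hx)) (hT x)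
  have hWU : ∀ w ∈ W, ∃ i, (1 ≤ i ∧ i ≤ d) ∧ w ∈ 𝒜 i := fun w hw => by
    obtain ⟨x, -, hx⟩ := Finset.mem_biUnion.1 hw
    simpa [U] using hTU x hx
  choose deg hdeg hmem using fun j : Fin W.card => hWU _ (W.equivFin.symm j).2
  refine ⟨W.card, fun j => (W.equivFin.symm j).1, deg, hmem, hdeg, ?_⟩
  rw [show (Set.range fun j => (W.equivFin.symm j).1) = (W : Set A) from ?_, hW]
  refine Set.ext fun w => ⟨?_, fun hw => ⟨W.equivFin ⟨w, hw⟩, by simp⟩⟩
  rintro ⟨j, rfl⟩
  exact (W.equivFin.symm j).2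

theorem exists_closedImmersion_deg_one (d : ℕ)
    (hgen : Algebra.adjoin R (⋃ i ∈ Finset.Icc 1 d, (𝒜 i : Set A)) = ⊤)
    (hcov : (⨆ g : 𝒜 1, Proj.basicOpen 𝒜 (g : A)) = ⊤) [Algebra.FiniteType R A] {n : ℕ} (hn : d ≤ n) (hn1 : 0 < n) :
    ∃ (N : ℕ) (i : Proj 𝒜 ⟶ CohB1.ProjSpaceOver N (Spec (CommRingCat.of R))), IsClosedImmersion i ∧
      i ≫ pullback.snd (CohB1.ProjSpace.toSpec N (ULift.{u} ℤ)) (specULiftZIsTerminal.from (Spec (CommRingCat.of R))) =
        str 𝒜 ∧
      Nonempty (Twist.twist 𝒜 (n : ℤ) ≅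
        (Scheme.Modules.pullback i).obj (Twist.twistOver N (Spec (CommRingCat.of R)) 1)) := by
  classical
  obtain ⟨s, f, deg, hf, hdeg, hgen'⟩ := exists_finite_gens d hgen
  haveI := TwistLcm.compactSpace (f := f) (fun i => (hdeg i).1) hf hgen'
  obtain ⟨G, hG⟩ := isCompact_univ.elim_finite_subcover (fun g : 𝒜 1 => (Proj.basicOpen 𝒜 (g : A) : Set (Proj 𝒜)))
    (fun g => (Proj.basicOpen 𝒜 (g : A)).2) fun x _ => by
      obtain ⟨g, hg⟩ := Opens.mem_iSup.1 (hcov.ge (trivial : x ∈ (⊤ : (Proj 𝒜).Opens)))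
      exact Set.mem_iUnion.2 ⟨g, hg⟩
  refine exists_closedImmersion f deg hf hgen' (fun i => (hdeg i).1) hn1
    (fun g : ↥G => ⟨((g : 𝒜 1) : A) ^ n, by simpa using SetLike.pow_mem_graded n (g : 𝒜 1).2⟩) (fun x => ?_) ?_
  · obtain ⟨g, hg, hxg⟩ := Set.mem_iUnion₂.1 (hG (Set.mem_univ x))
    exact ⟨⟨g, hg⟩, TwistX.notMem_pow hxg _⟩
  rintro ⟨⟨g, hg⟩, -⟩ k a ha
  dsimp only
  have hgn : g ^ n ∈ 𝒜 n := by simpa using SetLike.pow_mem_graded n hg
  have key : ∀ c ∈ Submodule.span R ((fun e : Fin s → ℕ => ∏ i, f i ^ e i) '' {e | ∑ i, e i * deg i = k • n}),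
      ∃ M, c * (g ^ n) ^ M ∈ 𝒜 n ^ (k + M) := by
    intro c hc
    induction hc using Submodule.span_induction with
    | mem c hc =>
      obtain ⟨e, he, rfl⟩ := hc
      replace he : ∑ i, e i * deg i = k * n := he
      have hle : k ≤ ∑ i, e i := by
        refine Nat.le_of_mul_le_mul_right (show k * n ≤ (∑ i, e i) * n from ?_) hn1
        rw [← he, Finset.sum_mul]
        exact Finset.sum_le_sum fun i _ => Nat.mul_le_mul_left _ ((hdeg i).2.trans hn)
      refine ⟨∑ i, e i - k, ?_⟩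
      rw [Nat.add_sub_cancel' hle]
      have hprod : ∏ i, (f i * g ^ (n - deg i)) ^ e i = (∏ i, f i ^ e i) * (g ^ n) ^ (∑ i, e i - k) := by
        simp only [mul_pow, Finset.prod_mul_distrib, ← pow_mul, Finset.prod_pow_eq_pow_sum]
        congr 2
        have h1 : ∑ i, (n - deg i) * e i + k * n = n * ∑ i, e i := by
          rw [← he, ← Finset.sum_add_distrib, Finset.mul_sum]
          refine Finset.sum_congr rfl fun i _ => ?_
          rw [mul_comm (e i), ← add_mul, Nat.sub_add_cancel ((hdeg i).2.trans hn)]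
        rw [Nat.mul_sub, mul_comm n k]
        omega
      rw [← hprod, ← Finset.prod_pow_eq_pow_sum]
      have : ∀ i, f i * g ^ (n - deg i) ∈ 𝒜 n := fun i => by
        have h2 := SetLike.mul_mem_graded (hf i) (SetLike.pow_mem_graded (n - deg i) hg)
        rwa [smul_eq_mul, mul_one, Nat.add_sub_cancel' ((hdeg i).2.trans hn)] at h2
      exact prod_mem_prod _ (fun i => 𝒜 n ^ e i) _ fun i _ => Submodule.pow_mem_pow _ (this i) _
    | zero => exact ⟨0, by simp⟩
    | add c c' _ _ hc hc' =>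
      obtain ⟨M, hM⟩ := hc
      obtain ⟨M', hM'⟩ := hc'
      refine ⟨M + M', ?_⟩
      have h1 : c * (g ^ n) ^ M * (g ^ n) ^ M' ∈ 𝒜 n ^ (k + (M + M')) := by
        rw [← add_assoc, pow_add]
        exact Submodule.mul_mem_mul hM (Submodule.pow_mem_pow _ hgn _)
      have h2 : c' * (g ^ n) ^ M' * (g ^ n) ^ M ∈ 𝒜 n ^ (k + (M + M')) := by
        rw [add_comm M, ← add_assoc, pow_add]
        exact Submodule.mul_mem_mul hM' (Submodule.pow_mem_pow _ hgn _)
      convert add_mem h1 h2 using 1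
      ring
    | smul r c _ hc =>
      obtain ⟨M, hM⟩ := hc
      exact ⟨M, by rw [smul_mul_assoc]; exact Submodule.smul_mem _ r hM⟩
  exact key a (ZeroCycLib.le_span_monomials 𝒜 f deg hf hgen' _ ha)

end CoveredDegreeOne

end Groth.Agent.H23.ProjVeryAmple
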