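import Groth.Agent.InvX.Frame
import Groth.Agent.InvUfdLib.Semilocal
import Groth.Prelude.Def_Coh

/-!
The invertible module defined by a cocycle of units.
-/

universe u

open CategoryTheory CategoryTheory.Limits AlgebraicGeometry TopologicalSpace Opposite

namespace Groth.Agent.H23.CocycleMod

open Groth.Agent.AModX Groth.Agent.InvX

variable {X : Scheme.{u}} {ι : Type u} {U : ι → X.Opens}

/-- A multiplicative cocycle on a cover. -/
structure Cocycle (U : ι → X.Opens) where
  /-- The value. -/
  g : ∀ i j : ι, (Γ(X, U i ⊓ U j))ˣ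
  trans : ∀ (i j k : ι) (W : X.Opens) (hi : W ≤ U i) (hj : W ≤ U j) (hk : W ≤ U k),
    resR (le_inf hi hk) (g i k : Γ(X, U i ⊓ U k)) =
      resR (le_inf hj hk) (g j k : Γ(X, U j ⊓ U k)) * resR (le_inf hi hj) (g i j : Γ(X, U i ⊓ U j))

variable (t : Cocycle U)

/-- The transition function. -/
noncomputable def tr (x y : ι) (W : X.Opens) (hx : W ≤ U x) (hy : W ≤ U y) : Γ(X, W) :=
  resR (le_inf hx hy) (t.g x y : Γ(X, U x ⊓ U y))

theorem tr_res (x y : ι) {W W' : X.Opens} (h : W' ≤ W) (hx : W ≤ U x) (hy : W ≤ U y) :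
    resR h (tr t x y W hx hy) = tr t x y W' (h.trans hx) (h.trans hy) :=
  resR_resR _ _ _

theorem tr_trans (x y z : ι) (W : X.Opens) (hx : W ≤ U x) (hy : W ≤ U y) (hz : W ≤ U z) :
    tr t x z W hx hz = tr t y z W hy hz * tr t x y W hx hy :=
  t.trans x y z W hx hy hz

theorem tr_self (x : ι) (W : X.Opens) (hx : W ≤ U x) : tr t x x W hx hx = 1 := by
  have h := tr_trans t x x x W hx hx hx
  have hu : IsUnit (tr t x x W hx hx) := (t.g x x).isUnit.map _
  exact hu.mul_left_cancel (by rw [mul_one]; exact h.symm)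

variable (U) in
/-- Families of functions on the opens of the cover. -/
abbrev Fam (W : X.Opens) : Type u := ∀ x : ι, Γ(X, W ⊓ U x)

/-- Families transforming like the coordinates of a functional on the module. -/
def IsCo {W : X.Opens} (f : Fam U W) : Prop :=
  ∀ (x y : ι) (V : X.Opens) (hV : V ≤ W) (hx : V ≤ U x) (hy : V ≤ U y),
    resR (le_inf hV hy) (f y) = tr t x y V hx hy * resR (le_inf hV hx) (f x)

/-- The sections of the mod. -/
def grp (W : X.Opens) : AddSubgroup (Fam U W) where
  carrier := {f | IsCo t f}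
  add_mem' := fun {a b} ha hb x y V hV hx hy => by
    show resR _ (a y + b y) = _ * resR _ (a x + b x)
    rw [map_add, map_add, ha x y V hV hx hy, hb x y V hV hx hy, mul_add]
  zero_mem' := fun x y V hV hx hy => by
    show resR _ 0 = _ * resR _ 0
    rw [map_zero, map_zero, mul_zero]
  neg_mem' := fun {a} ha x y V hV hx hy => by
    show resR _ (-(a y)) = _ * resR _ (-(a x))
    rw [map_neg, map_neg, ha x y V hV hx hy, mul_neg]

theorem grp_ext {W : X.Opens} {a b : grp t W} (h : ∀ x, a.1 x = b.1 x) : a = b :=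
  Subtype.ext (funext h)

noncomputable instance instModule (W : X.Opens) : Module Γ(X, W) (grp t W) where
  smul r a := ⟨fun x => resR inf_le_left r * a.1 x, fun x y V hV hx hy => by
    rw [map_mul, map_mul, a.2 x y V hV hx hy, resR_resR, resR_resR]
    ring⟩
  one_smul a := grp_ext t fun x => by
    show resR _ 1 * _ = _
    rw [map_one, one_mul]
  mul_smul r s a := grp_ext t fun x => by
    show resR _ (r * s) * _ = resR _ r * (resR _ s * _)
    rw [map_mul, _root_.mul_assoc]
  smul_zero r := grp_ext t fun x => by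
    show resR _ r * 0 = 0
    rw [mul_zero]
  smul_add r a b := grp_ext t fun x => by
    show resR _ r * (a.1 x + b.1 x) = resR _ r * a.1 x + resR _ r * b.1 x
    rw [mul_add]
  add_smul r s a := grp_ext t fun x => by
    show resR _ (r + s) * _ = resR _ r * _ + resR _ s * _
    rw [map_add, add_mul]
  zero_smul a := grp_ext t fun x => by
    show resR _ 0 * _ = 0
    rw [map_zero, zero_mul]

theorem smul_val {W : X.Opens} (r : Γ(X, W)) (a : grp t W) (x : ι) :
    (r • a).1 x = resR inf_le_left r * a.1 x := rfl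

/-- Restriction. -/
noncomputable def gres {W W' : X.Opens} (h : W' ≤ W) : grp t W →+ grp t W' where
  toFun a := ⟨fun x => resR (inf_le_inf_right _ h) (a.1 x), fun x y V hV hx hy => by
    rw [resR_resR, resR_resR]
    exact a.2 x y V (hV.trans h) hx hy⟩
  map_zero' := grp_ext t fun x => map_zero _
  map_add' _ _ := grp_ext t fun x => map_add _ _ _

theorem gres_val {W W' : X.Opens} (h : W' ≤ W) (a : grp t W) (x : ι) :
    (gres t h a).1 x = resR (inf_le_inf_right _ h) (a.1 x) := rfl

/-- The presheaf of sections of the mod. -/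
noncomputable def psh : (X.Opens)ᵒᵖ ⥤ Ab.{u} where
  obj W := AddCommGrpCat.of (grp t W.unop)
  map {W W'} i := AddCommGrpCat.ofHom (gres t i.unop.le)
  map_id W := by
    refine AddCommGrpCat.hom_ext (AddMonoidHom.ext fun a => grp_ext t fun x => ?_)
    exact resR_self ((show grp t W.unop from a).1 x)
  map_comp i j := by
    refine AddCommGrpCat.hom_ext (AddMonoidHom.ext fun a => grp_ext t fun x => ?_)
    exact (resR_resR _ _ ((show grp t _ from a).1 x)).symm

noncomputable instance (W : (X.Opens)ᵒᵖ) : Module (X.ringCatSheaf.obj.obj W) ((psh t).obj W) :=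
  inferInstanceAs (Module Γ(X, W.unop) (grp t W.unop))

/-- The mod as a presheaf of modules. -/
noncomputable def pmod : X.PresheafOfModules :=
  PresheafOfModules.ofPresheaf (R := X.ringCatSheaf.obj) (psh t) fun W W' i r a =>
    grp_ext t fun x => by
      show resR _ (resR _ (show Γ(X, W.unop) from r) * _) = resR _ (resR _ (show Γ(X, W.unop) from r)) * resR _ _
      rw [map_mul, resR_resR, resR_resR]

theorem isSheaf : Presheaf.IsSheaf (Opens.grothendieckTopology X) (pmod t).presheaf := by
  refine (TopCat.Presheaf.isSheaf_iff_isSheafUniqueGluing (X := X.toPresheafedSpace.carrier)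
    (psh t)).2 fun J W sf hsf => ?_
  have hex : ∀ x : ι, ∃! g : Γ(X, iSup W ⊓ U x),
      ∀ j, resR (inf_le_inf_right _ (le_iSup W j)) g = (sf j).1 x := fun x => by
    refine existsUnique_glue (M := Coh.structureModule X) (fun j => W j ⊓ U x)
      (fun j => inf_le_inf_right _ (le_iSup W j)) (fun p hp => ?_) (fun j => (sf j).1 x) fun i j => ?_
    · obtain ⟨j, hj⟩ := Opens.mem_iSup.1 hp.1
      exact ⟨j, hj, hp.2⟩
    · have h := congrArg (fun a : grp t (W i ⊓ W j) => a.1 x) (hsf i j)
      have h' := congrArg (resR (le_inf (le_inf (inf_le_left.trans inf_le_left) (inf_le_right.trans inf_le_left))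
        (inf_le_left.trans inf_le_right) : (W i ⊓ U x) ⊓ (W j ⊓ U x) ≤ (W i ⊓ W j) ⊓ U x)) h
      change resR _ (resR _ _) = resR _ (resR _ _) at h'
      rw [resR_resR, resR_resR] at h'
      exact h'
  choose g hg huniq using hex
  refine ⟨⟨g, fun x y V hV hx hy => ?_⟩, fun j => grp_ext t fun x => hg x j, fun t' ht =>
    grp_ext t fun x => huniq x _ fun j => congrArg (fun a : grp t (W j) => a.1 x) (ht j)⟩
  refine eq_of_locally (M := Coh.structureModule X) _ _ fun p hp => ?_
  obtain ⟨j, hj⟩ := Opens.mem_iSup.1 (hV hp)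
  refine ⟨V ⊓ W j, inf_le_left, ⟨hp, hj⟩, ?_⟩
  show resR inf_le_left (resR _ (g y)) = resR inf_le_left (_ * resR _ (g x))
  rw [map_mul, resR_resR, resR_resR, tr_res]
  have h := (sf j).2 x y (V ⊓ W j) inf_le_right (inf_le_left.trans hx) (inf_le_left.trans hy)
  rw [← hg x j, ← hg y j, resR_resR, resR_resR] at h
  exact h

/-- The mod. -/
noncomputable def mod : X.Modules := ⟨pmod t, isSheaf t⟩

/-- A section of the mod as a family. -/
noncomputable def fam {W : X.Opens} (f : Γ(mod t, W)) : grp t W := f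

theorem fam_res {W W' : X.Opens} (h : W' ≤ W) (f : Γ(mod t, W)) (x : ι) :
    (fam t (res (mod t) h f)).1 x = resR (inf_le_inf_right _ h) ((fam t f).1 x) := rfl

theorem fam_smul {W : X.Opens} (r : Γ(X, W)) (f : Γ(mod t, W)) (x : ι) :
    (fam t (r • f)).1 x = resR inf_le_left r * (fam t f).1 x := rfl

/-- The mod frame. -/
noncomputable def frame (x : ι) : Γ(mod t, U x) :=
  (⟨fun y => tr t x y (U x ⊓ U y) inf_le_left inf_le_right, fun a b V hV ha hb => by
    rw [tr_res, tr_res]
    exact tr_trans t x a b V hV ha hb⟩ : grp t (U x))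

theorem isFrame_frame (x : ι) : IsFrame (frame t x) := fun V h => by
  constructor
  · intro r r' hr
    have h1 := congrArg (fun f : Γ(mod t, V) => resR (le_inf le_rfl h : V ≤ V ⊓ U x) ((fam t f).1 x)) hr
    have key : ∀ r : Γ(X, V), resR (le_inf le_rfl h : V ≤ V ⊓ U x)
        ((fam t (r • res (mod t) h (frame t x))).1 x) = r := fun r => by
      rw [fam_smul, map_mul, resR_resR, fam_res, resR_resR, resR_self]
      show r * resR _ (tr t x x (U x ⊓ U x) inf_le_left inf_le_right) = r
      rw [tr_res, tr_self, mul_one]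
    exact (key r).symm.trans (h1.trans (key r'))
  · intro f
    refine ⟨resR (le_inf le_rfl h : V ≤ V ⊓ U x) ((fam t f).1 x), ?_⟩
    refine (show Function.Injective (fam t (W := V)) from fun _ _ e => e) (grp_ext t fun y => ?_)
    rw [fam_smul, fam_res, resR_resR]
    show resR _ ((fam t f).1 x) * resR _ (tr t x y (U x ⊓ U y) inf_le_left inf_le_right) = _
    rw [tr_res, mul_comm, ← (fam t f).2 x y (V ⊓ U y) inf_le_left (inf_le_left.trans h) inf_le_right, resR_self]


theorem isInvertible (hU : iSup U = ⊤) : PicF.IsInvertible (mod t) := fun p => by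
  obtain ⟨i, hi⟩ := Opens.mem_iSup.1 (show p ∈ iSup U by rw [hU]; trivial)
  exact ⟨U i, hi, InvUfdLib.nonempty_iso_restrict_of_frame (isFrame_frame t i)⟩

theorem res_frame (i j : ι) :
    res (mod t) (inf_le_left : U i ⊓ U j ≤ U i) (frame t i) =
      (t.g i j : Γ(X, U i ⊓ U j)) • res (mod t) (inf_le_right : U i ⊓ U j ≤ U j) (frame t j) := by
  refine (show Function.Injective (fam t (W := U i ⊓ U j)) from fun _ _ e => e) (grp_ext t fun k => ?_)
  rw [fam_smul, fam_res, fam_res]
  show resR _ (tr t i k (U i ⊓ U k) inf_le_left inf_le_right) =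
    resR _ (t.g i j : Γ(X, U i ⊓ U j)) * resR _ (tr t j k (U j ⊓ U k) inf_le_left inf_le_right)
  rw [tr_res, tr_res, tr_trans t i j k _ _ (inf_le_left.trans inf_le_right) _, mul_comm]
  rfl

end Groth.Agent.H23.CocycleMod
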