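import Mathlib.AlgebraicGeometry.Stalk
import Mathlib.AlgebraicGeometry.Pullbacks
import Mathlib.AlgebraicGeometry.Morphisms.ClosedImmersion

/-! The ideal of the inverse image of a closed subscheme in stalks. -/

set_option autoImplicit false
set_option linter.style.haveILetI false

universe u

open AlgebraicGeometry CategoryTheory CategoryTheory.Limits IsLocalRing

namespace Groth.Agent.H23.GysinPb

theorem exists_fromSpecStalk {P : Scheme.{u}} {R : CommRingCat.{u}} [IsLocalRing R] (l : Spec R ⟶ P) {z : P}
    (hz : l (closedPoint R) = z) : ∃ χ : P.presheaf.stalk z ⟶ R, l = Spec.map χ ≫ P.fromSpecStalk z := by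
  subst hz
  exact ⟨Scheme.stalkClosedPointTo l, (Scheme.Spec_stalkClosedPointTo_fromSpecStalk l).symm⟩

variable {X X' D : Scheme.{u}} (f : X' ⟶ X) (i : D ⟶ X) [IsClosedImmersion i]

theorem apply_fst_eq (z : (pullback f i : Scheme.{u})) : f (pullback.fst f i z) = i (pullback.snd f i z) := by
  rw [← Scheme.Hom.comp_apply, ← Scheme.Hom.comp_apply, pullback.condition]

/-- The stalk map from the image point to the point upstairs. -/
noncomputable def baseMap (z : (pullback f i : Scheme.{u})) :
    X.presheaf.stalk (i (pullback.snd f i z)) ⟶ X'.presheaf.stalk (pullback.fst f i z) :=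
  X.presheaf.stalkSpecializes (specializes_of_eq (apply_fst_eq f i z)) ≫ f.stalkMap (pullback.fst f i z)

theorem ker_stalkMap_fst_le (z : (pullback f i : Scheme.{u})) :
    RingHom.ker ((pullback.fst f i).stalkMap z).hom ≤
      Ideal.map (baseMap f i z).hom (RingHom.ker (i.stalkMap (pullback.snd f i z)).hom) := by
  let x := pullback.fst f i z
  let d := pullback.snd f i z
  let J := RingHom.ker (i.stalkMap d).hom
  let I := Ideal.map (baseMap f i z).hom J
  by_cases hI : I = ⊤
  · exact le_top.trans hI.ge
  let R : CommRingCat.{u} := CommRingCat.of (X'.presheaf.stalk x ⧸ I)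
  haveI : Nontrivial R := Ideal.Quotient.nontrivial_iff.2 hI
  haveI : IsLocalRing R := IsLocalRing.of_surjective' _ (Ideal.Quotient.mk_surjective (I := I))
  let π : X'.presheaf.stalk x ⟶ R := CommRingCat.ofHom (Ideal.Quotient.mk I)
  haveI hπ : IsLocalHom π.hom := IsLocalHom.of_surjective _ Ideal.Quotient.mk_surjective
  have hsurj : Function.Surjective (i.stalkMap d).hom := i.stalkMap_surjective d
  let ψ : D.presheaf.stalk d ⟶ R := CommRingCat.ofHom ((i.stalkMap d).hom.liftOfSurjective hsurj
    ⟨(Ideal.Quotient.mk I).comp (baseMap f i z).hom, fun a ha =>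
      Ideal.Quotient.eq_zero_iff_mem.2 (Ideal.mem_map_of_mem _ ha)⟩)
  have hψ : i.stalkMap d ≫ ψ = baseMap f i z ≫ π := CommRingCat.hom_ext (RingHom.liftOfRightInverse_comp _ _ _ _)
  let a : Spec R ⟶ X' := Spec.map π ≫ X'.fromSpecStalk x
  let b : Spec R ⟶ D := Spec.map ψ ≫ D.fromSpecStalk d
  have hab : a ≫ f = b ≫ i := by
    simp only [a, b, Category.assoc, ← Scheme.SpecMap_stalkMap_fromSpecStalk]
    rw [← Scheme.SpecMap_stalkSpecializes_fromSpecStalk (specializes_of_eq (apply_fst_eq f i z))]
    simp only [← Category.assoc, ← Spec.map_comp]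
    rw [hψ]
    rfl
  let l : Spec R ⟶ pullback f i := pullback.lift a b hab
  have hl : l ≫ pullback.fst f i = a := pullback.lift_fst a b hab
  have hlz : l (closedPoint R) = z := by
    apply (pullback.fst f i).isClosedEmbedding.injective
    rw [← Scheme.Hom.comp_apply, hl]
    show X'.fromSpecStalk x (Spec.map π (closedPoint R)) = x
    rw [show Spec.map π (closedPoint R) = closedPoint (X'.presheaf.stalk x) from comap_closedPoint π.hom,
      Scheme.fromSpecStalk_closedPoint]
  obtain ⟨χ, hχ⟩ := exists_fromSpecStalk l hlz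
  have h1 : Spec.map ((pullback.fst f i).stalkMap z ≫ χ) = Spec.map π := by
    rw [← cancel_mono (X'.fromSpecStalk x), Spec.map_comp, Category.assoc, Scheme.SpecMap_stalkMap_fromSpecStalk,
      ← Category.assoc, ← hχ, hl]
  intro t ht
  refine Ideal.Quotient.eq_zero_iff_mem.1 ?_
  have h2 := congrArg (fun g : X'.presheaf.stalk x ⟶ R => g.hom t) (Spec.map_injective h1)
  refine h2.symm.trans ?_
  show χ.hom (((pullback.fst f i).stalkMap z).hom t) = 0
  rw [show ((pullback.fst f i).stalkMap z).hom t = 0 from ht, map_zero]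

theorem map_ker_le (z : (pullback f i : Scheme.{u})) :
    Ideal.map (baseMap f i z).hom (RingHom.ker (i.stalkMap (pullback.snd f i z)).hom) ≤
      RingHom.ker ((pullback.fst f i).stalkMap z).hom := by
  rw [Ideal.map_le_iff_le_comap]
  intro a ha
  show ((baseMap f i z) ≫ (pullback.fst f i).stalkMap z).hom a = 0
  rw [baseMap, Category.assoc, ← Scheme.Hom.stalkMap_comp]
  have := Scheme.Hom.stalkMap_congr_hom _ _ (pullback.condition (f := f) (g := i)) z
  rw [this, TopCat.Presheaf.stalkCongr_hom]
  erw [← Category.assoc, TopCat.Presheaf.stalkSpecializes_comp,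
    TopCat.Presheaf.stalkSpecializes_refl, Category.id_comp, Scheme.Hom.stalkMap_comp]
  show ((pullback.snd f i).stalkMap z).hom ((i.stalkMap (pullback.snd f i z)).hom a) = 0
  rw [show (i.stalkMap (pullback.snd f i z)).hom a = 0 from ha, map_zero]

theorem ker_stalkMap_fst (z : (pullback f i : Scheme.{u})) :
    RingHom.ker ((pullback.fst f i).stalkMap z).hom =
      Ideal.map (baseMap f i z).hom (RingHom.ker (i.stalkMap (pullback.snd f i z)).hom) :=
  le_antisymm (ker_stalkMap_fst_le f i z) (map_ker_le f i z)

end Groth.Agent.H23.GysinPb
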