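import Groth.Agent.KFlatLib.Scheme.PushCoprod
import Groth.Agent.KFlatLib.Scheme.Exact
import Groth.Agent.QCoh.Support
import Groth.Agent.QCoh.Tilde
import Groth.Agent.QCoh.DevissageSum
import Groth.Agent.QCoh.SubCompare
import Groth.Agent.QCoh.ClosedPush
import Mathlib.Algebra.Category.ModuleCat.Sheaf.Limits
import Mathlib.RingTheory.Length

/-! Coproducts of locally finite families of modules: coherence, stalks, exactness. -/

set_option autoImplicit false
set_option backward.isDefEq.respectTransparency false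
set_option backward.isDefEq.respectTransparency.types false

universe u

open CategoryTheory CategoryTheory.Limits AlgebraicGeometry TopologicalSpace Opposite

namespace Groth.Agent.H23.LocFinCoprod

open Groth.Agent

variable {X : Scheme.{u}} {J : Type u}

/-- A family of modules with locally finite supports. -/
def LF (M : J → X.Modules) : Prop :=
  ∀ x : X, ∃ U : X.Opens, x ∈ U ∧ {j | ∃ y ∈ U, Nontrivial ((M j).presheaf.stalk y)}.Finite

theorem LF.finite_compact {M : J → X.Modules} (h : LF M) {W : Set X} (hW : IsCompact W) :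
    {j | ∃ y ∈ W, Nontrivial ((M j).presheaf.stalk y)}.Finite := by
  choose U hxU hU using h
  obtain ⟨T, hT⟩ := hW.elim_finite_subcover (fun x => (U x : Set X)) (fun x => (U x).2)
    fun y _ => Set.mem_iUnion.2 ⟨y, hxU y⟩
  refine (T.finite_toSet.biUnion fun x _ => hU x).subset fun j hj => ?_
  obtain ⟨y, hy, hn⟩ := hj
  obtain ⟨x, hx⟩ := Set.mem_iUnion.1 (hT hy)
  obtain ⟨hxT, hyU⟩ := Set.mem_iUnion.1 hx
  exact Set.mem_biUnion hxT ⟨y, hyU, hn⟩

theorem LF.finite_at {M : J → X.Modules} (h : LF M) (x : X) :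
    {j | Nontrivial ((M j).presheaf.stalk x)}.Finite := by
  obtain ⟨U, hx, hU⟩ := h x
  exact hU.subset fun j hj => ⟨x, hx, hj⟩

theorem LF.comap {K : Type u} {M : J → X.Modules} (h : LF M) (e : K → J) (he : Function.Injective e)
    (N : K → X.Modules)
    (hN : ∀ k x, Nontrivial ((N k).presheaf.stalk x) → Nontrivial ((M (e k)).presheaf.stalk x)) :
    LF N := fun x => by
  obtain ⟨U, hx, hU⟩ := h x
  exact ⟨U, hx, (hU.preimage he.injOn).subset fun k ⟨y, hy, hn⟩ => ⟨y, hy, hN k y hn⟩⟩

theorem LF.mono {M N : J → X.Modules} (h : LF M)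
    (hN : ∀ k x, Nontrivial ((N k).presheaf.stalk x) → Nontrivial ((M k).presheaf.stalk x)) : LF N :=
  h.comap id Function.injective_id N hN

theorem lf_of_finite [Finite J] (M : J → X.Modules) : LF M :=
  fun _ => ⟨⊤, trivial, Set.toFinite _⟩

/-- The induced map on stalks. -/
noncomputable def stk {M N : X.Modules} (φ : M ⟶ N) (x : X) :
    M.presheaf.stalk x →ₗ[X.presheaf.stalk x] N.presheaf.stalk x :=
  ((DerSch.stalkFunctor X x).map φ).hom

theorem stk_comp {M N P : X.Modules} (φ : M ⟶ N) (ψ : N ⟶ P) (x : X) (t : M.presheaf.stalk x) :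
    stk (φ ≫ ψ) x t = stk ψ x (stk φ x t) :=
  ConcreteCategory.congr_hom ((DerSch.stalkFunctor X x).map_comp φ ψ) t

theorem stk_id (M : X.Modules) (x : X) (t : M.presheaf.stalk x) : stk (𝟙 M) x t = t :=
  ConcreteCategory.congr_hom ((DerSch.stalkFunctor X x).map_id M) t

theorem stk_zero {M N : X.Modules} (x : X) (t : M.presheaf.stalk x) : stk (0 : M ⟶ N) x t = 0 :=
  ConcreteCategory.congr_hom ((DerSch.stalkFunctor X x).map_zero M N) t

theorem stk_sum {M N : X.Modules} {β : Type*} (s : Finset β) (f : β → (M ⟶ N)) (x : X)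
    (t : M.presheaf.stalk x) : stk (∑ i ∈ s, f i) x t = ∑ i ∈ s, stk (f i) x t := by
  classical
  induction s using Finset.induction_on with
  | empty => simp [stk_zero]
  | @insert a s ha ih =>
    rw [Finset.sum_insert ha, Finset.sum_insert ha, ← ih]
    exact ConcreteCategory.congr_hom ((DerSch.stalkFunctor X x).map_add) t

theorem stk_germ {M N : X.Modules} (φ : M ⟶ N) {U : X.Opens} (x : X) (hx : x ∈ U) (s : Γ(M, U)) :
    stk φ x (M.presheaf.germ U x hx s) = N.presheaf.germ U x hx (φ.app U s) :=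
  DerSch.stalkFunctor_map_germ x φ U hx s

theorem stk_injective_of_mono {M N : X.Modules} (φ : M ⟶ N) [Mono φ] (x : X) :
    Function.Injective (stk φ x) :=
  (ModuleCat.mono_iff_injective _).1 (Functor.map_mono (DerSch.stalkFunctor X x) φ)

theorem stk_surjective_of_epi {M N : X.Modules} (φ : M ⟶ N) [Epi φ] (x : X) :
    Function.Surjective (stk φ x) :=
  (ModuleCat.epi_iff_surjective _).1 (Functor.map_epi (DerSch.stalkFunctor X x) φ)

theorem mono_of_stk {M N : X.Modules} (φ : M ⟶ N) (h : ∀ x, Function.Injective (stk φ x)) : Mono φ := by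
  refine (ShortComplex.exact_iff_mono (ShortComplex.mk (0 : M ⟶ M) φ zero_comp) rfl).1 ?_
  exact (KFlatLib.exact_iff_stalk _).2 fun x =>
    (((ShortComplex.mk (0 : M ⟶ M) φ zero_comp).map (DerSch.stalkFunctor X x)).exact_iff_mono
      ((DerSch.stalkFunctor X x).map_zero _ _)).2 ((ModuleCat.mono_iff_injective _).2 (h x))

theorem nontrivial_of_mono {M N : X.Modules} (φ : M ⟶ N) [Mono φ] {x : X}
    (h : Nontrivial (M.presheaf.stalk x)) : Nontrivial (N.presheaf.stalk x) :=
  (stk_injective_of_mono φ x).nontrivial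

theorem nontrivial_of_epi {M N : X.Modules} (φ : M ⟶ N) [Epi φ] {x : X}
    (h : Nontrivial (N.presheaf.stalk x)) : Nontrivial (M.presheaf.stalk x) :=
  (stk_surjective_of_epi φ x).nontrivial

theorem nontrivial_iso {M N : X.Modules} (e : M ≅ N) {x : X} :
    Nontrivial (M.presheaf.stalk x) ↔ Nontrivial (N.presheaf.stalk x) :=
  ⟨nontrivial_of_mono e.hom, nontrivial_of_mono e.inv⟩

theorem subsingleton_of_isZero {M : X.Modules} (h : IsZero M) (x : X) :
    Subsingleton (M.presheaf.stalk x) := by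
  refine subsingleton_of_forall_eq 0 fun t => ?_
  rw [← stk_id M x t, h.eq_of_src (𝟙 M) 0]
  exact stk_zero x t

theorem section_eq_zero {M : X.Modules} {U : X.Opens}
    (h : ∀ x ∈ U, Subsingleton (M.presheaf.stalk x)) (s : Γ(M, U)) : s = 0 :=
  TopCat.Presheaf.section_ext (show TopCat.Sheaf AddCommGrpCat.{u} X.toPresheafedSpace.carrier
    from ⟨M.presheaf, M.isSheaf⟩) U s 0 fun x hx => by
      haveI := h x hx
      exact Subsingleton.elim (α := M.presheaf.stalk x) _ _

section Proj

variable (M : J → X.Modules)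

open Classical in
/-- The projection of a coproduct to a summand. -/
noncomputable def proj (j : J) : ∐ M ⟶ M j :=
  Sigma.desc fun i => if h : i = j then eqToHom (congrArg M h) else 0

theorem ι_proj_self (j : J) : Sigma.ι M j ≫ proj M j = 𝟙 (M j) := by
  simp [proj]

theorem ι_proj_ne {i j : J} (h : i ≠ j) : Sigma.ι M i ≫ proj M j = 0 := by
  simp [proj, h]

theorem fin_eq_sum (G : Finset J) :
    KFlatLib.finProj M G ≫ KFlatLib.finIncl M G = ∑ j ∈ G, proj M j ≫ Sigma.ι M j := by
  classical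
  refine Sigma.hom_ext _ _ fun i => ?_
  rw [Preadditive.comp_sum]
  by_cases hi : i ∈ G
  · rw [KFlatLib.ι_finProj_finIncl M G i hi, Finset.sum_eq_single i, ← Category.assoc, ι_proj_self,
      Category.id_comp]
    · intro j _ hj
      rw [← Category.assoc, ι_proj_ne M (Ne.symm hj), zero_comp]
    · exact fun h => absurd hi h
  · rw [Finset.sum_eq_zero fun j hj => ?_]
    · simp [KFlatLib.finProj, hi]
    · rw [← Category.assoc, ι_proj_ne M (fun h : i = j => hi (h ▸ hj)), zero_comp]

theorem exists_stalk_sum (x : X) (t : (∐ M).presheaf.stalk x) :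
    ∃ G : Finset J, t = ∑ j ∈ G, stk (Sigma.ι M j) x (stk (proj M j) x t) := by
  obtain ⟨G, hG⟩ := KFlatLib.exists_fix_stalk M x t
  refine ⟨G, ?_⟩
  have h : stk (KFlatLib.finProj M G ≫ KFlatLib.finIncl M G) x t = t := hG
  rw [fin_eq_sum, stk_sum] at h
  simp only [stk_comp] at h
  exact h.symm

theorem stalk_sum (x : X) (F : Finset J) (hF : ∀ j, Nontrivial ((M j).presheaf.stalk x) → j ∈ F)
    (t : (∐ M).presheaf.stalk x) :
    t = ∑ j ∈ F, stk (Sigma.ι M j) x (stk (proj M j) x t) := by
  classical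
  obtain ⟨G, hG⟩ := exists_stalk_sum M x t
  have hzero : ∀ i, i ∉ G → stk (proj M i) x t = 0 := fun i hi => by
    rw [hG, map_sum]
    refine Finset.sum_eq_zero fun j hj => ?_
    rw [← stk_comp, ι_proj_ne M (fun h : j = i => hi (h ▸ hj)), stk_zero]
  rw [Finset.sum_subset (s₁ := F) (s₂ := F ∪ G) Finset.subset_union_left fun j _ hj => ?_,
    ← Finset.sum_subset (s₁ := G) (s₂ := F ∪ G) Finset.subset_union_right fun j _ hj => ?_]
  · exact hG
  · rw [hzero j hj, map_zero]
  · haveI : Subsingleton ((M j).presheaf.stalk x) := not_nontrivial_iff_subsingleton.1 fun h => hj (hF j h)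
    rw [Subsingleton.elim (α := (M j).presheaf.stalk x) (stk (proj M j) x t) 0, map_zero]

theorem stalk_ext (x : X) {t t' : (∐ M).presheaf.stalk x}
    (h : ∀ j, stk (proj M j) x t = stk (proj M j) x t') : t = t' := by
  classical
  rw [← sub_eq_zero]
  obtain ⟨G, hG⟩ := exists_stalk_sum M x (t - t')
  rw [hG]
  refine Finset.sum_eq_zero fun j _ => ?_
  rw [map_sub (stk (proj M j) x), h j, sub_self, map_zero]

theorem nontrivial_coprod {x : X} (h : Nontrivial ((∐ M).presheaf.stalk x)) :
    ∃ j, Nontrivial ((M j).presheaf.stalk x) := by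
  by_contra hc
  push Not at hc
  refine not_subsingleton_iff_nontrivial.2 h ⟨fun t t' => stalk_ext M x fun j => ?_⟩
  haveI : Subsingleton ((M j).presheaf.stalk x) := hc j
  exact Subsingleton.elim _ _

theorem nontrivial_of_summand {x : X} (j : J) (h : Nontrivial ((M j).presheaf.stalk x)) :
    Nontrivial ((∐ M).presheaf.stalk x) :=
  Function.Injective.nontrivial (f := stk (Sigma.ι M j) x) fun a b hab => by
    rw [← stk_id _ x a, ← stk_id _ x b, ← ι_proj_self M j, stk_comp, stk_comp, hab]

theorem length_stalk (x : X) (F : Finset J) (hF : ∀ j, Nontrivial ((M j).presheaf.stalk x) → j ∈ F) :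
    Module.length (X.presheaf.stalk x) ((∐ M).presheaf.stalk x) =
      ∑ j ∈ F, Module.length (X.presheaf.stalk x) ((M j).presheaf.stalk x) := by
  classical
  let L : (∐ M).presheaf.stalk x →ₗ[X.presheaf.stalk x] ((j : F) → (M j.1).presheaf.stalk x) :=
    LinearMap.pi fun j => stk (proj M j.1) x
  have hb : Function.Bijective L := by
    refine ⟨fun a b hab => ?_, fun v => ⟨∑ j : F, stk (Sigma.ι M j.1) x (v j), funext fun i => ?_⟩⟩
    · rw [stalk_sum M x F hF a, stalk_sum M x F hF b]
      refine Finset.sum_congr rfl fun j hj => ?_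
      exact congrArg _ (congrFun hab ⟨j, hj⟩)
    · show stk (proj M i.1) x (∑ j : F, stk (Sigma.ι M j.1) x (v j)) = v i
      rw [map_sum, Finset.sum_eq_single i]
      · rw [← stk_comp, ι_proj_self, stk_id]
      · intro j _ hj
        rw [← stk_comp, ι_proj_ne M (fun h => hj (Subtype.ext h)), stk_zero]
      · simp
  rw [(LinearEquiv.ofBijective L hb).length_eq, Module.length_pi_of_fintype,
    ← Finset.sum_coe_sort F]

variable {M} (hlf : LF M)
include hlf

theorem exists_section_sum {W : X.Opens} (hW : IsCompact (W : Set X)) :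
    ∃ F : Finset J, (∀ j, (∃ y ∈ (W : Set X), Nontrivial ((M j).presheaf.stalk y)) → j ∈ F) ∧
      ∀ s : Γ(∐ M, W), s = ∑ j ∈ F, (Sigma.ι M j).app W ((proj M j).app W s) := by
  classical
  refine ⟨(hlf.finite_compact hW).toFinset, fun j hj => (Set.Finite.mem_toFinset _).2 hj, fun s => ?_⟩
  obtain ⟨G₀, hG⟩ := KFlatLib.exists_fix_section M hW s
  have h := hG (G₀ ∪ (hlf.finite_compact hW).toFinset) Finset.subset_union_left
  rw [fin_eq_sum, QCoh.app_sum] at h
  conv_lhs => rw [← h]
  symm
  refine Finset.sum_subset Finset.subset_union_right fun j _ hj => ?_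
  have h0 : (proj M j).app W s = 0 := section_eq_zero (fun y hy => not_nontrivial_iff_subsingleton.1
    fun hn => hj ((Set.Finite.mem_toFinset _).2 ⟨y, hy, hn⟩)) _
  exact (congrArg _ h0).trans (map_zero _)

omit hlf in
theorem isQCoh_coprod (h : ∀ j, Coh.IsQCoh (M j)) : Coh.IsQCoh (∐ M) :=
  QCoh.isQCoh_colimit (Discrete.functor M) fun j => h j.as

theorem isCoh_coprod (h : ∀ j, Coh.IsCoh (M j)) : Coh.IsCoh (∐ M) := by
  classical
  refine QCoh.isCoh_iff.2 ⟨isQCoh_coprod fun j => (h j).1, fun U => ?_⟩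
  obtain ⟨F, -, hF⟩ := exists_section_sum hlf U.2.isCompact
  haveI : ∀ j : F, Module.Finite Γ(X, U.1) Γ(M j.1, U.1) := fun j => QCoh.finite_sections (h j.1) U.2
  refine Module.Finite.of_surjective
    (∑ j : F, (QCoh.appLin (Sigma.ι M j.1) U.1) ∘ₗ (LinearMap.proj j :
      ((j : F) → Γ(M j.1, U.1)) →ₗ[Γ(X, U.1)] Γ(M j.1, U.1))) fun s =>
    ⟨fun j => (proj M j.1).app U.1 s, ?_⟩
  rw [LinearMap.sum_apply]
  conv_rhs => rw [hF s]
  rw [← Finset.sum_coe_sort F]
  rfl

/-- A locally finite coproduct is a product. -/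
theorem isIso_toPi : IsIso (Pi.lift (proj M) : ∐ M ⟶ ∏ᶜ M) := by
  classical
  refine QCoh.isIso_of_isBasis _ X.isBasis_affineOpens fun U hU => ?_
  obtain ⟨F, hF, hsum⟩ := exists_section_sum hlf hU.isCompact
  have hπ : ∀ j (s : Γ(∐ M, U)), (Pi.π M j).app U ((Pi.lift (proj M)).app U s) = (proj M j).app U s :=
    fun j s => congrArg (fun φ : ∐ M ⟶ M j => φ.app U s) (Pi.lift_π (proj M) j)
  refine ⟨(injective_iff_map_eq_zero _).2 fun s hs => ?_,
    fun t => ⟨∑ j ∈ F, (Sigma.ι M j).app U ((Pi.π M j).app U t), ?_⟩⟩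
  · rw [hsum s]
    refine Finset.sum_eq_zero fun j _ => ?_
    rw [← hπ j s, hs, map_zero, map_zero]
  · refine Limits.Concrete.isLimit_ext _ (isLimitOfPreserves
      (SheafOfModules.evaluation X.ringCatSheaf (op U)) (limit.isLimit (Discrete.functor M))) _ _
      fun ⟨i⟩ => ?_
    show (Pi.π M i).app U ((Pi.lift (proj M)).app U _) = (Pi.π M i).app U t
    rw [hπ, map_sum]
    by_cases hi : i ∈ F
    · rw [Finset.sum_eq_single i]
      · exact congrArg (fun φ : M i ⟶ M i => φ.app U ((Pi.π M i).app U t)) (ι_proj_self M i)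
      · intro j _ hj
        exact congrArg (fun φ : M j ⟶ M i => φ.app U ((Pi.π M j).app U t)) (ι_proj_ne M hj)
      · exact fun h => absurd hi h
    · haveI hs : ∀ y ∈ U, Subsingleton ((M i).presheaf.stalk y) := fun y hy =>
        not_nontrivial_iff_subsingleton.1 fun hn => hi (hF i ⟨y, hy, hn⟩)
      exact (section_eq_zero hs _).trans (section_eq_zero hs _).symm

/-- Maps into a locally finite coproduct are given by their components. -/
theorem exists_lift {F : X.Modules} (f : ∀ j, F ⟶ M j) : ∃ g : F ⟶ ∐ M, ∀ j, g ≫ proj M j = f j := by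
  haveI := isIso_toPi hlf
  refine ⟨Pi.lift f ≫ inv (Pi.lift (proj M)), fun j => ?_⟩
  rw [← Pi.lift_π (proj M) j, Category.assoc, IsIso.inv_hom_id_assoc, Pi.lift_π]

end Proj

/-- Coproducts of short exact sequences are short exact. -/
theorem shortExact_coprod (S : J → ShortComplex X.Modules) (hS : ∀ j, (S j).ShortExact) :
    (ShortComplex.mk (Limits.Sigma.map fun j => (S j).f) (Limits.Sigma.map fun j => (S j).g)
      (Sigma.hom_ext _ _ fun j => by simp [(S j).zero_assoc])).ShortExact := by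
  haveI := fun j => (hS j).mono_f
  haveI := fun j => (hS j).epi_g
  have nat : ∀ i, Limits.Sigma.map (fun j => (S j).f) ≫ proj (fun j => (S j).X₂) i =
      proj (fun j => (S j).X₁) i ≫ (S i).f := fun i => by
    refine Sigma.hom_ext _ _ fun j => ?_
    by_cases h : j = i
    · subst h
      rw [Sigma.ι_map_assoc, ι_proj_self, Category.comp_id, ← Category.assoc, ι_proj_self,
        Category.id_comp]
    · rw [Sigma.ι_map_assoc, ι_proj_ne _ h, comp_zero, ← Category.assoc, ι_proj_ne _ h, zero_comp]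
  have hmono : Mono (Limits.Sigma.map fun j => (S j).f) := mono_of_stk _ fun x a b hab =>
    stalk_ext (fun j => (S j).X₁) x fun j => stk_injective_of_mono (S j).f x (by
      rw [← stk_comp, ← stk_comp, ← nat, stk_comp, stk_comp, hab])
  have hepi : Epi (Limits.Sigma.map fun j => (S j).g) := ⟨fun a b hab => Sigma.hom_ext _ _ fun j => by
    rw [← cancel_epi (S j).g]
    simpa using Sigma.ι (fun j => (S j).X₂) j ≫= hab⟩
  refine .mk' (ShortComplex.exact_of_g_is_cokernel _ ?_) hmono hepi
  refine CokernelCofork.IsColimit.ofπ' _ _ fun {A} h hh => ?_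
  refine ⟨Sigma.desc fun j => (hS j).exact.desc (Sigma.ι (fun j => (S j).X₂) j ≫ h) ?_, ?_⟩
  · have := Sigma.ι (fun j => (S j).X₁) j ≫= hh
    simpa using this
  · refine Sigma.hom_ext _ _ fun j => ?_
    simp only [Sigma.ι_map_assoc, Sigma.ι_desc]
    exact (hS j).exact.g_desc _ _

end Groth.Agent.H23.LocFinCoprod
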