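import Groth.Agent.KZ.CycleClass
import Groth.Agent.KZ.Basic
import Groth.Agent.AssLib.FlatFibre
import Groth.Agent.CycLib.Finite
import Groth.Prelude.Def_SGA6

/-! The rank of a coherent module at the generic points of the components. -/

set_option autoImplicit false
set_option backward.isDefEq.respectTransparency false
set_option backward.isDefEq.respectTransparency.types false

universe u

open CategoryTheory CategoryTheory.Limits AlgebraicGeometry TopologicalSpace Opposite ZeroObject

namespace Groth.Agent.H23.MaxRank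

open Groth.Agent
open Groth.Agent.KZ.CycleClass (len len_eq_zero)

variable {X : Scheme.{u}}

/-- The points with zero-dimensional local ring. -/
def IsMax (x : X) : Prop := ringKrullDim (X.presheaf.stalk x) = 0

theorem isMax_iff {x : X} : IsMax x ↔ ∀ y, y ⤳ x → y = x := by
  rw [IsMax, ← AssLib.dimZero_iff]
  constructor
  · intro h P hP
    haveI : Ring.KrullDimLE 0 (X.presheaf.stalk x) := Ring.krullDimLE_iff.2 h.le
    exact IsLocalRing.eq_maximalIdeal (Ideal.IsPrime.isMaximal' hP)
  · intro h
    haveI : Ring.KrullDimLE 0 (X.presheaf.stalk x) := Ring.KrullDimLE.mk₀ fun P hP => by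
      rw [h P hP]; infer_instance
    exact le_antisymm (Ring.krullDimLE_iff.1 inferInstance) ringKrullDim_nonneg_of_nontrivial

theorem one_le_of_not_isMax {x : X} (h : ¬ IsMax x) : (1 : WithBot ℕ∞) ≤ ringKrullDim (X.presheaf.stalk x) := by
  have h0 : (0 : WithBot ℕ∞) ≤ ringKrullDim (X.presheaf.stalk x) := ringKrullDim_nonneg_of_nontrivial
  unfold IsMax at h
  revert h h0
  generalize ringKrullDim (X.presheaf.stalk x) = d
  intro h h0
  rcases d with _ | k
  · exact absurd h0 (not_le_of_gt (WithBot.bot_lt_coe _))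
  · refine WithBot.coe_le_coe.2 (ENat.one_le_iff_ne_zero.2 fun hk => h ?_)
    subst hk
    rfl

theorem not_isMax_of_one_le {x : X} (h : (1 : WithBot ℕ∞) ≤ ringKrullDim (X.presheaf.stalk x)) : ¬ IsMax x :=
  fun h0 => by rw [IsMax] at h0; rw [h0] at h; exact absurd h (by decide)

variable [IsNoetherian X]

theorem finite_isMax : {x : X | IsMax x}.Finite := by
  haveI : Finite (irreducibleComponents X) := NoetherianSpace.finite_irreducibleComponents.to_subtype
  refine Set.finite_coe_iff.1 (Finite.of_injective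
    (fun x : {x : X | IsMax x} => (⟨irreducibleComponent x.1, irreducibleComponent_mem_irreducibleComponents _⟩ :
      irreducibleComponents X)) fun x y hxy => ?_)
  obtain ⟨η, hη⟩ := QuasiSober.sober isIrreducible_irreducibleComponent
    (isClosed_irreducibleComponent (x := x.1))
  have h1 := isMax_iff.1 x.2 η (hη.specializes mem_irreducibleComponent)
  have h2 := isMax_iff.1 y.2 η (hη.specializes (by
    rw [show irreducibleComponent x.1 = irreducibleComponent y.1 from congrArg Subtype.val hxy]
    exact mem_irreducibleComponent))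
  exact Subtype.ext (h1.symm.trans h2)

noncomputable section

instance : Fintype {x : X // ringKrullDim (X.presheaf.stalk x) = 0} :=
  (finite_isMax (X := X)).fintype

/-- The subgroup of classes supported away from the maximal points. -/
def H : AddSubgroup (KZero.K0sub fun M : X.Modules => Coh.IsCoh M) :=
  AddSubgroup.closure {c | ∃ F : X.Modules, Coh.IsCoh F ∧
    (∀ x ∈ CohB1.support F, (1 : WithBot ℕ∞) ≤ ringKrullDim (X.presheaf.stalk x)) ∧
    c = KZero.clSub (fun M : X.Modules => Coh.IsCoh M) F}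

/-- The class attached to a family of integers on the maximal points. -/
def comb : ({x : X // ringKrullDim (X.presheaf.stalk x) = 0} → ℤ) →+
    KZero.K0sub fun M : X.Modules => Coh.IsCoh M where
  toFun f := ∑ η, f η • KZero.clSub (fun M : X.Modules => Coh.IsCoh M) (Cyc.closureStructureSheaf η.1)
  map_zero' := by simp
  map_add' f g := by simp [add_smul, Finset.sum_add_distrib]

/-- The lengths at the maximal points. -/
def lv (M : X.Modules) : {x : X // ringKrullDim (X.presheaf.stalk x) = 0} → ℤ :=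
  fun x => ((len M x.1).toNat : ℤ)

/-- The inductive statement. -/
def Good (M : X.Modules) : Prop :=
  (∀ x : X, IsMax x → len M x ≠ ⊤) ∧
    KZero.clSub (fun M : X.Modules => Coh.IsCoh M) M - comb (lv M) ∈ H

theorem lv_eq_zero {M : X.Modules} (h : ∀ x : X, IsMax x → x ∉ CohB1.support M) : lv M = 0 :=
  funext fun x => by simp [lv, len_eq_zero (h x.1 x.2)]

theorem good_of_small {M : X.Modules} (hM : Coh.IsCoh M) (h : ∀ x : X, IsMax x → x ∉ CohB1.support M) :
    Good M := by
  refine ⟨fun x hx => by simp [len_eq_zero (h x hx)], ?_⟩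
  rw [lv_eq_zero h, map_zero, sub_zero]
  exact AddSubgroup.subset_closure ⟨M, hM, fun x hx => one_le_of_not_isMax fun h0 => h x h0 hx, rfl⟩

theorem lv_add {S : ShortComplex X.Modules} (hS : S.ShortExact) (h₁ : Coh.IsCoh S.X₁)
    (h₂ : Coh.IsCoh S.X₂) (h₃ : Coh.IsCoh S.X₃) (t : ∀ x : X, IsMax x → len S.X₂ x ≠ ⊤) :
    lv S.X₂ = lv S.X₁ + lv S.X₃ := by
  funext x
  have hl : len S.X₂ x.1 = len S.X₁ x.1 + len S.X₃ x.1 := CycLib.length_stalk_shortExact hS h₁.1 h₂.1 h₃.1 _
  have ht := t x.1 x.2
  rw [hl] at ht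
  obtain ⟨t1, t3⟩ := WithTop.add_ne_top.1 ht
  show ((len S.X₂ x.1).toNat : ℤ) = ((len S.X₁ x.1).toNat : ℤ) + ((len S.X₃ x.1).toNat : ℤ)
  rw [hl, ENat.toNat_add t1 t3, Nat.cast_add]

theorem good_all {M : X.Modules} (hM : Coh.IsCoh M) : Good M := by
  refine (QCoh.devissage (X := X) (fun N => Coh.IsCoh N → Good N) ?_ ?_ Set.univ ?_ ?_ ?_ hM
    (Set.subset_univ _)) hM
  · rintro A B ⟨e⟩ hA hB
    have hA' : Coh.IsCoh A := KZ.isClosedUnderIsomorphisms_isCoh.of_iso e.symm hB
    have hg := hA hA'
    have hS := KZ.shortExact_iso_zero e (isZero_zero X.Modules)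
    have h0 : ∀ x, len (0 : X.Modules) x = 0 := fun x =>
      len_eq_zero (by rw [QCoh.support_eq_empty_of_isZero (isZero_zero _) KZ.isCoh_zero.1]; exact Set.notMem_empty x)
    have hl : ∀ x, len A x = len B x := fun x => by
      have := CycLib.length_stalk_shortExact hS KZ.isCoh_zero.1 hA'.1 hB.1 x
      refine this.trans ?_
      show len (0 : X.Modules) x + len B x = _
      rw [h0, zero_add]
    refine ⟨fun x hx => hl x ▸ hg.1 x hx, ?_⟩
    have hlv : lv B = lv A := funext fun x => by simp [lv, hl]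
    rw [hlv, ← KZ.clSub_iso _ e hA' hB (isZero_zero _) KZ.isCoh_zero]
    exact hg.2
  · intro N hN hc
    exact good_of_small hc fun x _ => by rw [QCoh.support_eq_empty_of_isZero hN hc.1]; exact Set.notMem_empty x
  · intro S hS h₁ h₂ h₃ _ g₁ g₃ _
    obtain ⟨t1, p1⟩ := g₁ h₁
    obtain ⟨t3, p3⟩ := g₃ h₃
    have t2 : ∀ x : X, IsMax x → len S.X₂ x ≠ ⊤ := fun x hx => by
      rw [show len S.X₂ x = len S.X₁ x + len S.X₃ x from CycLib.length_stalk_shortExact hS h₁.1 h₂.1 h₃.1 x]
      exact WithTop.add_ne_top.2 ⟨t1 x hx, t3 x hx⟩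
    refine ⟨t2, ?_⟩
    rw [lv_add hS h₁ h₂ h₃ t2, map_add, KZ.clSub_ses (fun M : X.Modules => Coh.IsCoh M) hS h₁ h₂ h₃,
      add_sub_add_comm]
    exact H.add_mem p1 p3
  · intro ξ _ hsmall Z i _ _ hr hc
    have hξ : i (genericPoint Z) = ξ := by
      refine IsGenericPoint.eq (S := Set.range i) ?_ hr.symm
      exact (QCoh.range_eq_closure i).symm
    have hs : CohB1.support ((Coh.push i).obj (Coh.structureModule Z)) ⊆ closure {ξ} :=
      hr ▸ QCoh.support_push_subset i QCoh.isQCoh_structureModule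
    by_cases hmax : IsMax ξ
    · have h0 : ∀ x : X, IsMax x → x ≠ ξ → x ∉ CohB1.support ((Coh.push i).obj (Coh.structureModule Z)) :=
        fun x hx hne hm => hne ((isMax_iff.1 hx ξ (specializes_iff_mem_closure.2 (hs hm))).symm)
      have h1 : len ((Coh.push i).obj (Coh.structureModule Z)) ξ = 1 := hξ ▸ KZ.CycleClass.len_push_structure i
      refine ⟨fun x hx => ?_, ?_⟩
      · rcases eq_or_ne x ξ with rfl | hne
        · rw [h1]; simp
        · rw [len_eq_zero (h0 x hx hne)]; simp
      · have e : comb (lv ((Coh.push i).obj (Coh.structureModule Z))) =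
            KZero.clSub (fun M : X.Modules => Coh.IsCoh M) ((Coh.push i).obj (Coh.structureModule Z)) := by
          rw [KZ.CycleClass.clSub_push_structure i, hξ]
          show ∑ η, lv _ η • _ = _
          rw [Finset.sum_eq_single_of_mem (⟨ξ, hmax⟩ : {x : X // ringKrullDim (X.presheaf.stalk x) = 0})
            (Finset.mem_univ _) fun η _ hne => ?_]
          · simp [lv, h1]
          · simp [lv, len_eq_zero (h0 η.1 η.2 fun h => hne (Subtype.ext h))]
        rw [e, sub_self]
        exact H.zero_mem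
    · exact good_of_small hc fun x hx hm =>
        hmax ((isMax_iff.1 hx ξ (specializes_iff_mem_closure.2 (hs hm))).symm ▸ hx)
  · intro S hS h₁ h₂ h₃ _ g₂ g₃ _
    obtain ⟨t2, p2⟩ := g₂ h₂
    obtain ⟨t3, p3⟩ := g₃ h₃
    refine ⟨fun x hx => ?_, ?_⟩
    · have ht := t2 x hx
      rw [show len S.X₂ x = len S.X₁ x + len S.X₃ x from CycLib.length_stalk_shortExact hS h₁.1 h₂.1 h₃.1 x] at ht
      exact (WithTop.add_ne_top.1 ht).1
    · have := H.sub_mem p2 p3
      rw [lv_add hS h₁ h₂ h₃ t2, map_add, KZ.clSub_ses (fun M : X.Modules => Coh.IsCoh M) hS h₁ h₂ h₃,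
        add_sub_add_comm, add_sub_cancel_right] at this
      exact this

theorem lv_closure (η : {x : X // ringKrullDim (X.presheaf.stalk x) = 0}) [DecidableEq X] :
    lv (Cyc.closureStructureSheaf η.1) = Pi.single η 1 := by
  haveI : IsIntegral (IntMult.ptIdeal η.1).subscheme := QCoh.isIntegral_closure_point η.1
  funext x
  rcases eq_or_ne x η with rfl | hne
  · haveI : IsIntegral (IntMult.ptIdeal x.1).subscheme := QCoh.isIntegral_closure_point x.1
    have hg : (IntMult.ptIdeal x.1).subschemeι (genericPoint (IntMult.ptIdeal x.1).subscheme) = x.1 :=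
      IsGenericPoint.eq (S := closure {x.1})
        ((QCoh.range_eq_closure (IntMult.ptIdeal x.1).subschemeι).symm.trans (H23.RedSub.range_vanishingIdeal _)) rfl
    have h1 := KZ.CycleClass.len_push_structure (IntMult.ptIdeal x.1).subschemeι
    rw [hg] at h1
    rw [Pi.single_eq_same]
    show ((len ((Coh.push _).obj _) x.1).toNat : ℤ) = 1
    rw [h1]
    rfl
  · rw [Pi.single_eq_of_ne hne]
    have hno : x.1 ∉ CohB1.support (Cyc.closureStructureSheaf η.1) := fun hm =>
      hne (Subtype.ext (isMax_iff.1 x.2 η.1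
        (specializes_iff_mem_closure.2 (KZ.CycleClass.support_closureStructureSheaf_subset η.1 hm))).symm)
    simp [lv, len_eq_zero hno]

theorem rk_exists : ∃ rk : KZero.K0sub (fun M : X.Modules => Coh.IsCoh M) →+
    ({x : X // ringKrullDim (X.presheaf.stalk x) = 0} → ℤ),
    ∀ F : X.Modules, Coh.IsCoh F → rk (KZero.clSub (fun M : X.Modules => Coh.IsCoh M) F) = lv F :=
  KZ.exists_liftSub (fun M : X.Modules => Coh.IsCoh M) lv fun _ hS h₁ h₂ h₃ =>
    lv_add hS h₁ h₂ h₃ (good_all h₂).1

theorem rk_props (rk : KZero.K0sub (fun M : X.Modules => Coh.IsCoh M) →+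
      ({x : X // ringKrullDim (X.presheaf.stalk x) = 0} → ℤ))
    (h : ∀ F : X.Modules, Coh.IsCoh F → rk (KZero.clSub (fun M : X.Modules => Coh.IsCoh M) F) = lv F) :
    Function.Surjective rk ∧ rk.ker = H := by
  classical
  refine ⟨fun f => ⟨comb f, ?_⟩, le_antisymm (fun c hc => ?_) ((AddSubgroup.closure_le _).2 ?_)⟩
  · show rk (∑ η, f η • _) = f
    rw [map_sum]
    simp only [map_zsmul, h _ (KZ.CycleClass.isCoh_closureStructureSheaf _), lv_closure]
    funext x
    simp [Finset.sum_apply, Pi.single_apply]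
  · let ψ := AddMonoidHom.id _ - comb.comp rk
    have hψ : ∀ c, QuotientAddGroup.mk' H (ψ c) = 0 := fun c => by
      have := KZ.K0sub_hom_ext (fun M : X.Modules => Coh.IsCoh M)
        (f := (QuotientAddGroup.mk' H).comp ψ) (g := 0) fun F hF => by
          refine (QuotientAddGroup.eq_zero_iff _).2 ?_
          show KZero.clSub _ F - comb (rk (KZero.clSub _ F)) ∈ H
          rw [h F hF]
          exact (good_all hF).2
      exact DFunLike.congr_fun this c
    have := (QuotientAddGroup.eq_zero_iff _).1 (hψ c)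
    have e : ψ c = c := by simp [ψ, AddMonoidHom.mem_ker.1 hc]
    rwa [e] at this
  · rintro _ ⟨F, hF, hd, rfl⟩
    refine AddMonoidHom.mem_ker.2 ((h F hF).trans (lv_eq_zero fun x hx hm => ?_))
    exact not_isMax_of_one_le (hd x hm) hx

end

end Groth.Agent.H23.MaxRank
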