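import Groth.Prelude.Def_C1
import Groth.Agent.CycLib.Div
import Groth.Agent.QCoh.Stalk

/-! Rational sections of the structure sheaf. -/

universe u

open CategoryTheory AlgebraicGeometry Opposite TopologicalSpace

namespace Groth.Agent.H23.UnitSec

variable {X : Scheme.{u}}

/-- The unit section. -/
noncomputable def oneG (U : X.Opens) : Γ(Coh.structureModule X, U) := show Γ(X, U) from 1

/-- A function as a section of the structure module. -/
noncomputable def ofFn {U : X.Opens} (a : Γ(X, U)) : Γ(Coh.structureModule X, U) := a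

theorem res_oneG {U V : X.Opens} (i : V ⟶ U) : (Coh.structureModule X).presheaf.map i.op (oneG U) = oneG V :=
  (X.presheaf.map i.op).hom.map_one

theorem smul_oneG {U : X.Opens} (a : Γ(X, U)) : a • oneG U = ofFn a := mul_one a

/-- The germ of the unit section. -/
noncomputable def one (x : X) : (Coh.structureModule X).presheaf.stalk x :=
  (Coh.structureModule X).presheaf.germ ⊤ x trivial (oneG ⊤)

theorem germ_oneG {x : X} (U : X.Opens) (hx : x ∈ U) :
    (Coh.structureModule X).presheaf.germ U x hx (oneG U) = one x := by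
  rw [← res_oneG (homOfLE (le_top : U ≤ ⊤))]
  exact (Coh.structureModule X).presheaf.germ_res_apply _ x hx (oneG ⊤)

theorem germ_smul_one {x : X} (U : X.Opens) (hx : x ∈ U) (a : Γ(X, U)) :
    X.presheaf.germ U x hx a • one x = (Coh.structureModule X).presheaf.germ U x hx (ofFn a) := by
  rw [← germ_oneG U hx, ← QCoh.germ_smul', smul_oneG]

theorem span_one (x : X) : Submodule.span (X.presheaf.stalk x) {one x} = ⊤ := by
  rw [eq_top_iff]
  intro m _
  obtain ⟨U, hU, s, rfl⟩ := (Coh.structureModule X).presheaf.germ_exist m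
  exact Submodule.mem_span_singleton.mpr ⟨X.presheaf.germ U x hU s, germ_smul_one U hU _⟩

theorem eq_zero_of_smul_one {x : X} (a : X.presheaf.stalk x) (h : a • one x = 0) : a = 0 := by
  obtain ⟨U, hU, b, rfl⟩ := X.presheaf.exists_germ_eq (x := x) a
  rw [germ_smul_one] at h
  obtain ⟨W, hW, i, _, hi⟩ := (Coh.structureModule X).presheaf.germ_eq x hU hU _ 0 (h.trans (map_zero _).symm)
  have hi' : X.presheaf.map i.op b = 0 := hi.trans (map_zero _)
  rw [← X.presheaf.germ_res_apply i x hW b, hi', map_zero]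

theorem stalkSpecializes_smul_one {x ξ : X} (h : ξ ⤳ x) (a : X.presheaf.stalk x) :
    (Coh.structureModule X).presheaf.stalkSpecializes h (a • one x) =
      X.presheaf.stalkSpecializes h a • one ξ := by
  obtain ⟨U, hU, b, rfl⟩ := X.presheaf.exists_germ_eq (x := x) a
  rw [germ_smul_one, TopCat.Presheaf.germ_stalkSpecializes_apply]
  refine ((congrArg (· • one ξ) (TopCat.Presheaf.germ_stalkSpecializes_apply X.presheaf hU h b)).trans ?_).symm
  exact germ_smul_one U _ b

theorem exists_unit_of_span {x : X} {t : (Coh.structureModule X).presheaf.stalk x}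
    (ht : Submodule.span (X.presheaf.stalk x) {t} = ⊤) : ∃ u : X.presheaf.stalk x, IsUnit u ∧ t = u • one x := by
  obtain ⟨u, hu⟩ := Submodule.mem_span_singleton.mp ((span_one x).ge (Submodule.mem_top : t ∈ ⊤))
  obtain ⟨r, hr⟩ := Submodule.mem_span_singleton.mp (ht.ge (Submodule.mem_top : one x ∈ ⊤))
  refine ⟨u, IsUnit.of_mul_eq_one r ?_, hu.symm⟩
  have := eq_zero_of_smul_one (r * u - 1) (by rw [sub_smul, mul_smul, hu, hr, one_smul, sub_self])
  rw [mul_comm]
  exact sub_eq_zero.mp this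

theorem residue_eq_of_mk_eq {ξ : X} {φ ψ : X.presheaf.stalk ξ}
    (h : (Submodule.Quotient.mk (φ • one ξ) : Cyc.secFibre (Coh.structureModule X) ξ) = Submodule.Quotient.mk (ψ • one ξ)) :
    X.residue ξ φ = X.residue ξ ψ := by
  rw [Submodule.Quotient.eq, ← span_one ξ, ← sub_smul, Submodule.mem_smul_span_singleton] at h
  obtain ⟨m, hm, hm'⟩ := h
  have := eq_zero_of_smul_one (m - (φ - ψ)) (by rw [sub_smul, hm', sub_self])
  rw [sub_eq_zero] at this
  subst this
  exact Ideal.Quotient.eq.mpr hm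

theorem exists_rep {ξ : X} (s : Cyc.secFibre (Coh.structureModule X) ξ) :
    ∃ φ : X.presheaf.stalk ξ, s = Submodule.Quotient.mk (φ • one ξ) := by
  obtain ⟨m, rfl⟩ := Submodule.Quotient.mk_surjective _ s
  obtain ⟨φ, hφ⟩ := Submodule.mem_span_singleton.mp ((span_one ξ).ge (Submodule.mem_top : m ∈ ⊤))
  exact ⟨φ, by rw [hφ]⟩

theorem residue_ne_zero {ξ : X} {φ : X.presheaf.stalk ξ} {s : Cyc.secFibre (Coh.structureModule X) ξ}
    (hs : s ≠ 0) (h : s = Submodule.Quotient.mk (φ • one ξ)) : X.residue ξ φ ≠ 0 := fun h0 => hs (by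
  rw [h, Submodule.Quotient.mk_eq_zero]
  exact Submodule.smul_mem_smul (Ideal.Quotient.eq_zero_iff_mem.mp h0) Submodule.mem_top)

theorem secDivFun_eq_divFun [IsLocallyNoetherian X] {δ : X → ℤ} (hd : Cyc.IsDimFun X δ) {ξ : X}
    {s : Cyc.secFibre (Coh.structureModule X) ξ} (hs : s ≠ 0) {φ : X.presheaf.stalk ξ}
    (hφ : s = Submodule.Quotient.mk (φ • one ξ)) :
    Cyc.secDivFun δ (Coh.structureModule X) ξ s = Cyc.divFun δ ξ (X.residue ξ φ) := by
  classical
  funext x
  by_cases h : ξ ⤳ x ∧ δ x + 1 = δ ξ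
  swap
  · simp [Cyc.secDivFun, Cyc.divFun, h]
  rw [CycLib.divFun_eq δ _ h.1 h.2, show Cyc.secDivFun δ (Coh.structureModule X) ξ s x =
    Cyc.secOrdAt (Coh.structureModule X) ξ x h.1 s from dif_pos h]
  have ht : ∃ t : (Coh.structureModule X).presheaf.stalk x, Submodule.span (X.presheaf.stalk x) {t} = ⊤ :=
    ⟨_, span_one x⟩
  rw [Cyc.secOrdAt, dif_pos ht]
  obtain ⟨u, hu, hut⟩ := exists_unit_of_span (Classical.choose_spec ht)
  have hsp : (Coh.structureModule X).presheaf.stalkSpecializes h.1 (Classical.choose ht) =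
      X.presheaf.stalkSpecializes h.1 u • one ξ := by rw [hut, stalkSpecializes_smul_one]
  obtain ⟨u', hu'⟩ := (hu.map (X.presheaf.stalkSpecializes h.1).hom).exists_left_inv
  have hφ' : ∃ ψ : X.presheaf.stalk ξ, s = ψ • (Submodule.Quotient.mk
      ((Coh.structureModule X).presheaf.stalkSpecializes h.1 (Classical.choose ht)) :
        Cyc.secFibre (Coh.structureModule X) ξ) :=
    ⟨φ * u', by rw [hsp, ← Submodule.Quotient.mk_smul, ← mul_smul, mul_assoc, hu', mul_one, hφ]⟩
  rw [dif_pos hφ']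
  have h1 := Classical.choose_spec hφ'
  revert h1
  generalize Classical.choose hφ' = ψ
  intro h1
  rw [hsp, ← Submodule.Quotient.mk_smul, ← mul_smul] at h1
  have h2 := residue_eq_of_mk_eq (hφ.symm.trans h1)
  have hne : X.residue ξ ψ ≠ 0 := fun h0 => by
    refine residue_ne_zero hs hφ ?_
    rw [h2, map_mul, h0, zero_mul]
  have hune : Cyc.specMap x ξ h.1 u ≠ 0 := (hu.map (Cyc.specMap x ξ h.1)).ne_zero
  rw [h2, map_mul]
  refine Eq.trans ?_ (CycLib.ordAt_mul hd h.1 h.2 hne hune).symm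
  rw [CycLib.ordAt_eq_zero_of_isUnit hd h.1 h.2 hu, add_zero]

end Groth.Agent.H23.UnitSec
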