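import Groth.Agent.KFlatLib.Scheme.ClosedPush
import Groth.Agent.QCoh.Stalk
import Groth.Agent.H23.UnitSec

/-! Lengths of stalks of push-forwards along closed immersions. -/

set_option autoImplicit false
set_option linter.style.haveILetI false

universe u

open AlgebraicGeometry CategoryTheory CategoryTheory.Limits TopologicalSpace

namespace Groth.Agent.H23.ClosedPushLen

open Groth.Agent

variable {X Y : Scheme.{u}} (f : X ⟶ Y) [IsClosedImmersion f]

theorem subsingleton_stalk (M : X.Modules) {y : Y} (hy : y ∉ Set.range f) :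
    Subsingleton (((Coh.push f).obj M).presheaf.stalk y) :=
  AddCommGrpCat.isZero_iff_subsingleton.1 (KFlatLib.isZero_stalk_push f y hy M)

theorem length_stalk (M : X.Modules) (x : X) :
    Module.length (Y.presheaf.stalk (f x)) (((Coh.push f).obj M).presheaf.stalk (f x)) =
      Module.length (X.presheaf.stalk x) (M.presheaf.stalk x) := by
  letI := (f.stalkMap x).hom.toAlgebra
  letI : Module (Y.presheaf.stalk (f x)) (M.presheaf.stalk x) :=
    Module.compHom _ (f.stalkMap x).hom
  haveI : IsScalarTower (Y.presheaf.stalk (f x)) (X.presheaf.stalk x) (M.presheaf.stalk x) :=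
    IsScalarTower.of_algebraMap_smul fun _ _ => rfl
  rw [← Module.length_eq_of_surjective (S := Y.presheaf.stalk (f x)) (R := X.presheaf.stalk x)
    (M := M.presheaf.stalk x) (show Function.Surjective (algebraMap _ _) from f.stalkMap_surjective x)]
  haveI := KFlatLib.isIso_stalkPushforward_closed f M x
  let e : ((Coh.push f).obj M).presheaf.stalk (f x) ≃+ M.presheaf.stalk x :=
    (asIso (TopCat.Presheaf.stalkPushforward Ab.{u} f.base M.presheaf x)).addCommGroupIsoToAddEquiv
  have he : ∀ (U : Y.Opens) (hU : f x ∈ U) (v : Γ(M, f ⁻¹ᵁ U)),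
      e (((Coh.push f).obj M).presheaf.germ U (f x) hU v) = M.presheaf.germ (f ⁻¹ᵁ U) x hU v := fun U hU v =>
    congrArg (fun φ => φ v) (TopCat.Presheaf.stalkPushforward_germ Ab.{u} f.base M.presheaf U x hU)
  refine (LinearEquiv.length_eq { e with map_smul' := ?_ })
  intro a m
  obtain ⟨U, hU, b, rfl⟩ := Y.presheaf.exists_germ_eq (x := f x) a
  obtain ⟨V, hV, v, rfl⟩ := ((Coh.push f).obj M).presheaf.germ_exist m
  have hW : f x ∈ U ⊓ V := ⟨hU, hV⟩
  simp only [AddEquiv.toEquiv_eq_coe, Equiv.toFun_as_coe, EquivLike.coe_coe, RingHom.id_apply]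
  rw [← Y.presheaf.germ_res_apply (homOfLE inf_le_left : U ⊓ V ⟶ U) (f x) hW b,
    ← ((Coh.push f).obj M).presheaf.germ_res_apply (homOfLE inf_le_right : U ⊓ V ⟶ V) (f x) hW v]
  generalize Y.presheaf.map (homOfLE inf_le_left : U ⊓ V ⟶ U).op b = b'
  generalize ((Coh.push f).obj M).presheaf.map (homOfLE inf_le_right : U ⊓ V ⟶ V).op v = v'
  rw [← QCoh.germ_smul' ((Coh.push f).obj M) hW, he, he]
  refine (QCoh.germ_smul' M (show x ∈ f ⁻¹ᵁ (U ⊓ V) from hW) (f.app _ b') v').trans ?_
  exact congrArg (fun t => t • M.presheaf.germ (f ⁻¹ᵁ (U ⊓ V)) x hW v')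
    (Scheme.Hom.germ_stalkMap_apply f (U ⊓ V) x hW b').symm

theorem length_structureModule (x : X) :
    Module.length (X.presheaf.stalk x) ((Coh.structureModule X).presheaf.stalk x) =
      Module.length (X.presheaf.stalk x) (X.presheaf.stalk x) := by
  refine (LinearEquiv.ofBijective (LinearMap.toSpanSingleton (X.presheaf.stalk x) _ (UnitSec.one x))
    ⟨fun a b h => ?_, fun m => ?_⟩).length_eq.symm
  · exact sub_eq_zero.1 (UnitSec.eq_zero_of_smul_one (a - b) (by rw [sub_smul]; exact sub_eq_zero.2 h))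
  · exact Submodule.mem_span_singleton.1 ((UnitSec.span_one x).ge (Submodule.mem_top : m ∈ ⊤))

end Groth.Agent.H23.ClosedPushLen
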