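import Groth.Agent.H23.TopDim
import Mathlib.AlgebraicGeometry.Limits
import Mathlib.AlgebraicGeometry.Artinian
import Mathlib.AlgebraicGeometry.Morphisms.Finite
import Mathlib.AlgebraicGeometry.Morphisms.FiniteType
import Mathlib.RingTheory.Jacobson.Artinian

/-!
# Schemes with finite discrete underlying space
-/

open AlgebraicGeometry CategoryTheory TopologicalSpace Topology

universe u

namespace Groth.Agent.H23.FinDiscrete

variable (X : Scheme.{u})

theorem isAffine [Finite X] [DiscreteTopology X] : IsAffine X := by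
  let U : X → X.Opens := fun x => ⟨{x}, isOpen_discrete _⟩
  have hU : ∀ x, IsAffineOpen (U x) := fun x => by
    obtain ⟨W, hW, hxW, -⟩ := exists_isAffineOpen_mem_and_subset (x := x) (U := ⊤) trivial
    obtain ⟨f, hf, hxf⟩ := hW.exists_basicOpen_le (V := U x) ⟨x, rfl⟩ hxW
    have : X.basicOpen f = U x := le_antisymm hf fun y hy => by
      obtain rfl : y = x := hy
      exact hxf
    exact this ▸ hW.basicOpen f
  have h := IsAffineOpen.iSup_of_disjoint hU fun x y hxy => by
    rw [Function.onFun, ← Opens.coe_disjoint]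
    exact Set.disjoint_singleton.2 hxy
  have htop : iSup U = ⊤ := eq_top_iff.2 fun x _ => Opens.mem_iSup.2 ⟨x, rfl⟩
  rw [htop] at h
  haveI : IsAffine ((⊤ : X.Opens) : Scheme.{u}) := h
  exact IsAffine.of_isIso X.topIso.inv

theorem bijective_germ [DiscreteTopology X] :
    Function.Bijective
      (fun (s : Γ(X, ⊤)) (x : X) => (X.presheaf.germ ⊤ x trivial s : X.presheaf.stalk x)) := by
  refine ⟨fun s t h => TopCat.Presheaf.section_ext X.sheaf ⊤ s t fun x hx => congrFun h x,
    fun g => ?_⟩
  let U : X → X.Opens := fun x => ⟨{x}, isOpen_discrete _⟩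
  have hsec : ∀ x, ∃ s : Γ(X, U x), X.presheaf.germ (U x) x rfl s = g x := fun x => by
    obtain ⟨V, hxV, s, hs⟩ := X.presheaf.exists_germ_eq (g x)
    have hle : U x ≤ V := fun y hy => by
      obtain rfl : y = x := hy
      exact hxV
    exact ⟨X.presheaf.map (homOfLE hle).op s, by
      rw [TopCat.Presheaf.germ_res_apply]; exact hs⟩
  choose s hs using hsec
  have hcomp : TopCat.Presheaf.IsCompatible X.presheaf U s := fun x y => by
    by_cases h : x = y
    · subst h; rfl
    · have : U x ⊓ U y = ⊥ := le_bot_iff.1 fun z hz => h (hz.1.symm.trans hz.2)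
      haveI : Subsingleton Γ(X, U x ⊓ U y) := by rw [this]; infer_instance
      exact Subsingleton.elim _ _
  obtain ⟨t, ht, -⟩ := X.sheaf.existsUnique_gluing' U ⊤ (fun _ => homOfLE le_top)
    (fun x _ => Opens.mem_iSup.2 ⟨x, rfl⟩) s hcomp
  refine ⟨t, funext fun x => ?_⟩
  rw [← hs x, ← ht x]
  exact (TopCat.Presheaf.germ_res_apply X.presheaf (homOfLE le_top) x rfl t).symm

/-- Global sections are the product of the stalks. -/
noncomputable def gammaEquiv [DiscreteTopology X] :
    Γ(X, ⊤) ≃+* ((x : X) → X.presheaf.stalk x) :=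
  RingEquiv.ofBijective (Pi.ringHom fun x : X => (X.presheaf.germ ⊤ x trivial).hom)
    (bijective_germ X)

theorem discreteTopology_of_t1 [IsNoetherian X] [T1Space X] : DiscreteTopology X := by
  refine (TopDim.finite_discrete_of_dim_le_zero (X := X) (TopDim.dim_le fun p => ?_)).2
  by_contra hlt
  rw [not_le, Nat.cast_pos'] at hlt
  have h : p ⟨0, by omega⟩ < p ⟨1, by omega⟩ := p.strictMono (by simp [Fin.lt_def])
  obtain ⟨η, hη⟩ : ∃ η : X, (p ⟨1, by omega⟩ : Set X) = {η} :=
    ⟨(p ⟨1, by omega⟩).isIrreducible.genericPoint,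
      ((p ⟨1, by omega⟩).isIrreducible.closure_genericPoint (p ⟨1, by omega⟩).isClosed).symm.trans
        closure_singleton⟩
  have hss : (p ⟨0, by omega⟩ : Set X) ⊂ (p ⟨1, by omega⟩ : Set X) := h
  rw [hη, Set.ssubset_singleton_iff] at hss
  exact (p ⟨0, by omega⟩).isIrreducible.nonempty.ne_empty hss

theorem of_t1 [IsNoetherian X] [T1Space X] :
    IsAffine X ∧ IsArtinianRing Γ(X, ⊤) ∧ Finite X ∧
      Nonempty (Γ(X, ⊤) ≃+* ((x : X) → X.presheaf.stalk x)) := by
  haveI := discreteTopology_of_t1 X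
  haveI : Finite X := finite_of_compact_of_discrete
  haveI : IsLocallyArtinian X := .of_isLocallyNoetherian_of_discreteTopology
  haveI := isAffine X
  exact ⟨inferInstance, inferInstance, inferInstance, ⟨gammaEquiv X⟩⟩

theorem of_finite_over_field {K : Type u} [Field K] (f : X ⟶ Spec (CommRingCat.of K))
    [LocallyOfFiniteType f] [Finite X] : IsAffine X ∧ f.appTop.hom.Finite := by
  haveI : JacobsonSpace X := LocallyOfFiniteType.jacobsonSpace f
  haveI : IsLocallyNoetherian X := LocallyOfFiniteType.isLocallyNoetherian f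
  haveI : IsLocallyArtinian X := .of_isLocallyNoetherian_of_discreteTopology
  haveI := isAffine X
  refine ⟨inferInstance, ?_⟩
  haveI : IsArtinianRing Γ(Spec (CommRingCat.of K), ⊤) :=
    (Scheme.ΓSpecIso (CommRingCat.of K)).commRingCatIsoToRingEquiv.symm.isArtinianRing
  letI := f.appTop.hom.toAlgebra
  haveI : Algebra.FiniteType Γ(Spec (CommRingCat.of K), ⊤) Γ(X, ⊤) :=
    (HasRingHomProperty.iff_of_isAffine (P := @LocallyOfFiniteType)).mp inferInstance
  haveI : Module.Finite Γ(Spec (CommRingCat.of K), ⊤) Γ(X, ⊤) :=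
    (Module.finite_iff_isArtinianRing (R := Γ(Spec (CommRingCat.of K), ⊤))
      (A := Γ(X, ⊤))).mpr inferInstance
  exact this

end Groth.Agent.H23.FinDiscrete
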