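import Groth.Agent.CDivEq.Basic

/-!
# Stalks of ideal sheaves

The stalk `sI I x` of an ideal sheaf, its behaviour under pullback and specialization, and ideal sheaves
prescribed by locally principal stalks.
-/

set_option autoImplicit false
set_option backward.isDefEq.respectTransparency false
set_option backward.isDefEq.respectTransparency.types false

universe u

open CategoryTheory AlgebraicGeometry TopologicalSpace

noncomputable section

namespace Groth.Agent.H23.StalkIdeal

variable {R R' : CommRingCat.{u}} {X Y : Scheme.{u}}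

/-- An ideal sheaf on a spectrum as an ideal of the ring. -/
def tI (K : (Spec R).IdealSheafData) : Ideal R :=
  (K.ideal ⟨⊤, isAffineOpen_top _⟩).map (Scheme.ΓSpecIso R).hom.hom

theorem tI_comap (ψ : R ⟶ R') (K : (Spec R).IdealSheafData) :
    tI (K.comap (Spec.map ψ)) = (tI K).map ψ.hom := by
  rw [tI, tI, ModPairLib.comap_ideal_affine, Ideal.map_map, Ideal.map_map, ← CommRingCat.hom_comp,
    ← CommRingCat.hom_comp, Scheme.ΓSpecIso_naturality]

theorem tI_fromSpec (I : X.IdealSheafData) (U : X.affineOpens) :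
    tI (I.comap U.2.fromSpec) = I.ideal U := by
  rw [tI, ModPairLib.comap_ideal_of_opensRange U.2.fromSpec I U U.2.opensRange_fromSpec, Ideal.map_map,
    ← CommRingCat.hom_comp]
  have e : U.2.fromSpec.appLE U.1 ⊤ U.2.fromSpec_preimage_self.ge ≫ (Scheme.ΓSpecIso Γ(X, U.1)).hom = 𝟙 _ := by
    rw [Scheme.Hom.appLE, U.2.fromSpec_app_self]
    simp only [Category.assoc, ← Functor.map_comp_assoc]
    erw [(Spec Γ(X, U.1)).presheaf.map_id]
    simp
  rw [e, CommRingCat.hom_id, Ideal.map_id]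

theorem tI_top : tI (⊤ : (Spec R).IdealSheafData) = ⊤ := by
  rw [tI, Scheme.IdealSheafData.ideal_top, Pi.top_apply, Ideal.map_top]

theorem eq_top_of_tI (K : (Spec R).IdealSheafData) (h : tI K = ⊤) : K = ⊤ := by
  refine Scheme.IdealSheafData.ext_of_isAffine ?_
  rw [Scheme.IdealSheafData.ideal_top, Pi.top_apply]
  have hb := ConcreteCategory.bijective_of_isIso (Scheme.ΓSpecIso R).hom
  have h' := congrArg (Ideal.comap (Scheme.ΓSpecIso R).hom.hom) h
  rwa [tI, Ideal.comap_map_of_bijective _ hb, Ideal.comap_top] at h'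

/-- The stalk of an ideal sheaf. -/
def sI (I : X.IdealSheafData) (x : X) : Ideal (X.presheaf.stalk x) := tI (I.comap (X.fromSpecStalk x))

theorem sI_eq (I : X.IdealSheafData) (U : X.affineOpens) {x : X} (hx : x ∈ U.1) :
    sI I x = CDivEq.stk I U hx := by
  rw [sI, ← U.2.fromSpecStalk_eq_fromSpecStalk hx, IsAffineOpen.fromSpecStalk,
    Scheme.IdealSheafData.comap_comp, tI_comap, tI_fromSpec]

theorem sI_comap (I : Y.IdealSheafData) (f : X ⟶ Y) (x : X) :
    sI (I.comap f) x = (sI I (f x)).map (f.stalkMap x).hom := by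
  rw [sI, sI, ← Scheme.IdealSheafData.comap_comp, ← Scheme.SpecMap_stalkMap_fromSpecStalk,
    Scheme.IdealSheafData.comap_comp, tI_comap]

theorem sI_spec (I : X.IdealSheafData) {x y : X} (h : y ⤳ x) :
    sI I y = (sI I x).map (X.presheaf.stalkSpecializes h).hom := by
  rw [sI, sI, ← tI_comap, ← Scheme.IdealSheafData.comap_comp, Scheme.SpecMap_stalkSpecializes_fromSpecStalk]

theorem sI_top (x : X) : sI (⊤ : X.IdealSheafData) x = ⊤ := by
  rw [sI, Scheme.IdealSheafData.comap_top, tI_top]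

theorem ext_sI {I J : X.IdealSheafData} (h : ∀ x, sI I x = sI J x) : I = J := by
  apply Scheme.IdealSheafData.ext
  funext U
  apply le_antisymm <;> refine CDivEq.le_of_stk _ _ U fun x hx => ?_
  · rw [← sI_eq, ← sI_eq, h]
  · rw [← sI_eq, ← sI_eq, h]

theorem exists_gen {I : X.IdealSheafData} (hI : BlowUp.IsEffCartierIdeal I) (x : X) :
    ∃ g : X.presheaf.stalk x, g ∈ nonZeroDivisors (X.presheaf.stalk x) ∧ sI I x = Ideal.span {g} := by
  obtain ⟨U, hxU, f, hf, hU⟩ := hI x
  exact ⟨X.presheaf.germ U.1 x hxU f, CDivEq.germ_mem_nonZeroDivisors U hxU hf, by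
    rw [sI_eq I U hxU, CDivEq.stk, hU, Ideal.map_span, Set.image_singleton]⟩

/-- Membership in an ideal of sections is local. -/
theorem mem_of_germ (U : X.affineOpens) (K : Ideal Γ(X, U.1)) (b : Γ(X, U.1))
    (h : ∀ x (hx : x ∈ U.1), X.presheaf.germ U.1 x hx b ∈ K.map (X.presheaf.germ U.1 x hx).hom) :
    b ∈ K := by
  by_contra hb
  have htop : K.colon {b} ≠ ⊤ := fun ht => hb (by
    simpa using Submodule.mem_colon_singleton.1 (show (1 : Γ(X, U.1)) ∈ K.colon {b} by rw [ht]; trivial))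
  obtain ⟨m, hm, hle⟩ := Ideal.exists_le_maximal _ htop
  let x : X := U.2.fromSpec ⟨m, hm.isPrime⟩
  have hx : x ∈ U.1 := by
    rw [← SetLike.mem_coe, ← U.2.range_fromSpec]
    exact Set.mem_range_self _
  haveI := U.2.isOpenImmersion_fromSpec
  have hprime : U.2.primeIdealOf ⟨x, hx⟩ = ⟨m, hm.isPrime⟩ :=
    U.2.fromSpec.isOpenEmbedding.injective (U.2.fromSpec_primeIdealOf _)
  letI := X.presheaf.algebra_section_stalk (U := U.1) ⟨x, hx⟩
  haveI := U.2.isLocalization_stalk ⟨x, hx⟩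
  have h1 : algebraMap Γ(X, U.1) (X.presheaf.stalk x) b ∈ K.map (algebraMap Γ(X, U.1) (X.presheaf.stalk x)) :=
    h x hx
  rw [IsLocalization.algebraMap_mem_map_algebraMap_iff (U.2.primeIdealOf ⟨x, hx⟩).asIdeal.primeCompl] at h1
  obtain ⟨s, hs, hsf⟩ := h1
  exact hs (by rw [hprime]; exact hle (Submodule.mem_colon_singleton.2 hsf))

section ofStalks

variable (S : ∀ x : X, Ideal (X.presheaf.stalk x))

/-- `S` is generated near `x` by one section. -/
def Gen (U : X.affineOpens) (a : Γ(X, U.1)) : Prop :=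
  ∀ x (hx : x ∈ U.1), S x = Ideal.span {X.presheaf.germ U.1 x hx a}

variable {S}

theorem Gen.res {U V : X.affineOpens} {a : Γ(X, U.1)} (h : Gen S U a) (e : V.1 ≤ U.1) :
    Gen S V (X.presheaf.map (homOfLE e).op a) := fun x hx => by
  rw [X.presheaf.germ_res_apply]
  exact h x (e hx)

theorem Gen.mem_span {U : X.affineOpens} {a b : Γ(X, U.1)} (h : Gen S U a)
    (hb : ∀ x (hx : x ∈ U.1), X.presheaf.germ U.1 x hx b ∈ S x) : b ∈ Ideal.span {a} :=
  mem_of_germ U _ b fun x hx => by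
    rw [Ideal.map_span, Set.image_singleton]
    exact h x hx ▸ hb x hx

variable (S) in
/-- The sections with germs in `S`. -/
def secs (U : X.affineOpens) : Ideal Γ(X, U.1) :=
  ⨅ (x : X) (hx : x ∈ U.1), (S x).comap (X.presheaf.germ U.1 x hx).hom

theorem mem_secs {U : X.affineOpens} {b : Γ(X, U.1)} :
    b ∈ secs S U ↔ ∀ x (hx : x ∈ U.1), X.presheaf.germ U.1 x hx b ∈ S x := by
  simp [secs, Ideal.mem_iInf]

theorem map_secs_basicOpen (hS : ∀ x : X, ∃ (U : X.affineOpens) (a : Γ(X, U.1)), x ∈ U.1 ∧ Gen S U a)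
    (U : X.affineOpens) (g : Γ(X, U.1)) :
    (secs S U).map (X.presheaf.map (homOfLE <| X.basicOpen_le g).op).hom = secs S (X.affineBasicOpen g) := by
  refine le_antisymm (Ideal.map_le_iff_le_comap.2 fun b hb => mem_secs.2 fun x hx => ?_) fun c hc => ?_
  · erw [X.presheaf.germ_res_apply]
    exact mem_secs.1 hb x _
  classical
  letI : Algebra Γ(X, U.1) Γ(X, X.basicOpen g) := (X.presheaf.map (homOfLE <| X.basicOpen_le g).op).hom.toAlgebra
  haveI : IsLocalization.Away g Γ(X, X.basicOpen g) := U.2.isLocalization_basicOpen g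
  obtain ⟨⟨b, ⟨_, k, rfl⟩⟩, hbc⟩ := IsLocalization.surj (Submonoid.powers g) c
  have key : ∀ x : U.1, ∃ (W : X.affineOpens) (n : ℕ), x.1 ∈ W.1 ∧ ∀ y (hy : y ∈ W.1) (hyU : y ∈ U.1),
      X.presheaf.germ U.1 y hyU (g ^ n * b) ∈ S y := by
    rintro ⟨x, hxU⟩
    obtain ⟨V, a, hxV, hV⟩ := hS x
    obtain ⟨r, s, hrs, hxr⟩ := exists_basicOpen_le_affine_inter U.2 V.2 x ⟨hxU, hxV⟩
    let W : X.affineOpens := X.affineBasicOpen r
    have hWV : W.1 ≤ V.1 := by show X.basicOpen r ≤ V.1; rw [hrs]; exact X.basicOpen_le _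
    have hWU : W.1 ≤ U.1 := X.basicOpen_le r
    let g' := X.presheaf.map (homOfLE hWU).op g
    let b' := X.presheaf.map (homOfLE hWU).op b
    let a' := X.presheaf.map (homOfLE hWV).op a
    have hW : Gen S W a' := hV.res hWV
    letI : Algebra Γ(X, W.1) Γ(X, X.basicOpen g') :=
      (X.presheaf.map (homOfLE <| X.basicOpen_le g').op).hom.toAlgebra
    haveI : IsLocalization.Away g' Γ(X, X.basicOpen g') := W.2.isLocalization_basicOpen g'
    have hle : X.basicOpen g' ≤ X.basicOpen g := by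
      show X.basicOpen (X.presheaf.map (homOfLE hWU).op g) ≤ _
      rw [Scheme.basicOpen_res]
      exact inf_le_right
    have hmem : algebraMap Γ(X, W.1) Γ(X, X.basicOpen g') b' ∈
        (Ideal.span {a'}).map (algebraMap Γ(X, W.1) Γ(X, X.basicOpen g')) := by
      rw [Ideal.map_span, Set.image_singleton]
      refine (hW.res (V := X.affineBasicOpen g') (X.basicOpen_le g')).mem_span fun y hy => ?_
      show X.presheaf.germ (X.basicOpen g') y hy (X.presheaf.map _ (X.presheaf.map _ b)) ∈ S y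
      rw [X.presheaf.germ_res_apply, X.presheaf.germ_res_apply]
      have h1 := mem_secs.1 hc y (hle hy)
      have h2 : X.presheaf.germ U.1 y (X.basicOpen_le g (hle hy)) b =
          X.presheaf.germ (X.basicOpen g) y (hle hy) c * X.presheaf.germ U.1 y (X.basicOpen_le g (hle hy)) (g ^ k) := by
        have := congrArg (X.presheaf.germ (X.basicOpen g) y (hle hy)) hbc
        simp only [RingHom.algebraMap_toAlgebra, map_mul] at this
        erw [X.presheaf.germ_res_apply, X.presheaf.germ_res_apply] at this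
        exact this.symm
      rw [h2]
      exact Ideal.mul_mem_right _ _ h1
    rw [IsLocalization.algebraMap_mem_map_algebraMap_iff (Submonoid.powers g')] at hmem
    obtain ⟨_, ⟨n, rfl⟩, hn⟩ := hmem
    refine ⟨W, n, hxr, fun y hy hyU => ?_⟩
    obtain ⟨d, hd⟩ := Ideal.mem_span_singleton'.1 hn
    rw [hW y hy, Ideal.mem_span_singleton']
    refine ⟨X.presheaf.germ W.1 y hy d, ?_⟩
    rw [← map_mul, hd]
    show X.presheaf.germ W.1 y hy (g' ^ n * b') = _
    rw [map_mul, map_pow, map_mul, map_pow, X.presheaf.germ_res_apply, X.presheaf.germ_res_apply]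
  choose W n hW hn using key
  obtain ⟨t, ht⟩ := U.2.isCompact.elim_finite_subcover (fun x : U.1 => ((W x).1 : Set X))
    (fun x => (W x).1.isOpen) fun x hx => Set.mem_iUnion.2 ⟨⟨x, hx⟩, hW _⟩
  let N := t.sup n
  have hN : g ^ N * b ∈ secs S U := mem_secs.2 fun y hy => by
    obtain ⟨x, hxt, hyW⟩ := Set.mem_iUnion₂.1 (ht hy)
    obtain ⟨m, hm⟩ := Nat.le.dest (Finset.le_sup (f := n) hxt)
    rw [show N = n x + m from hm.symm, pow_add, mul_right_comm, map_mul]
    exact Ideal.mul_mem_right _ _ (hn x y hyW hy)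
  have hu : IsUnit (algebraMap Γ(X, U.1) Γ(X, X.basicOpen g) (g ^ (N + k))) :=
    IsLocalization.map_units _ (⟨g ^ (N + k), _, rfl⟩ : Submonoid.powers g)
  rw [← Ideal.mul_unit_mem_iff_mem _ hu, pow_add, map_mul, mul_left_comm, hbc, ← map_mul]
  exact Ideal.mem_map_of_mem _ hN

variable (S) in
/-- The ideal sheaf with prescribed stalks. -/
def ofStalks (hS : ∀ x : X, ∃ (U : X.affineOpens) (a : Γ(X, U.1)), x ∈ U.1 ∧ Gen S U a) : X.IdealSheafData :=
  { ideal := secs S
    map_ideal_basicOpen := map_secs_basicOpen hS }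

theorem ofStalks_ideal (hS : ∀ x : X, ∃ (U : X.affineOpens) (a : Γ(X, U.1)), x ∈ U.1 ∧ Gen S U a)
    {U : X.affineOpens} {a : Γ(X, U.1)} (h : Gen S U a) : (ofStalks S hS).ideal U = Ideal.span {a} :=
  le_antisymm (fun _ hb => h.mem_span (mem_secs.1 hb))
    ((Ideal.span_singleton_le_iff_mem _).2 (mem_secs.2 fun x hx => h x hx ▸ Ideal.mem_span_singleton_self _))

theorem sI_ofStalks (hS : ∀ x : X, ∃ (U : X.affineOpens) (a : Γ(X, U.1)), x ∈ U.1 ∧ Gen S U a) (x : X) :
    sI (ofStalks S hS) x = S x := by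
  obtain ⟨U, a, hxU, hU⟩ := hS x
  rw [sI_eq _ U hxU, CDivEq.stk, ofStalks_ideal hS hU, Ideal.map_span, Set.image_singleton, hU x hxU]

theorem isEffCartier_ofStalks (hS : ∀ x : X, ∃ (U : X.affineOpens) (a : Γ(X, U.1)), x ∈ U.1 ∧ Gen S U a)
    (hreg : ∀ x : X, ∃ g ∈ nonZeroDivisors (X.presheaf.stalk x), S x = Ideal.span {g}) :
    BlowUp.IsEffCartierIdeal (ofStalks S hS) := by
  intro x
  obtain ⟨U, a, hxU, hU⟩ := hS x
  refine ⟨U, hxU, a, mem_nonZeroDivisors_iff_right.2 fun c hc => ?_, ofStalks_ideal hS hU⟩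
  have hc' : c ∈ (⊥ : Ideal Γ(X, U.1)) := mem_of_germ U ⊥ c fun y hy => by
    obtain ⟨g, hg, hgS⟩ := hreg y
    obtain ⟨d, hd⟩ := Ideal.mem_span_singleton'.1 ((hgS.symm.trans (hU y hy)).le (Ideal.mem_span_singleton_self g))
    have h0 := congrArg (X.presheaf.germ U.1 y hy) hc
    rw [map_mul, map_zero] at h0
    have : X.presheaf.germ U.1 y hy c * g = 0 := by rw [← hd, mul_left_comm, h0, mul_zero]
    rw [mem_nonZeroDivisors_iff_right.1 hg _ this]
    exact Ideal.zero_mem _
  exact hc'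

end ofStalks

end Groth.Agent.H23.StalkIdeal
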