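import Groth.Agent.H23.RigidGamma
import Groth.Agent.H23.CoverPush
import Groth.Agent.H23.AlbFormal
import Groth.Prelude.Def_ClSub2
import Mathlib.RingTheory.RingHom.FaithfullyFlat

/-!
Geometric connectedness from global functions.
-/

universe u

open CategoryTheory Limits AlgebraicGeometry TopologicalSpace Opposite

namespace Groth.Agent.H23.GeomConnGamma

theorem connectedSpace_of_idem {W : Scheme.{u}} [Nontrivial Γ(W, ⊤)]
    (h : ∀ e : Γ(W, ⊤), IsIdempotentElem e → e = 0 ∨ e = 1) : ConnectedSpace W := by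
  have hne : Nonempty W := by
    by_contra hn
    rw [not_nonempty_iff] at hn
    have e : (⊤ : W.Opens) = ⊥ := Subsingleton.elim _ _
    have : Subsingleton Γ(W, ⊤) := by rw [e]; infer_instance
    exact false_of_nontrivial_of_subsingleton Γ(W, ⊤)
  haveI : PreconnectedSpace W := by
    rw [preconnectedSpace_iff_clopen]
    intro s hs
    let U : Bool → W.Opens := fun b => if b then ⟨s, hs.2⟩ else ⟨sᶜ, hs.1.isOpen_compl⟩
    have hcov : ⊤ ≤ iSup U := fun x _ => Opens.mem_iSup.mpr (by
      by_cases hx : x ∈ s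
      · exact ⟨true, hx⟩
      · exact ⟨false, hx⟩)
    have hemp : U true ⊓ U false = ⊥ := by ext x; simp [U]
    have hemp' : U false ⊓ U true = ⊥ := by rw [inf_comm, hemp]
    obtain ⟨e, he, -⟩ := W.sheaf.existsUnique_gluing' U ⊤ (fun i => homOfLE le_top) hcov
      (fun b => if b then 1 else 0) (fun i j => by
        cases i <;> cases j
        · rfl
        · haveI : Subsingleton Γ(W, U false ⊓ U true) := by rw [hemp']; infer_instance
          exact @Subsingleton.elim Γ(W, U false ⊓ U true) _ _ _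
        · haveI : Subsingleton Γ(W, U true ⊓ U false) := by rw [hemp]; infer_instance
          exact @Subsingleton.elim Γ(W, U true ⊓ U false) _ _ _
        · rfl)
    have het : W.presheaf.map (homOfLE (le_top : U true ≤ ⊤)).op e = 1 := he true
    have hef : W.presheaf.map (homOfLE (le_top : U false ≤ ⊤)).op e = 0 := he false
    have hie : IsIdempotentElem e := W.sheaf.eq_of_locally_eq' U ⊤ (fun i => homOfLE le_top) hcov _ _ fun i => by
      cases i
      · refine (map_mul (W.presheaf.map (homOfLE (le_top : U false ≤ ⊤)).op).hom e e).trans ?_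
        exact ((congrArg₂ (· * ·) hef hef).trans (mul_zero 0)).trans hef.symm
      · refine (map_mul (W.presheaf.map (homOfLE (le_top : U true ≤ ⊤)).op).hom e e).trans ?_
        exact ((congrArg₂ (· * ·) het het).trans (mul_one 1)).trans het.symm
    have hsub : ∀ b : Bool, (U b : Set W).Nonempty → Nontrivial Γ(W, U b) := fun b ⟨x, hx⟩ =>
      (W.presheaf.germ (U b) x hx).hom.domain_nontrivial
    rcases h e hie with rfl | rfl
    · refine Or.inl (Set.not_nonempty_iff_eq_empty.mp fun hne' => ?_)
      haveI := hsub true hne'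
      rw [map_zero] at het
      exact zero_ne_one het
    · refine Or.inr (Set.compl_empty_iff.mp (Set.not_nonempty_iff_eq_empty.mp fun hne' => ?_))
      haveI := hsub false hne'
      rw [map_one] at hef
      exact one_ne_zero hef
  exact ⟨hne⟩

/-- Constant global functions imply geometric connectedness. -/
theorem geometricallyConnected_of_gamma {k : Type u} [Field k] {V : Scheme.{u}}
    (v : V ⟶ Spec (CommRingCat.of k)) [QuasiCompact v] [QuasiSeparated v] (hv : Function.Bijective v.appTop) :
    GeometricallyConnected v := by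
  rw [GeometricallyConnected.eq_geometrically]
  intro K _ t Z fst w h
  have : CompactSpace V := (quasiCompact_iff_compactSpace v).mp inferInstance
  have : QuasiSeparatedSpace V := (quasiSeparated_iff_quasiSeparatedSpace v).mp inferInstance
  have : Flat t := by
    obtain ⟨φ, rfl⟩ := Spec.map_surjective t
    rw [HasRingHomProperty.Spec_iff (P := @Flat)]
    algebraize [φ.hom]
    show Module.Flat k K
    infer_instance
  have hiso := isIso_pushoutSection_of_isQuasiSeparated_of_flat_right h
    (US := ⊤) (UT := ⊤) (UX := ⊤) (UY := ⊤) le_top le_top (by simp) (isAffineOpen_top _) (isAffineOpen_top _)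
    isCompact_univ isQuasiSeparated_univ
  rw [isIso_pushoutSection_iff] at hiso
  have hvi : IsIso (v.appLE ⊤ ⊤ le_top) := by
    rw [show v.appLE ⊤ ⊤ le_top = v.appTop by simp [Scheme.Hom.appLE]]
    exact (ConcreteCategory.isIso_iff_bijective _).mpr hv
  have hw : IsIso (w.appLE ⊤ ⊤ le_top) := hiso.isIso_inr_of_isIso hvi
  rw [show w.appLE ⊤ ⊤ le_top = w.appTop by simp [Scheme.Hom.appLE]] at hw
  let ψ : CommRingCat.of K ⟶ Γ(Z, ⊤) := (Scheme.ΓSpecIso _).inv ≫ w.appTop
  have hψ : Function.Bijective ψ.hom := ConcreteCategory.bijective_of_isIso ψ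
  let e : K ≃+* Γ(Z, ⊤) := RingEquiv.ofBijective ψ.hom hψ
  haveI : Nontrivial Γ(Z, ⊤) := e.injective.nontrivial
  refine connectedSpace_of_idem fun x hx => ?_
  have hx' : IsIdempotentElem (e.symm x) := by
    show e.symm x * e.symm x = e.symm x
    rw [← map_mul, hx]
  rcases IsIdempotentElem.iff_eq_zero_or_one.mp hx' with h0 | h0
  · exact Or.inl (e.symm.injective (by rw [h0, map_zero]))
  · exact Or.inr (e.symm.injective (by rw [h0, map_one]))

variable {X Y : Scheme.{u}} (ρ : X ⟶ Y) [IsAffineHom ρ] [Flat ρ] [Surjective ρ]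

theorem app_injective_affine {U : Y.Opens} (hU : IsAffineOpen U) : Function.Injective (ρ.app U) := by
  have h := CoverPush.isPullback_fromSpec ρ hU
  haveI : Flat (Spec.map (ρ.app U)) := MorphismProperty.of_isPullback h.flip inferInstance
  haveI : Surjective (Spec.map (ρ.app U)) := MorphismProperty.of_isPullback h.flip inferInstance
  refine (RingHom.FaithfullyFlat.iff_flat_and_comap_surjective.mpr ⟨Flat.SpecMap_iff.mp inferInstance, ?_⟩).injective
  exact (Spec.map (ρ.app U)).surjective

theorem app_injective (U : Y.Opens) : Function.Injective (ρ.app U) := by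
  intro s t hst
  have key : ∀ x : U, ∃ V : Y.Opens, x.1 ∈ V ∧ IsAffineOpen V ∧ V ≤ U := fun x => by
    obtain ⟨_, ⟨V, hV, rfl⟩, hx, hle⟩ := Y.isBasis_affineOpens.exists_subset_of_mem_open x.2 U.2
    exact ⟨V, hx, hV, hle⟩
  choose V hx hV hle using key
  refine Y.sheaf.eq_of_locally_eq' V U (fun x => homOfLE (hle x))
    (fun y hy => Opens.mem_iSup.mpr ⟨⟨y, hy⟩, hx ⟨y, hy⟩⟩) _ _ fun x => app_injective_affine ρ (hV x) ?_
  show ρ.app (V x) (Y.presheaf.map (homOfLE (hle x)).op s) = ρ.app (V x) (Y.presheaf.map (homOfLE (hle x)).op t)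
  rw [← ConcreteCategory.comp_apply, ← ConcreteCategory.comp_apply, ρ.naturality, ConcreteCategory.comp_apply,
    ConcreteCategory.comp_apply, hst]

theorem appTop_bijective (h0 : Subsingleton (Coh.HH Y (cokernel (ClSub.unitToPush ρ)) 0)) :
    Function.Bijective ρ.appTop := by
  refine ⟨app_injective ρ ⊤, fun t => ?_⟩
  let ι := ClSub.unitToPush ρ
  haveI : Mono ι := ⟨fun a b hab => Scheme.Modules.hom_ext _ _ fun U => by
    ext x
    exact app_injective ρ U congr($(congrArg (fun φ => Scheme.Modules.Hom.app φ U) hab) x)⟩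
  let M := (Scheme.Modules.pushforward ρ).obj (Coh.structureModule X)
  let φ : Coh.structureModule Y ⟶ M := QCoh.homOfTop (P := M) (show Γ(M, ⊤) from t)
  let E : Coh.HH Y (cokernel ι) 0 ≃+ Γ(cokernel ι, ⊤) :=
    CategoryTheory.Sheaf.H.equiv₀ _ Limits.isTerminalTop
  haveI : Subsingleton Γ(cokernel ι, ⊤) := @Function.Injective.subsingleton _ _ _ E.symm.injective h0
  have hz : φ ≫ cokernel.π ι = 0 := Scheme.Modules.hom_ext _ _ fun U => by
    ext r
    show (cokernel.π ι).app U (φ.app U r) = 0
    rw [show φ.app U r = (show Γ(Y, U) from r) • M.presheaf.map (homOfLE le_top).op (show Γ(M, ⊤) from t) from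
      QCoh.homOfTop_app _ (show Γ(Y, U) from r), Scheme.Modules.Hom.app_smul]
    have h1 := ConcreteCategory.congr_hom ((cokernel.π ι).mapPresheaf.naturality (homOfLE (le_top : U ≤ ⊤)).op)
      (show Γ(M, ⊤) from t)
    rw [show (cokernel.π ι).app U (M.presheaf.map (homOfLE le_top).op (show Γ(M, ⊤) from t)) =
      (cokernel ι).presheaf.map (homOfLE le_top).op ((cokernel.π ι).app ⊤ (show Γ(M, ⊤) from t)) from h1,
      Subsingleton.elim ((cokernel.π ι).app ⊤ (show Γ(M, ⊤) from t)) 0, map_zero, smul_zero]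
  refine ⟨(Abelian.monoLift ι φ hz).app ⊤ (1 : Γ(Y, ⊤)), ?_⟩
  refine (congr($(congrArg (fun ψ => Scheme.Modules.Hom.app ψ ⊤) (Abelian.monoLift_comp ι φ hz))
    (1 : Γ(Y, ⊤)))).trans ?_
  refine (QCoh.homOfTop_app _ (1 : Γ(Y, ⊤))).trans ((one_smul Γ(Y, ⊤) _).trans ?_)
  rw [show (homOfLE (le_top : (⊤ : Y.Opens) ≤ ⊤)).op = 𝟙 _ from rfl, M.presheaf.map_id]
  rfl

end Groth.Agent.H23.GeomConnGamma
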