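import Groth.Agent.H23.SpFlat
import Groth.Agent.H23.ClosedPushLen
import Groth.Agent.H23.GysinPb
import Groth.Agent.QCoh.Support
import Groth.Agent.QCoh.DevissageP

/-! The inverse image of the structure sheaf of a closed subscheme. -/

set_option autoImplicit false
set_option linter.style.haveILetI false

universe u

open AlgebraicGeometry CategoryTheory CategoryTheory.Limits IsLocalRing
open scoped TensorProduct

namespace Groth.Agent.H23.SpClosed

open Groth.Agent

variable {X W D : Scheme.{u}} (i : W ⟶ X) [IsClosedImmersion i]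

/-- The stalk of a push-forward along a closed immersion, with its action. -/
theorem nonempty_stalkEquiv (M : W.Modules) (x : W) :
    letI : Module (X.presheaf.stalk (i x)) (M.presheaf.stalk x) := Module.compHom _ (i.stalkMap x).hom
    Nonempty (((Coh.push i).obj M).presheaf.stalk (i x) ≃ₗ[X.presheaf.stalk (i x)] M.presheaf.stalk x) := by
  letI : Module (X.presheaf.stalk (i x)) (M.presheaf.stalk x) := Module.compHom _ (i.stalkMap x).hom
  haveI := KFlatLib.isIso_stalkPushforward_closed i M x
  let e : ((Coh.push i).obj M).presheaf.stalk (i x) ≃+ M.presheaf.stalk x :=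
    (asIso (TopCat.Presheaf.stalkPushforward Ab.{u} i.base M.presheaf x)).addCommGroupIsoToAddEquiv
  have he : ∀ (U : X.Opens) (hU : i x ∈ U) (v : Γ(M, i ⁻¹ᵁ U)),
      e (((Coh.push i).obj M).presheaf.germ U (i x) hU v) = M.presheaf.germ (i ⁻¹ᵁ U) x hU v := fun U hU v =>
    congrArg (fun φ => φ v) (TopCat.Presheaf.stalkPushforward_germ Ab.{u} i.base M.presheaf U x hU)
  refine ⟨{ e with map_smul' := ?_ }⟩
  intro a m
  obtain ⟨U, hU, b, rfl⟩ := X.presheaf.exists_germ_eq (x := i x) a
  obtain ⟨V, hV, v, rfl⟩ := ((Coh.push i).obj M).presheaf.germ_exist m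
  have hW : i x ∈ U ⊓ V := ⟨hU, hV⟩
  simp only [AddEquiv.toEquiv_eq_coe, Equiv.toFun_as_coe, EquivLike.coe_coe, RingHom.id_apply]
  rw [← X.presheaf.germ_res_apply (homOfLE inf_le_left : U ⊓ V ⟶ U) (i x) hW b,
    ← ((Coh.push i).obj M).presheaf.germ_res_apply (homOfLE inf_le_right : U ⊓ V ⟶ V) (i x) hW v]
  generalize X.presheaf.map (homOfLE inf_le_left : U ⊓ V ⟶ U).op b = b'
  generalize ((Coh.push i).obj M).presheaf.map (homOfLE inf_le_right : U ⊓ V ⟶ V).op v = v'
  rw [← QCoh.germ_smul' ((Coh.push i).obj M) hW, he, he]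
  refine (QCoh.germ_smul' M (show x ∈ i ⁻¹ᵁ (U ⊓ V) from hW) (i.app _ b') v').trans ?_
  exact congrArg (fun t => t • M.presheaf.germ (i ⁻¹ᵁ (U ⊓ V)) x hW v')
    (Scheme.Hom.germ_stalkMap_apply i (U ⊓ V) x hW b').symm

/-- The stalk of the structure sheaf of a closed subscheme. -/
theorem nonempty_quotEquiv (x : W) :
    Nonempty (((Coh.push i).obj (Coh.structureModule W)).presheaf.stalk (i x) ≃ₗ[X.presheaf.stalk (i x)]
      X.presheaf.stalk (i x) ⧸ RingHom.ker (i.stalkMap x).hom) := by
  letI : Module (X.presheaf.stalk (i x)) ((Coh.structureModule W).presheaf.stalk x) :=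
    Module.compHom _ (i.stalkMap x).hom
  obtain ⟨e⟩ := nonempty_stalkEquiv i (Coh.structureModule W) x
  let f := LinearMap.toSpanSingleton (X.presheaf.stalk (i x)) _ (UnitSec.one x)
  have hf : ∀ r, f r = (i.stalkMap x).hom r • UnitSec.one x := fun r => rfl
  have hs : Function.Surjective f := fun m => by
    obtain ⟨a, rfl⟩ := Submodule.mem_span_singleton.1 ((UnitSec.span_one x).ge (Submodule.mem_top : m ∈ ⊤))
    obtain ⟨r, rfl⟩ := i.stalkMap_surjective x a
    exact ⟨r, rfl⟩
  have hk : LinearMap.ker f = RingHom.ker (i.stalkMap x).hom := Submodule.ext fun r => by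
    rw [LinearMap.mem_ker, hf]
    exact ⟨fun h => UnitSec.eq_zero_of_smul_one _ h, fun h => by rw [show (i.stalkMap x).hom r = 0 from h, zero_smul]⟩
  exact ⟨e.trans ((f.quotKerEquivOfSurjective hs).symm.trans (Submodule.quotEquivOfEq _ _ hk))⟩

theorem length_stalk_closed {Z Y : Scheme.{u}} (j : Z ⟶ Y) [IsClosedImmersion j] (z : Z) :
    Module.length (Z.presheaf.stalk z) (Z.presheaf.stalk z) =
      Module.length (Y.presheaf.stalk (j z)) (Y.presheaf.stalk (j z) ⧸ RingHom.ker (j.stalkMap z).hom) := by
  let R := Y.presheaf.stalk (j z)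
  let S := Z.presheaf.stalk z
  letI : Algebra R S := (j.stalkMap z).hom.toAlgebra
  have hs : Function.Surjective (algebraMap R S) := j.stalkMap_surjective z
  rw [← Module.length_eq_of_surjective (S := R) (R := S) (M := S) hs]
  have hk : LinearMap.ker (Algebra.linearMap R S) = RingHom.ker (j.stalkMap z).hom := Submodule.ext fun r => Iff.rfl
  exact ((Submodule.quotEquivOfEq _ _ hk.symm).trans
    (LinearMap.quotKerEquivOfSurjective (Algebra.linearMap R S) hs)).length_eq.symm

/-- The cycle of the inverse image of a closed subscheme is that of its pulled back structure sheaf. -/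
theorem subschemeFun_eq (g : D ⟶ X) (δ : D → ℤ) (k : ℤ) :
    Cyc.subschemeFun δ k (pullback.fst g i) =
      Cyc.sheafFun δ k ((Scheme.Modules.pullback g).obj ((Coh.push i).obj (Coh.structureModule W))) := by
  classical
  funext d
  simp only [Cyc.subschemeFun, Cyc.sheafFun]
  split_ifs
  swap
  · rfl
  let F := (Coh.push i).obj (Coh.structureModule W)
  rw [show Module.length (D.presheaf.stalk d) (((Scheme.Modules.pullback g).obj F).presheaf.stalk d) = _ from
    (((KFlatLib.stalkPullbackIso g d).app F).toLinearEquiv).length_eq]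
  algebraize [(g.stalkMap d).hom]
  show _ = ((Module.length (D.presheaf.stalk d) (D.presheaf.stalk d ⊗[X.presheaf.stalk (g d)]
    F.presheaf.stalk (g d))).toNat : ℤ)
  by_cases hr : d ∈ Set.range (pullback.fst g i)
  · obtain ⟨z, rfl⟩ := hr
    have hset : {w : (pullback g i : Scheme.{u}) | pullback.fst g i w = pullback.fst g i z} = {z} :=
      Set.ext fun w => ⟨fun h => (pullback.fst g i).isEmbedding.injective h, fun h => congrArg _ h⟩
    rw [hset, finsum_mem_singleton]
    refine congrArg (fun n : ℕ∞ => (n.toNat : ℤ)) ?_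
    have key : ∀ y (h : y = i (pullback.snd g i z)), ∃ J : Ideal (X.presheaf.stalk y),
        Nonempty (F.presheaf.stalk y ≃ₗ[X.presheaf.stalk y] X.presheaf.stalk y ⧸ J) ∧
        J = Ideal.map (X.presheaf.stalkSpecializes (specializes_of_eq h)).hom
          (RingHom.ker (i.stalkMap (pullback.snd g i z)).hom) := by
      intro y h
      subst h
      refine ⟨_, nonempty_quotEquiv i _, ?_⟩
      rw [TopCat.Presheaf.stalkSpecializes_refl]
      exact (Ideal.map_id _).symm
    obtain ⟨J, ⟨e⟩, hJ⟩ := key _ (GysinPb.apply_fst_eq g i z)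
    have hker := GysinPb.ker_stalkMap_fst g i z
    rw [GysinPb.baseMap, CommRingCat.hom_comp, ← Ideal.map_map, ← hJ] at hker
    rw [(TensorProduct.AlgebraTensorModule.congr
      (LinearEquiv.refl (D.presheaf.stalk (pullback.fst g i z)) (D.presheaf.stalk (pullback.fst g i z))) e).length_eq,
      ← (Algebra.TensorProduct.quotIdealMapEquivTensorQuot (D.presheaf.stalk (pullback.fst g i z))
        J).toLinearEquiv.length_eq]
    exact (length_stalk_closed (pullback.fst g i) z).trans (Submodule.quotEquivOfEq _ _ hker).length_eq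
  · haveI : Subsingleton (F.presheaf.stalk (g d)) := ClosedPushLen.subsingleton_stalk i _ fun ⟨w, hw⟩ => hr (by
      obtain ⟨z, hz, -⟩ := Scheme.Pullback.exists_preimage_pullback (f := g) (g := i) d w hw.symm
      exact ⟨z, hz⟩)
    rw [Module.length_eq_zero, finsum_mem_eq_zero_of_forall_eq_zero
      (s := {z : (pullback g i : Scheme.{u}) | pullback.fst g i z = d}) fun z hz => absurd ⟨z, hz⟩ hr]
    rfl

theorem subschemeFun_symm (g : D ⟶ X) (δ : D → ℤ) (k : ℤ) :
    Cyc.subschemeFun δ k (pullback.snd i g) = Cyc.subschemeFun δ k (pullback.fst g i) := by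
  funext d
  simp only [Cyc.subschemeFun]
  split_ifs
  swap
  · rfl
  let e := pullbackSymmetry i g
  let h : (pullback i g : Scheme.{u}) ≃ (pullback g i : Scheme.{u}) := (Scheme.homeoOfIso e).toEquiv
  refine finsum_mem_eq_of_bijOn h ⟨fun z hz => ?_, h.injective.injOn, fun w hw => ⟨h.symm w, ?_, h.apply_symm_apply w⟩⟩
    fun z _ => ?_
  · show pullback.fst g i (e.hom z) = d
    rw [← Scheme.Hom.comp_apply, pullbackSymmetry_hom_comp_fst]
    exact hz
  · show pullback.snd i g (e.inv w) = d
    rw [← Scheme.Hom.comp_apply, pullbackSymmetry_inv_comp_snd]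
    exact hw
  · let φ := (asIso (e.hom.stalkMap z)).commRingCatIsoToRingEquiv
    refine congrArg (fun n : ℕ∞ => (n.toNat : ℤ)) ?_
    show _ = Module.length ((pullback g i : Scheme.{u}).presheaf.stalk (e.hom z))
      ((pullback g i : Scheme.{u}).presheaf.stalk (e.hom z))
    algebraize [φ.toRingHom]
    rw [← Module.length_eq_of_surjective (S := (pullback g i : Scheme.{u}).presheaf.stalk (e.hom z))
      (R := (pullback i g : Scheme.{u}).presheaf.stalk z) (M := (pullback i g : Scheme.{u}).presheaf.stalk z)
      φ.surjective]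
    exact (LinearEquiv.ofBijective (Algebra.linearMap _ ((pullback i g : Scheme.{u}).presheaf.stalk z))
      φ.bijective).length_eq.symm

theorem isFlatOver_push {S : Scheme.{u}} (a : X ⟶ S) [Flat (i ≫ a)] :
    FlatMod.IsFlatOver a ((Coh.push i).obj (Coh.structureModule W)) := by
  intro x
  show @Module.Flat _ _ _ _ (FlatMod.moduleStalkOver a _ x)
  letI := FlatMod.moduleStalkOver a ((Coh.push i).obj (Coh.structureModule W)) x
  by_cases hr : x ∈ Set.range i
  · obtain ⟨w, rfl⟩ := hr
    letI : Module (X.presheaf.stalk (i w)) ((Coh.structureModule W).presheaf.stalk w) :=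
      Module.compHom _ (i.stalkMap w).hom
    obtain ⟨e⟩ := nonempty_stalkEquiv i (Coh.structureModule W) w
    letI : Module (S.presheaf.stalk (a (i w))) ((Coh.structureModule W).presheaf.stalk w) :=
      Module.compHom _ (a.stalkMap (i w)).hom
    letI : Module (S.presheaf.stalk ((i ≫ a) w)) ((Coh.structureModule W).presheaf.stalk w) :=
      Module.compHom _ (a.stalkMap (i w)).hom
    have hfl := Flat.stalkMap (i ≫ a) w
    haveI : Module.Flat (S.presheaf.stalk (a (i w))) ((Coh.structureModule W).presheaf.stalk w) := by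
      letI := ((i ≫ a).stalkMap w).hom.toAlgebra
      haveI : Module.Flat (S.presheaf.stalk ((i ≫ a) w)) (W.presheaf.stalk w) := hfl
      refine Module.Flat.of_linearEquiv (M := W.presheaf.stalk w) (N := (Coh.structureModule W).presheaf.stalk w)
        (R := S.presheaf.stalk ((i ≫ a) w)) (LinearEquiv.ofBijective
          { toFun := fun r => r • UnitSec.one w
            map_add' := fun r s => add_smul r s _
            map_smul' := fun t r => ?_ } ⟨fun r s h => ?_, fun m => ?_⟩).symm
      · show (((i ≫ a).stalkMap w).hom t * r) • UnitSec.one w =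
          (i.stalkMap w).hom ((a.stalkMap (i w)).hom t) • (r • UnitSec.one w)
        rw [Scheme.Hom.stalkMap_comp, mul_smul]
        rfl
      · exact sub_eq_zero.1 (UnitSec.eq_zero_of_smul_one _ (by rw [sub_smul]; exact sub_eq_zero.2 h))
      · exact Submodule.mem_span_singleton.1 ((UnitSec.span_one w).ge (Submodule.mem_top : m ∈ ⊤))
    exact Module.Flat.of_linearEquiv
      { e.toAddEquiv with map_smul' := fun t m => e.map_smul ((a.stalkMap (i w)).hom t) m }
  · haveI := ClosedPushLen.subsingleton_stalk i (Coh.structureModule W) hr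
    infer_instance

theorem isCoh_push [IsLocallyNoetherian X] : Coh.IsCoh ((Coh.push i).obj (Coh.structureModule W)) :=
  haveI := LocallyOfFiniteType.isLocallyNoetherian i
  QCoh.isCoh_pushforward_finite i QCoh.isCoh_structureModule'

end Groth.Agent.H23.SpClosed
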