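import Groth.Agent.Alg6.AssDepth
import Mathlib.RingTheory.Flat.EquationalCriterion
import Mathlib.RingTheory.Flat.FaithfullyFlat.Algebra
import Mathlib.RingTheory.Regular.Flat
import Mathlib.RingTheory.Ideal.AssociatedPrime.Finiteness

/-!
# Descent of an ideal along a flat map, tested at associated primes
-/

set_option autoImplicit false

universe u

open IsLocalRing

namespace Groth.Agent.H23.CartierFlatDescAlg

variable {A B : Type u} [CommRing A] [CommRing B] [Algebra A B]

theorem mem_map_of_mul_mem [IsNoetherianRing A] [Module.Flat A B] (I : Ideal A) (a : A)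
    (ha : ∀ c, a * c ∈ I → c ∈ I) (b : B) (hb : algebraMap A B a * b ∈ I.map (algebraMap A B)) :
    b ∈ I.map (algebraMap A B) := by
  classical
  obtain ⟨G, hG⟩ := IsNoetherian.noetherian I
  rw [show I.map (algebraMap A B) = Ideal.span ((fun x => algebraMap A B x) '' (G : Set A)) by
    rw [← hG]; exact Ideal.map_span _ _] at hb
  have : algebraMap A B a * b ∈ Ideal.span (Set.range fun i : G => algebraMap A B i) := by
    convert hb using 3
    ext z
    simp
  obtain ⟨t, ht⟩ := Ideal.mem_span_range_iff_exists_fun.1 this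
  obtain ⟨k, r, y, h1, h2⟩ := Module.Flat.isTrivialRelation_of_sum_smul_eq_zero (R := A) (M := B)
    (f := fun o : Option G => o.elim a fun i => (i : A)) (x := fun o : Option G => o.elim b fun i => - t i)
    (by
      simp only [Fintype.sum_option, Option.elim_none, Option.elim_some, smul_neg, mul_neg, Finset.sum_neg_distrib,
        Algebra.smul_def]
      rw [← sub_eq_add_neg, sub_eq_zero, ← ht]
      exact Finset.sum_congr rfl fun i _ => mul_comm _ _)
  have h1' : b = ∑ j, r none j • y j := h1 none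
  rw [h1']
  refine Ideal.sum_mem _ fun j _ => ?_
  rw [Algebra.smul_def]
  refine Ideal.mul_mem_right _ _ (Ideal.mem_map_of_mem _ (ha _ ?_))
  have h3 := h2 j
  simp only [Fintype.sum_option, Option.elim_none, Option.elim_some] at h3
  rw [eq_neg_of_add_eq_zero_left h3]
  refine I.neg_mem (I.sum_mem fun i _ => Ideal.mul_mem_right _ _ ?_)
  rw [← hG]
  exact Ideal.subset_span i.2

/-- An element of an ideal at all associated primes of the quotient is in the ideal. -/
theorem mem_of_forall_ass [IsNoetherianRing B] (J : Ideal B) (z : B)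
    (h : ∀ P ∈ associatedPrimes B (B ⧸ J), ∃ s ∉ P, s * z ∈ J) : z ∈ J := by
  by_contra hz
  obtain ⟨P, hP, hle⟩ := Alg6.exists_ass_ge (R := B) (z := (Ideal.Quotient.mk J z : B ⧸ J))
    fun e => hz (Ideal.Quotient.eq_zero_iff_mem.1 e)
  obtain ⟨s, hs, hsz⟩ := h P hP
  refine hs (hle s ?_)
  rw [Algebra.smul_def, Ideal.Quotient.algebraMap_eq, ← map_mul]
  exact Ideal.Quotient.eq_zero_iff_mem.2 hsz

/-- An ideal of a flat algebra is extended if it is so near its associated primes. -/
theorem map_comap_eq [IsNoetherianRing A] [IsNoetherianRing B] [Module.Flat A B] (J : Ideal B)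
    (H : ∀ P' ∈ associatedPrimes B (B ⧸ J), ∃ I₁ : Ideal A, ∀ P : Ideal B, P.IsPrime →
      P.comap (algebraMap A B) ≤ P'.comap (algebraMap A B) →
        (∀ a ∈ I₁, ∃ s ∉ P, s * algebraMap A B a ∈ J) ∧
        ∀ z ∈ J, ∃ s ∉ P, s * z ∈ I₁.map (algebraMap A B)) :
    (J.comap (algebraMap A B)).map (algebraMap A B) = J := by
  classical
  let φ := algebraMap A B
  let I := J.comap φ
  refine le_antisymm Ideal.map_comap_le fun z hz => mem_of_forall_ass _ _ fun P hP => ?_
  obtain ⟨hPp, w, hw⟩ := Alg6.mem_ass_iff.1 hP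
  obtain ⟨w, rfl⟩ := Ideal.Quotient.mk_surjective w
  have hw' : ∀ c : B, c ∈ P ↔ c * w ∈ I.map φ := fun c => by
    rw [hw c, Algebra.smul_def, Ideal.Quotient.algebraMap_eq, ← map_mul, Ideal.Quotient.eq_zero_iff_mem]
  obtain ⟨P', hP', hle⟩ : ∃ P' ∈ associatedPrimes B (B ⧸ J), P.comap φ ≤ P'.comap φ := by
    have hfin : (associatedPrimes B (B ⧸ J)).Finite := associatedPrimes.finite B (B ⧸ J)
    by_contra hc
    push Not at hc
    have hns : ¬ ((P.comap φ : Set A) ⊆ ⋃ Q ∈ (hfin.toFinset : Set (Ideal B)), ((Q.comap φ : Ideal A) : Set A)) := by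
      intro hsub
      obtain ⟨Q, hQ, hQle⟩ := (Ideal.subset_union_prime (f := fun Q : Ideal B => Q.comap φ) ⊥ ⊥
        (fun Q hQ _ _ => by
          haveI : Q.IsPrime := IsAssociatedPrime.isPrime (AssociatedPrimes.mem_iff.1 (hfin.mem_toFinset.1 hQ))
          exact Q.comap_isPrime φ)).1 hsub
      exact hc Q (hfin.mem_toFinset.1 hQ) hQle
    obtain ⟨a, haP, ha⟩ := Set.not_subset.1 hns
    have hreg : ∀ c, a * c ∈ I → c ∈ I := fun c hc' => mem_of_forall_ass J _ fun Q hQ =>
      ⟨φ a, fun h => ha (Set.mem_biUnion (hfin.mem_toFinset.2 hQ) h), by rw [← map_mul]; exact hc'⟩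
    have h1 : w ∈ I.map φ := mem_map_of_mul_mem I a hreg w ((hw' (φ a)).1 haP)
    exact hPp.ne_top ((Ideal.eq_top_iff_one _).2 ((hw' 1).2 (by rwa [one_mul])))
  obtain ⟨I₁, hI₁⟩ := H P' hP'
  haveI : P'.IsPrime := IsAssociatedPrime.isPrime (AssociatedPrimes.mem_iff.1 hP')
  have hI : ∀ a ∈ I₁, ∃ t, φ t ∉ P ∧ t * a ∈ I := by
    intro a ha
    by_contra hc
    push Not at hc
    let S : Submonoid B := (P'.comap φ).primeCompl.map φ
    have hdisj : Disjoint ((J.colon {φ a} : Ideal B) : Set B) (S : Set B) := by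
      rw [Set.disjoint_left]
      rintro _ h ⟨t, ht, rfl⟩
      refine hc t (fun h' => ht (hle h')) ?_
      show φ (t * a) ∈ J
      rw [map_mul]
      exact Submodule.mem_colon_singleton.1 h
    obtain ⟨P₀, hP₀, hle₀, hd₀⟩ := Ideal.exists_le_prime_disjoint _ S hdisj
    obtain ⟨s, hs, hsa⟩ := (hI₁ P₀ hP₀ fun t ht => by
      by_contra h
      exact Set.disjoint_left.1 hd₀ ht ⟨t, h, rfl⟩).1 a ha
    exact hs (hle₀ (Submodule.mem_colon_singleton.2 hsa))
  obtain ⟨s, hs, hsz⟩ := (hI₁ P hPp hle).2 z hz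
  have hloc : ∀ y ∈ I₁.map φ, ∃ t ∉ P, t * y ∈ I.map φ := by
    intro y hy
    induction hy using Submodule.span_induction with
    | mem y hy =>
      obtain ⟨a, ha, rfl⟩ := hy
      obtain ⟨t, ht, hta⟩ := hI a ha
      exact ⟨φ t, ht, by rw [← map_mul]; exact Ideal.mem_map_of_mem _ hta⟩
    | zero => exact ⟨1, fun h => hPp.ne_top ((Ideal.eq_top_iff_one _).2 h), by simp⟩
    | add x y _ _ hx hy =>
      obtain ⟨t, ht, htx⟩ := hx
      obtain ⟨t', ht', hty⟩ := hy
      refine ⟨t * t', fun h => (hPp.mem_or_mem h).elim ht ht', ?_⟩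
      rw [mul_add]
      refine Ideal.add_mem _ ?_ ?_
      · rw [mul_comm t t', mul_assoc]; exact Ideal.mul_mem_left _ _ htx
      · rw [mul_assoc]; exact Ideal.mul_mem_left _ _ hty
    | smul c x _ hx =>
      obtain ⟨t, ht, htx⟩ := hx
      exact ⟨t, ht, by rw [smul_eq_mul, mul_left_comm]; exact Ideal.mul_mem_left _ _ htx⟩
  obtain ⟨t, ht, htz⟩ := hloc _ hsz
  exact ⟨t * s, fun h => (hPp.mem_or_mem h).elim ht hs, by rwa [mul_assoc]⟩

/-- A principal extension generated by a regular element descends to a regular principal ideal. -/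
theorem exists_span [IsLocalRing B] [Module.FaithfullyFlat A B] (I : Ideal A) {b : B} (hb : b ∈ nonZeroDivisors B)
    (h : I.map (algebraMap A B) = Ideal.span {b}) : ∃ a ∈ nonZeroDivisors A, I = Ideal.span {a} := by
  obtain ⟨a, haI, hu⟩ : ∃ a ∈ I, Ideal.span {algebraMap A B a} = Ideal.span {b} := by
    by_contra hc
    push Not at hc
    have hle : I.map (algebraMap A B) ≤ maximalIdeal B * Ideal.span {b} := by
      rw [Ideal.map_le_iff_le_comap]
      intro a ha
      obtain ⟨d, hd⟩ := Ideal.mem_span_singleton'.1 (h.le (Ideal.mem_map_of_mem _ ha))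
      rw [Ideal.mem_comap, ← hd]
      refine Ideal.mul_mem_mul ?_ (Ideal.mem_span_singleton_self b)
      rw [IsLocalRing.mem_maximalIdeal, mem_nonunits_iff]
      intro hdu
      refine hc a ha ?_
      rw [← hd, Ideal.span_singleton_mul_left_unit hdu]
    obtain ⟨m, hm, hmb⟩ := Ideal.mem_mul_span_singleton.1 (hle (h.ge (Ideal.mem_span_singleton_self b)))
    have : m = 1 := mul_cancel_right_mem_nonZeroDivisors hb |>.1 (by rw [hmb, one_mul])
    exact (maximalIdeal.isMaximal B).ne_top ((Ideal.eq_top_iff_one _).2 (this ▸ hm))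
  refine ⟨a, ?_, ?_⟩
  · refine mem_nonZeroDivisors_iff_right.2 fun x hx => ?_
    obtain ⟨e, he⟩ := Ideal.mem_span_singleton'.1 (hu.ge (Ideal.mem_span_singleton_self b))
    have h0 : algebraMap A B x * b = 0 := by
      rw [← he, mul_left_comm, ← map_mul, hx, map_zero, mul_zero]
    exact FaithfulSMul.algebraMap_injective A B
      ((mem_nonZeroDivisors_iff_right.1 hb _ h0).trans (map_zero _).symm)
  · refine le_antisymm ?_ ((Ideal.span_singleton_le_iff_mem _).2 haI)
    rw [← Ideal.comap_map_eq_self_of_faithfullyFlat (B := B) I,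
      ← Ideal.comap_map_eq_self_of_faithfullyFlat (B := B) (Ideal.span {a})]
    refine Ideal.comap_mono ?_
    rw [h, Ideal.map_span, Set.image_singleton, hu]

theorem two_le_depth_of_flat [IsLocalRing A] [IsLocalRing B] [IsNoetherianRing A] [IsNoetherianRing B]
    [Module.Flat A B] [IsLocalHom (algebraMap A B)] (h : (2 : ℕ∞) ≤ LocCoh.depth A A) :
    (2 : ℕ∞) ≤ LocCoh.depth B B := by
  obtain ⟨rs, hrs, hmem, hlen⟩ := Alg6.exists_length_ge_of_le_idealDepth
    (Alg6.maximal_smul_top_ne_top (R := A) (M := A)) (n := 2) (by exact_mod_cast h)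
  refine le_trans ?_ (Alg6.length_le_idealDepth (I := maximalIdeal B) (hrs.of_flat (S := B)) fun r hr => ?_)
  · rw [List.length_map]
    exact_mod_cast hlen
  · obtain ⟨a, ha, rfl⟩ := List.mem_map.1 hr
    exact map_nonunit _ a (hmem a ha)

theorem depth_le_one_of_ass [IsNoetherianRing B] {b : B} (hb : b ∈ nonZeroDivisors B) {P : Ideal B}
    (hP : P ∈ associatedPrimes B (B ⧸ Ideal.span {b})) (B' : Type u) [CommRing B'] [IsLocalRing B']
    [IsNoetherianRing B'] [Algebra B B'] [hpp : P.IsPrime] [IsLocalization.AtPrime B' P] :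
    ¬ (2 : ℕ∞) ≤ LocCoh.depth B' B' := by
  obtain ⟨-, w, hw⟩ := Alg6.mem_ass_iff.1 hP
  obtain ⟨w, rfl⟩ := Ideal.Quotient.mk_surjective w
  have hw' : ∀ c : B, c ∈ P ↔ c * w ∈ Ideal.span {b} := fun c => by
    rw [hw c, Algebra.smul_def, Ideal.Quotient.algebraMap_eq, ← map_mul, Ideal.Quotient.eq_zero_iff_mem]
  let β := algebraMap B B'
  have hbP : b ∈ P := (hw' b).2 (Ideal.mul_mem_right _ _ (Ideal.mem_span_singleton_self b))
  have hbm : β b ∈ maximalIdeal B' := by
    rw [IsLocalRing.mem_maximalIdeal, mem_nonunits_iff,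
      IsLocalization.AtPrime.isUnit_to_map_iff B' P]
    exact fun h => h hbP
  have hreg : IsSMulRegular B' (β b) := by
    have hn := IsLocalization.nonZeroDivisors_le_comap P.primeCompl B' hb
    intro x y hxy
    exact mul_cancel_left_mem_nonZeroDivisors hn |>.1 hxy
  intro h2
  refine (Alg6.two_le_depth_iff hbm hreg).1 h2 (Alg6.mem_ass_iff.2 ⟨inferInstance,
    Submodule.Quotient.mk (β w), fun a => ?_⟩)
  rw [← Submodule.Quotient.mk_smul, Alg6.mem_pointwise_smul_top_iff]
  obtain ⟨⟨c, t⟩, hct⟩ := IsLocalization.surj P.primeCompl a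
  have htu := IsLocalization.map_units B' t
  constructor
  · intro ha
    have hc : c ∈ P := by
      by_contra hcP
      have h1 : IsUnit (β c) := (IsLocalization.AtPrime.isUnit_to_map_iff B' P c).2 hcP
      rw [show β c = a * β t from hct.symm] at h1
      exact (IsLocalRing.mem_maximalIdeal _).1 ha (isUnit_of_mul_isUnit_left h1)
    obtain ⟨d, hd⟩ := Ideal.mem_span_singleton'.1 ((hw' c).1 hc)
    refine ⟨β d * ↑htu.unit⁻¹, ?_⟩
    show β b * (β d * ↑htu.unit⁻¹) = a * β w
    have h1 : β b * β d = a * β t * β w := by rw [hct, ← map_mul, ← map_mul, ← hd, mul_comm]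
    rw [← mul_assoc, h1, mul_right_comm a, mul_assoc, mul_assoc, IsUnit.mul_val_inv, mul_one]
  · rintro ⟨v, hv⟩
    rw [IsLocalRing.mem_maximalIdeal, mem_nonunits_iff]
    intro ha
    have h1 : β w ∈ (Ideal.span {b}).map β := by
      have hv' : β b * v = a * β w := hv
      rw [← ha.unit.inv_mul_cancel_left (β w)]
      refine Ideal.mul_mem_left _ _ ?_
      show a * β w ∈ _
      rw [← hv']
      exact Ideal.mul_mem_right _ _ (Ideal.mem_map_of_mem _ (Ideal.mem_span_singleton_self b))
    rw [IsLocalization.algebraMap_mem_map_algebraMap_iff P.primeCompl] at h1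
    obtain ⟨s, hs, hsw⟩ := h1
    exact hs ((hw' s).2 hsw)

end Groth.Agent.H23.CartierFlatDescAlg
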