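import Groth.Agent.H9Misc.TorBalance
import Groth.Agent.GrLib8.KChiDim
import Groth.Agent.GrLib8.Samuel.Lech
import Groth.Agent.KRegLib.WeakReg
import Groth.Agent.KoszulFlatLib.OfExact
import Groth.Agent.S15821
import Groth.Prelude.Def_IntMult

/-!
# Tor against a quotient by a regular sequence via the Koszul complex
-/

set_option autoImplicit false
set_option linter.style.haveILetI false

universe u

open CategoryTheory CategoryTheory.Limits MonoidalCategory CochainComplex

namespace Groth.Agent.H23.KoszulTor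

open Groth.Agent.H9Misc Groth.Agent.H9Misc.TorBalance Groth.Agent.H9Misc.DRingLTensor Groth.Agent.KFlatLib

variable {A : Type u} [CommRing A]

/-- `Tor` from any bounded above flat resolution of the first variable. -/
theorem nonempty_tor_iso (K : DRing.Cx A) {M : ModuleCat.{u} A} (hflat : DRing.TermwiseFlat K)
    (hb : DRing.VanishesAbove K 0) (π : K ⟶ sgl M) [QuasiIso π] (N : ModuleCat.{u} A) (n : ℕ) :
    Nonempty (((Tor (ModuleCat.{u} A) n).obj M).obj N ≅ (DRing.tensorCx K N).homology (-n : ℤ)) := by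
  let Q := ProjectiveResolution.of N
  have h1 : QuasiIso (((T (A := A)).map π).app Q.cochainComplex ≫ (sglLeftIso M).hom.app Q.cochainComplex) := by
    haveI := (isKF_cochainComplex Q).quasiIso_map π
    haveI : QuasiIso ((sglLeftIso M).hom.app Q.cochainComplex) :=
      inferInstanceAs (QuasiIso ((sglLeftIso M).app Q.cochainComplex).hom)
    exact quasiIso_comp _ _
  have h2 : QuasiIso (((T (A := A)).obj K).map Q.π' ≫ (sglRightIso N).hom.app K) := by
    haveI := (kFlat_of_termwiseFlat hflat hb).quasiIso_map' curriedTensorFlipIso Q.π'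
    haveI : QuasiIso ((sglRightIso N).hom.app K) :=
      inferInstanceAs (QuasiIso ((sglRightIso N).app K).hom)
    exact quasiIso_comp _ _
  exact ⟨torIso M Q n ≪≫ (isoOfQuasiIsoAt (((T (A := A)).map π).app Q.cochainComplex ≫
    (sglLeftIso M).hom.app Q.cochainComplex) _).symm ≪≫
    isoOfQuasiIsoAt (((T (A := A)).obj K).map Q.π' ≫ (sglRightIso N).hom.app K) _⟩

/-- A bounded above complex exact outside degree zero maps quasi-isomorphically to its cohomology. -/
theorem exists_quasiIso_single (K : DRing.Cx A) (hb : DRing.VanishesAbove K 0)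
    (hex : ∀ i : ℤ, i ≠ 0 → IsZero (K.homology i)) {M : ModuleCat.{u} A} (e : K.homology 0 ≅ M) :
    ∃ π : K ⟶ sgl M, QuasiIso π := by
  haveI := K.isIso_iCycles 0 1 (by simp) ((hb 1 (by omega)).eq_of_tgt _ _)
  let f0 : K.X 0 ⟶ M := inv (K.iCycles 0) ≫ K.homologyπ 0 ≫ e.hom
  have hf0 : ∀ i, (ComplexShape.up ℤ).Rel i 0 → K.d i 0 ≫ f0 = 0 := fun i _ => by
    rw [← K.toCycles_i i 0]
    simp only [f0, Category.assoc, IsIso.hom_inv_id_assoc]
    rw [← Category.assoc, K.toCycles_comp_homologyπ, zero_comp]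
  let π : K ⟶ (HomologicalComplex.single (ModuleCat.{u} A) (ComplexShape.up ℤ) 0).obj M :=
    HomologicalComplex.mkHomToSingle f0 hf0
  suffices hq : QuasiIso π from ⟨π, hq⟩
  refine ⟨fun i => ?_⟩
  by_cases hi : i = 0
  · subst hi
    rw [quasiIsoAt_iff_isIso_homologyMap]
    have key : HomologicalComplex.homologyMap π 0 ≫
        (HomologicalComplex.singleObjHomologySelfIso (ComplexShape.up ℤ) 0 M).hom = e.hom := by
      rw [← cancel_epi (K.homologyπ 0), HomologicalComplex.homologyπ_naturality_assoc,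
        HomologicalComplex.homologyπ_singleObjHomologySelfIso_hom]
      have h2 : (HomologicalComplex.singleObjCyclesSelfIso (ComplexShape.up ℤ) 0 M).hom =
          HomologicalComplex.iCycles _ 0 ≫ (HomologicalComplex.singleObjXSelf (ComplexShape.up ℤ) 0 M).hom := by
        simp [HomologicalComplex.singleObjCyclesSelfIso]
      rw [h2, HomologicalComplex.cyclesMap_i_assoc]
      simp [π, f0, HomologicalComplex.mkHomToSingle, HomologicalComplex.singleObjXSelf]
    exact IsIso.of_isIso_fac_right key
  · rw [quasiIsoAt_iff_exactAt' _ _ (HomologicalComplex.exactAt_single_obj _ _ _ _ hi),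
      HomologicalComplex.exactAt_iff_isZero_homology]
    exact hex i hi

theorem projective_koszul_X : ∀ (l : List A) (n : ℤ), Module.Projective A ((Koszul.koszul A l).X n)
  | [], n => by
    rcases eq_or_ne n 0 with rfl | hn
    · exact Module.Projective.of_equiv
        (HomologicalComplex.singleObjXSelf (ComplexShape.up ℤ) 0 (ModuleCat.of A A)).toLinearEquiv.symm
    · haveI : Subsingleton ((Koszul.koszul A ([] : List A)).X n) := ModuleCat.subsingleton_of_isZero
        (HomologicalComplex.isZero_single_obj_X (ComplexShape.up ℤ) 0 (ModuleCat.of A A) n hn)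
      exact Module.Projective.of_split 0 (0 : A →ₗ[A] _) (LinearMap.ext fun x => Subsingleton.elim _ _)
  | f :: l, n => by
    haveI := projective_koszul_X l (n + 1)
    haveI := projective_koszul_X l n
    let φ := f • 𝟙 (Koszul.koszul A l)
    exact Module.Projective.of_split
      (((mappingCone.fst φ).1.v n (n + 1) rfl).hom.prod ((mappingCone.snd φ).v n n (add_zero n)).hom)
      (((mappingCone.inl φ).v (n + 1) n (by omega)).hom.coprod ((mappingCone.inr φ).f n).hom)
      (LinearMap.ext fun z => (ConcreteCategory.congr_hom (mappingCone.id_X φ n (n + 1) rfl) z))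

theorem termwiseFlat_koszul (l : List A) : DRing.TermwiseFlat (Koszul.koszul A l) := fun n =>
  haveI := projective_koszul_X l n
  Module.Flat.of_projective

/-- `Tor_n(A ⧸ (g), N)` is Koszul cohomology. -/
theorem nonempty_tor_quot_iso (l : List A) (hl : RingTheory.Sequence.IsWeaklyRegular A l)
    (N : ModuleCat.{u} A) (n : ℕ) :
    Nonempty (((Tor (ModuleCat.{u} A) n).obj (ModuleCat.of A (A ⧸ Ideal.ofList l))).obj N ≅
      (DRing.tensorCx (Koszul.koszul A l) N).homology (-n : ℤ)) := by
  obtain ⟨hex, ⟨e⟩⟩ := Groth.Agent.S15821.result A l hl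
  have hb : DRing.VanishesAbove (Koszul.koszul A l) 0 := fun i hi => by
    rw [Groth.Agent.Synt29.koszul_eq]
    exact Koszul15.isZero_X (ModuleCat.of A A) l i (Or.inl hi)
  obtain ⟨π, hπ⟩ := exists_quasiIso_single _ hb hex e
  exact nonempty_tor_iso _ (termwiseFlat_koszul l) hb π N n

/-- The Euler characteristic of `Tor` against a quotient by a weakly regular sequence. -/
theorem chi_quot_eq (l : List A) (hl : RingTheory.Sequence.IsWeaklyRegular A l)
    (N : Type u) [AddCommGroup N] [Module A N] :
    IntMult.chi A (A ⧸ Ideal.ofList l) N = GrLib8.KChi.chi (ModuleCat.of A N) l := by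
  rw [← GrLib8.KChi.sum_tensor_eq_chi, IntMult.chi]
  set G : ℤ → ℤ := fun i => ((i.negOnePow : ℤˣ) : ℤ) *
    ((Module.length A ((DRing.tensorCx (Koszul.koszul A l) (ModuleCat.of A N)).homology i)).toNat : ℤ) with hG
  have h1 : ∀ n : ℕ, (-1 : ℤ) ^ n * ((Module.length A (DRing.Tor A n (A ⧸ Ideal.ofList l) N)).toNat : ℤ) =
      G (-(n : ℤ)) := fun n => by
    obtain ⟨e⟩ := nonempty_tor_quot_iso l hl (ModuleCat.of A N) n
    simp only [hG, Int.negOnePow_neg, e.toLinearEquiv.length_eq]
    simp [Int.negOnePow_def]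
  have h2 : ∀ i : ℤ, 0 < i → G i = 0 := fun i hi => by
    obtain ⟨e⟩ := GrLib8.KChi.nonempty_tensor_iso (ModuleCat.of A N) l
    have := GrLib8.KChi.len_H_eq_zero (ModuleCat.of A N) l (Or.inl hi : 0 < i ∨ _)
    rw [← GrLib8.KChi.len_congr (HomologicalComplex.homologyMapIso e i).toLinearEquiv] at this
    simp only [hG]
    exact mul_eq_zero_of_right _ this
  rw [finsum_congr h1]
  have h3 : Function.support G ⊆ Set.range fun n : ℕ => -(n : ℤ) := fun i hi => by
    refine ⟨i.natAbs, ?_⟩
    have : i ≤ 0 := not_lt.1 fun h => hi (h2 i h)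
    show -(i.natAbs : ℤ) = i
    omega
  rw [← finsum_mem_range (f := G) (g := fun n : ℕ => -(n : ℤ)) fun a b h => by simpa using h]
  rw [← finsum_mem_univ G]
  exact finsum_mem_inter_support_eq' G _ _ fun i hi => iff_of_true (h3 hi) (Set.mem_univ i)

theorem mem_maximalIdeal_of_isRegular [IsLocalRing A] {c : ℕ} {g : Fin c → A}
    (hreg : RingTheory.Sequence.IsRegular A (List.ofFn g)) (j : Fin c) : g j ∈ IsLocalRing.maximalIdeal A := by
  by_contra hu
  refine hreg.top_ne_smul (le_antisymm ?_ le_top)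
  rw [Ideal.smul_eq_mul, Ideal.mul_top]
  exact (Ideal.eq_top_of_isUnit_mem (Ideal.ofList (List.ofFn g))
    (Ideal.subset_span (List.mem_ofFn.2 ⟨j, rfl⟩)) (IsLocalRing.notMem_maximalIdeal.1 hu)).ge

theorem tendsto_samuel_chi [IsNoetherianRing A] [IsLocalRing A] {c : ℕ} (g : Fin c → A)
    (hreg : RingTheory.Sequence.IsRegular A (List.ofFn g))
    (M : Type u) [AddCommGroup M] [Module A M] [Module.Finite A M]
    (hfl : IsFiniteLength A (M ⧸ (Ideal.span (Set.range g) • (⊤ : Submodule A M)))) :
    Filter.Tendsto (fun t : ℕ => (c.factorial : ℝ) *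
      ((Module.length A (M ⧸ (Ideal.span (Set.range g) ^ t • (⊤ : Submodule A M)))).toNat : ℝ) / (t : ℝ) ^ c)
      Filter.atTop (nhds (IntMult.chi A (A ⧸ Ideal.span (Set.range g)) M : ℝ)) := by
  have h := GrLib8.Samuel.tendsto_samuel_koszul c g (mem_maximalIdeal_of_isRegular hreg) M hfl
  rwa [GrLib8.KChi.span_range_eq_ofList, chi_quot_eq _ hreg.toIsWeaklyRegular M,
    ← GrLib8.KChi.span_range_eq_ofList]

end Groth.Agent.H23.KoszulTor
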