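import Groth.Agent.H23.CMTor
import Groth.Agent.H23.StalkIdeal
import Groth.Agent.QCoh.Stalk
import Groth.Agent.GrpSchLib.SmoothRegular
import Groth.Agent.VarDim.Fibre
import Groth.Agent.VarDim.Top
import Groth.Agent.VarDim.Local
import Groth.Agent.LC.ExtDim
import Groth.Agent.S7137
import Groth.Agent.Alg6.AssDepth
import Groth.Agent.AvramovLib.Ps
import Groth.Agent.PlanarExt.Basic

/-!
Multiplicities of proper intersections at a generic point, through depths.
-/

set_option autoImplicit false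
set_option linter.style.haveILetI false
set_option backward.isDefEq.respectTransparency.types false

universe u

open CategoryTheory AlgebraicGeometry IsLocalRing TopologicalSpace

namespace Groth.Agent.H23.MultCM

open Groth.Agent

variable {X : Scheme.{u}}

theorem stalkIdeal_eq (I : X.IdealSheafData) (U : X.affineOpens) {x : X} (hx : x ∈ U.1) :
    IntMult.stalkIdeal I x = (I.ideal U).map (X.presheaf.germ U.1 x hx).hom :=
  le_antisymm (iSup₂_le fun V hV => (CDivEq.stk_congr I V U hV hx).le)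
    (le_iSup₂ (f := fun (V : X.affineOpens) (hV : x ∈ (V : X.Opens)) => (I.ideal V).map (X.presheaf.germ V.1 x hV).hom) U hx)

theorem ker_stalkMap_subschemeι (I : X.IdealSheafData) (d : ↥I.subscheme) :
    RingHom.ker (I.subschemeι.stalkMap d).hom = IntMult.stalkIdeal I (I.subschemeι d) := by
  obtain ⟨_, ⟨U₀, hU₀, rfl⟩, hdU, -⟩ :=
    X.isBasis_affineOpens.exists_subset_of_mem_open (Set.mem_univ (I.subschemeι d)) isOpen_univ
  let U : X.affineOpens := ⟨U₀, hU₀⟩
  change I.subschemeι d ∈ U.1 at hdU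
  rw [stalkIdeal_eq I U hdU]
  let p := (U.2.primeIdealOf ⟨I.subschemeι d, hdU⟩).asIdeal
  let _ := X.presheaf.algebra_section_stalk (⟨I.subschemeι d, hdU⟩ : U.1)
  have : IsLocalization.AtPrime (X.presheaf.stalk (I.subschemeι d)) p :=
    U.2.isLocalization_stalk ⟨I.subschemeι d, hdU⟩
  have key : ∀ b : Γ(X, U.1), I.subschemeι.stalkMap d (X.presheaf.germ U.1 _ hdU b) =
      I.subscheme.presheaf.germ (I.subschemeι ⁻¹ᵁ U.1) d hdU (I.subschemeι.app U.1 b) := fun b =>
    Scheme.Hom.germ_stalkMap_apply I.subschemeι U.1 d hdU b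
  have hker : ∀ b, b ∈ I.ideal U ↔ I.subschemeι.app U.1 b = 0 := fun b => by
    rw [← I.ker_subschemeι_app U]; rfl
  refine le_antisymm (fun s hs => ?_) (Ideal.map_le_iff_le_comap.2 fun b hb => ?_)
  · obtain ⟨⟨b, c⟩, hbc⟩ := IsLocalization.surj p.primeCompl s
    have hb : I.subscheme.presheaf.germ (I.subschemeι ⁻¹ᵁ U.1) d hdU (I.subschemeι.app U.1 b) = 0 := by
      rw [← key]
      show (I.subschemeι.stalkMap d).hom (algebraMap Γ(X, U.1) _ b) = 0
      rw [← hbc, map_mul, RingHom.mem_ker.1 hs, zero_mul]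
    have hV : IsAffineOpen (I.subschemeι ⁻¹ᵁ U.1) := U.2.preimage _
    let q := (hV.primeIdealOf ⟨d, hdU⟩).asIdeal
    let _ := I.subscheme.presheaf.algebra_section_stalk (⟨d, hdU⟩ : (I.subschemeι ⁻¹ᵁ U.1 : I.subscheme.Opens))
    have : IsLocalization.AtPrime (I.subscheme.presheaf.stalk d) q := hV.isLocalization_stalk ⟨d, hdU⟩
    obtain ⟨⟨c', hc'⟩, h0⟩ := (IsLocalization.map_eq_zero_iff q.primeCompl (I.subscheme.presheaf.stalk d)
      (I.subschemeι.app U.1 b)).1 hb
    obtain ⟨e, rfl⟩ := I.subschemeι_app_surjective U c'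
    have he : IsUnit (algebraMap Γ(X, U.1) (X.presheaf.stalk (I.subschemeι d)) e) := by
      refine isUnit_of_map_unit (I.subschemeι.stalkMap d).hom _ ?_
      show IsUnit (I.subschemeι.stalkMap d (X.presheaf.germ U.1 _ hdU e))
      rw [key]
      exact IsLocalization.map_units (I.subscheme.presheaf.stalk d) (⟨_, hc'⟩ : q.primeCompl)
    have hmem : algebraMap Γ(X, U.1) (X.presheaf.stalk (I.subschemeι d)) (e * b) ∈
        (I.ideal U).map (X.presheaf.germ U.1 _ hdU).hom :=
      Ideal.mem_map_of_mem _ ((hker _).2 (by rw [map_mul]; exact h0))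
    have hcu := IsLocalization.map_units (X.presheaf.stalk (I.subschemeι d)) c
    rw [map_mul, ← hbc, ← mul_assoc, mul_comm _ (algebraMap _ _ (c : Γ(X, U.1)))] at hmem
    exact (Ideal.unit_mul_mem_iff_mem _ he).1 ((Ideal.unit_mul_mem_iff_mem _ hcu).1 hmem)
  · rw [Ideal.mem_comap, RingHom.mem_ker]
    show I.subschemeι.stalkMap d (X.presheaf.germ U.1 _ hdU b) = 0
    rw [key, (hker b).1 hb, map_zero]

section Geo

variable {k : Type u} [Field k] (f : X ⟶ Spec (CommRingCat.of k)) [LocallyOfFiniteType f]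
include f

/-- The local ring of an integral closed subscheme has dimension its dimension minus that of the point. -/
theorem exists_dim_quot (I : X.IdealSheafData) [IsIntegral I.subscheme] {r : ℕ}
    (hr : topologicalKrullDim I.support = r) {ξ : X} (hξ : ξ ∈ I.support) :
    ∃ b : ℕ, ringKrullDim (X.presheaf.stalk ξ ⧸ IntMult.stalkIdeal I ξ) = b ∧ VarDim.deg f ξ + b = r := by
  obtain ⟨d, rfl⟩ : ξ ∈ Set.range I.subschemeι := by rw [I.range_subschemeι]; exact hξ
  let g := I.subschemeι ≫ f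
  obtain ⟨b, hb, ⟨η, hη, hηd⟩, hle⟩ := VarDim.exists_deg_add_stalk g d
  have hgen : VarDim.deg g η = VarDim.deg g (genericPoint I.subscheme) :=
    le_antisymm (VarDim.deg_le_of_specializes g (genericPoint_specializes η))
      (hηd ▸ hle _ (genericPoint_specializes d))
  have hdeg : VarDim.deg g d = VarDim.deg f (I.subschemeι d) := by
    rw [VarDim.deg_comp_eq]
    simp [VarDim.fdeg, VarDim.rdeg_preimmersion]
  have hdim : topologicalKrullDim I.subscheme = r := by
    rw [← hr]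
    exact (IsHomeomorph.topologicalKrullDim_eq _
      ((I.subschemeι.isClosedEmbedding.isEmbedding.toHomeomorph).trans
        (Homeomorph.setCongr I.range_subschemeι)).isHomeomorph)
  rw [VarDim.topologicalKrullDim_eq_deg_genericPoint g] at hdim
  refine ⟨b, ?_, ?_⟩
  · rw [← hb, ← ker_stalkMap_subschemeι]
    exact ringKrullDim_eq_of_ringEquiv
      (RingHom.quotientKerEquivOfSurjective (I.subschemeι.stalkMap_surjective d))
  · have : VarDim.deg g (genericPoint I.subscheme) = r := by exact_mod_cast hdim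
    omega

theorem exists_dim_stalk [IrreducibleSpace X] {n : ℕ} (hn : topologicalKrullDim X = n) (ξ : X) :
    ∃ b : ℕ, ringKrullDim (X.presheaf.stalk ξ) = b ∧ VarDim.deg f ξ + b = n := by
  obtain ⟨b, hb, ⟨η, hη, hηd⟩, hle⟩ := VarDim.exists_deg_add_stalk f ξ
  rw [VarDim.topologicalKrullDim_eq_deg_genericPoint f] at hn
  have h1 : VarDim.deg f (genericPoint X) = n := by exact_mod_cast hn
  have h2 := VarDim.deg_le_of_specializes f (genericPoint_specializes η)
  have h3 := hle _ (genericPoint_specializes ξ)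
  exact ⟨b, hb, by omega⟩

/-- At the generic point of a component of a proper intersection: dimensions add up and the sum of the
ideals is primary for the maximal ideal. -/
theorem proper_data [IrreducibleSpace X] (IV IW : X.IdealSheafData) [IsIntegral IV.subscheme]
    [IsIntegral IW.subscheme] {n r s : ℕ} (hn : topologicalKrullDim X = n)
    (hr : topologicalKrullDim IV.support = r) (hs : topologicalKrullDim IW.support = s)
    (hprop : IntMult.ProperInt (IV.support : Set X) (IW.support : Set X) n r s) {ξ : X}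
    (hξV : ξ ∈ IV.support) (hξW : ξ ∈ IW.support)
    (hmax : ∀ ξ' : X, ξ' ∈ IV.support → ξ' ∈ IW.support → ξ' ⤳ ξ → ξ' = ξ) :
    ∃ d a b : ℕ, ringKrullDim (X.presheaf.stalk ξ) = d ∧
      ringKrullDim (X.presheaf.stalk ξ ⧸ IntMult.stalkIdeal IW ξ) = a ∧
      ringKrullDim (X.presheaf.stalk ξ ⧸ IntMult.stalkIdeal IV ξ) = b ∧ d ≤ a + b ∧
      ∃ t, maximalIdeal (X.presheaf.stalk ξ) ^ t ≤ IntMult.stalkIdeal IW ξ ⊔ IntMult.stalkIdeal IV ξ := by
  obtain ⟨d, hd, hd'⟩ := exists_dim_stalk f hn ξ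
  obtain ⟨b, hb, hb'⟩ := exists_dim_quot f IV hr hξV
  obtain ⟨a, ha, ha'⟩ := exists_dim_quot f IW hs hξW
  obtain ⟨hnrs, hdimVW⟩ := hprop ⟨ξ, hξV, hξW⟩
  rw [VarDim.topologicalKrullDim_set_eq_iSup_deg f (IV.support.isClosed.inter IW.support.isClosed)] at hdimVW
  have hz : VarDim.deg f ξ ≤ r + s - n := by
    have := (le_iSup (fun z : ↥((IV.support : Set X) ∩ IW.support) => ((VarDim.deg f z.1 : ℕ∞) : WithBot ℕ∞))
      ⟨ξ, hξV, hξW⟩).trans hdimVW
    exact Nat.cast_le.1 (WithBot.coe_le_coe.1 this)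
  refine ⟨d, a, b, hd, ha, hb, by omega, ?_⟩
  haveI : IsLocallyNoetherian X := LocallyOfFiniteType.isLocallyNoetherian f
  obtain ⟨_, ⟨U₀, hU₀, rfl⟩, hξU, -⟩ :=
    X.isBasis_affineOpens.exists_subset_of_mem_open (Set.mem_univ ξ) isOpen_univ
  let U : X.affineOpens := ⟨U₀, hU₀⟩
  refine Ideal.exists_pow_le_of_le_radical_of_fg ?_ (IsNoetherian.noetherian _)
  rw [Ideal.radical_eq_sInf]
  refine le_sInf fun q ⟨hq, hqp⟩ => ?_
  haveI := hqp
  let y := X.fromSpecStalk ξ ⟨q, hqp⟩
  have hyξ : y ⤳ ξ := by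
    have hle : (⟨q, hqp⟩ : PrimeSpectrum (X.presheaf.stalk ξ)) ⤳ closedPoint (X.presheaf.stalk ξ) :=
      specializes_closedPoint _
    exact Scheme.fromSpecStalk_closedPoint (X := X) (x := ξ) ▸ hle.map (X.fromSpecStalk ξ).continuous
  have hyU : y ∈ U.1 := hyξ.mem_open U.1.isOpen hξU
  have hy : (U.2.primeIdealOf ⟨y, hyU⟩).asIdeal = q.comap (X.presheaf.germ U.1 ξ hξU).hom := by
    have h1 : y = U.2.fromSpec (Spec.map (X.presheaf.germ U.1 ξ hξU) ⟨q, hqp⟩) := by
      show X.fromSpecStalk ξ ⟨q, hqp⟩ = _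
      rw [← U.2.fromSpecStalk_eq_fromSpecStalk hξU]
      rfl
    have h2 := U.2.fromSpec.isOpenEmbedding.injective ((U.2.fromSpec_primeIdealOf ⟨y, hyU⟩).trans h1)
    exact congrArg PrimeSpectrum.asIdeal h2
  have hmem : ∀ I : X.IdealSheafData, IntMult.stalkIdeal I ξ ≤ q → y ∈ I.support := fun I hI => by
    have h1 : y ∈ X.zeroLocus (U := U.1) (I.ideal U : Set Γ(X, U.1)) := by
      rw [Scheme.mem_zeroLocus_iff]
      intro g hg hbo
      refine (QCoh.mem_basicOpen_iff_notMem U.2 hyU g).1 hbo ?_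
      rw [hy]
      exact hI ((stalkIdeal_eq I U hξU).symm ▸ Ideal.mem_map_of_mem _ hg)
    have h2 := Set.ext_iff.1 (I.coe_support_inter U) y
    exact (h2.2 ⟨h1, hyU⟩).1
  have : y = ξ := hmax y (hmem IV (le_sup_right.trans hq)) (hmem IW (le_sup_left.trans hq)) hyξ
  have hcl : (⟨q, hqp⟩ : PrimeSpectrum (X.presheaf.stalk ξ)) = closedPoint (X.presheaf.stalk ξ) :=
    (X.fromSpecStalk ξ).isEmbedding.injective (this.trans Scheme.fromSpecStalk_closedPoint.symm)
  exact le_of_eq (congrArg PrimeSpectrum.asIdeal hcl).symm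

end Geo

section Depth

variable {A : Type u} [CommRing A]

/-- A Cohen–Macaulay quotient has depth equal to its dimension, over the base ring. -/
theorem le_depth_of_cm [IsLocalRing A] [IsNoetherianRing A] (I : Ideal A) {a : ℕ}
    (hcm : LocCoh.IsCohenMacaulayLocalRing (A ⧸ I)) (ha : ringKrullDim (A ⧸ I) = a) :
    (a : ℕ∞) ≤ LocCoh.depth A (A ⧸ I) := by
  haveI := hcm
  rw [Groth.Agent.S7137.depth_eq_of_surjective (R := A) (S := A ⧸ I) Ideal.Quotient.mk_surjective (A ⧸ I)]
  have h := hcm.supportDim_eq_depth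
  rw [Module.supportDim_self_eq_ringKrullDim, ha] at h
  exact (WithBot.coe_inj.1 h).le

/-- A regular local ring cut by a regular sequence is Cohen–Macaulay. -/
theorem le_depth_quot_regular [IsRegularLocalRing A] {c d b : ℕ} (g : Fin c → A)
    (hreg : RingTheory.Sequence.IsRegular A (List.ofFn g)) (hd : ringKrullDim A = d)
    (hb : ringKrullDim (A ⧸ Ideal.span (Set.range g)) = b) :
    (b : ℕ∞) ≤ LocCoh.depth A (A ⧸ Ideal.span (Set.range g)) := by
  have hmem : ∀ r ∈ List.ofFn g, r ∈ maximalIdeal A := fun r hr => by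
    by_contra hu
    refine hreg.top_ne_smul (le_antisymm ?_ le_top)
    rw [Ideal.smul_eq_mul, Ideal.mul_top]
    exact (Ideal.eq_top_of_isUnit_mem (Ideal.ofList (List.ofFn g)) (Ideal.subset_span (s := {x | x ∈ List.ofFn g}) (a := r) hr) (IsLocalRing.notMem_maximalIdeal.1 hu)).ge
  have hCM : LocCoh.IsCohenMacaulayModule A A := (AvramovLib.isCM_of_regular A).supportDim_eq_depth
  have h1 := LC.isCM_quot_ofList A hCM hreg.toIsWeaklyRegular hmem
  have hspan : (Ideal.ofList (List.ofFn g) • ⊤ : Submodule A A) = Ideal.span (Set.range g) := by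
    rw [Ideal.smul_eq_mul, Ideal.mul_top, Ideal.ofList]
    congr 1
    ext x
    simp [List.mem_ofFn']
  rw [hspan] at h1
  unfold LocCoh.IsCohenMacaulayModule at h1
  rw [Module.supportDim_quotient_eq_ringKrullDim, hb] at h1
  exact (WithBot.coe_inj.1 h1).le

end Depth

section Mult

variable {K : Type u} [Field K] {X : Scheme.{u}} (f : X ⟶ Spec (CommRingCat.of K)) [Smooth f]
  [IrreducibleSpace X] (IV IW : X.IdealSheafData) [IsIntegral IV.subscheme] [IsIntegral IW.subscheme]
  {n r s : ℕ} (hn : topologicalKrullDim X = n)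
  (hr : topologicalKrullDim IV.support = r) (hs : topologicalKrullDim IW.support = s)
  (hprop : IntMult.ProperInt (IV.support : Set X) (IW.support : Set X) n r s) {ξ : X}
  (hξV : ξ ∈ IV.support) (hξW : ξ ∈ IW.support)
  (hmax : ∀ ξ' : X, ξ' ∈ IV.support → ξ' ∈ IW.support → ξ' ⤳ ξ → ξ' = ξ)

include f hn hr hs hprop hξV hξW hmax in
theorem mult_eq_length
    (hV : ∀ d b : ℕ, ringKrullDim (X.presheaf.stalk ξ) = d →
      ringKrullDim (X.presheaf.stalk ξ ⧸ IntMult.stalkIdeal IV ξ) = b →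
      (b : ℕ∞) ≤ LocCoh.depth (X.presheaf.stalk ξ) (X.presheaf.stalk ξ ⧸ IntMult.stalkIdeal IV ξ))
    (hW : ∀ d a b : ℕ, ringKrullDim (X.presheaf.stalk ξ) = d →
      ringKrullDim (X.presheaf.stalk ξ ⧸ IntMult.stalkIdeal IW ξ) = a →
      ringKrullDim (X.presheaf.stalk ξ ⧸ IntMult.stalkIdeal IV ξ) = b → d ≤ a + b →
      ∃ a' : ℕ, d ≤ a' + b ∧
        (a' : ℕ∞) ≤ LocCoh.depth (X.presheaf.stalk ξ) (X.presheaf.stalk ξ ⧸ IntMult.stalkIdeal IW ξ)) :
    IntMult.mult IV IW ξ = ((Module.length (X.presheaf.stalk ξ)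
      (X.presheaf.stalk ξ ⧸ (IntMult.stalkIdeal IW ξ ⊔ IntMult.stalkIdeal IV ξ))).toNat : ℤ) := by
  haveI := GrpSchLib.isRegularLocalRing_stalk_of_smooth f ξ
  obtain ⟨d, a, b, hd, ha, hb, hab, hrad⟩ := proper_data f IV IW hn hr hs hprop hξV hξW hmax
  obtain ⟨a', hab', ha'⟩ := hW d a b hd ha hb hab
  exact CMTor.chi_quot_eq_length d hd _ _ a' b ha' (hV d b hd hb) hab' hrad

end Mult

section Extra

variable {X : Scheme.{u}}

/-- The stalk ideal of an integral closed subscheme is prime. -/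
theorem isPrime_stalkIdeal (I : X.IdealSheafData) [IsIntegral I.subscheme] {ξ : X} (hξ : ξ ∈ I.support) :
    (IntMult.stalkIdeal I ξ).IsPrime := by
  obtain ⟨d, rfl⟩ : ξ ∈ Set.range I.subschemeι := by rw [I.range_subschemeι]; exact hξ
  rw [← ker_stalkMap_subschemeι]
  exact RingHom.ker_isPrime _

end Extra

end Groth.Agent.H23.MultCM
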