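import Groth.Agent.H23.KoszulTor
import Groth.Agent.H23.MultCM

/-!
# Intersection multiplicity with a locally complete intersection as a Koszul characteristic
-/

set_option autoImplicit false
set_option linter.style.haveILetI false

universe u

open CategoryTheory AlgebraicGeometry IsLocalRing

namespace Groth.Agent.H23.KoszulTor

variable {A : Type u} [CommRing A]

theorem chi_comm (M N : Type u) [AddCommGroup M] [Module A M] [AddCommGroup N] [Module A N] :
    IntMult.chi A M N = IntMult.chi A N M :=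
  finsum_congr fun i => by
    rw [(Groth.Agent.H9Misc.TorBalance.torSymm (ModuleCat.of A M) (ModuleCat.of A N) i).toLinearEquiv.length_eq]

/-- Quotient of a cyclic module. -/
noncomputable def quotSMulEquiv (J K : Ideal A) :
    ((A ⧸ J) ⧸ (K • (⊤ : Submodule A (A ⧸ J)))) ≃ₗ[A] A ⧸ (J ⊔ K) :=
  (Submodule.quotEquivOfEq _ _ (show K • (⊤ : Submodule A (A ⧸ J)) = Submodule.map J.mkQ K by
    rw [← Submodule.range_mkQ J, LinearMap.range_eq_map, ← Submodule.map_smul'', Ideal.smul_eq_mul,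
      Ideal.mul_top])).trans (Submodule.quotientQuotientEquivQuotientSup J K)

theorem isFiniteLength_quot [IsLocalRing A] [IsNoetherianRing A] {J : Ideal A} {t : ℕ}
    (ht : maximalIdeal A ^ t ≤ J) : IsFiniteLength A (A ⧸ J) := by
  have h := CycLib.length_quot_pow_ne_top J ht A 1 le_rfl
  rw [pow_one] at h
  exact (Submodule.quotEquivOfEq _ _ (by rw [Ideal.smul_eq_mul, Ideal.mul_top])).isFiniteLength
    (Module.length_ne_top_iff.1 h)

end Groth.Agent.H23.KoszulTor

namespace Groth.Agent.H23.MultKoszul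

open Groth.Agent.H23.KoszulTor

variable {K : Type u} [Field K] {X : Scheme.{u}} (f : X ⟶ Spec (CommRingCat.of K)) [Smooth f]
  [IrreducibleSpace X] (IV IW : X.IdealSheafData) [IsIntegral IV.subscheme] [IsIntegral IW.subscheme]
  {n r s : ℕ} (hn : topologicalKrullDim X = n)
  (hr : topologicalKrullDim IV.support = r) (hs : topologicalKrullDim IW.support = s)
  (hprop : IntMult.ProperInt (IV.support : Set X) (IW.support : Set X) n r s) {ξ : X}
  (hξV : ξ ∈ IV.support) (hξW : ξ ∈ IW.support)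
  (hmax : ∀ ξ' : X, ξ' ∈ IV.support → ξ' ∈ IW.support → ξ' ⤳ ξ → ξ' = ξ)
  {c : ℕ} (g : Fin c → ↑(X.presheaf.stalk ξ)) (hg : IntMult.stalkIdeal IV ξ = Ideal.span (Set.range g))
  (hreg : RingTheory.Sequence.IsRegular (↑(X.presheaf.stalk ξ)) (List.ofFn g))

include f hn hr hs hprop hξV hξW hmax hg hreg in
theorem tendsto_and_pos :
    Filter.Tendsto (fun t : ℕ => (c.factorial : ℝ) * ((Module.length (X.presheaf.stalk ξ)
      (↑(X.presheaf.stalk ξ) ⧸ (IntMult.stalkIdeal IW ξ ⊔ IntMult.stalkIdeal IV ξ ^ t))).toNat : ℝ) / (t : ℝ) ^ c)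
      Filter.atTop (nhds (IntMult.mult IV IW ξ : ℝ)) ∧ 0 < IntMult.mult IV IW ξ := by
  haveI : IsLocallyNoetherian X := LocallyOfFiniteType.isLocallyNoetherian f
  obtain ⟨d, a, b, hd, ha, hb, hab, T, hT⟩ := MultCM.proper_data f IV IW hn hr hs hprop hξV hξW hmax
  rw [hg] at hb hT
  have hfl : IsFiniteLength ↑(X.presheaf.stalk ξ) ((↑(X.presheaf.stalk ξ) ⧸ (IntMult.stalkIdeal IW ξ)) ⧸ (Ideal.span (Set.range g) • (⊤ : Submodule ↑(X.presheaf.stalk ξ) (↑(X.presheaf.stalk ξ) ⧸ (IntMult.stalkIdeal IW ξ))))) :=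
    (quotSMulEquiv (IntMult.stalkIdeal IW ξ) _).symm.isFiniteLength (isFiniteLength_quot hT)
  have hmult : IntMult.mult IV IW ξ = IntMult.chi ↑(X.presheaf.stalk ξ) (↑(X.presheaf.stalk ξ) ⧸ Ideal.span (Set.range g)) (↑(X.presheaf.stalk ξ) ⧸ (IntMult.stalkIdeal IW ξ)) := by
    rw [IntMult.mult, hg, chi_comm]
  refine ⟨?_, ?_⟩
  · rw [hg, hmult]
    refine (tendsto_samuel_chi g hreg (↑(X.presheaf.stalk ξ) ⧸ (IntMult.stalkIdeal IW ξ)) hfl).congr fun t => ?_
    rw [(quotSMulEquiv (IntMult.stalkIdeal IW ξ) _).length_eq]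
  · have hspan := GrLib8.KChi.span_range_eq_ofList g
    rw [hmult, hspan, chi_quot_eq _ hreg.toIsWeaklyRegular]
    have hspec := GrLib8.KChi.dimSpec (List.ofFn g) (fun y hy => by
      obtain ⟨j, rfl⟩ := List.mem_ofFn.1 hy
      exact mem_maximalIdeal_of_isRegular hreg j) (↑(X.presheaf.stalk ξ) ⧸ (IntMult.stalkIdeal IW ξ)) ((GrLib8.KChi.FL_iff _ _).2 (hspan ▸ hfl))
    refine hspec.2.2 ?_
    have hbc := ringKrullDim_add_length_eq_ringKrullDim_of_isRegular (List.ofFn g) hreg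
    rw [← hspan, hb, hd, List.length_ofFn] at hbc
    have hbc' : b + c = d := by exact_mod_cast hbc
    have hsd : Module.supportDim ↑(X.presheaf.stalk ξ) (↑(X.presheaf.stalk ξ) ⧸ (IntMult.stalkIdeal IW ξ)) = (a : WithBot ℕ∞) :=
      (Module.supportDim_quotient_eq_ringKrullDim (IntMult.stalkIdeal IW ξ)).trans ha
    have hle := hspec.1
    rw [List.length_ofFn] at hle
    rw [hsd] at hle
    have hle' : a ≤ c := by exact_mod_cast hle
    rw [List.length_ofFn]
    show Module.supportDim ↑(X.presheaf.stalk ξ) (↑(X.presheaf.stalk ξ) ⧸ (IntMult.stalkIdeal IW ξ)) = _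
    rw [hsd]
    exact_mod_cast (show a = c by omega)

end Groth.Agent.H23.MultKoszul
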