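import Groth.Agent.TorBridge.LES
import Groth.Agent.S6315
import Groth.Agent.RegExch.Relative
import Groth.Agent.LC.PdRegular
import Groth.Agent.GrLib8.KChiArith
import Groth.Agent.H23.MultKoszul
import Groth.Prelude.Def_IntMult

/-!
# The Tor Euler characteristic over a regular local ring is additive
-/

set_option autoImplicit false
set_option linter.style.haveILetI false

universe u

open CategoryTheory CategoryTheory.Limits IsLocalRing

namespace Groth.Agent.H23.ChiAdd

open Groth.Agent Groth.Agent.GrLib8.KChi

variable {A : Type u} [CommRing A]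

/-- A projective resolution tensored with `X`. -/
noncomputable abbrev C {N : ModuleCat.{u} A} (P : ProjectiveResolution N) (X : ModuleCat.{u} A) :
    ChainComplex (ModuleCat.{u} A) ℕ :=
  ((TorBridge.tenF X).mapHomologicalComplex (ComplexShape.down ℕ)).obj P.complex

theorem smul_homology_eq_zero (L : ChainComplex (ModuleCat.{u} A) ℕ) (a : A) (h : a • 𝟙 L = 0) (i : ℕ)
    (z : L.homology i) : a • z = 0 := by
  obtain ⟨w, rfl⟩ := (ModuleCat.epi_iff_surjective (L.homologyπ i)).1 inferInstance z
  have h1 : HomologicalComplex.homologyMap (a • 𝟙 L) i = 0 := by rw [h, HomologicalComplex.homologyMap_zero]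
  have h2 := ConcreteCategory.congr_hom (HomologicalComplex.homologyπ_naturality (a • 𝟙 L) i) w
  rw [h1] at h2
  rw [← map_smul, show a • w = (HomologicalComplex.cyclesMap (a • 𝟙 L) i).hom w from
    (ModuleCat.mono_iff_injective (L.iCycles i)).1 inferInstance ?_]
  · exact h2.symm
  · refine (map_smul (L.iCycles i).hom a w).trans ?_
    exact (ConcreteCategory.congr_hom (HomologicalComplex.cyclesMap_i (a • 𝟙 L) i) w).symm

theorem smul_tor_eq_zero_left {M N : Type u} [AddCommGroup M] [Module A M] [AddCommGroup N] [Module A N]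
    {a : A} (ha : a ∈ Module.annihilator A M) (i : ℕ) (z : DRing.Tor A i M N) : a • z = 0 := by
  let P : ProjectiveResolution (ModuleCat.of A N) := ProjectiveResolution.of _
  let e := (P.isoLeftDerivedObj (TorBridge.tenF (ModuleCat.of A M)) i).toLinearEquiv
  refine e.injective (((map_smul e a z).trans ?_).trans (map_zero e).symm)
  refine smul_homology_eq_zero (C P (ModuleCat.of A M)) a (HomologicalComplex.hom_ext _ _ fun n => ?_) i _
  refine ModuleCat.hom_ext ?_
  show a • (LinearMap.id : TensorProduct A M (P.complex.X n) →ₗ[A] TensorProduct A M (P.complex.X n)) = 0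
  refine TensorProduct.ext' fun x y => ?_
  rw [LinearMap.smul_apply, LinearMap.id_apply, TensorProduct.smul_tmul', Module.mem_annihilator.1 ha x,
    TensorProduct.zero_tmul, LinearMap.zero_apply]

theorem smul_tor_eq_zero {M N : Type u} [AddCommGroup M] [Module A M] [AddCommGroup N] [Module A N]
    {a : A} (ha : a ∈ Module.annihilator A M ⊔ Module.annihilator A N) (i : ℕ) (z : DRing.Tor A i M N) :
    a • z = 0 := by
  obtain ⟨b, hb, c, hc, rfl⟩ := Submodule.mem_sup.1 ha
  let e := (H9Misc.TorBalance.torSymm (ModuleCat.of A M) (ModuleCat.of A N) i).toLinearEquiv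
  have hc' : c • z = 0 := e.injective (by
    rw [map_smul, map_zero]
    exact smul_tor_eq_zero_left hc i _)
  rw [add_smul, smul_tor_eq_zero_left hb i z, hc', add_zero]

theorem tor_zero_of_subsingleton (M N : Type u) [AddCommGroup M] [Module A M] [AddCommGroup N] [Module A N]
    [Subsingleton M] (i : ℕ) : Subsingleton (DRing.Tor A i M N) :=
  subsingleton_of_forall_eq 0 fun z => by
    rw [← one_smul A z]
    exact smul_tor_eq_zero (Submodule.mem_sup_left
      (Module.mem_annihilator.2 fun x => Subsingleton.elim _ _)) i z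

theorem chi_eq_zero_of_subsingleton (M N : Type u) [AddCommGroup M] [Module A M] [AddCommGroup N] [Module A N]
    [Subsingleton M] : IntMult.chi A M N = 0 := by
  refine finsum_eq_zero_of_forall_eq_zero fun i => ?_
  haveI := tor_zero_of_subsingleton (A := A) M N i
  rw [Module.length_eq_zero]
  simp

theorem chi_congr_left {M M' N : Type u} [AddCommGroup M] [Module A M] [AddCommGroup M'] [Module A M']
    [AddCommGroup N] [Module A N] (e : M ≃ₗ[A] M') : IntMult.chi A M N = IntMult.chi A M' N :=
  finsum_congr fun i => by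
    rw [((((Tor (ModuleCat.{u} A) i).mapIso e.toModuleIso).app (ModuleCat.of A N))).toLinearEquiv.length_eq]

/-- The intersection of the supports is at most the closed point. -/
def Meet [IsLocalRing A] (M N : Type u) [AddCommGroup M] [Module A M] [AddCommGroup N] [Module A N] : Prop :=
  ∀ p : PrimeSpectrum A, Module.annihilator A M ⊔ Module.annihilator A N ≤ p.asIdeal → p = closedPoint A

section Regular

variable [IsRegularLocalRing A]

theorem meet_comm {M N : Type u} [AddCommGroup M] [Module A M] [AddCommGroup N] [Module A N] (h : Meet (A := A) M N) :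
    Meet (A := A) N M := fun p hp => h p (sup_comm (Module.annihilator A M) _ ▸ hp)

theorem Meet.of_le {M M' N : Type u} [AddCommGroup M] [Module A M] [AddCommGroup M'] [Module A M']
    [AddCommGroup N] [Module A N] (h : Meet (A := A) M N)
    (hle : Module.annihilator A M ≤ Module.annihilator A M') : Meet (A := A) M' N :=
  fun p hp => h p ((sup_le_sup_right hle _).trans hp)

theorem isFiniteLength_tor {M N : Type u} [AddCommGroup M] [Module A M] [Module.Finite A M] [AddCommGroup N]
    [Module A N] [Module.Finite A N] (h : Meet (A := A) M N) (i : ℕ) : IsFiniteLength A (DRing.Tor A i M N) := by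
  haveI : Module.Finite A (DRing.Tor A i M N) := S6315.result A M N i
  refine KZ.isFiniteLength_of_support_subset _ fun p hp => h p fun a ha => ?_
  rw [Module.support_eq_zeroLocus, PrimeSpectrum.mem_zeroLocus] at hp
  exact hp (Module.mem_annihilator.2 (smul_tor_eq_zero ha i))

theorem subsingleton_tor_of_lt {d : ℕ} (hd : ringKrullDim A = d) (M N : Type u) [AddCommGroup M] [Module A M]
    [Module.Finite A M] [AddCommGroup N] [Module A N] {i : ℕ} (hi : d < i) : Subsingleton (DRing.Tor A i M N) :=
  RegExch.torDimLE_of_pdLE d M (LC.pdLE_of_le_depth A d hd M d le_add_self) N i hi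

omit [IsRegularLocalRing A] in
theorem sum_neg_one_telescope (z : ℕ → ℤ) : ∀ m : ℕ,
    ∑ i ∈ Finset.range m, (-1 : ℤ) ^ i * (z (i + 1) + z i) = z 0 - (-1) ^ m * z m
  | 0 => by simp
  | m + 1 => by
    rw [Finset.sum_range_succ, sum_neg_one_telescope z m, pow_succ]
    ring

theorem chi_add {M₁ M₂ M₃ N : Type u} [AddCommGroup M₁] [Module A M₁] [Module.Finite A M₁]
    [AddCommGroup M₂] [Module A M₂] [Module.Finite A M₂] [AddCommGroup M₃] [Module A M₃] [Module.Finite A M₃]
    [AddCommGroup N] [Module A N] [Module.Finite A N] (f : M₁ →ₗ[A] M₂) (g : M₂ →ₗ[A] M₃)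
    (hf : Function.Injective f) (hg : Function.Surjective g) (hfg : Function.Exact f g)
    (h : Meet (A := A) M₂ N) :
    IntMult.chi A M₂ N = IntMult.chi A M₁ N + IntMult.chi A M₃ N := by
  obtain ⟨d, hd⟩ : ∃ d : ℕ, ringKrullDim A = d := ⟨(maximalIdeal A).spanFinrank, IsRegularLocalRing.spanFinrank_maximalIdeal.symm⟩
  have h1 : Meet (A := A) M₁ N := h.of_le fun a ha => Module.mem_annihilator.2 fun x => hf (by
    rw [map_smul, Module.mem_annihilator.1 ha, map_zero])
  have h3 : Meet (A := A) M₃ N := h.of_le fun a ha => Module.mem_annihilator.2 fun x => by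
    obtain ⟨y, rfl⟩ := hg x
    rw [← map_smul, Module.mem_annihilator.1 ha, map_zero]
  let P : ProjectiveResolution (ModuleCat.of A N) := ProjectiveResolution.of _
  let c := ComplexShape.down ℕ
  let F : C P (ModuleCat.of A M₁) ⟶ C P (ModuleCat.of A M₂) :=
    (NatTrans.mapHomologicalComplex ((MonoidalCategory.tensoringLeft (ModuleCat.{u} A)).map (ModuleCat.ofHom f)) c).app P.complex
  let G : C P (ModuleCat.of A M₂) ⟶ C P (ModuleCat.of A M₃) :=
    (NatTrans.mapHomologicalComplex ((MonoidalCategory.tensoringLeft (ModuleCat.{u} A)).map (ModuleCat.ofHom g)) c).app P.complex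
  have hFG : F ≫ G = 0 := by
    refine HomologicalComplex.hom_ext _ _ fun j => ModuleCat.hom_ext ?_
    show g.rTensor (P.complex.X j) ∘ₗ f.rTensor (P.complex.X j) = 0
    rw [← LinearMap.rTensor_comp, hfg.linearMap_comp_eq_zero, LinearMap.rTensor_zero]
  have hK : (ShortComplex.mk F G hFG).ShortExact := by
    refine HomologicalComplex.shortExact_of_degreewise_shortExact _ fun j => ?_
    haveI : Module.Projective A (P.complex.X j) := (IsProjective.iff_projective _).2 (P.projective j)
    exact
      { exact := (ShortComplex.ShortExact.moduleCat_exact_iff_function_exact _).2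
          (rTensor_exact (P.complex.X j) hfg hg)
        mono_f := (ModuleCat.mono_iff_injective _).2
          (Module.Flat.rTensor_preserves_injective_linearMap (M := P.complex.X j) f hf)
        epi_g := (ModuleCat.epi_iff_surjective _).2 (LinearMap.rTensor_surjective (P.complex.X j) hg) }
  have hlen : ∀ (M : Type u) [AddCommGroup M] [Module A M] (i : ℕ),
      len A (DRing.Tor A i M N) = len A ((C P (ModuleCat.of A M)).homology i) := fun M _ _ i =>
    len_congr (P.isoLeftDerivedObj (TorBridge.tenF (ModuleCat.of A M)) i).toLinearEquiv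
  have hfl : ∀ (M : Type u) [AddCommGroup M] [Module A M] [Module.Finite A M], Meet (A := A) M N → ∀ i : ℕ,
      IsFiniteLength A ((C P (ModuleCat.of A M)).homology i) := fun M _ _ _ hM i =>
    (P.isoLeftDerivedObj (TorBridge.tenF (ModuleCat.of A M)) i).toLinearEquiv.isFiniteLength (isFiniteLength_tor hM i)
  have hbig : ∀ (M : Type u) [AddCommGroup M] [Module A M] [Module.Finite A M] (i : ℕ), d < i →
      Subsingleton ((C P (ModuleCat.of A M)).homology i) := fun M _ _ _ i hi => by
    exact ⟨fun x y => (P.isoLeftDerivedObj (TorBridge.tenF (ModuleCat.of A M)) i).toLinearEquiv.symm.injective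
      (@Subsingleton.elim _ (subsingleton_tor_of_lt hd M N hi) _ _)⟩
  let a : ∀ i, (C P (ModuleCat.of A M₁)).homology i →ₗ[A] (C P (ModuleCat.of A M₂)).homology i :=
    fun i => (HomologicalComplex.homologyMap F i).hom
  let b : ∀ i, (C P (ModuleCat.of A M₂)).homology i →ₗ[A] (C P (ModuleCat.of A M₃)).homology i :=
    fun i => (HomologicalComplex.homologyMap G i).hom
  let δ : ∀ i, (C P (ModuleCat.of A M₃)).homology (i + 1) →ₗ[A] (C P (ModuleCat.of A M₁)).homology i :=
    fun i => (hK.δ (i + 1) i rfl).hom
  let z : ℕ → ℤ := fun i => match i with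
    | 0 => 0
    | j + 1 => len A (LinearMap.range (δ j))
  have q1 : ∀ i, len A ((C P (ModuleCat.of A M₁)).homology i) = z (i + 1) + len A (LinearMap.range (a i)) :=
    fun i => len_exact (δ i) (a i)
      ((ShortComplex.ShortExact.moduleCat_exact_iff_function_exact _).1 (hK.homology_exact₁ (i + 1) i rfl))
      (hfl M₁ h1 i)
  have q2 : ∀ i, len A ((C P (ModuleCat.of A M₂)).homology i) =
      len A (LinearMap.range (a i)) + len A (LinearMap.range (b i)) :=
    fun i => len_exact (a i) (b i)
      ((ShortComplex.ShortExact.moduleCat_exact_iff_function_exact _).1 (hK.homology_exact₂ i)) (hfl M₂ h i)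
  have q3 : ∀ i, len A ((C P (ModuleCat.of A M₃)).homology i) = len A (LinearMap.range (b i)) + z i := by
    rintro (_ | j)
    · have hsurj : Function.Surjective (b 0) := by
        haveI : Epi (HomologicalComplex.homologyMap G 0) := by
          haveI : Epi (G.f 0) := (ModuleCat.epi_iff_surjective _).2 (LinearMap.rTensor_surjective (P.complex.X 0) hg)
          exact HomologicalComplex.epi_homologyMap_of_epi_of_not_rel G 0 (by simp)
        exact (ModuleCat.epi_iff_surjective _).1 this
      show _ = _ + (0 : ℤ)
      rw [add_zero, len_congr (LinearEquiv.ofTop _ (LinearMap.range_eq_top.2 hsurj))]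
    · exact len_exact (b (j + 1)) (δ j)
        ((ShortComplex.ShortExact.moduleCat_exact_iff_function_exact _).1 (hK.homology_exact₃ (j + 1) j rfl))
        (hfl M₃ h3 (j + 1))
  have hsum : ∀ (M : Type u) [AddCommGroup M] [Module A M] [Module.Finite A M],
      IntMult.chi A M N = ∑ i ∈ Finset.range (d + 1), (-1 : ℤ) ^ i * len A ((C P (ModuleCat.of A M)).homology i) := by
    intro M _ _ _
    rw [IntMult.chi, finsum_eq_finsetSum_of_support_subset _ (s := Finset.range (d + 1)) fun i hi => ?_]
    · exact Finset.sum_congr rfl fun i _ => by rw [← hlen M i]; rfl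
    · by_contra hc
      rw [Finset.coe_range, Set.mem_Iio] at hc
      haveI := subsingleton_tor_of_lt hd M N (show d < i by omega)
      exact hi (by
        show (-1 : ℤ) ^ i * _ = 0
        rw [Module.length_eq_zero]
        simp)
  have hz : z (d + 1) = 0 := by
    show len A (LinearMap.range (δ d)) = 0
    haveI := hbig M₃ (d + 1) (by omega)
    haveI : Subsingleton (LinearMap.range (δ d)) := (δ d).surjective_rangeRestrict.subsingleton
    exact len_of_subsingleton _
  rw [hsum, hsum, hsum, ← Finset.sum_add_distrib]
  have key := sum_neg_one_telescope z (d + 1)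
  rw [hz, mul_zero, sub_zero, show z 0 = 0 from rfl] at key
  have : ∑ i ∈ Finset.range (d + 1), ((-1 : ℤ) ^ i * len A ((C P (ModuleCat.of A M₁)).homology i) +
        (-1 : ℤ) ^ i * len A ((C P (ModuleCat.of A M₃)).homology i)) =
      ∑ i ∈ Finset.range (d + 1), (-1 : ℤ) ^ i * len A ((C P (ModuleCat.of A M₂)).homology i) +
      ∑ i ∈ Finset.range (d + 1), (-1 : ℤ) ^ i * (z (i + 1) + z i) := by
    rw [← Finset.sum_add_distrib]
    refine Finset.sum_congr rfl fun i _ => ?_
    rw [q1, q2, q3]
    ring
  rw [this, key, add_zero]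

end Regular

end Groth.Agent.H23.ChiAdd
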