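import Groth.Agent.H23.FlatPushPull
import Groth.Agent.MorLib.BddFib

/-! A finite flat morphism: the fibre sums equal the rank. -/

set_option autoImplicit false
set_option linter.style.haveILetI false

universe u

open AlgebraicGeometry CategoryTheory Limits

namespace Groth.Agent.H23.FiniteFibreSum

open Groth.Agent

variable {X Y : Scheme.{u}}

set_option backward.isDefEq.respectTransparency.types false in
theorem sum_finrank (f : X ⟶ Y) [IsFinite f] [Flat f] (y : Y) :
    (f ⁻¹' {y}).Finite ∧
      ∑ᶠ x ∈ f ⁻¹' {y}, f.residueDegree x * (fibreLen f x).toNat = f.finrank y := by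
  let K : CommRingCat.{u} := Y.residueField y
  have hK : IsField K := Field.toIsField (Y.residueField y)
  let W := f.fiber y
  let a : W ⟶ Spec K := f.fiberToSpecResidueField y
  haveI : IsFinite a := MorphismProperty.pullback_snd _ _ inferInstance
  haveI : Flat a := MorphismProperty.pullback_snd _ _ inferInstance
  haveI : IsAffine W := isAffine_of_isAffineHom a
  let φ := (Scheme.ΓSpecIso K).inv ≫ a.appTop
  have e := MorLib.BF.eq_isoSpec_hom_comp a
  have h2 : IsFinite (Spec.map φ) := by
    have : IsFinite (W.isoSpec.inv ≫ a) := inferInstance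
    rwa [e, Iso.inv_hom_id_assoc] at this
  have hfin : φ.hom.Finite := (IsFinite.SpecMap_iff φ).mp h2
  haveI : Flat (Spec.map φ) := MorLib.BF.flat_to_field hK _
  haveI : IsFinite (Spec.map φ) := h2
  letI := hK.toField
  haveI : IsArtinianRing Γ(W, ⊤) := by
    letI := φ.hom.toAlgebra
    haveI : Module.Finite K Γ(W, ⊤) := hfin
    exact isArtinian_of_tower K inferInstance
  haveI : Finite ↥(Spec Γ(W, ⊤)) := inferInstanceAs (Finite (PrimeSpectrum Γ(W, ⊤)))
  letI := Fintype.ofFinite ↥(Spec Γ(W, ⊤))
  have hnum : f.finrank y = (letI := φ.hom.toAlgebra; Module.finrank K Γ(W, ⊤)) := by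
    rw [← MorLib.BF.finrank_SpecMap_of_isField hK φ hfin (IsLocalRing.closedPoint (Y.residueField y)),
      ← Scheme.Hom.finrank_comp_left_of_isIso W.isoSpec.hom, ← e]
    have := Scheme.Hom.finrank_pullback_snd f (Y.fromSpecResidueField y) (IsLocalRing.closedPoint (Y.residueField y))
    rw [Scheme.fromSpecResidueField_apply] at this
    exact this.symm
  let i := W.isoSpec.inv ≫ f.fiberι y
  have hr : Set.range i = f ⁻¹' {y} := by
    rw [Scheme.Hom.comp_base, TopCat.coe_comp, Set.range_comp,
      Set.range_eq_univ.2 (ConcreteCategory.bijective_of_isIso W.isoSpec.inv.base).surjective, Set.image_univ]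
    exact f.range_fiberι y
  rw [← hr, finsum_mem_range i.isEmbedding.injective, finsum_eq_sum_of_fintype, hnum]
  refine ⟨Set.finite_range _, ?_⟩
  have key := congrArg ENat.toNat (sum_length φ hfin ((Flat.SpecMap_iff).1 inferInstance))
  rw [ENat.toNat_mul, ENat.toNat_natCast, ENat.toNat_sum, Module.length_eq_one_iff.2 inferInstance, ENat.toNat_one,
    mul_one] at key
  · refine (Finset.sum_congr rfl fun P _ => ?_).trans key.symm
    rw [ENat.toNat_mul, ENat.toNat_natCast, mul_comm]
    refine congrArg₂ (fun a b => ENat.toNat a * b) ?_ ?_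
    · show fibreLen f (f.fiberι y (W.isoSpec.inv P)) = _
      rw [fibreLen_fiberι]
      exact length_self_of_bijective _ (bijective_stalkMap W.isoSpec.inv P)
    · have hcomp : i ≫ f = Spec.map φ ≫ Y.fromSpecResidueField y := by
        simp only [i, Category.assoc, Scheme.Hom.fiber_fac]
        show W.isoSpec.inv ≫ a ≫ _ = _
        rw [e, Category.assoc, Iso.inv_hom_id_assoc]
      have h1 := CycLib.residueDegree_comp i f P
      have h2 := CycLib.residueDegree_comp (Spec.map φ) (Y.fromSpecResidueField y) P
      rw [CycLib.residueDegree_preimmersion i, mul_one, residueDegree_congr' hcomp] at h1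
      rw [CycLib.residueDegree_preimmersion (Y.fromSpecResidueField y), one_mul, h1] at h2
      exact h2
  · intro P _
    haveI : IsArtinianRing ((Spec Γ(W, ⊤)).presheaf.stalk P) := by
      letI := stalkAlg Γ(W, ⊤) P
      haveI : IsLocalization.AtPrime ((Spec Γ(W, ⊤)).presheaf.stalk P) P.asIdeal :=
        StructureSheaf.IsLocalization.to_stalk Γ(W, ⊤) P
      exact IsArtinianRing.localization_artinian P.asIdeal.primeCompl _
    exact WithTop.mul_ne_top Module.length_ne_top (ENat.natCast_ne_top _)

end Groth.Agent.H23.FiniteFibreSum
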