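import Groth.Agent.QCoh.Stalk
import Groth.Agent.QCoh.VanIdeal
import Groth.Agent.QCoh.Qcqs
import Groth.Agent.CycLib.DivPush

/-!
# The semilocal algebra of a morphism finite over a neighbourhood of a point

For `g : Z ⟶ Y` finite over an affine open `V ∋ ζ`, the stalk of `g_* O_Z` at `ζ` is a finite algebra
over `O_{Y,ζ}` whose localisations at its maximal ideals are the local rings of `Z` at the points over `ζ`.
-/

set_option autoImplicit false
set_option linter.style.haveILetI false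
set_option backward.isDefEq.respectTransparency.types false

universe u

open AlgebraicGeometry CategoryTheory IsLocalRing

namespace Groth.Agent.H23.FinPush

open Groth.Agent

variable {Z Y : Scheme.{u}}

/-- The map of stalks at a point `z` over `ζ`. -/
noncomputable def stalkHom (g : Z ⟶ Y) {ζ : Y} {z : Z} (h : g z = ζ) :
    Y.presheaf.stalk ζ →+* Z.presheaf.stalk z :=
  (g.stalkMap z).hom.comp (Y.presheaf.stalkSpecializes (specializes_of_eq h)).hom

theorem stalkHom_refl (g : Z ⟶ Y) (z : Z) : stalkHom g (rfl : g z = g z) = (g.stalkMap z).hom := by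
  rw [stalkHom, TopCat.Presheaf.stalkSpecializes_refl]
  rfl

theorem isLocalHom_stalkHom (g : Z ⟶ Y) {ζ : Y} {z : Z} (h : g z = ζ) : IsLocalHom (stalkHom g h) := by
  subst h
  rw [stalkHom_refl]
  exact inferInstanceAs (IsLocalHom (g.stalkMap z).hom)

theorem flat_stalkHom (g : Z ⟶ Y) [Flat g] {ζ : Y} {z : Z} (h : g z = ζ) : (stalkHom g h).Flat := by
  subst h
  rw [stalkHom_refl]
  exact Flat.stalkMap g z

theorem stalkHom_germ (g : Z ⟶ Y) {ζ : Y} {z : Z} (h : g z = ζ) {V : Y.Opens} (hζ : ζ ∈ V) (hz : z ∈ g ⁻¹ᵁ V)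
    (a : Γ(Y, V)) :
    stalkHom g h (Y.presheaf.germ V ζ hζ a) = Z.presheaf.germ (g ⁻¹ᵁ V) z hz (g.app V a) := by
  subst h
  rw [stalkHom_refl]
  exact Scheme.Hom.germ_stalkMap_apply g V z hz a

theorem stalkHom_comp {X : Scheme.{u}} (i : Z ⟶ X) (f : X ⟶ Y) {ζ : Y} {z : Z} (h : f (i z) = ζ) :
    stalkHom (i ≫ f) h = (i.stalkMap z).hom.comp (stalkHom f h) := by
  subst h
  rw [stalkHom_refl f]
  refine (stalkHom_refl (i ≫ f) z).trans ?_
  rw [← CommRingCat.hom_comp, Scheme.Hom.stalkMap_comp]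
  rfl

/-- The residue degree through the map of stalks. -/
theorem length_residueField (g : Z ⟶ Y) {ζ : Y} {z : Z} (h : g z = ζ) (hfin : (g.residueFieldMap z).hom.Finite)
    [Algebra (Y.presheaf.stalk ζ) (Z.presheaf.stalk z)]
    [IsLocalHom (algebraMap (Y.presheaf.stalk ζ) (Z.presheaf.stalk z))]
    (halg : algebraMap (Y.presheaf.stalk ζ) (Z.presheaf.stalk z) = stalkHom g h) :
    (Module.length (ResidueField (Y.presheaf.stalk ζ)) (ResidueField (Z.presheaf.stalk z))).toNat =
      g.residueDegree z := by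
  subst h
  rw [stalkHom_refl] at halg
  have e : (algebraMap (ResidueField (Y.presheaf.stalk (g z))) (ResidueField (Z.presheaf.stalk z))) =
      (g.residueFieldMap z).hom := by
    refine RingHom.ext fun w => ?_
    obtain ⟨a, rfl⟩ := IsLocalRing.residue_surjective w
    rw [ResidueField.algebraMap_residue, halg]
    exact (congrArg (fun m : Y.presheaf.stalk (g z) ⟶ Z.residueField z => m.hom a)
      (Scheme.residue_residueFieldMap g z)).symm
  haveI : Module.Finite (ResidueField (Y.presheaf.stalk (g z))) (ResidueField (Z.presheaf.stalk z)) := by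
    rw [← RingHom.finite_algebraMap, e]
    exact hfin
  have key : (inferInstance : Algebra (ResidueField (Y.presheaf.stalk (g z))) (ResidueField (Z.presheaf.stalk z))) =
      (g.residueFieldMap z).hom.toAlgebra := Algebra.algebra_ext _ _ fun w => RingHom.congr_fun e w
  rw [Module.length_eq_finrank, ENat.toNat_natCast, Scheme.Hom.residueDegree]
  exact congrArg (fun a : Algebra (ResidueField (Y.presheaf.stalk (g z))) (ResidueField (Z.presheaf.stalk z)) =>
    @Module.finrank (ResidueField (Y.presheaf.stalk (g z))) (ResidueField (Z.presheaf.stalk z)) _ _ a.toModule) key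

theorem finite_fibre (g : Z ⟶ Y) {V : Y.Opens} [IsFinite (g ∣_ V)] {ζ : Y} (hζ : ζ ∈ V) :
    (g ⁻¹' {ζ}).Finite := by
  refine (((g ∣_ V).finite_preimage_singleton ⟨ζ, hζ⟩).image (g ⁻¹ᵁ V).ι).subset fun x hx => ?_
  refine ⟨⟨x, show g x ∈ V from (show g x = ζ from hx) ▸ hζ⟩, Subtype.ext ?_, rfl⟩
  show V.ι ((g ∣_ V) _) = ζ
  rw [← Scheme.Hom.comp_apply, morphismRestrict_ι, Scheme.Hom.comp_apply]
  exact hx

/-- The semilocal algebra at `ζ`. -/
theorem exists_semilocal (g : Z ⟶ Y) [QuasiCompact g] [QuasiSeparated g] {V : Y.Opens} (hV : IsAffineOpen V) [IsFinite (g ∣_ V)]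
    {ζ : Y} (hζ : ζ ∈ V) :
    ∃ (S : Type u) (_ : CommRing S) (_ : Algebra (Y.presheaf.stalk ζ) S)
      (σ : ∀ z : {z : Z // g z = ζ}, S →+* Z.presheaf.stalk z.1),
      Module.Finite (Y.presheaf.stalk ζ) S ∧
      (∀ z, (σ z).comp (algebraMap (Y.presheaf.stalk ζ) S) = stalkHom g z.2) ∧
      (∀ z, ((maximalIdeal (Z.presheaf.stalk z.1)).comap (σ z)).IsMaximal ∧
        letI := (σ z).toAlgebra
        IsLocalization ((maximalIdeal (Z.presheaf.stalk z.1)).comap (σ z)).primeCompl (Z.presheaf.stalk z.1)) ∧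
      Function.Injective (fun z => (maximalIdeal (Z.presheaf.stalk z.1)).comap (σ z)) ∧
      (∀ M : Ideal S, M.IsMaximal → ∃ z, (maximalIdeal (Z.presheaf.stalk z.1)).comap (σ z) = M) ∧
      (∀ z : {z : Z // g z = ζ}, (g.residueFieldMap z.1).hom.Finite) ∧
      Nonempty (((Coh.push g).obj (Coh.structureModule Z)).presheaf.stalk ζ ≃ₗ[Y.presheaf.stalk ζ] S) := by
  classical
  obtain ⟨hU, hfin⟩ := CycLib.finite_app_of_restrict g hV
  let U := g ⁻¹ᵁ V
  letI aRT : Algebra Γ(Y, V) Γ(Z, U) := (g.app V).hom.toAlgebra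
  haveI : Module.Finite Γ(Y, V) Γ(Z, U) := hfin
  let p := (hV.primeIdealOf ⟨ζ, hζ⟩).asIdeal
  let Q := Algebra.algebraMapSubmonoid Γ(Z, U) p.primeCompl
  let S := Localization Q
  letI aRA : Algebra Γ(Y, V) (Y.presheaf.stalk ζ) := QCoh.stalkAlg hζ
  haveI : IsLocalization p.primeCompl (Y.presheaf.stalk ζ) := QCoh.isLocalization_stalk' hV hζ
  letI aAS : Algebra (Y.presheaf.stalk ζ) S :=
    (IsLocalization.map (T := Q) S (algebraMap Γ(Y, V) Γ(Z, U)) (Submonoid.le_comap_map p.primeCompl) :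
      Y.presheaf.stalk ζ →+* S).toAlgebra
  haveI : IsScalarTower Γ(Y, V) (Y.presheaf.stalk ζ) S := IsScalarTower.of_algebraMap_eq fun a => by
    show algebraMap Γ(Y, V) S a = IsLocalization.map S _ _ (algebraMap Γ(Y, V) (Y.presheaf.stalk ζ) a)
    rw [IsLocalization.map_eq, ← IsScalarTower.algebraMap_apply]
  haveI : Module.Finite (Y.presheaf.stalk ζ) S := Module.Finite.of_isLocalization Γ(Y, V) Γ(Z, U) p.primeCompl
  have hzU : ∀ z : {z : Z // g z = ζ}, z.1 ∈ U := fun z => show g z.1 ∈ V from z.2.symm ▸ hζ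
  let γ : ∀ z : {z : Z // g z = ζ}, Γ(Z, U) →+* Z.presheaf.stalk z.1 := fun z =>
    (Z.presheaf.germ U z.1 (hzU z)).hom
  have hu : ∀ (z : {z : Z // g z = ζ}) (q : Q), IsUnit (γ z q.1) := by
    rintro z ⟨_, a, ha, rfl⟩
    refine (Z.mem_basicOpen (g.app V a) z.1 (hzU z)).1 ?_
    rw [← Scheme.preimage_basicOpen]
    exact show g z.1 ∈ Y.basicOpen a from z.2.symm ▸ (QCoh.mem_basicOpen_iff_notMem hV hζ a).2 ha
  let σ : ∀ z : {z : Z // g z = ζ}, S →+* Z.presheaf.stalk z.1 := fun z => IsLocalization.lift (hu z)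
  have hσ : ∀ z t, σ z (algebraMap Γ(Z, U) S t) = γ z t := fun z t => IsLocalization.lift_eq (hu z) t
  have hσA : ∀ z, (σ z).comp (algebraMap (Y.presheaf.stalk ζ) S) = stalkHom g z.2 := fun z => by
    refine IsLocalization.ringHom_ext p.primeCompl (RingHom.ext fun a => ?_)
    simp only [RingHom.comp_apply]
    rw [← IsScalarTower.algebraMap_apply, IsScalarTower.algebraMap_apply Γ(Y, V) Γ(Z, U) S, hσ]
    exact (stalkHom_germ g z.2 hζ (hzU z) a).symm
  have hint : Algebra.IsIntegral (Y.presheaf.stalk ζ) S := Algebra.IsIntegral.of_finite _ _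
  have hmax : ∀ z, ((maximalIdeal (Z.presheaf.stalk z.1)).comap (σ z)).IsMaximal := fun z => by
    refine Ideal.isMaximal_of_isIntegral_of_isMaximal_comap (R := Y.presheaf.stalk ζ) _ ?_
    rw [Ideal.comap_comap, hσA]
    haveI := isLocalHom_stalkHom g z.2
    have e : (maximalIdeal (Z.presheaf.stalk z.1)).comap (stalkHom g z.2) = maximalIdeal (Y.presheaf.stalk ζ) :=
      ((local_hom_TFAE (stalkHom g z.2)).out 0 4).1 ‹_›
    rw [e]
    infer_instance
  have hq : ∀ z, ((maximalIdeal (Z.presheaf.stalk z.1)).comap (σ z)).comap (algebraMap Γ(Z, U) S) =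
      (hU.primeIdealOf ⟨z.1, hzU z⟩).asIdeal := fun z => by
    letI := QCoh.stalkAlg (X := Z) (hzU z)
    haveI := QCoh.isLocalization_stalk' hU (hzU z)
    ext t
    rw [Ideal.mem_comap, Ideal.mem_comap, hσ]
    exact IsLocalization.AtPrime.to_map_mem_maximal_iff _ (hU.primeIdealOf ⟨z.1, hzU z⟩).asIdeal t
  refine ⟨S, inferInstance, aAS, σ, inferInstance, hσA, fun z => ⟨hmax z, ?_⟩, ?_, ?_, ?_, ?_⟩
  · letI := (σ z).toAlgebra
    letI := QCoh.stalkAlg (X := Z) (hzU z)
    haveI := QCoh.isLocalization_stalk' hU (hzU z)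
    haveI : IsScalarTower Γ(Z, U) S (Z.presheaf.stalk z.1) := IsScalarTower.of_algebraMap_eq fun t => (hσ z t).symm
    let P := (hU.primeIdealOf ⟨z.1, hzU z⟩).asIdeal.primeCompl
    have hle : Q ≤ P := fun t ht hmem =>
      (IsLocalization.AtPrime.to_map_mem_maximal_iff (Z.presheaf.stalk z.1)
        (hU.primeIdealOf ⟨z.1, hzU z⟩).asIdeal t).2 hmem (hu z ⟨t, ht⟩)
    haveI := IsLocalization.isLocalization_of_submonoid_le S (Z.presheaf.stalk z.1) Q P hle
    refine IsLocalization.of_le (P.map (algebraMap Γ(Z, U) S)) _ ?_ fun s hs => ?_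
    · rintro _ ⟨t, ht, rfl⟩ hmem
      exact ht ((hq z).le hmem)
    · by_contra h
      exact hs ((IsLocalRing.mem_maximalIdeal _).2 h)
  · intro z z' h
    have e : (hU.primeIdealOf ⟨z.1, hzU z⟩).asIdeal = (hU.primeIdealOf ⟨z'.1, hzU z'⟩).asIdeal := by
      rw [← hq z, ← hq z']
      exact congrArg (Ideal.comap (algebraMap Γ(Z, U) S)) h
    have e' := congrArg hU.fromSpec (PrimeSpectrum.ext e)
    rw [hU.fromSpec_primeIdealOf, hU.fromSpec_primeIdealOf] at e'
    exact Subtype.ext e'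
  · intro M hM
    obtain ⟨z, hz, hzM⟩ := QCoh.exists_point hU ⟨M.comap (algebraMap Γ(Z, U) S), inferInstance⟩
    have hMA : (M.comap (algebraMap (Y.presheaf.stalk ζ) S)).IsMaximal :=
      Ideal.isMaximal_comap_of_isIntegral_of_isMaximal M
    have hMp : (M.comap (algebraMap Γ(Z, U) S)).comap (algebraMap Γ(Y, V) Γ(Z, U)) = p := by
      rw [Ideal.comap_comap, ← IsScalarTower.algebraMap_eq,
        IsScalarTower.algebraMap_eq Γ(Y, V) (Y.presheaf.stalk ζ) S, ← Ideal.comap_comap, eq_maximalIdeal hMA]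
      ext a
      exact IsLocalization.AtPrime.to_map_mem_maximal_iff (Y.presheaf.stalk ζ) p a
    have hgz : g z = ζ := by
      have e : hV.primeIdealOf ⟨g z, hz⟩ = hV.primeIdealOf ⟨ζ, hζ⟩ := by
        refine PrimeSpectrum.ext (Ideal.ext fun a => ?_)
        refine Iff.trans ?_ (hMp.le.antisymm hMp.ge ▸ Iff.rfl : a ∈ (M.comap (algebraMap Γ(Z, U) S)).comap
          (algebraMap Γ(Y, V) Γ(Z, U)) ↔ a ∈ p)
        rw [← not_iff_not]
        refine (QCoh.mem_basicOpen_iff_notMem hV (show g z ∈ V from hz) a).symm.trans ?_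
        rw [show M.comap (algebraMap Γ(Z, U) S) = (hU.primeIdealOf ⟨z, hz⟩).asIdeal from
          (congrArg PrimeSpectrum.asIdeal hzM).symm]
        refine Iff.trans ?_ (QCoh.mem_basicOpen_iff_notMem hU hz (g.app V a))
        rw [← Scheme.preimage_basicOpen]
        rfl
      have e' := congrArg hV.fromSpec e
      rwa [hV.fromSpec_primeIdealOf, hV.fromSpec_primeIdealOf] at e'
    refine ⟨⟨z, hgz⟩, ?_⟩
    rw [← IsLocalization.map_comap Q S M, ← IsLocalization.map_comap Q S (Ideal.comap (σ ⟨z, hgz⟩) _)]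
    exact congrArg (Ideal.map _) ((hq _).trans (congrArg PrimeSpectrum.asIdeal hzM))
  · intro z
    have hs : Function.Surjective ((Z.residue z.1).hom.comp (σ z)) := by
      intro w
      obtain ⟨c, rfl⟩ := Z.residue_surjective z.1 w
      letI := QCoh.stalkAlg (X := Z) (hzU z)
      haveI := QCoh.isLocalization_stalk' hU (hzU z)
      obtain ⟨⟨a, t⟩, hat⟩ := IsLocalization.surj (hU.primeIdealOf ⟨z.1, hzU z⟩).asIdeal.primeCompl c
      haveI := hmax z
      obtain ⟨d, w', hw', he⟩ := Ideal.IsMaximal.exists_inv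
        (I := (maximalIdeal (Z.presheaf.stalk z.1)).comap (σ z)) inferInstance
        (x := algebraMap Γ(Z, U) S t.1) fun hmem => t.2 ((hq z).le hmem)
      refine ⟨algebraMap Γ(Z, U) S a * d, ?_⟩
      have h0 : (Z.residue z.1).hom (σ z w') = 0 := (residue_eq_zero_iff _).2 hw'
      have h1 : (Z.residue z.1).hom (σ z d) * (Z.residue z.1).hom (γ z t.1) = 1 := by
        have := congrArg ((Z.residue z.1).hom.comp (σ z)) he
        simp only [map_add, map_mul, map_one, RingHom.comp_apply, hσ, h0, add_zero] at this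
        exact this
      simp only [RingHom.comp_apply, map_mul, hσ]
      rw [show γ z a = c * γ z t.1 from hat.symm, map_mul, mul_assoc, mul_comm ((Z.residue z.1).hom (γ z t.1)),
        h1, mul_one]
    have h1 : (((Z.residue z.1).hom.comp (σ z)).comp (algebraMap (Y.presheaf.stalk ζ) S)).Finite :=
      (RingHom.Finite.of_surjective _ hs).comp (RingHom.finite_algebraMap.2 inferInstance)
    rw [RingHom.comp_assoc, hσA] at h1
    clear_value σ
    obtain ⟨z, hz⟩ := z
    subst hz
    rw [stalkHom_refl, ← CommRingCat.hom_comp, ← Scheme.residue_residueFieldMap, CommRingCat.hom_comp] at h1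
    exact RingHom.Finite.of_comp_finite h1
  · let F := (Coh.push g).obj (Coh.structureModule Z)
    have hF : Coh.IsQCoh F := QCoh.isQCoh_pushforward g QCoh.isQCoh_structureModule
    letI := QCoh.stalkModule F hζ
    haveI := QCoh.isScalarTower_stalk F hζ
    haveI := QCoh.isLocalizedModule_germLin hF hV hζ
    let e0 : Γ(Z, U) ≃ₗ[Γ(Y, V)] Γ(F, V) :=
      { toFun := fun x => x, invFun := fun x => x, left_inv := fun _ => rfl, right_inv := fun _ => rfl,
        map_add' := fun _ _ => rfl, map_smul' := fun _ _ => rfl }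
    haveI : IsLocalizedModule p.primeCompl (QCoh.germLin F hζ ∘ₗ e0.toLinearMap) :=
      IsLocalizedModule.of_linearEquiv_right _ _ e0
    exact ⟨(IsLocalizedModule.linearEquiv p.primeCompl (QCoh.germLin F hζ ∘ₗ e0.toLinearMap)
      (IsScalarTower.toAlgHom Γ(Y, V) Γ(Z, U) S).toLinearMap).extendScalarsOfIsLocalization
        p.primeCompl (Y.presheaf.stalk ζ)⟩

end Groth.Agent.H23.FinPush
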