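import Groth.Agent.H23.C1Push
import Groth.Agent.CycLib.MayerVietoris
import Groth.Agent.CycLib.DivPushProper

/-! Gysin maps of effective Cartier divisors. -/

set_option autoImplicit false
set_option linter.style.haveILetI false

universe u

open AlgebraicGeometry CategoryTheory TopologicalSpace Opposite

namespace Groth.Agent.H23.GysinLib

open Groth.Agent RatSec C1Pull

variable {X D : Scheme.{u}} {L : X.Modules} {s : L.presheaf.obj (Opposite.op ⊤)} {i : D ⟶ X}

theorem gysinChoice_eq_of_mem (hD : Cyc.IsZeroSchemeOf i L s) (w : (ξ : X) → Cyc.secFibre L ξ) {ξ : X}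
    (hξ : ξ ∈ Set.range i) : Cyc.gysinChoice L s w ξ = w ξ := by
  exact if_neg (not_not_intro (hD.1.subset hξ))

theorem gysinChoice_ne_zero (s : L.presheaf.obj (Opposite.op ⊤)) {w : (ξ : X) → Cyc.secFibre L ξ}
    (hw : ∀ ξ, w ξ ≠ 0) (ξ : X) : Cyc.gysinChoice L s w ξ ≠ 0 := by
  rw [Cyc.gysinChoice]
  split_ifs with h
  · exact h
  · exact hw ξ

theorem locFin (α : AlgebraicCycle X ℤ) (z : X) : ∃ U ∈ nhds z, (U ∩ Function.support ⇑α).Finite := by
  obtain ⟨U, hU, hf⟩ := α.supportLocallyFiniteWithinDomain' z (Set.mem_univ z)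
  exact ⟨U, hU, hf⟩

theorem deltaCompat_closedImmersion (j : D ⟶ X) [IsClosedImmersion j] (δ : X → ℤ) :
    Cyc.DeltaCompat j (fun d => δ (j d)) δ := fun d =>
  ⟨0, by
    have h := VarDim.rdeg_preimmersion j d
    exact h.trans Nat.cast_zero.symm, by simp⟩

end Groth.Agent.H23.GysinLib
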