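import Groth.Agent.H23.C1Desc
import Groth.Agent.H23.C1Cycle
import Groth.Agent.H23.FlatShift
import Groth.Agent.H23.SetupLFT
import Groth.Agent.H23.SecIso
import Groth.Agent.H23.GysinLib
import Groth.Agent.CycLib.DivPushAll
import Groth.Prelude.Def_Bivar

/-! Operations on cycles descending to Chow groups, and test schemes. -/

set_option autoImplicit false
set_option linter.style.haveILetI false

universe u

open AlgebraicGeometry CategoryTheory

namespace Groth.Agent.H23.ChowDesc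

open Groth.Agent RatSec

variable {X X' : Scheme.{u}} {δ : X → ℤ} {δ' : X' → ℤ} {k l : ℤ}

theorem cl_eq_of_ratEquiv {α β : AlgebraicCycle X ℤ} (hα : α ∈ Cyc.Zk X δ k) (hβ : β ∈ Cyc.Zk X δ k)
    (h : Cyc.RatEquiv δ k α β) : ChowOps.cl α hα = ChowOps.cl β hβ := by
  have h0 : ChowOps.clHom X δ k (⟨α, hα⟩ - ⟨β, hβ⟩ : ↥(ChowOps.zk X δ k)) = 0 :=
    (QuotientAddGroup.eq_zero_iff _).2 (AddSubgroup.subset_closure h)
  rw [map_sub, sub_eq_zero] at h0
  exact h0

/-- An additive operation on cycles killing rational equivalence, on Chow groups. -/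
noncomputable def lift {G : Type u} [AddCommGroup G] (F : ↥(ChowOps.zk X δ k) →+ G)
    (h : ∀ a : ↥(ChowOps.zk X δ k), Cyc.RatEquivZero δ k (a : AlgebraicCycle X ℤ) → F a = 0) :
    ChowOps.CH X δ k →+ G :=
  QuotientAddGroup.lift (ChowOps.ratTriv X δ k) F
    ((AddSubgroup.closure_le F.ker).2 fun a ha => AddMonoidHom.mem_ker.2 (h a ha))

theorem lift_cl {G : Type u} [AddCommGroup G] (F : ↥(ChowOps.zk X δ k) →+ G)
    (h : ∀ a : ↥(ChowOps.zk X δ k), Cyc.RatEquivZero δ k (a : AlgebraicCycle X ℤ) → F a = 0)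
    (α : AlgebraicCycle X ℤ) (hα : α ∈ Cyc.Zk X δ k) : lift F h (ChowOps.cl α hα) = F ⟨α, hα⟩ := rfl

variable (g : X' ⟶ X) [LocallyOfFiniteType g]

/-- Uniqueness of the induced dimension function. -/
theorem deltaCompat_unique {δ₁ δ₂ : X' → ℤ} (h₁ : Cyc.DeltaCompat g δ₁ δ) (h₂ : Cyc.DeltaCompat g δ₂ δ) : δ₁ = δ₂ :=
  funext fun x => (CycLib.deltaCompat_eq g h₁ x).trans (CycLib.deltaCompat_eq g h₂ x).symm

theorem deltaCompat_rd (δ : X → ℤ) : Cyc.DeltaCompat g (fun x => δ (g x) + FibDim.rd g x) δ := fun x =>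
  ⟨FibDim.rd g x, (FibDim.rd_eq_rdeg g x).symm, rfl⟩

/-- A morphism of test schemes is compatible with their dimension functions. -/
theorem deltaCompat_hom {δX : X → ℤ} {s t : Bivar.OSq X δX} (h : t.Y ⟶ s.Y) [LocallyOfFiniteType h]
    (w : h ≫ s.g = t.g) : Cyc.DeltaCompat h t.δ s.δ := by
  haveI := s.lft
  haveI := t.lft
  have h1 := Bivar.deltaCompat_comp h s.g _ _ _ (deltaCompat_rd h s.δ) s.compat
  rw [w] at h1
  rw [deltaCompat_unique t.g t.compat h1]
  exact deltaCompat_rd h s.δ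

theorem delta_closedImmersion {δX : X → ℤ} {s t : Bivar.OSq X δX} (i : t.Y ⟶ s.Y) [IsClosedImmersion i]
    (w : i ≫ s.g = t.g) : t.δ = fun d => s.δ (i d) :=
  deltaCompat_unique i (deltaCompat_hom i w) (GysinLib.deltaCompat_closedImmersion i s.δ)

theorem isSetup_osq {δX : X → ℤ} (hX : Cyc.IsSetup X δX) (s : Bivar.OSq X δX) : Cyc.IsSetup s.Y s.δ :=
  haveI := s.lft
  SetupLFT.isSetup s.g hX s.compat

/-- The comparison of pulled back modules along a morphism of test schemes. -/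
noncomputable def pbIso {δX : X → ℤ} {s t : Bivar.OSq X δX} (h : t.Y ⟶ s.Y) (w : h ≫ s.g = t.g) (L : X.Modules) :
    (Scheme.Modules.pullback t.g).obj L ≅
      (Scheme.Modules.pullback h).obj ((Scheme.Modules.pullback s.g).obj L) :=
  eqToIso (congrArg (fun φ => (Scheme.Modules.pullback φ).obj L) w.symm) ≪≫
    ((Scheme.Modules.pullbackComp h s.g).app L).symm

end Groth.Agent.H23.ChowDesc
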