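import Groth.Agent.H23.InterBilin

/-!
# Flat pullback commutes with the intersection product
-/

set_option autoImplicit false
set_option linter.style.haveILetI false
set_option backward.isDefEq.respectTransparency.types false

universe u

open AlgebraicGeometry CategoryTheory CategoryTheory.Limits TopologicalSpace

namespace Groth.Agent.H23.InterPullCycle

open Groth.Agent InterBilin

variable {X Y : Scheme.{u}}

variable {K : Type u} [Field K] [IsAlgClosed K] (f : X ⟶ Y) [Flat f] (gX : X ⟶ Spec (CommRingCat.of K))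
  (gY : Y ⟶ Spec (CommRingCat.of K)) [Smooth gX] [IsSeparated gX] [IsIntegral X] [Smooth gY] [IsSeparated gY]
  [IsIntegral Y] {δX : X → ℤ} {δY : Y → ℤ} (hdX : Cyc.IsDimFun X δX) (hdY : Cyc.IsDimFun Y δY)
  (hδX : Cyc.DeltaCompat gX δX (fun _ => 0)) (hδY : Cyc.DeltaCompat gY δY (fun _ => 0))
  {n m : ℤ} (hn : δX (genericPoint X) = n) (hm : δY (genericPoint Y) = m) {c : ℤ} (hc : c = n - m)
  (hle : ∀ x, δX x ≤ δY (f x) + c)

include gX gY hdX hdY hδX hδY hn hm hc hle in
theorem pullFun_interProd {α β : Y → ℤ} (hα : CycleClassK.LFPts (Function.support α))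
    (hβ : CycleClassK.LFPts (Function.support β)) (hprop : IntMult.IntersectProperly δY m α β) :
    IntMult.IntersectProperly δX n (Cyc.pullFun f δX δY c α) (Cyc.pullFun f δX δY c β) ∧
      Cyc.pullFun f δX δY c (IntMult.interProd δY m α β) =
        IntMult.interProd δX n (Cyc.pullFun f δX δY c α) (Cyc.pullFun f δX δY c β) := by
  classical
  haveI : IsLocallyNoetherian X := LocallyOfFiniteType.isLocallyNoetherian gX
  haveI : IsLocallyNoetherian Y := LocallyOfFiniteType.isLocallyNoetherian gY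
  have hne : ∀ (γ : Y → ℤ) (w : X), Cyc.pullFun f δX δY c γ w ≠ 0 → γ (f w) ≠ 0 ∧ δX w = δY (f w) + c := by
    intro γ w h
    rw [Cyc.pullFun] at h
    split_ifs at h with hw
    · exact ⟨fun h0 => h (by rw [h0, zero_mul]), hw⟩
    · exact absurd rfl h
  refine ⟨fun ξ η w hξ hη h1 h2 => ?_, funext fun x => ?_⟩
  · obtain ⟨a1, a2⟩ := hne α ξ hξ
    obtain ⟨b1, b2⟩ := hne β η hη
    have := hprop (f ξ) (f η) (f w) a1 b1 (h1.map f.continuous) (h2.map f.continuous)
    have := hle w
    omega
  have hS := finite_gen hα (f x)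
  have hT := finite_gen hβ (f x)
  let I : Y → Y → ℤ := fun y => Set.indicator {y} 1
  have hI : ∀ y : Y, Cyc.sheafFun δY (δY y) (Cyc.closureStructureSheaf y) = I y := fun y => sheafFun_closure hdY y
  have hIdim : ∀ y w : Y, Nontrivial ((Cyc.closureStructureSheaf y).presheaf.stalk w) → δY w ≤ δY y := fun y w h =>
    CycLib.delta_le hdY (SkyPoint.specializes_of_nontrivial_closure h)
  have hIY : ∀ y : Y, CycleClassK.LFPts (Function.support (I y)) := fun y => hI y ▸
    CycleClassK.lfPts_sheafFun hdY ⟨SkyPoint.isCoh_closure y, hIdim y⟩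
  have hJ : ∀ y : Y, Cyc.pullFun f δX δY c (I y) =
      Cyc.sheafFun δX (δY y + c) ((Scheme.Modules.pullback f).obj (Cyc.closureStructureSheaf y)) := fun y => hI y ▸
    (FlatShift.sheafFun_pullback f δX δY hle (δY y) _ (hIdim y)).2
  have hJX : ∀ y : Y, CycleClassK.LFPts (Function.support (Cyc.pullFun f δX δY c (I y))) := fun y => hJ y ▸
    CycleClassK.lfPts_sheafFun hdX ⟨ZClosLib.isCoh_pullback f (SkyPoint.isCoh_closure y),
      (FlatShift.sheafFun_pullback f δX δY hle (δY y) _ (hIdim y)).1⟩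
  have e1 := interProd_expand (δ := δY) (n := m) (f x) hS.toFinset hT.toFinset α β I I α β
    (fun w hw => eq_sum_indicator (f x) hS hw) (fun w hw => eq_sum_indicator (f x) hT hw)
    (fun y _ => hIY y) (fun y _ => hIY y)
  have hlin : ∀ (γ : Y → ℤ) (s : Finset Y) (hs : ∀ v : Y, v ⤳ f x → γ v = ∑ y ∈ s, γ y * I y v) (w : X),
      w ⤳ x → Cyc.pullFun f δX δY c γ w = ∑ y ∈ s, γ y * Cyc.pullFun f δX δY c (I y) w := by
    intro γ s hs w hw
    simp only [Cyc.pullFun]
    split_ifs with hh
    · rw [hs (f w) (hw.map f.continuous), Finset.sum_mul]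
      exact Finset.sum_congr rfl fun y _ => mul_assoc _ _ _
    · simp
  have e2 := interProd_expand (δ := δX) (n := n) x hS.toFinset hT.toFinset α β
    (fun y => Cyc.pullFun f δX δY c (I y)) (fun y => Cyc.pullFun f δX δY c (I y))
    (Cyc.pullFun f δX δY c α) (Cyc.pullFun f δX δY c β)
    (fun w hw => hlin α hS.toFinset (fun v hv => eq_sum_indicator (f x) hS hv) w hw)
    (fun w hw => hlin β hT.toFinset (fun v hv => eq_sum_indicator (f x) hT hv) w hw)
    (fun y _ => hJX y) (fun y _ => hJX y)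
  rw [e2]
  have key : ∀ y ∈ hS.toFinset, ∀ z ∈ hT.toFinset,
      IntMult.interProd δX n (Cyc.pullFun f δX δY c (I y)) (Cyc.pullFun f δX δY c (I z)) x =
        Cyc.pullFun f δX δY c (IntMult.interProd δY m (I y) (I z)) x := by
    intro y hy z hz
    rw [Set.Finite.mem_toFinset] at hy hz
    have h := InterPull.pullFun_interProd f gX gY hdX hdY hδX hδY hn hm hc hle (F := Cyc.closureStructureSheaf y)
      (G := Cyc.closureStructureSheaf z) (SkyPoint.isCoh_closure y) (SkyPoint.isCoh_closure z) (r := δY y) (s := δY z)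
      (hIdim y) (hIdim z) fun w hw1 hw2 => hprop y z w hy.1 hz.1 (SkyPoint.specializes_of_nontrivial_closure hw1)
        (SkyPoint.specializes_of_nontrivial_closure hw2)
    rw [hJ y, hJ z, ← h.2, hI y, hI z]
  rw [Cyc.pullFun, e1]
  split_ifs with hh
  · rw [Finset.sum_mul]
    refine Finset.sum_congr rfl fun y hy => ?_
    rw [Finset.sum_mul]
    refine Finset.sum_congr rfl fun z hz => ?_
    rw [key y hy z hz, Cyc.pullFun, if_pos hh, mul_assoc]
  · refine (Finset.sum_eq_zero fun y hy => Finset.sum_eq_zero fun z hz => ?_).symm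
    rw [key y hy z hz, Cyc.pullFun, if_neg hh, mul_zero]

end Groth.Agent.H23.InterPullCycle
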