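import Groth.Agent.H23.GraphChi
import Groth.Agent.H23.InterPullCycle
import Groth.Agent.H23.GysinLib
import Groth.Agent.H23.ChowDesc
import Groth.Agent.CycLib.MayerVietoris
import Groth.Agent.CycLib.DivPushProper
import Groth.Agent.Cohen4.RegHom

/-!
# The graph of a flat morphism met with a cycle pulled back from the target
-/

set_option autoImplicit false
set_option linter.style.haveILetI false
set_option backward.isDefEq.respectTransparency.types false

universe u

open AlgebraicGeometry CategoryTheory CategoryTheory.Limits IsLocalRing TopologicalSpace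

namespace Groth.Agent.H23.GraphFlat

open Groth.Agent

variable {K : Type u} [Field K] {X Y W : Scheme.{u}}

/-- The dimension function drops at most by the relative dimension along a flat morphism of varieties. -/
theorem le_of_flat (f : X ⟶ Y) [Flat f] (gX : X ⟶ Spec (CommRingCat.of K)) [LocallyOfFiniteType gX]
    [IrreducibleSpace X] (gY : Y ⟶ Spec (CommRingCat.of K)) [LocallyOfFiniteType gY] [IrreducibleSpace Y]
    {δX : X → ℤ} (hδX : Cyc.DeltaCompat gX δX (fun _ => 0)) {δY : Y → ℤ}
    (hδY : Cyc.DeltaCompat gY δY (fun _ => 0)) {n m : ℤ} (hn : δX (genericPoint X) = n)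
    (hm : δY (genericPoint Y) = m) (x : X) : δX x ≤ δY (f x) + (n - m) := by
  haveI : IsLocallyNoetherian X := LocallyOfFiniteType.isLocallyNoetherian gX
  haveI : IsLocallyNoetherian Y := LocallyOfFiniteType.isLocallyNoetherian gY
  obtain ⟨d, hd, hd'⟩ := PointPrime.dim_stalk gX hδX hn x
  obtain ⟨e, he, he'⟩ := PointPrime.dim_stalk gY hδY hm (f x)
  have hflat : (f.stalkMap x).hom.Flat := Flat.stalkMap f x
  algebraize [(f.stalkMap x).hom]
  haveI : IsLocalHom (algebraMap (Y.presheaf.stalk (f x)) (X.presheaf.stalk x)) :=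
    inferInstanceAs <| IsLocalHom (f.stalkMap x).hom
  have h := Cohen4.dim_eq_of_flat (A := Y.presheaf.stalk (f x)) (B := X.presheaf.stalk x)
  haveI : Nontrivial (X.presheaf.stalk x ⧸
      Ideal.map (algebraMap (Y.presheaf.stalk (f x)) (X.presheaf.stalk x)) (maximalIdeal (Y.presheaf.stalk (f x)))) :=
    Ideal.Quotient.nontrivial_iff.2 (ne_top_of_le_ne_top (maximalIdeal.isMaximal _).ne_top
      (((local_hom_TFAE _).out 0 2).1 ‹IsLocalHom (algebraMap _ (X.presheaf.stalk x))›))
  have h0 : ringKrullDim (Y.presheaf.stalk (f x)) ≤ ringKrullDim (X.presheaf.stalk x) := by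
    rw [h]
    exact le_add_of_nonneg_right ringKrullDim_nonneg_of_nontrivial
  rw [hd, he] at h0
  have : e ≤ d := by exact_mod_cast h0
  omega

variable [IsAlgClosed K] (γ : X ⟶ W) [IsClosedImmersion γ] (p : W ⟶ Y) [Flat p]
  [Flat (γ ≫ p)] (gX : X ⟶ Spec (CommRingCat.of K)) [LocallyOfFiniteType gX] [IsIntegral X]
  (gY : Y ⟶ Spec (CommRingCat.of K)) [LocallyOfFiniteType gY] [IsIntegral Y]
  (gW : W ⟶ Spec (CommRingCat.of K)) [Smooth gW] [IsSeparated gW] [IsIntegral W] (hgW : γ ≫ gW = gX)
  {δX : X → ℤ} {δY : Y → ℤ} {δW : W → ℤ} (hdX : Cyc.IsDimFun X δX) (hdY : Cyc.IsDimFun Y δY)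
  (hdW : Cyc.IsDimFun W δW)
  (hδX : Cyc.DeltaCompat gX δX (fun _ => 0)) (hδY : Cyc.DeltaCompat gY δY (fun _ => 0))
  (hδW : Cyc.DeltaCompat gW δW (fun _ => 0)) {dX dY : ℤ} (hnX : δX (genericPoint X) = dX)
  (hnY : δY (genericPoint Y) = dY) (hnW : δW (genericPoint W) = dX + dY)

omit [IsAlgClosed K] [IsIntegral X] [Smooth gW] [IsSeparated gW] [IsIntegral W] in
include hgW hδX hδW in
theorem delta_graph [LocallyOfFiniteType gW] : δX = fun x => δW (γ x) :=
  ChowDesc.deltaCompat_unique gX hδX (hgW ▸ CycLib.deltaCompat_closedImmersion_comp γ gW hδW)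

omit [IsAlgClosed K] [IsClosedImmersion γ] [Flat p] [Flat (γ ≫ p)] [IsIntegral Y] [IsIntegral W] in
/-- The structure sheaf of the graph has the class of its generic point. -/
theorem sheafFun_graph [IsClosedImmersion γ] (hd : Cyc.IsDimFun X δX) (hδ : δX = fun x => δW (γ x))
    (hn : δX (genericPoint X) = dX) :
    Cyc.sheafFun δW dX ((Coh.push γ).obj (Coh.structureModule X)) =
      Set.indicator {γ (genericPoint X)} (1 : W → ℤ) := by
  funext w
  by_cases hw : w ∈ Set.range γ
  swap
  · haveI := ClosedPushLen.subsingleton_stalk γ (Coh.structureModule X) hw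
    rw [Set.indicator_of_notMem fun h => hw ⟨_, (Set.mem_singleton_iff.1 h).symm⟩, Cyc.sheafFun,
      Module.length_eq_zero]
    simp
  obtain ⟨x, rfl⟩ := hw
  have hx : δX x = δW (γ x) := congrFun hδ x
  by_cases hxη : x = genericPoint X
  · subst hxη
    have hlen : Module.length (X.presheaf.stalk (genericPoint X))
        ((Coh.structureModule X).presheaf.stalk (genericPoint X)) = 1 := by
      obtain ⟨e⟩ := SpClosed.nonempty_quotEquiv (𝟙 X) (genericPoint X)
      have h := SpClosed.length_stalk_closed (𝟙 X) (genericPoint X)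
      rw [← e.length_eq] at h
      have hF : IsField (X.presheaf.stalk (genericPoint X)) :=
        Field.toIsField X.functionField
      refine ((ClosedPushLen.length_stalk (𝟙 X) (Coh.structureModule X) (genericPoint X)).symm.trans h.symm).trans ?_
      rw [Module.length_eq_one_iff]
      exact (isSimpleModule_iff _ _).2 (Ring.isField_iff_isSimpleOrder_ideal.1 hF)
    rw [Set.indicator_of_mem (Set.mem_singleton _), Pi.one_apply, Cyc.sheafFun, if_pos (hx ▸ hn),
      ClosedPushLen.length_stalk, hlen]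
    rfl
  · rw [Set.indicator_of_notMem fun h => hxη (γ.isEmbedding.injective (Set.mem_singleton_iff.1 h)), Cyc.sheafFun,
      if_neg]
    rw [← hx, ← hn]
    exact (CycLib.delta_lt hd (genericPoint_specializes x) (Ne.symm hxη)).ne

include gX gY gW hgW hdX hdY hdW hδX hδY hδW hnX hnY hnW in
/-- The graph meets a cycle pulled back from the target properly, in the image of the flat pullback. -/
theorem interProd_graph {k : ℤ} {α : Y → ℤ} (hα : CycleClassK.LFPts (Function.support α))
    (hαk : ∀ y, δY y ≠ k → α y = 0) (αX : AlgebraicCycle X ℤ)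
    (hαX : ⇑αX = Cyc.pullFun (γ ≫ p) δX δY (dX - dY) α) [QuasiCompact γ] :
    IntMult.IntersectProperly δW (dX + dY) (Set.indicator {γ (genericPoint X)} (1 : W → ℤ))
        (Cyc.pullFun p δW δY dX α) ∧
      ⇑(AlgebraicCycle.map γ δX δW αX) =
        IntMult.interProd δW (dX + dY) (Set.indicator {γ (genericPoint X)} (1 : W → ℤ))
          (Cyc.pullFun p δW δY dX α) := by
  classical
  haveI : IsLocallyNoetherian X := LocallyOfFiniteType.isLocallyNoetherian gX
  haveI : IsLocallyNoetherian Y := LocallyOfFiniteType.isLocallyNoetherian gY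
  haveI : IsLocallyNoetherian W := LocallyOfFiniteType.isLocallyNoetherian gW
  have hδ : δX = fun x => δW (γ x) := delta_graph γ gX gW hgW hδX hδW
  have hleX : ∀ x, δX x ≤ δY ((γ ≫ p) x) + (dX - dY) := le_of_flat (γ ≫ p) gX gY hδX hδY hnX hnY
  have hleW : ∀ w, δW w ≤ δY (p w) + dX := fun w => by
    have := le_of_flat p gW gY hδW hδY hnW hnY w
    omega
  refine ⟨fun ξ η w hξ hη h1 h2 => ?_, funext fun ζ => ?_⟩
  · obtain rfl : ξ = γ (genericPoint X) := Set.mem_singleton_iff.1 (Set.mem_of_indicator_ne_zero hξ)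
    obtain ⟨x, rfl⟩ : w ∈ Set.range γ := h1.mem_closed γ.isClosedEmbedding.isClosed_range ⟨_, rfl⟩
    rw [Cyc.pullFun] at hη
    split_ifs at hη with hc
    swap
    · exact absurd rfl hη
    have hk : δY (p η) = k := by
      by_contra h
      exact hη (by rw [hαk _ h, zero_mul])
    have h3 := CycLib.delta_le hdY (h2.map p.continuous)
    have h4 := hleX x
    rw [Scheme.Hom.comp_apply] at h4
    have h5 := congrFun hδ x
    have h6 := congrFun hδ (genericPoint X)
    simp only at h5 h6
    omega
  set F := (Coh.push γ).obj (Coh.structureModule X) with hF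
  have hFc : Coh.IsCoh F := SpClosed.isCoh_push γ
  have hFrange : ∀ w : W, Nontrivial (F.presheaf.stalk w) → w ∈ Set.range γ := fun w h => by
    by_contra hw
    exact not_subsingleton_iff_nontrivial.2 h (ClosedPushLen.subsingleton_stalk γ _ hw)
  have hFdim : ∀ w : W, Nontrivial (F.presheaf.stalk w) → δW w ≤ dX := fun w h => by
    obtain ⟨x, rfl⟩ := hFrange w h
    rw [← hnX, ← show δX x = δW (γ x) from congrFun hδ x]
    exact CycLib.delta_le hdX (genericPoint_specializes x)
  have hind : Cyc.sheafFun δW dX F = Set.indicator {γ (genericPoint X)} (1 : W → ℤ) := sheafFun_graph γ hdX hδ hnX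
  rw [← hind]
  have hT := InterBilin.finite_gen hα (p ζ)
  let I : Y → Y → ℤ := fun y => Set.indicator {y} 1
  have hI : ∀ y : Y, Cyc.sheafFun δY (δY y) (Cyc.closureStructureSheaf y) = I y := fun y =>
    InterBilin.sheafFun_closure hdY y
  have hIdim : ∀ y w : Y, Nontrivial ((Cyc.closureStructureSheaf y).presheaf.stalk w) → δY w ≤ δY y := fun y w h =>
    CycLib.delta_le hdY (SkyPoint.specializes_of_nontrivial_closure h)
  have hJ : ∀ y : Y, Cyc.pullFun p δW δY dX (I y) =
      Cyc.sheafFun δW (δY y + dX) ((Scheme.Modules.pullback p).obj (Cyc.closureStructureSheaf y)) := fun y => hI y ▸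
    (FlatShift.sheafFun_pullback p δW δY hleW (δY y) _ (hIdim y)).2
  have hJd : ∀ y, ∀ w : W, Nontrivial (((Scheme.Modules.pullback p).obj (Cyc.closureStructureSheaf y)).presheaf.stalk w) →
      δW w ≤ δY y + dX := fun y => (FlatShift.sheafFun_pullback p δW δY hleW (δY y) _ (hIdim y)).1
  have hJW : ∀ y : Y, CycleClassK.LFPts (Function.support (Cyc.pullFun p δW δY dX (I y))) := fun y => hJ y ▸
    CycleClassK.lfPts_sheafFun hdW ⟨ZClosLib.isCoh_pullback p (SkyPoint.isCoh_closure y), hJd y⟩
  have e2 := InterBilin.interProd_expand (δ := δW) (n := dX + dY) ζ ({()} : Finset Unit) hT.toFinset (fun _ => 1) α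
    (fun _ => Cyc.sheafFun δW dX F) (fun y => Cyc.pullFun p δW δY dX (I y))
    (Cyc.sheafFun δW dX F) (Cyc.pullFun p δW δY dX α)
    (fun w _ => by simp)
    (fun w hw => by
      simp only [Cyc.pullFun]
      split_ifs with hh
      · rw [InterBilin.eq_sum_indicator (p ζ) hT (hw.map p.continuous), Finset.sum_mul]
        exact Finset.sum_congr rfl fun y _ => mul_assoc _ _ _
      · simp)
    (fun _ _ => CycleClassK.lfPts_sheafFun hdW ⟨hFc, hFdim⟩) (fun y _ => hJW y)
  rw [e2, Finset.sum_singleton]
  have hterm : ∀ y ∈ hT.toFinset, 1 * α y * IntMult.interProd δW (dX + dY) (Cyc.sheafFun δW dX F)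
        (Cyc.pullFun p δW δY dX (I y)) ζ =
      α y * if δW ζ = k + (dX - dY) then IntMult.chi (W.presheaf.stalk ζ) (F.presheaf.stalk ζ)
        (((Scheme.Modules.pullback p).obj (Cyc.closureStructureSheaf y)).presheaf.stalk ζ) else 0 := by
    intro y hy
    rw [Set.Finite.mem_toFinset] at hy
    have hyk : δY y = k := by
      by_contra h
      exact hy.1 (hαk y h)
    rw [one_mul, hJ y, InterSheaf.interProd_sheafFun gW hdW hδW hnW hFc
      (ZClosLib.isCoh_pullback p (SkyPoint.isCoh_closure y)) hFdim (hJd y) (fun w h1 h2 => ?_) ζ,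
      show dX + (δY y + dX) - (dX + dY) = k + (dX - dY) by omega]
    obtain ⟨x, rfl⟩ := hFrange w h1
    have h3 := CycLib.delta_le hdY (SkyPoint.specializes_of_nontrivial_closure
      (FlatShift.nontrivial_of_pullback p _ _ h2))
    have h4 := hleX x
    rw [Scheme.Hom.comp_apply] at h4
    have h5 : δX x = δW (γ x) := congrFun hδ x
    omega
  rw [Finset.sum_congr rfl hterm]
  by_cases hζ : ζ ∈ Set.range γ
  swap
  · haveI := ClosedPushLen.subsingleton_stalk γ (Coh.structureModule X) hζ
    rw [CycLib.map_apply_not_range γ δX δW αX hζ]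
    refine (Finset.sum_eq_zero fun y _ => ?_).symm
    rw [ChiAdd.chi_eq_zero_of_subsingleton]
    simp
  obtain ⟨x, rfl⟩ := hζ
  have hx : δX x = δW (γ x) := congrFun hδ x
  rw [show AlgebraicCycle.map γ δX δW αX (γ x) = αX x from by
    rw [hδ]; exact CycLib.map_preimmersion_apply γ δW αX x, hαX, Cyc.pullFun, ← hx]
  have hle := hleX x
  set L := ((Module.length (X.presheaf.stalk x) (X.presheaf.stalk x ⧸ Ideal.map ((γ ≫ p).stalkMap x).hom
    (maximalIdeal (Y.presheaf.stalk ((γ ≫ p) x))))).toNat : ℤ)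
  rw [Scheme.Hom.comp_apply] at hle ⊢
  have key : δX x = k + (dX - dY) → ∀ y ∈ hT.toFinset,
      IntMult.chi (W.presheaf.stalk (γ x)) (F.presheaf.stalk (γ x))
        (((Scheme.Modules.pullback p).obj (Cyc.closureStructureSheaf y)).presheaf.stalk (γ x)) =
      I y (p (γ x)) * L := by
    intro hc y hy
    rw [Set.Finite.mem_toFinset] at hy
    have hyk : δY y = k := by
      by_contra h
      exact hy.1 (hαk y h)
    rw [GraphChi.chi_stalk γ p (Cyc.closureStructureSheaf y) x]
    have h3 := CycLib.delta_le hdY hy.2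
    rw [← hI y, Cyc.sheafFun, if_pos (by omega)]
    rfl
  by_cases hc : δX x = k + (dX - dY)
  · simp only [if_pos hc]
    rw [Finset.sum_congr rfl fun y hy => congrArg (α y * ·) (key hc y hy)]
    simp only [← mul_assoc]
    rw [← Finset.sum_mul, ← InterBilin.eq_sum_indicator (p (γ x)) hT (specializes_refl _)]
    by_cases h0 : α (p (γ x)) = 0
    · simp [h0]
    · rw [if_pos]
      have : δY (p (γ x)) = k := by
        by_contra h
        exact h0 (hαk _ h)
      omega
  · simp only [if_neg hc, mul_zero, Finset.sum_const_zero]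
    split_ifs with h
    · rw [show α (p (γ x)) = 0 from hαk _ fun h' => hc (by omega), zero_mul]
    · rfl

end Groth.Agent.H23.GraphFlat
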