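import Groth.Agent.H23.InterPull

/-!
# Bilinearity of the intersection product, prime by prime
-/

set_option autoImplicit false
set_option linter.style.haveILetI false
set_option backward.isDefEq.respectTransparency.types false

universe u

open AlgebraicGeometry CategoryTheory CategoryTheory.Limits TopologicalSpace

namespace Groth.Agent.H23.InterBilin

open Groth.Agent

variable {X : Scheme.{u}}

/-- Only finitely many points of a locally finite set specialise to a given point. -/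
theorem finite_gen {S : Set X} (h : CycleClassK.LFPts S) (ζ : X) : {y : X | y ∈ S ∧ y ⤳ ζ}.Finite := by
  obtain ⟨U, hζ, hU⟩ := h ζ
  exact hU.subset fun y hy => ⟨hy.1, hy.2.mem_open U.2 hζ⟩

/-- The coefficient of the intersection product only depends on the generizations of the point, and is
bilinear. -/
theorem interProd_expand {δ : X → ℤ} {n : ℤ} (ζ : X) {ι κ : Type*} (S : Finset ι) (T : Finset κ) (a : ι → ℤ)
    (b : κ → ℤ) (φ : ι → X → ℤ) (ψ : κ → X → ℤ) (α β : X → ℤ)
    (hα : ∀ y, y ⤳ ζ → α y = ∑ i ∈ S, a i * φ i y) (hβ : ∀ y, y ⤳ ζ → β y = ∑ j ∈ T, b j * ψ j y)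
    (hφ : ∀ i ∈ S, CycleClassK.LFPts (Function.support (φ i)))
    (hψ : ∀ j ∈ T, CycleClassK.LFPts (Function.support (ψ j))) :
    IntMult.interProd δ n α β ζ = ∑ i ∈ S, ∑ j ∈ T, a i * b j * IntMult.interProd δ n (φ i) (ψ j) ζ := by
  have e1 : IntMult.interProd δ n α β ζ =
      ∑ᶠ p : {p : X × X // p.1 ⤳ ζ ∧ p.2 ⤳ ζ ∧ δ p.1 + δ p.2 - n = δ ζ}, ∑ i ∈ S, ∑ j ∈ T,
        a i * b j * (φ i p.1.1 * ψ j p.1.2 * IntMult.mult (IntMult.ptIdeal p.1.1) (IntMult.ptIdeal p.1.2) ζ) := by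
    refine finsum_congr fun ⟨⟨y, z⟩, hy, hz, _⟩ => ?_
    show α y * β z * _ = _
    rw [hα y hy, hβ z hz, Finset.sum_mul_sum, Finset.sum_mul]
    refine Finset.sum_congr rfl fun i _ => ?_
    rw [Finset.sum_mul]
    exact Finset.sum_congr rfl fun j _ => by ring
  have hfin : ∀ i ∈ S, ∀ j ∈ T, (Function.support fun p : {p : X × X // p.1 ⤳ ζ ∧ p.2 ⤳ ζ ∧ δ p.1 + δ p.2 - n = δ ζ} =>
      a i * b j * (φ i p.1.1 * ψ j p.1.2 * IntMult.mult (IntMult.ptIdeal p.1.1) (IntMult.ptIdeal p.1.2) ζ)).Finite := by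
    intro i hi j hj
    refine (((finite_gen (hφ i hi) ζ).prod (finite_gen (hψ j hj) ζ)).preimage Subtype.val_injective.injOn).subset
      fun p hp => ⟨⟨fun h => hp ?_, p.2.1⟩, ⟨fun h => hp ?_, p.2.2.1⟩⟩
    · show a i * b j * (φ i p.1.1 * _ * _) = 0
      rw [h]
      ring
    · show a i * b j * (_ * ψ j p.1.2 * _) = 0
      rw [h]
      ring
  have hfin' : ∀ i ∈ S, (Function.support fun p : {p : X × X // p.1 ⤳ ζ ∧ p.2 ⤳ ζ ∧ δ p.1 + δ p.2 - n = δ ζ} =>
      ∑ j ∈ T, a i * b j * (φ i p.1.1 * ψ j p.1.2 *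
        IntMult.mult (IntMult.ptIdeal p.1.1) (IntMult.ptIdeal p.1.2) ζ)).Finite := fun i hi =>
    ((T.finite_toSet.biUnion fun j hj => hfin i hi j hj)).subset fun p hp => by
      obtain ⟨j, hj, h⟩ := Finset.exists_ne_zero_of_sum_ne_zero hp
      exact Set.mem_biUnion (x := j) hj h
  rw [e1, finsum_sum_comm S _ hfin']
  refine Finset.sum_congr rfl fun i hi => ?_
  rw [finsum_sum_comm T _ (hfin i hi)]
  refine Finset.sum_congr rfl fun j hj => ?_
  rw [IntMult.interProd, mul_finsum]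

variable {δ : X → ℤ}

open Classical in
/-- A cycle near a point is a finite sum of prime cycles. -/
theorem eq_sum_indicator {α : X → ℤ} (ζ : X) (h : {y : X | y ∈ Function.support α ∧ y ⤳ ζ}.Finite) {w : X}
    (hw : w ⤳ ζ) : α w = ∑ y ∈ h.toFinset, α y * Set.indicator {y} (1 : X → ℤ) w := by
  rw [Finset.sum_eq_single w (fun y _ hy => by
    rw [Set.indicator_of_notMem (fun h' => hy (Set.mem_singleton_iff.1 h').symm), mul_zero]) fun hn => ?_]
  · rw [Set.indicator_of_mem (Set.mem_singleton w), Pi.one_apply, mul_one]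
  · rw [Set.Finite.mem_toFinset] at hn
    rw [show α w = 0 from not_not.1 fun hne => hn ⟨hne, hw⟩, zero_mul]

theorem sheafFun_closure [IsLocallyNoetherian X] (hd : Cyc.IsDimFun X δ) (y : X) :
    Cyc.sheafFun δ (δ y) (Cyc.closureStructureSheaf y) = Set.indicator {y} (1 : X → ℤ) := by
  funext w
  by_cases hw : w = y
  · subst hw
    rw [Set.indicator_of_mem (Set.mem_singleton w), Cyc.sheafFun, if_pos rfl, SkyPoint.length_closure_self]
    rfl
  · rw [Set.indicator_of_notMem (fun h => hw (Set.mem_singleton_iff.1 h))]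
    by_contra h
    obtain ⟨h1, h2⟩ := CycleClassK.nontrivial_of_sheafFun h
    exact hw (CycLib.eq_of_delta_le hd (SkyPoint.specializes_of_nontrivial_closure h2) h1.ge).symm

end Groth.Agent.H23.InterBilin
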