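import Groth.Agent.H23.GysinComm
import Groth.Agent.InvX.Tensor

/-! The first Chern class cap descends to rational equivalence classes, with supports. -/

set_option autoImplicit false
set_option linter.style.haveILetI false

universe u

open AlgebraicGeometry CategoryTheory TopologicalSpace Opposite

namespace Groth.Agent.H23.C1Desc

open Groth.Agent RatSec

variable {X : Scheme.{u}}

/-- The section one. -/
noncomputable def one (ξ : X) : (Coh.structureModule X).presheaf.stalk ξ :=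
  (Coh.structureModule X).presheaf.germ ⊤ ξ trivial (show Γ(Coh.structureModule X, ⊤) from (1 : Γ(X, ⊤)))

theorem isGen_one (ξ : X) : IsGen (one ξ) := isGen_germ (InvX.isFrame_one ⊤) ξ trivial

theorem spec_one {ξ x : X} (h : ξ ⤳ x) : (Coh.structureModule X).presheaf.stalkSpecializes h (one x) = one ξ :=
  TopCat.Presheaf.germ_stalkSpecializes_apply _ _ h _

/-- The rational section one. -/
noncomputable def oneSec (ξ : X) : Cyc.secFibre (Coh.structureModule X) ξ := cls _ ξ (one ξ)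

theorem oneSec_eq (ξ : X) : oneSec ξ = (1 : X.presheaf.stalk ξ) • cls _ ξ (one ξ) := (one_smul _ _).symm

theorem oneSec_ne_zero (ξ : X) : oneSec ξ ≠ 0 := by
  rw [oneSec_eq, ← residue_ne_zero (isGen_one ξ), map_one]
  exact one_ne_zero

variable [IsLocallyNoetherian X] {δ : X → ℤ}

theorem secDivFun_smul_one (hd : Cyc.IsDimFun X δ) {ξ : X} {φ : X.presheaf.stalk ξ} (hφ : X.residue ξ φ ≠ 0) :
    Cyc.secDivFun δ (Coh.structureModule X) ξ (φ • oneSec ξ) = Cyc.divFun δ ξ (X.residue ξ φ) := by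
  classical
  funext x
  by_cases h : ξ ⤳ x
  · refine secDivFun_eq InvX.isInvertible_structureModule hd h (isGen_one x).1 ?_ hφ
    rw [spec_one]
    rfl
  · simp [Cyc.secDivFun, Cyc.divFun, h]

theorem secDivFun_one (hd : Cyc.IsDimFun X δ) (ξ x : X) :
    Cyc.secDivFun δ (Coh.structureModule X) ξ (oneSec ξ) x = 0 := by
  classical
  rw [oneSec_eq, ← oneSec, secDivFun_smul_one hd (by rw [map_one]; exact one_ne_zero), map_one]
  by_cases h : ξ ⤳ x ∧ δ x + 1 = δ ξ
  · rw [CycLib.divFun_eq δ _ h.1 h.2]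
    exact CycLib.ordAt_one hd h.1 h.2
  · exact dif_neg h

/-- The cap of a sum of principal divisors is a sum of principal divisors. -/
theorem zeroOn_c1Cap {L : X.Modules} (hL : PicF.IsInvertible L) (hd : Cyc.IsDimFun X δ) {k : ℤ} {G : X → ℤ}
    (h : RatOn.ZeroOn δ (k + 1) Set.univ G) {s : (ξ : X) → Cyc.secFibre L ξ} (hs : ∀ ξ, s ξ ≠ 0) {T : Set X}
    (hT : ∀ ξ ζ, δ ξ = k + 2 → ξ ⤳ ζ → δ ζ + 1 = δ ξ → ζ ∉ T → C1Glue.Coherent s s ξ ζ) :
    RatOn.ZeroOn δ k T (Cyc.c1CapFun δ L G s) := by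
  classical
  obtain ⟨ι, ξ, f, h1, h2, -, h4, h5⟩ := h
  have hone := InvX.isInvertible_structureModule (X := X)
  choose φ hφ using fun i => Ideal.Quotient.mk_surjective (f i)
  have hφ0 : ∀ i, X.residue (ξ i) (φ i) ≠ 0 := fun i => by
    show Ideal.Quotient.mk _ (φ i) ≠ 0
    rw [hφ]; exact h2 i
  let sN : ι → (ζ : X) → Cyc.secFibre (Coh.structureModule X) ζ := fun i =>
    Function.update oneSec (ξ i) (φ i • oneSec (ξ i))
  have hsN : ∀ i ζ, sN i ζ ≠ 0 := fun i ζ => by
    by_cases hζ : ζ = ξ i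
    · subst hζ
      simp only [sN, Function.update_self]
      exact (residue_ne_zero (isGen_one _)).1 (hφ0 i)
    · simp only [sN, Function.update_of_ne hζ]
      exact oneSec_ne_zero ζ
  have hdiv : ∀ i, Cyc.secDivFun δ (Coh.structureModule X) (ξ i) (sN i (ξ i)) = Cyc.divFun δ (ξ i) (f i) := fun i => by
    simp only [sN, Function.update_self]
    rw [secDivFun_smul_one hd (hφ0 i)]
    exact congrArg _ (hφ i)
  have hpt : ∀ i, RatOn.ZeroOn δ k (closure {ξ i} ∩ T) (Cyc.c1CapFun δ L (Cyc.divFun δ (ξ i) (f i)) s) := fun i => by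
    have h0 := C1Glue.zeroOn_point hL hone hd (sL := s) (sL' := s) (sN := sN i) (sN' := oneSec) hs hs (hsN i)
      oneSec_ne_zero (ξ i) (T := T) fun ζ a b c => Or.inr (hT (ξ i) ζ (by rw [h1]; ring) a b c)
    rw [show δ (ξ i) - 2 = k by rw [h1]; ring] at h0
    refine RatOn.congr h0 fun x => ?_
    rw [hdiv, show Cyc.c1CapFun δ (Coh.structureModule X) (Cyc.secDivFun δ L (ξ i) (s (ξ i))) oneSec x = 0 from
      finsum_eq_zero_of_forall_eq_zero fun ζ => by rw [secDivFun_one hd, mul_zero], sub_zero]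
  have hsum := RatOn.sum hd (fun _ : ι => (1 : ℤ)) (fun i => Cyc.c1CapFun δ L (Cyc.divFun δ (ξ i) (f i)) s)
    (fun i => closure {ξ i} ∩ T) (fun _ => Set.inter_subset_right) hpt fun x => by
      obtain ⟨U, hUo, hxU, hfin⟩ := h4 x
      refine ⟨U, hUo, hxU, hfin.subset ?_⟩
      rintro i ⟨⟨z, ⟨hz, -⟩, hzU⟩, -⟩
      exact ⟨z, hz, hzU⟩
  refine RatOn.congr hsum fun x => ?_
  simp only [one_mul]
  obtain ⟨U, hUo, hxU, hfin⟩ := h4 x
  have hsp : ∀ i η, Cyc.divFun δ (ξ i) (f i) η * Cyc.secDivFun δ L η (s η) x ≠ 0 → i ∈ hfin.toFinset := fun i η hne => by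
    have h1 : ξ i ⤳ η := by_contra fun hn => left_ne_zero_of_mul hne (CycLib.divFun_eq_zero_of_not_specializes δ _ hn)
    have h2 : η ⤳ x := by_contra fun hn => right_ne_zero_of_mul hne (by simp [Cyc.secDivFun, hn])
    exact hfin.mem_toFinset.2 ⟨x, specializes_iff_mem_closure.1 (h1.trans h2), hxU⟩
  rw [finsum_eq_sum_of_support_subset (s := hfin.toFinset) _ fun i hi => ?_]
  swap
  · by_contra hn
    exact hi (finsum_eq_zero_of_forall_eq_zero fun η => by_contra fun hne => hn (hsp i η hne))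
  have hl : ∀ η, G η * Cyc.secDivFun δ L η (s η) x =
      ∑ i ∈ hfin.toFinset, Cyc.divFun δ (ξ i) (f i) η * Cyc.secDivFun δ L η (s η) x := fun η => by
    by_cases h0 : Cyc.secDivFun δ L η (s η) x = 0
    · simp [h0]
    rw [h5, ← Finset.sum_mul, finsum_eq_sum_of_support_subset (s := hfin.toFinset) _ fun i hi =>
      hsp i η (mul_ne_zero hi h0)]
  show ∑ᶠ η, G η * Cyc.secDivFun δ L η (s η) x = _
  rw [finsum_congr hl, finsum_sum_comm]
  · rfl
  · exact fun i _ => finite_support_c1Cap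
      (GysinLib.locFin (CycLib.divCycle hd (ξ i) (f i) (h2 i))) s x

end Groth.Agent.H23.C1Desc
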