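import Groth.Agent.H23.GysinLib
import Groth.Agent.H23.GysinPb
import Groth.Agent.DimFormula.Scheme
import Groth.Agent.CycLib.DivPushAll

/-! Functoriality of Gysin maps. -/

set_option autoImplicit false
set_option linter.style.haveILetI false

universe u

open AlgebraicGeometry CategoryTheory CategoryTheory.Limits TopologicalSpace Opposite IsLocalRing

namespace Groth.Agent.H23.GysinLib

open Groth.Agent RatSec C1Pull

variable {X : Scheme.{u}}

theorem isSetup_closedImmersion {D : Scheme.{u}} (i : D ⟶ X) [IsClosedImmersion i] {δ : X → ℤ}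
    (hX : Cyc.IsSetup X δ) : Cyc.IsSetup D (fun d => δ (i d)) := by
  haveI := hX.1
  exact ⟨LocallyOfFiniteType.isLocallyNoetherian i, fun d =>
    DimFormula.isUniversallyCatenary_of_surjective (hX.2.1 (i d)) (i.stalkMap d).hom (i.stalkMap_surjective d),
    CycLib.isDimFun_closedImmersion i hX.2.2⟩

/-- Two choices of sections agreeing off `D` give the same class on `D`. -/
theorem ratEquiv_restrict {D : Scheme.{u}} (i : D ⟶ X) [IsClosedImmersion i] [IsLocallyNoetherian X]
    {L : X.Modules} (hL : PicF.IsInvertible L) {δ : X → ℤ} (hd : Cyc.IsDimFun X δ) {k : ℤ}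
    (α : AlgebraicCycle X ℤ) (hα : α ∈ Cyc.Zk X δ (k + 1)) {u v : (ξ : X) → Cyc.secFibre L ξ}
    (hu : ∀ ξ, u ξ ≠ 0) (hv : ∀ ξ, v ξ ≠ 0)
    (huv : ∀ ξ, ξ ∉ Set.range i → Cyc.secDivFun δ L ξ (u ξ) = Cyc.secDivFun δ L ξ (v ξ))
    {γ γ' : AlgebraicCycle D ℤ} (hγ : ∀ d, γ d = Cyc.c1CapFun δ L ⇑α u (i d))
    (hγ' : ∀ d, γ' d = Cyc.c1CapFun δ L ⇑α v (i d)) : Cyc.RatEquiv (fun d => δ (i d)) k γ γ' := by
  classical
  haveI : IsLocallyNoetherian D := LocallyOfFiniteType.isLocallyNoetherian i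
  have hdD := CycLib.isDimFun_closedImmersion i hd
  let β := CycLib.restrictCycle i i.isClosedEmbedding.injective α
  have hL' := PicClLib.isInvertible_pullback i hL
  let B : ∀ w : (ξ : X) → Cyc.secFibre L ξ, (∀ ξ, w ξ ≠ 0) → AlgebraicCycle D ℤ := fun w hw =>
    c1CapCycle hL' hdD β (vPull i L w) (vPull_ne_zero hL hw)
  have hB : ∀ (w : (ξ : X) → Cyc.secFibre L ξ) (hw : ∀ ξ, w ξ ≠ 0) (d : D), B w hw d =
      Cyc.c1CapFun δ L ⇑(AlgebraicCycle.map i (fun d => δ (i d)) δ β) w (i d) := fun w hw d => by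
    rw [← congrFun (C1Push.map_c1Cap (p := i) hL hdD hd (deltaCompat_closedImmersion i δ) β hw) (i d),
      CycLib.map_preimmersion_apply]
  have h1 : Cyc.RatEquiv (fun d => δ (i d)) k (B u hu) (B v hv) :=
    ratEquiv_c1Cap hL' hdD (fun d hd' => hα (i d) hd') (locFin β) (vPull_ne_zero hL hu) (vPull_ne_zero hL hv)
      (coe_c1CapCycle _ _ _ _ _) (coe_c1CapCycle _ _ _ _ _)
  refine cast (congrArg (Cyc.RatEquivZero (fun d => δ (i d)) k) ?_) h1
  ext d
  rw [Function.locallyFinsuppWithin.coe_sub, Function.locallyFinsuppWithin.coe_sub, Pi.sub_apply, Pi.sub_apply,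
    hB u hu, hB v hv, hγ, hγ']
  let β' := AlgebraicCycle.map i (fun d => δ (i d)) δ β
  simp only [Cyc.c1CapFun]
  rw [← finsum_sub_distrib (finite_support_c1Cap (locFin β') u (i d)) (finite_support_c1Cap (locFin β') v (i d)),
    ← finsum_sub_distrib (finite_support_c1Cap (locFin α) u (i d)) (finite_support_c1Cap (locFin α) v (i d))]
  refine finsum_congr fun ξ => ?_
  by_cases hξ : ξ ∈ Set.range i
  · obtain ⟨e, rfl⟩ := hξ
    rw [CycLib.map_preimmersion_apply]
    rfl
  · rw [huv ξ hξ, sub_self, sub_self]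

variable {X' D : Scheme.{u}} (f : X' ⟶ X) (i : D ⟶ X) [IsClosedImmersion i] {L : X.Modules}
  {s : L.presheaf.obj (Opposite.op ⊤)} {s' : ((Scheme.Modules.pullback f).obj L).presheaf.obj (Opposite.op ⊤)}

theorem range_fst_eq : Set.range (pullback.fst f i) = f ⁻¹' Set.range i :=
  Scheme.Pullback.range_fst f i

omit [IsClosedImmersion i] in
theorem exists_unit_of_span_eq {R : Type u} [CommRing R] [IsLocalRing R] {a b : R}
    (h : Ideal.span ({a} : Set R) = Ideal.span {b}) : ∃ u : Rˣ, b = a * ↑u := by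
  obtain ⟨x, hx⟩ := Ideal.mem_span_singleton'.1 (h.ge (Ideal.mem_span_singleton_self b))
  obtain ⟨y, hy⟩ := Ideal.mem_span_singleton'.1 (h.le (Ideal.mem_span_singleton_self a))
  rcases IsLocalRing.isUnit_or_isUnit_one_sub_self (y * x) with h1 | h1
  · exact ⟨(isUnit_of_mul_isUnit_right h1).unit, by rw [IsUnit.unit_spec, mul_comm]; exact hx.symm⟩
  · have h2 : (1 - y * x) * a = 0 := by rw [sub_mul, one_mul, mul_assoc, hx, hy, sub_self]
    have ha : a = 0 := h1.mul_right_eq_zero.1 h2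
    exact ⟨1, by rw [← hx, ha, mul_zero, zero_mul]⟩

/-- At every point the section cutting out the inverse image is a unit times the pulled back section. -/
theorem exists_unit (hL : PicF.IsInvertible L) (hD : Cyc.IsZeroSchemeOf i L s)
    (hD' : Cyc.IsZeroSchemeOf (pullback.fst f i) ((Scheme.Modules.pullback f).obj L) s') (x : X') :
    ∃ u : X'.presheaf.stalk x, IsUnit u ∧
      ((Scheme.Modules.pullback f).obj L).presheaf.germ ⊤ x trivial s' =
        u • pm f L x (L.presheaf.germ ⊤ (f x) trivial s) := by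
  have hL' := PicClLib.isInvertible_pullback f hL
  by_cases hx : x ∈ Set.range (pullback.fst f i)
  · obtain ⟨z, rfl⟩ := hx
    obtain ⟨t, φ, ht, hst, hker⟩ := hD.2 (pullback.snd f i z)
    obtain ⟨t', φ', ht', hst', hker'⟩ := hD'.2 z
    have hsp := specializes_of_eq (GysinPb.apply_fst_eq f i z)
    have e1 : L.presheaf.germ ⊤ (f (pullback.fst f i z)) trivial s =
        (X.presheaf.stalkSpecializes hsp).hom φ • L.presheaf.stalkSpecializes hsp t := by
      rw [← ZeroSec.stalkSpecializes_smul, ← hst, TopCat.Presheaf.germ_stalkSpecializes_apply]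
    have hgt : IsGen (pm f L (pullback.fst f i z) (L.presheaf.stalkSpecializes hsp t)) :=
      isGen_pm ((isGen_of_span hL ht).2 _ hsp)
    obtain ⟨w, hw, rfl⟩ := hgt.of_span ht'
    have hkeq := GysinPb.ker_stalkMap_fst f i z
    rw [hker, hker', Ideal.map_span, Set.image_singleton] at hkeq
    obtain ⟨a, ha⟩ := exists_unit_of_span_eq hkeq
    refine ⟨↑a⁻¹ * w, a⁻¹.isUnit.mul hw, ?_⟩
    rw [hst', e1, pm_smul, smul_smul, smul_smul]
    refine congrArg (· • _) ?_
    have hb : (GysinPb.baseMap f i z).hom φ =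
        (f.stalkMap (pullback.fst f i z)).hom ((X.presheaf.stalkSpecializes hsp).hom φ) := rfl
    rw [← hb, ha]
    rw [show (↑a⁻¹ : X'.presheaf.stalk (pullback.fst f i z)) * w * (φ' * ↑a) = φ' * w * (↑a⁻¹ * ↑a) by ring,
      Units.inv_mul, mul_one]
  · obtain ⟨t, ht, -⟩ := exists_gen hL (f x)
    obtain ⟨φ, hφ⟩ := Submodule.mem_span_singleton.1
      (ht.1.ge (Submodule.mem_top : L.presheaf.germ ⊤ (f x) trivial s ∈ ⊤))
    obtain ⟨φ', hφ'⟩ := Submodule.mem_span_singleton.1 ((isGen_pm ht).1.ge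
      (Submodule.mem_top : ((Scheme.Modules.pullback f).obj L).presheaf.germ ⊤ x trivial s' ∈ ⊤))
    have h1 : IsUnit φ := by
      by_contra h
      have h0 : f x ∈ Set.range i := by
        refine hD.1.ge ?_
        show cls L (f x) (L.presheaf.germ ⊤ (f x) trivial s) = 0
        rw [← hφ, cls_smul, ← not_ne_iff, ← residue_ne_zero ht, not_ne_iff]
        exact Ideal.Quotient.eq_zero_iff_mem.2 h
      exact hx (by rw [range_fst_eq]; exact h0)
    have h2 : IsUnit φ' := by
      by_contra h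
      refine hx (hD'.1.ge ?_)
      show cls _ x (((Scheme.Modules.pullback f).obj L).presheaf.germ ⊤ x trivial s') = 0
      rw [← hφ', cls_smul, ← not_ne_iff, ← residue_ne_zero (isGen_pm ht), not_ne_iff]
      exact Ideal.Quotient.eq_zero_iff_mem.2 h
    obtain ⟨a, ha⟩ := (h1.map (f.stalkMap x).hom).exists_left_inv
    refine ⟨φ' * a, h2.mul (IsUnit.of_mul_eq_one _ ha), ?_⟩
    rw [← hφ, ← hφ', pm_smul, smul_smul, mul_assoc, ha, mul_one]

variable [IsLocallyNoetherian X'] {δ' : X' → ℤ}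

/-- Off the inverse image, the two natural sections have the same divisor. -/
theorem secDivFun_gysinChoice (hL : PicF.IsInvertible L) (hd' : Cyc.IsDimFun X' δ')
    (hD : Cyc.IsZeroSchemeOf i L s)
    (hD' : Cyc.IsZeroSchemeOf (pullback.fst f i) ((Scheme.Modules.pullback f).obj L) s')
    (w : (ξ : X) → Cyc.secFibre L ξ) (w' : (ξ : X') → Cyc.secFibre ((Scheme.Modules.pullback f).obj L) ξ)
    {ξ : X'} (hξ : ξ ∉ Set.range (pullback.fst f i)) :
    Cyc.secDivFun δ' _ ξ (vPull f L (Cyc.gysinChoice L s w) ξ) =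
      Cyc.secDivFun δ' _ ξ (Cyc.gysinChoice ((Scheme.Modules.pullback f).obj L) s' w' ξ) := by
  classical
  funext x
  by_cases h : ξ ⤳ x
  swap
  · simp [Cyc.secDivFun, h]
  have hL' := PicClLib.isInvertible_pullback f hL
  have hgc : Cyc.gysinChoice L s w (f ξ) = cls L (f ξ) (L.presheaf.germ ⊤ (f ξ) trivial s) :=
    if_pos fun h0 => hξ (by rw [range_fst_eq]; exact hD.1.ge h0)
  have hs0 : cls _ ξ (((Scheme.Modules.pullback f).obj L).presheaf.germ ⊤ ξ trivial s') ≠ 0 :=
    fun h0 => hξ (hD'.1.ge h0)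
  have hgc' : Cyc.gysinChoice _ s' w' ξ =
      cls _ ξ (((Scheme.Modules.pullback f).obj L).presheaf.germ ⊤ ξ trivial s') := if_pos hs0
  obtain ⟨t, ht, ht'⟩ := exists_gen hL (f x)
  obtain ⟨φ, hφ⟩ := Submodule.mem_span_singleton.1
    (ht.1.ge (Submodule.mem_top : L.presheaf.germ ⊤ (f x) trivial s ∈ ⊤))
  obtain ⟨a, hau, hau'⟩ := exists_unit f i hL hD hD' x
  have hgt := isGen_pm (p := f) ht
  have htξ := ht' (f ξ) (h.map f.continuous)
  have hgξ : IsGen (((Scheme.Modules.pullback f).obj L).presheaf.stalkSpecializes h (pm f L x t)) := by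
    rw [← pm_stalkSpecializes]
    exact isGen_pm htξ
  let c : X'.presheaf.stalk x := (f.stalkMap x).hom φ
  have e1 : vPull f L (Cyc.gysinChoice L s w) ξ =
      (X'.presheaf.stalkSpecializes h).hom c • cls _ ξ
        (((Scheme.Modules.pullback f).obj L).presheaf.stalkSpecializes h (pm f L x t)) := by
    have hs : L.presheaf.germ ⊤ (f ξ) trivial s =
        (X.presheaf.stalkSpecializes (h.map f.continuous)).hom φ • L.presheaf.stalkSpecializes (h.map f.continuous) t := by
      rw [← ZeroSec.stalkSpecializes_smul, hφ, TopCat.Presheaf.germ_stalkSpecializes_apply]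
    rw [vPull_eq htξ (by rw [hgc, hs, cls_smul]), pm_stalkSpecializes]
    refine congrArg (· • _) ?_
    exact congrArg (fun g => g.hom φ) (Scheme.Hom.stalkSpecializes_stalkMap f ξ x h)
  have e2 : Cyc.gysinChoice _ s' w' ξ = (X'.presheaf.stalkSpecializes h).hom (a * c) • cls _ ξ
      (((Scheme.Modules.pullback f).obj L).presheaf.stalkSpecializes h (pm f L x t)) := by
    rw [hgc', ← cls_smul, ← ZeroSec.stalkSpecializes_smul, mul_smul, ← pm_smul, hφ, ← hau',
      TopCat.Presheaf.germ_stalkSpecializes_apply]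
  have hc' : X'.residue ξ ((X'.presheaf.stalkSpecializes h).hom (a * c)) ≠ 0 :=
    (residue_ne_zero hgξ).2 (by rw [← e2, hgc']; exact hs0)
  have hc : X'.residue ξ ((X'.presheaf.stalkSpecializes h).hom c) ≠ 0 := fun h0 => hc' (by
    rw [map_mul, map_mul, h0, mul_zero])
  rw [secDivFun_eq hL' hd' h hgt.1 e1 hc, secDivFun_eq hL' hd' h hgt.1 e2 hc']
  by_cases hx : δ' x + 1 = δ' ξ
  · rw [CycLib.divFun_eq δ' _ h hx, CycLib.divFun_eq δ' _ h hx, map_mul, map_mul]
    have hune : Cyc.specMap x ξ h a ≠ 0 := (hau.map (Cyc.specMap x ξ h)).ne_zero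
    refine Eq.trans ?_ (CycLib.ordAt_mul hd' h hx hune hc).symm
    rw [CycLib.ordAt_eq_zero_of_isUnit hd' h hx hau, zero_add]
  · simp [Cyc.divFun, hx]

omit [IsLocallyNoetherian X'] in
/-- The Gysin sections give a cap supported on the zero scheme. -/
theorem c1CapFun_eq_zero [IsLocallyNoetherian X] (hL : PicF.IsInvertible L) {δ : X → ℤ} (hd : Cyc.IsDimFun X δ)
    (hD : Cyc.IsZeroSchemeOf i L s) (α : X → ℤ) (w : (ξ : X) → Cyc.secFibre L ξ) {x : X} (hx : x ∉ Set.range i) :
    Cyc.c1CapFun δ L α (Cyc.gysinChoice L s w) x = 0 := by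
  classical
  refine finsum_eq_zero_of_forall_eq_zero fun ξ => mul_eq_zero_of_right _ ?_
  by_cases h : ξ ⤳ x
  swap
  · simp [Cyc.secDivFun, h]
  have hξ : ξ ∉ Set.range i := fun hr => hx (h.mem_closed i.isClosedEmbedding.isClosed_range hr)
  obtain ⟨t, ht, ht'⟩ := exists_gen hL x
  obtain ⟨φ, hφ⟩ := Submodule.mem_span_singleton.1
    (ht.1.ge (Submodule.mem_top : L.presheaf.germ ⊤ x trivial s ∈ ⊤))
  have hu : IsUnit φ := by
    by_contra hn
    refine hx (hD.1.ge ?_)
    show cls L x (L.presheaf.germ ⊤ x trivial s) = 0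
    rw [← hφ, cls_smul, ← not_ne_iff, ← residue_ne_zero ht, not_ne_iff]
    exact Ideal.Quotient.eq_zero_iff_mem.2 hn
  have hgc : Cyc.gysinChoice L s w ξ = (X.presheaf.stalkSpecializes h).hom φ •
      cls L ξ (L.presheaf.stalkSpecializes h t) := by
    rw [show Cyc.gysinChoice L s w ξ = cls L ξ (L.presheaf.germ ⊤ ξ trivial s) from
      if_pos fun h0 => hξ (hD.1.ge h0), ← cls_smul, ← ZeroSec.stalkSpecializes_smul, hφ,
      TopCat.Presheaf.germ_stalkSpecializes_apply]
  have h0 : X.residue ξ ((X.presheaf.stalkSpecializes h).hom φ) ≠ 0 :=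
    ((hu.map (X.presheaf.stalkSpecializes h).hom).map (X.residue ξ).hom).ne_zero
  rw [secDivFun_eq hL hd h ht.1 hgc h0]
  by_cases hdx : δ x + 1 = δ ξ
  · rw [CycLib.divFun_eq δ _ h hdx]
    exact CycLib.ordAt_eq_zero_of_isUnit hd h hdx hu
  · simp [Cyc.divFun, hdx]

end Groth.Agent.H23.GysinLib
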