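import Groth.Agent.H23.RatSec
import Groth.Agent.CycLib.MayerVietoris
import Groth.Agent.CycLib.DivPushProper

/-! Rational equivalence supported on a subset. -/

set_option autoImplicit false
set_option linter.style.haveILetI false

universe u

open AlgebraicGeometry CategoryTheory TopologicalSpace

namespace Groth.Agent.H23.RatOn

open Groth.Agent

variable {X : Scheme.{u}} {δ : X → ℤ} {k : ℤ}

/-- `G` is a locally finite sum of principal divisors on closed subvarieties with generic points in `T`. -/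
def ZeroOn (δ : X → ℤ) (k : ℤ) (T : Set X) (G : X → ℤ) : Prop :=
  ∃ (ι : Type u) (ξ : ι → X) (f : (i : ι) → X.residueField (ξ i)),
    (∀ i, δ (ξ i) = k + 1) ∧ (∀ i, f i ≠ 0) ∧ (∀ i, ξ i ∈ T) ∧
    (∀ x : X, ∃ U : Set X, IsOpen U ∧ x ∈ U ∧ {i | (closure {ξ i} ∩ U).Nonempty}.Finite) ∧
    ∀ x : X, G x = ∑ᶠ i, Cyc.divFun δ (ξ i) (f i) x

theorem mono {T T' : Set X} {G : X → ℤ} (h : ZeroOn δ k T G) (hT : T ⊆ T') : ZeroOn δ k T' G := by
  obtain ⟨ι, ξ, f, h1, h2, h3, h4, h5⟩ := h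
  exact ⟨ι, ξ, f, h1, h2, fun i => hT (h3 i), h4, h5⟩

theorem congr {T : Set X} {G G' : X → ℤ} (h : ZeroOn δ k T G) (e : ∀ x, G' x = G x) : ZeroOn δ k T G' := by
  obtain ⟨ι, ξ, f, h1, h2, h3, h4, h5⟩ := h
  exact ⟨ι, ξ, f, h1, h2, h3, h4, fun x => (e x).trans (h5 x)⟩

theorem zero (T : Set X) : ZeroOn δ k T (fun _ => (0 : ℤ)) :=
  ⟨PEmpty, fun i => i.elim, fun i => i.elim, fun i => i.elim, fun i => i.elim, fun i => i.elim,
    fun _ => ⟨Set.univ, isOpen_univ, trivial, Set.toFinite _⟩, fun _ => (finsum_of_isEmpty _).symm⟩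

theorem ratEquivZero {T : Set X} {α : AlgebraicCycle X ℤ} (h : ZeroOn δ k T ⇑α) : Cyc.RatEquivZero δ k α := by
  obtain ⟨ι, ξ, f, h1, h2, -, h4, h5⟩ := h
  exact ⟨ι, ξ, f, h1, h2, h4, h5⟩

theorem of_ratEquivZero {α : AlgebraicCycle X ℤ} (h : Cyc.RatEquivZero δ k α) : ZeroOn δ k Set.univ ⇑α := by
  obtain ⟨ι, ξ, f, h1, h2, h4, h5⟩ := h
  exact ⟨ι, ξ, f, h1, h2, fun _ => trivial, h4, h5⟩

theorem ratEquiv {T : Set X} {α β : AlgebraicCycle X ℤ} (h : ZeroOn δ k T fun x => α x - β x) :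
    Cyc.RatEquiv δ k α β :=
  ratEquivZero (T := T) (congr h fun x => by rw [Function.locallyFinsuppWithin.coe_sub, Pi.sub_apply])

/-- Descent to a closed subscheme containing the generic points. -/
theorem restrict [IsLocallyNoetherian X] (hd : Cyc.IsDimFun X δ) {D : Scheme.{u}} (i : D ⟶ X) [IsClosedImmersion i]
    {T : Set X} (hT : T ⊆ Set.range i) {G : X → ℤ} (h : ZeroOn δ k T G) {γ : AlgebraicCycle D ℤ}
    (hγ : ∀ d, γ d = G (i d)) : Cyc.RatEquivZero (fun d => δ (i d)) k γ := by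
  obtain ⟨ι, ξ, f, h1, h2, h3, h4, h5⟩ := h
  haveI : IsLocallyNoetherian D := LocallyOfFiniteType.isLocallyNoetherian i
  obtain ⟨ζ, g, hζ, hg, hloc, he⟩ := CycLib.exists_sumDiv_preimmersion i (δ := δ)
    (CycLib.isDimFun_closedImmersion i hd) ξ f h2 (fun j => hT (h3 j)) h4
  exact ⟨ι, ζ, g, fun j => by show δ (i (ζ j)) = _; rw [hζ j, h1 j], hg, hloc,
    fun d => (hγ d).trans ((h5 (i d)).trans (finsum_congr fun j => (he j d).symm))⟩

theorem restrict' [IsLocallyNoetherian X] (hd : Cyc.IsDimFun X δ) {D : Scheme.{u}} (i : D ⟶ X) [IsClosedImmersion i]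
    {T : Set X} (hT : T ⊆ Set.range i) {G : X → ℤ} (h : ZeroOn δ k T G) {γ γ' : AlgebraicCycle D ℤ}
    (hγ : ∀ d, γ d - γ' d = G (i d)) : Cyc.RatEquiv (fun d => δ (i d)) k γ γ' :=
  restrict hd i hT h fun d => by rw [Function.locallyFinsuppWithin.coe_sub, Pi.sub_apply, hγ]

/-- Push-forward from a closed subscheme. -/
theorem push [IsLocallyNoetherian X] {W : Scheme.{u}} (j : W ⟶ X) [IsClosedImmersion j] {T : Set W} {G : W → ℤ}
    {G' : X → ℤ} (h : ZeroOn (fun w => δ (j w)) k T G) (he : ∀ w, G' (j w) = G w)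
    (h0 : ∀ x, x ∉ Set.range j → G' x = 0) : ZeroOn δ k (j '' T) G' := by
  obtain ⟨ι, ξ, f, h1, h2, h3, h4, h5⟩ := h
  haveI : IsLocallyNoetherian W := LocallyOfFiniteType.isLocallyNoetherian j
  choose g hg using fun i => (CycLib.residueFieldMap_bijective j (ξ i)).2 (f i)
  have hcl := j.isClosedEmbedding.isClosed_range
  refine ⟨ι, fun i => j (ξ i), g, h1, fun i h0 => h2 i (by rw [← hg i, h0, map_zero]),
    fun i => ⟨_, h3 i, rfl⟩, fun x => ?_, fun x => ?_⟩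
  · by_cases hx : x ∈ Set.range j
    · obtain ⟨w, rfl⟩ := hx
      obtain ⟨U, hUo, hwU, hfin⟩ := h4 w
      obtain ⟨V, hVo, rfl⟩ := j.isEmbedding.isInducing.isOpen_iff.1 hUo
      refine ⟨V, hVo, hwU, hfin.subset ?_⟩
      rintro i ⟨z, hz, hzV⟩
      exact ⟨ξ i, subset_closure rfl,
        (specializes_iff_mem_closure.2 hz).mem_open hVo hzV⟩
    · refine ⟨(Set.range j)ᶜ, hcl.isOpen_compl, hx, Set.finite_empty.subset ?_⟩
      rintro i ⟨z, hz, hzV⟩
      exact hzV ((specializes_iff_mem_closure.2 hz).mem_closed hcl ⟨ξ i, rfl⟩)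
  · by_cases hx : x ∈ Set.range j
    · obtain ⟨w, rfl⟩ := hx
      rw [he, h5]
      exact finsum_congr fun i => by rw [← hg i, CycLib.divFun_preimmersion j 0 (fun z => (add_zero _).symm)]
    · rw [h0 x hx]
      exact (finsum_eq_zero_of_forall_eq_zero fun i =>
        CycLib.divFun_preimmersion_of_not_range j hcl (ξ i) (g i) hx).symm

/-- Locally finite combinations. -/
theorem sum [IsLocallyNoetherian X] (hd : Cyc.IsDimFun X δ) {I : Type u} (c : I → ℤ) (G : I → X → ℤ)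
    (T : I → Set X) {T₀ : Set X} (hT : ∀ i, T i ⊆ T₀) (h : ∀ i, ZeroOn δ k (T i) (G i))
    (hfin : ∀ x : X, ∃ U : Set X, IsOpen U ∧ x ∈ U ∧ {i | (T i ∩ U).Nonempty ∧ c i ≠ 0}.Finite) :
    ZeroOn δ k T₀ fun x => ∑ᶠ i, c i * G i x := by
  classical
  choose ι ξ f h1 h2 h3 h4 h5 using h
  refine ⟨Σ i : {i : I // c i ≠ 0}, ι i.1, fun p => ξ p.1.1 p.2, fun p => f p.1.1 p.2 ^ c p.1.1,
    fun p => h1 _ _, fun p => zpow_ne_zero _ (h2 _ _), fun p => hT _ (h3 _ _), fun x => ?_, fun x => ?_⟩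
  · obtain ⟨U, hUo, hxU, hUf⟩ := hfin x
    choose V hVo hxV hVf using fun i => h4 i x
    let S : Set I := {i | (T i ∩ U).Nonempty ∧ c i ≠ 0}
    refine ⟨U ∩ ⋂ i ∈ S, V i, hUo.inter (hUf.isOpen_biInter fun i _ => hVo i),
      ⟨hxU, Set.mem_iInter₂.2 fun i _ => hxV i⟩, ?_⟩
    have hmem : ∀ p : (Σ i : {i : I // c i ≠ 0}, ι i.1), (closure {ξ p.1.1 p.2} ∩ (U ∩ ⋂ i ∈ S, V i)).Nonempty →
        p.1.1 ∈ S ∧ (closure {ξ p.1.1 p.2} ∩ V p.1.1).Nonempty := by
      rintro p ⟨z, hz, hzU, hzV⟩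
      have hS : p.1.1 ∈ S := ⟨⟨_, h3 _ _, (specializes_iff_mem_closure.2 hz).mem_open hUo hzU⟩, p.1.2⟩
      exact ⟨hS, z, hz, Set.mem_iInter₂.1 hzV _ hS⟩
    refine (((hUf.preimage (Subtype.val_injective.injOn (s := _))).biUnion fun i _ =>
      (hVf i.1).image (fun a => (⟨i, a⟩ : Σ i : {i : I // c i ≠ 0}, ι i.1)))).subset ?_
    rintro ⟨i, a⟩ hp
    exact Set.mem_biUnion (x := i) (hmem ⟨i, a⟩ hp).1 ⟨a, (hmem ⟨i, a⟩ hp).2, rfl⟩
  · obtain ⟨U, hUo, hxU, hUf⟩ := hfin x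
    have hsuppI : ∀ i, c i * G i x ≠ 0 → (T i ∩ U).Nonempty ∧ c i ≠ 0 := fun i hi => by
      obtain ⟨a, ha⟩ : ∃ a, Cyc.divFun δ (ξ i a) (f i a) x ≠ 0 := by
        by_contra hn
        push Not at hn
        exact right_ne_zero_of_mul hi (by rw [h5, finsum_eq_zero_of_forall_eq_zero hn])
      exact ⟨⟨_, h3 i a, (specializes_iff_mem_closure.2 (CycLib.mem_closure_of_divFun_ne_zero ha)).mem_open hUo hxU⟩,
        left_ne_zero_of_mul hi⟩
    let S : Finset {i : I // c i ≠ 0} := hUf.toFinset.subtype _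
    let A : ∀ i : I, Finset (ι i) := fun i => (CycLib.finite_index (δ := δ) (ξ i) (f i) (h4 i) x).toFinset
    have hGi : ∀ i, G i x = ∑ a ∈ A i, Cyc.divFun δ (ξ i a) (f i a) x := fun i =>
      (h5 i x).trans (finsum_eq_sum _ (CycLib.finite_index (δ := δ) (ξ i) (f i) (h4 i) x))
    simp only []
    rw [finsum_eq_sum_of_support_subset (s := hUf.toFinset) _ fun i hi => hUf.mem_toFinset.2 (hsuppI i hi),
      finsum_eq_sum_of_support_subset (s := S.sigma fun i => A i.1) _ ?_, Finset.sum_sigma,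
      ← Finset.sum_subtype_of_mem (p := fun i => c i ≠ 0) (fun i => c i * G i x)
        fun i hi => (hUf.mem_toFinset.1 hi).2]
    · refine Finset.sum_congr rfl fun i _ => ?_
      rw [hGi, Finset.mul_sum]
      exact Finset.sum_congr rfl fun a _ => (RatSec.divFun_zpow hd (h2 i.1 a) (c i.1) x).symm
    · rintro ⟨i, a⟩ hp
      rw [Function.mem_support, RatSec.divFun_zpow hd (h2 i.1 a)] at hp
      have ha := right_ne_zero_of_mul hp
      rw [Finset.mem_coe, Finset.mem_sigma, Finset.mem_subtype]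
      exact ⟨hUf.mem_toFinset.2 ⟨⟨_, h3 i.1 a,
        (specializes_iff_mem_closure.2 (CycLib.mem_closure_of_divFun_ne_zero ha)).mem_open hUo hxU⟩, i.2⟩,
        Set.Finite.mem_toFinset _ |>.2 ha⟩

theorem add [IsLocallyNoetherian X] (hd : Cyc.IsDimFun X δ) {T : Set X} {G G' : X → ℤ} (h : ZeroOn δ k T G)
    (h' : ZeroOn δ k T G') (c c' : ℤ) : ZeroOn δ k T fun x => c * G x + c' * G' x := by
  refine congr (sum hd (I := ULift.{u} Bool) (fun b => if b.down then c else c')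
    (fun b => if b.down then G else G') (fun _ => T) (fun _ => le_rfl) (fun b => by split_ifs <;> assumption)
    fun x => ⟨Set.univ, isOpen_univ, trivial, Set.toFinite _⟩) fun x => ?_
  rw [finsum_eq_sum_of_fintype, ← Equiv.ulift.symm.sum_comp, Fintype.sum_bool]
  rfl

theorem trans [IsLocallyNoetherian X] (hd : Cyc.IsDimFun X δ) {α β γ : AlgebraicCycle X ℤ}
    (h : Cyc.RatEquiv δ k α β) (h' : Cyc.RatEquiv δ k β γ) : Cyc.RatEquiv δ k α γ :=
  ratEquiv (congr (add hd (of_ratEquivZero h) (of_ratEquivZero h') 1 1) fun x => by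
    simp only [Function.locallyFinsuppWithin.coe_sub, Pi.sub_apply]
    ring)

theorem symm [IsLocallyNoetherian X] (hd : Cyc.IsDimFun X δ) {α β : AlgebraicCycle X ℤ}
    (h : Cyc.RatEquiv δ k α β) : Cyc.RatEquiv δ k β α :=
  ratEquiv (congr (add hd (of_ratEquivZero h) (zero Set.univ) (-1) 1) fun x => by
    simp only [Function.locallyFinsuppWithin.coe_sub, Pi.sub_apply]
    ring)

end Groth.Agent.H23.RatOn
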