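import Groth.Agent.H23.C1Comm
import Groth.Agent.H23.C1Push
import Groth.Agent.H23.RatOn
import Groth.Agent.H23.GysinFun

/-! Commutativity of first Chern classes on an arbitrary scheme, with supports. -/

set_option autoImplicit false
set_option linter.style.haveILetI false
set_option linter.unusedSectionVars false

universe u

open AlgebraicGeometry CategoryTheory TopologicalSpace Opposite IsLocalRing

namespace Groth.Agent.H23.C1Glue

open Groth.Agent RatSec C1Pull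

variable {X : Scheme.{u}} [IsLocallyNoetherian X] {δ : X → ℤ}

theorem cap_cap_eq {L N : X.Modules} (α : X → ℤ) (hfin : ∀ z : X, ∃ U ∈ nhds z, (U ∩ Function.support α).Finite)
    (hN : PicF.IsInvertible N) (hd : Cyc.IsDimFun X δ) {sN : (ξ : X) → Cyc.secFibre N ξ} (hsN : ∀ ξ, sN ξ ≠ 0)
    (sL : (ξ : X) → Cyc.secFibre L ξ) (x : X) :
    Cyc.c1CapFun δ L (Cyc.c1CapFun δ N α sN) sL x =
      ∑ᶠ ξ, α ξ * Cyc.c1CapFun δ L (Cyc.secDivFun δ N ξ (sN ξ)) sL x := by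
  classical
  let S := (finite_specializing hfin x).toFinset
  have hS : ∀ ξ, α ξ ≠ 0 → ξ ⤳ x → ξ ∈ S := fun ξ h h' => (finite_specializing hfin x).mem_toFinset.2 ⟨h, h'⟩
  have hsp : ∀ (M : X.Modules) (ξ y : X) (a : Cyc.secFibre M ξ), Cyc.secDivFun δ M ξ a y ≠ 0 → ξ ⤳ y :=
    fun M ξ y a h => by_contra fun hn => h (by simp [Cyc.secDivFun, hn])
  have hfib : ∀ ξ, (Function.support fun η => Cyc.secDivFun δ N ξ (sN ξ) η * Cyc.secDivFun δ L η (sL η) x).Finite :=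
    fun ξ => finite_support_c1Cap (locFin_secDivFun hN hd (hsN ξ)) sL x
  have hr : ∑ᶠ ξ, α ξ * Cyc.c1CapFun δ L (Cyc.secDivFun δ N ξ (sN ξ)) sL x =
      ∑ ξ ∈ S, α ξ * Cyc.c1CapFun δ L (Cyc.secDivFun δ N ξ (sN ξ)) sL x := by
    refine finsum_eq_sum_of_support_subset _ fun ξ hξ => hS ξ (left_ne_zero_of_mul hξ) ?_
    obtain ⟨η, hη⟩ : ∃ η, Cyc.secDivFun δ N ξ (sN ξ) η * Cyc.secDivFun δ L η (sL η) x ≠ 0 := by
      by_contra hn
      push Not at hn
      exact right_ne_zero_of_mul hξ (finsum_eq_zero_of_forall_eq_zero hn)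
    exact (hsp _ _ _ _ (left_ne_zero_of_mul hη)).trans (hsp _ _ _ _ (right_ne_zero_of_mul hη))
  rw [hr]
  have hl : ∀ η, Cyc.c1CapFun δ N α sN η * Cyc.secDivFun δ L η (sL η) x =
      ∑ ξ ∈ S, α ξ * (Cyc.secDivFun δ N ξ (sN ξ) η * Cyc.secDivFun δ L η (sL η) x) := by
    intro η
    by_cases h0 : Cyc.secDivFun δ L η (sL η) x = 0
    · simp [h0]
    rw [Cyc.c1CapFun, finsum_eq_sum_of_support_subset (s := S) _ fun ξ hξ =>
      hS ξ (left_ne_zero_of_mul hξ) ((hsp _ _ _ _ (right_ne_zero_of_mul hξ)).trans (hsp _ _ _ _ h0)), Finset.sum_mul]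
    exact Finset.sum_congr rfl fun ξ _ => mul_assoc _ _ _
  show ∑ᶠ η, Cyc.c1CapFun δ N α sN η * Cyc.secDivFun δ L η (sL η) x = _
  rw [finsum_congr hl, finsum_sum_comm]
  · exact Finset.sum_congr rfl fun ξ _ => (mul_finsum _ _).symm
  · exact fun ξ _ => (hfib ξ).subset fun η hη => right_ne_zero_of_mul hη

section Closed

variable {W : Scheme.{u}} (j : W ⟶ X) [IsClosedImmersion j] {L : X.Modules}

theorem secDivFun_closedImmersion (hL : PicF.IsInvertible L) (hd : Cyc.IsDimFun X δ)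
    {a : (ξ : X) → Cyc.secFibre L ξ} (ha : ∀ ξ, a ξ ≠ 0) (η w : W) :
    Cyc.secDivFun (fun w => δ (j w)) ((Scheme.Modules.pullback j).obj L) η (vPull j L a η) w =
      Cyc.secDivFun δ L (j η) (a (j η)) (j w) := by
  haveI : IsLocallyNoetherian W := LocallyOfFiniteType.isLocallyNoetherian j
  have hc : ∀ z, (AlgebraicCycle.mapCoeff j (fun w => δ (j w)) δ z : ℤ) = 1 := fun z => by
    rw [AlgebraicCycle.mapCoeff, if_pos rfl, CycLib.residueDegree_preimmersion, Nat.cast_one]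
  have h := (C1Push.map_secDivFun (p := j) hL (CycLib.isDimFun_closedImmersion j hd) hd
    (GysinLib.deltaCompat_closedImmersion j δ) ha η (j w)).2
  rw [show j ⁻¹' {j w} = {w} from Set.ext fun b => j.isEmbedding.injective.eq_iff, finsum_mem_singleton, hc, hc,
    mul_one, one_mul] at h
  exact h

theorem cap_secDiv_closedImmersion {N : X.Modules} (hL : PicF.IsInvertible L) (hN : PicF.IsInvertible N)
    (hd : Cyc.IsDimFun X δ) {sL : (ξ : X) → Cyc.secFibre L ξ} (hsL : ∀ ξ, sL ξ ≠ 0)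
    {sN : (ξ : X) → Cyc.secFibre N ξ} (hsN : ∀ ξ, sN ξ ≠ 0) (η w : W) :
    Cyc.c1CapFun (fun w => δ (j w)) ((Scheme.Modules.pullback j).obj L)
        (Cyc.secDivFun (fun w => δ (j w)) ((Scheme.Modules.pullback j).obj N) η (vPull j N sN η)) (vPull j L sL) w =
      Cyc.c1CapFun δ L (Cyc.secDivFun δ N (j η) (sN (j η))) sL (j w) := by
  classical
  simp only [Cyc.c1CapFun]
  rw [finsum_congr fun ζ => by rw [secDivFun_closedImmersion j hN hd hsN η ζ, secDivFun_closedImmersion j hL hd hsL ζ w],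
    ← finsum_mem_univ fun ζ => Cyc.secDivFun δ N (j η) (sN (j η)) (j ζ) * Cyc.secDivFun δ L (j ζ) (sL (j ζ)) (j w),
    ← finsum_mem_image (g := fun ζ : W => j ζ)
      (f := fun ζ => Cyc.secDivFun δ N (j η) (sN (j η)) ζ * Cyc.secDivFun δ L ζ (sL ζ) (j w))
      j.isEmbedding.injective.injOn, Set.image_univ,
    finsum_mem_def]
  refine finsum_congr fun ζ => ?_
  by_cases hζ : ζ ∈ Set.range j
  · rw [Set.indicator_of_mem hζ]
  · rw [Set.indicator_of_notMem hζ]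
    have h : ¬ (j η ⤳ ζ) := fun h => hζ (h.mem_closed j.isClosedEmbedding.isClosed_range ⟨η, rfl⟩)
    simp [Cyc.secDivFun, h]

theorem vPull_cls (hL : PicF.IsInvertible L) {a : (ξ : X) → Cyc.secFibre L ξ} {w : W}
    {m : L.presheaf.stalk (j w)} (ha : a (j w) = cls L (j w) m) :
    vPull j L a w = cls _ w (pm j L w m) := by
  obtain ⟨g, hg, -⟩ := exists_gen hL (j w)
  obtain ⟨φ, hφ⟩ := Submodule.mem_span_singleton.1 (hg.1.ge (Submodule.mem_top : m ∈ ⊤))
  rw [vPull_eq hg (φ := φ) (by rw [ha, ← hφ, cls_smul]), ← hφ, pm_smul, cls_smul]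

theorem cls_pm_ne_zero (hL : PicF.IsInvertible L) {w : W} {m : L.presheaf.stalk (j w)}
    (hm : cls L (j w) m ≠ 0) : cls _ w (pm j L w m) ≠ 0 := by
  obtain ⟨g, hg, -⟩ := exists_gen hL (j w)
  obtain ⟨φ, rfl⟩ := Submodule.mem_span_singleton.1 (hg.1.ge (Submodule.mem_top : m ∈ ⊤))
  rw [cls_smul, ← residue_ne_zero hg] at hm
  rw [pm_smul, cls_smul, ← residue_ne_zero (isGen_pm hg), residue_stalkMap]
  exact (map_ne_zero _).2 hm

end Closed

variable {L N : X.Modules}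

/-- A local section realizing the chosen section at `ζ` and at the generization `ξ`. -/
def Coherent (s s' : (ξ : X) → Cyc.secFibre L ξ) (ξ ζ : X) : Prop :=
  ∃ (h : ξ ⤳ ζ) (m : L.presheaf.stalk ζ), cls L ζ m ≠ 0 ∧ s ζ = cls L ζ m ∧
    s' ξ = cls L ξ (L.presheaf.stalkSpecializes h m)

theorem coherent_pull {W : Scheme.{u}} (j : W ⟶ X) [IsClosedImmersion j] (hL : PicF.IsInvertible L)
    {s s' : (ξ : X) → Cyc.secFibre L ξ} {η w : W} (h : η ⤳ w) (hc : Coherent s s' (j η) (j w)) :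
    ∃ m, cls ((Scheme.Modules.pullback j).obj L) w m ≠ 0 ∧ vPull j L s w = cls _ w m ∧
      vPull j L s' η = cls _ η (((Scheme.Modules.pullback j).obj L).presheaf.stalkSpecializes h m) := by
  obtain ⟨h', m, hm, e1, e2⟩ := hc
  exact ⟨pm j L w m, cls_pm_ne_zero j hL hm, vPull_cls j hL e1, by
    rw [← pm_stalkSpecializes]
    exact vPull_cls j hL e2⟩

variable (hL : PicF.IsInvertible L) (hN : PicF.IsInvertible N)
include hL hN

/-- The commutator on the closure of one point. -/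
theorem zeroOn_point (hd : Cyc.IsDimFun X δ) {sL sL' : (ξ : X) → Cyc.secFibre L ξ}
    {sN sN' : (ξ : X) → Cyc.secFibre N ξ} (hsL : ∀ ξ, sL ξ ≠ 0) (hsL' : ∀ ξ, sL' ξ ≠ 0) (hsN : ∀ ξ, sN ξ ≠ 0)
    (hsN' : ∀ ξ, sN' ξ ≠ 0) (ξ : X) {T : Set X}
    (hT : ∀ ζ, ξ ⤳ ζ → δ ζ + 1 = δ ξ → ζ ∉ T → Coherent sN' sN ξ ζ ∨ Coherent sL sL' ξ ζ) :
    RatOn.ZeroOn δ (δ ξ - 2) (closure {ξ} ∩ T) fun x =>
      Cyc.c1CapFun δ L (Cyc.secDivFun δ N ξ (sN ξ)) sL x - Cyc.c1CapFun δ N (Cyc.secDivFun δ L ξ (sL' ξ)) sN' x := by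
  obtain ⟨W, hW, j, hj, hjξ, hr⟩ := CycLib.exists_closure_point ξ
  subst hjξ
  haveI : IsLocallyNoetherian W := LocallyOfFiniteType.isLocallyNoetherian j
  have hL' := PicClLib.isInvertible_pullback j hL
  have hN' := PicClLib.isInvertible_pullback j hN
  have hdW := CycLib.isDimFun_closedImmersion j hd
  have h := C1Comm.zeroOn_comm hN' hL' (s := vPull j N sN (genericPoint W)) (t := vPull j L sL' (genericPoint W))
    (u := vPull j L sL) (v := vPull j N sN') hdW rfl (vPull_ne_zero hN hsN _) (vPull_ne_zero hL hsL' _)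
    (vPull_ne_zero hL hsL) (vPull_ne_zero hN hsN') (T := j ⁻¹' T) fun w hw hne => by
      by_contra hwT
      have hsp := (genericPoint_spec W).specializes (Set.mem_univ w)
      refine hne ?_
      rcases hT (j w) (hsp.map j.continuous) hw hwT with hc | hc
      · obtain ⟨m, hm, e1, e2⟩ := coherent_pull j hN hsp hc
        exact C1Comm.wit_eq_one_left hN' hL' hdW (vPull_ne_zero hL hsL' _) hw hm e1 e2
      · obtain ⟨m, hm, e1, e2⟩ := coherent_pull j hL hsp hc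
        exact C1Comm.wit_eq_one_right hN' hL' hdW (vPull_ne_zero hN hsN _) hw hm e1 e2
  refine RatOn.mono (RatOn.push j (G' := fun x =>
      Cyc.c1CapFun δ L (Cyc.secDivFun δ N (j (genericPoint W)) (sN (j (genericPoint W)))) sL x -
      Cyc.c1CapFun δ N (Cyc.secDivFun δ L (j (genericPoint W)) (sL' (j (genericPoint W)))) sN' x) h
    (fun w => ?_) fun x hx => ?_) ?_
  · show _ - _ = _ - _
    rw [cap_secDiv_closedImmersion j hL hN hd hsL hsN, cap_secDiv_closedImmersion j hN hL hd hsN' hsL']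
  · have h0 : ∀ (M M' : X.Modules) (a : Cyc.secFibre M (j (genericPoint W))) (b : (ζ : X) → Cyc.secFibre M' ζ),
        Cyc.c1CapFun δ M' (Cyc.secDivFun δ M (j (genericPoint W)) a) b x = 0 := fun M M' a b => by
      classical
      refine finsum_eq_zero_of_forall_eq_zero fun ζ => ?_
      by_cases h1 : j (genericPoint W) ⤳ ζ
      · have h2 : ¬ ζ ⤳ x := fun h2 => hx ((h1.trans h2).mem_closed j.isClosedEmbedding.isClosed_range ⟨_, rfl⟩)
        simp [Cyc.secDivFun, h2]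
      · simp [Cyc.secDivFun, h1]
    show _ - _ = (0 : ℤ)
    rw [h0, h0, sub_zero]
  · rintro _ ⟨w, hw, rfl⟩
    exact ⟨hr ▸ Set.mem_range_self w, hw⟩

/-- Commutativity with supports. -/
theorem zeroOn_comm (hd : Cyc.IsDimFun X δ) {k : ℤ} {α : X → ℤ} (hα : ∀ ξ, δ ξ ≠ k + 2 → α ξ = 0)
    (hfin : ∀ z : X, ∃ U ∈ nhds z, (U ∩ Function.support α).Finite)
    {sL sL' : (ξ : X) → Cyc.secFibre L ξ} {sN sN' : (ξ : X) → Cyc.secFibre N ξ}
    (hsL : ∀ ξ, sL ξ ≠ 0) (hsL' : ∀ ξ, sL' ξ ≠ 0) (hsN : ∀ ξ, sN ξ ≠ 0) (hsN' : ∀ ξ, sN' ξ ≠ 0) {T : Set X}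
    (hT : ∀ ξ ζ, α ξ ≠ 0 → ξ ⤳ ζ → δ ζ + 1 = δ ξ → ζ ∉ T → Coherent sN' sN ξ ζ ∨ Coherent sL sL' ξ ζ) :
    RatOn.ZeroOn δ k T fun x =>
      Cyc.c1CapFun δ L (Cyc.c1CapFun δ N α sN) sL x - Cyc.c1CapFun δ N (Cyc.c1CapFun δ L α sL') sN' x := by
  classical
  let G : X → X → ℤ := fun ξ x =>
    Cyc.c1CapFun δ L (Cyc.secDivFun δ N ξ (sN ξ)) sL x - Cyc.c1CapFun δ N (Cyc.secDivFun δ L ξ (sL' ξ)) sN' x
  have hsum := RatOn.sum hd (I := {ξ : X // α ξ ≠ 0}) (k := k) (fun i => α i.1) (fun i => G i.1)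
    (fun i => closure {i.1} ∩ T) (fun _ => Set.inter_subset_right) (fun i => by
      have hk : δ i.1 - 2 = k := by
        have := not_imp_comm.1 (hα i.1) i.2
        omega
      exact hk ▸ zeroOn_point hL hN hd hsL hsL' hsN hsN' i.1 (fun ζ h1 h2 h3 => hT i.1 ζ i.2 h1 h2 h3))
    fun x => by
      obtain ⟨U, hU, hf⟩ := hfin x
      obtain ⟨V, hVU, hVo, hxV⟩ := mem_nhds_iff.1 hU
      refine ⟨V, hVo, hxV, (hf.preimage Subtype.val_injective.injOn).subset ?_⟩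
      rintro i ⟨⟨z, ⟨hz, -⟩, hzV⟩, -⟩
      exact ⟨hVU ((specializes_iff_mem_closure.2 hz).mem_open hVo hzV), i.2⟩
  refine RatOn.congr hsum fun x => ?_
  rw [cap_cap_eq α hfin hN hd hsN sL x, cap_cap_eq α hfin hL hd hsL' sN' x]
  have hs : ∀ (M M' : X.Modules) (a : (ξ : X) → Cyc.secFibre M ξ) (b : (ξ : X) → Cyc.secFibre M' ξ),
      (Function.support fun ξ => α ξ * Cyc.c1CapFun δ M' (Cyc.secDivFun δ M ξ (a ξ)) b x).Finite := fun M M' a b =>
    (finite_specializing hfin x).subset fun ξ hξ => by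
      refine ⟨left_ne_zero_of_mul hξ, ?_⟩
      by_contra hn
      refine right_ne_zero_of_mul hξ (finsum_eq_zero_of_forall_eq_zero fun ζ => ?_)
      by_cases h1 : ξ ⤳ ζ
      · have h2 : ¬ ζ ⤳ x := fun h2 => hn (h1.trans h2)
        simp [Cyc.secDivFun, h2]
      · simp [Cyc.secDivFun, h1]
  rw [← finsum_sub_distrib (hs N L sN sL) (hs L N sL' sN'),
    finsum_subtype_eq_finsum_cond (f := fun ξ => α ξ * G ξ x) (fun ξ => α ξ ≠ 0)]
  refine finsum_congr fun ξ => ?_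
  rw [finsum_eq_if]
  split_ifs with h
  · exact (mul_sub _ _ _).symm
  · rw [not_not] at h
    rw [h]
    ring

omit hN in
/-- Gysin sections are realized by the global section off the zero locus. -/
theorem coherent_gysinChoice {D : Scheme.{u}} {i : D ⟶ X} [IsClosedImmersion i]
    {s : L.presheaf.obj (Opposite.op ⊤)} (hD : Cyc.IsZeroSchemeOf i L s) (w w' : (ξ : X) → Cyc.secFibre L ξ)
    {ξ ζ : X} (h : ξ ⤳ ζ) (hζ : ζ ∉ Set.range i) :
    Coherent (Cyc.gysinChoice L s w) (Cyc.gysinChoice L s w') ξ ζ := by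
  have hξ : ξ ∉ Set.range i := fun hr => hζ (h.mem_closed i.isClosedEmbedding.isClosed_range hr)
  refine ⟨h, L.presheaf.germ ⊤ ζ trivial s, fun h0 => hζ (hD.1.ge h0), if_pos fun h0 => hζ (hD.1.ge h0), ?_⟩
  rw [TopCat.Presheaf.germ_stalkSpecializes_apply]
  exact if_pos fun h0 => hξ (hD.1.ge h0)

end Groth.Agent.H23.C1Glue
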