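import Groth.Agent.H23.GysinFun
import Groth.Agent.H23.C1Glue
import Groth.Agent.CycLib.EulerDim1
import Groth.Agent.QCoh.Support

/-! The cap with the divisor of a section, computed by the length of a module modulo the equation. -/

set_option autoImplicit false
set_option linter.style.haveILetI false

universe u

open AlgebraicGeometry CategoryTheory IsLocalRing
open scoped Pointwise

namespace Groth.Agent.H23.CapLocal

open Groth.Agent CDiv6 StalkPrimes RatSec

variable {X : Scheme.{u}}

theorem map_injective_smul {R : Type u} [CommRing R] {M : Type u} [AddCommGroup M] [Module R M] (S : Submonoid R)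
    {f : R} (hf : Function.Injective (fun m : M => f • m)) :
    Function.Injective (fun m : LocalizedModule S M => f • m) := by
  intro a b h
  induction a using LocalizedModule.induction_on with
  | h m s =>
    induction b using LocalizedModule.induction_on with
    | h n t =>
      simp only [LocalizedModule.smul'_mk] at h
      obtain ⟨c, hc⟩ := LocalizedModule.mk_eq.1 h
      refine LocalizedModule.mk_eq.2 ⟨c, hf ?_⟩
      simp only [Submonoid.smul_def] at hc ⊢
      rw [smul_comm f, smul_comm f, smul_comm f, smul_comm f]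
      exact hc

theorem subsingleton_of_inj_mem {A : Type u} [CommRing A] [IsNoetherianRing A] (p : PrimeSpectrum A)
    {M : Type u} [AddCommGroup M] [Module A M] [Module.Finite A M] {f : A} (hf : f ∈ p.asIdeal)
    (hinj : Function.Injective (fun m : M => f • m))
    (hlen : Module.length (Localization.AtPrime p.asIdeal) (LocalizedModule p.asIdeal.primeCompl M) ≠ ⊤) :
    Subsingleton (LocalizedModule p.asIdeal.primeCompl M) := by
  let R := Localization.AtPrime p.asIdeal
  let N := LocalizedModule p.asIdeal.primeCompl M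
  haveI : Module.Finite R N := inferInstance
  haveI : IsArtinian R N := (isFiniteLength_iff_isNoetherian_isArtinian.1 (Module.length_ne_top_iff.1 hlen)).2
  let r : R := algebraMap A R f
  have hr : ∀ m : N, r • m = f • m := fun m => algebraMap_smul R f m
  have hi : Function.Injective (LinearMap.lsmul R N r) := fun a b h => map_injective_smul _ hinj (by
    simp only [LinearMap.lsmul_apply, hr] at h
    exact h)
  have hs := IsArtinian.surjective_of_injective_endomorphism (LinearMap.lsmul R N r) hi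
  have hmax : r ∈ maximalIdeal R := (IsLocalization.AtPrime.to_map_mem_maximal_iff R p.asIdeal f).2 hf
  have htop : (⊤ : Submodule R N) ≤ maximalIdeal R • ⊤ := fun m _ => by
    obtain ⟨n, rfl⟩ := hs m
    exact Submodule.smul_mem_smul hmax Submodule.mem_top
  have := Submodule.eq_bot_of_le_smul_of_le_jacobson_bot (maximalIdeal R) ⊤ Module.Finite.fg_top htop
    (maximalIdeal_le_jacobson _)
  exact ⟨fun a b => by
    have ha : a ∈ (⊤ : Submodule R N) := Submodule.mem_top
    have hb : b ∈ (⊤ : Submodule R N) := Submodule.mem_top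
    rw [this, Submodule.mem_bot] at ha hb
    rw [ha, hb]⟩

theorem primeOf_eq_max {x ξ : X} (h : ξ ⤳ x) (e : ξ = x) : (primeOf h).asIdeal = maximalIdeal (X.presheaf.stalk x) := by
  subst e
  exact ZeroSec.primeOf_refl' _

variable [IsLocallyNoetherian X] {δ : X → ℤ} {L : X.Modules}

/-- The length modulo an equation is the cap at a point with a rational section having that equation. -/
theorem c1CapFun_sec_eq (hd : Cyc.IsDimFun X δ) (hL : PicF.IsInvertible L) 
    (v : (ξ : X) → Cyc.secFibre L ξ) {k : ℤ} {α : X → ℤ} (hα : ∀ ξ, δ ξ ≠ k + 1 → α ξ = 0) {x : X} (hx : δ x = k)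
    {t : L.presheaf.stalk x} (ht : Submodule.span (X.presheaf.stalk x) {t} = ⊤) {f : X.presheaf.stalk x}
    (hv : ∀ (ξ : X) (h : ξ ⤳ x), δ ξ = k + 1 → X.residue ξ ((X.presheaf.stalkSpecializes h).hom f) ≠ 0 →
      v ξ = (X.presheaf.stalkSpecializes h).hom f • cls L ξ (L.presheaf.stalkSpecializes h t))
    {M : Type u} [AddCommGroup M] [Module (X.presheaf.stalk x) M]
    [Module.Finite (X.presheaf.stalk x) M] (hinj : Function.Injective (fun m : M => f • m))
    (hsupp : ∀ (ξ : X) (h : ξ ⤳ x), primeOf h ∈ Module.support (X.presheaf.stalk x) M → δ ξ ≤ k + 1)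
    (hlen : ∀ (ξ : X) (h : ξ ⤳ x), δ ξ = k + 1 → α ξ =
      ((Module.length (Localization.AtPrime (primeOf h).asIdeal)
        (LocalizedModule (primeOf h).asIdeal.primeCompl M)).toNat : ℤ)) :
    Cyc.c1CapFun δ L α v x =
      ((Module.length (X.presheaf.stalk x) (M ⧸ f • (⊤ : Submodule (X.presheaf.stalk x) M))).toNat : ℤ) := by
  classical
  let A := X.presheaf.stalk x
  let cl : PrimeSpectrum A := closedPoint A
  have hclx : ∀ {ξ : X} (h : ξ ⤳ x), primeOf h = cl → ξ = x := fun {ξ} h e =>
    primeOf_inj h (specializes_refl x) ((congrArg PrimeSpectrum.asIdeal e).trans (ZeroSec.primeOf_refl' x).symm)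
  have hne : ∀ {ξ : X} (h : ξ ⤳ x), δ ξ = k + 1 → (primeOf h).asIdeal ≠ maximalIdeal A := fun {ξ} h hk e => by
    have := hclx h (PrimeSpectrum.ext e)
    subst this
    omega
  have hk1 : ∀ {ξ : X} (h : ξ ⤳ x), primeOf h ∈ Module.support A M → ξ ≠ x → δ ξ = k + 1 := fun {ξ} h hm hξ => by
    have h1 := CycLib.delta_lt hd h hξ
    have h2 := hsupp ξ h hm
    omega
  have hmin : ∀ {ξ : X} (h : ξ ⤳ x), δ ξ = k + 1 → ∀ q ∈ Module.support A M, q ≤ primeOf h → q = primeOf h :=
    fun {ξ} h hk q hq hle => by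
      obtain ⟨w, hw, e⟩ := exists_point q.asIdeal
      have e' : primeOf hw = q := PrimeSpectrum.ext e
      have hwξ := (primeOf_le_iff h hw).1 (e ▸ hle)
      have h2 := hsupp w hw (e' ▸ hq)
      obtain rfl : w = ξ := CycLib.eq_of_delta_le hd hwξ (hk ▸ h2)
      exact e'.symm
  have hdim : Module.supportDim A M ≤ 1 := by
    refine (Order.krullDim_le_one_iff (α := Module.support A M)).2 fun p => ?_
    obtain ⟨w, hw, e⟩ := exists_point p.1.asIdeal
    have e' : primeOf hw = p.1 := PrimeSpectrum.ext e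
    by_cases hwx : w = x
    · subst hwx
      refine Or.inr fun q _ => ?_
      show q.1 ≤ p.1
      rw [← e']
      refine (le_maximalIdeal q.1.2.ne_top).trans ?_
      rw [ZeroSec.primeOf_refl']
    · refine Or.inl fun q hq => ?_
      show p.1 ≤ q.1
      exact ((hmin hw (hk1 hw (e' ▸ p.2) hwx) q.1 q.2 (e' ▸ hq)).trans e').ge
  have hfp : ∀ {ξ : X} (h : ξ ⤳ x), δ ξ = k + 1 → primeOf h ∈ Module.support A M → f ∉ (primeOf h).asIdeal :=
    fun {ξ} h hk hm hmem => by
      haveI := subsingleton_of_inj_mem (primeOf h) hmem hinj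
        (CycLib.length_localized_ne_top_of_minimal (primeOf h) (hmin h hk))
      haveI := Module.mem_support_iff.1 hm
      exact not_subsingleton (LocalizedModule (primeOf h).asIdeal.primeCompl M) ‹_›
  have h0 : Module.supportDim A (M ⧸ f • (⊤ : Submodule A M)) ≤ 0 := by
    have hsub : ∀ q ∈ Module.support A (M ⧸ f • (⊤ : Submodule A M)), q = cl := fun q hq => by
      rw [Module.support_quotSMulTop] at hq
      obtain ⟨hqM, hqf⟩ := hq
      obtain ⟨w, hw, e⟩ := exists_point q.asIdeal
      have e' : primeOf hw = q := PrimeSpectrum.ext e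
      by_cases hwx : w = x
      · subst hwx
        rw [← e']
        exact PrimeSpectrum.ext (ZeroSec.primeOf_refl' _)
      · exact absurd (show f ∈ (primeOf hw).asIdeal by rw [e]; simpa [PrimeSpectrum.mem_zeroLocus] using hqf)
          (hfp hw (hk1 hw (e' ▸ hqM) hwx) (e' ▸ hqM))
    haveI : Subsingleton (Module.support A (M ⧸ f • (⊤ : Submodule A M))) :=
      ⟨fun a b => Subtype.ext ((hsub a.1 a.2).trans (hsub b.1 b.2).symm)⟩
    exact Order.krullDim_nonpos_of_subsingleton
  have key := CycLib.length_quot_smul (M := M) f hdim h0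
  have hker : LinearMap.ker (LinearMap.lsmul A M f) = ⊥ := LinearMap.ker_eq_bot.2 hinj
  rw [hker, Module.length_eq_zero (R := A) (M := (⊥ : Submodule A M)), zero_add] at key
  let S : Finset (PrimeSpectrum A) := (CycLib.finite_support_ne_max hdim).toFinset
  have hp' : ∀ p : PrimeSpectrum A, ∃ (y : X) (h : y ⤳ x), (primeOf h).asIdeal = p.asIdeal := fun p =>
    exists_point p.asIdeal
  obtain ⟨Q, hQ, hQe⟩ : ∃ (Q : PrimeSpectrum A → X) (hQ : ∀ p, Q p ⤳ x), ∀ p, (primeOf (hQ p)).asIdeal = p.asIdeal :=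
    ⟨fun p => (hp' p).choose, fun p => (hp' p).choose_spec.choose, fun p => (hp' p).choose_spec.choose_spec⟩
  have hS : ∀ p, p ∈ S ↔ p ∈ Module.support A M ∧ p.asIdeal ≠ maximalIdeal A := fun p =>
    (CycLib.finite_support_ne_max hdim).mem_toFinset
  rw [finsum_cond_eq_sum_of_cond_iff (t := S) _ (fun {p} _ => (hS p).symm)] at key
  have hSx : ∀ p ∈ S, δ (Q p) = k + 1 ∧ primeOf (hQ p) ∈ Module.support A M := fun p hp => by
    have e : primeOf (hQ p) = p := PrimeSpectrum.ext (hQe p)
    refine ⟨hk1 (hQ p) (e.symm ▸ ((hS p).1 hp).1) fun h => ((hS p).1 hp).2 ?_, e.symm ▸ ((hS p).1 hp).1⟩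
    rw [← hQe p]
    exact primeOf_eq_max (hQ p) h
  have hQinj : Set.InjOn Q S := fun p _ q _ h => PrimeSpectrum.ext (by
    rw [← hQe p, ← hQe q]
    congr 2 )
  rw [Cyc.c1CapFun, finsum_eq_sum_of_support_subset (s := S.image Q) _ ?_, Finset.sum_image hQinj, key,
    ENat.toNat_sum, Nat.cast_sum]
  · refine Finset.sum_congr rfl fun p hp => ?_
    obtain ⟨hk, hm⟩ := hSx p hp
    have hξ := hQ p
    have hfne := hfp hξ hk hm
    obtain ⟨hgt, hgt'⟩ := isGen_of_span hL ht
    have hres : X.residue (Q p) ((X.presheaf.stalkSpecializes hξ).hom f) ≠ 0 :=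
      (DivPull.specMap_ne_zero_iff hξ f).2 hfne
    have hgc := hv (Q p) hξ hk hres
    rw [hlen (Q p) hξ hk, secDivFun_eq hL hd hξ ht hgc hres, CycLib.divFun_eq δ _ hξ (by omega), ENat.toNat_mul,
      Nat.cast_mul, mul_comm]
    congr 1
    · have hmk : Ideal.Quotient.mk _ f ≠ (0 : Cyc.LocQuot x (Q p) hξ) := fun h0 =>
        hfne ((CycLib.ker_specMap hξ) ▸ Ideal.Quotient.eq_zero_iff_mem.1 h0)
      refine (CycLib.ordAt_algebraMap hd hξ (by omega) hmk).trans ?_
      rw [← CycLib.ord_ringEquiv (Ideal.quotEquivOfEq ((CycLib.ker_specMap hξ).trans (hQe p)))]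
      rfl
    · exact congrArg (fun q : PrimeSpectrum A => ((Module.length (Localization.AtPrime q.asIdeal)
        (LocalizedModule q.asIdeal.primeCompl M)).toNat : ℤ)) (PrimeSpectrum.ext (hQe p))
  · intro p hp
    obtain ⟨hk, hm⟩ := hSx p hp
    have e : primeOf (hQ p) = p := PrimeSpectrum.ext (hQe p)
    refine WithTop.mul_ne_top ?_ (e ▸ CycLib.length_localized_ne_top_of_minimal (primeOf (hQ p)) (hmin (hQ p) hk))
    haveI : Ring.KrullDimLE 1 (A ⧸ p.asIdeal) := by
      rw [Ring.KrullDimLE, Order.krullDimLE_iff]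
      have := CycLib.ringKrullDim_locQuot_eq_one hd (hQ p) (show δ x + 1 = δ (Q p) by omega)
      rw [show ringKrullDim (Cyc.LocQuot x (Q p) (hQ p)) = ringKrullDim (A ⧸ p.asIdeal) from
        ringKrullDim_eq_of_ringEquiv (Ideal.quotEquivOfEq ((CycLib.ker_specMap (hQ p)).trans (hQe p)))] at this
      exact this.le
    exact Ring.ord_ne_top (mem_nonZeroDivisors_of_ne_zero fun h0 =>
      hfp (hQ p) hk hm (hQe p ▸ Ideal.Quotient.eq_zero_iff_mem.1 h0))
  · intro ξ hξ0
    rw [Finset.coe_image, Set.mem_image]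
    have hsp : ξ ⤳ x := by
      by_contra hn
      exact hξ0 (by simp [Cyc.secDivFun, hn])
    have hk : δ ξ = k + 1 := by_contra fun h => left_ne_zero_of_mul hξ0 (hα ξ h)
    have hl := left_ne_zero_of_mul hξ0
    rw [hlen ξ hsp hk] at hl
    have hm : primeOf hsp ∈ Module.support A M := Module.mem_support_iff.2 (by
      by_contra hn
      rw [not_nontrivial_iff_subsingleton] at hn
      exact hl (by rw [Module.length_eq_zero]; rfl))
    exact ⟨primeOf hsp, (hS _).2 ⟨hm, hne hsp hk⟩, primeOf_inj (hQ _) hsp (hQe _)⟩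

/-- The length modulo the equation of a section is the cap at a point. -/
theorem c1CapFun_gysin_eq (hd : Cyc.IsDimFun X δ) (hL : PicF.IsInvertible L) {s : L.presheaf.obj (Opposite.op ⊤)}
    (w : (ξ : X) → Cyc.secFibre L ξ) {k : ℤ} {α : X → ℤ} (hα : ∀ ξ, δ ξ ≠ k + 1 → α ξ = 0) {x : X} (hx : δ x = k)
    {t : L.presheaf.stalk x} (ht : Submodule.span (X.presheaf.stalk x) {t} = ⊤) {f : X.presheaf.stalk x}
    (hs : L.presheaf.germ ⊤ x trivial s = f • t) {M : Type u} [AddCommGroup M] [Module (X.presheaf.stalk x) M]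
    [Module.Finite (X.presheaf.stalk x) M] (hinj : Function.Injective (fun m : M => f • m))
    (hsupp : ∀ (ξ : X) (h : ξ ⤳ x), primeOf h ∈ Module.support (X.presheaf.stalk x) M → δ ξ ≤ k + 1)
    (hlen : ∀ (ξ : X) (h : ξ ⤳ x), δ ξ = k + 1 → α ξ =
      ((Module.length (Localization.AtPrime (primeOf h).asIdeal)
        (LocalizedModule (primeOf h).asIdeal.primeCompl M)).toNat : ℤ)) :
    Cyc.c1CapFun δ L α (Cyc.gysinChoice L s w) x =
      ((Module.length (X.presheaf.stalk x) (M ⧸ f • (⊤ : Submodule (X.presheaf.stalk x) M))).toNat : ℤ) := by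
  refine c1CapFun_sec_eq hd hL _ hα hx ht (fun ξ h _ hres => ?_) hinj hsupp hlen
  obtain ⟨hgt, hgt'⟩ := isGen_of_span hL ht
  have e1 : L.presheaf.germ ⊤ ξ trivial s =
      (X.presheaf.stalkSpecializes h).hom f • L.presheaf.stalkSpecializes h t := by
    rw [← ZeroSec.stalkSpecializes_smul, ← hs, TopCat.Presheaf.germ_stalkSpecializes_apply]
  have e2 : cls L ξ (L.presheaf.germ ⊤ ξ trivial s) ≠ 0 := by
    rw [e1, cls_smul, ← residue_ne_zero (hgt' _ h)]; exact hres
  refine (if_pos e2).trans ?_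
  rw [← cls_smul, ← e1]
  rfl

end Groth.Agent.H23.CapLocal
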