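import Groth.Agent.H23.CapLocal
import Groth.Agent.H23.FlatShift
import Groth.Agent.QCoh.Stalk

/-! The cap of the cycle of a sheaf with the divisor of a section. -/

set_option autoImplicit false
set_option linter.style.haveILetI false

universe u

open AlgebraicGeometry CategoryTheory IsLocalRing
open scoped Pointwise TensorProduct

namespace Groth.Agent.H23.CapSheaf

open Groth.Agent CDiv6 StalkPrimes RatSec

variable {X : Scheme.{u}}

/-- A generalisation map of stalks of a quasi-coherent module is a localisation. -/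
theorem length_stalk_eq {F : X.Modules} (hF : Coh.IsQCoh F) {x ξ : X} (h : ξ ⤳ x) :
    Module.length (Localization.AtPrime (primeOf h).asIdeal)
        (LocalizedModule (primeOf h).asIdeal.primeCompl (F.presheaf.stalk x)) =
      Module.length (X.presheaf.stalk ξ) (F.presheaf.stalk ξ) := by
  obtain ⟨_, ⟨U, hU, rfl⟩, hx, -⟩ :=
    X.isBasis_affineOpens.exists_subset_of_mem_open (Set.mem_univ x) isOpen_univ
  have hU' : IsAffineOpen U := hU
  have hξ : ξ ∈ U := h.mem_open U.2 hx
  have hgs : ∀ a : Γ(X, U), (X.presheaf.stalkSpecializes h).hom (X.presheaf.germ U x hx a) =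
      X.presheaf.germ U ξ hξ a := fun a => TopCat.Presheaf.germ_stalkSpecializes_apply _ _ _ _
  let σ := (X.presheaf.stalkSpecializes h).hom
  letI : Algebra (X.presheaf.stalk x) (X.presheaf.stalk ξ) := σ.toAlgebra
  letI : Module (X.presheaf.stalk x) (F.presheaf.stalk ξ) := Module.compHom _ σ
  let S := (primeOf h).asIdeal.primeCompl
  let g : F.presheaf.stalk x →ₗ[X.presheaf.stalk x] F.presheaf.stalk ξ :=
    { toFun := F.presheaf.stalkSpecializes h
      map_add' := map_add _
      map_smul' := fun r m => ZeroSec.stalkSpecializes_smul F h r m }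
  have hmem : ∀ r : X.presheaf.stalk x, r ∈ S ↔ IsUnit (σ r) := fun r => by
    show r ∉ (primeOf h).asIdeal ↔ _
    rw [mem_primeOf, not_not]
  have hmemU : ∀ a : Γ(X, U), a ∈ (hU'.primeIdealOf ⟨ξ, hξ⟩).asIdeal.primeCompl →
      X.presheaf.germ U x hx a ∈ S := fun a ha => by
    refine (hmem _).2 ?_
    rw [show σ (X.presheaf.germ U x hx a) = _ from hgs a]
    exact (X.mem_basicOpen _ ξ hξ).1 ((QCoh.mem_basicOpen_iff_notMem hU' hξ _).2 ha)
  haveI : IsLocalizedModule S g := by
    refine ⟨fun s => ?_, fun y => ?_, fun {a b} hab => ?_⟩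
    · rw [Module.End.isUnit_iff]
      have hu := (hmem _).1 s.2
      refine ⟨fun a b hab => hu.smul_left_cancel.1 hab, fun b => ⟨hu.unit⁻¹.val • b, ?_⟩⟩
      show σ s.1 • hu.unit⁻¹.val • b = b
      rw [← mul_smul, IsUnit.mul_val_inv, one_smul]
    · letI := QCoh.stalkModule F hξ
      haveI := QCoh.isLocalizedModule_germLin hF hU' hξ
      obtain ⟨⟨m, a⟩, ha⟩ := IsLocalizedModule.surj (hU'.primeIdealOf ⟨ξ, hξ⟩).asIdeal.primeCompl
        (QCoh.germLin F hξ) y
      refine ⟨(F.presheaf.germ U x hx m, ⟨X.presheaf.germ U x hx a, hmemU a a.2⟩), ?_⟩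
      show σ (X.presheaf.germ U x hx a) • y = F.presheaf.stalkSpecializes h (F.presheaf.germ U x hx m)
      rw [TopCat.Presheaf.germ_stalkSpecializes_apply]
      erw [TopCat.Presheaf.germ_stalkSpecializes_apply]
      exact ha
    · letI := QCoh.stalkModule F hx
      haveI := QCoh.isLocalizedModule_germLin hF hU' hx
      obtain ⟨⟨m, s⟩, hs⟩ := IsLocalizedModule.surj (hU'.primeIdealOf ⟨x, hx⟩).asIdeal.primeCompl
        (QCoh.germLin F hx) (a - b)
      have hs' : X.presheaf.germ U x hx s • (a - b) = F.presheaf.germ U x hx m := hs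
      have h0 : F.presheaf.germ U ξ hξ m = 0 := by
        rw [← TopCat.Presheaf.germ_stalkSpecializes_apply (F := F.presheaf) hx h, ← hs',
          ZeroSec.stalkSpecializes_smul]
        show _ • g (a - b) = 0
        rw [map_sub, hab, sub_self, smul_zero]
      obtain ⟨c, hc, hcm⟩ := (QCoh.germ_eq_zero_iff hF hU' hξ m).1 h0
      refine ⟨⟨X.presheaf.germ U x hx c * X.presheaf.germ U x hx s, S.mul_mem
        (hmemU c ((QCoh.mem_basicOpen_iff_notMem hU' hξ c).1 hc)) ((hmem _).2 (IsUnit.map σ ?_))⟩, ?_⟩
      · exact (X.mem_basicOpen _ x hx).1 ((QCoh.mem_basicOpen_iff_notMem hU' hx _).2 s.2)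
      · refine sub_eq_zero.1 ?_
        rw [Submonoid.smul_def, Submonoid.smul_def, ← smul_sub, mul_smul, hs', ← QCoh.germ_smul', hcm, map_zero]
  haveI := isLocalization_primeOf h
  let e := IsLocalization.algEquiv S (Localization.AtPrime (primeOf h).asIdeal) (X.presheaf.stalk ξ)
  let Lc := Localization.AtPrime (primeOf h).asIdeal
  letI : Module Lc (F.presheaf.stalk ξ) := Module.compHom _ e.toRingHom
  letI : Algebra Lc (X.presheaf.stalk ξ) := e.toRingHom.toAlgebra
  haveI : IsScalarTower Lc (X.presheaf.stalk ξ) (F.presheaf.stalk ξ) :=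
    IsScalarTower.of_algebraMap_smul fun _ _ => rfl
  haveI : IsScalarTower (X.presheaf.stalk x) Lc (F.presheaf.stalk ξ) :=
    IsScalarTower.of_algebraMap_smul fun r m => by
      show e (algebraMap _ Lc r) • m = σ r • m
      rw [AlgEquiv.commutes]
      rfl
  rw [((IsLocalizedModule.iso S g).extendScalarsOfIsLocalization S Lc).length_eq]
  exact Module.length_eq_of_surjective (S := Lc) (R := X.presheaf.stalk ξ) (M := F.presheaf.stalk ξ)
    e.surjective

/-- The stalk of the restriction to a closed subscheme cut out by one equation at a point. -/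
theorem length_stalk_pullback_closed {D : Scheme.{u}} (i : D ⟶ X) [IsPreimmersion i] (F : X.Modules) (d : D)
    {f : X.presheaf.stalk (i d)} (hker : RingHom.ker (i.stalkMap d).hom = Ideal.span {f}) :
    Module.length (D.presheaf.stalk d) (((Scheme.Modules.pullback i).obj F).presheaf.stalk d) =
      Module.length (X.presheaf.stalk (i d)) (F.presheaf.stalk (i d) ⧸
        f • (⊤ : Submodule (X.presheaf.stalk (i d)) (F.presheaf.stalk (i d)))) := by
  refine (((KFlatLib.stalkPullbackIso i d).app F).toLinearEquiv).length_eq.trans ?_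
  algebraize [(i.stalkMap d).hom]
  let R := X.presheaf.stalk (i d)
  let S := D.presheaf.stalk d
  let M := F.presheaf.stalk (i d)
  have hs : Function.Surjective (algebraMap R S) := i.stalkMap_surjective d
  show Module.length S (S ⊗[R] M) = _
  rw [← Module.length_eq_of_surjective (S := R) (R := S) (M := S ⊗[R] M) hs]
  refine ((TensorProduct.congr ((Ideal.quotientKerAlgEquivOfSurjective (f := Algebra.ofId R S) hs).symm.toLinearEquiv)
    (LinearEquiv.refl R M)).trans (TensorProduct.quotTensorEquivQuotSMul M _)).length_eq.trans ?_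
  have : RingHom.ker (Algebra.ofId R S) = Ideal.span {f} := hker
  rw [this, Submodule.ideal_span_singleton_smul]

end Groth.Agent.H23.CapSheaf
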