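import Groth.Agent.H23.P1Sect
import Groth.Agent.H23.CapLocal
import Groth.Agent.H23.CapSheaf
import Groth.Agent.H23.C1Desc
import Groth.Agent.H23.C1Cycle
import Groth.Agent.H23.SetupLFT
import Groth.Agent.H23.ChowDesc
import Groth.Agent.CycLib.DivPushAll
import Groth.Agent.QCoh.Support
import Groth.Agent.FibDim.AffineSpaceFibre

/-! The fibres over zero and infinity of a coherent family on the projective line. -/

set_option autoImplicit false
set_option linter.style.haveILetI false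

universe u

open AlgebraicGeometry CategoryTheory IsLocalRing
open scoped Pointwise

namespace Groth.Agent.H23.P1Fam

open Groth.Agent RatSec C1Desc StalkPrimes CDiv6 P1Sect

theorem nontrivial_quot_smul {A M : Type u} [CommRing A] [IsLocalRing A] [AddCommGroup M] [Module A M]
    [Module.Finite A M] [Nontrivial M] {f : A} (hf : f ∈ maximalIdeal A) :
    Module.length A (M ⧸ f • (⊤ : Submodule A M)) ≠ 0 := by
  intro h
  rw [Module.length_eq_zero_iff, Submodule.Quotient.subsingleton_iff] at h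
  have hbot : (⊤ : Submodule A M) = ⊥ :=
    Submodule.eq_bot_of_le_smul_of_le_jacobson_bot (Ideal.span {f}) ⊤ Module.Finite.fg_top
      (by rw [Submodule.ideal_span_singleton_smul]; exact h.ge) (by
        rw [IsLocalRing.jacobson_eq_maximalIdeal ⊥ bot_ne_top, Ideal.span_singleton_le_iff_mem]
        exact hf)
  exact not_subsingleton M ⟨fun b c => ((Submodule.mem_bot _).1 (hbot ▸ Submodule.mem_top (x := b))).trans
    ((Submodule.mem_bot _).1 (hbot ▸ Submodule.mem_top (x := c))).symm⟩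

theorem sect_ne {X : Scheme.{u}} (i : Fin (1 + 1)) (x : X) : P1.sect X i x ∉ V X (1 - i) := fun h => by
  obtain ⟨hp, hu⟩ := (range_sect X i).le ⟨x, rfl⟩
  exact hu ((mem_other_iff' X i hp).1 h)

variable {X : Scheme.{u}} {δ : X → ℤ} {δP : ↥(CohB1.ProjSpaceOver 1 X) → ℤ}

theorem delta_sect (hP : Cyc.DeltaCompat (CohB1.ProjSpaceOver.toBase 1 X) δP δ) (i : Fin (1 + 1)) (x : X) :
    δP (P1.sect X i x) = δ x := by
  have hid : Cyc.DeltaCompat (𝟙 X) δ δ := by
    have h := ChowDesc.deltaCompat_rd (𝟙 X) δ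
    have e : (fun x => δ (𝟙 X x) + (FibDim.rd (𝟙 X) x : ℤ)) = δ := funext fun x => by
      rw [FibDim.rd_eq_zero_of_quasiFinite (𝟙 X) x]
      simp
    rwa [e] at h
  have h := ChowDesc.deltaCompat_hom (δX := δ) (s := ⟨_, CohB1.ProjSpaceOver.toBase 1 X, inferInstance, δP, hP⟩)
    (t := ⟨X, 𝟙 X, inferInstance, δ, hid⟩) (P1.sect X i) (P1Sect.sect_toBase X i)
  have h1 := CycLib.le_of_deltaCompat _ h x
  have h2 := CycLib.le_of_deltaCompat _ hP (P1.sect X i x)
  have e : CohB1.ProjSpaceOver.toBase 1 X (P1.sect X i x) = x := by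
    rw [← Scheme.Hom.comp_apply, P1Sect.sect_toBase]; rfl
  rw [e] at h2
  have h1' : δP (P1.sect X i x) ≤ δ x := h1
  omega

theorem mapCoeff_sect (hP : Cyc.DeltaCompat (CohB1.ProjSpaceOver.toBase 1 X) δP δ) (i : Fin (1 + 1)) (x : X) :
    AlgebraicCycle.mapCoeff (CohB1.ProjSpaceOver.toBase 1 X) δP δ (P1.sect X i x) = 1 := by
  have e : CohB1.ProjSpaceOver.toBase 1 X (P1.sect X i x) = x := by
    rw [← Scheme.Hom.comp_apply, P1Sect.sect_toBase]; rfl
  rw [AlgebraicCycle.mapCoeff, if_pos (show δP (P1.sect X i x) = δ (CohB1.ProjSpaceOver.toBase 1 X (P1.sect X i x)) by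
    rw [e, delta_sect hP])]
  have h1 := CycLib.residueDegree_comp (P1.sect X i) (CohB1.ProjSpaceOver.toBase 1 X) x
  rw [P1Sect.sect_toBase, CycLib.residueDegree_preimmersion (P1.sect X i),
    CycLib.residueDegree_preimmersion (𝟙 X)] at h1
  simpa using h1.symm

theorem locFin_sheafFun {Z : Scheme.{u}} [IsLocallyNoetherian Z] {d : Z → ℤ} (hd : Cyc.IsDimFun Z d) {m : ℤ}
    {F : Z.Modules} (hF : Coh.IsCoh F) (hdim : ∀ z : Z, Nontrivial (F.presheaf.stalk z) → d z ≤ m) (z : Z) :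
    ∃ U ∈ nhds z, (U ∩ Function.support (Cyc.sheafFun d m F)).Finite := by
  classical
  obtain ⟨U, hU, hzU, -⟩ := exists_isAffineOpen_mem_and_subset (x := z) (U := (⊤ : Z.Opens)) trivial
  haveI : IsNoetherianRing Γ(Z, U) := IsLocallyNoetherian.component_noetherian ⟨U, hU⟩
  haveI : TopologicalSpace.NoetherianSpace ↥U := noetherianSpace_of_isAffineOpen U hU
  have hC : IsClosed (CohB1.support F) := QCoh.isClosed_support_of_isFT hF.1 hF.2
  obtain ⟨S, hSf, hSirr, hS⟩ := TopologicalSpace.NoetherianSpace.exists_finite_set_closeds_irreducible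
    (⟨Subtype.val ⁻¹' CohB1.support F, hC.preimage continuous_subtype_val⟩ : TopologicalSpace.Closeds ↥U)
  have hmem : ∀ t ∈ S, (Subtype.val '' (t : Set ↥U)) ⊆ CohB1.support F := by
    rintro t ht _ ⟨y, hy, rfl⟩
    exact (le_sSup ht).trans hS.ge hy
  have hirr : ∀ t ∈ S, IsIrreducible (closure (Subtype.val '' (t : Set ↥U))) := fun t ht =>
    ((hSirr t ht).image _ continuous_subtype_val.continuousOn).closure
  let g : S → Z := fun t => (hirr t.1 t.2).genericPoint
  haveI := hSf.to_subtype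
  refine ⟨U, U.2.mem_nhds hzU, (Set.finite_range g).subset ?_⟩
  rintro y ⟨hyU, hy⟩
  have hy' : d y = m ∧ Nontrivial (F.presheaf.stalk y) := by
    rw [Function.mem_support, Cyc.sheafFun] at hy
    split_ifs at hy with h
    · refine ⟨h, not_subsingleton_iff_nontrivial.1 fun hs => hy ?_⟩
      rw [Module.length_eq_zero]
      rfl
    · exact absurd rfl hy
  have hmemy : (⟨y, hyU⟩ : ↥U) ∈ (sSup S : TopologicalSpace.Closeds ↥U) := by
    rw [← hS]
    exact not_subsingleton_iff_nontrivial.2 hy'.2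
  lift S to Finset (TopologicalSpace.Closeds ↥U) using hSf
  rw [← Finset.sup_id_eq_sSup, ← SetLike.mem_coe, TopologicalSpace.Closeds.coe_finset_sup, Finset.sup_eq_iSup,
    Set.iSup_eq_iUnion] at hmemy
  simp only [Set.iSup_eq_iUnion, Set.mem_iUnion, Function.comp_apply, id_eq] at hmemy
  obtain ⟨t, ht, hyt⟩ := hmemy
  refine ⟨⟨t, ht⟩, ?_⟩
  have hgen := (hirr t ht).isGenericPoint_genericPoint isClosed_closure
  have hsp : g ⟨t, ht⟩ ⤳ y := hgen.specializes (subset_closure ⟨⟨y, hyU⟩, hyt, rfl⟩)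
  have hgC : g ⟨t, ht⟩ ∈ CohB1.support F := closure_minimal (hmem t ht) hC hgen.mem
  exact CycLib.eq_of_delta_le hd hsp (hy'.1 ▸ hdim _ (not_subsingleton_iff_nontrivial.1 hgC))

/-- The affine coordinate at a point of both charts, 1 elsewhere. -/
noncomputable def coord (i : Fin (1 + 1)) (ξ : CohB1.ProjSpaceOver 1 X) :
    (CohB1.ProjSpaceOver 1 X).presheaf.stalk ξ :=
  haveI := Classical.propDecidable (ξ ∈ V X i ⊓ V X (1 - i))
  if h : ξ ∈ V X i ⊓ V X (1 - i) then (CohB1.ProjSpaceOver 1 X).presheaf.germ _ ξ h.1 (c X i) else 1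

theorem coord_unit (i : Fin (1 + 1)) (ξ : CohB1.ProjSpaceOver 1 X) : IsUnit (coord i ξ) := by
  unfold coord
  split_ifs with h
  · exact (mem_other_iff' X i h.1).1 h.2
  · exact isUnit_one

theorem residue_coord_ne_zero (i : Fin (1 + 1)) (ξ : CohB1.ProjSpaceOver 1 X) :
    (CohB1.ProjSpaceOver 1 X).residue ξ (coord i ξ) ≠ 0 := ((coord_unit i ξ).map _).ne_zero

theorem coord_mul (ξ : CohB1.ProjSpaceOver 1 X) : coord 0 ξ * coord 1 ξ = 1 := by
  unfold coord
  by_cases h : ξ ∈ V X 0 ⊓ V X 1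
  · rw [dif_pos (show ξ ∈ V X 0 ⊓ V X (1 - 0) from h), dif_pos (show ξ ∈ V X 1 ⊓ V X (1 - 1) from ⟨h.2, h.1⟩)]
    exact c_mul X h.1 h.2
  · rw [dif_neg (show ξ ∉ V X 0 ⊓ V X (1 - 0) from h),
      dif_neg (show ξ ∉ V X 1 ⊓ V X (1 - 1) from fun h' => h ⟨h'.2, h'.1⟩), one_mul]

/-- The coordinate as a rational section. -/
noncomputable def csec (i : Fin (1 + 1)) (ξ : CohB1.ProjSpaceOver 1 X) :
    Cyc.secFibre (Coh.structureModule (CohB1.ProjSpaceOver 1 X)) ξ := coord i ξ • oneSec ξ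

theorem csec_ne_zero (i : Fin (1 + 1)) (ξ : CohB1.ProjSpaceOver 1 X) : csec i ξ ≠ 0 :=
  (RatSec.residue_ne_zero (isGen_one ξ)).1 (residue_coord_ne_zero i ξ)

variable [IsLocallyNoetherian (CohB1.ProjSpaceOver 1 X)]

theorem cap_one_eq (hdP : Cyc.IsDimFun _ δP) (α : ↥(CohB1.ProjSpaceOver 1 X) → ℤ) (p : CohB1.ProjSpaceOver 1 X) :
    Cyc.c1CapFun δP (Coh.structureModule _) α (csec 1) p = -Cyc.c1CapFun δP (Coh.structureModule _) α (csec 0) p := by
  rw [Cyc.c1CapFun, Cyc.c1CapFun, ← finsum_neg_distrib]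
  refine finsum_congr fun ξ => ?_
  rw [csec, csec, secDivFun_smul_one hdP (residue_coord_ne_zero 1 ξ), secDivFun_smul_one hdP (residue_coord_ne_zero 0 ξ)]
  have hinv : (CohB1.ProjSpaceOver 1 X).residue ξ (coord 1 ξ) =
      ((CohB1.ProjSpaceOver 1 X).residue ξ (coord 0 ξ))⁻¹ := by
    refine (inv_eq_of_mul_eq_one_right ?_).symm
    rw [← map_mul, coord_mul, map_one]
  rw [hinv, CycLib.divFun_inv hdP (residue_coord_ne_zero 0 ξ), Pi.neg_apply, mul_neg]

variable {k : ℤ} {F : (CohB1.ProjSpaceOver 1 X).Modules}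

theorem not_range_of_support (hF : Coh.IsCoh F) (hP : Cyc.DeltaCompat (CohB1.ProjSpaceOver.toBase 1 X) δP δ)
    {i : Fin (1 + 1)}
    (hi : ∀ x : X, Nontrivial (((Scheme.Modules.pullback (P1.sect X i)).obj F).presheaf.stalk x) → δ x ≤ k)
    {ξ : CohB1.ProjSpaceOver 1 X} (hk : δP ξ = k + 1) (hn : Nontrivial (F.presheaf.stalk ξ)) :
    ξ ∉ Set.range (P1.sect X i) := by
  rintro ⟨x, rfl⟩
  have h1 : δ x ≤ k := hi x (not_subsingleton_iff_nontrivial.1 fun hs => by
    haveI := QCoh.finite_stalk_of_isFT hF.1 hF.2 (P1.sect X i x)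
    have h0 : Module.length (X.presheaf.stalk x)
        (((Scheme.Modules.pullback (P1.sect X i)).obj F).presheaf.stalk x) = 0 := Module.length_eq_zero
    rw [CapSheaf.length_stalk_pullback_closed _ F x (ker_sect X i x)] at h0
    refine nontrivial_quot_smul ?_ h0
    rw [mem_maximalIdeal, mem_nonunits_iff]
    exact fun hu => sect_ne i x ((mem_other_iff' X i (sect_mem X i x)).2 hu))
  rw [delta_sect hP] at hk
  omega

theorem cap_eq (hF : Coh.IsCoh F) (hdP : Cyc.IsDimFun _ δP)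
    (hP : Cyc.DeltaCompat (CohB1.ProjSpaceOver.toBase 1 X) δP δ)
    (hsupp : ∀ p : ↥(CohB1.ProjSpaceOver 1 X), Nontrivial (F.presheaf.stalk p) → δP p ≤ k + 1)
    (hi : ∀ (j : Fin (1 + 1)) (x : X),
      Nontrivial (((Scheme.Modules.pullback (P1.sect X j)).obj F).presheaf.stalk x) → δ x ≤ k)
    (hemb : ∀ p : ↥(CohB1.ProjSpaceOver 1 X),
      IsAssociatedPrime (maximalIdeal ((CohB1.ProjSpaceOver 1 X).presheaf.stalk p)) (F.presheaf.stalk p) →
        p ∉ Set.range ⇑(P1.sect X 0) ∪ Set.range ⇑(P1.sect X 1) ∨ δP p < k)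
    (i : Fin (1 + 1)) {p : CohB1.ProjSpaceOver 1 X} (hp : p ∈ V X i) (hpk : δP p = k) :
    Cyc.c1CapFun δP (Coh.structureModule _) (Cyc.sheafFun δP (k + 1) F) (csec i) p =
      ((Module.length ((CohB1.ProjSpaceOver 1 X).presheaf.stalk p) (F.presheaf.stalk p ⧸
        ((CohB1.ProjSpaceOver 1 X).presheaf.germ _ p hp (c X i)) •
          (⊤ : Submodule ((CohB1.ProjSpaceOver 1 X).presheaf.stalk p) (F.presheaf.stalk p)))).toNat : ℤ) := by
  classical
  haveI := QCoh.finite_stalk_of_isFT hF.1 hF.2 p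
  have hsupp' : ∀ (ξ : CohB1.ProjSpaceOver 1 X) (h : ξ ⤳ p),
      primeOf h ∈ Module.support _ (F.presheaf.stalk p) → Nontrivial (F.presheaf.stalk ξ) := fun ξ h hm => by
    refine not_subsingleton_iff_nontrivial.1 fun hs => ?_
    haveI := Module.mem_support_iff.1 hm
    have := CapSheaf.length_stalk_eq hF.1 h
    rw [Module.length_eq_zero (M := F.presheaf.stalk ξ), Module.length_eq_zero_iff] at this
    exact not_subsingleton _ this
  have hgs : ∀ (ξ : CohB1.ProjSpaceOver 1 X) (h : ξ ⤳ p),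
      ((CohB1.ProjSpaceOver 1 X).presheaf.stalkSpecializes h).hom
        ((CohB1.ProjSpaceOver 1 X).presheaf.germ _ p hp (c X i)) =
        (CohB1.ProjSpaceOver 1 X).presheaf.germ _ ξ (h.mem_open (V X i).2 hp) (c X i) :=
    fun ξ h => TopCat.Presheaf.germ_stalkSpecializes_apply _ _ _ _
  refine CapLocal.c1CapFun_sec_eq hdP InvX.isInvertible_structureModule (csec i) (fun ξ h => if_neg h) hpk
    (isGen_one p).1 (fun ξ h _ hres => ?_) ?_ (fun ξ h hm => hsupp ξ (hsupp' ξ h hm))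
    (fun ξ h hk => (if_pos hk).trans (by rw [CapSheaf.length_stalk_eq hF.1 h]))
  · rw [hgs] at hres
    have hu : IsUnit ((CohB1.ProjSpaceOver 1 X).presheaf.germ _ ξ (h.mem_open (V X i).2 hp) (c X i)) := by
      by_contra hu
      exact hres (Ideal.Quotient.eq_zero_iff_mem.2 hu)
    have hm : ξ ∈ V X i ⊓ V X (1 - i) := ⟨h.mem_open (V X i).2 hp, (mem_other_iff' X i _).2 hu⟩
    rw [csec, coord, dif_pos hm, hgs, spec_one]
    rfl
  · intro a b hab
    by_contra hne
    have hm0 : a - b ≠ 0 := sub_ne_zero.2 hne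
    obtain ⟨P, hPa, hle⟩ := exists_le_isAssociatedPrime_of_isNoetherianRing
      ((CohB1.ProjSpaceOver 1 X).presheaf.stalk p) (a - b) hm0
    have hfP : (CohB1.ProjSpaceOver 1 X).presheaf.germ _ p hp (c X i) ∈ P := hle (by
      rw [Submodule.mem_colon_singleton, Submodule.mem_bot, smul_sub, sub_eq_zero]
      exact hab)
    haveI := hPa.isPrime
    obtain ⟨ξ, hξ, hξe⟩ := exists_point P
    have hrange : ξ ∈ Set.range (P1.sect X i) := by
      refine (range_sect X i).ge ⟨hξ.mem_open (V X i).2 hp, ?_⟩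
      rw [← hgs ξ hξ]
      exact (mem_primeOf hξ _).1 (hξe ▸ hfP)
    have hP_supp : (primeOf hξ) ∈ Module.support _ (F.presheaf.stalk p) := by
      rw [Module.mem_support_iff_exists_annihilator]
      obtain ⟨-, y, hy⟩ := (isAssociatedPrime_iff).1 hPa
      refine ⟨y, ?_⟩
      rw [hξe, hy]
      intro r hr
      rw [Submodule.mem_annihilator] at hr
      rw [Submodule.mem_colon_singleton, Submodule.mem_bot]
      exact hr y (Submodule.mem_span_singleton_self y)
    by_cases hξp : ξ = p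
    · subst hξp
      have hmax : P = maximalIdeal _ := by rw [← hξe]; exact ZeroSec.primeOf_refl' _
      rw [hmax] at hPa
      refine (hemb _ hPa).elim (fun h => h ?_) (fun h => by omega)
      have hi01 : i = 0 ∨ i = 1 := by fin_cases i <;> simp
      rcases hi01 with rfl | rfl
      · exact Or.inl hrange
      · exact Or.inr hrange
    · have hn := hsupp' ξ hξ hP_supp
      have h1 := hsupp ξ hn
      have h2 := CycLib.delta_lt hdP hξ hξp
      exact not_range_of_support hF hP (hi i) (by omega) hn hrange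

omit [IsLocallyNoetherian (CohB1.ProjSpaceOver 1 X)] in
/-- The difference of the two fibres is the push-forward of the divisor of the coordinate. -/
theorem map_cap (hX : Cyc.IsSetup X δ) (hP : Cyc.DeltaCompat (CohB1.ProjSpaceOver.toBase 1 X) δP δ)
    (hF : Coh.IsCoh F) (hsupp : ∀ p : ↥(CohB1.ProjSpaceOver 1 X), Nontrivial (F.presheaf.stalk p) → δP p ≤ k + 1)
    (h0 : ∀ x : X, Nontrivial (((Scheme.Modules.pullback (P1.sect X 0)).obj F).presheaf.stalk x) → δ x ≤ k)
    (h1 : ∀ x : X, Nontrivial (((Scheme.Modules.pullback (P1.sect X 1)).obj F).presheaf.stalk x) → δ x ≤ k)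
    (hemb : ∀ p : ↥(CohB1.ProjSpaceOver 1 X),
      IsAssociatedPrime (maximalIdeal ((CohB1.ProjSpaceOver 1 X).presheaf.stalk p)) (F.presheaf.stalk p) →
        p ∉ Set.range ⇑(P1.sect X 0) ∪ Set.range ⇑(P1.sect X 1) ∨ δP p < k)
    (α β : AlgebraicCycle X ℤ) (hα : ⇑α = Cyc.sheafFun δ k ((Scheme.Modules.pullback (P1.sect X 0)).obj F))
    (hβ : ⇑β = Cyc.sheafFun δ k ((Scheme.Modules.pullback (P1.sect X 1)).obj F)) :
    ∃ D : AlgebraicCycle (CohB1.ProjSpaceOver 1 X) ℤ, Cyc.RatEquivZero δP k D ∧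
      ⇑D = Cyc.c1CapFun δP (Coh.structureModule _) (Cyc.sheafFun δP (k + 1) F) (csec 0) ∧
      AlgebraicCycle.map (CohB1.ProjSpaceOver.toBase 1 X) δP δ D = α - β := by
  classical
  let π := CohB1.ProjSpaceOver.toBase 1 X
  have hPs : Cyc.IsSetup _ δP := SetupLFT.isSetup π hX hP
  haveI := hPs.1
  haveI := hX.1
  have hdP := hPs.2.2
  have hi : ∀ (j : Fin (1 + 1)) (x : X),
      Nontrivial (((Scheme.Modules.pullback (P1.sect X j)).obj F).presheaf.stalk x) → δ x ≤ k := by
    intro j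
    fin_cases j
    · exact h0
    · exact h1
  let A : AlgebraicCycle (CohB1.ProjSpaceOver 1 X) ℤ :=
    ⟨Cyc.sheafFun δP (k + 1) F, Set.subset_univ _, fun z _ => locFin_sheafFun hdP hF hsupp z⟩
  have hA : ∀ ξ, δP ξ ≠ k + 1 → A ξ = 0 := fun ξ h => if_neg h
  let D := c1CapCycle (InvX.isInvertible_structureModule (X := CohB1.ProjSpaceOver 1 X)) hdP A (csec 0)
    (csec_ne_zero 0)
  have hrat : Cyc.RatEquivZero δP k D := by
    have h := ratEquiv_c1Cap (InvX.isInvertible_structureModule (X := CohB1.ProjSpaceOver 1 X)) hdP (α := ⇑A) hA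
      (fun z => A.locallyFiniteSupport z) (csec_ne_zero 0) (fun ξ => oneSec_ne_zero ξ) (γ := D) (γ' := 0) rfl (by
        funext x
        refine (finsum_eq_zero_of_forall_eq_zero fun ξ => ?_).symm
        rw [secDivFun_one hdP, mul_zero])
    change Cyc.RatEquivZero δP k (D - 0) at h
    rwa [sub_zero] at h
  have hdeg : ∀ p, δP p ≠ k → D p = 0 := fun p hp => GysinLib.c1CapFun_degree (k := k + 1) _ hA (csec 0) (by omega)
  have hsect : ∀ (j : Fin (1 + 1)) (x : X), Cyc.c1CapFun δP (Coh.structureModule _) ⇑A (csec j) (P1.sect X j x) =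
      Cyc.sheafFun δ k ((Scheme.Modules.pullback (P1.sect X j)).obj F) x := fun j x => by
    rw [Cyc.sheafFun]
    beta_reduce
    by_cases hx : δ x = k
    · rw [if_pos hx, CapSheaf.length_stalk_pullback_closed _ F x (ker_sect X j x)]
      exact cap_eq hF hdP hP hsupp hi hemb j (sect_mem X j x) (by rw [delta_sect hP, hx])
    · rw [if_neg hx]
      exact GysinLib.c1CapFun_degree (k := k + 1) _ hA (csec j) (by rw [delta_sect hP]; omega)
  have hoff : ∀ p, p ∉ Set.range (P1.sect X 0) → p ∉ Set.range (P1.sect X 1) → D p = 0 := fun p hp0 hp1 => by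
    by_cases hpk : δP p = k
    swap
    · exact hdeg p hpk
    have key : ∀ j : Fin (1 + 1), p ∈ V X j → p ∉ Set.range (P1.sect X j) →
        Cyc.c1CapFun δP (Coh.structureModule _) ⇑A (csec j) p = 0 := fun j hj hn => by
      refine (cap_eq hF hdP hP hsupp hi hemb j hj hpk).trans ?_
      have hu : IsUnit ((CohB1.ProjSpaceOver 1 X).presheaf.germ _ p hj (c X j)) :=
        not_not.1 fun hu => hn ((range_sect X j).ge ⟨hj, hu⟩)
      haveI : Subsingleton (F.presheaf.stalk p ⧸ ((CohB1.ProjSpaceOver 1 X).presheaf.germ _ p hj (c X j)) •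
          (⊤ : Submodule ((CohB1.ProjSpaceOver 1 X).presheaf.stalk p) (F.presheaf.stalk p))) := by
        rw [Submodule.Quotient.subsingleton_iff, ← Submodule.ideal_span_singleton_smul,
          Ideal.span_singleton_eq_top.2 hu, Submodule.top_smul]
      rw [Module.length_eq_zero]
      rfl
    obtain ⟨j, hj⟩ := cover' X p
    have hj01 : j = 0 ∨ j = 1 := by fin_cases j <;> simp
    rcases hj01 with rfl | rfl
    · exact key 0 hj hp0
    · have := key 1 hj hp1
      rw [cap_one_eq hdP, neg_eq_zero] at this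
      exact this
  have hmap : AlgebraicCycle.map π δP δ D = α - β := by
    ext x
    rw [Function.locallyFinsuppWithin.coe_sub, Pi.sub_apply, hα, hβ, ← hsect 0 x, ← hsect 1 x, cap_one_eq hdP,
      sub_neg_eq_add, CycLib.map_apply']
    have e : ∀ j, π (P1.sect X j x) = x := fun j => by rw [← Scheme.Hom.comp_apply, P1Sect.sect_toBase]; rfl
    have hne : P1.sect X 0 x ≠ P1.sect X 1 x := fun h => sect_ne 0 x (h ▸ sect_mem X 1 x)
    rw [finsum_mem_eq_sum_of_inter_support_eq _ (t := {P1.sect X 0 x, P1.sect X 1 x}) ?_, Finset.sum_pair hne,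
      mapCoeff_sect hP, mapCoeff_sect hP, Nat.cast_one, mul_one, mul_one]
    · rfl
    · ext p
      simp only [Set.mem_inter_iff, Set.mem_preimage, Set.mem_singleton_iff, Function.mem_support,
        Finset.coe_insert, Finset.coe_singleton, Set.mem_insert_iff]
      constructor
      · rintro ⟨hpx, hne0⟩
        refine ⟨?_, hne0⟩
        by_contra hn
        push Not at hn
        refine left_ne_zero_of_mul hne0 (hoff p ?_ ?_)
        · rintro ⟨y, rfl⟩
          refine hn.1 (congrArg _ ?_)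
          rw [← hpx, ← Scheme.Hom.comp_apply, P1Sect.sect_toBase]; rfl
        · rintro ⟨y, rfl⟩
          refine hn.2 (congrArg _ ?_)
          rw [← hpx, ← Scheme.Hom.comp_apply, P1Sect.sect_toBase]; rfl
      · rintro ⟨rfl | rfl, hne0⟩
        · exact ⟨e 0, hne0⟩
        · exact ⟨e 1, hne0⟩
  exact ⟨D, hrat, rfl, hmap⟩

omit [IsLocallyNoetherian (CohB1.ProjSpaceOver 1 X)] in
/-- The two fibres are rationally equivalent. -/
theorem ratEquiv (hX : Cyc.IsSetup X δ) (hP : Cyc.DeltaCompat (CohB1.ProjSpaceOver.toBase 1 X) δP δ)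
    (hF : Coh.IsCoh F) (hsupp : ∀ p : ↥(CohB1.ProjSpaceOver 1 X), Nontrivial (F.presheaf.stalk p) → δP p ≤ k + 1)
    (h0 : ∀ x : X, Nontrivial (((Scheme.Modules.pullback (P1.sect X 0)).obj F).presheaf.stalk x) → δ x ≤ k)
    (h1 : ∀ x : X, Nontrivial (((Scheme.Modules.pullback (P1.sect X 1)).obj F).presheaf.stalk x) → δ x ≤ k)
    (hemb : ∀ p : ↥(CohB1.ProjSpaceOver 1 X),
      IsAssociatedPrime (maximalIdeal ((CohB1.ProjSpaceOver 1 X).presheaf.stalk p)) (F.presheaf.stalk p) →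
        p ∉ Set.range ⇑(P1.sect X 0) ∪ Set.range ⇑(P1.sect X 1) ∨ δP p < k)
    (α β : AlgebraicCycle X ℤ) (hα : ⇑α = Cyc.sheafFun δ k ((Scheme.Modules.pullback (P1.sect X 0)).obj F))
    (hβ : ⇑β = Cyc.sheafFun δ k ((Scheme.Modules.pullback (P1.sect X 1)).obj F)) :
    Cyc.RatEquiv δ k α β := by
  obtain ⟨D, hrat, -, hmap⟩ := map_cap hX hP hF hsupp h0 h1 hemb α β hα hβ
  show Cyc.RatEquivZero δ k (α - β)
  rw [← hmap]
  exact CycLib.ratEquivZero_map _ (SetupLFT.isSetup (CohB1.ProjSpaceOver.toBase 1 X) hX hP) hX hP hrat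

end Groth.Agent.H23.P1Fam
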