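import Groth.Agent.H23.LocFinCoprod
import Groth.Agent.H23.ClosedPushLen
import Groth.Agent.KFlatLib.Scheme.Pullback
import Groth.Agent.QCoh.Qcqs
import Groth.Agent.QCoh.DevissageP
import Groth.Agent.QCoh.Devissage
import Groth.Agent.H23.RedSub
import Groth.Prelude.Def_ChowK

/-! Skyscrapers at non-closed points and structure sheaves of closures of points. -/

set_option autoImplicit false
set_option backward.isDefEq.respectTransparency false
set_option backward.isDefEq.respectTransparency.types false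

universe u

open CategoryTheory CategoryTheory.Limits AlgebraicGeometry TopologicalSpace Opposite

namespace Groth.Agent.H23.SkyPoint

open Groth.Agent LocFinCoprod KFlatLib

variable {X : Scheme.{u}}

/-- The specialization map on stalks of a module. -/
noncomputable abbrev spec (M : X.Modules) {x ξ : X} (h : ξ ⤳ x) :
    M.presheaf.stalk x →+ M.presheaf.stalk ξ :=
  (M.presheaf.stalkSpecializes h).hom

theorem spec_germ (M : X.Modules) {x ξ : X} (h : ξ ⤳ x) {U : X.Opens} (hx : x ∈ U) (s : Γ(M, U)) :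
    spec M h (M.presheaf.germ U x hx s) = M.presheaf.germ U ξ (h.mem_open U.2 hx) s :=
  ConcreteCategory.congr_hom (TopCat.Presheaf.germ_stalkSpecializes M.presheaf hx h) s

theorem specR_germ {x ξ : X} (h : ξ ⤳ x) {U : X.Opens} (hx : x ∈ U) (a : Γ(X, U)) :
    (X.presheaf.stalkSpecializes h).hom (X.presheaf.germ U x hx a) =
      X.presheaf.germ U ξ (h.mem_open U.2 hx) a :=
  ConcreteCategory.congr_hom (TopCat.Presheaf.germ_stalkSpecializes X.presheaf hx h) a

theorem exists_common_germ (M : X.Modules) {x : X} (r : X.presheaf.stalk x) (t : M.presheaf.stalk x) :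
    ∃ (U : X.Opens) (hx : x ∈ U) (a : Γ(X, U)) (m : Γ(M, U)),
      X.presheaf.germ U x hx a = r ∧ M.presheaf.germ U x hx m = t := by
  obtain ⟨U, hxU, a, rfl⟩ := X.presheaf.exists_germ_eq r
  obtain ⟨V, hxV, n, rfl⟩ := M.presheaf.exists_germ_eq t
  exact ⟨U ⊓ V, ⟨hxU, hxV⟩, _, _, X.presheaf.germ_res_apply (homOfLE inf_le_left) x _ a,
    TopCat.Presheaf.germ_res_apply (F := M.presheaf) (homOfLE inf_le_right) x _ n⟩

theorem spec_smul (M : X.Modules) {x ξ : X} (h : ξ ⤳ x) (r : X.presheaf.stalk x) (t : M.presheaf.stalk x) :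
    spec M h (r • t) = (X.presheaf.stalkSpecializes h).hom r • spec M h t := by
  obtain ⟨U, hx, a, m, rfl, rfl⟩ := exists_common_germ M r t
  rw [← QCoh.germ_smul', spec_germ, spec_germ, specR_germ, QCoh.germ_smul']

section Sky

variable {ξ : X} {N : ModuleCat.{u} (X.presheaf.stalk ξ)} {M : X.Modules}

/-- A map to a skyscraper from a map on the stalk. -/
noncomputable def toSky (φ : M.presheaf.stalk ξ →ₗ[X.presheaf.stalk ξ] N) : M ⟶ (sky ξ).obj N :=
  (skyAdj ξ).homEquiv M N (ModuleCat.ofHom φ)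

theorem toSky_app (φ : M.presheaf.stalk ξ →ₗ[X.presheaf.stalk ξ] N) (U : X.Opens) (hU : ξ ∈ U)
    (s : Γ(M, U)) :
    ((show ∀ h : PLift (ξ ∈ U), skyFiber ξ N U h.down from (toSky φ).app U s) ⟨hU⟩ : N) =
      φ (M.presheaf.germ U ξ hU s) := by
  simp only [toSky, skyAdj, Adjunction.mkOfHomEquiv_homEquiv]
  rfl

/-- Evaluation of germs of a skyscraper at a specialization. -/
noncomputable def evalAt {x : X} (h : ξ ⤳ x) (N : ModuleCat.{u} (X.presheaf.stalk ξ)) :
    ((sky ξ).obj N).presheaf.stalk x →+ N :=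
  descP (x := x) (P := skyP ξ N) (fun U hU =>
    { toFun := fun s => (s ⟨h.mem_open U.2 hU⟩ : N)
      map_zero' := rfl
      map_add' := fun _ _ => rfl }) fun _ _ _ _ _ => rfl

theorem evalAt_germ {x : X} (h : ξ ⤳ x) (U : X.Opens) (hU : x ∈ U) (s : Γ((sky ξ).obj N, U)) :
    evalAt h N (((sky ξ).obj N).presheaf.germ U x hU s) =
      ((show ∀ h : PLift (ξ ∈ U), skyFiber ξ N U h.down from s) ⟨h.mem_open U.2 hU⟩ : N) :=
  descP_germP _ _ U hU s

theorem evalAt_smul {x : X} (h : ξ ⤳ x) (r : X.presheaf.stalk x) (t : ((sky ξ).obj N).presheaf.stalk x) :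
    evalAt h N (r • t) = (X.presheaf.stalkSpecializes h).hom r • evalAt h N t := by
  obtain ⟨U, hx, a, m, rfl, rfl⟩ := exists_common_germ _ r t
  rw [← QCoh.germ_smul', evalAt_germ, evalAt_germ, specR_germ]
  rfl

theorem evalAt_injective {x : X} (h : ξ ⤳ x) : Function.Injective (evalAt h N) := by
  refine (injective_iff_map_eq_zero _).2 fun t ht => ?_
  obtain ⟨U, hx, s, rfl⟩ := TopCat.Presheaf.exists_germ_eq ((sky ξ).obj N).presheaf t
  rw [evalAt_germ] at ht
  have hs : s = 0 := by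
    show (show ∀ h : PLift (ξ ∈ U), skyFiber ξ N U h.down from s) = 0
    exact funext fun _ => ht
  rw [hs, map_zero]

theorem evalAt_toSky {x : X} (h : ξ ⤳ x) (φ : M.presheaf.stalk ξ →ₗ[X.presheaf.stalk ξ] N)
    (t : M.presheaf.stalk x) : evalAt h N (stk (toSky φ) x t) = φ (spec M h t) := by
  obtain ⟨U, hx, s, rfl⟩ := TopCat.Presheaf.exists_germ_eq M.presheaf t
  rw [stk_germ, evalAt_germ, toSky_app, spec_germ]

theorem subsingleton_stalk_sky {x : X} (h : ¬ ξ ⤳ x) :
    Subsingleton (((sky ξ).obj N).presheaf.stalk x) := by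
  obtain ⟨V, hV, hxV, hξV⟩ := not_specializes_iff_exists_open.1 h
  refine subsingleton_of_forall_eq 0 fun t => ?_
  obtain ⟨U, hx, s, rfl⟩ := TopCat.Presheaf.exists_germ_eq ((sky ξ).obj N).presheaf t
  let W : X.Opens := U ⊓ ⟨V, hV⟩
  have hz : ((sky ξ).obj N).presheaf.map (homOfLE (inf_le_left : W ≤ U)).op s = 0 := by
    show (show ∀ h : PLift (ξ ∈ W), skyFiber ξ N W h.down from _) = 0
    exact funext fun h => absurd h.down.2 hξV
  rw [← TopCat.Presheaf.germ_res_apply (F := ((sky ξ).obj N).presheaf)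
    (homOfLE (inf_le_left : W ≤ U)) x ⟨hx, hxV⟩ s]
  exact (congrArg _ hz).trans (map_zero _)

theorem specializes_of_nontrivial_sky {x : X} (h : Nontrivial (((sky ξ).obj N).presheaf.stalk x)) :
    ξ ⤳ x :=
  by_contra fun hc => not_subsingleton_iff_nontrivial.2 h (subsingleton_stalk_sky hc)

theorem evalAt_refl_surjective : Function.Surjective (evalAt (specializes_refl ξ) N) := fun n =>
  ⟨((sky ξ).obj N).presheaf.germ ⊤ ξ trivial
    (show Γ((sky ξ).obj N, ⊤) from fun _ : PLift (ξ ∈ (⊤ : X.Opens)) => n), evalAt_germ _ ⊤ trivial _⟩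

/-- Skyscrapers of modules with nilpotent action of the maximal ideal are quasi-coherent. -/
theorem isQCoh_sky (hN : ∀ a ∈ IsLocalRing.maximalIdeal (X.presheaf.stalk ξ), ∀ v : N,
    ∃ n : ℕ, a ^ n • v = 0) : Coh.IsQCoh ((sky ξ).obj N) := by
  refine QCoh.isQCoh_of_sections (fun U hU f s => ?_) fun U hU f t ht => ?_
  · refine ⟨0, ?_⟩
    simp only [pow_zero, one_smul]
    let s' : ∀ h : PLift (ξ ∈ X.basicOpen f), skyFiber ξ N (X.basicOpen f) h.down := s
    classical
    refine ⟨(fun _ : PLift (ξ ∈ U) => if hb : ξ ∈ X.basicOpen f then (s' ⟨hb⟩ : N) else 0 :), ?_⟩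
    show (show ∀ h : PLift (ξ ∈ X.basicOpen f), skyFiber ξ N (X.basicOpen f) h.down from _) = s'
    exact funext fun h => dif_pos h.down
  · let t' : ∀ h : PLift (ξ ∈ U), skyFiber ξ N U h.down := t
    by_cases hξ : ξ ∈ U
    · by_cases hb : ξ ∈ X.basicOpen f
      · refine ⟨0, ?_⟩
        rw [pow_zero, one_smul]
        show t' = 0
        exact funext fun h => congrFun
          (show (fun h : PLift (ξ ∈ X.basicOpen f) => (t' ⟨X.basicOpen_le f h.down⟩ : N)) = 0 from ht) ⟨hb⟩
      · obtain ⟨n, hn⟩ := hN (X.presheaf.germ U ξ hξ f)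
          ((IsLocalRing.mem_maximalIdeal _).2 fun hu => hb ((X.mem_basicOpen f ξ hξ).2 hu)) (t' ⟨hξ⟩)
        refine ⟨n, ?_⟩
        show (show ∀ h : PLift (ξ ∈ U), skyFiber ξ N U h.down from f ^ n • t) = 0
        refine funext fun h => ?_
        show X.presheaf.germ U ξ h.down (f ^ n) • (t' h : N) = 0
        rw [map_pow]
        exact hn
    · refine ⟨0, ?_⟩
      rw [pow_zero, one_smul]
      show t' = 0
      exact funext fun h => absurd h.down hξ

theorem isQCoh_sky_of_killed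
    (hN : ∀ a ∈ IsLocalRing.maximalIdeal (X.presheaf.stalk ξ), ∀ v : N, a • v = 0) :
    Coh.IsQCoh ((sky ξ).obj N) :=
  isQCoh_sky fun a ha v => ⟨1, by rw [pow_one]; exact hN a ha v⟩

end Sky

section Closure

/-- The tautological generator of the structure sheaf of a closure. -/
noncomputable def gen (ξ x : X) : (Cyc.closureStructureSheaf ξ).presheaf.stalk x :=
  (Cyc.closureStructureSheaf ξ).presheaf.germ ⊤ x trivial
    (show Γ((IntMult.ptIdeal ξ).subscheme, (IntMult.ptIdeal ξ).subschemeι ⁻¹ᵁ ⊤) from 1)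

/-- The unit section over an open set. -/
noncomputable def oneSec (ξ : X) (W : X.Opens) : Γ(Cyc.closureStructureSheaf ξ, W) :=
  (show Γ((IntMult.ptIdeal ξ).subscheme, (IntMult.ptIdeal ξ).subschemeι ⁻¹ᵁ W) from 1)

theorem germ_oneSec (ξ : X) {W : X.Opens} {x : X} (hx : x ∈ W) :
    (Cyc.closureStructureSheaf ξ).presheaf.germ W x hx (oneSec ξ W) = gen ξ x := by
  refine Eq.trans (congrArg _ ?_)
    (TopCat.Presheaf.germ_res_apply (F := (Cyc.closureStructureSheaf ξ).presheaf)
      (homOfLE (le_top : W ≤ ⊤)) x hx _)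
  exact (map_one ((IntMult.ptIdeal ξ).subscheme.presheaf.map
    ((Opens.map (IntMult.ptIdeal ξ).subschemeι.base).map (homOfLE (le_top : W ≤ ⊤))).op).hom).symm

theorem spec_gen {ξ η x : X} (h : η ⤳ x) :
    spec (Cyc.closureStructureSheaf ξ) h (gen ξ x) = gen ξ η :=
  spec_germ _ h _ _

theorem smul_oneSec (ξ : X) (W : X.Opens) (a : Γ(X, W)) :
    a • oneSec ξ W = (show Γ(Cyc.closureStructureSheaf ξ, W) from
      (IntMult.ptIdeal ξ).subschemeι.app W a) :=
  (QCoh.pushforward_smul _ W a _).trans (mul_one (M := Γ((IntMult.ptIdeal ξ).subscheme, _)) _)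

theorem range_ptIdeal (ξ : X) : Set.range (IntMult.ptIdeal ξ).subschemeι = closure {ξ} :=
  H23.RedSub.range_vanishingIdeal _

theorem isCoh_closure [IsLocallyNoetherian X] (ξ : X) : Coh.IsCoh (Cyc.closureStructureSheaf ξ) := by
  haveI := LocallyOfFiniteType.isLocallyNoetherian (IntMult.ptIdeal ξ).subschemeι
  exact QCoh.isCoh_pushforward_finite _ QCoh.isCoh_structureModule'

theorem specializes_of_nontrivial_closure {ξ x : X}
    (h : Nontrivial ((Cyc.closureStructureSheaf ξ).presheaf.stalk x)) : ξ ⤳ x := by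
  refine specializes_iff_mem_closure.2 ?_
  by_contra hc
  exact not_subsingleton_iff_nontrivial.2 h
    (H23.ClosedPushLen.subsingleton_stalk _ _ (by rw [range_ptIdeal]; exact hc))

theorem exists_smul_gen (ξ : X) {x : X} (t : (Cyc.closureStructureSheaf ξ).presheaf.stalk x) :
    ∃ r : X.presheaf.stalk x, r • gen ξ x = t := by
  obtain ⟨V, hxV, m, rfl⟩ := TopCat.Presheaf.exists_germ_eq (Cyc.closureStructureSheaf ξ).presheaf t
  obtain ⟨_, ⟨W, hW, rfl⟩, hxW, hle⟩ := X.isBasis_affineOpens.exists_subset_of_mem_open hxV V.2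
  obtain ⟨r, hr⟩ := (IntMult.ptIdeal ξ).subschemeι.app_surjective W hW
    (show Γ((IntMult.ptIdeal ξ).subscheme, (IntMult.ptIdeal ξ).subschemeι ⁻¹ᵁ W) from
      (Cyc.closureStructureSheaf ξ).presheaf.map (homOfLE hle).op m)
  refine ⟨X.presheaf.germ W x hxW r, ?_⟩
  rw [← germ_oneSec ξ hxW, ← QCoh.germ_smul', smul_oneSec,
    show (show Γ(Cyc.closureStructureSheaf ξ, W) from (IntMult.ptIdeal ξ).subschemeι.app W r) =
      (Cyc.closureStructureSheaf ξ).presheaf.map (homOfLE hle).op m from hr]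
  exact TopCat.Presheaf.germ_res_apply (F := (Cyc.closureStructureSheaf ξ).presheaf) _ x hxW m

theorem smul_gen_eq_zero {ξ x : X} (h : ξ ⤳ x) (r : X.presheaf.stalk x)
    (hr : (X.presheaf.stalkSpecializes h).hom r ∈ IsLocalRing.maximalIdeal (X.presheaf.stalk ξ)) :
    r • gen ξ x = 0 := by
  obtain ⟨W, hxW, a, rfl⟩ := X.presheaf.exists_germ_eq r
  rw [specR_germ] at hr
  haveI : IsIntegral (IntMult.ptIdeal ξ).subscheme := QCoh.isIntegral_closure_point ξ
  have h0 : (IntMult.ptIdeal ξ).subschemeι.app W a = 0 := by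
    refine (AlgebraicGeometry.basicOpen_eq_bot_iff _).1 (Opens.ext (Set.eq_empty_of_forall_notMem fun z hz => ?_))
    rw [← Scheme.preimage_basicOpen] at hz
    have hz' : (IntMult.ptIdeal ξ).subschemeι z ∈ X.basicOpen a := hz
    have hξ : ξ ∈ X.basicOpen a :=
      (specializes_iff_mem_closure.2 ((range_ptIdeal ξ).le ⟨z, rfl⟩)).mem_open (X.basicOpen a).2 hz'
    exact (IsLocalRing.mem_maximalIdeal _).1 hr ((X.mem_basicOpen a ξ (h.mem_open W.2 hxW)).1 hξ)
  rw [← germ_oneSec ξ hxW, ← QCoh.germ_smul', smul_oneSec, h0]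
  exact map_zero _

theorem gen_ne_zero (ξ : X) : gen ξ ξ ≠ 0 := by
  intro h
  haveI : IsIntegral (IntMult.ptIdeal ξ).subscheme := QCoh.isIntegral_closure_point ξ
  obtain ⟨z, hz⟩ := (range_ptIdeal ξ).ge (subset_closure rfl)
  haveI : Subsingleton ((Cyc.closureStructureSheaf ξ).presheaf.stalk ξ) :=
    subsingleton_of_forall_eq 0 fun t => by
      obtain ⟨r, rfl⟩ := exists_smul_gen ξ t
      rw [h, smul_zero]
  have hl := H23.ClosedPushLen.length_stalk (IntMult.ptIdeal ξ).subschemeι (Coh.structureModule _) z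
  rw [H23.ClosedPushLen.length_structureModule, hz] at hl
  exact Module.length_pos.ne (((Module.length_eq_zero_iff.2 ‹Subsingleton ((Cyc.closureStructureSheaf ξ).presheaf.stalk ξ)›).symm.trans hl))

/-- The map on the stalk at the generic point with prescribed value at the generator. -/
theorem exists_vecLin {ξ : X} (N : ModuleCat.{u} (X.presheaf.stalk ξ)) (v : N)
    (hv : ∀ a ∈ IsLocalRing.maximalIdeal (X.presheaf.stalk ξ), a • v = 0) :
    ∃ φ : (Cyc.closureStructureSheaf ξ).presheaf.stalk ξ →ₗ[X.presheaf.stalk ξ] N, φ (gen ξ ξ) = v := by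
  let G := LinearMap.toSpanSingleton (X.presheaf.stalk ξ) _ (gen ξ ξ)
  have hG : Function.Surjective G := fun t => exists_smul_gen ξ t
  have hle : LinearMap.ker G ≤ LinearMap.ker (LinearMap.toSpanSingleton (X.presheaf.stalk ξ) N v) := by
    intro a ha
    by_cases hu : IsUnit a
    · exact absurd (hu.smul_eq_zero.1 (LinearMap.mem_ker.1 ha)) (gen_ne_zero ξ)
    · exact hv a ((IsLocalRing.mem_maximalIdeal _).2 hu)
  refine ⟨(Submodule.liftQ _ _ hle) ∘ₗ (G.quotKerEquivOfSurjective hG).symm.toLinearMap, ?_⟩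
  have h1 : (G.quotKerEquivOfSurjective hG).symm (gen ξ ξ) = Submodule.Quotient.mk 1 := by
    rw [show gen ξ ξ = G 1 from (one_smul (X.presheaf.stalk ξ) (gen ξ ξ)).symm]
    exact G.quotKerEquivOfSurjective_symm_apply hG 1
  show Submodule.liftQ _ _ hle ((G.quotKerEquivOfSurjective hG).symm (gen ξ ξ)) = v
  rw [h1, Submodule.liftQ_apply]
  exact one_smul _ v

/-- The value at a point of a map from the structure sheaf of a closure to a skyscraper. -/
theorem evalAt_toSky_gen {ξ x : X} (h : ξ ⤳ x) {N : ModuleCat.{u} (X.presheaf.stalk ξ)}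
    (φ : (Cyc.closureStructureSheaf ξ).presheaf.stalk ξ →ₗ[X.presheaf.stalk ξ] N) (r : X.presheaf.stalk x) :
    evalAt h N (stk (toSky φ) x (r • gen ξ x)) =
      (X.presheaf.stalkSpecializes h).hom r • φ (gen ξ ξ) := by
  rw [evalAt_toSky, spec_smul, spec_gen, map_smul]

theorem mono_toSky {ξ : X} {N : ModuleCat.{u} (X.presheaf.stalk ξ)}
    (φ : (Cyc.closureStructureSheaf ξ).presheaf.stalk ξ →ₗ[X.presheaf.stalk ξ] N)
    (hφ : φ (gen ξ ξ) ≠ 0) : Mono (toSky φ) := by
  refine mono_of_stk _ fun x => (injective_iff_map_eq_zero _).2 fun t ht => ?_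
  by_cases h : ξ ⤳ x
  · obtain ⟨r, rfl⟩ := exists_smul_gen ξ t
    refine smul_gen_eq_zero h r ((IsLocalRing.mem_maximalIdeal _).2 fun hu => hφ (hu.smul_eq_zero.1 ?_))
    rw [← evalAt_toSky_gen h φ r, ht, map_zero]
  · haveI : Subsingleton ((Cyc.closureStructureSheaf ξ).presheaf.stalk x) :=
      not_nontrivial_iff_subsingleton.1 fun hn => h (specializes_of_nontrivial_closure hn)
    exact Subsingleton.elim _ _

theorem length_closure_self (ξ : X) :
    Module.length (X.presheaf.stalk ξ) ((Cyc.closureStructureSheaf ξ).presheaf.stalk ξ) = 1 := by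
  let G := LinearMap.toSpanSingleton (X.presheaf.stalk ξ) _ (gen ξ ξ)
  have hG : Function.Surjective G := fun t => exists_smul_gen ξ t
  have hker : LinearMap.ker G = IsLocalRing.maximalIdeal (X.presheaf.stalk ξ) := by
    ext a
    refine ⟨fun ha => (IsLocalRing.mem_maximalIdeal _).2 fun hu =>
      gen_ne_zero ξ (hu.smul_eq_zero.1 (LinearMap.mem_ker.1 ha)), fun ha => ?_⟩
    refine smul_gen_eq_zero (specializes_refl ξ) a ?_
    rwa [TopCat.Presheaf.stalkSpecializes_refl]
  exact Module.length_eq_one_iff.2 (isSimpleModule_iff_quot_maximal.2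
    ⟨LinearMap.ker G, hker ▸ IsLocalRing.maximalIdeal.isMaximal _,
      ⟨(G.quotKerEquivOfSurjective hG).symm⟩⟩)

end Closure

end Groth.Agent.H23.SkyPoint
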