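import Groth.Agent.H23.K0Adic
import Groth.Agent.H23.SkyPoint
import Groth.Agent.H23.P1Fam
import Groth.Agent.CycLib.StalkSES
import Groth.Prelude.Def_ChowK

/-! The cycle class of coherent modules in `K₀(Coh_{≤k}/Coh_{≤k-1})`. -/

set_option autoImplicit false
set_option maxHeartbeats 400000
set_option backward.isDefEq.respectTransparency false
set_option backward.isDefEq.respectTransparency.types false

universe u

open CategoryTheory CategoryTheory.Limits AlgebraicGeometry TopologicalSpace Opposite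

namespace Groth.Agent.H23.CycleClassK

open Groth.Agent LocFinCoprod K0Swindle SkyPoint KFlatLib

variable {X : Scheme.{u}}

/-- A locally finite set of points. -/
def LFPts (S : Set X) : Prop := ∀ x : X, ∃ U : X.Opens, x ∈ U ∧ (S ∩ (U : Set X)).Finite

theorem LFPts.mono {S T : Set X} (h : LFPts T) (hST : S ⊆ T) : LFPts S := fun x => by
  obtain ⟨U, hx, hU⟩ := h x
  exact ⟨U, hx, hU.subset (Set.inter_subset_inter_left _ hST)⟩

theorem lfPts_of_nhds {S : Set X} (h : ∀ x : X, ∃ t ∈ nhds x, (t ∩ S).Finite) : LFPts S := fun x => by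
  obtain ⟨t, ht, hf⟩ := h x
  obtain ⟨U, hUt, hUo, hxU⟩ := mem_nhds_iff.1 ht
  exact ⟨⟨U, hUo⟩, hxU, hf.subset fun y hy => ⟨hUt hy.2, hy.1⟩⟩

theorem lfPts_cycle (α : AlgebraicCycle X ℤ) : LFPts (Function.support α) :=
  lfPts_of_nhds fun x => α.supportLocallyFiniteWithinDomain x (Set.mem_univ x)

/-- A family supported on the closures of a locally finite set of points is locally finite. -/
theorem lf_of_pts {J : Type u} {S : Set X} (hS : LFPts S) (e : J → X) (he : ∀ j, e j ∈ S)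
    (hfib : ∀ y, (e ⁻¹' {y}).Finite) (M : J → X.Modules)
    (hM : ∀ j x, Nontrivial ((M j).presheaf.stalk x) → e j ⤳ x) : LF M := fun x => by
  obtain ⟨U, hx, hU⟩ := hS x
  refine ⟨U, hx, (hU.biUnion fun y _ => hfib y).subset ?_⟩
  rintro j ⟨y, hy, hn⟩
  exact Set.mem_biUnion ⟨he j, (hM j y hn).mem_open U.2 hy⟩ rfl

theorem isCoh_of_epi_image {A B : X.Modules} (f : A ⟶ B) (hA : Coh.IsCoh A) (hB : Coh.IsQCoh B)
    [IsLocallyNoetherian X] : Coh.IsCoh (Abelian.image f) :=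
  QCoh.isCoh_of_epi (Abelian.factorThruImage f) hA
    (QCoh.isQCoh_kernel hB (QCoh.isQCoh_cokernel hA.1 hB f) _)

variable [IsLocallyNoetherian X] {δ : X → ℤ}

theorem cohClosed_cohLe (δ : X → ℤ) (k : ℤ) : CohClosed (Cyc.CohLe δ k) :=
  cohClosed_supp {x | δ x ≤ k}

theorem cohLe_mono {k l : ℤ} (h : k ≤ l) {F : X.Modules} (hF : Cyc.CohLe δ k F) : Cyc.CohLe δ l F :=
  ⟨hF.1, fun x hx => (hF.2 x hx).trans h⟩

theorem tK_ses {a b : ℤ} {S : ShortComplex X.Modules} (hS : S.ShortExact) (h₁ : Cyc.CohLe δ a S.X₁)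
    (h₂ : Cyc.CohLe δ a S.X₂) (h₃ : Cyc.CohLe δ a S.X₃) :
    Cyc.toK0CohQuot δ a b S.X₂ = Cyc.toK0CohQuot δ a b S.X₁ + Cyc.toK0CohQuot δ a b S.X₃ := by
  simp only [Cyc.toK0CohQuot, KZ.clSub_ses (Cyc.CohLe δ a) hS h₁ h₂ h₃, QuotientAddGroup.mk_add]

omit [IsLocallyNoetherian X] in
theorem tK_small {a b : ℤ} {F : X.Modules} (h : Cyc.CohLe δ b F) : Cyc.toK0CohQuot δ a b F = 0 :=
  (QuotientAddGroup.eq_zero_iff _).2 (AddSubgroup.subset_closure ⟨F, h, rfl⟩)

theorem tK_of_cl_eq {a b : ℤ} {F G : X.Modules}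
    (h : KZero.clSub (Cyc.CohLe δ a) F = KZero.clSub (Cyc.CohLe δ a) G) :
    Cyc.toK0CohQuot δ a b F = Cyc.toK0CohQuot δ a b G := by
  simp only [Cyc.toK0CohQuot, h]

theorem tK_hom {a b : ℤ} {A B : X.Modules} (f : A ⟶ B) (hA : Cyc.CohLe δ a A) (hB : Cyc.CohLe δ a B) :
    Cyc.toK0CohQuot δ a b A + Cyc.toK0CohQuot δ a b (cokernel f) =
      Cyc.toK0CohQuot δ a b B + Cyc.toK0CohQuot δ a b (kernel f) := by
  simp only [Cyc.toK0CohQuot, ← QuotientAddGroup.mk_add, cl_hom (cohClosed_cohLe δ a) f hA hB]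

/-- A map that is bijective on stalks of dimension `k` preserves classes modulo smaller dimension. -/
theorem tK_eq_of_bij {k : ℤ} {A B : X.Modules} (f : A ⟶ B) (hA : Cyc.CohLe δ k A) (hB : Cyc.CohLe δ k B)
    (hf : ∀ x : X, δ x = k → Function.Bijective (stk f x)) :
    Cyc.toK0CohQuot δ k (k - 1) A = Cyc.toK0CohQuot δ k (k - 1) B := by
  have hP := cohClosed_cohLe δ k
  have hk : Cyc.CohLe δ k (kernel f) :=
    hP.sub (kernel.ι f) (QCoh.isQCoh_kernel hA.1.1 hB.1.1 f) hA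
  have hc : Cyc.CohLe δ k (cokernel f) :=
    hP.quot (cokernel.π f) (QCoh.isQCoh_cokernel hA.1.1 hB.1.1 f) hB
  have e := tK_hom (b := k - 1) f hA hB
  rw [tK_small (F := cokernel f) ⟨hc.1, fun x hx => ?_⟩,
    tK_small (F := kernel f) ⟨hk.1, fun x hx => ?_⟩, add_zero, add_zero] at e
  · exact e
  · by_contra hlt
    have hxk : δ x = k := le_antisymm (hk.2 x hx) (by omega)
    refine not_subsingleton_iff_nontrivial.2 hx ⟨fun a b => stk_injective_of_mono (kernel.ι f) x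
      ((hf x hxk).1 ?_)⟩
    rw [← stk_comp, ← stk_comp, kernel.condition, stk_zero, stk_zero]
  · by_contra hlt
    have hxk : δ x = k := le_antisymm (hc.2 x hx) (by omega)
    refine not_subsingleton_iff_nontrivial.2 hx (subsingleton_of_forall_eq 0 fun a => ?_)
    obtain ⟨b, rfl⟩ := stk_surjective_of_epi (cokernel.π f) x a
    obtain ⟨c, rfl⟩ := (hf x hxk).2 b
    rw [← stk_comp, cokernel.condition, stk_zero]

omit [IsLocallyNoetherian X] in
theorem nontrivial_of_sheafFun {k : ℤ} {F : X.Modules} {x : X} (h : Cyc.sheafFun δ k F x ≠ 0) :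
    δ x = k ∧ Nontrivial (F.presheaf.stalk x) := by
  rw [Cyc.sheafFun] at h
  split_ifs at h with hx
  · refine ⟨hx, not_subsingleton_iff_nontrivial.1 fun hs => h ?_⟩
    rw [Module.length_eq_zero]
    rfl
  · exact absurd rfl h

omit [IsLocallyNoetherian X] in
theorem sheafFun_nonneg (δ : X → ℤ) (k : ℤ) (F : X.Modules) (x : X) : 0 ≤ Cyc.sheafFun δ k F x := by
  rw [Cyc.sheafFun]
  split_ifs <;> simp

theorem length_lt_top (hd : Cyc.IsDimFun X δ) {k : ℤ} {F : X.Modules} (hF : Cyc.CohLe δ k F) {x : X}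
    (hx : δ x = k) : Module.length (X.presheaf.stalk x) (F.presheaf.stalk x) < ⊤ :=
  CycLib.length_stalk_lt_top F hF.1 fun y hy hyx => CycLib.eq_of_delta_le hd hyx ((hF.2 y hy).trans hx.ge)

theorem lfPts_sheafFun (hd : Cyc.IsDimFun X δ) {k : ℤ} {F : X.Modules} (hF : Cyc.CohLe δ k F) :
    LFPts (Function.support (Cyc.sheafFun δ k F)) :=
  lfPts_of_nhds (P1Fam.locFin_sheafFun hd hF.1 hF.2)

section Pos

variable (α : X → ℤ)

/-- The summands of the sheaf of a cycle. -/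
noncomputable abbrev posFam : (Σ ζ : {ζ : X // 0 < α ζ}, Fin (α ζ.1).toNat) → X.Modules :=
  fun i => Cyc.closureStructureSheaf i.1.1

theorem lf_posFam (h : LFPts {x | 0 < α x}) : LF (posFam α) := by
  refine lf_of_pts (J := Σ ζ : {ζ : X // 0 < α ζ}, Fin (α ζ.1).toNat) h (fun i => i.1.1)
    (fun i => i.1.2) (fun y => ?_) (posFam α) ?_
  · classical
    by_cases hy : 0 < α y
    · refine (Set.finite_range fun t : Fin (α y).toNat =>
        (⟨⟨y, hy⟩, t⟩ : Σ ζ : {ζ : X // 0 < α ζ}, Fin (α ζ.1).toNat)).subset ?_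
      intro i hi
      obtain ⟨⟨z, hz⟩, t⟩ := i
      have hzy : z = y := hi
      subst hzy
      exact ⟨t, rfl⟩
    · refine Set.finite_empty.subset ?_
      intro i hi
      have hzy : i.1.1 = y := hi
      exact hy (hzy ▸ i.1.2)
  · intro i x hx
    exact specializes_of_nontrivial_closure hx

theorem cohLe_posFam (hd : Cyc.IsDimFun X δ) {k : ℤ} (hk : ∀ x, 0 < α x → δ x ≤ k) (i) :
    Cyc.CohLe δ k (posFam α i) :=
  ⟨isCoh_closure _, fun x hx => by
    rcases eq_or_ne i.1.1 x with h | h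
    · exact h ▸ hk _ i.1.2
    · exact (CycLib.delta_lt hd (specializes_of_nontrivial_closure hx) h).le.trans (hk _ i.1.2)⟩

theorem cohLe_pos (hd : Cyc.IsDimFun X δ) {k : ℤ} (h : LFPts {x | 0 < α x})
    (hk : ∀ x, 0 < α x → δ x ≤ k) : Cyc.CohLe δ k (Cyc.cycleSheafPos α) :=
  (cohClosed_cohLe δ k).sigma (lf_posFam α h) (cohLe_posFam α hd hk)

theorem sheafFun_pos (hd : Cyc.IsDimFun X δ) {k : ℤ} (hk : ∀ x, 0 < α x → δ x = k) :
    Cyc.sheafFun δ k (Cyc.cycleSheafPos α) = fun x => max (α x) 0 := by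
  classical
  funext x
  rw [Cyc.sheafFun]
  have key : ∀ (i : Σ ζ : {ζ : X // 0 < α ζ}, Fin (α ζ.1).toNat), δ x = k →
      Nontrivial ((posFam α i).presheaf.stalk x) → i.1.1 = x := fun i hx hn =>
    CycLib.eq_of_delta_le hd (specializes_of_nontrivial_closure hn) (by rw [hk _ i.1.2, hx])
  by_cases hα : 0 < α x
  · rw [if_pos (hk x hα), max_eq_left hα.le, Cyc.cycleSheafPos,
      length_stalk (posFam α) x (Finset.univ.image fun t : Fin (α x).toNat =>
        (⟨⟨x, hα⟩, t⟩ : Σ ζ : {ζ : X // 0 < α ζ}, Fin (α ζ.1).toNat)) (fun i hn => ?_),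
      Finset.sum_image (fun a _ b _ h => by cases h; rfl)]
    · simp only [posFam, length_closure_self, Finset.sum_const, Finset.card_univ, Fintype.card_fin]
      simp [Int.toNat_of_nonneg hα.le]
    · obtain ⟨⟨z, hz⟩, t⟩ := i
      obtain rfl : z = x := key ⟨⟨z, hz⟩, t⟩ (hk x hα) hn
      exact Finset.mem_image.2 ⟨t, Finset.mem_univ _, rfl⟩
  · rw [max_eq_right (not_lt.1 hα)]
    split_ifs with hx
    · rw [Cyc.cycleSheafPos, length_stalk (posFam α) x ∅ fun i hn => absurd (key i hx hn ▸ i.1.2) hα]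
      rfl
    · rfl

end Pos

/-- Vectors spanning a module killed by the maximal ideal, independently over the residue field. -/
theorem exists_vecs {R V : Type u} [CommRing R] [IsLocalRing R] [AddCommGroup V] [Module R V]
    [Module.Finite R V] (hV : ∀ a ∈ IsLocalRing.maximalIdeal R, ∀ v : V, a • v = 0) :
    ∃ v : Fin (Module.length R V).toNat → V,
      (∀ c : Fin (Module.length R V).toNat → R, ∑ t, c t • v t = 0 → ∀ t, c t ∈ IsLocalRing.maximalIdeal R) ∧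
        ∀ w : V, ∃ c : Fin (Module.length R V).toNat → R, ∑ t, c t • v t = w := by
  have ht : Module.IsTorsionBySet R V (IsLocalRing.maximalIdeal R : Set R) := fun v a => hV a.1 a.2 v
  letI : Field (R ⧸ IsLocalRing.maximalIdeal R) := Ideal.Quotient.field _
  letI := ht.module
  haveI : IsScalarTower R (R ⧸ IsLocalRing.maximalIdeal R) V := ht.isScalarTower
  haveI : Module.Finite (R ⧸ IsLocalRing.maximalIdeal R) V := Module.Finite.of_restrictScalars_finite R _ _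
  have hl : Module.length R V = (Module.finrank (R ⧸ IsLocalRing.maximalIdeal R) V : ℕ) := by
    rw [Module.length_eq_of_surjective (S := R) (R := R ⧸ IsLocalRing.maximalIdeal R)
      Ideal.Quotient.mk_surjective, Module.length_eq_finrank]
  let b := Module.finBasisOfFinrankEq (R ⧸ IsLocalRing.maximalIdeal R) V
    (show _ = (Module.length R V).toNat by rw [hl, ENat.toNat_natCast])
  refine ⟨b, fun c hc t => Ideal.Quotient.eq_zero_iff_mem.1 ?_, fun w => ?_⟩
  · refine Fintype.linearIndependent_iff.1 b.linearIndependent (fun i => Ideal.Quotient.mk _ (c i)) ?_ t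
    exact hc
  · choose c hc using fun t => Ideal.Quotient.mk_surjective (b.repr w t)
    refine ⟨c, ?_⟩
    conv_rhs => rw [← b.sum_repr w]
    exact Finset.sum_congr rfl fun t _ => by rw [← hc t]; rfl

/-- Maximal points of a closed set have a neighbourhood meeting it in their closure only. -/
theorem exists_open_meeting_only {T : Set X} (hT : IsClosed T) {ξ : X} (hξ : ξ ∈ T)
    (hmax : ∀ η ∈ T, η ⤳ ξ → η = ξ) : ∃ V : X.Opens, ξ ∈ V ∧ T ∩ (V : Set X) ⊆ closure {ξ} := by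
  let C : irreducibleComponents ↥T → Set X := fun Z => (↑) '' (Z : Set ↥T)
  let bad := {Z : irreducibleComponents ↥T | ξ ∉ C Z}
  have hcl : ∀ Z, IsClosed (C Z) := fun Z =>
    hT.isClosedEmbedding_subtypeVal.isClosedMap _ (isClosed_of_mem_irreducibleComponents _ Z.2)
  refine ⟨⟨(⋃ Z : bad, C Z.1)ᶜ, ((CycLib.locallyFinite_components hT).comp_injective
    Subtype.val_injective).isClosed_iUnion (fun Z => hcl Z.1) |>.isOpen_compl⟩, ?_, ?_⟩
  · simp only [Opens.mem_mk, Set.mem_compl_iff, Set.mem_iUnion, not_exists]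
    exact fun Z => Z.2
  · rintro y ⟨hy, hyV⟩
    obtain ⟨Z, hZ, hyZ⟩ : ∃ Z ∈ irreducibleComponents ↥T, (⟨y, hy⟩ : ↥T) ∈ Z :=
      ⟨irreducibleComponent _, irreducibleComponent_mem_irreducibleComponents _, mem_irreducibleComponent⟩
    have hξZ : ξ ∈ C ⟨Z, hZ⟩ := by_contra fun h =>
      hyV (Set.mem_iUnion.2 ⟨⟨⟨Z, hZ⟩, h⟩, ⟨⟨y, hy⟩, hyZ, rfl⟩⟩)
    obtain ⟨η, hη⟩ := QuasiSober.sober (hZ.1.image _ continuous_subtype_val.continuousOn)
      (hcl ⟨Z, hZ⟩)
    have hηT : η ∈ T := by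
      obtain ⟨z, -, hz⟩ := hη.mem
      exact hz ▸ z.2
    obtain rfl := hmax η hηT (hη.specializes hξZ)
    exact hη.def.ge ⟨⟨y, hy⟩, hyZ, rfl⟩

/-- Over a reduced subscheme the maximal ideal at a maximal point kills the stalk. -/
theorem smul_eq_zero_of_killed {Z : Scheme.{u}} (i : Z ⟶ X) [IsClosedImmersion i] [IsReduced Z]
    {G : X.Modules} (hG : KZ.ClosedDev.Killed i G) {ξ : X} (hξ : ξ ∈ Set.range i)
    (hmax : ∀ η ∈ Set.range i, η ⤳ ξ → η = ξ) (a : X.presheaf.stalk ξ)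
    (ha : a ∈ IsLocalRing.maximalIdeal (X.presheaf.stalk ξ)) (v : G.presheaf.stalk ξ) : a • v = 0 := by
  obtain ⟨U, hU, r, m, rfl, rfl⟩ := exists_common_germ G a v
  obtain ⟨V, hξV, hV⟩ := exists_open_meeting_only i.isClosedEmbedding.isClosed_range hξ hmax
  obtain ⟨_, ⟨W, hW, rfl⟩, hξW, hle⟩ :=
    X.isBasis_affineOpens.exists_subset_of_mem_open (show ξ ∈ U ⊓ V from ⟨hU, hξV⟩) (U ⊓ V).2
  have hWU : W ≤ U := fun y hy => (hle hy).1
  rw [← X.presheaf.germ_res_apply (homOfLE hWU) ξ hξW r,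
    ← TopCat.Presheaf.germ_res_apply (F := G.presheaf) (homOfLE hWU) ξ hξW m, ← QCoh.germ_smul']
  refine (congrArg _ (hG ⟨W, hW⟩ _ ?_ _)).trans (map_zero _)
  rw [Scheme.Hom.ker_apply, RingHom.mem_ker]
  refine (AlgebraicGeometry.basicOpen_eq_bot_iff _).1 (Opens.ext (Set.eq_empty_of_forall_notMem fun z hz => ?_))
  rw [← Scheme.preimage_basicOpen] at hz
  have hzW : i z ∈ X.basicOpen _ := hz
  have hiz : ξ ⤳ i z := specializes_iff_mem_closure.2 (hV ⟨⟨z, rfl⟩, (hle (X.basicOpen_le _ hzW)).2⟩)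
  have hu := (X.mem_basicOpen _ ξ hξW).1 (hiz.mem_open (X.basicOpen _).2 hzW)
  rw [X.presheaf.germ_res_apply] at hu
  exact (IsLocalRing.mem_maximalIdeal _).1 ha hu

/-- Two modules with maps to a common quasi-coherent module, bijective in dimension `k`, are
equivalent. -/
theorem tK_eq_of_common {k : ℤ} {A B W : X.Modules} (f : A ⟶ W) (g : B ⟶ W) (hA : Cyc.CohLe δ k A)
    (hB : Cyc.CohLe δ k B) (hW : Coh.IsQCoh W)
    (hf : ∀ x : X, δ x = k → Function.Bijective (stk f x))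
    (hg : ∀ x : X, δ x = k → Function.Bijective (stk g x)) :
    Cyc.toK0CohQuot δ k (k - 1) A = Cyc.toK0CohQuot δ k (k - 1) B := by
  let T : ULift.{u} Bool → X.Modules := fun b => bif b.down then A else B
  let θ : ∐ T ⟶ W := Sigma.desc fun b =>
    match b with
    | ⟨true⟩ => f
    | ⟨false⟩ => g
  have hT : Cyc.CohLe δ k (∐ T) := (cohClosed_cohLe δ k).sigma (lf_of_finite _) fun b => by
    rcases b with ⟨_ | _⟩
    · exact hB
    · exact hA
  have hMc : Coh.IsCoh (Abelian.image θ) := isCoh_of_epi_image θ hT.1 hW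
  have hM : Cyc.CohLe δ k (Abelian.image θ) :=
    (cohClosed_cohLe δ k).quot (Abelian.factorThruImage θ) hMc.1 hT
  have descend : ∀ {C : X.Modules} (a : C ⟶ Abelian.image θ) (c : C ⟶ W),
      a ≫ Abelian.image.ι θ = c → ∀ x, Function.Bijective (stk c x) → Function.Bijective (stk a x) :=
    fun a c e x hc => ⟨fun p q h => hc.1 (by rw [← e, stk_comp, stk_comp, h]), fun m => by
      obtain ⟨p, hp⟩ := hc.2 (stk (Abelian.image.ι θ) x m)
      exact ⟨p, stk_injective_of_mono (Abelian.image.ι θ) x (by rw [← stk_comp, e, hp])⟩⟩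
  rw [tK_eq_of_bij (A := A) (Sigma.ι T ⟨true⟩ ≫ Abelian.factorThruImage θ) hA hM
      fun x hx => descend _ f (by simp [θ]) x (hf x hx),
    tK_eq_of_bij (A := B) (Sigma.ι T ⟨false⟩ ≫ Abelian.factorThruImage θ) hB hM
      fun x hx => descend _ g (by simp [θ]) x (hg x hx)]

section SkyFam

variable {S : Set X} (V : (ζ : S) → ModuleCat.{u} (X.presheaf.stalk ζ.1))

/-- A family of skyscrapers. -/
noncomputable abbrev skyFam : S → X.Modules := fun ζ => (sky ζ.1).obj (V ζ)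

theorem lf_skyFam (hS : LFPts S) : LF (skyFam V) :=
  lf_of_pts (J := S) hS (fun ζ => ζ.1) (fun ζ => ζ.2)
    (fun y => ((Set.subsingleton_singleton (a := y)).preimage Subtype.val_injective).finite) _
    fun _ _ hx => specializes_of_nontrivial_sky hx

/-- A map to a family of skyscrapers which is bijective on stalks in dimension `k`. -/
theorem bijective_skyFam (hd : Cyc.IsDimFun X δ) {k : ℤ} (hSk : ∀ ζ ∈ S, δ ζ = k) {A : X.Modules}
    (g : A ⟶ ∐ skyFam V)
    (hb : ∀ ζ : S, Function.Bijective fun t : A.presheaf.stalk ζ.1 =>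
      evalAt (specializes_refl ζ.1) (V ζ) (stk (g ≫ proj (skyFam V) ζ) ζ.1 t))
    (h0 : ∀ x, δ x = k → x ∉ S → Subsingleton (A.presheaf.stalk x)) (x : X) (hx : δ x = k) :
    Function.Bijective (stk g x) := by
  have hext : ∀ a b : (∐ skyFam V).presheaf.stalk x,
      (∀ ζ : S, ζ.1 = x → stk (proj (skyFam V) ζ) x a = stk (proj (skyFam V) ζ) x b) → a = b :=
    fun a b h => stalk_ext (skyFam V) x fun ζ => by
      by_cases hζ : ζ.1 = x
      · exact h ζ hζ
      · haveI : Subsingleton ((skyFam V ζ).presheaf.stalk x) := subsingleton_stalk_sky fun hs =>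
          hζ (CycLib.eq_of_delta_le hd hs (by rw [hSk _ ζ.2, hx]))
        exact Subsingleton.elim _ _
  by_cases hxS : x ∈ S
  · refine ⟨fun a b h => (hb ⟨x, hxS⟩).1 (by simp only [stk_comp, h]), fun w => ?_⟩
    obtain ⟨t, ht⟩ := (hb ⟨x, hxS⟩).2
      (evalAt (specializes_refl x) (V ⟨x, hxS⟩) (stk (proj (skyFam V) ⟨x, hxS⟩) x w))
    refine ⟨t, hext _ _ fun ζ hζ => ?_⟩
    obtain rfl : ζ = ⟨x, hxS⟩ := Subtype.ext hζ
    rw [← stk_comp]
    exact evalAt_injective (specializes_refl x) ht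
  · haveI := h0 x hx hxS
    exact ⟨fun a b _ => Subsingleton.elim _ _, fun w => ⟨0, hext _ _ fun ζ hζ =>
      absurd (hζ ▸ ζ.2) hxS⟩⟩

variable (α : X → ℤ)

/-- The map from the sheaf of a cycle given by vectors. -/
theorem exists_vecMap (hd : Cyc.IsDimFun X δ) {k : ℤ} (hα : ∀ x, 0 < α x → δ x = k)
    (V : (ζ : {x : X | 0 < α x}) → ModuleCat.{u} (X.presheaf.stalk ζ.1))
    (hkill : ∀ ζ : {x : X | 0 < α x}, ∀ a ∈ IsLocalRing.maximalIdeal (X.presheaf.stalk ζ.1), ∀ w : V ζ, a • w = 0)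
    (v : ∀ ζ : {x : X | 0 < α x}, Fin (α ζ.1).toNat → V ζ)
    (hv₁ : ∀ ζ : {x : X | 0 < α x}, ∀ c : Fin (α ζ.1).toNat → X.presheaf.stalk ζ.1, ∑ t, c t • v ζ t = 0 →
      ∀ t, c t ∈ IsLocalRing.maximalIdeal (X.presheaf.stalk ζ.1))
    (hv₂ : ∀ ζ : {x : X | 0 < α x}, ∀ w : V ζ, ∃ c : Fin (α ζ.1).toNat → X.presheaf.stalk ζ.1, ∑ t, c t • v ζ t = w) :
    ∃ g : Cyc.cycleSheafPos α ⟶ ∐ skyFam V, ∀ ζ : {x : X | 0 < α x},
      Function.Bijective fun t : (Cyc.cycleSheafPos α).presheaf.stalk ζ.1 =>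
        evalAt (specializes_refl ζ.1) (V ζ) (stk (g ≫ proj (skyFam V) ζ) ζ.1 t) := by
  classical
  choose φ hφ using fun p : (Σ ζ : {x : X // 0 < α x}, Fin (α ζ.1).toNat) =>
    exists_vecLin (ξ := p.1.1) (V p.1) (v p.1 p.2) fun a ha => hkill p.1 a ha _
  refine ⟨Sigma.desc fun p : (Σ ζ : {x : X // 0 < α x}, Fin (α ζ.1).toNat) =>
    toSky (φ p) ≫ Sigma.ι (skyFam V) p.1, ?_⟩
  rintro ⟨x, hαx⟩
  let e : Fin (α x).toNat → Σ ζ : {x : X // 0 < α x}, Fin (α ζ.1).toNat := fun t => ⟨⟨x, hαx⟩, t⟩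
  have he : Function.Injective e := fun a b h => by cases h; rfl
  have rep : ∀ a : (Cyc.cycleSheafPos α).presheaf.stalk x, ∃ c : Fin (α x).toNat → X.presheaf.stalk x,
      a = ∑ t, stk (Sigma.ι (posFam α) (e t)) x (c t • gen x x) := fun a => by
    have h := stalk_sum (posFam α) x (Finset.univ.image e) (fun p hp => by
      obtain ⟨⟨z, hz⟩, t⟩ := p
      obtain rfl : z = x := CycLib.eq_of_delta_le hd (specializes_of_nontrivial_closure hp)
        (by rw [hα z hz, hα x hαx])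
      exact Finset.mem_image.2 ⟨t, Finset.mem_univ _, rfl⟩) a
    rw [Finset.sum_image he.injOn] at h
    choose c hc using fun t => exists_smul_gen (x := x) x (stk (proj (posFam α) (e t)) x a)
    exact ⟨c, h.trans (Finset.sum_congr rfl fun t _ => congrArg _ (hc t).symm)⟩
  have val : ∀ c : Fin (α x).toNat → X.presheaf.stalk x,
      evalAt (specializes_refl x) (V ⟨x, hαx⟩) (stk ((Sigma.desc fun p =>
          toSky (φ p) ≫ Sigma.ι (skyFam V) p.1) ≫ proj (skyFam V) ⟨x, hαx⟩) x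
        (∑ t, stk (Sigma.ι (posFam α) (e t)) x (c t • gen x x))) = ∑ t, c t • v ⟨x, hαx⟩ t := fun c => by
    simp only [map_sum]
    refine Finset.sum_congr rfl fun t _ => ?_
    rw [← stk_comp, Sigma.ι_desc_assoc, Category.assoc]
    show evalAt _ _ (stk (toSky (φ (e t)) ≫ Sigma.ι (skyFam V) ⟨x, hαx⟩ ≫ proj (skyFam V) ⟨x, hαx⟩) x _) = _
    rw [ι_proj_self, Category.comp_id, evalAt_toSky_gen, hφ, TopCat.Presheaf.stalkSpecializes_refl]
    rfl
  refine ⟨fun a b hab => ?_, fun w => ?_⟩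
  · obtain ⟨c, rfl⟩ := rep a
    obtain ⟨d, rfl⟩ := rep b
    have h0 := (val c).symm.trans (hab.trans (val d))
    refine Finset.sum_congr rfl fun t _ => congrArg _ ?_
    rw [← sub_eq_zero, ← sub_smul]
    refine smul_gen_eq_zero (specializes_refl x) _ ?_
    rw [TopCat.Presheaf.stalkSpecializes_refl]
    refine hv₁ ⟨x, hαx⟩ (fun t => c t - d t) ?_ t
    simp only [sub_smul, Finset.sum_sub_distrib, h0, sub_self]
  · obtain ⟨c, hc⟩ := hv₂ ⟨x, hαx⟩ w
    exact ⟨_, (val c).trans hc⟩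

end SkyFam

/-- A module killed by a reduced ideal is equivalent to its cycle. -/
theorem tK_eq_pos_killed (hd : Cyc.IsDimFun X δ) {k : ℤ} {Z : Scheme.{u}} (i : Z ⟶ X)
    [IsClosedImmersion i] [IsReduced Z] (hZ : ∀ x ∈ Set.range i, δ x ≤ k) {G : X.Modules}
    (hG : Coh.IsCoh G) (hk : KZ.ClosedDev.Killed i G) :
    Cyc.toK0CohQuot δ k (k - 1) G =
      Cyc.toK0CohQuot δ k (k - 1) (Cyc.cycleSheafPos (Cyc.sheafFun δ k G)) := by
  classical
  have hGle : Cyc.CohLe δ k G := ⟨hG, fun x hx => hZ x (K0Adic.mem_range_of_killed i hG.1 hk hx)⟩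
  generalize hα : Cyc.sheafFun δ k G = α
  have hdim : ∀ x, 0 < α x → δ x = k := fun x h =>
    (nontrivial_of_sheafFun (F := G) (by rw [hα]; exact h.ne')).1
  have hS : LFPts {x | 0 < α x} := (lfPts_sheafFun hd hGle).mono fun x h => by
    rw [Function.mem_support, hα]
    exact ne_of_gt h
  have hkill : ∀ ζ : {x : X | 0 < α x}, ∀ a ∈ IsLocalRing.maximalIdeal (X.presheaf.stalk ζ.1),
      ∀ v : G.presheaf.stalk ζ.1, a • v = 0 := fun ζ a ha v => by
    have hn := (nontrivial_of_sheafFun (δ := δ) (k := k) (F := G) (x := ζ.1)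
      (by rw [hα]; exact ne_of_gt ζ.2)).2
    exact smul_eq_zero_of_killed i hk (K0Adic.mem_range_of_killed i hG.1 hk hn) (fun η hη h =>
      CycLib.eq_of_delta_le hd h ((hZ η hη).trans (hdim _ ζ.2).ge)) a ha v
  have hv : ∀ ζ : {x : X | 0 < α x}, ∃ v : Fin (α ζ.1).toNat → G.presheaf.stalk ζ.1,
      (∀ c : Fin (α ζ.1).toNat → X.presheaf.stalk ζ.1, ∑ t, c t • v t = 0 →
          ∀ t, c t ∈ IsLocalRing.maximalIdeal (X.presheaf.stalk ζ.1)) ∧
        ∀ w, ∃ c : Fin (α ζ.1).toNat → X.presheaf.stalk ζ.1, ∑ t, c t • v t = w := fun ζ => by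
    haveI := QCoh.finite_stalk_of_isFT hG.1 hG.2 ζ.1
    have e : (Module.length (X.presheaf.stalk ζ.1) (G.presheaf.stalk ζ.1)).toNat = (α ζ.1).toNat := by
      have h := congrFun hα ζ.1
      rw [Cyc.sheafFun, if_pos (hdim _ ζ.2)] at h
      omega
    rw [← e]
    exact exists_vecs (hkill ζ)
  choose v hv₁ hv₂ using hv
  let V : (ζ : {x : X | 0 < α x}) → ModuleCat.{u} (X.presheaf.stalk ζ.1) :=
    fun ζ => ModuleCat.of _ (G.presheaf.stalk ζ.1)
  have hWq : Coh.IsQCoh (∐ skyFam V) :=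
    isQCoh_coprod fun ζ => isQCoh_sky_of_killed fun a ha w => hkill ζ a ha w
  obtain ⟨η, hη⟩ := exists_lift (lf_skyFam V hS)
    (fun ζ : {x : X | 0 < α x} => toSky (N := V ζ) (LinearMap.id))
  obtain ⟨g, hg⟩ := exists_vecMap α hd hdim V hkill v hv₁ hv₂
  have h0G : ∀ x, δ x = k → x ∉ {x : X | 0 < α x} → Subsingleton (G.presheaf.stalk x) := fun x hx hn => by
    refine not_nontrivial_iff_subsingleton.1 fun hN => hn ?_
    show 0 < α x
    rw [← hα, Cyc.sheafFun, if_pos hx]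
    have h1 : Module.length (X.presheaf.stalk x) (G.presheaf.stalk x) ≠ 0 := Module.length_pos.ne'
    have h2 := (length_lt_top hd hGle hx).ne
    have : (Module.length (X.presheaf.stalk x) (G.presheaf.stalk x)).toNat ≠ 0 := fun h =>
      (ENat.toNat_eq_zero.1 h).elim h1 h2
    omega
  refine tK_eq_of_common η g hGle (cohLe_pos α hd hS fun x h => (hdim x h).le) hWq
    (bijective_skyFam V hd hdim η (fun ζ => ?_) h0G) (bijective_skyFam V hd hdim g hg fun x hx hn => ?_)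
  · convert Function.bijective_id using 1
    funext t
    rw [hη ζ, evalAt_toSky]
    show (G.presheaf.stalkSpecializes (specializes_refl ζ.1)).hom t = t
    rw [TopCat.Presheaf.stalkSpecializes_refl]
    rfl
  · refine not_nontrivial_iff_subsingleton.1 fun hN => hn ?_
    obtain ⟨p, hp⟩ := nontrivial_coprod _ hN
    obtain rfl : p.1.1 = x := CycLib.eq_of_delta_le hd (specializes_of_nontrivial_closure hp)
      (by rw [hdim _ p.1.2, hx])
    exact p.1.2

/-- The cycle map on `K₀`. -/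
theorem exists_psi (hd : Cyc.IsDimFun X δ) (k : ℤ) :
    ∃ ψ : Cyc.K0CohQuot δ k (k - 1) →+ (X → ℤ),
      ∀ F, Cyc.CohLe δ k F → ψ (Cyc.toK0CohQuot δ k (k - 1) F) = Cyc.sheafFun δ k F := by
  obtain ⟨f, hf⟩ := KZ.exists_liftSub (Cyc.CohLe δ k) (Cyc.sheafFun δ k) fun S hS a b c =>
    CycLib.sheafFun_shortExact hd hS a.1 b.1 c.1 b.2
  refine ⟨QuotientAddGroup.lift _ f ((AddSubgroup.closure_le _).2 ?_), fun F hF => hf F hF⟩
  rintro _ ⟨F, hF, rfl⟩
  show f _ = 0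
  rw [hf F (cohLe_mono (by omega) hF)]
  funext x
  by_contra h
  obtain ⟨hx, hn⟩ := nontrivial_of_sheafFun h
  have := hF.2 x hn
  omega

/-- A coherent module is equivalent to its cycle. -/
theorem tK_eq_pos (hd : Cyc.IsDimFun X δ) {k : ℤ} {F : X.Modules} (hF : Cyc.CohLe δ k F) :
    Cyc.toK0CohQuot δ k (k - 1) F =
      Cyc.toK0CohQuot δ k (k - 1) (Cyc.cycleSheafPos (Cyc.sheafFun δ k F)) := by
  let T : TopologicalSpace.Closeds X := ⟨_, CycLib.isClosed_nontrivial F hF.1⟩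
  let i := (Scheme.IdealSheafData.vanishingIdeal T).subschemeι
  have hr : Set.range i = {x : X | Nontrivial (F.presheaf.stalk x)} := H23.RedSub.range_vanishingIdeal _
  have hsupp : ∀ x : X, Nontrivial (F.presheaf.stalk x) → x ∈ Set.range i := fun x hx => hr.ge hx
  have hP := cohClosed_cohLe δ k
  let Fl := K0Adic.adic i hF.1 hsupp
  have hgood := K0Adic.adic_good i hF.1 hsupp
  have hZ : ∀ x ∈ Set.range i, δ x ≤ k := fun x hx => hF.2 x (hr.le hx)
  have hG : K0Adic.KilledCoh i Fl.grSum := (K0Adic.cohClosed_killed i).sigma Fl.lf_gr fun p => hgood p.2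
  have hGle : Cyc.CohLe δ k Fl.grSum :=
    ⟨hG.1, fun x hx => hZ x (K0Adic.mem_range_of_killed i hG.1.1 hG.2 hx)⟩
  have e : Cyc.toK0CohQuot δ k (k - 1) F = Cyc.toK0CohQuot δ k (k - 1) Fl.grSum :=
    tK_of_cl_eq (Fl.cl_grSum hP hF)
  obtain ⟨ψ, hψ⟩ := exists_psi hd k
  have hs : Cyc.sheafFun δ k F = Cyc.sheafFun δ k Fl.grSum := by rw [← hψ F hF, e, hψ _ hGle]
  haveI : IsReduced (Scheme.IdealSheafData.vanishingIdeal T).subscheme := inferInstance
  rw [e, hs]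
  exact tK_eq_pos_killed hd i hZ hG.1 hG.2

/-- Modules with the same cycle have the same class. -/
theorem tK_eq_of_sheafFun (hd : Cyc.IsDimFun X δ) {k : ℤ} {F G : X.Modules} (hF : Cyc.CohLe δ k F)
    (hG : Cyc.CohLe δ k G) (h : Cyc.sheafFun δ k F = Cyc.sheafFun δ k G) :
    Cyc.toK0CohQuot δ k (k - 1) F = Cyc.toK0CohQuot δ k (k - 1) G := by
  rw [tK_eq_pos hd hF, tK_eq_pos hd hG, h]

/-- Every element is a difference of two classes. -/
theorem exists_sub (δ : X → ℤ) (a b : ℤ) (x : Cyc.K0CohQuot δ a b) :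
    ∃ F G, Cyc.CohLe δ a F ∧ Cyc.CohLe δ a G ∧
      x = Cyc.toK0CohQuot δ a b F - Cyc.toK0CohQuot δ a b G := by
  have hP := cohClosed_cohLe δ a
  obtain ⟨O, hO, hO'⟩ := hP.exists_zero
  have hadd : ∀ {A B}, Cyc.CohLe δ a A → Cyc.CohLe δ a B → Cyc.CohLe δ a (A ⊞ B) ∧
      Cyc.toK0CohQuot δ a b (A ⊞ B) = Cyc.toK0CohQuot δ a b A + Cyc.toK0CohQuot δ a b B := by
    intro A B hA hB
    have hs := (ShortComplex.Splitting.ofHasBinaryBiproduct A B).shortExact
    let T : ULift.{u} Bool → X.Modules := fun c => bif c.down then A else B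
    let g : ∐ T ⟶ A ⊞ B := Sigma.desc fun c => match c with
      | ⟨true⟩ => biprod.inl
      | ⟨false⟩ => biprod.inr
    haveI : Epi g := ⟨fun f f' h => biprod.hom_ext' _ _
      ((Sigma.ι_desc_assoc (f := T) _ ⟨true⟩ f).symm.trans
        ((Sigma.ι T ⟨true⟩ ≫= h).trans (Sigma.ι_desc_assoc (f := T) _ ⟨true⟩ f')))
      ((Sigma.ι_desc_assoc (f := T) _ ⟨false⟩ f).symm.trans
        ((Sigma.ι T ⟨false⟩ ≫= h).trans (Sigma.ι_desc_assoc (f := T) _ ⟨false⟩ f')))⟩
    have hAB : Cyc.CohLe δ a (A ⊞ B) := hP.quot g (QCoh.isQCoh_X₂ hs hA.1.1 hB.1.1)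
      (hP.sigma (lf_of_finite T) fun c => by
        rcases c with ⟨_ | _⟩
        · exact hB
        · exact hA)
    exact ⟨hAB, tK_ses hs hA hAB hB⟩
  have h0 : Cyc.toK0CohQuot δ a b O = 0 := by
    simp [Cyc.toK0CohQuot, KZ.clSub_isZero (Cyc.CohLe δ a) hO]
  refine QuotientAddGroup.induction_on x fun y => QuotientAddGroup.induction_on y fun z => ?_
  induction z using FreeAbelianGroup.induction_on with
  | zero => exact ⟨O, O, hO', hO', by simp⟩
  | of F => exact ⟨F.1, O, F.2, hO', by rw [h0, sub_zero, Cyc.toK0CohQuot, KZ.clSub_of_prop _ F.2]⟩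
  | neg F hF =>
    obtain ⟨A, B, hA, hB, e⟩ := hF
    exact ⟨B, A, hB, hA, by rw [QuotientAddGroup.mk_neg, QuotientAddGroup.mk_neg, e, neg_sub]⟩
  | add z w hz hw =>
    obtain ⟨A, B, hA, hB, e⟩ := hz
    obtain ⟨A', B', hA', hB', e'⟩ := hw
    refine ⟨A ⊞ A', B ⊞ B', (hadd hA hA').1, (hadd hB hB').1, ?_⟩
    rw [QuotientAddGroup.mk_add, QuotientAddGroup.mk_add, e, e', (hadd hA hA').2, (hadd hB hB').2]
    abel

theorem psi_injective (hd : Cyc.IsDimFun X δ) {k : ℤ} {ψ : Cyc.K0CohQuot δ k (k - 1) →+ (X → ℤ)}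
    (hψ : ∀ F, Cyc.CohLe δ k F → ψ (Cyc.toK0CohQuot δ k (k - 1) F) = Cyc.sheafFun δ k F) :
    Function.Injective ψ := by
  refine (injective_iff_map_eq_zero _).2 fun x hx => ?_
  obtain ⟨F, G, hF, hG, rfl⟩ := exists_sub δ k (k - 1) x
  rw [map_sub, hψ F hF, hψ G hG, sub_eq_zero] at hx
  rw [tK_eq_of_sheafFun hd hF hG hx, sub_self]

/-- The class of a cycle has the cycle as image. -/
theorem sheafFun_pos_sub_neg (hd : Cyc.IsDimFun X δ) {k : ℤ} (α : X → ℤ)
    (hk : ∀ x, α x ≠ 0 → δ x = k) :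
    Cyc.sheafFun δ k (Cyc.cycleSheafPos α) - Cyc.sheafFun δ k (Cyc.cycleSheafNeg α) = α := by
  rw [Cyc.cycleSheafNeg, sheafFun_pos α hd fun x h => hk x h.ne',
    sheafFun_pos (-α) hd fun x h => hk x fun h0 => by simp [h0] at h]
  funext x
  simp only [Pi.sub_apply, Pi.neg_apply]
  rcases le_total (α x) 0 with h | h
  · rw [max_eq_right h, max_eq_left (neg_nonneg.2 h)]
    simp
  · rw [max_eq_left h, max_eq_right (neg_nonpos.2 h)]
    simp

theorem cohLe_cyclePosNeg (hd : Cyc.IsDimFun X δ) {k : ℤ} (α : AlgebraicCycle X ℤ) (hα : α ∈ Cyc.Zk X δ k) :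
    Cyc.CohLe δ k (Cyc.cycleSheafPos ⇑α) ∧ Cyc.CohLe δ k (Cyc.cycleSheafNeg ⇑α) := by
  have hk : ∀ x, α x ≠ 0 → δ x ≤ k := fun x h => (by_contra fun hne => h (hα x hne) : δ x = k).le
  refine ⟨cohLe_pos _ hd ((lfPts_cycle α).mono fun x h => ne_of_gt h) fun x h => hk x h.ne',
    cohLe_pos _ hd ((lfPts_cycle α).mono fun x (h : 0 < -(α x)) => by
      show α x ≠ 0
      omega) fun x (h : 0 < -(α x)) => hk x (by omega)⟩

/-- The classes of `k`-cycles are the classes in `K₀(Coh_{≤k}/Coh_{≤k-1})`. -/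
theorem exists_equiv_cycles (hd : Cyc.IsDimFun X δ) (k : ℤ) :
    ∃ ψ : Cyc.K0CohQuot δ k (k - 1) →+ (X → ℤ),
      (∀ F : X.Modules, Cyc.CohLe δ k F → ψ (Cyc.toK0CohQuot δ k (k - 1) F) = Cyc.sheafFun δ k F) ∧
      Function.Injective ψ ∧
      Set.range ψ = {a | ∃ α : AlgebraicCycle X ℤ, α ∈ Cyc.Zk X δ k ∧ ⇑α = a} := by
  obtain ⟨ψ, hψ⟩ := exists_psi hd k
  refine ⟨ψ, hψ, psi_injective hd hψ, Set.ext fun a => ⟨?_, ?_⟩⟩
  · rintro ⟨x, rfl⟩
    obtain ⟨F, G, hF, hG, rfl⟩ := exists_sub δ k (k - 1) x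
    rw [map_sub, hψ F hF, hψ G hG]
    refine ⟨⟨_, fun _ _ => Set.mem_univ _, fun z _ => ?_⟩, fun x hx => ?_, rfl⟩
    · obtain ⟨U, hU, hUf⟩ := P1Fam.locFin_sheafFun hd hF.1 hF.2 z
      obtain ⟨U', hU', hUf'⟩ := P1Fam.locFin_sheafFun hd hG.1 hG.2 z
      refine ⟨U ∩ U', Filter.inter_mem hU hU', (hUf.union hUf').subset ?_⟩
      rintro y ⟨⟨hy, hy'⟩, h⟩
      by_cases h0 : Cyc.sheafFun δ k F y = 0
      · refine Or.inr ⟨hy', fun h1 => h ?_⟩
        show Cyc.sheafFun δ k F y - Cyc.sheafFun δ k G y = 0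
        rw [h0, h1, sub_zero]
      · exact Or.inl ⟨hy, h0⟩
    · show Cyc.sheafFun δ k F x - Cyc.sheafFun δ k G x = 0
      simp [Cyc.sheafFun, hx]
  · rintro ⟨α, hα, rfl⟩
    refine ⟨Cyc.toK0CohQuot δ k (k - 1) (Cyc.cycleSheafPos ⇑α) -
      Cyc.toK0CohQuot δ k (k - 1) (Cyc.cycleSheafNeg ⇑α), ?_⟩
    obtain ⟨h₁, h₂⟩ := cohLe_cyclePosNeg hd α hα
    rw [map_sub, hψ _ h₁, hψ _ h₂]
    exact sheafFun_pos_sub_neg hd ⇑α fun x h => by_contra fun hne => h (hα x hne)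

end Groth.Agent.H23.CycleClassK
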