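import Groth.Agent.H23.InterStalk
import Groth.Agent.CycLib.Supp
import Groth.Agent.H23.CycleClassK

/-!
# The intersection product of the cycles of two coherent sheaves
-/

set_option autoImplicit false
set_option linter.style.haveILetI false
set_option backward.isDefEq.respectTransparency.types false

universe u

open AlgebraicGeometry CategoryTheory CategoryTheory.Limits IsLocalRing TopologicalSpace

namespace Groth.Agent.H23.InterSheaf

open Groth.Agent CDiv6 ChiAdd

variable {X : Scheme.{u}}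

theorem nontrivial_of_specializes {F : X.Modules} (hF : Coh.IsCoh F) {y ζ : X} (h : y ⤳ ζ)
    (hy : Nontrivial (F.presheaf.stalk y)) : Nontrivial (F.presheaf.stalk ζ) :=
  h.mem_closed (CycLib.isClosed_nontrivial F hF) hy

theorem nontrivial_of_mem_support {F : X.Modules} (hF : Coh.IsQCoh F) {y ζ : X} (h : y ⤳ ζ)
    (hy : primeOf h ∈ Module.support (X.presheaf.stalk ζ) (F.presheaf.stalk ζ)) :
    Nontrivial (F.presheaf.stalk y) := by
  rw [Module.mem_support_iff] at hy
  rw [← not_subsingleton_iff_nontrivial]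
  intro hs
  have e := CapSheaf.length_stalk_eq hF h
  rw [Module.length_eq_zero (M := F.presheaf.stalk y), Module.length_eq_zero_iff] at e
  exact not_subsingleton (α := LocalizedModule (primeOf h).asIdeal.primeCompl (F.presheaf.stalk ζ)) e

variable {K : Type u} [Field K] [IsAlgClosed K] (f : X ⟶ Spec (CommRingCat.of K)) [Smooth f]
  [IsSeparated f] [IsIntegral X] {δ : X → ℤ} (hdim : Cyc.IsDimFun X δ)
  (hδ : Cyc.DeltaCompat f δ (fun _ => 0)) {n : ℤ}
  (hn : δ (genericPoint X) = n) {F G : X.Modules} (hF : Coh.IsCoh F) (hG : Coh.IsCoh G) {r s : ℤ}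
  (hr : ∀ x : X, Nontrivial (F.presheaf.stalk x) → δ x ≤ r)
  (hs : ∀ x : X, Nontrivial (G.presheaf.stalk x) → δ x ≤ s)
  (hrs : ∀ x : X, Nontrivial (F.presheaf.stalk x) → Nontrivial (G.presheaf.stalk x) → δ x ≤ r + s - n)

include hF hG hrs in
omit [IsAlgClosed K] [IsIntegral X] in
theorem intersectProperly :
    IntMult.IntersectProperly δ n (Cyc.sheafFun δ r F) (Cyc.sheafFun δ s G) := by
  intro ξ η ζ hξ hη hξζ hηζ
  have h1 : δ ξ = r := by
    by_contra h
    exact hξ (if_neg h)
  have h2 : δ η = s := by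
    by_contra h
    exact hη (if_neg h)
  rw [h1, h2]
  exact hrs ζ (nontrivial_of_specializes hF hξζ (CycleClassK.nontrivial_of_sheafFun hξ).2)
    (nontrivial_of_specializes hG hηζ (CycleClassK.nontrivial_of_sheafFun hη).2)

include f hdim hδ hn hF hG hr hs hrs in
theorem interProd_sheafFun (ζ : X) :
    IntMult.interProd δ n (Cyc.sheafFun δ r F) (Cyc.sheafFun δ s G) ζ =
      if δ ζ = r + s - n then IntMult.chi ↑(X.presheaf.stalk ζ) ↑(F.presheaf.stalk ζ) ↑(G.presheaf.stalk ζ) else 0 := by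
  haveI : IsLocallyNoetherian X := LocallyOfFiniteType.isLocallyNoetherian f
  have hzero : (∀ y : X, y ⤳ ζ → Cyc.sheafFun δ r F y = 0) ∨ (∀ y : X, y ⤳ ζ → Cyc.sheafFun δ s G y = 0) ∨
      δ ζ ≠ r + s - n → IntMult.interProd δ n (Cyc.sheafFun δ r F) (Cyc.sheafFun δ s G) ζ = 0 := by
    intro h
    refine finsum_eq_zero_of_forall_eq_zero fun ⟨⟨y, z⟩, hy, hz, hyz⟩ => ?_
    show Cyc.sheafFun δ r F y * Cyc.sheafFun δ s G z * _ = 0
    rcases h with h | h | h
    · rw [h y hy, zero_mul, zero_mul]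
    · rw [h z hz, mul_zero, zero_mul]
    · by_cases h1 : δ y = r
      · by_cases h2 : δ z = s
        · exact absurd (by simp only at hyz; omega) h
        · rw [show Cyc.sheafFun δ s G z = 0 from if_neg h2, mul_zero, zero_mul]
      · rw [show Cyc.sheafFun δ r F y = 0 from if_neg h1, zero_mul, zero_mul]
  split_ifs with hζ
  swap
  · exact hzero (Or.inr (Or.inr hζ))
  haveI := GrpSchLib.isRegularLocalRing_stalk_of_smooth f ζ
  haveI := QCoh.finite_stalk_of_isFT hF.1 hF.2 ζ
  haveI := QCoh.finite_stalk_of_isFT hG.1 hG.2 ζ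
  rcases subsingleton_or_nontrivial (F.presheaf.stalk ζ) with hFζ | hFζ
  · rw [chi_eq_zero_of_subsingleton]
    refine hzero (Or.inl fun y hy => ?_)
    by_contra h
    exact not_subsingleton_iff_nontrivial.2 (nontrivial_of_specializes hF hy (CycleClassK.nontrivial_of_sheafFun h).2) hFζ
  rcases subsingleton_or_nontrivial (G.presheaf.stalk ζ) with hGζ | hGζ
  · rw [KoszulTor.chi_comm, chi_eq_zero_of_subsingleton]
    refine hzero (Or.inr (Or.inl fun y hy => ?_))
    by_contra h
    exact not_subsingleton_iff_nontrivial.2 (nontrivial_of_specializes hG hy (CycleClassK.nontrivial_of_sheafFun h).2) hGζ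
  refine (InterStalk.chi_eq_interProd f hδ hn ζ (F.presheaf.stalk ζ) (G.presheaf.stalk ζ) r s hζ.symm
    (hr ζ hFζ) (hs ζ hGζ) _ _ (fun y h => ?_) (fun y h => ?_) (fun y h hy => hr y (nontrivial_of_mem_support hF.1 h hy))
    (fun y h hy => hs y (nontrivial_of_mem_support hG.1 h hy)) fun y h hy hy' => ?_).symm
  · rw [Cyc.sheafFun, lenAt, CapSheaf.length_stalk_eq hF.1 h]
  · rw [Cyc.sheafFun, lenAt, CapSheaf.length_stalk_eq hG.1 h]
  · exact CycLib.eq_of_delta_le hdim h (hζ ▸ hrs y (nontrivial_of_mem_support hF.1 h hy)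
      (nontrivial_of_mem_support hG.1 h hy'))

end Groth.Agent.H23.InterSheaf
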