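import Groth.Agent.H23.SemiLocTor
import Groth.Agent.H23.FinPush
import Groth.Agent.H23.InterSheaf
import Groth.Agent.H23.InterBilin
import Groth.Agent.H23.GraphFlat
import Groth.Agent.CycLib.DivMap

/-!
# The projection formula for a proper flat morphism, prime by prime
-/

set_option autoImplicit false
set_option linter.style.haveILetI false
set_option backward.isDefEq.respectTransparency.types false

universe u

open AlgebraicGeometry CategoryTheory IsLocalRing TopologicalSpace
open scoped TensorProduct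

namespace Groth.Agent.H23.ProjFormula

open Groth.Agent CDiv6 ChiAdd

variable {X Y Z : Scheme.{u}}

/-- The Euler characteristic of a closed subscheme and a pulled back sheaf, over the base. -/
theorem chi_pullback_stalk (i : Z ⟶ X) [IsClosedImmersion i] (f : X ⟶ Y) [Flat f] (G : Y.Modules) {ζ : Y} {z : Z}
    (h : f (i z) = ζ) [instA : Algebra (Y.presheaf.stalk ζ) (X.presheaf.stalk (i z))]
    [Algebra (X.presheaf.stalk (i z)) (Z.presheaf.stalk z)]
    (hA : algebraMap (Y.presheaf.stalk ζ) (X.presheaf.stalk (i z)) = FinPush.stalkHom f h)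
    (hC : algebraMap (X.presheaf.stalk (i z)) (Z.presheaf.stalk z) = (i.stalkMap z).hom) :
    IntMult.chi (X.presheaf.stalk (i z)) (((Coh.push i).obj (Coh.structureModule Z)).presheaf.stalk (i z))
        (((Scheme.Modules.pullback f).obj G).presheaf.stalk (i z)) =
      IntMult.chi (X.presheaf.stalk (i z))
        (X.presheaf.stalk (i z) ⊗[Y.presheaf.stalk ζ] (G.presheaf.stalk ζ)) (Z.presheaf.stalk z) := by
  subst h
  rw [FinPush.stalkHom_refl] at hA
  obtain rfl : instA = (f.stalkMap (i z)).hom.toAlgebra :=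
    Algebra.algebra_ext _ _ fun a => RingHom.congr_fun hA a
  obtain ⟨eF⟩ := SpClosed.nonempty_quotEquiv i z
  have eG := ((KFlatLib.stalkPullbackIso f (i z)).app G).toLinearEquiv
  have hs : Function.Surjective (algebraMap (X.presheaf.stalk (i z)) (Z.presheaf.stalk z)) := by
    rw [hC]
    exact i.stalkMap_surjective z
  let e : (X.presheaf.stalk (i z) ⧸ RingHom.ker (i.stalkMap z).hom) ≃ₗ[X.presheaf.stalk (i z)] Z.presheaf.stalk z :=
    (Submodule.quotEquivOfEq _ _ (by rw [← hC]; rfl)).trans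
      (LinearMap.quotKerEquivOfSurjective (Algebra.linearMap (X.presheaf.stalk (i z)) (Z.presheaf.stalk z)) hs)
  rw [KoszulTor.chi_comm]
  exact InterPull.chi_congr_both eG (eF.trans e)

/-- A fibre without specialisations is finite. -/
theorem finite_fibre_of_antichain (g : Z ⟶ Y) [LocallyOfFiniteType g] [QuasiCompact g] [IsLocallyNoetherian Y] {ζ : Y}
    (hmax : ∀ a b, g a = ζ → g b = ζ → b ⤳ a → b = a) : (g ⁻¹' {ζ}).Finite := by
  haveI := DimFormula.isLocallyNoetherian_fiber g ζ
  haveI : CompactSpace ↥(g ⁻¹' {ζ}) := isCompact_iff_compactSpace.1 (g.isCompact_preimage_singleton ζ)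
  haveI : CompactSpace ↥(g.fiber ζ) := (g.fiberHomeo ζ).symm.compactSpace
  haveI : IsNoetherian (g.fiber ζ) := ⟨⟩
  have hfib : Finite ↥(g.fiber ζ) := CycLib.finite_of_forall_maximal fun a b hab =>
    (g.fiberι ζ).isEmbedding.injective (hmax _ _ (FibDim.fiber_apply_fiberι g a) (FibDim.fiber_apply_fiberι g b)
      (hab.map (g.fiberι ζ).continuous))
  exact Set.finite_coe_iff.1 ((g.fiberHomeo ζ).finite_iff.1 hfib)

/-- A proper morphism with finite fibre at a point is finite over an affine neighbourhood. -/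
theorem exists_affine_isFinite (g : Z ⟶ Y) [IsProper g] (ζ : Y) (h : (g ⁻¹' {ζ}).Finite) :
    ∃ V : Y.Opens, IsAffineOpen V ∧ ζ ∈ V ∧ IsFinite (g ∣_ V) := by
  obtain ⟨V, hyV, hVf⟩ := exists_isFinite_morphismRestrict_of_finite_preimage_singleton g ζ h
  obtain ⟨V', hV', hyV', hle⟩ := exists_isAffineOpen_mem_and_subset (x := ζ) (U := V) hyV
  refine ⟨V', hV', hyV', ?_⟩
  have := IsZariskiLocalAtTarget.restrict (P := @IsFinite) hVf (V.ι ⁻¹ᵁ V')
  refine (MorphismProperty.arrow_mk_iso_iff @IsFinite (morphismRestrictEq g ?_)).1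
    ((MorphismProperty.arrow_mk_iso_iff @IsFinite (morphismRestrictRestrict g V (V.ι ⁻¹ᵁ V'))).1 this)
  rw [Scheme.Hom.image_preimage_eq_opensRange_inf, Scheme.Opens.opensRange_ι, inf_eq_right.2 (show V' ≤ V from hle)]

section Push

variable (g : Z ⟶ Y) [QuasiCompact g] [QuasiSeparated g] {V : Y.Opens} (hV : IsAffineOpen V) [IsFinite (g ∣_ V)]

include hV in
theorem exists_point_of_nontrivial {y : Y} (hy : y ∈ V)
    (h : Nontrivial (((Coh.push g).obj (Coh.structureModule Z)).presheaf.stalk y)) : ∃ z, g z = y := by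
  by_contra hc
  obtain ⟨S, _, _, σ, -, -, -, -, hall, -, ⟨e⟩⟩ := FinPush.exists_semilocal g hV hy
  haveI : Subsingleton S := by
    by_contra hS
    haveI := not_subsingleton_iff_nontrivial.1 hS
    obtain ⟨M, hM⟩ := Ideal.exists_maximal S
    obtain ⟨z, -⟩ := hall M hM
    exact hc ⟨z.1, z.2⟩
  exact not_subsingleton_iff_nontrivial.2 h e.injective.subsingleton

include hV in
theorem length_stalk_push {η : Y} (hη : η ∈ V) {w : Z} (hw : g w = η) (huniq : ∀ z, g z = η → z = w)
    (hF : IsField (Z.presheaf.stalk w)) :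
    (Module.length (Y.presheaf.stalk η) (((Coh.push g).obj (Coh.structureModule Z)).presheaf.stalk η)).toNat =
      g.residueDegree w := by
  obtain ⟨S, _, _, σ, -, hσA, hloc, -, hall, hres, ⟨e⟩⟩ := FinPush.exists_semilocal g hV hη
  let C := Z.presheaf.stalk w
  letI : Algebra S C := (σ ⟨w, hw⟩).toAlgebra
  haveI := (hloc ⟨w, hw⟩).2
  have hu : ((maximalIdeal C).comap (σ ⟨w, hw⟩)).primeCompl ≤ IsUnit.submonoid S := fun s hs => by
    by_contra hu
    obtain ⟨M, hM, hsM⟩ := exists_max_ideal_of_mem_nonunits hu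
    obtain ⟨⟨z, hz⟩, hzM⟩ := hall M hM
    obtain rfl := huniq z hz
    exact hs (hzM.ge hsM)
  letI : Algebra (Y.presheaf.stalk η) C := (FinPush.stalkHom g hw).toAlgebra
  haveI : IsScalarTower (Y.presheaf.stalk η) S C := IsScalarTower.of_algebraMap_eq' (hσA ⟨w, hw⟩).symm
  haveI : IsLocalHom (algebraMap (Y.presheaf.stalk η) C) := FinPush.isLocalHom_stalkHom g hw
  let eC : S ≃ₗ[Y.presheaf.stalk η] C :=
    ((IsLocalization.atUnits S ((maximalIdeal C).comap (σ ⟨w, hw⟩)).primeCompl hu).restrictScalars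
      (Y.presheaf.stalk η)).toLinearEquiv
  have h1 : Module.length C C = 1 := by
    rw [Module.length_eq_one_iff]
    exact (isSimpleModule_iff _ _).2 (Ring.isField_iff_isSimpleOrder_ideal.1 hF)
  rw [(e.trans eC).length_eq, IsLocalRing.length_restrictScalars (Y.presheaf.stalk η) C C, h1, one_mul]
  exact FinPush.length_residueField g hw (hres ⟨w, hw⟩) rfl

end Push

section Pair

variable {K : Type u} [Field K] [IsAlgClosed K] (f : X ⟶ Y) [Flat f] [IsProper f]
  (gX : X ⟶ Spec (CommRingCat.of K)) (gY : Y ⟶ Spec (CommRingCat.of K)) [Smooth gX] [IsSeparated gX] [IsIntegral X]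
  [Smooth gY] [IsSeparated gY] [IsIntegral Y] {δX : X → ℤ} {δY : Y → ℤ} (hdX : Cyc.IsDimFun X δX)
  (hdY : Cyc.IsDimFun Y δY) (hδX : Cyc.DeltaCompat gX δX (fun _ => 0)) (hδY : Cyc.DeltaCompat gY δY (fun _ => 0))
  (hδ : Cyc.DeltaCompat f δX δY) {n m : ℤ} (hn : δX (genericPoint X) = n) (hm : δY (genericPoint Y) = m) {c : ℤ}
  (hc : c = n - m) (hle : ∀ x, δX x ≤ δY (f x) + c)

include gX gY hdX hdY hδX hδY hδ hn hm hc hle in
/-- The projection formula for two prime cycles at a point. -/
theorem pair {r s : ℤ} {x₀ : X} {y₀ : Y} (hx : δX x₀ = r) (hy : δY y₀ = s)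
    (hd : ∀ z, x₀ ⤳ z → y₀ ⤳ f z → δX z ≤ r + s - m) {ζ : Y} (hζ : δY ζ = r + s - m) (h1 : f x₀ ⤳ ζ)
    (h2 : y₀ ⤳ ζ) :
    (Function.support (fun z : X => IntMult.interProd δX n (Set.indicator {x₀} 1)
        (Cyc.pullFun f δX δY c (Set.indicator {y₀} 1)) z * (AlgebraicCycle.mapCoeff f δX δY z : ℤ)) ∩ f ⁻¹' {ζ}).Finite ∧
      IntMult.interProd δY m ((AlgebraicCycle.mapCoeff f δX δY x₀ : ℤ) • Set.indicator {f x₀} 1)
          (Set.indicator {y₀} 1) ζ =
        ∑ᶠ z ∈ f ⁻¹' {ζ}, IntMult.interProd δX n (Set.indicator {x₀} 1)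
          (Cyc.pullFun f δX δY c (Set.indicator {y₀} 1)) z * (AlgebraicCycle.mapCoeff f δX δY z : ℤ) := by
  classical
  haveI : IsLocallyNoetherian X := LocallyOfFiniteType.isLocallyNoetherian gX
  haveI : IsLocallyNoetherian Y := LocallyOfFiniteType.isLocallyNoetherian gY
  let i := (IntMult.ptIdeal x₀).subschemeι
  let Z₀ := (IntMult.ptIdeal x₀).subscheme
  haveI : IsIntegral Z₀ := QCoh.isIntegral_closure_point x₀
  let g : Z₀ ⟶ Y := i ≫ f
  haveI : IsProper g := inferInstanceAs (IsProper (i ≫ f))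
  have hgi : ∀ z, g z = f (i z) := fun z => rfl
  have hr0 : Set.range i = closure {x₀} := SkyPoint.range_ptIdeal x₀
  obtain ⟨w₀, hw₀⟩ : x₀ ∈ Set.range i := hr0 ▸ subset_closure rfl
  have hi : ∀ z, x₀ ⤳ i z := fun z => specializes_iff_mem_closure.2 (hr0 ▸ Set.mem_range_self z)
  have hgen : w₀ = genericPoint Z₀ := ((genericPoint_specializes w₀).antisymm
    (i.isEmbedding.isInducing.specializes_iff.1 ((specializes_of_eq hw₀).trans (hi (genericPoint Z₀))))).eq.symm
  have hpts : ∀ z, g z = ζ → δX (i z) = r + s - m := fun z hz => by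
    have e : f (i z) = ζ := hz
    refine le_antisymm (hd (i z) (hi z) (e.symm ▸ h2)) ?_
    have := CycLib.le_of_deltaCompat f hδ (i z)
    rwa [e, hζ] at this
  have hfin : (g ⁻¹' {ζ}).Finite := finite_fibre_of_antichain g fun a b ha hb hab => i.isEmbedding.injective
    (CycLib.eq_of_delta_le hdX (hab.map i.continuous) ((hpts a ha).trans (hpts b hb).symm).ge)
  obtain ⟨V, hV, hζV, hVfin⟩ := exists_affine_isFinite g ζ hfin
  have hηV : f x₀ ∈ V := h1.mem_open V.2 hζV
  have hres0 : (g.residueFieldMap w₀).hom.Finite := by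
    obtain ⟨S, _, _, σ, -, -, -, -, -, hres, -⟩ := FinPush.exists_semilocal g hV hηV
    exact hres ⟨w₀, congrArg f hw₀⟩
  have hη : δY (f x₀) = r := by
    have e1 : FibDim.rd f (i w₀) + FibDim.rd i w₀ = 0 :=
      (CycLib.rd_comp i f w₀).symm.trans (CycLib.rd_eq_zero_of_finite g w₀ hres0)
    have e2 := CycLib.deltaCompat_eq f hδ (i w₀)
    rw [hw₀] at e2 e1
    omega
  have hcoeff : AlgebraicCycle.mapCoeff f δX δY x₀ = g.residueDegree w₀ := by
    rw [AlgebraicCycle.mapCoeff, if_pos (hx.trans hη.symm), CycLib.residueDegree_comp i f w₀,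
      CycLib.residueDegree_preimmersion i w₀, mul_one, hw₀]
  let F := Cyc.closureStructureSheaf x₀
  let G := Cyc.closureStructureSheaf y₀
  let G' := (Scheme.Modules.pullback f).obj G
  let FY := (Coh.push g).obj (Coh.structureModule Z₀)
  have hFY : Coh.IsQCoh FY := QCoh.isQCoh_pushforward g QCoh.isQCoh_structureModule
  have hGdim : ∀ y : Y, Nontrivial (G.presheaf.stalk y) → δY y ≤ s := fun y h =>
    hy ▸ CycLib.delta_le hdY (SkyPoint.specializes_of_nontrivial_closure h)
  have hG : Coh.IsCoh G := SkyPoint.isCoh_closure y₀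
  have hF : Coh.IsCoh F := SkyPoint.isCoh_closure x₀
  have hIy : Set.indicator {y₀} 1 = Cyc.sheafFun δY s G := by rw [← hy, InterBilin.sheafFun_closure hdY]
  have hIx : Set.indicator {x₀} 1 = Cyc.sheafFun δX r F := by rw [← hx, InterBilin.sheafFun_closure hdX]
  have hFdim : ∀ x : X, Nontrivial (F.presheaf.stalk x) → δX x ≤ r := fun x h =>
    hx ▸ CycLib.delta_le hdX (SkyPoint.specializes_of_nontrivial_closure h)
  obtain ⟨hG'dim, hJ⟩ := FlatShift.sheafFun_pullback f δX δY hle s G hGdim
  have hX : ∀ z, IntMult.interProd δX n (Set.indicator {x₀} 1) (Cyc.pullFun f δX δY c (Set.indicator {y₀} 1)) z =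
      if δX z = r + s - m then IntMult.chi (X.presheaf.stalk z) (F.presheaf.stalk z) (G'.presheaf.stalk z) else 0 :=
    fun z => by
      rw [hIx, hIy, hJ, InterSheaf.interProd_sheafFun gX hdX hδX hn hF (ZClosLib.isCoh_pullback f hG) hFdim hG'dim
        (fun x a b => by
          have := hd x (SkyPoint.specializes_of_nontrivial_closure a)
            (SkyPoint.specializes_of_nontrivial_closure (FlatShift.nontrivial_of_pullback f G x b))
          omega) z, show r + (s + c) - n = r + s - m by omega]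
  haveI : Finite {z : Z₀ // g z = ζ} := hfin.to_subtype
  letI := Fintype.ofFinite {z : Z₀ // g z = ζ}
  let term : X → ℤ := fun z => IntMult.interProd δX n (Set.indicator {x₀} 1)
    (Cyc.pullFun f δX δY c (Set.indicator {y₀} 1)) z * (AlgebraicCycle.mapCoeff f δX δY z : ℤ)
  have hterm : Function.support term ∩ f ⁻¹' {ζ} ⊆ Set.range (fun z : {z : Z₀ // g z = ζ} => i z.1) := by
    rintro z ⟨hz, hzζ⟩
    have hne : Nontrivial (F.presheaf.stalk z) := by
      refine not_subsingleton_iff_nontrivial.1 fun hs => hz ?_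
      show _ * _ = (0 : ℤ)
      rw [hX z, chi_eq_zero_of_subsingleton, ite_self, zero_mul]
    obtain ⟨w, rfl⟩ : z ∈ Set.range i :=
      hr0 ▸ specializes_iff_mem_closure.1 (SkyPoint.specializes_of_nontrivial_closure hne)
    exact ⟨⟨w, hzζ⟩, rfl⟩
  refine ⟨(Set.finite_range _).subset hterm, ?_⟩
  have hsum : ∑ᶠ z ∈ f ⁻¹' {ζ}, term z = ∑ z : {z : Z₀ // g z = ζ}, term (i z.1) := by
    rw [← finsum_eq_sum_of_fintype, ← finsum_mem_range (f := term) (g := fun z : {z : Z₀ // g z = ζ} => i z.1)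
      (i.isEmbedding.injective.comp Subtype.val_injective)]
    refine finsum_mem_inter_support_eq' term _ _ fun z hz => ⟨fun h => hterm ⟨hz, h⟩, ?_⟩
    rintro ⟨w, rfl⟩
    exact w.2
  rw [hsum]
  haveI := GrpSchLib.isRegularLocalRing_stalk_of_smooth gY ζ
  let A := Y.presheaf.stalk ζ
  obtain ⟨S, _, _, σ, hSfin, hσA, hloc, hinj, hall, hres, ⟨e⟩⟩ := FinPush.exists_semilocal g hV hζV
  haveI : Module.Finite A S := hSfin
  haveI : Module.Finite A (FY.presheaf.stalk ζ) := Module.Finite.equiv e.symm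
  haveI := QCoh.finite_stalk_of_isFT hG.1 hG.2 ζ
  have hsuppF : ∀ (y : Y) (h : y ⤳ ζ), primeOf h ∈ Module.support A (FY.presheaf.stalk ζ) → ∃ z, g z = y :=
    fun y h hy' => exists_point_of_nontrivial g hV (h.mem_open V.2 hζV) (InterSheaf.nontrivial_of_mem_support hFY h hy')
  have hmeet : ∀ (y : Y) (h : y ⤳ ζ), primeOf h ∈ Module.support A (FY.presheaf.stalk ζ) →
      primeOf h ∈ Module.support A (G.presheaf.stalk ζ) → y = ζ := fun y h hyF hyG => by
    obtain ⟨z, rfl⟩ := hsuppF y h hyF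
    refine CycLib.eq_of_delta_le hdY h (hζ ▸ ?_)
    exact (CycLib.le_of_deltaCompat f hδ (i z)).trans (hd (i z) (hi z)
      (SkyPoint.specializes_of_nontrivial_closure (InterSheaf.nontrivial_of_mem_support hG.1 h hyG)))
  have hMeet : Meet (A := A) (G.presheaf.stalk ζ) S := fun p hp => by
    obtain ⟨y, hy', hyp⟩ := StalkPrimes.exists_point (x := ζ) p.asIdeal
    have hp' : primeOf hy' = p := PrimeSpectrum.ext hyp
    have hpG : p ∈ Module.support A (G.presheaf.stalk ζ) := by
      rw [Module.support_eq_zeroLocus]; exact le_sup_left.trans hp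
    have hpF : p ∈ Module.support A (FY.presheaf.stalk ζ) := by
      rw [Module.support_eq_zeroLocus, e.annihilator_eq]; exact le_sup_right.trans hp
    obtain rfl := hmeet y hy' (by rwa [hp']) (by rwa [hp'])
    rw [← hp']
    exact PrimeSpectrum.ext (ZeroSec.primeOf_refl' _)
  have hY : IntMult.chi A (FY.presheaf.stalk ζ) (G.presheaf.stalk ζ) = IntMult.interProd δY m
      ((AlgebraicCycle.mapCoeff f δX δY x₀ : ℤ) • Set.indicator {f x₀} 1) (Set.indicator {y₀} 1) ζ := by
    refine InterStalk.chi_eq_interProd gY hδY hm ζ _ _ r s hζ.symm (hη ▸ CycLib.delta_le hdY h1)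
      (hy ▸ CycLib.delta_le hdY h2) _ _ (fun y h => ?_) (fun y h => ?_) (fun y h hy' => ?_)
      (fun y h hy' => hGdim y (InterSheaf.nontrivial_of_mem_support hG.1 h hy')) hmeet
    · rw [lenAt, CapSheaf.length_stalk_eq hFY h]
      by_cases he : y = f x₀
      · subst he
        have huniq : ∀ z, g z = f x₀ → z = w₀ := fun z hz => by
          refine i.isEmbedding.injective ((CycLib.eq_of_delta_le hdX ((specializes_of_eq hw₀).trans (hi z)) ?_).symm)
          have := CycLib.le_of_deltaCompat f hδ (i z)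
          rw [show f (i z) = f x₀ from hz, hη] at this
          rw [hw₀, hx]
          exact this
        have hfld : IsField (Z₀.presheaf.stalk w₀) := by
          rw [hgen]
          exact Field.toIsField Z₀.functionField
        rw [if_pos hη, length_stalk_push g hV hηV (w := w₀) (congrArg f hw₀) huniq hfld]
        simp [hcoeff]
      · rw [Pi.smul_apply, Set.indicator_of_notMem (fun h' => he (Set.mem_singleton_iff.1 h')), smul_zero]
        split_ifs with hyr
        · haveI : Subsingleton (FY.presheaf.stalk y) := by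
            refine not_nontrivial_iff_subsingleton.1 fun hn' => he ?_
            obtain ⟨z, rfl⟩ := exists_point_of_nontrivial g hV (h.mem_open V.2 hζV) hn'
            exact (CycLib.eq_of_delta_le hdY ((hi z).map f.continuous) (by
              have hyr' : δY (f (i z)) = r := hyr
              rw [hη, hyr'])).symm
          rw [Module.length_eq_zero]
          simp
        · rfl
    · rw [hIy, Cyc.sheafFun, lenAt, CapSheaf.length_stalk_eq hG.1 h]
    · obtain ⟨z, rfl⟩ := hsuppF y h hy'
      exact hη ▸ CycLib.delta_le hdY ((hi z).map f.continuous)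
  rw [← hY, KoszulTor.chi_comm, ← InterPull.chi_congr_both (LinearEquiv.refl A (G.presheaf.stalk ζ)) e.symm]
  let B : {z : Z₀ // g z = ζ} → Type u := fun z => X.presheaf.stalk (i z.1)
  let C : {z : Z₀ // g z = ζ} → Type u := fun z => Z₀.presheaf.stalk z.1
  letI : ∀ z, CommRing (B z) := fun z => inferInstanceAs (CommRing (X.presheaf.stalk (i z.1)))
  letI : ∀ z, CommRing (C z) := fun z => inferInstanceAs (CommRing (Z₀.presheaf.stalk z.1))
  haveI : ∀ z, IsLocalRing (B z) := fun z => inferInstanceAs (IsLocalRing (X.presheaf.stalk (i z.1)))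
  haveI : ∀ z, IsLocalRing (C z) := fun z => inferInstanceAs (IsLocalRing (Z₀.presheaf.stalk z.1))
  letI : ∀ z, Algebra A (B z) := fun z => (FinPush.stalkHom f (show f (i z.1) = ζ from z.2)).toAlgebra
  letI : ∀ z, Algebra A (C z) := fun z => (FinPush.stalkHom g z.2).toAlgebra
  letI : ∀ z, Algebra S (C z) := fun z => (σ z).toAlgebra
  letI : ∀ z, Algebra (B z) (C z) := fun z => (i.stalkMap z.1).hom.toAlgebra
  haveI : ∀ z, IsScalarTower A S (C z) := fun z => IsScalarTower.of_algebraMap_eq' (hσA z).symm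
  haveI : ∀ z, IsScalarTower A (B z) (C z) := fun z =>
    IsScalarTower.of_algebraMap_eq' (FinPush.stalkHom_comp i f (show f (i z.1) = ζ from z.2))
  haveI : ∀ z, IsLocalHom (algebraMap A (B z)) := fun z =>
    FinPush.isLocalHom_stalkHom f (show f (i z.1) = ζ from z.2)
  haveI : ∀ z, Module.Flat A (B z) := fun z => FinPush.flat_stalkHom f (show f (i z.1) = ζ from z.2)
  let mI := fun z : {z : Z₀ // g z = ζ} => (maximalIdeal (C z)).comap (σ z)
  haveI : ∀ z, (mI z).IsMaximal := fun z => (hloc z).1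
  haveI : ∀ z, IsLocalization.AtPrime (C z) (mI z) := fun z => (hloc z).2
  rw [SemiLocTor.chi_eq_sum B C mI hinj hall (G.presheaf.stalk ζ) hMeet]
  refine Finset.sum_congr rfl fun z _ => ?_
  show _ = IntMult.interProd δX n _ _ (i z.1) * _
  have hzf : f (i z.1) = ζ := z.2
  rw [hX, if_pos (hpts z.1 z.2), mul_comm (IntMult.chi _ _ _)]
  congr 1
  · have hd0 : δX (i z.1) = δY (f (i z.1)) := by rw [hzf, hpts z.1 z.2, hζ]
    rw [AlgebraicCycle.mapCoeff, if_pos hd0, Nat.cast_inj]
    refine FinPush.length_residueField f hzf (CycLib.finite_residueFieldMap_of_rd_eq_zero f _ ?_) rfl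
    have := CycLib.deltaCompat_eq f hδ (i z.1)
    omega
  · exact (chi_pullback_stalk i f G hzf rfl rfl).symm

end Pair

end Groth.Agent.H23.ProjFormula
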