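import Groth.Agent.H23.FinPushMod
import Groth.Agent.H23.ProjFormula
import Groth.Agent.H23.SpClosed
import Groth.Agent.CycLib.Push
import Groth.Agent.CycLib.Supp
import Groth.Agent.QCoh.AnnIdeal
import Groth.Agent.QCoh.ClosedPush
import Groth.Agent.ExistEasy.PP.HatLemmas

/-!
# The cycle of a proper direct image of a coherent sheaf
-/

set_option autoImplicit false
set_option linter.style.haveILetI false
set_option backward.isDefEq.respectTransparency.types false

universe u

open AlgebraicGeometry CategoryTheory IsLocalRing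
open scoped TensorProduct

namespace Groth.Agent.H23.SheafPush

open Groth.Agent

variable {X Y : Scheme.{u}} {δX : X → ℤ} {δY : Y → ℤ}

/-- A coherent sheaf is a push-forward from the subscheme cut out by its annihilator. -/
theorem exists_closed_support [IsLocallyNoetherian X] (F : X.Modules) (hF : Coh.IsCoh F) :
    ∃ (W : Scheme.{u}) (i : W ⟶ X) (_ : IsClosedImmersion i) (F' : W.Modules),
      Coh.IsCoh F' ∧ Nonempty (F ≅ (Coh.push i).obj F') ∧
      (∀ x, x ∈ Set.range i ↔ Nontrivial (F.presheaf.stalk x)) := by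
  let I := QCoh.annIdeal hF.1 hF.2
  let i := I.subschemeι
  haveI : IsIso ((Scheme.Modules.pullbackPushforwardAdjunction i).unit.app F) :=
    (QCoh.isIso_unit_closed_iff i hF.1).2 fun U a ha s => by
      rw [Scheme.IdealSheafData.ker_subschemeι] at ha
      exact Module.mem_annihilator.1 (ha : a ∈ Module.annihilator Γ(X, U.1) Γ(F, U.1)) s
  refine ⟨_, i, inferInstance, (Scheme.Modules.pullback i).obj F, ZClosLib.isCoh_pullback i hF,
    ⟨(asIso ((Scheme.Modules.pullbackPushforwardAdjunction i).unit.app F) :)⟩, fun x => ?_⟩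
  rw [show Set.range i = CohB1.support F from I.range_subschemeι, ← CycLib.setOf_nontrivial]
  rfl

theorem map_sheafFun [IsLocallyNoetherian X] [IsLocallyNoetherian Y] (hdX : Cyc.IsDimFun X δX)
    (hdY : Cyc.IsDimFun Y δY) (f : X ⟶ Y) [IsProper f] (hδ : Cyc.DeltaCompat f δX δY) (k : ℤ) (F : X.Modules)
    (hF : Coh.IsCoh F) (hdim : ∀ x : X, Nontrivial (F.presheaf.stalk x) → δX x ≤ k) (α : AlgebraicCycle X ℤ)
    (hα : ⇑α = Cyc.sheafFun δX k F) :
    ⇑(AlgebraicCycle.map f δX δY α) = Cyc.sheafFun δY k ((Coh.push f).obj F) := by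
  classical
  funext η
  rw [CycLib.map_apply', hα]
  simp only [Cyc.sheafFun]
  by_cases hη : δY η = k
  swap
  · rw [if_neg hη]
    refine (finsum_congr fun x => finsum_congr fun hx => ?_).trans (by simp : ∑ᶠ (x : X) (_ : x ∈ f ⁻¹' {η}), (0 : ℤ) = 0)
    have hx' : f x = η := hx
    simp only [AlgebraicCycle.mapCoeff]
    split_ifs with h1 h2
    · exact absurd ((congrArg δY hx').symm.trans (h2.symm.trans h1)) hη
    all_goals simp
  rw [if_pos hη]
  obtain ⟨W, i, _, F', hF', ⟨e⟩, hrange⟩ := exists_closed_support F hF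
  haveI : IsLocallyNoetherian W := LocallyOfFiniteType.isLocallyNoetherian i
  let g : W ⟶ Y := i ≫ f
  haveI : IsProper g := inferInstanceAs (IsProper (i ≫ f))
  let FY := (Coh.push g).obj F'
  have eY : (Coh.push f).obj F ≅ FY :=
    (Coh.push f).mapIso e ≪≫ (Scheme.Modules.pushforwardComp i f).app F'
  rw [show Module.length (Y.presheaf.stalk η) (((Coh.push f).obj F).presheaf.stalk η) =
    Module.length (Y.presheaf.stalk η) (FY.presheaf.stalk η) from
      ((DerSch.stalkFunctor Y η).mapIso eY).toLinearEquiv.length_eq]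
  have hle : ∀ z : W, δY (g z) ≤ δX (i z) ∧ δX (i z) ≤ k := fun z =>
    ⟨CycLib.le_of_deltaCompat f hδ (i z), hdim _ ((hrange _).1 ⟨z, rfl⟩)⟩
  have hk : ∀ z : W, g z = η → δX (i z) = k := fun z hz => by
    have := hle z
    rw [hz, hη] at this
    omega
  have hfin : (g ⁻¹' {η}).Finite := ProjFormula.finite_fibre_of_antichain g fun a b ha hb hab =>
    i.isEmbedding.injective
      (CycLib.eq_of_delta_le hdX (hab.map i.continuous) ((hk a ha).trans (hk b hb).symm).ge)
  obtain ⟨V, hV, hηV, hVfin⟩ := ProjFormula.exists_affine_isFinite g η hfin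
  have hFfin : Module.Finite Γ(W, g ⁻¹ᵁ V) Γ(F', g ⁻¹ᵁ V) :=
    QCoh.finite_of_isFT hF'.1 hF'.2 (CycLib.finite_app_of_restrict g hV).1
  have hFY : Coh.IsCoh FY := ExistEasy.isCoh_pushforward_proper g hF'
  have hlen : Module.length (Y.presheaf.stalk η) (FY.presheaf.stalk η) < ⊤ := by
    refine CycLib.length_stalk_lt_top FY hFY fun y hy hyη => ?_
    obtain ⟨S, _, _, σ, -, -, -, -, hall, -, M, _, _, _, _, -, ⟨eM⟩, -⟩ :=
      FinPushMod.exists_semilocal_module g hV F' hF'.1 hFfin (hyη.mem_open V.2 hηV)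
    obtain ⟨z, hz⟩ : ∃ z, g z = y := by
      by_contra hc
      haveI : Subsingleton S := by
        by_contra hS
        haveI := not_subsingleton_iff_nontrivial.1 hS
        obtain ⟨m, hm⟩ := Ideal.exists_maximal S
        obtain ⟨z, -⟩ := hall m hm
        exact hc ⟨z.1, z.2⟩
      haveI : Subsingleton M := Module.subsingleton S M
      exact not_subsingleton_iff_nontrivial.2 hy eM.injective.subsingleton
    refine CycLib.eq_of_delta_le hdY hyη ?_
    have := hle z
    rw [hz] at this
    omega
  let A := Y.presheaf.stalk η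
  obtain ⟨S, _, _, σ, hSfin, hσA, hloc, hinj, hall, hres, M, _, _, _, _, hMfin, ⟨eM⟩, hloceq⟩ :=
    FinPushMod.exists_semilocal_module g hV F' hF'.1 hFfin hηV
  rw [eM.length_eq] at hlen ⊢
  haveI : IsFiniteLength S M := by
    obtain ⟨h1, h2⟩ := isFiniteLength_iff_isNoetherian_isArtinian.1 (Module.length_ne_top_iff.1 hlen.ne)
    exact isFiniteLength_iff_isNoetherian_isArtinian.2 ⟨isNoetherian_of_tower A h1, isArtinian_of_tower A h2⟩
  haveI : Finite {z : W // g z = η} := hfin.to_subtype
  letI := Fintype.ofFinite {z : W // g z = η}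
  let C : {z : W // g z = η} → Type u := fun z => W.presheaf.stalk z.1
  letI : ∀ z, CommRing (C z) := fun z => inferInstanceAs (CommRing (W.presheaf.stalk z.1))
  haveI : ∀ z, IsLocalRing (C z) := fun z => inferInstanceAs (IsLocalRing (W.presheaf.stalk z.1))
  letI : ∀ z, Algebra A (C z) := fun z => (FinPush.stalkHom g z.2).toAlgebra
  letI : ∀ z, Algebra S (C z) := fun z => (σ z).toAlgebra
  haveI : ∀ z, IsScalarTower A S (C z) := fun z => IsScalarTower.of_algebraMap_eq' (hσA z).symm
  haveI : ∀ z, IsLocalHom (algebraMap A (C z)) := fun z => FinPush.isLocalHom_stalkHom g z.2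
  let mI := fun z : {z : W // g z = η} => (maximalIdeal (C z)).comap (σ z)
  haveI : ∀ z, (mI z).IsMaximal := fun z => (hloc z).1
  haveI : ∀ z, IsLocalization.AtPrime (C z) (mI z) := fun z => (hloc z).2
  have htot := SemiLocTor.length_eq_sum (A := A) C mI hinj hall M ‹_›
  have hterm : ∀ z : {z : W // g z = η}, Module.length A (C z ⊗[S] M) =
      Module.length (C z) (C z ⊗[S] M) * Module.length (ResidueField A) (ResidueField (C z)) := fun z =>
    IsLocalRing.length_restrictScalars A (C z) (C z ⊗[S] M)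
  have hne : ∀ z ∈ Finset.univ, Module.length A (C z ⊗[S] M) ≠ ⊤ := fun z hz h => hlen.ne (by
    rw [htot, ← top_le_iff, ← h]
    exact Finset.single_le_sum (f := fun z => Module.length A (C z ⊗[S] M)) (fun _ _ => bot_le) hz)
  rw [htot, ENat.toNat_sum hne, Nat.cast_sum]
  let term : X → ℤ := fun x => (if δX x = k then
      ((Module.length (X.presheaf.stalk x) (F.presheaf.stalk x)).toNat : ℤ) else 0) *
    (AlgebraicCycle.mapCoeff f δX δY x : ℤ)
  have hsupp : Function.support term ∩ f ⁻¹' {η} ⊆ Set.range (fun z : {z : W // g z = η} => i z.1) := by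
    rintro x ⟨hx, hxη⟩
    obtain ⟨w, rfl⟩ : x ∈ Set.range i := (hrange x).2 <| not_subsingleton_iff_nontrivial.1 fun hs => hx (by
      show _ * _ = (0 : ℤ)
      rw [Module.length_eq_zero]
      simp)
    exact ⟨⟨w, hxη⟩, rfl⟩
  have hsum : ∑ᶠ x ∈ f ⁻¹' {η}, term x = ∑ z : {z : W // g z = η}, term (i z.1) := by
    rw [← finsum_eq_sum_of_fintype, ← finsum_mem_range (f := term) (g := fun z : {z : W // g z = η} => i z.1)
      (i.isEmbedding.injective.comp Subtype.val_injective)]
    refine finsum_mem_inter_support_eq' term _ _ fun x hx => ⟨fun h => hsupp ⟨hx, h⟩, ?_⟩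
    rintro ⟨w, rfl⟩
    exact w.2
  refine hsum.trans (Finset.sum_congr rfl fun z _ => ?_)
  have hfz : f (i z.1) = η := z.2
  have hres0 : (g.residueFieldMap z.1).hom.Finite := hres z
  obtain ⟨ez⟩ := hloceq z
  obtain ⟨ei⟩ := SpClosed.nonempty_stalkEquiv i F' z.1
  have hlenF : Module.length (X.presheaf.stalk (i z.1)) (F.presheaf.stalk (i z.1)) =
      Module.length (C z) (C z ⊗[S] M) := by
    rw [show Module.length (X.presheaf.stalk (i z.1)) (F.presheaf.stalk (i z.1)) =
      Module.length (X.presheaf.stalk (i z.1)) (((Coh.push i).obj F').presheaf.stalk (i z.1)) from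
      ((DerSch.stalkFunctor X (i z.1)).mapIso e).toLinearEquiv.length_eq]
    letI : Module (X.presheaf.stalk (i z.1)) (F'.presheaf.stalk z.1) := Module.compHom _ (i.stalkMap z.1).hom
    rw [ei.length_eq]
    letI : Algebra (X.presheaf.stalk (i z.1)) (W.presheaf.stalk z.1) := (i.stalkMap z.1).hom.toAlgebra
    haveI : IsScalarTower (X.presheaf.stalk (i z.1)) (W.presheaf.stalk z.1) (F'.presheaf.stalk z.1) :=
      IsScalarTower.of_algebraMap_smul fun _ _ => rfl
    rw [Module.length_eq_of_surjective (R := W.presheaf.stalk z.1) (i.stalkMap_surjective z.1)]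
    exact ez.length_eq.symm
  have hdeg : (Module.length (ResidueField A) (ResidueField (C z))).toNat = f.residueDegree (i z.1) := by
    refine (FinPush.length_residueField g z.2 hres0 rfl).trans ?_
    rw [show g.residueDegree z.1 = (i ≫ f).residueDegree z.1 from rfl, CycLib.residueDegree_comp,
      CycLib.residueDegree_preimmersion i, mul_one]
  simp only [term, AlgebraicCycle.mapCoeff]
  rw [if_pos (hk z.1 z.2), if_pos (show δX (i z.1) = δY (f (i z.1)) by rw [hfz, hk z.1 z.2, hη]), hterm z,
    ENat.toNat_mul, hlenF, hdeg]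
  push_cast
  rfl

end Groth.Agent.H23.SheafPush
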