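import Groth.Agent.H23.DiagReduction
import Groth.Agent.Cohen4.RegHom

/-!
# Dimension of the quotient by two pulled back ideals
-/

set_option autoImplicit false
set_option linter.style.haveILetI false

universe u

open IsLocalRing

namespace Groth.Agent.H23.DiagDim

variable {A R : Type u} [CommRing A] [CommRing R]

instance flat_quot [Algebra A R] [Module.Flat A R] (a : Ideal A) :
    Module.Flat (A ⧸ a) (R ⧸ a.map (algebraMap A R)) :=
  Module.Flat.of_linearEquiv (Algebra.TensorProduct.quotIdealMapEquivQuotTensor R a).toLinearEquiv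

variable [IsLocalRing A] [IsNoetherianRing A] [IsLocalRing R] [IsNoetherianRing R]

/-- Dimension of a quotient of a flat extension by an ideal from below. -/
theorem dim_quot_map_add (φ : A →+* R) [IsLocalHom φ] (hφ : φ.Flat) (a : Ideal A) (ha : a ≠ ⊤) {dA da dR : ℕ}
    (hA : ringKrullDim A = dA) (hqa : ringKrullDim (A ⧸ a) = da) (hR : ringKrullDim R = dR) :
    ∃ c : ℕ, ringKrullDim (R ⧸ a.map φ) = c ∧ c + dA = dR + da := by
  letI : Algebra A R := φ.toAlgebra
  haveI : Module.Flat A R := hφ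
  haveI : IsLocalHom (algebraMap A R) := ‹IsLocalHom φ›
  change ∃ c : ℕ, ringKrullDim (R ⧸ a.map (algebraMap A R)) = c ∧ c + dA = dR + da
  haveI : Nontrivial (A ⧸ a) := Ideal.Quotient.nontrivial_iff.2 ha
  haveI : IsLocalRing (A ⧸ a) := .of_surjective' (Ideal.Quotient.mk a) Ideal.Quotient.mk_surjective
  have hle : a.map (algebraMap A R) ≤ maximalIdeal R :=
    (Ideal.map_mono (le_maximalIdeal ha)).trans (Ideal.map_le_iff_le_comap.2 fun x hx =>
      (IsLocalRing.mem_maximalIdeal _).2 fun hu =>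
        (IsLocalRing.mem_maximalIdeal _).1 hx (IsUnit.of_map (algebraMap A R) x hu))
  haveI : Nontrivial (R ⧸ a.map (algebraMap A R)) := Ideal.Quotient.nontrivial_iff.2 fun h =>
    (maximalIdeal.isMaximal R).ne_top (top_le_iff.1 (h ▸ hle))
  haveI : IsLocalRing (R ⧸ a.map (algebraMap A R)) :=
    .of_surjective' (Ideal.Quotient.mk _) Ideal.Quotient.mk_surjective
  haveI : IsLocalHom (algebraMap (A ⧸ a) (R ⧸ a.map (algebraMap A R))) := ⟨fun x hx => by
    obtain ⟨x, rfl⟩ := Ideal.Quotient.mk_surjective x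
    refine IsUnit.map _ (not_not.1 fun hu => ?_)
    have hx' : algebraMap A R x ∈ maximalIdeal R :=
      (IsLocalRing.mem_maximalIdeal _).2 fun h => hu (IsUnit.of_map (algebraMap A R) x h)
    haveI : IsLocalHom (Ideal.Quotient.mk (a.map (algebraMap A R))) :=
      .of_surjective _ Ideal.Quotient.mk_surjective
    exact (IsLocalRing.mem_maximalIdeal _).1 hx'
      (IsUnit.of_map (Ideal.Quotient.mk (a.map (algebraMap A R))) _ hx)⟩
  have h1 := Cohen4.dim_eq_of_flat (A := A) (B := R)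
  have h2 := Cohen4.dim_eq_of_flat (A := A ⧸ a) (B := R ⧸ a.map (algebraMap A R))
  have hfib : ringKrullDim ((R ⧸ a.map (algebraMap A R)) ⧸ Ideal.map (algebraMap (A ⧸ a) (R ⧸ a.map (algebraMap A R)))
      (maximalIdeal (A ⧸ a))) = ringKrullDim (R ⧸ (maximalIdeal A).map (algebraMap A R)) := by
    refine ringKrullDim_eq_of_ringEquiv ((Ideal.quotEquivOfEq ?_).trans
      ((DoubleQuot.quotQuotEquivQuotSup _ _).trans (Ideal.quotEquivOfEq
        (sup_eq_right.2 (Ideal.map_mono (le_maximalIdeal ha))))))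
    have hm : maximalIdeal (A ⧸ a) = (maximalIdeal A).map (Ideal.Quotient.mk a) := by
      haveI := Ideal.map_eq_top_or_isMaximal_of_surjective (Ideal.Quotient.mk a) Ideal.Quotient.mk_surjective
        (maximalIdeal.isMaximal A)
      rcases this with h | h
      · exfalso
        have h' := congrArg (Ideal.comap (Ideal.Quotient.mk a)) h
        rw [Ideal.comap_map_of_surjective _ Ideal.Quotient.mk_surjective, Ideal.comap_top,
          ← RingHom.ker_eq_comap_bot, Ideal.mk_ker, sup_eq_left.2 (le_maximalIdeal ha)] at h'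
        exact (maximalIdeal.isMaximal A).ne_top h'
      · exact (IsLocalRing.eq_maximalIdeal h).symm
    rw [hm, Ideal.map_map, Ideal.map_map]
    rfl
  rw [hfib] at h2
  rw [hA, hR] at h1
  obtain ⟨e, he⟩ : ∃ e : ℕ, ringKrullDim (R ⧸ (maximalIdeal A).map (algebraMap A R)) = e := by
    generalize ringKrullDim (R ⧸ (maximalIdeal A).map (algebraMap A R)) = z at h1
    induction z using WithBot.recBotCoe with
    | bot => simp at h1
    | coe z =>
      induction z using ENat.recTopCoe with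
      | top =>
        have h1' : (((dR : ℕ∞)) : WithBot ℕ∞) = (((dA : ℕ∞) + ⊤ : ℕ∞) : WithBot ℕ∞) := h1
        rw [WithBot.coe_inj, add_top] at h1'
        exact absurd h1' (ENat.coe_ne_top dR)
      | coe z => exact ⟨z, rfl⟩
  rw [he] at h1 h2
  rw [hqa] at h2
  refine ⟨da + e, by rw [h2]; push_cast; rfl, ?_⟩
  have h1' : dR = dA + e := by exact_mod_cast h1
  omega

/-- The Euler characteristic after reduction to the diagonal, according to the dimensions. -/
theorem chi_dimSpec (δ : R →+* A) (p₁ p₂ : A →+* R) [IsLocalHom p₁] [IsLocalHom p₂]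
    (hp₁ : ∀ a, δ (p₁ a) = a) (hp₂ : ∀ a, δ (p₂ a) = a) (hflat₁ : p₁.Flat)
    (l : List R) (hreg : RingTheory.Sequence.IsRegular R l) (hl : Ideal.ofList l = RingHom.ker δ)
    (a b : Ideal A) (ha : a ≠ ⊤) (hb : b ≠ ⊤) (hflat₂ : ((Ideal.Quotient.mk (a.map p₁)).comp p₂).Flat)
    {dA da db : ℕ} (hA : ringKrullDim A = dA) (hqa : ringKrullDim (A ⧸ a) = da)
    (hqb : ringKrullDim (A ⧸ b) = db) {t : ℕ} (ht : maximalIdeal A ^ t ≤ a ⊔ b) :
    da + db ≤ dA ∧ (da + db < dA → IntMult.chi A (A ⧸ a) (A ⧸ b) = 0) ∧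
      (da + db = dA → 0 < IntMult.chi A (A ⧸ a) (A ⧸ b)) := by
  rw [DiagReduction.chi_eq δ p₁ p₂ hp₁ hp₂ hflat₁ l hreg.toIsWeaklyRegular hl a b hflat₂]
  have hs : Function.Surjective δ := fun x => ⟨_, hp₁ x⟩
  -- dimensions
  have hmem : ∀ y ∈ l, y ∈ maximalIdeal R := fun y hy => by
    by_contra hu
    refine hreg.top_ne_smul (le_antisymm ?_ le_top)
    rw [Ideal.smul_eq_mul, Ideal.mul_top]
    exact (Ideal.eq_top_of_isUnit_mem (Ideal.ofList l) (Ideal.subset_span hy) (IsLocalRing.notMem_maximalIdeal.1 hu)).ge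
  have hdR := ringKrullDim_add_length_eq_ringKrullDim_of_isRegular l hreg
  rw [hl, ringKrullDim_eq_of_ringEquiv (RingHom.quotientKerEquivOfSurjective hs), hA] at hdR
  have hR : ringKrullDim R = ((dA + l.length : ℕ) : WithBot ℕ∞) := by
    rw [← hdR]
    push_cast
    rfl
  obtain ⟨c₁, hc₁, hc₁'⟩ := dim_quot_map_add p₁ hflat₁ a ha hA hqa hR
  set J := a.map p₁ with hJ
  have hJtop : J ≠ ⊤ := fun h => ha (by
    have := congrArg (Ideal.map δ) h
    rwa [hJ, Ideal.map_map, show δ.comp p₁ = RingHom.id A from RingHom.ext hp₁, Ideal.map_id, Ideal.map_top] at this)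
  haveI : Nontrivial (R ⧸ J) := Ideal.Quotient.nontrivial_iff.2 hJtop
  haveI : IsLocalRing (R ⧸ J) := .of_surjective' (Ideal.Quotient.mk J) Ideal.Quotient.mk_surjective
  haveI : IsLocalHom ((Ideal.Quotient.mk J).comp p₂) := by
    haveI : IsLocalHom (Ideal.Quotient.mk J) := .of_surjective _ Ideal.Quotient.mk_surjective
    exact RingHom.isLocalHom_comp _ _
  obtain ⟨c₂, hc₂, hc₂'⟩ := dim_quot_map_add ((Ideal.Quotient.mk J).comp p₂) hflat₂ b hb hA hqb hc₁
  have hdim : ringKrullDim (R ⧸ (J ⊔ b.map p₂)) = c₂ := by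
    rw [← hc₂, ← Ideal.map_map]
    exact (ringKrullDim_eq_of_ringEquiv (DoubleQuot.quotQuotEquivQuotSup J (b.map p₂))).symm
  -- finite length
  have hfl : GrLib8.KChi.FL (ModuleCat.of R (R ⧸ (J ⊔ b.map p₂))) l := by
    intro p hp
    have hann : J ⊔ b.map p₂ ≤ p.asIdeal :=
      le_trans (le_of_eq Ideal.annihilator_quotient.symm) (le_sup_left.trans hp)
    have hker : RingHom.ker δ ≤ p.asIdeal := hl ▸ le_sup_right.trans hp
    have h3 : a ⊔ b ≤ p.asIdeal.map δ :=
      sup_le ((le_of_eq (by rw [hJ, Ideal.map_map, show δ.comp p₁ = RingHom.id A from RingHom.ext hp₁,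
          Ideal.map_id])).trans (Ideal.map_mono (le_sup_left.trans hann)))
        ((le_of_eq (by rw [Ideal.map_map, show δ.comp p₂ = RingHom.id A from RingHom.ext hp₂,
          Ideal.map_id])).trans (Ideal.map_mono (le_sup_right.trans hann)))
    have h4 : (maximalIdeal A).comap δ ≤ p.asIdeal := by
      refine fun x hx => p.2.mem_of_pow_mem t ?_
      have h5 : x ^ t ∈ (p.asIdeal.map δ).comap δ := by
        rw [Ideal.mem_comap, map_pow]
        exact h3 (ht (Ideal.pow_mem_pow (Ideal.mem_comap.1 hx) t))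
      rwa [Ideal.comap_map_of_surjective _ hs, ← RingHom.ker_eq_comap_bot, sup_eq_left.2 hker] at h5
    haveI : ((maximalIdeal A).comap δ).IsMaximal := Ideal.comap_isMaximal_of_surjective δ hs
    refine PrimeSpectrum.ext (le_antisymm (IsLocalRing.le_maximalIdeal p.2.ne_top) ?_)
    exact (le_of_eq (IsLocalRing.eq_maximalIdeal (I := (maximalIdeal A).comap δ) inferInstance).symm).trans h4
  have hspec := GrLib8.KChi.dimSpec l hmem (R ⧸ (J ⊔ b.map p₂)) hfl
  have hsd : Module.supportDim R (R ⧸ (J ⊔ b.map p₂)) = (c₂ : WithBot ℕ∞) :=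
    (Module.supportDim_quotient_eq_ringKrullDim _).trans hdim
  have hle := hspec.1
  rw [hsd] at hle
  have hle' : c₂ ≤ l.length := by exact_mod_cast hle
  refine ⟨by omega, fun h => hspec.2.1 ?_, fun h => hspec.2.2 ?_⟩
  · show Module.supportDim R (R ⧸ (J ⊔ b.map p₂)) < _
    rw [hsd]
    exact_mod_cast (show c₂ < l.length by omega)
  · show Module.supportDim R (R ⧸ (J ⊔ b.map p₂)) = _
    rw [hsd]
    exact_mod_cast (show c₂ = l.length by omega)

/-- Positivity after reduction to the diagonal. -/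
theorem chi_pos (δ : R →+* A) (p₁ p₂ : A →+* R) [IsLocalHom p₁] [IsLocalHom p₂]
    (hp₁ : ∀ a, δ (p₁ a) = a) (hp₂ : ∀ a, δ (p₂ a) = a) (hflat₁ : p₁.Flat)
    (l : List R) (hreg : RingTheory.Sequence.IsRegular R l) (hl : Ideal.ofList l = RingHom.ker δ)
    (a b : Ideal A) (ha : a ≠ ⊤) (hb : b ≠ ⊤) (hflat₂ : ((Ideal.Quotient.mk (a.map p₁)).comp p₂).Flat)
    {dA da db : ℕ} (hA : ringKrullDim A = dA) (hqa : ringKrullDim (A ⧸ a) = da)
    (hqb : ringKrullDim (A ⧸ b) = db) (hab : dA ≤ da + db) {t : ℕ} (ht : maximalIdeal A ^ t ≤ a ⊔ b) :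
    0 < IntMult.chi A (A ⧸ a) (A ⧸ b) := by
  obtain ⟨h1, -, h3⟩ := chi_dimSpec δ p₁ p₂ hp₁ hp₂ hflat₁ l hreg hl a b ha hb hflat₂ hA hqa hqb ht
  exact h3 (le_antisymm h1 hab)

end Groth.Agent.H23.DiagDim
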