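import Groth.Agent.CycLib.SemiLen
import Groth.Agent.CycLib.Push
import Groth.Agent.CycLib.DivMap
import Groth.Agent.GrpSchLib.FieldSmooth
import Mathlib.AlgebraicGeometry.AffineScheme
import Mathlib.RingTheory.Artinian.Module
import Mathlib.LinearAlgebra.Dimension.Free
import Mathlib.RingTheory.LocalRing.Module
import Mathlib.AlgebraicGeometry.Morphisms.Flat

/-! Sum over the points of a finite free algebra over an Artinian local ring: residue degree times length. -/

set_option autoImplicit false
set_option linter.style.haveILetI false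

universe u

open AlgebraicGeometry CategoryTheory IsLocalRing

namespace Groth.Agent.H23.FiniteFibreSum

open Groth.Agent

theorem length_eq_finrank (K V : Type u) [Field K] [AddCommGroup V] [Module K V] [Module.Finite K V] :
    Module.length K V = (Module.finrank K V : ℕ∞) := by
  rw [Module.length_eq_rank, ← Module.finrank_eq_rank, Cardinal.toENat_nat]

variable {A B : CommRingCat.{u}}

/-- The algebra structure on a stalk of a spectrum. -/
noncomputable abbrev stalkAlg (A : CommRingCat.{u}) (c : Spec A) : Algebra A ((Spec A).presheaf.stalk c) :=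
  StructureSheaf.stalkAlgebra A c

/-- The natural map to a stalk of a spectrum, and stalk maps. -/
theorem stalkMap_algebraMap (g : A ⟶ B) (P : Spec B) (a : A) :
    letI := stalkAlg A ((Spec.map g) P)
    letI := stalkAlg B P
    ((Spec.map g).stalkMap P).hom (algebraMap A ((Spec A).presheaf.stalk ((Spec.map g) P)) a) =
      algebraMap B ((Spec B).presheaf.stalk P) (g.hom a) := by
  letI := stalkAlg A ((Spec.map g) P)
  letI := stalkAlg B P
  have e2 : (Spec.map g).appTop ((Scheme.ΓSpecIso A).inv a) = (Scheme.ΓSpecIso B).inv (g a) :=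
    (congr($(Scheme.ΓSpecIso_inv_naturality g) a)).symm
  show ((Spec.map g).stalkMap P).hom
      (((Spec A).presheaf.germ ⊤ _ trivial).hom ((Scheme.ΓSpecIso A).inv.hom a)) =
    ((Spec B).presheaf.germ ⊤ P trivial).hom ((Scheme.ΓSpecIso B).inv.hom (g.hom a))
  erw [Scheme.Hom.germ_stalkMap_apply (Spec.map g) ⊤ P trivial]
  exact congrArg _ e2

theorem bijective_algebraMap_stalk [IsLocalRing A] [IsArtinianRing A] (c : Spec A) :
    letI := stalkAlg A c
    Function.Bijective (algebraMap A ((Spec A).presheaf.stalk c)) := by
  letI := stalkAlg A c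
  haveI : IsLocalization.AtPrime ((Spec A).presheaf.stalk c) c.asIdeal :=
    StructureSheaf.IsLocalization.to_stalk A c
  have hmax : c.asIdeal = maximalIdeal A := IsLocalRing.eq_maximalIdeal inferInstance
  exact (IsLocalization.atUnits A c.asIdeal.primeCompl (S := (Spec A).presheaf.stalk c) fun x hx => by
    by_contra hu
    exact hx (hmax ▸ hu)).bijective

theorem residueDegree_eq [IsLocalRing A] [IsArtinianRing A] (g : A ⟶ B) (hfin : g.hom.Finite) (P : Spec B) :
    letI : Algebra A ((Spec B).presheaf.stalk P) :=
      ((stalkAlg B P).algebraMap.comp g.hom).toAlgebra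
    IsLocalHom (algebraMap A ((Spec B).presheaf.stalk P)) ∧
    ∀ [IsLocalHom (algebraMap A ((Spec B).presheaf.stalk P))],
      Module.length (ResidueField A) (ResidueField ((Spec B).presheaf.stalk P)) =
        ((Spec.map g).residueDegree P : ℕ∞) := by
  letI := stalkAlg B P
  letI := stalkAlg A ((Spec.map g) P)
  letI a1 : Algebra A ((Spec B).presheaf.stalk P) :=
    ((algebraMap B ((Spec B).presheaf.stalk P)).comp g.hom).toAlgebra
  let e := RingEquiv.ofBijective _ (bijective_algebraMap_stalk ((Spec.map g) P))
  have hcomm : ∀ a, algebraMap A ((Spec B).presheaf.stalk P) a = ((Spec.map g).stalkMap P).hom (e a) :=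
    fun a => (stalkMap_algebraMap g P a).symm
  have hloc : IsLocalHom (algebraMap A ((Spec B).presheaf.stalk P)) := ⟨fun a ha => by
    rw [hcomm] at ha
    exact (isUnit_map_iff e a).1 (isUnit_of_map_unit _ _ ha)⟩
  refine ⟨hloc, ?_⟩
  intro _
  haveI : Module.Finite (ResidueField A) (ResidueField ((Spec B).presheaf.stalk P)) := by
    haveI : IsLocalization.AtPrime ((Spec B).presheaf.stalk P) P.asIdeal :=
      StructureSheaf.IsLocalization.to_stalk B P
    letI := g.hom.toAlgebra
    haveI : IsScalarTower A B ((Spec B).presheaf.stalk P) := IsScalarTower.of_algebraMap_eq fun _ => rfl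
    haveI : Module.Finite A B := hfin
    haveI : IsArtinianRing B := isArtinian_of_tower A inferInstance
    haveI : Module.Finite B ((Spec B).presheaf.stalk P) :=
      Module.Finite.of_surjective (Algebra.linearMap B _)
        (IsArtinianRing.localization_surjective P.asIdeal.primeCompl _)
    haveI : Module.Finite A ((Spec B).presheaf.stalk P) := Module.Finite.trans B _
    haveI : Module.Finite A (ResidueField ((Spec B).presheaf.stalk P)) :=
      Module.Finite.of_surjective (IsScalarTower.toAlgHom A ((Spec B).presheaf.stalk P) _).toLinearMap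
        IsLocalRing.residue_surjective
    exact Module.Finite.of_restrictScalars_finite A (ResidueField A) _
  rw [length_eq_finrank]
  refine congrArg Nat.cast ?_
  letI := ((Spec.map g).residueFieldMap P).hom.toAlgebra
  refine Algebra.finrank_eq_of_equiv_equiv (IsLocalRing.ResidueField.mapEquiv e) (RingEquiv.refl _) ?_
  refine Ideal.Quotient.ringHom_ext (RingHom.ext fun a => ?_)
  show IsLocalRing.residue _ (((Spec.map g).stalkMap P).hom (e a)) =
    IsLocalRing.residue _ (algebraMap A ((Spec B).presheaf.stalk P) a)
  rw [hcomm]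

/-- Residue degree times length, summed over the points of a finite free algebra. -/
theorem sum_length [IsLocalRing A] [IsArtinianRing A] (g : A ⟶ B) (hfin : g.hom.Finite) (hflat : g.hom.Flat)
    [Fintype ↥(Spec B)] :
    (letI := g.hom.toAlgebra; (Module.finrank A B : ℕ∞)) * Module.length A A =
      ∑ P : ↥(Spec B), Module.length ((Spec B).presheaf.stalk P) ((Spec B).presheaf.stalk P) *
        ((Spec.map g).residueDegree P : ℕ∞) := by
  letI := g.hom.toAlgebra
  haveI : Module.Finite A B := hfin
  haveI : Module.Flat A B := hflat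
  haveI : IsArtinianRing B := isArtinian_of_tower A inferInstance
  haveI : Module.Free A B := Module.free_of_flat_of_isLocalRing
  letI b1 : ∀ P : Spec B, Algebra B ((Spec B).presheaf.stalk P) := stalkAlg B
  letI a1 : ∀ P : Spec B, Algebra A ((Spec B).presheaf.stalk P) := fun P =>
    ((algebraMap B ((Spec B).presheaf.stalk P)).comp g.hom).toAlgebra
  haveI : ∀ P : Spec B, IsScalarTower A B ((Spec B).presheaf.stalk P) := fun P =>
    IsScalarTower.of_algebraMap_eq fun _ => rfl
  haveI : ∀ P : Spec B, IsLocalization.AtPrime ((Spec B).presheaf.stalk P) P.asIdeal :=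
    StructureSheaf.IsLocalization.to_stalk B
  haveI : ∀ P : Spec B, IsLocalHom (algebraMap A ((Spec B).presheaf.stalk P)) := fun P =>
    (residueDegree_eq g hfin P).1
  haveI : ∀ P : Spec B, P.asIdeal.IsMaximal := fun P => IsArtinianRing.isMaximal_of_isPrime _
  have hzero : ∀ P : Spec B, Ring.ord ((Spec B).presheaf.stalk P)
      (algebraMap B ((Spec B).presheaf.stalk P) 0) =
      Module.length ((Spec B).presheaf.stalk P) ((Spec B).presheaf.stalk P) := fun P => by
    rw [map_zero, Ring.ord]
    exact (Submodule.quotEquivOfEqBot _ (Ideal.span_singleton_eq_bot.2 rfl)).length_eq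
  have hfl : ∀ P : Spec B, Ring.ord ((Spec B).presheaf.stalk P)
      (algebraMap B ((Spec B).presheaf.stalk P) 0) ≠ ⊤ := fun P => by
    haveI : IsArtinianRing ((Spec B).presheaf.stalk P) :=
      IsArtinianRing.localization_artinian P.asIdeal.primeCompl _
    rw [hzero]
    exact Module.length_ne_top
  have key := CycLib.length_quotient_eq_sum (A := A) (B := B) (fun P : Spec B => (Spec B).presheaf.stalk P)
    (fun P => P.asIdeal) (fun P Q h => PrimeSpectrum.ext h) (fun M hM => ⟨⟨M, hM.isPrime⟩, rfl⟩) 0 hfl
  rw [(((Submodule.quotEquivOfEqBot (Ideal.span ({0} : Set B))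
      (Ideal.span_singleton_eq_bot.2 rfl))).restrictScalars A).length_eq,
    (Module.Free.chooseBasis A B).equivFun.length_eq, Module.length_pi_of_fintype] at key
  rw [Finset.sum_const, Finset.card_univ, ← Module.finrank_eq_card_chooseBasisIndex, nsmul_eq_mul] at key
  refine key.trans (Finset.sum_congr rfl fun P _ => ?_)
  rw [hzero, (residueDegree_eq g hfin P).2]

theorem length_self_of_bijective {R S : Type u} [CommRing R] [CommRing S] (f : R →+* S)
    (hf : Function.Bijective f) : Module.length R R = Module.length S S := by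
  letI := f.toAlgebra
  rw [← Module.length_eq_of_surjective (S := R) (R := S) (M := S) (show Function.Surjective (algebraMap R S) from hf.2)]
  exact (LinearEquiv.ofBijective (Algebra.linearMap R S) hf).length_eq

/-- A flat preimmersion has bijective stalk maps. -/
theorem bijective_stalkMap {W X : Scheme.{u}} (j : W ⟶ X) [IsPreimmersion j] [Flat j] (t : W) :
    Function.Bijective (j.stalkMap t).hom := by
  refine ⟨?_, j.stalkMap_surjective t⟩
  let : Algebra (X.presheaf.stalk (j t)) (W.presheaf.stalk t) := (j.stalkMap t).hom.toAlgebra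
  have : Module.Flat (X.presheaf.stalk (j t)) (W.presheaf.stalk t) := Flat.stalkMap j t
  have : IsLocalHom (algebraMap (X.presheaf.stalk (j t)) (W.presheaf.stalk t)) := j.toLRSHom.prop t
  have : Module.FaithfullyFlat (X.presheaf.stalk (j t)) (W.presheaf.stalk t) :=
    Module.FaithfullyFlat.of_flat_of_isLocalHom
  exact FaithfulSMul.algebraMap_injective _ _

theorem residueDegree_congr' {W Z : Scheme.{u}} {a b : W ⟶ Z} (e : a = b) (w : W) :
    a.residueDegree w = b.residueDegree w := by subst e; rfl

/-- The points over a point with Artinian local ring, when the morphism becomes finite free over it. -/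
theorem sum_points {W F : Scheme.{u}} (π : W ⟶ F) (v : F) [IsArtinianRing (F.presheaf.stalk v)]
    (g : F.presheaf.stalk v ⟶ B) (hfin : g.hom.Finite) (hflat : g.hom.Flat) (j : Spec B ⟶ W)
    (hsq : IsPullback j (Spec.map g) π (F.fromSpecStalk v)) :
    (π ⁻¹' {v}).Finite ∧
      ∑ᶠ w ∈ π ⁻¹' {v}, π.residueDegree w * (Module.length (W.presheaf.stalk w) (W.presheaf.stalk w)).toNat =
        (letI := g.hom.toAlgebra; Module.finrank (F.presheaf.stalk v) B) *
          (Module.length (F.presheaf.stalk v) (F.presheaf.stalk v)).toNat := by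
  haveI : IsArtinianRing B := by
    letI := g.hom.toAlgebra
    haveI : Module.Finite (F.presheaf.stalk v) B := hfin
    exact isArtinian_of_tower (F.presheaf.stalk v) inferInstance
  haveI : Finite ↥(Spec B) := inferInstanceAs (Finite (PrimeSpectrum B))
  letI := Fintype.ofFinite ↥(Spec B)
  haveI : Flat (F.fromSpecStalk v) := GrpSchLib.flat_fromSpecStalk v
  haveI : IsPreimmersion j := MorphismProperty.of_isPullback hsq.flip (inferInstance : IsPreimmersion (F.fromSpecStalk v))
  haveI : Flat j := MorphismProperty.of_isPullback hsq.flip (inferInstance : Flat (F.fromSpecStalk v))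
  have hv : Set.range (F.fromSpecStalk v) = {v} := by
    refine Set.eq_singleton_iff_unique_mem.2 ⟨⟨_, Scheme.fromSpecStalk_closedPoint⟩, ?_⟩
    rintro _ ⟨q, rfl⟩
    rw [show q = IsLocalRing.closedPoint (F.presheaf.stalk v) from
      PrimeSpectrum.ext (IsLocalRing.eq_maximalIdeal inferInstance)]
    exact Scheme.fromSpecStalk_closedPoint
  have hr : Set.range j = π ⁻¹' {v} := by
    rw [← hv, ← Scheme.Pullback.range_fst]
    conv_rhs => rw [← hsq.isoPullback_inv_fst]
    rw [Scheme.Hom.comp_base, TopCat.coe_comp, Set.range_comp,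
      Set.range_eq_univ.2 (ConcreteCategory.bijective_of_isIso hsq.isoPullback.inv.base).surjective, Set.image_univ]
  rw [← hr, finsum_mem_range j.isEmbedding.injective, finsum_eq_sum_of_fintype]
  refine ⟨Set.finite_range _, ?_⟩
  have key := congrArg ENat.toNat (sum_length g hfin hflat)
  rw [ENat.toNat_mul, ENat.toNat_natCast, ENat.toNat_sum] at key
  · refine (Finset.sum_congr rfl fun P _ => ?_).trans key.symm
    rw [ENat.toNat_mul, ENat.toNat_natCast, mul_comm]
    refine congrArg₂ (· * ·) (congrArg ENat.toNat (length_self_of_bijective _ (bijective_stalkMap j P))) ?_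
    have h1 := CycLib.residueDegree_comp j π P
    have h2 := CycLib.residueDegree_comp (Spec.map g) (F.fromSpecStalk v) P
    rw [CycLib.residueDegree_preimmersion j, mul_one, residueDegree_congr' hsq.w] at h1
    rw [CycLib.residueDegree_preimmersion (F.fromSpecStalk v), one_mul, h1] at h2
    exact h2
  · intro P _
    haveI : IsArtinianRing ((Spec B).presheaf.stalk P) := by
      letI := stalkAlg B P
      haveI : IsLocalization.AtPrime ((Spec B).presheaf.stalk P) P.asIdeal :=
        StructureSheaf.IsLocalization.to_stalk B P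
      exact IsArtinianRing.localization_artinian P.asIdeal.primeCompl _
    exact WithTop.mul_ne_top Module.length_ne_top (ENat.natCast_ne_top _)

theorem exists_baseChange {k K A : CommRingCat.{u}} (φ : k ⟶ K) (g : k ⟶ A) (hk : IsField k)
    (hfin : φ.hom.Finite) [Nontrivial A] :
    ∃ (B : CommRingCat.{u}) (gB : A ⟶ B) (kB : K ⟶ B), IsPushout g φ gB kB ∧ gB.hom.Finite ∧ gB.hom.Flat ∧
      (letI := gB.hom.toAlgebra; Module.finrank A B) = (letI := φ.hom.toAlgebra; Module.finrank k K) := by
  letI := hk.toField
  letI := φ.hom.toAlgebra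
  letI := g.hom.toAlgebra
  haveI : Module.Finite k K := hfin
  refine ⟨CommRingCat.of (TensorProduct k A K), CommRingCat.ofHom Algebra.TensorProduct.includeLeftRingHom,
    CommRingCat.ofHom Algebra.TensorProduct.includeRight.toRingHom,
    CommRingCat.isPushout_tensorProduct k A K, ?_, ?_, ?_⟩
  · show (algebraMap A (TensorProduct k A K)).Finite
    exact RingHom.finite_algebraMap.2 inferInstance
  · show (algebraMap A (TensorProduct k A K)).Flat
    exact RingHom.flat_algebraMap_iff.2 inferInstance
  · refine Eq.trans ?_ (Module.finrank_baseChange (R := A) (S := k) (M' := K))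
    congr 1
    exact congrArg (fun i : Algebra A (TensorProduct k A K) => i.toModule) (Algebra.algebra_ext _ _ fun r => rfl)

/-- Base change of a finite field extension. -/
theorem sum_points_field {k K : CommRingCat.{u}} (φ : k ⟶ K) (hk : IsField k) (hfin : φ.hom.Finite)
    {F W : Scheme.{u}} (s : F ⟶ Spec k) (π : W ⟶ F) (a : W ⟶ Spec K)
    (hsq : IsPullback a π (Spec.map φ) s) (v : F) [IsArtinianRing (F.presheaf.stalk v)] :
    (π ⁻¹' {v}).Finite ∧
      ∑ᶠ w ∈ π ⁻¹' {v}, π.residueDegree w * (Module.length (W.presheaf.stalk w) (W.presheaf.stalk w)).toNat =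
        (letI := φ.hom.toAlgebra; Module.finrank k K) *
          (Module.length (F.presheaf.stalk v) (F.presheaf.stalk v)).toNat := by
  obtain ⟨g, hg⟩ := Spec.map_surjective (F.fromSpecStalk v ≫ s)
  obtain ⟨B, gB, kB, hpo, h1, h2, h3⟩ := exists_baseChange φ g hk hfin
  have hB : IsPullback (Spec.map kB) (Spec.map gB) (Spec.map φ) (Spec.map g) :=
    (isPullback_SpecMap_of_isPushout _ _ _ _ hpo).flip
  have hw : Spec.map kB ≫ Spec.map φ = (Spec.map gB ≫ F.fromSpecStalk v) ≫ s := by
    rw [hB.w, hg, Category.assoc]
  let j := hsq.lift _ _ hw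
  have hj : IsPullback j (Spec.map gB) π (F.fromSpecStalk v) := by
    refine IsPullback.of_right ?_ (hsq.lift_snd _ _ _) hsq
    rw [hsq.lift_fst, ← hg]
    exact hB
  have h := sum_points π v gB h1 h2 j hj
  rw [← h3]
  exact h

end Groth.Agent.H23.FiniteFibreSum
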