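import Groth.Agent.H23.Seesaw

/-!
The seesaw arguments over a locally Noetherian base.
-/

universe u

open CategoryTheory CategoryTheory.Limits AlgebraicGeometry TopologicalSpace Opposite

namespace Groth.Agent.H23.SeesawGlobal

open Groth.Agent.InvX TrivBasic Seesaw

variable {X Y : Scheme.{u}}

/-- The module is trivial over every point with values in a field lying over `y`. -/
def FieldTriv (f : X ⟶ Y) (L : X.Modules) (y : Y) : Prop :=
  ∀ (K : Type u) [Field K] (k : Spec (CommRingCat.of K) ⟶ Y), k (IsLocalRing.closedPoint K) = y →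
    Triv ((Scheme.Modules.pullback (pullback.fst f k)).obj L)

/-- The global functions over every point with values in a field lying over `y` are constants. -/
def FieldH0 (f : X ⟶ Y) (y : Y) : Prop :=
  ∀ (K : Type u) [Field K] (k : Spec (CommRingCat.of K) ⟶ Y), k (IsLocalRing.closedPoint K) = y →
    Function.Bijective (pullback.snd f k).appTop

variable {f : X ⟶ Y} {L : X.Modules}

/-- Triviality passes through maps to the fibre. -/
theorem triv_of_factor {Z W : Scheme.{u}} {b : Z ⟶ X} {a : W ⟶ X} (t : W ⟶ Z) (ht : t ≫ b = a)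
    (h : Triv ((Scheme.Modules.pullback b).obj L)) : Triv ((Scheme.Modules.pullback a).obj L) :=
  (triv_congr ht).1 ((triv_comp_iff t b).1 (h.pullback t))

theorem triv_pullback_of_factor {S T : Scheme.{u}} {g : T ⟶ Y} {g' : S ⟶ Y} (t : S ⟶ T) (ht : t ≫ g = g')
    (h : Triv ((Scheme.Modules.pullback (pullback.fst f g)).obj L)) :
    Triv ((Scheme.Modules.pullback (pullback.fst f g')).obj L) :=
  triv_of_factor (pullback.lift (pullback.fst f g') (pullback.snd f g' ≫ t)
    (by rw [Category.assoc, ht]; exact pullback.condition)) (pullback.lift_fst _ _ _) h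

/-- It is enough to test on the residue field. -/
theorem fieldTriv_iff_residueField (y : Y) :
    FieldTriv f L y ↔ Triv ((Scheme.Modules.pullback (pullback.fst f (Y.fromSpecResidueField y))).obj L) := by
  refine ⟨fun h => h (Y.residueField y) (Y.fromSpecResidueField y) (Y.fromSpecResidueField_apply _ _), ?_⟩
  rintro h K _ k rfl
  exact triv_pullback_of_factor _ (Scheme.descResidueField_stalkClosedPointTo_fromSpecResidueField K Y k) h

/-- An open subscheme on which the module is trivial carries a frame. -/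
theorem exists_frame_of_triv (j : Y ⟶ X) [IsOpenImmersion j]
    (h : Triv ((Scheme.Modules.pullback j).obj L)) : ∃ s : Γ(L, j.opensRange), IsFrame s := by
  let U := j.opensRange
  have h' : Triv ((Scheme.Modules.pullback U.ι).obj L) :=
    triv_of_factor (IsOpenImmersion.lift j U.ι (by simp [U])) (IsOpenImmersion.lift_fac _ _ _) h
  obtain ⟨φ⟩ := Triv.of_iso ((Scheme.Modules.restrictFunctorIsoPullback U.ι).app L).symm h'
  exact exists_frame_of_iso U ⟨φ⟩
where
  exists_frame_of_iso (U : X.Opens) (h : Nonempty (L.restrict U.ι ≅ Coh.structureModule U.toScheme)) :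
      ∃ s : Γ(L, U), IsFrame s := by
    obtain ⟨φ⟩ := h
    let e' : Γ(L.restrict U.ι, ⊤) := φ.inv.app ⊤ (1 : Γ(U.toScheme, ⊤))
    have he : IsFrame (show Γ(L.restrict U.ι, ⊤) from e') :=
      (InvX.isFrame_one ⊤).map_iso φ.symm
    refine ⟨AModX.res L (le_of_eq U.ι_image_top.symm) (show Γ(L, U.ι ''ᵁ ⊤) from e'), fun V hV => ?_⟩
    obtain ⟨V', rfl⟩ : ∃ V', U.ι ''ᵁ V' = V := ⟨U.ι ⁻¹ᵁ V, by
      rw [Scheme.Hom.image_preimage_eq_opensRange_inf, Scheme.Opens.opensRange_ι]
      exact inf_eq_right.mpr hV⟩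
    have hb := (he V' le_top).comp (ConcreteCategory.bijective_of_isIso (U.ι.appIso V').hom)
    refine (congrArg Function.Bijective ?_).mpr hb
    funext r
    show r • AModX.res L hV _ = (U.ι.appIso V').inv.hom ((U.ι.appIso V').hom r) •
      AModX.res L (U.ι.image_mono (le_top : V' ≤ ⊤)) (show Γ(L, U.ι ''ᵁ ⊤) from e')
    rw [Iso.hom_inv_id_apply, AModX.res_res]

section Chart

variable (f) (A : Type u) [CommRing A] (g : Spec (CommRingCat.of A) ⟶ Y)

/-- The scheme over an affine chart. -/
noncomputable abbrev chart : Scheme.{u} := pullback f g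

noncomputable instance chartOver : (chart f A g).Over (Spec (CommRingCat.of A)) := ⟨pullback.snd f g⟩

variable (L) in
/-- The module over an affine chart. -/
noncomputable abbrev chartMod : (chart f A g).Modules := (Scheme.Modules.pullback (pullback.fst f g)).obj L

theorem triv_chart {B : Type u} [CommRing B] [Algebra A B]
    (h : Triv ((Scheme.Modules.pullback (pullback.fst f (specAlg A B ≫ g))).obj L)) :
    Triv ((Scheme.Modules.pullback (pullback.fst (chart f A g ↘ Spec (CommRingCat.of A)) (specAlg A B))).obj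
      (chartMod f L A g)) :=
  (triv_comp_iff _ _).2 (triv_of_factor (pullbackLeftPullbackSndIso f g (specAlg A B)).hom
    (pullbackLeftPullbackSndIso_hom_fst f g (specAlg A B)) h)

theorem bijective_appTop_iso {Z W : Scheme.{u}} (e : Z ≅ W) : Function.Bijective e.hom.appTop :=
  haveI : IsIso e.hom.appTop := inferInstanceAs (IsIso (Scheme.Γ.map e.hom.op))
  ConcreteCategory.bijective_of_isIso e.hom.appTop

theorem h0_chart {B : Type u} [CommRing B] [Algebra A B]
    (h : Function.Bijective (pullback.snd f (specAlg A B ≫ g)).appTop) :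
    Function.Bijective (pullback.snd (chart f A g ↘ Spec (CommRingCat.of A)) (specAlg A B)).appTop := by
  show Function.Bijective (pullback.snd (pullback.snd f g) (specAlg A B)).appTop
  rw [← pullbackLeftPullbackSndIso_hom_snd f g (specAlg A B), Scheme.Hom.comp_appTop]
  exact (bijective_appTop_iso (pullbackLeftPullbackSndIso f g (specAlg A B))).comp h

theorem inj_chart {B : Type u} [CommRing B] [Algebra A B]
    (h : Function.Injective (pullback.snd f (specAlg A B ≫ g)).appTop) :
    Function.Injective (pullback.snd (chart f A g ↘ Spec (CommRingCat.of A)) (specAlg A B)).appTop := by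
  show Function.Injective (pullback.snd (pullback.snd f g) (specAlg A B)).appTop
  rw [← pullbackLeftPullbackSndIso_hom_snd f g (specAlg A B), Scheme.Hom.comp_appTop]
  exact (bijective_appTop_iso (pullbackLeftPullbackSndIso f g (specAlg A B))).1.comp h

theorem closedPoint_specAlg (x : ↥(Spec (CommRingCat.of A))) :
    (specAlg A x.asIdeal.ResidueField ≫ g) (IsLocalRing.closedPoint x.asIdeal.ResidueField) = g x :=
  congrArg g (range_specAlg x _)

theorem fibreTriv_chart {x : ↥(Spec (CommRingCat.of A))} (h : FieldTriv f L (g x)) :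
    FibreTriv (chartMod f L A g) x :=
  triv_chart f A g (h _ _ (closedPoint_specAlg A g x))

theorem fibreH0_chart {x : ↥(Spec (CommRingCat.of A))} (h : FieldH0 f (g x)) :
    FibreH0 (chart f A g) x :=
  h0_chart f A g (h _ _ (closedPoint_specAlg A g x))

theorem fieldTriv_of_chart [IsOpenImmersion g] {x : ↥(Spec (CommRingCat.of A))}
    (h : FibreTriv (chartMod f L A g) x) : FieldTriv f L (g x) := by
  intro K _ k hk
  have hr : Set.range k ⊆ Set.range g := by
    rintro _ ⟨s, rfl⟩
    rw [Subsingleton.elim s (IsLocalRing.closedPoint K), hk]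
    exact ⟨x, rfl⟩
  let k' := IsOpenImmersion.lift g k hr
  have hk' : k' (IsLocalRing.closedPoint K) = x := by
    refine g.isOpenEmbedding.injective ?_
    rw [← hk]
    exact congr($(IsOpenImmersion.lift_fac g k hr) (IsLocalRing.closedPoint K))
  obtain ⟨α, hα⟩ := Spec.map_surjective k'
  have hker : ∀ a : A, a ∈ x.asIdeal ↔ α.hom a = 0 := fun a => by
    rw [← hk', ← hα]
    show a ∈ Ideal.comap α.hom (IsLocalRing.closedPoint K).asIdeal ↔ _
    rw [Ideal.mem_comap, show (IsLocalRing.closedPoint K).asIdeal = ⊥ from IsLocalRing.maximalIdeal_eq_bot]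
    rfl
  let ψ := Ideal.ResidueField.lift x.asIdeal α.hom (fun a ha => (hker a).1 ha) fun a ha =>
    Ne.isUnit fun h0 => ha ((hker a).2 h0)
  have hψ : CommRingCat.ofHom (algebraMap A x.asIdeal.ResidueField) ≫ CommRingCat.ofHom ψ = α :=
    CommRingCat.hom_ext (RingHom.ext fun a => Ideal.ResidueField.lift_algebraMap x.asIdeal α.hom (fun a ha => (hker a).1 ha)
      (fun a ha => Ne.isUnit fun h0 => ha ((hker a).2 h0)) a)
  have hfac : Spec.map (CommRingCat.ofHom ψ) ≫ specAlg A x.asIdeal.ResidueField ≫ g = k := by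
    rw [← Category.assoc, specAlg, ← Spec.map_comp, hψ, hα]
    exact IsOpenImmersion.lift_fac g k hr
  refine triv_pullback_of_factor _ hfac ?_
  refine triv_of_factor (pullbackLeftPullbackSndIso f g _).inv ?_ ((triv_comp_iff _ _).1 h)
  rw [Iso.inv_comp_eq, pullbackLeftPullbackSndIso_hom_fst]
  rfl

/-- A frame over the chart gives a frame downstairs. -/
theorem exists_frame_of_chart [IsOpenImmersion g] {x : ↥(Spec (CommRingCat.of A))}
    (h : ∃ U : (Spec (CommRingCat.of A)).Opens, x ∈ U ∧
      ∃ s : Γ(chartMod f L A g, (chart f A g ↘ Spec (CommRingCat.of A)) ⁻¹ᵁ U), IsFrame s) :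
    ∃ V : Y.Opens, g x ∈ V ∧ ∃ s : Γ(L, f ⁻¹ᵁ V), IsFrame s := by
  obtain ⟨U, hx, s, hs⟩ := h
  refine ⟨g ''ᵁ U, ⟨x, hx, rfl⟩, ?_⟩
  let W : (chart f A g).Opens := (chart f A g ↘ Spec (CommRingCat.of A)) ⁻¹ᵁ U
  obtain ⟨φ⟩ := nonempty_iso_of_isFrame hs
  have hT : Triv ((Scheme.Modules.pullback (W.ι ≫ pullback.fst f g)).obj L) :=
    (triv_comp_iff _ _).1 (Triv.of_iso ((Scheme.Modules.restrictFunctorIsoPullback W.ι).app _) ⟨φ⟩)
  obtain ⟨s', hs'⟩ := exists_frame_of_triv _ hT
  have hle : f ⁻¹ᵁ (g ''ᵁ U) ≤ (W.ι ≫ pullback.fst f g).opensRange := by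
    intro z hz
    obtain ⟨a, ha, hga⟩ := hz
    obtain ⟨w, hw₁, hw₂⟩ := Scheme.Pullback.exists_preimage_pullback (f := f) (g := g) z a hga.symm
    exact ⟨⟨w, show pullback.snd f g w ∈ U from hw₂.symm ▸ ha⟩, hw₁⟩
  exact ⟨_, hs'.res hle⟩

end Chart

theorem exists_chart (y : Y) [IsLocallyNoetherian Y] :
    ∃ (A : Type u) (_ : CommRing A) (_ : IsNoetherianRing A) (g : Spec (CommRingCat.of A) ⟶ Y)
      (_ : IsOpenImmersion g) (x : ↥(Spec (CommRingCat.of A))), g x = y := by
  obtain ⟨_, ⟨U, hU, rfl⟩, hyU, -⟩ :=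
    Y.isBasis_affineOpens.exists_subset_of_mem_open (Set.mem_univ y) isOpen_univ
  have hU' : IsAffineOpen U := hU
  obtain ⟨x, hx⟩ : y ∈ Set.range hU'.fromSpec := by rwa [hU'.range_fromSpec]
  exact ⟨Γ(Y, U), inferInstance, IsLocallyNoetherian.component_noetherian ⟨U, hU'⟩, hU'.fromSpec,
    inferInstance, x, hx⟩

variable (f) [IsProper f] [Flat f]

instance isProper_chart (A : Type u) [CommRing A] (g : Spec (CommRingCat.of A) ⟶ Y) :
    IsProper (chart f A g ↘ Spec (CommRingCat.of A)) :=
  inferInstanceAs (IsProper (pullback.snd f g))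

instance flat_chart (A : Type u) [CommRing A] (g : Spec (CommRingCat.of A) ⟶ Y) :
    Flat (chart f A g ↘ Spec (CommRingCat.of A)) :=
  inferInstanceAs (Flat (pullback.snd f g))

instance geometricallyIntegral_chart [GeometricallyIntegral f] (A : Type u) [CommRing A]
    (g : Spec (CommRingCat.of A) ⟶ Y) : GeometricallyIntegral (chart f A g ↘ Spec (CommRingCat.of A)) :=
  inferInstanceAs (GeometricallyIntegral (pullback.snd f g))

variable [IsLocallyNoetherian Y] (hL : PicF.IsInvertible L)
include hL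

/-- Over a reduced base a module trivial on the fibres is trivial locally on the base. -/
theorem exists_frame_of_isReduced [IsReduced Y] (h0 : ∀ y, FieldH0 f y) (hT : ∀ y, FieldTriv f L y) (y : Y) :
    ∃ V : Y.Opens, y ∈ V ∧ ∃ s : Γ(L, f ⁻¹ᵁ V), IsFrame s := by
  obtain ⟨A, _, _, g, _, x, rfl⟩ := exists_chart y
  haveI : IsReduced (Spec (CommRingCat.of A)) := isReduced_of_isOpenImmersion g
  haveI : _root_.IsReduced A := by
    have := (affine_isReduced_iff (CommRingCat.of A)).1 inferInstance
    exact this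
  exact exists_frame_of_chart f A g (Seesaw.exists_frame_of_isReduced (PicClLib.isInvertible_pullback _ hL)
    (fun x => fibreH0_chart f A g (h0 _)) (fun x => fibreTriv_chart f A g (hT _)) x)

/-- A module trivial on all thickenings of a fibre is trivial near it. -/
theorem exists_frame_of_thick {A : Type u} [CommRing A] [IsNoetherianRing A] (g : Spec (CommRingCat.of A) ⟶ Y)
    [IsOpenImmersion g] (x : ↥(Spec (CommRingCat.of A))) (h0 : FieldH0 f (g x)) (hT : FieldTriv f L (g x))
    (hn : ∀ n : ℕ, Triv ((Scheme.Modules.pullback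
        (pullback.fst f (specAlg A (SeesawMod.Thick x.asIdeal n) ≫ g))).obj L) ∧
      Function.Injective (pullback.snd f (specAlg A (SeesawMod.Thick x.asIdeal n) ≫ g)).appTop) :
    ∃ V : Y.Opens, g x ∈ V ∧ ∃ s : Γ(L, f ⁻¹ᵁ V), IsFrame s :=
  exists_frame_of_chart f A g (Seesaw.exists_frame_of_thick (PicClLib.isInvertible_pullback _ hL) x
    (fibreH0_chart f A g h0) (fibreTriv_chart f A g hT)
    fun n => ⟨triv_chart f A g (hn n).1, inj_chart f A g (hn n).2⟩)

/-- For geometrically integral fibres the trivial locus is closed. -/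
theorem isClosed_fieldTriv [GeometricallyIntegral f] : IsClosed {y : Y | FieldTriv f L y} := by
  rw [← isOpen_compl_iff, isOpen_iff_forall_mem_open]
  intro y hy
  obtain ⟨A, _, _, g, _, x, rfl⟩ := exists_chart y
  refine ⟨g '' {x' | ¬ FibreTriv (chartMod f L A g) x'}, ?_, g.isOpenEmbedding.isOpenMap _
    (Seesaw.isClosed_fibreTriv (PicClLib.isInvertible_pullback _ hL)).isOpen_compl,
    ⟨x, fun h => hy (fieldTriv_of_chart f A g h), rfl⟩⟩
  rintro _ ⟨x', hx', rfl⟩ h
  exact hx' (fibreTriv_chart f A g h)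

/-- For geometrically integral fibres triviality over one field point gives triviality over all. -/
theorem fieldTriv_of_point [GeometricallyIntegral f] {y : Y} (K : Type u) [Field K]
    (k : Spec (CommRingCat.of K) ⟶ Y) (hk : k (IsLocalRing.closedPoint K) = y)
    (hT : Triv ((Scheme.Modules.pullback (pullback.fst f k)).obj L)) : FieldTriv f L y := by
  obtain ⟨A, _, _, g, _, x, rfl⟩ := exists_chart y
  have hr : Set.range k ⊆ Set.range g := by
    rintro _ ⟨s, rfl⟩
    rw [Subsingleton.elim s (IsLocalRing.closedPoint K), hk]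
    exact ⟨x, rfl⟩
  obtain ⟨α, hα⟩ := Spec.map_surjective (IsOpenImmersion.lift g k hr : Spec (CommRingCat.of K) ⟶ Spec (CommRingCat.of A))
  have hfac : Spec.map α ≫ g = k := by rw [hα]; exact IsOpenImmersion.lift_fac g k hr
  have hx : Spec.map α (IsLocalRing.closedPoint K) = x :=
    g.isOpenEmbedding.injective (by rw [← hk, ← hfac]; rfl)
  letI : Algebra A K := α.hom.toAlgebra
  refine fieldTriv_of_chart f A g (Seesaw.fibreTriv_of_field (PicClLib.isInvertible_pullback _ hL) x K ?_
    (triv_chart f A g ?_))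
  · rw [← hx]
    show RingHom.ker α.hom = Ideal.comap α.hom (IsLocalRing.closedPoint K).asIdeal
    rw [show (IsLocalRing.closedPoint K).asIdeal = ⊥ from IsLocalRing.maximalIdeal_eq_bot]
    rfl
  · have h' : specAlg A K ≫ g = k := hfac
    exact h' ▸ hT

omit [IsProper f] [Flat f] [IsLocallyNoetherian Y] hL

/-- Local frames and a section along which the module is trivial give a global frame. -/
theorem triv_of_section (h0 : ∀ V : Y.Opens, Function.Bijective (f.app V)) (σ : Y ⟶ X) (hσ : σ ≫ f = 𝟙 Y)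
    (hs : Triv ((Scheme.Modules.pullback σ).obj L))
    (hloc : ∀ y : Y, ∃ V : Y.Opens, y ∈ V ∧ ∃ s : Γ(L, f ⁻¹ᵁ V), IsFrame s) : Triv L := by
  obtain ⟨e₀, he₀⟩ := hs.exists_frame
  choose V hV s hs' using hloc
  have hpre : ∀ W : Y.Opens, W = σ ⁻¹ᵁ (f ⁻¹ᵁ W) := fun W => by
    rw [← Scheme.Hom.comp_preimage, hσ]
    rfl
  have happ : ∀ (W : Y.Opens) (h : Γ(Y, W)),
      AModX.resR (hpre W).le (σ.app (f ⁻¹ᵁ W) (f.app W h)) = h := fun W h => by
    rw [← CommRingCat.comp_apply, ← Scheme.Hom.comp_app, Scheme.Hom.congr_app hσ W]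
    simp only [Scheme.Hom.id_app, Category.id_comp]
    refine (AModX.resR_resR _ _ _).trans ?_
    exact AModX.resR_self h
  have hnorm : ∀ y, ∃ t : Γ(L, f ⁻¹ᵁ V y), IsFrame t ∧
      AModX.res _ (hpre (V y)).le (pullElt σ t) = AModX.res _ le_top e₀ := by
    intro y
    have hfr := (isFrame_pullElt σ (hs' y)).res (hpre (V y)).le
    obtain ⟨r, hr⟩ := hfr.exists_coord le_rfl (AModX.res _ (le_top : V y ≤ ⊤) e₀)
    obtain ⟨r', hr'⟩ := (he₀.res (le_top : V y ≤ ⊤)).exists_coord le_rfl
      (AModX.res _ (hpre (V y)).le (pullElt σ (s y)))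
    rw [AModX.res_self] at hr hr'
    have hu : IsUnit r := IsUnit.of_mul_eq_one r' (hfr.coord_unique le_rfl (by
      rw [AModX.res_self, one_smul, mul_comm, mul_smul, ← hr, ← hr']))
    refine ⟨f.app (V y) r • s y, (hs' y).isUnit_smul (hu.map _), ?_⟩
    rw [pullElt_smul, AModX.res_smul, happ, ← hr]
  choose t ht htσ using hnorm
  obtain ⟨T, hT, -⟩ := AModX.existsUnique_glue (M := L) (V := ⊤) (fun y => f ⁻¹ᵁ V y) (fun _ => le_top)
    (fun p _ => ⟨f p, hV (f p)⟩) t fun a b => by
      let W := V a ⊓ V b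
      have ha : f ⁻¹ᵁ W ≤ f ⁻¹ᵁ V a := f.preimage_mono inf_le_left
      have hb : f ⁻¹ᵁ W ≤ f ⁻¹ᵁ V b := f.preimage_mono inf_le_right
      obtain ⟨k, hk⟩ := (ht a).exists_coord ha (AModX.res L hb (t b))
      obtain ⟨h, rfl⟩ := (h0 W).2 k
      have h1 := congrArg (AModX.res _ (hpre W).le) (congrArg (pullElt σ) hk)
      rw [pullElt_smul, AModX.res_smul, happ, ← res_pullElt σ hb, ← res_pullElt σ ha, AModX.res_res,
        AModX.res_res] at h1
      have h2 := congrArg (AModX.res _ (inf_le_left : W ≤ V a)) (htσ a)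
      have h3 := congrArg (AModX.res _ (inf_le_right : W ≤ V b)) (htσ b)
      rw [AModX.res_res, AModX.res_res] at h2 h3
      rw [h2, h3] at h1
      have hh : h = 1 := (he₀.coord_unique le_top ((one_smul _ _).trans h1)).symm
      rw [hh, map_one, one_smul] at hk
      exact hk.symm
  refine triv_of_frame (e := T) (isFrame_of_germwise fun p _ => ⟨f ⁻¹ᵁ V (f p), le_top, hV (f p), ?_⟩)
  rw [hT]
  exact ht _

end Groth.Agent.H23.SeesawGlobal
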