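import Groth.Agent.H23.InfLift
import Groth.Agent.H23.SeesawGlobal
import Groth.Agent.QCoh.CechLoc
import Mathlib.RingTheory.Artinian.Module
import Mathlib.RingTheory.LocalRing.ResidueField.Basic

/-!
Modules trivial on both slices and on the special fibre are trivial over an Artinian local base.
-/

universe u

open CategoryTheory Limits AlgebraicGeometry MonoidalCategory CartesianMonoidalCategory TopologicalSpace Opposite

namespace Groth.Agent.H23.InfArtin

open TrivBasic InfLift ProdFun

variable {k : Type u} [Field k]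

/-- The spectrum of an algebra as an object over the field. -/
noncomputable abbrev spOver (B : Type u) [CommRing B] [Algebra k B] : Over (Spec (CommRingCat.of k)) :=
  Over.mk (Spec.map (CommRingCat.ofHom (algebraMap k B)))

/-- The morphism attached to a homomorphism of algebras. -/
noncomputable def spMap {B C : Type u} [CommRing B] [Algebra k B] [CommRing C] [Algebra k C] (q : B →ₐ[k] C) :
    spOver (k := k) C ⟶ spOver B :=
  Over.homMk (Spec.map (CommRingCat.ofHom q.toRingHom)) (by
    show Spec.map _ ≫ Spec.map _ = Spec.map _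
    rw [← Spec.map_comp]
    exact congrArg Spec.map (CommRingCat.hom_ext q.comp_algebraMap))

theorem spMap_comp {B C D : Type u} [CommRing B] [Algebra k B] [CommRing C] [Algebra k C] [CommRing D] [Algebra k D]
    (q : B →ₐ[k] C) (q' : C →ₐ[k] D) : spMap q' ≫ spMap q = spMap (q'.comp q) := by
  apply Over.OverMorphism.ext
  show Spec.map _ ≫ Spec.map _ = Spec.map _
  rw [← Spec.map_comp]
  rfl

/-- The global functions of the spectrum. -/
noncomputable def gammaEquiv (B : Type u) [CommRing B] [Algebra k B] :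
    B ≃ₗ[k] Γ((spOver (k := k) B).left, ⊤) :=
  { ((Scheme.ΓSpecIso (CommRingCat.of B)).symm.commRingCatIsoToRingEquiv).toAddEquiv with
    map_smul' := fun c b => by
      show (Scheme.ΓSpecIso (CommRingCat.of B)).inv (c • b) =
        c • (show Γ((spOver (k := k) B).left, ⊤) from (Scheme.ΓSpecIso (CommRingCat.of B)).inv b)
      rw [Algebra.smul_def, Algebra.smul_def, map_mul]
      congr 1
      rw [algebraMap_def]
      show _ = (Spec.map (CommRingCat.ofHom (algebraMap k B))).appLE ⊤ ⊤ le_top _
      rw [show (Spec.map (CommRingCat.ofHom (algebraMap k B))).appLE ⊤ ⊤ le_top =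
        (Spec.map (CommRingCat.ofHom (algebraMap k B))).appTop by simp [Scheme.Hom.appLE]]
      exact congr($(Scheme.ΓSpecIso_inv_naturality (CommRingCat.ofHom (algebraMap k B))) c) }

theorem pullFun_spMap {B C : Type u} [CommRing B] [Algebra k B] [CommRing C] [Algebra k C] (q : B →ₐ[k] C)
    (h : (⊤ : (spOver (k := k) C).left.Opens) ≤ (spMap q).left ⁻¹ᵁ ⊤) (b : B) :
    pullFun (spMap q) h (gammaEquiv B b) = gammaEquiv C (q b) := by
  show (Spec.map (CommRingCat.ofHom q.toRingHom)).appLE ⊤ ⊤ h _ = _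
  rw [show (Spec.map (CommRingCat.ofHom q.toRingHom)).appLE ⊤ ⊤ h =
    (Spec.map (CommRingCat.ofHom q.toRingHom)).appTop by simp [Scheme.Hom.appLE]]
  exact congr($(Scheme.ΓSpecIso_inv_naturality (CommRingCat.ofHom q.toRingHom)) b).symm

theorem isClosedImmersion_spMap {B C : Type u} [CommRing B] [Algebra k B] [CommRing C] [Algebra k C]
    (q : B →ₐ[k] C) (hq : Function.Surjective q) : IsClosedImmersion (spMap q).left :=
  IsClosedImmersion.spec_of_surjective (CommRingCat.ofHom q.toRingHom) hq

theorem surjective_spMap {B C : Type u} [CommRing B] [Algebra k B] [CommRing C] [Algebra k C]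
    (q : B →ₐ[k] C) (hq : Function.Surjective q) (hnil : ∀ b, q b = 0 → IsNilpotent b) :
    Surjective (spMap q).left := by
  refine ⟨fun (P : PrimeSpectrum B) => ?_⟩
  have h : RingHom.ker q.toRingHom ≤ P.asIdeal := fun b hb => by
    obtain ⟨n, hn⟩ := hnil b hb
    exact P.isPrime.mem_of_pow_mem n (hn ▸ zero_mem _)
  have hr : P ∈ Set.range (PrimeSpectrum.comap q.toRingHom) := by
    rw [range_comap_of_surjective _ _ hq]
    exact h
  exact hr

variable {X Y : Over (Spec (CommRingCat.of k))} [IsProper X.hom] [IsProper Y.hom]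
  (hX : Function.Bijective X.hom.appTop) (hY : Function.Bijective Y.hom.appTop)
  (x₀ : 𝟙_ (Over (Spec (CommRingCat.of k))) ⟶ X) (y₀ : 𝟙_ (Over (Spec (CommRingCat.of k))) ⟶ Y)

theorem algebraMap_top_bijective' (S : Over (Spec (CommRingCat.of k))) (h : Function.Bijective S.hom.appTop) :
    Function.Bijective (algebraMap k Γ(S.left, ⊤)) :=
  KunnethH1.algebraMap_top_bijective S h

theorem isClosedImmersion_section {S P Q : Over (Spec (CommRingCat.of k))} (σ : S ⟶ P) (g : P ⟶ Q)
    [IsIso (σ ≫ g)] [IsSeparated g.left] : IsClosedImmersion σ.left := by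
  haveI : IsIso (σ.left ≫ g.left) := by
    rw [← Over.comp_left]
    exact (Over.forget _).map_isIso (σ ≫ g)
  exact IsClosedImmersion.of_comp σ.left g.left

include hX hY in
/-- A square-zero step for a product of two proper schemes. -/
theorem triv_prod_step (T T' : Over (Spec (CommRingCat.of k))) [IsAffine T.left] [IsAffine T'.left]
    [IsSeparated T.hom] [IsSeparated T'.hom] [Module.Finite k Γ(T.left, ⊤)] (p : T' ⟶ T)
    [IsClosedImmersion p.left] [Surjective p.left]
    (hI : ∀ a ∈ ker₀ p, ∀ b ∈ ker₀ p, a * b = 0)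
    (L : ((X ⊗ Y) ⊗ T).left.Modules) (hL : PicF.IsInvertible L)
    (h' : Triv ((Scheme.Modules.pullback ((X ⊗ Y) ◁ p).left).obj L))
    (h₁ : Triv ((Scheme.Modules.pullback (lift (toUnit Y ≫ x₀) (𝟙 Y) ▷ T).left).obj L))
    (h₂ : Triv ((Scheme.Modules.pullback (lift (𝟙 X) (toUnit X ≫ y₀) ▷ T).left).obj L)) : Triv L := by
  haveI : CompactSpace X.left := QuasiCompact.compactSpace_of_compactSpace X.hom
  haveI : CompactSpace Y.left := QuasiCompact.compactSpace_of_compactSpace Y.hom
  haveI : X.left.IsSeparated := ⟨by rw [← Limits.terminal.comp_from X.hom]; infer_instance⟩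
  haveI : Y.left.IsSeparated := ⟨by rw [← Limits.terminal.comp_from Y.hom]; infer_instance⟩
  obtain ⟨ι, _, U, hU, hUσ⟩ := QCoh.exists_affine_cover (X := X.left)
  obtain ⟨κ, _, O, hO, hOσ⟩ := QCoh.exists_affine_cover (X := Y.left)
  have hU1 : ∀ i, IsAffineOpen (U i) := fun i => by simpa using hUσ (p := 0) fun _ => i
  have hO1 : ∀ j, IsAffineOpen (O j) := fun j => by simpa using hOσ (p := 0) fun _ => j
  have hcU : ∀ x : X.left, ∃ i, x ∈ U i := fun x => by
    have : x ∈ ⨆ i, U i := hU.symm ▸ trivial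
    exact Opens.mem_iSup.1 this
  have hcO : ∀ x : Y.left, ∃ j, x ∈ O j := fun x => by
    have : x ∈ ⨆ j, O j := hO.symm ▸ trivial
    exact Opens.mem_iSup.1 this
  haveI : IsProper (X ⊗ Y).hom := by
    show IsProper (pullback.fst X.hom Y.hom ≫ X.hom)
    infer_instance
  haveI hc₁ : IsClosedImmersion (lift (toUnit Y ≫ x₀) (𝟙 Y)).left := by
    haveI : IsSeparated (snd X Y).left := inferInstanceAs (IsSeparated (pullback.snd X.hom Y.hom))
    haveI : IsIso (lift (toUnit Y ≫ x₀) (𝟙 Y) ≫ snd X Y) := by rw [lift_snd]; infer_instance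
    exact isClosedImmersion_section _ (snd X Y)
  haveI hc₂ : IsClosedImmersion (lift (𝟙 X) (toUnit X ≫ y₀)).left := by
    haveI : IsSeparated (fst X Y).left := inferInstanceAs (IsSeparated (pullback.fst X.hom Y.hom))
    haveI : IsIso (lift (𝟙 X) (toUnit X ≫ y₀) ≫ fst X Y) := by rw [lift_fst]; infer_instance
    exact isClosedImmersion_section _ (fst X Y)
  let Sl : Bool → Over (Spec (CommRingCat.of k)) := fun b => match b with
    | true => Y
    | false => X
  let σ : ∀ b, Sl b ⟶ X ⊗ Y := fun b => match b with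
    | true => lift (toUnit Y ≫ x₀) (𝟙 Y)
    | false => lift (𝟙 X) (toUnit X ≫ y₀)
  haveI hSl : ∀ b, IsProper (Sl b).hom := by
    rintro (_ | _)
    · exact inferInstanceAs (IsProper X.hom)
    · exact inferInstanceAs (IsProper Y.hom)
  haveI hσc : ∀ b, IsClosedImmersion (σ b).left := by
    rintro (_ | _)
    · exact hc₂
    · exact hc₁
  refine InfLift.triv_step (X := X ⊗ Y) (KunnethH1.boxes U O) (fun a => ?_) (fun z => ?_) Sl σ ?_ ?_ p hI L hL h' ?_
  · exact Groth.Agent.S17858.isAffineOpen_inf_pullback X.hom Y.hom (hU1 a.1) (hO1 a.2)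
      (isAffineOpen_top (Spec (CommRingCat.of k))) le_top le_top
  · obtain ⟨i, hi⟩ := hcU ((fst X Y).left z)
    obtain ⟨j, hj⟩ := hcO ((snd X Y).left z)
    exact ⟨(i, j), hi, hj⟩
  · rintro (_ | _)
    · exact algebraMap_top_bijective' X hX
    · exact algebraMap_top_bijective' Y hY
  · intro c hc hs
    exact KunnethH1.isCobound_of_slices U O hcU hcO hU1 hO1 hX hY x₀ y₀ c hc (hs true) (hs false)
  · rintro (_ | _)
    · exact h₂
    · exact h₁

include hX hY in
/-- Triviality over an Artinian local algebra with residue field `k`. -/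
theorem triv_artin (B : Type u) [CommRing B] [Algebra k B] [Module.Finite k B] [IsLocalRing B]
    (hres : Function.Surjective (algebraMap k (IsLocalRing.ResidueField B)))
    (L : ((X ⊗ Y) ⊗ spOver (k := k) B).left.Modules) (hL : PicF.IsInvertible L)
    (h₀ : ∀ ε : B →ₐ[k] k,
      Triv ((Scheme.Modules.pullback ((X ⊗ Y) ◁ spMap ε).left).obj L))
    (h₁ : Triv ((Scheme.Modules.pullback (lift (toUnit Y ≫ x₀) (𝟙 Y) ▷ spOver (k := k) B).left).obj L))
    (h₂ : Triv ((Scheme.Modules.pullback (lift (𝟙 X) (toUnit X ≫ y₀) ▷ spOver (k := k) B).left).obj L)) :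
    Triv L := by
  haveI : IsArtinianRing B := IsArtinianRing.of_finite k B
  let m := IsLocalRing.maximalIdeal B
  obtain ⟨N, hN⟩ := (isArtinianRing_iff_isNilpotent_maximalIdeal B).1 inferInstance
  let q : ∀ j, B →ₐ[k] B ⧸ m ^ j := fun j => Ideal.Quotient.mkₐ k (m ^ j)
  have main : ∀ j, Triv ((Scheme.Modules.pullback ((X ⊗ Y) ◁ spMap (q (j + 1))).left).obj L) := by
    intro j
    induction j with
    | zero =>
      have hb : Function.Bijective (algebraMap k (B ⧸ m ^ (0 + 1))) := by
        refine ⟨?_, fun x => ?_⟩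
        · haveI : Nontrivial (B ⧸ m ^ (0 + 1)) :=
            Ideal.Quotient.nontrivial_iff.2 (by
              rw [zero_add, pow_one]
              exact (IsLocalRing.maximalIdeal.isMaximal B).ne_top)
          exact (algebraMap k (B ⧸ m ^ (0 + 1))).injective
        · obtain ⟨b, rfl⟩ := Ideal.Quotient.mk_surjective x
          obtain ⟨c, hc⟩ := hres (IsLocalRing.residue B b)
          refine ⟨c, ?_⟩
          rw [← Ideal.Quotient.mk_algebraMap, Ideal.Quotient.eq, zero_add, pow_one]
          show algebraMap k B c - b ∈ IsLocalRing.maximalIdeal B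
          rw [← Ideal.Quotient.eq]
          exact hc
      let e := AlgEquiv.ofBijective (Algebra.ofId k (B ⧸ m ^ (0 + 1))) hb
      have heq : spMap (q (0 + 1)) = spMap e.toAlgHom ≫ spMap (e.symm.toAlgHom.comp (q (0 + 1))) := by
        rw [spMap_comp]
        congr 1
        exact AlgHom.ext fun b => (e.apply_symm_apply _).symm
      refine SeesawGlobal.triv_of_factor ((X ⊗ Y) ◁ spMap e.toAlgHom).left ?_ (h₀ (e.symm.toAlgHom.comp (q (0 + 1))))
      rw [← Over.comp_left, ← MonoidalCategory.whiskerLeft_comp, ← heq]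
    | succ j ih =>
      let p := Ideal.Quotient.factorₐ k (Ideal.pow_le_pow_right (Nat.le_succ (j + 1)) : m ^ (j + 1 + 1) ≤ m ^ (j + 1))
      have hpq : p.comp (q (j + 1 + 1)) = q (j + 1) := AlgHom.ext fun b => rfl
      have hp : Function.Surjective p := fun x => by
        obtain ⟨b, rfl⟩ := Ideal.Quotient.mk_surjective x
        exact ⟨Ideal.Quotient.mk _ b, rfl⟩
      have hker : ∀ x, p x = 0 → ∃ b ∈ m ^ (j + 1), Ideal.Quotient.mk _ b = x := fun x hx => by
        obtain ⟨b, rfl⟩ := Ideal.Quotient.mk_surjective x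
        exact ⟨b, Ideal.Quotient.eq_zero_iff_mem.1 hx, rfl⟩
      have hsq : ∀ x y, p x = 0 → p y = 0 → x * y = 0 := fun x y hx hy => by
        obtain ⟨a, ha, rfl⟩ := hker x hx
        obtain ⟨b, hb, rfl⟩ := hker y hy
        rw [← map_mul, Ideal.Quotient.eq_zero_iff_mem]
        refine Ideal.pow_le_pow_right (show j + 1 + 1 ≤ (j + 1) + (j + 1) by omega) ?_
        rw [pow_add]
        exact Ideal.mul_mem_mul ha hb
      let T := spOver (k := k) (B ⧸ m ^ (j + 1 + 1))
      let T' := spOver (k := k) (B ⧸ m ^ (j + 1))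
      haveI : Module.Finite k Γ(T.left, ⊤) := Module.Finite.equiv (gammaEquiv (B ⧸ m ^ (j + 1 + 1)))
      haveI : IsAffine T.left := inferInstanceAs (IsAffine (Spec (CommRingCat.of (B ⧸ m ^ (j + 1 + 1)))))
      haveI : IsAffine T'.left := inferInstanceAs (IsAffine (Spec (CommRingCat.of (B ⧸ m ^ (j + 1)))))
      haveI : IsSeparated T.hom := inferInstanceAs (IsSeparated (Spec.map (CommRingCat.ofHom (algebraMap k (B ⧸ m ^ (j + 1 + 1))))))
      haveI : IsSeparated T'.hom := inferInstanceAs (IsSeparated (Spec.map (CommRingCat.ofHom (algebraMap k (B ⧸ m ^ (j + 1))))))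
      haveI : IsClosedImmersion (spMap p).left := isClosedImmersion_spMap p hp
      haveI : Surjective (spMap p).left :=
        surjective_spMap p hp fun x hx => ⟨2, by rw [pow_two]; exact hsq x x hx hx⟩
      refine triv_prod_step hX hY x₀ y₀ T T' (spMap p) ?_ _ (PicClLib.isInvertible_pullback _ hL) ?_ ?_ ?_
      · intro a ha b hb
        obtain ⟨a', rfl⟩ := (gammaEquiv (B ⧸ m ^ (j + 1 + 1))).surjective a
        obtain ⟨b', rfl⟩ := (gammaEquiv (B ⧸ m ^ (j + 1 + 1))).surjective b
        have ha' : p a' = 0 := (gammaEquiv (B ⧸ m ^ (j + 1))).injective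
          ((pullFun_spMap p (le_of_eq rfl) a').symm.trans ((LinearMap.mem_ker.1 ha).trans (map_zero _).symm))
        have hb' : p b' = 0 := (gammaEquiv (B ⧸ m ^ (j + 1))).injective
          ((pullFun_spMap p (le_of_eq rfl) b').symm.trans ((LinearMap.mem_ker.1 hb).trans (map_zero _).symm))
        refine Eq.trans ?_ ((congrArg _ (hsq a' b' ha' hb')).trans (map_zero (gammaEquiv (B ⧸ m ^ (j + 1 + 1)))))
        exact (map_mul (Scheme.ΓSpecIso (CommRingCat.of (B ⧸ m ^ (j + 1 + 1)))).inv.hom a' b').symm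
      · refine (TrivBasic.triv_comp_iff _ _).2 ?_
        rw [← Over.comp_left, ← MonoidalCategory.whiskerLeft_comp, spMap_comp, hpq]
        exact ih
      · refine (TrivBasic.triv_comp_iff _ _).2 ?_
        rw [← Over.comp_left, ← whisker_exchange]
        exact SeesawGlobal.triv_of_factor (Y ◁ spMap (q (j + 1 + 1))).left rfl h₁
      · refine (TrivBasic.triv_comp_iff _ _).2 ?_
        rw [← Over.comp_left, ← whisker_exchange]
        exact SeesawGlobal.triv_of_factor (X ◁ spMap (q (j + 1 + 1))).left rfl h₂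
  have hb : Function.Bijective (q (N + 1)) := by
    refine ⟨fun a b hab => ?_, Ideal.Quotient.mk_surjective⟩
    have h := Ideal.Quotient.eq.1 hab
    rw [show m ^ (N + 1) = ⊥ by rw [pow_succ, hN, Submodule.zero_eq_bot, Ideal.bot_mul], Submodule.mem_bot,
      sub_eq_zero] at h
    exact h
  let e := AlgEquiv.ofBijective (q (N + 1)) hb
  have hid : spMap e.symm.toAlgHom ≫ spMap (q (N + 1)) = 𝟙 (spOver (k := k) B) := by
    rw [spMap_comp]
    apply Over.OverMorphism.ext
    show Spec.map _ = 𝟙 _
    rw [← Spec.map_id]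
    congr 1
    exact CommRingCat.hom_ext (RingHom.ext fun b => e.symm_apply_apply b)
  have h := SeesawGlobal.triv_of_factor ((X ⊗ Y) ◁ spMap e.symm.toAlgHom).left rfl (main N)
  rw [← Over.comp_left, ← MonoidalCategory.whiskerLeft_comp, hid, MonoidalCategory.whiskerLeft_id, Over.id_left] at h
  exact TrivBasic.triv_id_iff.1 h

end Groth.Agent.H23.InfArtin
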