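import Groth.Agent.InvX.Tensor
import Groth.Agent.KFlatLib.Scheme.TensorStalk
import Groth.Agent.KFlatLib.Scheme.Exact
import Groth.Agent.AssLib.Basic
import Groth.Agent.AssPtX.Noeth
import Mathlib.GroupTheory.CosetCover
import Mathlib.RingTheory.Nakayama

/-!
Prime avoidance for sections of an invertible module: a combination of generators that is regular
with respect to finitely many coherent modules.
-/

universe u

open CategoryTheory CategoryTheory.Limits AlgebraicGeometry TopologicalSpace MonoidalCategory Opposite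
open IsLocalRing
open scoped TensorProduct

set_option backward.isDefEq.respectTransparency false
set_option backward.isDefEq.respectTransparency.types false

namespace Groth.Agent.H23.GenAvoid

open Groth.Agent Groth.Agent.AModX

/-- Multiplication on `M`, seen after tensoring a map of free rank one modules. -/
theorem lTensor_injective_of_gen {R M N P : Type u} [CommRing R] [AddCommGroup M] [Module R M]
    [AddCommGroup N] [Module R N] [AddCommGroup P] [Module R P] (n₀ : N) (p₀ : P)
    (hn : Function.Bijective fun r : R => r • n₀) (hp : Function.Bijective fun r : R => r • p₀)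
    (f : N →ₗ[R] P) (g : R) (hf : f n₀ = g • p₀) (hg : IsSMulRegular M g) :
    Function.Injective (f.lTensor M) := by
  let eN : R ≃ₗ[R] N := LinearEquiv.ofBijective (LinearMap.toSpanSingleton R N n₀) hn
  let eP : R ≃ₗ[R] P := LinearEquiv.ofBijective (LinearMap.toSpanSingleton R P p₀) hp
  have hsq : f ∘ₗ eN.toLinearMap = eP.toLinearMap ∘ₗ (g • (LinearMap.id : R →ₗ[R] R)) :=
    LinearMap.ext_ring (by simp [eN, eP, hf])
  let aN := (TensorProduct.rid R M).symm.trans (eN.lTensor M)
  let aP := (TensorProduct.rid R M).symm.trans (eP.lTensor M)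
  have key : ∀ m : M, f.lTensor M (aN m) = aP (g • m) := fun m => by
    have h := LinearMap.congr_fun hsq 1
    simp only [LinearMap.comp_apply, LinearEquiv.coe_coe, LinearMap.smul_apply, LinearMap.id_apply] at h
    simp only [aN, aP, LinearEquiv.trans_apply, TensorProduct.rid_symm_apply, LinearEquiv.lTensor_tmul,
      LinearMap.lTensor_tmul]
    rw [h, map_smul, TensorProduct.tmul_smul, ← TensorProduct.smul_tmul']
  intro a b h
  obtain ⟨m, rfl⟩ := aN.surjective a
  obtain ⟨m', rfl⟩ := aN.surjective b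
  rw [key, key] at h
  exact congrArg aN (hg (aP.injective h))

variable {X : Scheme.{u}} {L F : X.Modules}

/-- On an affine open, an element which is a unit at the associated points acts injectively on stalks. -/
theorem isSMulRegular_germ [IsLocallyNoetherian X] (hF : Coh.IsQCoh F) {U : X.Opens} (hU : IsAffineOpen U)
    {x : X} (hx : x ∈ U) (g : Γ(X, U)) (hg : ∀ y ∈ AssSch.Ass F, y ∈ U → y ∈ X.basicOpen g) :
    IsSMulRegular (F.presheaf.stalk x) (X.presheaf.germ U x hx g) := by
  letI := QCoh.stalkAlg (X := X) hx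
  letI := QCoh.stalkModule F hx
  haveI := QCoh.isScalarTower_stalk F hx
  haveI := QCoh.isLocalization_stalk' hU hx
  haveI := QCoh.isLocalizedModule_germLin hF hU hx
  haveI : IsNoetherianRing Γ(X, U) := IsLocallyNoetherian.component_noetherian ⟨U, hU⟩
  haveI : IsNoetherianRing (X.presheaf.stalk x) :=
    IsLocalization.isNoetherianRing (hU.primeIdealOf ⟨x, hx⟩).asIdeal.primeCompl _ inferInstance
  by_contra hreg
  rw [isSMulRegular_iff_right_eq_zero_of_smul] at hreg
  push Not at hreg
  obtain ⟨m, hm, hm0⟩ := hreg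
  obtain ⟨q, hq, hmq⟩ := exists_le_isAssociatedPrime_of_isNoetherianRing (X.presheaf.stalk x) m hm0
  have hgq : X.presheaf.germ U x hx g ∈ q := hmq (Submodule.mem_colon_singleton.2 (by rw [hm]; exact zero_mem _))
  have hq' : q ∈ associatedPrimes (X.presheaf.stalk x) (F.presheaf.stalk x) := hq
  rw [← Module.associatedPrimes.preimage_comap_associatedPrimes_eq_associatedPrimes_of_isLocalizedModule
    (hU.primeIdealOf ⟨x, hx⟩).asIdeal.primeCompl (X.presheaf.stalk x) (QCoh.germLin F hx), Set.mem_preimage] at hq'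
  obtain ⟨y, hyU, hy⟩ := QCoh.exists_point hU ⟨_, hq'.1⟩
  refine (QCoh.mem_basicOpen_iff_notMem hU hyU g).1
    (hg y ((AssLib.mem_ass_iff hF hU hyU).2 (by rw [hy]; exact hq')) hyU) ?_
  rw [hy]
  exact hgq

/-- Regularity with respect to `F` from generation at the associated points of `F`. -/
theorem mono_tensor_of_ass [IsLocallyNoetherian X] (hL : PicF.IsInvertible L) (hF : Coh.IsQCoh F)
    (τ : Coh.structureModule X ⟶ L) (h : ∀ y ∈ AssSch.Ass F, y ∈ CohB1.genLocus L τ) :
    Mono ((DCoh.tensorBi.obj F).map τ) := by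
  let S := ShortComplex.mk (0 : Coh.structureModule X ⟶ (DCoh.tensorBi.obj F).obj (Coh.structureModule X))
    ((DCoh.tensorBi.obj F).map τ) zero_comp
  refine (ShortComplex.exact_iff_mono S rfl).1 ((KFlatLib.exact_iff_stalk S).2 fun x => ?_)
  obtain ⟨U₀, hxU₀, e, he⟩ := InvX.exists_frame hL x
  obtain ⟨_, ⟨U, hU, rfl⟩, hx, hle⟩ :=
    X.isBasis_affineOpens.exists_subset_of_mem_open (show x ∈ U₀ from hxU₀) U₀.2
  have he' := he.res (show U ≤ U₀ from hle)
  obtain ⟨g, hg⟩ := he'.exists_coord le_rfl (res L (le_top : U ≤ ⊤) (InvX.one τ))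
  rw [res_self] at hg
  have hbo := InvX.genLocus_inf τ he' hg
  have hreg : IsSMulRegular (F.presheaf.stalk x) (X.presheaf.germ U x hx g) :=
    isSMulRegular_germ hF hU hx g fun y hy hyU => hbo ▸ ⟨h y hy, hyU⟩
  have hτ : ((DerSch.stalkFunctor X x).map τ).hom
      ((Coh.structureModule X).presheaf.germ ⊤ x trivial (1 : Γ(X, ⊤))) =
      X.presheaf.germ U x hx g • L.presheaf.germ U x hx (res L hle e) := by
    rw [← QCoh.germ_smul' L hx, ← hg, InvX.germ_res' le_top hx]
    exact TopCat.Presheaf.stalkFunctor_map_germ_apply ⊤ x trivial (Scheme.Modules.Hom.mapPresheaf τ) _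
  have hinj := lTensor_injective_of_gen (M := (DerSch.stalkFunctor X x).obj F)
    ((Coh.structureModule X).presheaf.germ ⊤ x trivial (1 : Γ(X, ⊤)))
    (L.presheaf.germ U x hx (res L hle e))
    ((InvX.isFrame_one ⊤).germ_bijective trivial) (he'.germ_bijective hx) _ _ hτ hreg
  let T := tensorLeft ((DerSch.stalkFunctor X x).obj F)
  let i := KFlatLib.stalkTensorLeftIso F x
  haveI hm : Mono (T.map ((DerSch.stalkFunctor X x).map τ)) := by
    rw [ModuleCat.mono_iff_injective]
    exact hinj
  haveI : Mono (S.map (DerSch.stalkFunctor X x)).g := by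
    show Mono ((DCoh.tensorBi.obj F ⋙ DerSch.stalkFunctor X x).map τ)
    rw [← NatIso.naturality_2 i τ]
    exact inferInstanceAs (Mono (i.hom.app _ ≫ T.map ((DerSch.stalkFunctor X x).map τ) ≫ i.inv.app _))
  exact (ShortComplex.exact_iff_mono _ (by simp [S])).2 inferInstance

/-- A vector avoiding finitely many proper submodules of a finite free module over a local ring with
infinite residue field. -/
theorem exists_notMem_submodules {A : Type u} [CommRing A] [IsLocalRing A] [Infinite (ResidueField A)]
    {n : ℕ} {ι : Type u} [Finite ι] (M : ι → Submodule A (Fin n → A)) (hM : ∀ i, M i ≠ ⊤) :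
    ∃ a : Fin n → A, ∀ i, a ∉ M i := by
  let π : (Fin n → A) →ₗ[A] (Fin n → ResidueField A) :=
    LinearMap.pi fun j => (Algebra.linearMap A (ResidueField A)).comp (LinearMap.proj j)
  have hπ : Function.Surjective π := fun v => by
    choose a ha using fun j => IsLocalRing.residue_surjective (R := A) (v j)
    exact ⟨a, funext ha⟩
  let P : ι → Subspace (ResidueField A) (Fin n → ResidueField A) := fun i =>
    { carrier := π '' M i
      add_mem' := by rintro _ _ ⟨a, ha, rfl⟩ ⟨b, hb, rfl⟩; exact ⟨a + b, add_mem ha hb, map_add π a b⟩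
      zero_mem' := ⟨0, zero_mem _, map_zero π⟩
      smul_mem' := by
        rintro c _ ⟨a, ha, rfl⟩
        obtain ⟨c, rfl⟩ := IsLocalRing.residue_surjective (R := A) c
        exact ⟨c • a, Submodule.smul_mem _ _ ha, funext fun j => (map_mul (residue A) c (a j))⟩ }
  have hP : ∀ i, P i ≠ ⊤ := fun i htop => by
    refine hM i (top_unique (Submodule.le_of_le_smul_of_le_jacobson_bot (I := maximalIdeal A)
      Module.Finite.fg_top (maximalIdeal_le_jacobson _) fun a _ => ?_))
    have hmem : π a ∈ P i := htop ▸ Submodule.mem_top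
    obtain ⟨b, hb, hab⟩ := hmem
    rw [show a = b + (a - b) by abel]
    refine add_mem (Submodule.mem_sup_left hb) (Submodule.mem_sup_right ?_)
    rw [show a - b = ∑ j, (a - b) j • Pi.single j (1 : A) from pi_eq_sum_univ' (a - b)]
    refine Submodule.sum_mem _ fun j _ => Submodule.smul_mem_smul ?_ Submodule.mem_top
    rw [← IsLocalRing.residue_eq_zero_iff]
    exact (map_sub _ (a j) (b j)).trans (sub_eq_zero.2 (congrFun hab j).symm)
  obtain ⟨v, hv⟩ : ∃ v, ∀ i, v ∉ P i := by
    by_contra hcon
    push Not at hcon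
    obtain ⟨i, hi⟩ := Subspace.exists_eq_top_of_iUnion_eq_univ (p := P)
      (Set.eq_univ_of_forall fun v => Set.mem_iUnion.2 (hcon v))
    exact hP i hi
  obtain ⟨a, rfl⟩ := hπ v
  exact ⟨a, fun i ha => hv i ⟨a, ha, rfl⟩⟩

/-- A combination of generating sections generates at finitely many given points. -/
theorem exists_combination {A : Type u} [CommRing A] [IsLocalRing A] [Infinite (ResidueField A)]
    (φ : A →+* Γ(X, ⊤)) (hL : PicF.IsInvertible L) {N : ℕ}
    (σ : Fin (N + 1) → (Coh.structureModule X ⟶ L)) (hgen : ∀ x : X, ∃ i, x ∈ CohB1.genLocus L (σ i))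
    (T : Set X) (hT : T.Finite) :
    ∃ (τ : Coh.structureModule X ⟶ L) (a : Fin (N + 1) → A),
      InvX.one τ = ∑ i, φ (a i) • InvX.one (σ i) ∧ ∀ y ∈ T, y ∈ CohB1.genLocus L τ := by
  have := hT.to_subtype
  choose U hyU e he using fun y : T => InvX.exists_frame hL (y : X)
  choose γ hγ using fun (y : T) (i : Fin (N + 1)) =>
    (he y).exists_coord le_rfl (res L (le_top : U y ≤ ⊤) (InvX.one (σ i)))
  let M : T → Submodule A (Fin (N + 1) → A) := fun y =>
    { carrier := {a | ∑ i, residue _ (X.presheaf.germ (U y) y (hyU y) (resR le_top (φ (a i)) * γ y i)) = 0}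
      add_mem' := fun {a b} ha hb => by
        simp only [Set.mem_setOf_eq, Pi.add_apply, map_add, add_mul, Finset.sum_add_distrib] at ha hb ⊢
        rw [ha, hb, add_zero]
      zero_mem' := by simp
      smul_mem' := fun c a ha => by
        simp only [Set.mem_setOf_eq, Pi.smul_apply, smul_eq_mul, map_mul, mul_assoc, ← Finset.mul_sum] at ha ⊢
        rw [ha, mul_zero] }
  have hM : ∀ y, M y ≠ ⊤ := fun y htop => by
    obtain ⟨i, hi⟩ := hgen (y : X)
    have h1 : (y : X) ∈ X.basicOpen (γ y i) := by
      rw [← InvX.genLocus_inf (σ i) (he y) (by rw [hγ, res_self])]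
      exact ⟨hi, hyU y⟩
    have h2 := (X.mem_basicOpen _ _ (hyU y)).1 h1
    have hs : Pi.single i (1 : A) ∈ M y := htop ▸ Submodule.mem_top
    change ∑ j, residue _ (X.presheaf.germ (U y) y (hyU y) (resR le_top (φ ((Pi.single i (1 : A) : Fin (N + 1) → A) j)) * γ y j)) = 0 at hs
    rw [Finset.sum_eq_single i (fun j _ hj => by simp [Pi.single_eq_of_ne hj]) (by simp), Pi.single_eq_same,
      map_one, map_one, one_mul, residue_eq_zero_iff] at hs
    exact hs h2
  obtain ⟨a, ha⟩ := exists_notMem_submodules M hM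
  refine ⟨InvX.ofSect (∑ i, φ (a i) • InvX.one (σ i)), a, InvX.one_ofSect _, fun y hy => ?_⟩
  let y' : ↥T := ⟨y, hy⟩
  have hco : res L (le_top : U y' ≤ ⊤) (InvX.one (InvX.ofSect (∑ i, φ (a i) • InvX.one (σ i)))) =
      (∑ i, resR le_top (φ (a i)) * γ y' i) • e y' := by
    rw [InvX.one_ofSect, map_sum, Finset.sum_smul]
    exact Finset.sum_congr rfl fun i _ => by rw [res_smul, hγ, res_self, mul_smul]
  have hb : y ∈ X.basicOpen (∑ i, resR le_top (φ (a i)) * γ y' i) := by
    rw [X.mem_basicOpen _ _ (hyU y')]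
    by_contra hu
    refine ha y' ?_
    show ∑ i, residue _ (X.presheaf.germ (U y') y' (hyU y') (resR le_top (φ (a i)) * γ y' i)) = 0
    rw [← map_sum, ← map_sum, residue_eq_zero_iff]
    exact hu
  rw [← InvX.genLocus_inf _ (he y') hco] at hb
  exact hb.1

end Groth.Agent.H23.GenAvoid
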