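import Groth.Agent.H23.FibreDegSum
import Groth.Agent.H23.FlatShift
import Groth.Agent.CycLib.Finite
import Groth.Agent.FibDim.RelDim

/-! Flat pull-back commutes with proper push-forward of cycles. -/

set_option autoImplicit false

universe u

open AlgebraicGeometry CategoryTheory Limits

namespace Groth.Agent.H23.FlatShift

open Groth.Agent FiniteFibreSum

variable {X Y X' Y' : Scheme.{u}}

theorem fibreLen_ne_top (p : X' ⟶ X) [IsLocallyNoetherian X'] {z : X'} (hz : FibDim.FibMax p z) :
    fibreLen p z ≠ ⊤ := by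
  obtain ⟨x, hx⟩ : ∃ x, p z = x := ⟨_, rfl⟩
  obtain ⟨w, rfl⟩ : z ∈ Set.range (p.fiberι x) := by rw [Scheme.Hom.range_fiberι]; exact hx
  rw [fibreLen_fiberι]
  haveI : IsNoetherianRing ((p.fiber x).presheaf.stalk w) :=
    isNoetherianRing_of_surjective _ _ ((p.fiberι x).stalkMap w).hom ((p.fiberι x).stalkMap_surjective w)
  have hmax := (FibDim.fibMax_fiberι_iff p w).1 hz
  haveI : Ring.KrullDimLE 0 ((p.fiber x).presheaf.stalk w) := Ring.krullDimLE_zero_iff.2 fun I hI => by
    have h1 : ∀ q, (p.fiber x).fromSpecStalk w q = w := fun q => hmax _ (by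
      have : (p.fiber x).fromSpecStalk w q ∈ Set.range ((p.fiber x).fromSpecStalk w) := ⟨q, rfl⟩
      rwa [Scheme.range_fromSpecStalk] at this)
    have h2 := ((p.fiber x).fromSpecStalk w).isEmbedding.injective
      ((h1 ⟨I, hI⟩).trans (h1 (IsLocalRing.closedPoint _)).symm)
    rw [show I = IsLocalRing.maximalIdeal _ from congrArg PrimeSpectrum.asIdeal h2]
    exact IsLocalRing.maximalIdeal.isMaximal _
  haveI : IsArtinianRing ((p.fiber x).presheaf.stalk w) := isArtinianRing_iff_isNoetherianRing_krullDimLE_zero.2 ⟨inferInstance, inferInstance⟩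
  exact Module.length_ne_top

theorem map_pullFun_baseChange {q : Y' ⟶ Y} {f' : Y' ⟶ X'} {f : Y ⟶ X} {p : X' ⟶ X} (h : IsPullback q f' f p)
    [LocallyOfFiniteType f] [QuasiCompact f] [LocallyOfFiniteType f'] [QuasiCompact f'] [IsLocallyNoetherian X']
    {δ : X → ℤ} {δ' : X' → ℤ} {δY : Y → ℤ} {δY' : Y' → ℤ} {c : ℤ} (hc : HasShift p δ' δ c)
    (hd : Cyc.IsDimFun X' δ') (hf : Cyc.DeltaCompat f δY δ) (hf' : Cyc.DeltaCompat f' δY' δ')
    (α : AlgebraicCycle Y ℤ) (α' : AlgebraicCycle Y' ℤ) (hα' : ⇑α' = Cyc.pullFun q δY' δY c ⇑α) :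
    Cyc.pullFun p δ' δ c ⇑(AlgebraicCycle.map f δY δ α) = ⇑(AlgebraicCycle.map f' δY' δ' α') := by
  classical
  have hw : ∀ y', f (q y') = p (f' y') := fun y' => by
    show (q ≫ f) y' = (f' ≫ p) y'
    rw [h.w]
  funext x'
  rw [CycLib.map_apply']
  have hterm : ∀ y', α' y' * (AlgebraicCycle.mapCoeff f' δY' δ' y' : ℤ) =
      if δY' y' = δY (q y') + c ∧ δY' y' = δ' (f' y') then
        α (q y') * ((f'.residueDegree y' * (fibreLen q y').toNat : ℕ) : ℤ) else 0 := fun y' => by
    rw [congrFun hα' y']
    simp only [Cyc.pullFun, AlgebraicCycle.mapCoeff, fibreLen]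
    split_ifs with a b b <;> first | (exfalso; tauto) | (push_cast; ring) | simp
  simp only [hterm, Cyc.pullFun]
  split_ifs with hx
  · let S : Set Y := {y | y ∈ f ⁻¹' {p x'} ∧ α y ≠ 0 ∧ δY y = δ (p x')}
    have hS : S.Finite := (CycLib.finite_support_inter_fibre f α (p x')).subset fun y hy => ⟨hy.2.1, hy.1⟩
    have hlen := fibreLen_ne_top p (hc.fibMax_of_ge hd hx.ge)
    have hres : ∀ y ∈ S, (f.residueFieldMap y).hom.Finite := fun y hy => by
      refine CycLib.finite_residueFieldMap_of_rd_eq_zero f y ?_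
      have h1 := CycLib.deltaCompat_eq f hf y
      rw [show f y = p x' from hy.1, hy.2.2] at h1
      omega
    have hsum := fun y (hy : y ∈ S) => sum_fibre h y x' hy.1 (hres y hy) hlen
    rw [CycLib.map_apply', finsum_mem_inter_support_eq' _ (f ⁻¹' {p x'}) S]
    · rw [finsum_mem_inter_support_eq' _ (f' ⁻¹' {x'}) (⋃ y ∈ S, f' ⁻¹' {x'} ∩ q ⁻¹' {y})]
      · rw [finsum_mem_biUnion _ hS (fun y hy => (hsum y hy).1), finsum_mem_mul]
        · refine finsum_mem_congr rfl fun y hy => ?_
          have e : ∀ y' ∈ f' ⁻¹' {x'} ∩ q ⁻¹' {y},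
              (if δY' y' = δY (q y') + c ∧ δY' y' = δ' (f' y') then
                α (q y') * ((f'.residueDegree y' * (fibreLen q y').toNat : ℕ) : ℤ) else 0) =
              α y * ((f'.residueDegree y' * (fibreLen q y').toNat : ℕ) : ℤ) := by
            rintro y' ⟨h1, rfl : q y' = y⟩
            have h2 := CycLib.deltaCompat_eq f' hf' y'
            have h3 := FibDim.rd_baseChange_le h y'
            have h4 := CycLib.deltaCompat_eq f hf (q y')
            rw [show f (q y') = p x' from hy.1] at h4
            have h5 : δY (q y') = δ (p x') := hy.2.2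
            rw [show f' y' = x' from h1] at h2 ⊢
            rw [if_pos ⟨by omega, by omega⟩]
          rw [finsum_mem_congr rfl e, ← mul_finsum_mem,
            show (∑ᶠ y' ∈ f' ⁻¹' {x'} ∩ q ⁻¹' {y}, ((f'.residueDegree y' * (fibreLen q y').toNat : ℕ) : ℤ)) =
              ((f.residueDegree y * (fibreLen p x').toNat : ℕ) : ℤ) from
              ((Nat.castAddMonoidHom ℤ).map_finsum_mem _ (hsum y hy).1).symm.trans (congrArg Nat.cast (hsum y hy).2),
            AlgebraicCycle.mapCoeff, if_pos (by rw [show f.base y = p x' from hy.1]; exact hy.2.2)]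
          simp only [fibreLen]
          push_cast
          ring
        · intro y _ z _ hyz
          exact Set.disjoint_left.2 fun w hw₁ hw₂ => hyz (hw₁.2.symm.trans hw₂.2)
      · intro y' hy'
        rw [Function.mem_support] at hy'
        split_ifs at hy' with hcond
        · constructor
          · intro h1
            refine Set.mem_iUnion₂.2 ⟨q y', ⟨?_, left_ne_zero_of_mul hy', ?_⟩, h1, rfl⟩
            · show f (q y') = p x'
              rw [hw, show f' y' = x' from h1]
            · rw [show f' y' = x' from h1] at hcond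
              omega
          · intro h1
            obtain ⟨y, -, h1, -⟩ := Set.mem_iUnion₂.1 h1
            exact h1
        · exact absurd rfl hy'
    · intro y hy
      rw [Function.mem_support] at hy
      refine ⟨fun h1 => ⟨h1, left_ne_zero_of_mul hy, ?_⟩, fun h1 => h1.1⟩
      by_contra hne
      exact hy (by rw [AlgebraicCycle.mapCoeff, if_neg (by rw [show f.base y = p x' from h1]; exact hne), Nat.cast_zero, mul_zero])
  · refine (finsum_mem_eq_zero_of_forall_eq_zero fun y' hy' => ?_).symm
    split_ifs with hcond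
    · exfalso
      rw [show f' y' = x' from hy'] at hcond
      have h1 := CycLib.le_of_deltaCompat f hf (q y')
      rw [hw, show f' y' = x' from hy'] at h1
      have h2 := hc.le hd x'
      omega
    · rfl

end Groth.Agent.H23.FlatShift
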