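import Mathlib.AlgebraicGeometry.AffineScheme
import Mathlib.RingTheory.Ideal.Operations

/-!
A basic open of an affine open around finitely many points inside a given open.
-/

universe u

open CategoryTheory AlgebraicGeometry TopologicalSpace

namespace Groth.Agent.H23.AffineFinset

theorem exists_basicOpen_le {X : Scheme.{u}} {A : X.Opens} (hA : IsAffineOpen A) (O : X.Opens)
    (F : Finset X) (hFA : ∀ x ∈ F, x ∈ A) (hFO : ∀ x ∈ F, x ∈ O) :
    ∃ g : Γ(X, A), X.basicOpen g ≤ O ∧ ∀ x ∈ F, x ∈ X.basicOpen g := by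
  classical
  rcases F.eq_empty_or_nonempty with rfl | ⟨a, -⟩
  · exact ⟨0, by simp, by simp⟩
  obtain ⟨I, hI⟩ := (PrimeSpectrum.isClosed_iff_zeroLocus_ideal _).1
    (hA.fromSpec ⁻¹ᵁ O).isOpen.isClosed_compl
  let p : X → Ideal Γ(X, A) := fun x => if hx : x ∈ A then (hA.primeIdealOf ⟨x, hx⟩).asIdeal else ⊥
  have hne : ¬ ((I : Set Γ(X, A)) ⊆ ⋃ x ∈ (↑F : Set X), p x) := by
    intro h
    obtain ⟨x, hx, hle⟩ := (Ideal.subset_union_prime (f := p) a a fun x hx _ _ => by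
      simp only [p, dif_pos (hFA x hx)]; infer_instance).1 h
    simp only [p, dif_pos (hFA x hx)] at hle
    have hmem : hA.primeIdealOf ⟨x, hFA x hx⟩ ∈ PrimeSpectrum.zeroLocus (I : Set Γ(X, A)) :=
      (PrimeSpectrum.mem_zeroLocus _ _).2 hle
    rw [← hI] at hmem
    exact hmem (by
      show hA.fromSpec (hA.primeIdealOf ⟨x, hFA x hx⟩) ∈ O
      rw [hA.fromSpec_primeIdealOf]
      exact hFO x hx)
  obtain ⟨g, hgI, hg⟩ := Set.not_subset.1 hne
  refine ⟨g, fun y hy => ?_, fun x hx => ?_⟩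
  · have hyA : y ∈ A := X.basicOpen_le g hy
    by_contra hyO
    have hmem : hA.primeIdealOf ⟨y, hyA⟩ ∈ (↑(hA.fromSpec ⁻¹ᵁ O) : Set (Spec Γ(X, A)))ᶜ := fun h => hyO (by
      have h' : hA.fromSpec (hA.primeIdealOf ⟨y, hyA⟩) ∈ O := h
      rwa [hA.fromSpec_primeIdealOf] at h')
    rw [hI] at hmem
    have h2 : hA.primeIdealOf ⟨y, hyA⟩ ∈ hA.fromSpec ⁻¹ᵁ X.basicOpen g := by
      show hA.fromSpec _ ∈ X.basicOpen g
      rw [hA.fromSpec_primeIdealOf]; exact hy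
    rw [hA.fromSpec_preimage_basicOpen] at h2
    exact h2 ((PrimeSpectrum.mem_zeroLocus _ _).1 hmem hgI)
  · have h3 : hA.primeIdealOf ⟨x, hFA x hx⟩ ∈ hA.fromSpec ⁻¹ᵁ X.basicOpen g := by
      rw [hA.fromSpec_preimage_basicOpen]
      intro h
      refine hg (Set.mem_biUnion (Finset.mem_coe.2 hx) ?_)
      simp only [p, dif_pos (hFA x hx)]
      exact h
    have h4 : hA.fromSpec (hA.primeIdealOf ⟨x, hFA x hx⟩) ∈ X.basicOpen g := h3
    rwa [hA.fromSpec_primeIdealOf] at h4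

end Groth.Agent.H23.AffineFinset
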