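import Mathlib.AlgebraicGeometry.ValuativeCriterion
import Mathlib.AlgebraicGeometry.Limits
import Mathlib.AlgebraicGeometry.Morphisms.ClosedImmersion
import Mathlib.AlgebraicGeometry.Noetherian
import Mathlib.AlgebraicGeometry.Morphisms.FiniteType
import Mathlib.AlgebraicGeometry.Morphisms.Proper

/-! The disjoint union of a locally finite family of proper schemes. -/

set_option autoImplicit false
set_option linter.style.haveILetI false
set_option backward.isDefEq.respectTransparency false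
set_option backward.isDefEq.respectTransparency.types false

universe u

open CategoryTheory CategoryTheory.Limits AlgebraicGeometry TopologicalSpace

namespace Groth.Agent.H23.PiecesProper

variable {J : Type u} {Y : Scheme.{u}} {W : J → Scheme.{u}} (i : ∀ j, W j ⟶ Y)

theorem exists_eq (z : (∐ W : Scheme.{u})) : ∃ j y, Sigma.ι W j y = z := (sigmaOpenCover W).exists_eq z

theorem isClosed_range_ι (j : J) : IsClosed (Set.range (Sigma.ι W j)) := by
  have h : (Set.range (Sigma.ι W j))ᶜ = ⋃ (j') (_ : j' ≠ j), Set.range (Sigma.ι W j') := by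
    ext z
    simp only [Set.mem_compl_iff, Set.mem_iUnion]
    refine ⟨fun hz => ?_, fun ⟨j', hj, hzj⟩ hzi => ?_⟩
    · obtain ⟨j', y, rfl⟩ := exists_eq z
      exact ⟨j', fun h => hz (by subst h; exact ⟨y, rfl⟩), y, rfl⟩
    · exact Set.disjoint_left.mp (TopologicalSpace.Opens.coe_disjoint.mpr
        (disjoint_opensRange_sigmaι W j' j hj)) hzj hzi
  exact ⟨h ▸ isOpen_iUnion fun j => isOpen_iUnion fun _ => (Sigma.ι W j).isOpenEmbedding.isOpen_range⟩

instance closed_ι (j : J) : IsClosedImmersion (Sigma.ι W j) := .of_isPreimmersion _ (isClosed_range_ι j)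

/-- A map from a scheme with a dense point factors through one piece. -/
theorem exists_factor {S : Scheme.{u}} (a : S ⟶ ∐ W) (s₀ : S) (hs : ∀ s, s₀ ⤳ s) :
    ∃ (j : J) (b : S ⟶ W j), b ≫ Sigma.ι W j = a := by
  obtain ⟨j, y, hy⟩ := exists_eq (a s₀)
  have hr : Set.range a ⊆ Set.range (Sigma.ι W j) := by
    rintro _ ⟨s, rfl⟩
    exact ((hs s).map a.continuous).mem_closed (isClosed_range_ι j) ⟨y, hy⟩
  exact ⟨j, IsOpenImmersion.lift _ a hr, IsOpenImmersion.lift_fac _ _ _⟩

theorem quasiCompact_desc [∀ j, QuasiCompact (i j)] (hlf : LocallyFinite fun j => Set.range (i j)) :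
    QuasiCompact (Sigma.desc i) := by
  refine quasiCompact_iff_forall_isAffineOpen.2 fun U hU => ?_
  have hfin : {j | (Set.range (i j) ∩ (U : Set Y)).Nonempty}.Finite :=
    hlf.finite_nonempty_inter_compact hU.isCompact
  have e : (Sigma.desc i ⁻¹ᵁ U : Set (∐ W : Scheme.{u})) =
      ⋃ j ∈ hfin.toFinset, Sigma.ι W j '' (i j ⁻¹ᵁ U : Set (W j)) := by
    ext z
    simp only [Set.mem_iUnion, Set.Finite.mem_toFinset, Set.mem_ofPred_eq, Set.mem_image]
    refine ⟨fun hz => ?_, fun ⟨j, _, y, hy, e⟩ => ?_⟩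
    · obtain ⟨j, y, rfl⟩ := exists_eq z
      have hy : i j y ∈ U := by
        have : (Sigma.ι W j ≫ Sigma.desc i) y ∈ U := hz
        rwa [Sigma.ι_desc] at this
      exact ⟨j, ⟨i j y, ⟨y, rfl⟩, hy⟩, y, hy, rfl⟩
    · subst e
      show (Sigma.ι W j ≫ Sigma.desc i) y ∈ U
      rw [Sigma.ι_desc]
      exact hy
  rw [e]
  exact hfin.toFinset.finite_toSet.isCompact_biUnion fun j _ =>
    ((i j).isSpectralMap.2 U.2 hU.isCompact).image (Sigma.ι W j).continuous

theorem lft_desc [∀ j, LocallyOfFiniteType (i j)] : LocallyOfFiniteType (Sigma.desc i) :=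
  IsZariskiLocalAtSource.sigmaDesc (P := @LocallyOfFiniteType) fun _ => inferInstance

theorem exists_dense_point (R : Type u) [CommRing R] [IsDomain R] :
    ∀ s : Spec (.of R), (⟨⊥, Ideal.isPrime_bot⟩ : Spec (.of R)) ⤳ s := fun s =>
  (PrimeSpectrum.le_iff_specializes (⟨⊥, Ideal.isPrime_bot⟩ : PrimeSpectrum R) s).1 bot_le

/-- The disjoint union is proper. -/
theorem isProper_desc [IsLocallyNoetherian Y] [∀ j, IsProper (i j)]
    (hlf : LocallyFinite fun j => Set.range (i j)) : IsProper (Sigma.desc i) := by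
  haveI := quasiCompact_desc i hlf
  haveI := lft_desc i
  haveI : IsLocallyNoetherian (∐ W : Scheme.{u}) := LocallyOfFiniteType.isLocallyNoetherian (Sigma.desc i)
  refine IsProper.of_valuativeCriterion _ (ValuativeCriterion.iff.2 ⟨fun S => ?_, fun S => ⟨fun l l' => ?_⟩⟩)
  · obtain ⟨j, b, hb⟩ := exists_factor S.i₁ _ (exists_dense_point S.K)
    have hcs : CommSq b (Spec.map (CommRingCat.ofHom (algebraMap S.R S.K))) (i j) S.i₂ :=
      ⟨by rw [← S.commSq.w, ← hb, Category.assoc, Sigma.ι_desc]⟩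
    have hP : ValuativeCriterion (i j) := by
      have h : IsProper (i j) := inferInstance
      rw [IsProper.eq_valuativeCriterion] at h
      exact h.1.1.1
    obtain ⟨⟨l⟩⟩ := hP.existence ⟨S.R, S.K, b, S.i₂, hcs⟩
    exact ⟨⟨⟨l.l ≫ Sigma.ι W j, by rw [← Category.assoc, l.fac_left, hb],
      by rw [Category.assoc, Sigma.ι_desc, l.fac_right]⟩⟩⟩
  · obtain ⟨j, b, hb⟩ := exists_factor l.l _ (exists_dense_point S.R)
    obtain ⟨j', b', hb'⟩ := exists_factor l'.l _ (exists_dense_point S.R)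
    let g := Spec.map (CommRingCat.ofHom (algebraMap S.R S.K))
    let x : Spec (.of S.K) := ⟨⊥, Ideal.isPrime_bot⟩
    have h1 : Sigma.ι W j (b (g x)) = Sigma.ι W j' (b' (g x)) := by
      rw [← Scheme.Hom.comp_apply, ← Scheme.Hom.comp_apply (f := b'), hb, hb', ← Scheme.Hom.comp_apply,
        ← Scheme.Hom.comp_apply, l.fac_left, l'.fac_left]
    obtain ⟨rfl, -⟩ := Sigma.mk.inj_iff.1 ((sigmaι_eq_iff _ _ _ _ _).1 h1)
    have hP : ValuativeCriterion (i j) := by
      have h : IsProper (i j) := inferInstance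
      rw [IsProper.eq_valuativeCriterion] at h
      exact h.1.1.1
    have hcs : CommSq (g ≫ b) g (i j) S.i₂ :=
      ⟨by rw [Category.assoc, ← l.fac_right, ← hb, Category.assoc, Sigma.ι_desc]⟩
    haveI := hP.uniqueness ⟨S.R, S.K, g ≫ b, S.i₂, hcs⟩
    let L : hcs.LiftStruct := ⟨b, rfl, by rw [← l.fac_right, ← hb, Category.assoc, Sigma.ι_desc]⟩
    let L' : hcs.LiftStruct :=
      ⟨b', by rw [← cancel_mono (Sigma.ι W j), Category.assoc, Category.assoc, hb, hb', l.fac_left, l'.fac_left],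
        by rw [← l'.fac_right, ← hb', Category.assoc, Sigma.ι_desc]⟩
    have e : b = b' := congrArg CommSq.LiftStruct.l (Subsingleton.elim L L')
    exact CommSq.LiftStruct.ext (by rw [← hb, ← hb', e])

end Groth.Agent.H23.PiecesProper
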