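import Groth.Agent.InvX.Pullback

/-!
Endomorphisms of invertible modules are multiplication by functions.
-/

universe u

open CategoryTheory AlgebraicGeometry TopologicalSpace Opposite

namespace Groth.Agent.H23.EndInv

open Groth.Agent.AModX Groth.Agent.InvX

variable {X Y : Scheme.{u}} {L : Y.Modules}

/-- An endomorphism of an invertible module is multiplication by a function. -/
theorem exists_coeff (hL : PicF.IsInvertible L) (v : L ⟶ L) :
    ∃ s : Γ(Y, ⊤), ∀ (W : Y.Opens) (l : Γ(L, W)), v.app W l = resR (le_top : W ≤ ⊤) s • l := by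
  choose U hU e he using InvX.exists_frame hL
  choose r hr using fun x => (he x).exists_coord le_rfl (v.app (U x) (e x))
  have hr' : ∀ x (W : Y.Opens) (h : W ≤ U x) (c : Γ(Y, W)),
      v.app W (c • res L h (e x)) = resR h (r x) • (c • res L h (e x)) := fun x W h c => by
    rw [Scheme.Modules.Hom.app_smul, app_res, hr x, res_smul, res_self, smul_comm]
  obtain ⟨s, hs, -⟩ := existsUnique_glue (M := Coh.structureModule Y) U (fun x => le_top)
    (fun p _ => ⟨p, hU p⟩) r fun x y => by
      show resR inf_le_left (r x) = resR inf_le_right (r y)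
      obtain ⟨c, hc⟩ := (he x).exists_coord inf_le_left (res L (inf_le_right : U x ⊓ U y ≤ U y) (e y))
      have h1 := hr' x (U x ⊓ U y) inf_le_left c
      have h2 := hr' y (U x ⊓ U y) inf_le_right 1
      rw [one_smul] at h2
      rw [← hc] at h1
      exact ((he y).coord_unique inf_le_right (h2.symm.trans h1)).symm
  refine ⟨s, fun W l => eq_of_locally _ _ fun p hp => ⟨W ⊓ U p, inf_le_left, ⟨hp, hU p⟩, ?_⟩⟩
  obtain ⟨c, hc⟩ := (he p).exists_coord inf_le_right (res L (inf_le_left : W ⊓ U p ≤ W) l)
  rw [← app_res, res_smul, hc, hr', resR_resR]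
  congr 1
  rw [← hs p]
  exact resR_resR le_top inf_le_right (show Γ(Y, ⊤) from s)

variable (r : X ⟶ Y)

theorem pullElt_smul {U : Y.Opens} (c : Γ(Y, U)) (e : Γ(L, U)) :
    pullElt r (c • e) = (r.app U c) • pullElt r e :=
  Scheme.Modules.Hom.app_smul ((Scheme.Modules.pullbackPushforwardAdjunction r).unit.app L) c e

theorem map_pullElt (v : L ⟶ L) {U : Y.Opens} (e : Γ(L, U)) :
    ((Scheme.Modules.pullback r).map v).app (r ⁻¹ᵁ U) (pullElt r e) = pullElt r (v.app U e) := by
  have h := (Scheme.Modules.pullbackPushforwardAdjunction r).unit.naturality v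
  exact (congrArg (fun φ => φ.app U e) h).symm

/-- If the inverse image of multiplication by a function is the identity, the function pulls back to one. -/
theorem appTop_eq_one (hL : PicF.IsInvertible L) (v : L ⟶ L) (s : Γ(Y, ⊤))
    (hs : ∀ (W : Y.Opens) (l : Γ(L, W)), v.app W l = resR (le_top : W ≤ ⊤) s • l)
    (hv : (Scheme.Modules.pullback r).map v = 𝟙 _) : r.appTop s = 1 := by
  choose U hU e he using InvX.exists_frame hL
  refine eq_of_locally (M := Coh.structureModule X) _ _ fun p _ =>
    ⟨r ⁻¹ᵁ U (r p), le_top, hU (r p), ?_⟩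
  have h := map_pullElt r v (e (r p))
  rw [hv, hs, pullElt_smul] at h
  have h' : r.app (U (r p)) (resR le_top s) = 1 := by
    refine (isFrame_pullElt r (he (r p))).coord_unique le_rfl ?_
    rw [res_self, one_smul]
    exact h.symm
  show resR le_top (r.appTop s) = resR le_top 1
  rw [map_one, ← h']
  exact (ConcreteCategory.congr_hom (r.naturality (homOfLE (le_top : U (r p) ≤ ⊤)).op) s).symm

end Groth.Agent.H23.EndInv
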