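import Groth.Agent.H23.ProjAutLin
import Groth.Agent.SBAut.ProjIso
import Groth.Agent.SBAut.Yoneda
import Mathlib.AlgebraicGeometry.ProjectiveSpectrum.Functor

/-!
# The automorphism group of projective space over a field
-/

set_option autoImplicit false
set_option backward.isDefEq.respectTransparency false
set_option backward.isDefEq.respectTransparency.types false
universe u

open CategoryTheory CategoryTheory.Limits AlgebraicGeometry Matrix

noncomputable section

namespace Groth.Agent.H23.ProjAut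

open Groth.Agent.SBAut Groth.Agent.SBAut.ProjIso Groth.Agent.ProjPt HomogeneousLocalization MvPolynomial

variable {K : Type u} [Field K] {N : ℕ}

local notation "𝒢" => CohB1.polyGrading N K
local notation "ℙ" => CohB1.ProjSpace N K
local notation "Mat" => Matrix (Fin (N + 1)) (Fin (N + 1)) K

/-- Linear substitution of the coordinates. -/
def subst (M : Mat) : MvPolynomial (Fin (N + 1)) K →ₐ[K] MvPolynomial (Fin (N + 1)) K :=
  aeval fun i => ∑ j, C (M i j) * X j

theorem subst_mem (M : Mat) {i : ℕ} {p : MvPolynomial (Fin (N + 1)) K} (hp : p ∈ 𝒢 i) : subst M p ∈ 𝒢 i := by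
  rw [mem_homogeneousSubmodule] at hp ⊢
  simpa [subst] using hp.aeval (fun i => ∑ j, C (M i j) * X j)
    (fun i => IsHomogeneous.sum _ _ _ fun j _ => (isHomogeneous_X K j).C_mul _)

/-- The graded ring map of a matrix. -/
def gHom (M : Mat) : GradedRingHom 𝒢 𝒢 where
  __ := (subst M).toRingHom
  map_mem := fun h => subst_mem M h

theorem subst_comp (M M' : Mat) : (subst M').comp (subst M) = subst (M * M') := by
  refine MvPolynomial.algHom_ext fun i => ?_
  simp only [subst, AlgHom.comp_apply, aeval_X, map_sum, map_mul, aeval_C, algebraMap_eq, Matrix.mul_apply,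
    Finset.sum_mul, Finset.mul_sum]
  rw [Finset.sum_comm]
  exact Finset.sum_congr rfl fun j _ => Finset.sum_congr rfl fun l _ => by ring

theorem gHom_irrelevant (M : GL (Fin (N + 1)) K) :
    HomogeneousIdeal.irrelevant 𝒢 ≤ (HomogeneousIdeal.irrelevant 𝒢).map (gHom (M : Mat)) := by
  refine (HomogeneousIdeal.irrelevant_le (𝒜 := 𝒢)).2 ?_
  intro i hi x hx
  have hx' : subst (M : Mat) (subst ((M⁻¹ : GL (Fin (N + 1)) K) : Mat) x) = x := by
    rw [← AlgHom.comp_apply, subst_comp, Units.inv_mul]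
    have : subst (1 : Mat) = AlgHom.id K _ := MvPolynomial.algHom_ext fun i => by
      simp [subst, Matrix.one_apply]
    rw [this, AlgHom.id_apply]
  rw [← hx']
  exact Ideal.mem_map_of_mem (gHom (M : Mat))
    (HomogeneousIdeal.mem_irrelevant_of_mem 𝒢 hi (subst_mem _ hx))

/-- The morphism of projective space given by a matrix. -/
def actMap (M : GL (Fin (N + 1)) K) : ℙ ⟶ ℙ := Proj.map (gHom (M : Mat)) (gHom_irrelevant M)

section Points

variable {R : Type u} [CommRing R] [Algebra K R]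

theorem ev_subst (v : Fin (N + 1) → R) (M : Mat) :
    (ev (K := K) v).comp (subst M).toRingHom = ev (M.map (algebraMap K R) *ᵥ v) := by
  refine MvPolynomial.ringHom_ext (fun r => ?_) fun i => ?_
  · simp [subst]
  · simp [subst, Matrix.mulVec, dotProduct]

theorem ppt_actMap (M : GL (Fin (N + 1)) K) (v : Fin (N + 1) → R) (i l : Fin (N + 1)) (hi : IsUnit (v i))
    (hl : IsUnit (((M : Mat).map (algebraMap K R) *ᵥ v) l)) :
    ppt (K := K) v i hi ≫ actMap M = ppt ((M : Mat).map (algebraMap K R) *ᵥ v) l hl := by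
  have ht : gHom (M : Mat) (X l) ∈ 𝒢 1 := subst_mem _ (X_mem l)
  have hut : IsUnit (ev (K := K) v (gHom (M : Mat) (X l))) := by
    have h := RingHom.congr_fun (ev_subst v (M : Mat)) (X l)
    simp only [RingHom.comp_apply, eval₂Hom_X'] at h
    show IsUnit (ev (K := K) v ((subst (M : Mat)).toRingHom (X l)))
    rw [h]
    exact hl
  have hux : IsUnit (ev (K := K) v (X i * gHom (M : Mat) (X l))) := by rw [map_mul]; exact (ev_X hi).mul hut
  have e : ppt (K := K) v i hi = Spec.map (CommRingCat.ofHom (coordHom 𝒢 (ev v) hut)) ≫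
      Proj.awayι 𝒢 (gHom (M : Mat) (X l)) ht one_pos := by
    unfold ppt
    rw [← coordHom_awayMap 𝒢 (ev v) (X_mem i) ht rfl (ev_X hi) hux,
      ← coordHom_awayMap 𝒢 (ev v) ht (X_mem i) (mul_comm _ _) hut hux,
      CommRingCat.ofHom_comp, CommRingCat.ofHom_comp, Spec.map_comp, Spec.map_comp, Category.assoc, Category.assoc,
      Proj.SpecMap_awayMap_awayι, Proj.SpecMap_awayMap_awayι]
  rw [e, Category.assoc, actMap]
  erw [Proj.awayι_comp_map (gHom (M : Mat)) (gHom_irrelevant M) one_pos (X l) (X_mem l)]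
  rw [← Spec.map_comp_assoc, ← CommRingCat.ofHom_comp, ppt]
  congr 3
  refine RingHom.ext fun a => ?_
  obtain ⟨m, b, hb, rfl⟩ := Away.mk_surjective 𝒢 (X_mem l) a
  erw [RingHom.comp_apply, Away.map_mk]
  symm
  rw [coordHom_mk_eq_iff, ← ev_subst, RingHom.comp_apply, RingHom.comp_apply]
  exact coordHom_mk_mul 𝒢 (ev v) hut _ m _ _

theorem isUni_mulVec (M : GL (Fin (N + 1)) K) {v : Fin (N + 1) → R} (hv : IsUni v) :
    IsUni ((M : Mat).map (algebraMap K R) *ᵥ v) := by
  rw [← Matrix.vecMul_transpose]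
  refine hv.vecMul _ ((((M⁻¹ : GL (Fin (N + 1)) K) : Mat).map (algebraMap K R)))ᵀ ?_
  rw [← Matrix.transpose_mul, ← Matrix.map_mul, Units.inv_mul, Matrix.map_one _ (map_zero _) (map_one _),
    Matrix.transpose_one]

theorem rel_of_ppt_eq' {v v' : Fin (N + 1) → R} {i j : Fin (N + 1)} (hi : IsUnit (v i)) (hj : IsUnit (v' j))
    (e : ppt (K := K) v i hi = ppt v' j hj) : Rel v v' := by
  obtain ⟨t, ht⟩ := hi
  obtain ⟨t', ht'⟩ := hj
  have h1 : ((t⁻¹ : Rˣ) : R) * v i = 1 := by rw [← ht, Units.inv_mul]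
  have h2 : ((t'⁻¹ : Rˣ) : R) * v' j = 1 := by rw [← ht', Units.inv_mul]
  have h := rel_of_ppt_eq (K := K) (v := fun l => ((t⁻¹ : Rˣ) : R) * v l) (v' := fun l => ((t'⁻¹ : Rˣ) : R) * v' l)
    h1 h2 (by
      rw [← ppt_indep (v := v) (c := ((t⁻¹ : Rˣ) : R)) (fun l => rfl) ⟨t, ht⟩ (by rw [h1]; exact isUnit_one),
        ← ppt_indep (v := v') (c := ((t'⁻¹ : Rˣ) : R)) (fun l => rfl) ⟨t', ht'⟩ (by rw [h2]; exact isUnit_one)]
      exact e)
  intro a b
  have h3 := h a b
  have := congrArg (fun z => (t : R) * (t' : R) * z) h3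
  calc v a * v' b = (t : R) * t' * (((t⁻¹ : Rˣ) : R) * v a * (((t'⁻¹ : Rˣ) : R) * v' b)) := by
        rw [show (t : R) * t' * (((t⁻¹ : Rˣ) : R) * v a * (((t'⁻¹ : Rˣ) : R) * v' b)) =
          ((t : R) * ((t⁻¹ : Rˣ) : R)) * ((t' : R) * ((t'⁻¹ : Rˣ) : R)) * (v a * v' b) by ring,
          Units.mul_inv, Units.mul_inv, one_mul, one_mul]
    _ = (t : R) * t' * (((t⁻¹ : Rˣ) : R) * v b * (((t'⁻¹ : Rˣ) : R) * v' a)) := this
    _ = v b * v' a := by
        rw [show (t : R) * t' * (((t⁻¹ : Rˣ) : R) * v b * (((t'⁻¹ : Rˣ) : R) * v' a)) =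
          ((t : R) * ((t⁻¹ : Rˣ) : R)) * ((t' : R) * ((t'⁻¹ : Rˣ) : R)) * (v b * v' a) by ring,
          Units.mul_inv, Units.mul_inv, one_mul, one_mul]

theorem exists_ppt [IsLocalRing R] (q : Spec (CommRingCat.of R) ⟶ ℙ)
    (hq : q ≫ CohB1.ProjSpace.toSpec N K = Spec.map (CommRingCat.ofHom (algebraMap K R))) :
    ∃ (v : Fin (N + 1) → R) (j : Fin (N + 1)) (hj : v j = 1), q = ppt (K := K) v j (hj ▸ isUnit_one) := by
  let 𝒰 := Proj.affineOpenCoverOfIrrelevantLESpan 𝒢 (fun i : Fin (N + 1) => (X i : MvPolynomial (Fin (N + 1)) K))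
    (fun i => X_mem i) (fun _ => one_pos) (Groth.Agent.SegreX.irrelevant_le_span N K)
  obtain ⟨j, y, hy⟩ := 𝒰.openCover.exists_eq (q (IsLocalRing.closedPoint R))
  change Fin (N + 1) at j
  let ι := Proj.awayι 𝒢 (X j : MvPolynomial (Fin (N + 1)) K) (X_mem j) one_pos
  have hrange : Set.range q ⊆ Set.range ι := by
    rintro _ ⟨z, rfl⟩
    have ho : IsOpen (q ⁻¹' Set.range ι) := ι.isOpenEmbedding.isOpen_range.preimage q.continuous
    exact (IsLocalRing.specializes_closedPoint z).mem_open ho ⟨y, hy⟩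
  obtain ⟨φ, hφ⟩ := Spec.homEquiv.symm.surjective (IsOpenImmersion.lift ι q hrange)
  letI := (cst (R := K) (n := N) j).toAlgebra
  have hfac : Spec.map φ ≫ ι = q := by
    rw [show Spec.map φ = IsOpenImmersion.lift ι q hrange from hφ, IsOpenImmersion.lift_fac]
  have hι : ι ≫ CohB1.ProjSpace.toSpec N K = Spec.map (CommRingCat.ofHom (cst (R := K) (n := N) j)) := by
    show Proj.awayι 𝒢 (X j : MvPolynomial (Fin (N + 1)) K) (X_mem j) one_pos ≫ _ = _
    rw [awayι_eq_ppt j]
    exact ppt_toSpec _ _ _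
  have halg : (φ.hom).comp (cst (R := K) (n := N) j) = algebraMap K R := by
    have h := hq
    rw [← hfac, Category.assoc, hι, ← Spec.map_comp] at h
    exact congrArg CommRingCat.Hom.hom (Spec.map_injective h)
  let φ' : Away 𝒢 (X j : MvPolynomial (Fin (N + 1)) K) →ₐ[K] R :=
    { φ.hom with commutes' := fun r => RingHom.congr_fun halg r }
  refine ⟨⇑φ' ∘ crd (R := K) (n := N) j, j, by simp [crd_self], ?_⟩
  rw [← hfac, ← comp_ppt φ' (crd (R := K) (n := N) j) j (crd_self (R := K) (n := N) j ▸ isUnit_one),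
    ← awayι_eq_ppt j]
  rfl

end Points

variable (K N) in
/-- Projective space over the field. -/
abbrev pobj : Over (Spec (CommRingCat.of K)) := Over.mk (CohB1.ProjSpace.toSpec N K)

theorem hom_ext_points {h h' : ℙ ⟶ ℙ}
    (H : ∀ (R : Type u) [CommRing R] [IsLocalRing R] [Algebra K R] (v : Fin (N + 1) → R) (i : Fin (N + 1))
      (hi : IsUnit (v i)), ppt (K := K) v i hi ≫ h = ppt v i hi ≫ h') : h = h' := by
  refine SBAut.hom_ext_fromSpecStalk h h' fun x => ?_
  let O : Type u := (ℙ).presheaf.stalk x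
  letI : IsLocalRing O := inferInstanceAs (IsLocalRing ((ℙ).presheaf.stalk x))
  let q : Spec (CommRingCat.of O) ⟶ ℙ := (ℙ).fromSpecStalk x
  let φ := Spec.preimage (q ≫ CohB1.ProjSpace.toSpec N K)
  letI : Algebra K O := φ.hom.toAlgebra
  obtain ⟨v, j, hj, e⟩ := exists_ppt q (Spec.map_preimage _).symm
  show q ≫ h = q ≫ h'
  rw [e]
  exact H O v j _

theorem actMap_toSpec (M : GL (Fin (N + 1)) K) :
    actMap M ≫ CohB1.ProjSpace.toSpec N K = CohB1.ProjSpace.toSpec N K := by
  refine SBAut.hom_ext_fromSpecStalk _ _ fun x => ?_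
  let O : Type u := (ℙ).presheaf.stalk x
  letI : IsLocalRing O := inferInstanceAs (IsLocalRing ((ℙ).presheaf.stalk x))
  let q : Spec (CommRingCat.of O) ⟶ ℙ := (ℙ).fromSpecStalk x
  let φ := Spec.preimage (q ≫ CohB1.ProjSpace.toSpec N K)
  letI : Algebra K O := φ.hom.toAlgebra
  obtain ⟨v, j, hj, e⟩ := exists_ppt q (Spec.map_preimage _).symm
  obtain ⟨l, hl⟩ := (isUni_mulVec M (isUni_of_isUnit (i := j) (hj ▸ isUnit_one : IsUnit (v j)))).exists_isUnit
  show q ≫ _ ≫ _ = q ≫ _
  rw [e, ← Category.assoc, ppt_actMap M v j l _ hl, ppt_toSpec, ppt_toSpec]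

/-- The endomorphism given by a matrix. -/
def actEnd : GL (Fin (N + 1)) K →* End (pobj K N) where
  toFun M := Over.homMk (actMap M) (actMap_toSpec M)
  map_one' := by
    refine Over.OverMorphism.ext (hom_ext_points ?_)
    intro R _ _ _ v i hi
    have h1 : (((1 : GL (Fin (N + 1)) K) : Mat).map (algebraMap K R)) *ᵥ v = v := by
      rw [Units.val_one, Matrix.map_one _ (map_zero _) (map_one _), Matrix.one_mulVec]
    show ppt (K := K) v i hi ≫ actMap 1 = ppt (K := K) v i hi ≫ 𝟙 _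
    rw [ppt_actMap 1 v i i hi (h1.symm ▸ hi), Category.comp_id]
    exact ppt_of_rel (h1.symm ▸ SBAut.Rel.refl v) _ _
  map_mul' M M' := by
    refine Over.OverMorphism.ext (hom_ext_points ?_)
    intro R _ _ _ v i hi
    obtain ⟨l, hl⟩ := (isUni_mulVec M' (isUni_of_isUnit hi)).exists_isUnit
    obtain ⟨m, hm⟩ := (isUni_mulVec M (isUni_of_isUnit hl)).exists_isUnit
    have h : ((M * M' : GL (Fin (N + 1)) K) : Mat).map (algebraMap K R) *ᵥ v =
        (M : Mat).map (algebraMap K R) *ᵥ ((M' : Mat).map (algebraMap K R) *ᵥ v) := by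
      rw [Units.val_mul, Matrix.map_mul, Matrix.mulVec_mulVec]
    show ppt (K := K) v i hi ≫ actMap (M * M') = ppt (K := K) v i hi ≫ actMap M' ≫ actMap M
    rw [← Category.assoc, ppt_actMap M' v i l hi hl, ppt_actMap M _ l m hl hm,
      ppt_actMap (M * M') v i m hi (h.symm ▸ hm)]
    exact ppt_of_rel (h.symm ▸ SBAut.Rel.refl _) _ _

/-- The automorphism given by a matrix. -/
def actAut : GL (Fin (N + 1)) K →* Aut (pobj K N) :=
  (Aut.unitsEndEquivAut (pobj K N)).toMonoidHom.comp (actEnd (K := K) (N := N)).toHomUnits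

theorem actAut_hom (M : GL (Fin (N + 1)) K) : (actAut M).hom.left = actMap M := rfl

/-- The coordinates of the image of a local point. -/
theorem exists_image (a : pobj K N ⟶ pobj K N) {R : Type u} [CommRing R] [IsLocalRing R] [Algebra K R]
    (v : Fin (N + 1) → R) (i : Fin (N + 1)) (hi : IsUnit (v i)) :
    ∃ (w : Fin (N + 1) → R) (j : Fin (N + 1)) (hj : IsUnit (w j)), ppt (K := K) v i hi ≫ a.left = ppt w j hj := by
  have hw : a.left ≫ CohB1.ProjSpace.toSpec N K = CohB1.ProjSpace.toSpec N K := Over.w a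
  obtain ⟨w, j, hj, e⟩ := exists_ppt (ppt (K := K) v i hi ≫ a.left) (by rw [Category.assoc, hw, ppt_toSpec])
  exact ⟨w, j, _, e⟩

open Classical in
/-- The chosen coordinates of the image of a local point. -/
def img (a : pobj K N ⟶ pobj K N) (R : Type u) [CommRing R] [IsLocalRing R] [Algebra K R]
    (v : Fin (N + 1) → R) : Fin (N + 1) → R :=
  if h : IsUni v then (exists_image a v h.exists_isUnit.choose h.exists_isUnit.choose_spec).choose else v

theorem img_spec (a : pobj K N ⟶ pobj K N) {R : Type u} [CommRing R] [IsLocalRing R] [Algebra K R]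
    (v : Fin (N + 1) → R) (i : Fin (N + 1)) (hi : IsUnit (v i)) :
    ∃ (j : Fin (N + 1)) (hj : IsUnit (img a R v j)), ppt (K := K) v i hi ≫ a.left = ppt (img a R v) j hj := by
  have h : IsUni v := isUni_of_isUnit hi
  obtain ⟨j, hj, e⟩ := (exists_image a v h.exists_isUnit.choose h.exists_isUnit.choose_spec).choose_spec
  have heq : img a R v = (exists_image a v h.exists_isUnit.choose h.exists_isUnit.choose_spec).choose := dif_pos h
  refine ⟨j, heq ▸ hj, ?_⟩
  refine ((congrArg (· ≫ a.left) (ppt_of_rel (SBAut.Rel.refl v) hi h.exists_isUnit.choose_spec)).trans e).trans ?_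
  exact ppt_of_rel (heq.symm ▸ SBAut.Rel.refl _) _ _

/-- The natural map on vectors of an endomorphism. -/
def natOf (a : pobj K N ⟶ pobj K N) : NatMap K (N + 1) where
  app R _ _ _ v := img a R v
  uni R _ _ _ v hv := by
    obtain ⟨i, hi⟩ := hv.exists_isUnit
    obtain ⟨j, hj, -⟩ := img_spec a v i hi
    exact isUni_of_isUnit hj
  rel R _ _ _ v v' hv hv' h := by
    obtain ⟨i, hi⟩ := hv.exists_isUnit
    obtain ⟨i', hi'⟩ := hv'.exists_isUnit
    obtain ⟨j, hj, e⟩ := img_spec a v i hi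
    obtain ⟨j', hj', e'⟩ := img_spec a v' i' hi'
    rw [ppt_of_rel h hi hi'] at e
    exact rel_of_ppt_eq' hj hj' (e.symm.trans e')
  nat R S _ _ _ _ _ _ φ v hv := by
    obtain ⟨i, hi⟩ := hv.exists_isUnit
    obtain ⟨j, hj, e⟩ := img_spec a v i hi
    obtain ⟨j', hj', e'⟩ := img_spec a (⇑φ ∘ v) i (hi.map φ)
    rw [← comp_ppt φ v i hi, Category.assoc, e, comp_ppt φ _ j hj] at e'
    exact (rel_of_ppt_eq' _ hj' e').symm

theorem actAut_surjective : Function.Surjective (actAut (K := K) (N := N)) := by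
  intro g
  let gi : pobj K N ≅ pobj K N := g
  have hinv : ∀ (R : Type u) [CommRing R] [IsLocalRing R] [Algebra K R] (v : Fin (N + 1) → R), IsUni v →
      SBAut.Rel ((natOf gi.inv).app R ((natOf gi.hom).app R v)) v := by
    intro R _ _ _ v hv
    obtain ⟨i, hi⟩ := hv.exists_isUnit
    obtain ⟨j, hj, e⟩ := img_spec gi.hom v i hi
    obtain ⟨j', hj', e'⟩ := img_spec gi.inv _ j hj
    rw [← e, Category.assoc, ← Over.comp_left, gi.hom_inv_id, Over.id_left] at e'
    exact rel_of_ppt_eq' hj' hi (e'.symm.trans (Category.comp_id _))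
  obtain ⟨M, hdet, hM⟩ := exists_matrix_field (natOf gi.hom) (natOf gi.inv) hinv
  have hdet' : IsUnit Mᵀ.det := by rwa [Matrix.det_transpose]
  obtain ⟨G, hG⟩ := (Matrix.isUnit_iff_isUnit_det _).mpr hdet'
  refine ⟨G, Iso.ext (Over.OverMorphism.ext ?_)⟩
  rw [actAut_hom]
  refine hom_ext_points ?_
  intro R _ _ _ v i hi
  obtain ⟨j, hj, e⟩ := img_spec gi.hom v i hi
  obtain ⟨l, hl⟩ := (isUni_mulVec G (isUni_of_isUnit hi)).exists_isUnit
  refine (ppt_actMap G v i l hi hl).trans (Eq.trans ?_ e.symm)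
  refine ppt_of_rel ?_ _ _
  have h := (hM R v (isUni_of_isUnit hi)).symm
  rwa [← Matrix.mulVec_transpose, ← Matrix.transpose_map, ← hG] at h

theorem mem_ker_iff (G : GL (Fin (N + 1)) K) :
    actAut G = 1 ↔ ∃ c : Kˣ, Matrix.scalar (Fin (N + 1)) (c : K) = (G : Mat) := by
  constructor
  · intro h
    have hid : actMap G = 𝟙 _ := by rw [← actAut_hom, h]; rfl
    have hrel : ∀ v : Fin (N + 1) → K, (∃ i, v i ≠ 0) → SBAut.Rel ((G : Mat) *ᵥ v) v := by
      rintro v ⟨i, hi⟩
      obtain ⟨l, hl⟩ := (isUni_mulVec (R := K) G (isUni_of_ne_zero hi)).exists_isUnit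
      have e := ppt_actMap G v i l (Ne.isUnit hi) hl
      rw [hid, Category.comp_id] at e
      exact (rel_of_ppt_eq' _ hl e).symm
    have hoff : ∀ a b : Fin (N + 1), a ≠ b → (G : Mat) a b = 0 := by
      intro a b hab
      have := hrel (Pi.single b 1) ⟨b, by simp⟩ a b
      simpa [Matrix.mulVec_single, hab] using this
    have hd : ∀ a b : Fin (N + 1), (G : Mat) a a = (G : Mat) b b := by
      intro a b
      have h1 : ∀ x, ((G : Mat) *ᵥ fun _ => (1 : K)) x = (G : Mat) x x := fun x => by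
        simp only [Matrix.mulVec, dotProduct, mul_one]
        exact Finset.sum_eq_single x (fun y _ hy => hoff x y hy.symm) (by simp)
      have := hrel (fun _ => 1) ⟨a, one_ne_zero⟩ a b
      simpa [h1] using this
    have hG : (G : Mat) = Matrix.scalar (Fin (N + 1)) ((G : Mat) 0 0) := by
      ext a b
      rcases eq_or_ne a b with rfl | hab
      · simp [hd a 0]
      · simp [hoff a b hab, hab]
    have hne : (G : Mat) 0 0 ≠ 0 := by
      intro h0
      rw [h0, map_zero] at hG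
      exact G.ne_zero hG
    exact ⟨Units.mk0 _ hne, hG.symm⟩
  · rintro ⟨c, hc⟩
    refine Iso.ext (Over.OverMorphism.ext ?_)
    rw [actAut_hom]
    refine hom_ext_points ?_
    intro R _ _ _ v i hi
    obtain ⟨l, hl⟩ := (isUni_mulVec G (isUni_of_isUnit hi)).exists_isUnit
    rw [ppt_actMap G v i l hi hl]
    show _ = ppt (K := K) v i hi ≫ 𝟙 _
    rw [Category.comp_id]
    refine ppt_of_rel (rel_of_smul_eq (c := algebraMap K R c) ?_) _ _
    rw [← hc]
    funext x
    simp [Matrix.scalar_apply, Matrix.mulVec_diagonal, Matrix.diagonal_map]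

end Groth.Agent.H23.ProjAut
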