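import Groth.Agent.Hartogs.Basic
import Groth.Agent.InvUfdLib.Trivial
import Groth.Agent.InvUfdLib.Extend

/-!
Hartogs for invertible modules.
-/

universe u

open CategoryTheory AlgebraicGeometry TopologicalSpace Opposite

namespace Groth.Agent.H23.HartogsLine

open Groth.Agent.AModX Groth.Agent.InvX Groth.Agent.InvUfdLib

variable {X : Scheme.{u}} [IsLocallyNoetherian X] {U : X.Opens} {L : X.Modules}
  (hU : ∀ x : X, x ∉ U → (2 : ℕ∞) ≤ LocCoh.depth (X.presheaf.stalk x) (X.presheaf.stalk x))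
  (hL : PicF.IsInvertible L)

include hU hL in
theorem res_injective (W : X.Opens) : Function.Injective (res L (inf_le_left : W ⊓ U ≤ W)) := by
  refine (injective_iff_map_eq_zero _).2 fun s hs => eq_of_locally _ _ fun p hp => ?_
  obtain ⟨V, hpV, e, he⟩ := InvX.exists_frame hL p
  refine ⟨W ⊓ V, inf_le_left, ⟨hp, hpV⟩, ?_⟩
  obtain ⟨c, hc⟩ := he.exists_coord inf_le_right (res L (inf_le_left : W ⊓ V ≤ W) s)
  rw [map_zero, hc]
  have h0 : c = 0 := by
    refine (Hartogs.restrict_bijective U hU (W ⊓ V)).1 ?_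
    show resR inf_le_left c = resR inf_le_left 0
    rw [map_zero]
    refine he.coord_unique (inf_le_left.trans inf_le_right) ?_
    rw [zero_smul]
    have h := congrArg (res L (inf_le_left : W ⊓ V ⊓ U ≤ W ⊓ V)) hc
    rw [res_res, res_smul, res_res] at h
    rw [← h]
    have h2 := congrArg (res L (inf_le_inf_right U inf_le_left : W ⊓ V ⊓ U ≤ W ⊓ U)) hs
    rw [res_res, map_zero] at h2
    exact h2
  rw [h0, zero_smul]

include hU hL in
/-- Sections of an invertible module extend uniquely. -/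
theorem res_bijective (W : X.Opens) : Function.Bijective (res L (inf_le_left : W ⊓ U ≤ W)) := by
  refine ⟨res_injective hU hL W, fun s => ?_⟩
  choose V hV e he using InvX.exists_frame hL
  choose c hc using fun x => (he x).exists_coord (inf_le_left.trans inf_le_right : W ⊓ V x ⊓ U ≤ V x)
    (res L (inf_le_inf_right U inf_le_left : W ⊓ V x ⊓ U ≤ W ⊓ U) s)
  choose g hg using fun x => (Hartogs.restrict_bijective U hU (W ⊓ V x)).2 (c x)
  have key : ∀ x, res L (inf_le_left : W ⊓ V x ⊓ U ≤ W ⊓ V x) (g x • res L inf_le_right (e x)) =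
      res L (inf_le_inf_right U inf_le_left : W ⊓ V x ⊓ U ≤ W ⊓ U) s := fun x => by
    rw [res_smul, res_res, hc x]
    exact congrArg (· • _) (hg x)
  obtain ⟨t, ht, -⟩ := existsUnique_glue (M := L) (V := W) (fun x => W ⊓ V x) (fun _ => inf_le_left)
    (fun p hp => ⟨p, hp, hV p⟩) (fun x => g x • res L inf_le_right (e x)) fun x y => by
      refine res_injective hU hL _ ?_
      have hx : ((W ⊓ V x) ⊓ (W ⊓ V y)) ⊓ U ≤ W ⊓ V x ⊓ U := inf_le_inf_right U inf_le_left
      have hy : ((W ⊓ V x) ⊓ (W ⊓ V y)) ⊓ U ≤ W ⊓ V y ⊓ U := inf_le_inf_right U inf_le_right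
      have h1 := congrArg (res L hx) (key x)
      have h2 := congrArg (res L hy) (key y)
      rw [res_res, res_res] at h1 h2
      rw [res_res, res_res]
      exact h1.trans h2.symm
  refine ⟨t, eq_of_locally _ _ fun p hp => ⟨W ⊓ V p ⊓ U, inf_le_inf_right U inf_le_left, ⟨⟨hp.1, hV p⟩, hp.2⟩, ?_⟩⟩
  have h := congrArg (res L (inf_le_left : W ⊓ V p ⊓ U ≤ W ⊓ V p)) (ht p)
  rw [key, res_res] at h
  rw [res_res]
  exact h

include hU hL in
/-- A section which is a frame on the open is a frame. -/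
theorem isFrame_of_isFrame_res {s : Γ(L, ⊤)} (hs : IsFrame (res L (le_top : U ≤ ⊤) s)) : IsFrame s := by
  choose V hV e he using InvX.exists_frame hL
  refine isFrame_of_cover V (fun _ => le_top) (fun p _ => ⟨p, hV p⟩) s fun x => ?_
  obtain ⟨g, hg⟩ := (he x).exists_coord le_rfl (res L (le_top : V x ≤ ⊤) s)
  obtain ⟨c, hc⟩ := hs.exists_coord (inf_le_right : V x ⊓ U ≤ U) (res L inf_le_left (e x))
  obtain ⟨c', hc'⟩ := (Hartogs.restrict_bijective U hU (V x)).2 c
  rw [res_self] at hg
  have hu : IsUnit g := by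
    refine IsUnit.of_mul_eq_one (show Γ(X, V x) from c') ((Hartogs.restrict_bijective U hU (V x)).1 ?_)
    show resR inf_le_left (g * c') = resR inf_le_left 1
    rw [map_mul, map_one]
    refine (he x).coord_unique inf_le_left ?_
    rw [one_smul, mul_comm, mul_smul]
    have h := congrArg (res L (inf_le_left : V x ⊓ U ≤ V x)) hg
    rw [res_res, res_smul] at h
    rw [← h, show resR inf_le_left (show Γ(X, V x) from c') = c from hc']
    rw [res_res] at hc
    exact hc.symm
  rw [hg]
  exact (he x).isUnit_smul hu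

include hU hL in
/-- An invertible module trivial on the open is trivial. -/
theorem nonempty_iso (h : Nonempty (L.restrict U.ι ≅ Coh.structureModule (U : Scheme.{u}))) :
    Nonempty (L ≅ Coh.structureModule X) := by
  obtain ⟨φ⟩ := h
  let one : Γ(Coh.structureModule (U : Scheme.{u}), ⊤) := (1 : Γ((U : Scheme.{u}), ⊤))
  let x : Γ(L.restrict U.ι, ⊤) := φ.inv.app ⊤ one
  have hb : ∀ W ≤ (⊤ : U.toScheme.Opens), Function.Bijective (φ.hom.app W) := fun W _ =>
    (ConcreteCategory.isIso_iff_bijective _).1 (Scheme.Modules.Hom.isIso_iff_isIso_app.1 inferInstance W)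
  have hx : φ.hom.app ⊤ x = one := congr(($(φ.inv_hom_id)).app ⊤ one)
  have hfr : IsFrame x := isFrame_of_app φ.hom hb (hx.symm ▸ isFrame_one)
  have hfr' := (isFrame_of_restrict U.ι hfr).res (le_of_eq U.ι_image_top.symm)
  obtain ⟨s, hs⟩ := (res_bijective hU hL ⊤).2
    (res L (inf_le_right : (⊤ : X.Opens) ⊓ U ≤ U) (res L (le_of_eq U.ι_image_top.symm) (show Γ(L, U.ι ''ᵁ ⊤) from x)))
  have e := congrArg (res L (le_inf le_top le_rfl : U ≤ ⊤ ⊓ U)) hs
  rw [res_res, res_res, res_self] at e
  exact nonempty_iso_of_frame (isFrame_of_isFrame_res hU hL (e.symm ▸ hfr'))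

end Groth.Agent.H23.HartogsLine
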