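import Groth.Agent.H23.DiagGeom

/-!
# Reduction to the diagonal for intersection multiplicities
-/

set_option autoImplicit false
set_option linter.style.haveILetI false
set_option backward.isDefEq.respectTransparency.types false

universe u

open AlgebraicGeometry CategoryTheory CategoryTheory.Limits

namespace Groth.Agent.H23.DiagMult

open Groth.Agent Groth.Agent.H23.DiagGeom

theorem stalkIdeal_sup {X : Scheme.{u}} (I J : X.IdealSheafData) (x : X) :
    IntMult.stalkIdeal (I ⊔ J) x = IntMult.stalkIdeal I x ⊔ IntMult.stalkIdeal J x := by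
  obtain ⟨_, ⟨U, hU, rfl⟩, hxU, -⟩ :=
    X.isBasis_affineOpens.exists_subset_of_mem_open (Set.mem_univ x) isOpen_univ
  rw [MultCM.stalkIdeal_eq _ ⟨U, hU⟩ hxU, MultCM.stalkIdeal_eq _ ⟨U, hU⟩ hxU,
    MultCM.stalkIdeal_eq _ ⟨U, hU⟩ hxU, Scheme.IdealSheafData.ideal_sup, Pi.sup_apply, Ideal.map_sup]

theorem stalkIdeal_ker {Z X : Scheme.{u}} (i : Z ⟶ X) [IsClosedImmersion i] (z : Z) :
    IntMult.stalkIdeal i.ker (i z) = RingHom.ker (i.stalkMap z).hom := by
  have h : IntMult.stalkIdeal i.ker (i.imageι (i.toImage z)) = RingHom.ker ((i.toImage ≫ i.imageι).stalkMap z).hom := by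
    rw [Scheme.Hom.stalkMap_comp]
    refine Eq.trans ?_ (RingHom.ker_comp_of_injective (i.imageι.stalkMap (i.toImage z)).hom
      (ConcreteCategory.bijective_of_isIso (i.toImage.stalkMap z)).1).symm
    exact (MultCM.ker_stalkMap_subschemeι i.ker (i.toImage z)).symm
  have key : ∀ (g : Z ⟶ X), g = i → IntMult.stalkIdeal i.ker (g z) = RingHom.ker (g.stalkMap z).hom →
      IntMult.stalkIdeal i.ker (i z) = RingHom.ker (i.stalkMap z).hom := fun g hg hh => by
    subst hg
    exact hh
  exact key _ i.toImage_imageι h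

/-- The ideal sheaf of a product of closed subschemes. -/
theorem ker_map {X S : Scheme.{u}} (f : X ⟶ S) (IV IW : X.IdealSheafData) :
    (pullback.map (IV.subschemeι ≫ f) (IW.subschemeι ≫ f) f f IV.subschemeι IW.subschemeι (𝟙 _)
      (Category.comp_id _) (Category.comp_id _)).ker =
      IV.comap (pullback.fst f f) ⊔ IW.comap (pullback.snd f f) := by
  set m := pullback.map (IV.subschemeι ≫ f) (IW.subschemeι ≫ f) f f IV.subschemeι IW.subschemeι (𝟙 _)
      (Category.comp_id _) (Category.comp_id _) with hm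
  refine le_antisymm ?_ (sup_le ?_ ?_)
  · set J := IV.comap (pullback.fst f f) ⊔ IW.comap (pullback.snd f f) with hJ
    have h1 : IV.subschemeι.ker ≤ (J.subschemeι ≫ pullback.fst f f).ker := by
      rw [Scheme.IdealSheafData.ker_subschemeι, ← Scheme.IdealSheafData.map_ker,
        Scheme.IdealSheafData.le_map_iff_comap_le, Scheme.IdealSheafData.ker_subschemeι]
      exact le_sup_left
    have h2 : IW.subschemeι.ker ≤ (J.subschemeι ≫ pullback.snd f f).ker := by
      rw [Scheme.IdealSheafData.ker_subschemeι, ← Scheme.IdealSheafData.map_ker,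
        Scheme.IdealSheafData.le_map_iff_comap_le, Scheme.IdealSheafData.ker_subschemeι]
      exact le_sup_right
    let g : J.subscheme ⟶ pullback (IV.subschemeι ≫ f) (IW.subschemeι ≫ f) :=
      pullback.lift (IsClosedImmersion.lift _ _ h1) (IsClosedImmersion.lift _ _ h2) (by
        rw [IsClosedImmersion.lift_fac_assoc, IsClosedImmersion.lift_fac_assoc, Category.assoc, Category.assoc,
          pullback.condition])
    have hg : g ≫ m = J.subschemeι := by
      refine pullback.hom_ext ?_ ?_
      · rw [Category.assoc, hm, pullback.lift_fst, pullback.lift_fst_assoc, IsClosedImmersion.lift_fac]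
      · rw [Category.assoc, hm, pullback.lift_snd, pullback.lift_snd_assoc, IsClosedImmersion.lift_fac]
    calc m.ker ≤ (g ≫ m).ker := Scheme.Hom.le_ker_comp g m
      _ = J := by rw [hg, Scheme.IdealSheafData.ker_subschemeι]
  · rw [← Scheme.IdealSheafData.le_map_iff_comap_le, Scheme.IdealSheafData.map_ker, hm, pullback.lift_fst]
    exact (le_of_eq IV.ker_subschemeι.symm).trans (Scheme.Hom.le_ker_comp _ _)
  · rw [← Scheme.IdealSheafData.le_map_iff_comap_le, Scheme.IdealSheafData.map_ker, hm, pullback.lift_snd]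
    exact (le_of_eq IW.ker_subschemeι.symm).trans (Scheme.Hom.le_ker_comp _ _)

variable {K : Type u} [Field K] {X : Scheme.{u}} (f : X ⟶ Spec (CommRingCat.of K))

/-- Reduction to the diagonal. -/
theorem mult_eq [IsAlgClosed K] [Smooth f] [IsSeparated f] [IsIntegral X] (IV IW : X.IdealSheafData) {n : ℕ}
    (hn : topologicalKrullDim X = n) {ξ : X} (hξV : ξ ∈ IV.support) :
    IntMult.mult IV IW ξ = IntMult.mult (pullback.map (IV.subschemeι ≫ f) (IW.subschemeι ≫ f) f f
      IV.subschemeι IW.subschemeι (𝟙 _) (Category.comp_id _) (Category.comp_id _)).ker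
      (pullback.diagonal f).ker (pullback.diagonal f ξ) := by
  obtain ⟨l, -, hl, hlk⟩ := exists_seq f hn ξ
  rw [IntMult.mult, IntMult.mult, stalkIdeal_ker, ← hlk, KoszulTor.chi_quot_eq l hl.toIsWeaklyRegular, ker_map,
    stalkIdeal_sup, ← map_sec_stalkIdeal (pullback.fst f f) (pullback.diagonal f) (pullback.diagonal_fst f) ξ,
    ← map_sec_stalkIdeal (pullback.snd f f) (pullback.diagonal f) (pullback.diagonal_snd f) ξ,
    KoszulTor.chi_comm]
  exact DiagReduction.chi_eq ((pullback.diagonal f).stalkMap ξ).hom (sec₁ f ξ) (sec₂ f ξ)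
    (retr_sec _ _ _ ξ) (retr_sec _ _ _ ξ) (flat_sec _ _ _ ξ) l hl.toIsWeaklyRegular hlk _ _
    (flat_quot_sec₂ f IV ξ hξV)

end Groth.Agent.H23.DiagMult
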