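import Groth.Agent.H23.StalkIdeal
import Groth.Agent.H23.MultCM
import Groth.Agent.H23.GysinSq
import Groth.Agent.InvX.Tensor

/-! The zero scheme of a section of an invertible module. -/

set_option autoImplicit false
set_option backward.isDefEq.respectTransparency false
set_option backward.isDefEq.respectTransparency.types false

universe u

open CategoryTheory CategoryTheory.Limits AlgebraicGeometry TopologicalSpace Opposite

namespace Groth.Agent.H23.SecZero

open Groth.Agent RatSec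

variable {X : Scheme.{u}} {L : X.Modules} (s : L.presheaf.obj (op (⊤ : X.Opens)))

/-- The ideal of the values of a section at a point. -/
def valIdeal (x : X) : Ideal (X.presheaf.stalk x) where
  carrier := {a | ∀ (t : L.presheaf.stalk x) (φ : X.presheaf.stalk x), IsGen t →
    L.presheaf.germ ⊤ x trivial s = φ • t → a ∈ Ideal.span {φ}}
  add_mem' ha hb t φ ht he := Ideal.add_mem _ (ha t φ ht he) (hb t φ ht he)
  zero_mem' _ φ _ _ := Ideal.zero_mem _
  smul_mem' c _ ha t φ ht he := Ideal.mul_mem_left _ c (ha t φ ht he)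

variable {s}

theorem valIdeal_eq {x : X} {t : L.presheaf.stalk x} (ht : IsGen t) {φ : X.presheaf.stalk x}
    (he : L.presheaf.germ ⊤ x trivial s = φ • t) : valIdeal s x = Ideal.span {φ} := by
  refine le_antisymm (fun a ha => ha t φ ht he) ((Ideal.span_singleton_le_iff_mem _).2 fun t' φ' ht' he' => ?_)
  obtain ⟨u, hu, rfl⟩ := ht.of_span ht'.1
  have h1 : φ = φ' * u := sub_eq_zero.1 (ht.2 _ (by rw [sub_smul, mul_smul, ← he, ← he', sub_self]))
  rw [h1]
  exact Ideal.mul_mem_right _ _ (Ideal.mem_span_singleton_self φ')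

theorem exists_gen_valIdeal (hL : PicF.IsInvertible L) (x : X) :
    ∃ (U : X.affineOpens) (a : Γ(X, U.1)), x ∈ U.1 ∧ StalkIdeal.Gen (valIdeal s) U a := by
  obtain ⟨V, hxV, e, he⟩ := InvX.exists_frame hL x
  obtain ⟨_, ⟨U, hU, rfl⟩, hxU, hUV⟩ := X.isBasis_affineOpens.exists_subset_of_mem_open hxV V.2
  have hle : U ≤ V := hUV
  obtain ⟨a, ha⟩ := he.exists_coord hle (AModX.res L (le_top : U ≤ ⊤) s)
  refine ⟨⟨U, hU⟩, a, hxU, fun y hy => valIdeal_eq (isGen_germ he y (hle hy)) ?_⟩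
  have h := congrArg (L.presheaf.germ U y hy) ha
  erw [QCoh.germ_smul' L hy] at h
  rw [InvX.germ_res', InvX.germ_res'] at h
  exact h

theorem exists_zeroScheme (hL : PicF.IsInvertible L) (s : L.presheaf.obj (op (⊤ : X.Opens))) :
    ∃ (Z : Scheme.{u}) (i : Z ⟶ X), IsClosedImmersion i ∧ Cyc.IsZeroSchemeOf i L s := by
  let I := StalkIdeal.ofStalks (valIdeal s) (exists_gen_valIdeal hL)
  refine ⟨_, I.subschemeι, inferInstance, Set.ext fun x => ?_, fun d => ?_⟩
  · obtain ⟨_, ⟨U, hU, rfl⟩, hxU, -⟩ := X.isBasis_affineOpens.exists_subset_of_mem_open (Set.mem_univ x) isOpen_univ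
    obtain ⟨t, ht, -⟩ := exists_gen hL x
    obtain ⟨φ, hφ⟩ := Submodule.mem_span_singleton.1
      (ht.1.ge (Submodule.mem_top : L.presheaf.germ ⊤ x trivial s ∈ ⊤))
    rw [Scheme.IdealSheafData.range_subschemeι, CDivEq.mem_support_iff I ⟨U, hU⟩ hxU, ← StalkIdeal.sI_eq,
      StalkIdeal.sI_ofStalks, valIdeal_eq ht hφ.symm, Set.mem_setOf_eq, Ne, Ideal.span_singleton_eq_top,
      ← hφ]
    show ¬ IsUnit φ ↔ cls L x (φ • t) = 0
    rw [cls_smul, ← not_ne_iff (b := (0 : Cyc.secFibre L x)), ← residue_ne_zero ht, not_ne_iff]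
    exact (IsLocalRing.residue_eq_zero_iff φ).symm
  · obtain ⟨t, ht, -⟩ := exists_gen hL (I.subschemeι d)
    obtain ⟨φ, hφ⟩ := Submodule.mem_span_singleton.1
      (ht.1.ge (Submodule.mem_top : L.presheaf.germ ⊤ (I.subschemeι d) trivial s ∈ ⊤))
    obtain ⟨_, ⟨U, hU, rfl⟩, hxU, -⟩ :=
      X.isBasis_affineOpens.exists_subset_of_mem_open (Set.mem_univ (I.subschemeι d)) isOpen_univ
    refine ⟨t, φ, ht.1, hφ.symm, ?_⟩
    rw [MultCM.ker_stalkMap_subschemeι, MultCM.stalkIdeal_eq I ⟨U, hU⟩ hxU,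
      show ((I.ideal ⟨U, hU⟩).map _) = CDivEq.stk I ⟨U, hU⟩ hxU from rfl, ← StalkIdeal.sI_eq,
      StalkIdeal.sI_ofStalks, valIdeal_eq ht hφ.symm]

variable {Z Z' : Scheme.{u}} {i : Z ⟶ X} {i' : Z' ⟶ X}

/-- The stalk kernel of a zero scheme. -/
theorem ker_eq (hL : PicF.IsInvertible L) (h : Cyc.IsZeroSchemeOf i L s) (d : Z) :
    RingHom.ker (i.stalkMap d).hom = valIdeal s (i d) := by
  obtain ⟨t, φ, ht, he, hker⟩ := h.2 d
  have hg : IsGen t := by
    obtain ⟨t₀, ht₀, -⟩ := exists_gen hL (i d)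
    obtain ⟨u, hu, rfl⟩ := ht₀.of_span ht
    exact ht₀.smul_unit hu
  rw [hker, valIdeal_eq hg he]

theorem ker_le [IsClosedImmersion i] [QuasiCompact i'] (hL : PicF.IsInvertible L) (h : Cyc.IsZeroSchemeOf i L s)
    (h' : Cyc.IsZeroSchemeOf i' L s) : i.ker ≤ i'.ker := by
  refine fun U => ?_
  rw [Scheme.Hom.ker_apply, Scheme.Hom.ker_apply]
  intro f hf
  rw [RingHom.mem_ker] at hf ⊢
  refine TopCat.Presheaf.section_ext Z'.sheaf _ _ _ fun d hd => ?_
  obtain ⟨e, he⟩ : i' d ∈ Set.range i := by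
    rw [h.1, ← h'.1]
    exact ⟨d, rfl⟩
  have hk : X.presheaf.germ U.1 (i' d) hd f ∈ valIdeal s (i' d) := by
    have key : ∀ y, i e = y → ∀ hy : y ∈ U.1, X.presheaf.germ U.1 y hy f ∈ valIdeal s y := by
      rintro y rfl hy
      rw [← ker_eq hL h e, RingHom.mem_ker]
      refine (Scheme.Hom.germ_stalkMap_apply i U.1 e hy f).trans ?_
      show Z.presheaf.germ _ e _ ((i.app U.1).hom f) = 0
      rw [hf, map_zero]
    exact key _ he hd
  rw [← ker_eq hL h' d, RingHom.mem_ker] at hk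
  rw [map_zero]
  exact (Scheme.Hom.germ_stalkMap_apply i' U.1 d hd f).symm.trans hk

/-- Zero schemes of the same section are isomorphic. -/
theorem exists_iso [IsClosedImmersion i] [IsClosedImmersion i'] (hL : PicF.IsInvertible L)
    (h : Cyc.IsZeroSchemeOf i L s) (h' : Cyc.IsZeroSchemeOf i' L s) : ∃ e : Z' ≅ Z, e.hom ≫ i = i' := by
  refine ⟨⟨IsClosedImmersion.lift i i' (ker_le hL h h'), IsClosedImmersion.lift i' i (ker_le hL h' h), ?_, ?_⟩,
    IsClosedImmersion.lift_fac _ _ _⟩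
  · rw [← cancel_mono i', Category.assoc, IsClosedImmersion.lift_fac, IsClosedImmersion.lift_fac, Category.id_comp]
  · rw [← cancel_mono i, Category.assoc, IsClosedImmersion.lift_fac, IsClosedImmersion.lift_fac, Category.id_comp]

theorem injective_smul_germ (hL : PicF.IsInvertible L) {U : X.Opens} {b : Γ(L, U)} (hb : InvX.IsFrame b) {x : X}
    (hx : x ∈ U) {a : Γ(X, U)} (he : AModX.res L (le_top : U ≤ ⊤) s = a • b)
    (ha : ∀ c : X.presheaf.stalk x, c * X.presheaf.germ U x hx a = 0 → c = 0) :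
    Function.Injective fun c : X.presheaf.stalk x => c • L.presheaf.germ ⊤ x trivial s := by
  have h1 : L.presheaf.germ ⊤ x trivial s = X.presheaf.germ U x hx a • L.presheaf.germ U x hx b := by
    have h := congrArg (L.presheaf.germ U x hx) he
    erw [QCoh.germ_smul' L hx] at h
    rw [InvX.germ_res'] at h
    exact h
  intro c c' hcc
  refine sub_eq_zero.1 (ha _ ((isGen_germ hb x hx).2 _ ?_))
  simp only [h1, smul_smul] at hcc
  rw [sub_mul, sub_smul, hcc, sub_self]

end Groth.Agent.H23.SecZero
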