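import Groth.Agent.ProjCl17.Basic
import Groth.Agent.AmpleX.FiniteSet

/-!
# Finite parts of a fibre of a locally projective morphism lie in an affine open
-/

set_option autoImplicit false
set_option linter.style.haveILetI false
set_option backward.isDefEq.respectTransparency false
set_option backward.isDefEq.respectTransparency.types false

universe u

open CategoryTheory CategoryTheory.Limits AlgebraicGeometry TopologicalSpace

namespace Groth.Agent.H23.AFProj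

open Groth.Agent

theorem exists_affine {X S : Scheme.{u}} (π : X ⟶ S) (hπ : RelProj.IsLocallyProjective π) (y : S) (T : Finset X)
    (hT : ∀ t ∈ T, π t = y) : ∃ W : X.Opens, IsAffineOpen W ∧ (T : Set X) ⊆ W := by
  obtain ⟨U, hyU, hP⟩ := hπ y
  obtain ⟨-, -, L, hL⟩ := (ProjCl17.isQuasiProjective_and_isProper hP).1
  obtain ⟨_, ⟨V, hV, rfl⟩, hyV, hVU⟩ := S.isBasis_affineOpens.exists_subset_of_mem_open hyU U.2
  replace hV : IsAffineOpen V := hV
  have hV' : IsAffineOpen (U.ι ⁻¹ᵁ V) := hV.preimage_of_isOpenImmersion U.ι (by simpa using hVU)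
  let j := ((π ∣_ U) ⁻¹ᵁ (U.ι ⁻¹ᵁ V)).ι ≫ (π ⁻¹ᵁ U).ι
  have hA := hL.2 ⟨U.ι ⁻¹ᵁ V, hV'⟩
  haveI := AmpleX.isSeparated_of_isAmple hA
  obtain ⟨n, s, hs, -, ha⟩ := AmpleX.exists_finite_nhd hA
    (T.finite_toSet.preimage j.isOpenEmbedding.injective.injOn) (U := ⊤) (Set.subset_univ _)
  refine ⟨j ''ᵁ _, ha.image_of_isOpenImmersion j, fun x hx => ?_⟩
  have hxU : x ∈ π ⁻¹ᵁ U := by show π x ∈ U; rw [hT x hx]; exact hyU
  have hxV : (⟨x, hxU⟩ : π ⁻¹ᵁ U) ∈ (π ∣_ U) ⁻¹ᵁ (U.ι ⁻¹ᵁ V) := by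
    show U.ι ((π ∣_ U) ⟨x, hxU⟩) ∈ V
    rw [← Scheme.Hom.comp_apply, morphismRestrict_ι]
    show π x ∈ V
    rw [hT x hx]; exact hyV
  exact ⟨⟨⟨x, hxU⟩, hxV⟩, hs hx, rfl⟩

end Groth.Agent.H23.AFProj
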