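import Groth.Prelude.Def_Magnet2
import Groth.Agent.GrpSchLib.HomFlat
import Mathlib.AlgebraicGeometry.Morphisms.Flat
import Mathlib.AlgebraicGeometry.Sites.Fpqc
import Mathlib.RingTheory.Flat.FaithfullyFlat.Algebra

/-! When `N ⊆ M` has a set of coset representatives, `A(M) ⟶ A(N)` is faithfully flat and affine. -/

universe u

open CategoryTheory CategoryTheory.Limits MonoidalCategory CartesianMonoidalCategory MonObj AlgebraicGeometry
open Magnet

namespace Groth.Agent.H23.AMonFree

variable {M N : Type} [AddCommMonoid M] [AddCommMonoid N] (j : N →+ M) {Z : Type} [Nonempty Z] (e : N × Z ≃ M)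

theorem faithfullyFlat (he : ∀ n n' z, e (n + n', z) = j n + e (n', z)) (k : Type u) [CommRing k] [Nontrivial k] :
    (MonoidAlgebra.mapDomainRingHom k (AddMonoidHom.toMultiplicative j)).FaithfullyFlat := by
  classical
  let φ := MonoidAlgebra.mapDomainRingHom k (AddMonoidHom.toMultiplicative j)
  let A := MonoidAlgebra k (Multiplicative N)
  let B := MonoidAlgebra k (Multiplicative M)
  letI : Algebra A B := φ.toAlgebra
  let v : Z → B := fun z => MonoidAlgebra.single (Multiplicative.ofAdd (e (0, z))) 1
  have hv : ∀ (z : Z) (n : Multiplicative N) (c : k),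
      (MonoidAlgebra.single n c : A) • v z = MonoidAlgebra.single (Multiplicative.ofAdd (e (n.toAdd, z))) c := by
    intro z n c
    rw [Algebra.smul_def]
    show MonoidAlgebra.mapDomain _ (MonoidAlgebra.single n c) * _ = _
    rw [MonoidAlgebra.mapDomain_single, MonoidAlgebra.single_mul_single, _root_.mul_one]
    congr 1
    have := he n.toAdd 0 z
    rw [add_zero] at this
    rw [this]
    rfl
  let Φ : (Z →₀ A) →ₗ[A] B := Finsupp.linearCombination A v
  let Ψ : B →+ (Z →₀ A) :=
    (Finsupp.liftAddHom (fun m : Multiplicative M =>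
      (Finsupp.singleAddHom (e.symm m.toAdd).2).comp
        (MonoidAlgebra.singleAddHom (Multiplicative.ofAdd (e.symm m.toAdd).1)))).comp
      MonoidAlgebra.coeffAddEquiv.toAddMonoidHom
  have hΨ : ∀ (m : Multiplicative M) (c : k), Ψ (MonoidAlgebra.single m c) =
      Finsupp.single (e.symm m.toAdd).2 (MonoidAlgebra.single (Multiplicative.ofAdd (e.symm m.toAdd).1) c) := by
    intro m c
    simp only [Ψ, AddMonoidHom.comp_apply, AddEquiv.coe_toAddMonoidHom]
    rw [show MonoidAlgebra.coeffAddEquiv (MonoidAlgebra.single m c) = Finsupp.single m c from rfl, Finsupp.liftAddHom_apply_single]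
    rfl
  have hΦ : Function.Bijective Φ := by
    refine ⟨Function.LeftInverse.injective (g := Ψ) ?_, Function.RightInverse.surjective (g := Ψ) ?_⟩
    · intro x
      induction x using Finsupp.induction_linear with
      | zero => simp
      | add x y hx hy => rw [map_add, map_add, hx, hy]
      | single z a =>
        induction a using MonoidAlgebra.induction_linear with
        | zero => simp
        | add x y hx hy => rw [Finsupp.single_add, map_add, map_add, hx, hy]
        | single n c => rw [Finsupp.linearCombination_single, hv, hΨ]; simp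
    · intro y
      induction y using MonoidAlgebra.induction_linear with
      | zero => simp
      | add x y hx hy => rw [map_add, map_add, hx, hy]
      | single m c => rw [hΨ, Finsupp.linearCombination_single, hv]; simp
  haveI : Module.FaithfullyFlat A B := Module.FaithfullyFlat.of_linearEquiv _ _ (LinearEquiv.ofBijective Φ hΦ).symm
  exact this

/-- The properties making `A(M)_S ⟶ A(N)_S` an effective epimorphism, stably. -/
theorem effectiveEpi (he : ∀ n n' z, e (n + n', z) = j n + e (n', z)) (S : Scheme.{u}) (T : Over S) :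
    EffectiveEpi (AMonS.map S j ▷ T).left := by
  have hff := (flat_and_surjective_SpecMap_iff (CommRingCat.ofHom
    (MonoidAlgebra.mapDomainRingHom (ULift.{u} ℤ) (AddMonoidHom.toMultiplicative j)))).mpr
      (faithfullyFlat j e he (ULift.{u} ℤ))
  let P : MorphismProperty Scheme.{u} := @Flat ⊓ @Surjective ⊓ @QuasiCompact
  have h0 : P (AMon.map (ULift.{u} ℤ) j).left := by
    refine ⟨⟨?_, ?_⟩, ?_⟩
    · exact hff.1
    · exact hff.2
    · rw [AMon.map_left]
      exact inferInstanceAs (QuasiCompact (Spec.map (CommRingCat.ofHom _)))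
  let z := Limits.IsTerminal.from specULiftZIsTerminal S
  have h1 : P (AMonS.map S j).left := by
    have hN : IsPullback (pullback.snd (AMon (ULift.{u} ℤ) N).hom z) (pullback.fst (AMon (ULift.{u} ℤ) N).hom z)
        z (AMon (ULift.{u} ℤ) N).hom := (IsPullback.of_hasPullback _ _).flip
    refine MorphismProperty.of_isPullback (P := P) (IsPullback.of_right (h₁₁ := (AMonS.map S j).left)
      (h₁₂ := pullback.snd (AMon (ULift.{u} ℤ) N).hom z) (h₂₁ := (AMon.map (ULift.{u} ℤ) j).left)
      (v₁₁ := pullback.fst (AMon (ULift.{u} ℤ) M).hom z) ?_ ?_ hN).flip h0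
    · have h2 := (IsPullback.of_hasPullback (AMon (ULift.{u} ℤ) M).hom z).flip
      rw [show (AMonS.map S j).left ≫ pullback.snd _ z = pullback.snd (AMon (ULift.{u} ℤ) M).hom z from Over.w _,
        show (AMon.map (ULift.{u} ℤ) j).left ≫ (AMon (ULift.{u} ℤ) N).hom = (AMon (ULift.{u} ℤ) M).hom from Over.w _]
      exact h2
    · exact pullback.lift_fst _ _ _
  haveI := (GrpSchLib.property_whiskerRight (AMonS.map S j) T P h1).1.1
  haveI := (GrpSchLib.property_whiskerRight (AMonS.map S j) T P h1).1.2
  haveI := (GrpSchLib.property_whiskerRight (AMonS.map S j) T P h1).2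
  infer_instance

end Groth.Agent.H23.AMonFree
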