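import Groth.Agent.H23.AMonSpec
import Groth.Agent.RingPO.Affine
import Mathlib.CategoryTheory.Limits.Shapes.Pullback.IsPullback.Basic

/-! The square of diagonalizable monoid schemes attached to `N ≤ L ≤ L'` with `L` a face of `L'` is a pushout. -/

universe u

open CategoryTheory CategoryTheory.Limits MonoidalCategory CartesianMonoidalCategory MonObj AlgebraicGeometry
open Magnet

namespace Groth.Agent.H23.AMonPushout

variable {S : Scheme.{u}} {M : Type} [AddCommMonoid M] {N N' L L' : AddSubmonoid M}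

/-- `R[K] → R[K']` along an inclusion. -/
noncomputable abbrev inclR (R : Type u) [CommRing R] {A B : AddSubmonoid M} (h : A ≤ B) :
    MonoidAlgebra R (Multiplicative A) →+* MonoidAlgebra R (Multiplicative B) :=
  MonoidAlgebra.mapDomainRingHom R (AddMonoidHom.toMultiplicative (AddSubmonoid.inclusion h))

/-- The face projection as a ring map. -/
noncomputable abbrev faceR (R : Type u) [CommRing R] {A B : AddSubmonoid M} (h : IsFace B A) :
    MonoidAlgebra R (Multiplicative B) →+* MonoidAlgebra R (Multiplicative A) :=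
  (faceAlgHom R h).toRingHom

theorem faceR_single_one (R : Type u) [CommRing R] {A B : AddSubmonoid M} (h : IsFace B A) (r : R) :
    faceR R h (MonoidAlgebra.single 1 r) = MonoidAlgebra.single 1 r :=
  (faceAlgHom R h).commutes r

theorem coeff_faceR (R : Type u) [CommRing R] {A B : AddSubmonoid M} (h : IsFace B A)
    (x : MonoidAlgebra R (Multiplicative B)) (n : A) :
    (faceR R h x).coeff (Multiplicative.ofAdd n) = x.coeff (Multiplicative.ofAdd (AddSubmonoid.inclusion h.le n)) := by
  classical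
  induction x using MonoidAlgebra.induction_linear with
  | zero => simp
  | add x y hx hy => simp only [map_add, MonoidAlgebra.coeff_add, Finsupp.add_apply, hx, hy]
  | single b r =>
    rw [show MonoidAlgebra.single b r = MonoidAlgebra.single 1 r * MonoidAlgebra.single b 1 by
      rw [MonoidAlgebra.single_mul_single, _root_.one_mul, _root_.mul_one], map_mul, faceR_single_one,
      show faceR R h (MonoidAlgebra.single b 1) = faceMonoidHom R h b from
        (MonoidAlgebra.lift_single (faceMonoidHom R h) b (1 : R)).trans (one_smul _ _),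
      MonoidAlgebra.single_mul_single, _root_.one_mul, _root_.mul_one]
    by_cases hb : ((Multiplicative.toAdd b : ↥B) : M) ∈ A
    · rw [show faceMonoidHom R h b = _ from faceMonoidHom_apply_of_mem R h (Multiplicative.toAdd b) hb,
        MonoidAlgebra.single_mul_single, _root_.one_mul, _root_.mul_one]
      simp only [MonoidAlgebra.coeff_single, Finsupp.single_apply]
      congr 1
      exact propext ⟨fun e => Subtype.ext (show ((Multiplicative.toAdd b : ↥B) : M) = n from congrArg Subtype.val e),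
        fun e => Subtype.ext (show ((Multiplicative.toAdd b : ↥B) : M) = n from congrArg Subtype.val e)⟩
    · rw [show faceMonoidHom R h b = _ from faceMonoidHom_apply_of_not_mem R h (Multiplicative.toAdd b) hb, mul_zero]
      simp only [MonoidAlgebra.coeff_single, MonoidAlgebra.coeff_zero, Finsupp.coe_zero, Pi.zero_apply]
      rw [Finsupp.single_eq_of_ne]
      intro e
      exact hb (by rw [← e]; exact n.2)

theorem pullback_congr_eq {A B C D : Scheme.{u}} {f f' : A ⟶ C} {g g' : B ⟶ C} (hf : f = f') (hg : g = g')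
    (p : A ⟶ D) (q : B ⟶ D) (h : pullback.fst f g ≫ p = pullback.snd f g ≫ q) :
    pullback.fst f' g' ≫ p = pullback.snd f' g' ≫ q := by
  subst hf
  subst hg
  exact h

variable (hNL : N ≤ L) (hN'L' : N' ≤ L') (hL : IsFace L' L) (hN : IsFace N' N)

include hNL hN'L' hL hN

theorem isFibreProd (R : Type u) [CommRing R] (hdiff : (N' : Set M) = (L' : Set M) \ ((L : Set M) \ (N : Set M))) :
    RingPO.IsFibreProd (faceR R hL) (inclR R hNL) (inclR R hN'L') (faceR R hN) := by
  classical
  have hinj : ∀ {A B : AddSubmonoid M} (h : A ≤ B), Function.Injective (inclR R h) := fun h =>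
    MonoidAlgebra.mapDomain_injective (AddSubmonoid.inclusion_injective h)
  have hco : ∀ {A B : AddSubmonoid M} (h : A ≤ B) (x : MonoidAlgebra R (Multiplicative A)) (n : A),
      (inclR R h x).coeff (Multiplicative.ofAdd (AddSubmonoid.inclusion h n)) = x.coeff (Multiplicative.ofAdd n) :=
    fun h x n => Finsupp.mapDomain_apply (AddSubmonoid.inclusion_injective h) _ _
  have hout : ∀ {A B : AddSubmonoid M} (h : A ≤ B) (x : MonoidAlgebra R (Multiplicative A)) (n : B), (n : M) ∉ A →
      (inclR R h x).coeff (Multiplicative.ofAdd n) = 0 :=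
    fun h x n hn => Finsupp.mapDomain_of_notMem_range _ _ (by
      rintro ⟨k, hk⟩
      exact hn (by rw [← show ((Multiplicative.toAdd k : _) : M) = (n : M) from congrArg Subtype.val hk]; exact (Multiplicative.toAdd k).2))
  have hcomm : ∀ z, faceR R hL (inclR R hN'L' z) = inclR R hNL (faceR R hN z) := by
    intro z
    ext l
    obtain ⟨l, rfl⟩ := Multiplicative.ofAdd.surjective l
    rw [coeff_faceR]
    by_cases hl : (l : M) ∈ N
    · rw [show l = AddSubmonoid.inclusion hNL ⟨l, hl⟩ from rfl, hco hNL, coeff_faceR,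
        show AddSubmonoid.inclusion hL.le (AddSubmonoid.inclusion hNL ⟨(l : M), hl⟩) =
          AddSubmonoid.inclusion hN'L' (AddSubmonoid.inclusion hN.le ⟨(l : M), hl⟩) from rfl, hco hN'L']
    · rw [hout hNL _ l hl, hout hN'L']
      intro hm
      have hm' : (l : M) ∈ (N' : Set M) := hm
      rw [hdiff] at hm'
      exact hm'.2 ⟨l.2, hl⟩
  refine ⟨fun x => ⟨inclR R hL.le x, ?_⟩, hcomm, fun z z' h _ => hinj hN'L' h, fun b a hab => ?_⟩
  · ext l
    obtain ⟨l, rfl⟩ := Multiplicative.ofAdd.surjective l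
    rw [coeff_faceR, hco]
  · have hsupp : ∀ l : L', (l : M) ∉ N' → a.coeff (Multiplicative.ofAdd l) = 0 := by
      intro l hl
      have hl' : (l : M) ∈ (L : Set M) \ (N : Set M) := by
        by_contra h
        have : (l : M) ∈ (N' : Set M) := by rw [hdiff]; exact ⟨l.2, h⟩
        exact hl this
      rw [show l = AddSubmonoid.inclusion hL.le ⟨l, hl'.1⟩ from rfl, ← coeff_faceR R hL, hab, hout hNL _ _ hl'.2]
    let z : MonoidAlgebra R (Multiplicative N') := MonoidAlgebra.ofCoeff (Finsupp.comapDomain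
      (AddMonoidHom.toMultiplicative (AddSubmonoid.inclusion hN'L')) a.coeff
      (AddSubmonoid.inclusion_injective hN'L').injOn)
    have hz : inclR R hN'L' z = a := by
      ext l
      obtain ⟨l, rfl⟩ := Multiplicative.ofAdd.surjective l
      by_cases hl : (l : M) ∈ N'
      · rw [show l = AddSubmonoid.inclusion hN'L' ⟨l, hl⟩ from rfl, hco]
        rfl
      · rw [hout hN'L' _ l hl, hsupp l hl]
    exact ⟨z, hz, hinj hNL (by rw [← hcomm, hz, hab])⟩

theorem pushout_affine (hdiff : (N' : Set M) = (L' : Set M) \ ((L : Set M) \ (N : Set M))) (W : Over S)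
    [IsAffine W.left] :
    IsPushout (AMonS.faceMap S hL ▷ W).left (AMonS.map S (AddSubmonoid.inclusion hNL) ▷ W).left
      (AMonS.map S (AddSubmonoid.inclusion hN'L') ▷ W).left (AMonS.faceMap S hN ▷ W).left := by
  obtain ⟨e, he⟩ := AMonSpec.exists_iso W
  have hincl : ∀ {A B : AddSubmonoid M} (h : A ≤ B),
      Spec.map (CommRingCat.ofHom (inclR Γ(W.left, ⊤) h)) ≫ (e A).hom =
        (e B).hom ≫ (AMonS.map S (AddSubmonoid.inclusion h) ▷ W).left := by
    intro A B h
    refine (he A B (AMon.map _ (AddSubmonoid.inclusion h)) _ (inclR Γ(W.left, ⊤) h) (AMon.map_left _ _) ?_ ?_).symm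
    · apply MonoidAlgebra.ringHom_ext
      · intro r; simp
      · intro m; simp
    · intro r; simp
  have hface : ∀ {A B : AddSubmonoid M} (h : IsFace B A),
      Spec.map (CommRingCat.ofHom (faceR Γ(W.left, ⊤) h)) ≫ (e B).hom =
        (e A).hom ≫ (AMonS.faceMap S h ▷ W).left := by
    intro A B h
    refine (he B A (AMon.faceMap _ h) _ (faceR Γ(W.left, ⊤) h) (AMon.faceMap_left _ h) ?_ ?_).symm
    · apply MonoidAlgebra.ringHom_ext
      · intro r
        simp only [RingHom.comp_apply, MonoidAlgebra.mapRingHom_single]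
        rw [show (faceAlgHom (ULift.{u} ℤ) h).toRingHom (MonoidAlgebra.single 1 r) = _ from faceR_single_one _ h r,
          MonoidAlgebra.mapRingHom_single]
        exact faceR_single_one _ h _
      · intro m
        ext n
        obtain ⟨n, rfl⟩ := Multiplicative.ofAdd.surjective n
        simp only [RingHom.comp_apply, MonoidAlgebra.mapRingHom_single, map_one]
        rw [coeff_faceR, MonoidAlgebra.coeff_mapRingHom]
        erw [coeff_faceR]
        simp only [MonoidAlgebra.coeff_single]
        by_cases hm : m = Multiplicative.ofAdd (AddSubmonoid.inclusion h.le n)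
        · subst hm
          rw [Finsupp.single_eq_same]
          erw [Finsupp.single_eq_same]
          simp
        · rw [Finsupp.single_eq_of_ne (Ne.symm hm)]
          erw [Finsupp.single_eq_of_ne (Ne.symm hm)]
          simp
    · exact faceR_single_one _ h
  exact (isFibreProd hNL hN'L' hL hN Γ(W.left, ⊤) hdiff).isPushout.of_iso (e L) (e L') (e N) (e N')
    (hface hL) (hincl hNL) (hincl hN'L') (hface hN)

theorem hom_ext_whisker (hdiff : (N' : Set M) = (L' : Set M) \ ((L : Set M) \ (N : Set M))) (W : Over S) {X : Over S}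
    {k k' : AMonS S N' ⊗ W ⟶ X}
    (h1 : (AMonS.map S (AddSubmonoid.inclusion hN'L') ▷ W) ≫ k = (AMonS.map S (AddSubmonoid.inclusion hN'L') ▷ W) ≫ k')
    (h2 : (AMonS.faceMap S hN ▷ W) ≫ k = (AMonS.faceMap S hN ▷ W) ≫ k') : k = k' := by
  apply Over.OverMorphism.ext
  refine (Scheme.Pullback.openCoverOfRight W.left.affineCover (AMonS S N').hom W.hom).hom_ext _ _ fun i => ?_
  let W' : Over S := Over.mk (W.left.affineCover.f i ≫ W.hom)
  haveI : IsAffine W'.left := inferInstanceAs (IsAffine (W.left.affineCover.X i))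
  let u : W' ⟶ W := Over.homMk (W.left.affineCover.f i)
  have hu : (AMonS S N' ◁ u).left =
      (Scheme.Pullback.openCoverOfRight W.left.affineCover (AMonS S N').hom W.hom).f i := by
    apply pullback.hom_ext
    · erw [Over.whiskerLeft_left_fst u]
    · erw [Over.whiskerLeft_left_snd u]
  rw [← hu]
  refine (pushout_affine hNL hN'L' hL hN hdiff W').hom_ext ?_ ?_
  · exact congrArg Over.Hom.left (show (AMonS.map S (AddSubmonoid.inclusion hN'L') ▷ W') ≫ (AMonS S N' ◁ u) ≫ k =
      (AMonS.map S (AddSubmonoid.inclusion hN'L') ▷ W') ≫ (AMonS S N' ◁ u) ≫ k' by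
        rw [← whisker_exchange_assoc, ← whisker_exchange_assoc, h1])
  · exact congrArg Over.Hom.left (show (AMonS.faceMap S hN ▷ W') ≫ (AMonS S N' ◁ u) ≫ k =
      (AMonS.faceMap S hN ▷ W') ≫ (AMonS S N' ◁ u) ≫ k' by
        rw [← whisker_exchange_assoc, ← whisker_exchange_assoc, h2])

theorem exists_desc_whisker (hdiff : (N' : Set M) = (L' : Set M) \ ((L : Set M) \ (N : Set M))) (W : Over S) {X : Over S}
    (g₁ : AMonS S L' ⊗ W ⟶ X) (g₂ : AMonS S N ⊗ W ⟶ X)
    (hg : (AMonS.faceMap S hL ▷ W) ≫ g₁ = (AMonS.map S (AddSubmonoid.inclusion hNL) ▷ W) ≫ g₂) :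
    ∃ k : AMonS S N' ⊗ W ⟶ X, (AMonS.map S (AddSubmonoid.inclusion hN'L') ▷ W) ≫ k = g₁ ∧
      (AMonS.faceMap S hN ▷ W) ≫ k = g₂ := by
  let P := AMonS S N'
  let Wi : W.left.affineCover.I₀ → Over S := fun i => Over.mk (W.left.affineCover.f i ≫ W.hom)
  let u : ∀ i, Wi i ⟶ W := fun i => Over.homMk (W.left.affineCover.f i)
  have hloc : ∀ i, ∃ k : P ⊗ Wi i ⟶ X,
      (AMonS.map S (AddSubmonoid.inclusion hN'L') ▷ Wi i) ≫ k = (_ ◁ u i) ≫ g₁ ∧
      (AMonS.faceMap S hN ▷ Wi i) ≫ k = (_ ◁ u i) ≫ g₂ := by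
    intro i
    haveI : IsAffine (Wi i).left := inferInstanceAs (IsAffine (W.left.affineCover.X i))
    have hp := pushout_affine hNL hN'L' hL hN hdiff (Wi i)
    have hw : (AMonS.faceMap S hL ▷ Wi i) ≫ (_ ◁ u i) ≫ g₁ =
        (AMonS.map S (AddSubmonoid.inclusion hNL) ▷ Wi i) ≫ (_ ◁ u i) ≫ g₂ := by
      rw [← whisker_exchange_assoc, ← whisker_exchange_assoc, hg]
    refine ⟨Over.homMk (hp.desc ((_ ◁ u i) ≫ g₁).left ((_ ◁ u i) ≫ g₂).left (congrArg Over.Hom.left hw)) ?_,
      Over.OverMorphism.ext (hp.inl_desc _ _ _), Over.OverMorphism.ext (hp.inr_desc _ _ _)⟩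
    apply hp.hom_ext
    · rw [hp.inl_desc_assoc]
      exact (Over.w _).trans (Over.w _).symm
    · rw [hp.inr_desc_assoc]
      exact (Over.w _).trans (Over.w _).symm
  choose k hk1 hk2 using hloc
  let 𝒰 := Scheme.Pullback.openCoverOfRight W.left.affineCover P.hom W.hom
  have hu : ∀ i, (P ◁ u i).left = 𝒰.f i := fun i => by
    apply pullback.hom_ext
    · erw [Over.whiskerLeft_left_fst (u i)]
    · erw [Over.whiskerLeft_left_snd (u i)]
  have hc : ∀ i j, pullback.fst (P ◁ u i).left (P ◁ u j).left ≫ (k i).left =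
      pullback.snd (P ◁ u i).left (P ◁ u j).left ≫ (k j).left := by
    intro i j
    let V : Over S := Over.mk (pullback.fst (P ◁ u i).left (P ◁ u j).left ≫ (P ⊗ Wi i).hom)
    let a : V ⟶ P ⊗ Wi i := Over.homMk (pullback.fst _ _) rfl
    let b : V ⟶ P ⊗ Wi j := Over.homMk (pullback.snd _ _) (by
      show _ = pullback.fst _ _ ≫ _
      rw [← Over.w (P ◁ u j), ← Over.w (P ◁ u i), ← Category.assoc, ← Category.assoc, pullback.condition])
    have hab : a ≫ (P ◁ u i) = b ≫ (P ◁ u j) := Over.OverMorphism.ext pullback.condition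
    have hfst : a ≫ fst _ _ = b ≫ fst _ _ := by
      have := congrArg (· ≫ fst _ _) hab
      simpa using this
    let D : Over S := Over.mk ((pullback.fst (u i).left (u j).left) ≫ (Wi i).hom)
    let d₁ : D ⟶ Wi i := Over.homMk (pullback.fst _ _) rfl
    let d₂ : D ⟶ Wi j := Over.homMk (pullback.snd _ _) (by
      show _ = pullback.fst _ _ ≫ _
      rw [← Over.w (u j), ← Over.w (u i), ← Category.assoc, ← Category.assoc, pullback.condition])
    have hd : d₁ ≫ u i = d₂ ≫ u j := Over.OverMorphism.ext pullback.condition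
    have hD : (P ◁ d₁) ≫ k i = (P ◁ d₂) ≫ k j := by
      apply hom_ext_whisker hNL hN'L' hL hN hdiff D
      · rw [← whisker_exchange_assoc, ← whisker_exchange_assoc, hk1, hk1,
          ← MonoidalCategory.whiskerLeft_comp_assoc, ← MonoidalCategory.whiskerLeft_comp_assoc, hd]
      · rw [← whisker_exchange_assoc, ← whisker_exchange_assoc, hk2, hk2,
          ← MonoidalCategory.whiskerLeft_comp_assoc, ← MonoidalCategory.whiskerLeft_comp_assoc, hd]
    let w : V ⟶ D := Over.homMk (pullback.lift (a ≫ snd _ _).left (b ≫ snd _ _).left (by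
      have h0 : (a ≫ snd _ _) ≫ u i = (b ≫ snd _ _) ≫ u j := by
        have h1 : (a ≫ (P ◁ u i)) ≫ snd _ _ = (b ≫ (P ◁ u j)) ≫ snd _ _ := by rw [hab]
        simpa using h1
      exact congrArg Over.Hom.left h0)) (by
      show pullback.lift _ _ _ ≫ pullback.fst _ _ ≫ _ = _
      rw [pullback.lift_fst_assoc]
      exact Over.w (a ≫ snd _ _))
    have ha : a = lift (a ≫ fst _ _) w ≫ (P ◁ d₁) := by
      rw [lift_whiskerLeft, show w ≫ d₁ = a ≫ snd _ _ from Over.OverMorphism.ext (pullback.lift_fst _ _ _), lift_comp_fst_snd]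
    have hb : b = lift (a ≫ fst _ _) w ≫ (P ◁ d₂) := by
      rw [lift_whiskerLeft, show w ≫ d₂ = b ≫ snd _ _ from Over.OverMorphism.ext (pullback.lift_snd _ _ _), hfst, lift_comp_fst_snd]
    have : a ≫ k i = b ≫ k j := by rw [ha, hb, Category.assoc, Category.assoc, hD]
    exact congrArg Over.Hom.left this
  let kk : (P ⊗ W).left ⟶ X.left := Scheme.Cover.glueMorphisms 𝒰 (fun i => (k i).left) (fun i j =>
    pullback_congr_eq (hu i) (hu j) _ _ (hc i j))
  have hkk : ∀ i, (P ◁ u i).left ≫ kk = (k i).left := fun i => by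
    rw [hu]
    exact Scheme.Cover.ι_glueMorphisms 𝒰 _ _ i
  refine ⟨Over.homMk kk (𝒰.hom_ext _ _ fun i => ?_), ?_, ?_⟩
  · refine (congrArg (· ≫ kk ≫ X.hom) (hu i).symm).trans ?_
    refine ((Category.assoc _ _ _).symm.trans (congrArg (· ≫ X.hom) (hkk i))).trans ?_
    exact ((Over.w (k i)).trans (Over.w (P ◁ u i)).symm).trans (congrArg (· ≫ (P ⊗ W).hom) (hu i))
  · refine Over.OverMorphism.ext ((Scheme.Pullback.openCoverOfRight W.left.affineCover (AMonS S L').hom W.hom).hom_ext _ _ fun i => ?_)
    have hu' : (AMonS S L' ◁ u i).left =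
        (Scheme.Pullback.openCoverOfRight W.left.affineCover (AMonS S L').hom W.hom).f i := by
      apply pullback.hom_ext
      · erw [Over.whiskerLeft_left_fst (u i)]
      · erw [Over.whiskerLeft_left_snd (u i)]
    rw [← hu']
    have hex := congrArg Over.Hom.left (whisker_exchange (AMonS.map S (AddSubmonoid.inclusion hN'L')) (u i))
    refine Eq.trans ?_ (congrArg Over.Hom.left (hk1 i))
    rw [Over.comp_left, Over.comp_left, ← hkk i]
    refine (Category.assoc _ _ _).symm.trans (Eq.trans ?_ (Category.assoc _ _ _))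
    exact congrArg (· ≫ kk) hex
  · refine Over.OverMorphism.ext ((Scheme.Pullback.openCoverOfRight W.left.affineCover (AMonS S N).hom W.hom).hom_ext _ _ fun i => ?_)
    have hu' : (AMonS S N ◁ u i).left =
        (Scheme.Pullback.openCoverOfRight W.left.affineCover (AMonS S N).hom W.hom).f i := by
      apply pullback.hom_ext
      · erw [Over.whiskerLeft_left_fst (u i)]
      · erw [Over.whiskerLeft_left_snd (u i)]
    rw [← hu']
    have hex := congrArg Over.Hom.left (whisker_exchange (AMonS.faceMap S hN) (u i))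
    refine Eq.trans ?_ (congrArg Over.Hom.left (hk2 i))
    rw [Over.comp_left, Over.comp_left, ← hkk i]
    refine (Category.assoc _ _ _).symm.trans (Eq.trans ?_ (Category.assoc _ _ _))
    exact congrArg (· ≫ kk) hex

end Groth.Agent.H23.AMonPushout

namespace Groth.Agent.H23.AMonPushout

variable {S : Scheme.{u}} {M : Type} [AddCommMonoid M] {N N' L L' : AddSubmonoid M}

theorem isPushout_whisker (hNL : N ≤ L) (hN'L' : N' ≤ L') (hL : IsFace L' L) (hN : IsFace N' N)
    (hdiff : (N' : Set M) = (L' : Set M) \ ((L : Set M) \ (N : Set M))) (W : Over S) :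
    IsPushout (AMonS.faceMap S hL ▷ W) (AMonS.map S (AddSubmonoid.inclusion hNL) ▷ W)
      (AMonS.map S (AddSubmonoid.inclusion hN'L') ▷ W) (AMonS.faceMap S hN ▷ W) := by
  have w : AMonS.faceMap S hL ≫ AMonS.map S (AddSubmonoid.inclusion hN'L') =
      AMonS.map S (AddSubmonoid.inclusion hNL) ≫ AMonS.faceMap S hN := by
    rw [AMonS.map, AMonS.map, AMonS.faceMap, AMonS.faceMap, ← Functor.map_comp, ← Functor.map_comp]
    congr 1
    refine Over.OverMorphism.ext ((Spec.map_comp _ _).symm.trans (Eq.trans (congrArg Spec.map ?_) (Spec.map_comp _ _)))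
    exact CommRingCat.hom_ext (RingHom.ext (isFibreProd hNL hN'L' hL hN (ULift.{u} ℤ) hdiff).comm)
  choose d hd1 hd2 using fun (s : PushoutCocone (AMonS.faceMap S hL ▷ W) (AMonS.map S (AddSubmonoid.inclusion hNL) ▷ W)) =>
    exists_desc_whisker hNL hN'L' hL hN hdiff W s.inl s.inr s.condition
  exact ⟨⟨by rw [← comp_whiskerRight, ← comp_whiskerRight, w]⟩, ⟨PushoutCocone.IsColimit.mk _ d hd1 hd2
    (fun s m h1 h2 => hom_ext_whisker hNL hN'L' hL hN hdiff W (h1.trans (hd1 s).symm) (h2.trans (hd2 s).symm))⟩⟩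

theorem isPushout (hNL : N ≤ L) (hN'L' : N' ≤ L') (hL : IsFace L' L) (hN : IsFace N' N)
    (hdiff : (N' : Set M) = (L' : Set M) \ ((L : Set M) \ (N : Set M))) :
    IsPushout (AMonS.faceMap S hL) (AMonS.map S (AddSubmonoid.inclusion hNL))
      (AMonS.map S (AddSubmonoid.inclusion hN'L')) (AMonS.faceMap S hN) :=
  (isPushout_whisker hNL hN'L' hL hN hdiff (𝟙_ (Over S))).of_iso (ρ_ _) (ρ_ _) (ρ_ _) (ρ_ _)
    (MonoidalCategory.rightUnitor_naturality _) (MonoidalCategory.rightUnitor_naturality _)
    (MonoidalCategory.rightUnitor_naturality _) (MonoidalCategory.rightUnitor_naturality _)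

end Groth.Agent.H23.AMonPushout
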