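import Groth.Prelude.Def_Magnet4
import Mathlib.RingTheory.TensorProduct.MonoidAlgebra
import Mathlib.AlgebraicGeometry.Pullbacks

/-! `A(K)_S ×_S W` for an affine `W` is the spectrum of the monoid algebra over `Γ(W)`, naturally in `K`. -/

universe u

open CategoryTheory CategoryTheory.Limits MonoidalCategory CartesianMonoidalCategory MonObj AlgebraicGeometry
open Magnet TensorProduct
open scoped AlgebraMonoidAlgebra

namespace Groth.Agent.H23.AMonSpec

attribute [-instance] ULift.smulLeft

variable {S : Scheme.{u}} (W : Over S) [IsAffine W.left]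

/-- The algebra over the functions on `W`. -/
abbrev RK (K : Type) : Type u := MonoidAlgebra Γ(W.left, ⊤) (Multiplicative K)

/-- The base ring map. -/
noncomputable def base : ULift.{u} ℤ →+* Γ(W.left, ⊤) := (Int.castRingHom _).comp ULift.ringEquiv.toRingHom

noncomputable local instance algBase : Algebra (ULift.{u} ℤ) Γ(W.left, ⊤) := (base W).toAlgebra

theorem exists_iso : ∃ e : ∀ (K : Type) [AddCommMonoid K], Spec (CommRingCat.of (RK W K)) ≅ (AMonS S K ⊗ W).left,
    ∀ (K K' : Type) [AddCommMonoid K] [AddCommMonoid K'] (g : AMon (ULift.{u} ℤ) K' ⟶ AMon (ULift.{u} ℤ) K)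
      (φ : MonoidAlgebra (ULift.{u} ℤ) (Multiplicative K) →+* MonoidAlgebra (ULift.{u} ℤ) (Multiplicative K'))
      (φR : RK W K →+* RK W K'), g.left = Spec.map (CommRingCat.ofHom φ) →
      φR.comp (MonoidAlgebra.mapRingHom _ (base W)) = (MonoidAlgebra.mapRingHom _ (base W)).comp φ →
      (∀ r, φR (MonoidAlgebra.single 1 r) = MonoidAlgebra.single 1 r) →
      (e K').hom ≫ ((Over.pullback (Limits.IsTerminal.from specULiftZIsTerminal S)).map g ▷ W).left =
        Spec.map (CommRingCat.ofHom φR) ≫ (e K).hom := by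
  let z := Limits.IsTerminal.from specULiftZIsTerminal S
  let inL : ∀ (K : Type) [AddCommMonoid K], Spec (CommRingCat.of (RK W K)) ⟶ (AMon (ULift.{u} ℤ) K).left :=
    fun K _ => Spec.map (CommRingCat.ofHom (MonoidAlgebra.mapRingHom _ (base W)))
  let inR : ∀ (K : Type) [AddCommMonoid K], Spec (CommRingCat.of (RK W K)) ⟶ Spec Γ(W.left, ⊤) :=
    fun K _ => Spec.map (CommRingCat.ofHom MonoidAlgebra.singleOneRingHom)
  let t : Spec Γ(W.left, ⊤) ⟶ W.left := W.left.isoSpec.inv
  have hsq : ∀ (K : Type) [AddCommMonoid K],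
      IsPullback (inL K) (inR K ≫ t) (AMon (ULift.{u} ℤ) K).hom (W.hom ≫ z) := fun K _ => by
    haveI : IsScalarTower (ULift.{u} ℤ) (MonoidAlgebra (ULift.{u} ℤ) (Multiplicative K)) (RK W K) :=
      IsScalarTower.of_algebraMap_eq (R := ULift.{u} ℤ) (S := MonoidAlgebra (ULift.{u} ℤ) (Multiplicative K)) (A := RK W K) fun r => by
        show MonoidAlgebra.single 1 (base W r) = MonoidAlgebra.mapRingHom _ (base W) (MonoidAlgebra.single 1 r)
        rw [MonoidAlgebra.mapRingHom_single]
    haveI : IsScalarTower (ULift.{u} ℤ) (ULift.{u} ℤ) Γ(W.left, ⊤) :=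
      IsScalarTower.of_algebraMap_eq fun r => rfl
    haveI : Algebra.IsPushout (ULift.{u} ℤ) (ULift.{u} ℤ) Γ(W.left, ⊤) Γ(W.left, ⊤) := inferInstance
    have hP : Algebra.IsPushout (ULift.{u} ℤ) (MonoidAlgebra (ULift.{u} ℤ) (Multiplicative K)) Γ(W.left, ⊤) (RK W K) :=
      inferInstance
    refine (isPullback_SpecMap_of_isPushout _ _ _ _
      (CommRingCat.isPushout_of_isPushout (ULift.{u} ℤ) (MonoidAlgebra (ULift.{u} ℤ) (Multiplicative K)) Γ(W.left, ⊤) (RK W K))).of_iso
      (Iso.refl _) (Iso.refl _) W.left.isoSpec.symm (Iso.refl _) ?_ ?_ ?_ ?_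
    · simp only [Iso.refl_hom, Category.comp_id, Category.id_comp]; rfl
    · simp only [Iso.refl_hom, Iso.symm_hom, Category.id_comp]
      exact congrArg (· ≫ _) (congrArg Spec.map (CommRingCat.hom_ext (RingHom.ext fun r => rfl)))
    · simp only [Iso.refl_hom, Category.comp_id, Category.id_comp]; rfl
    · exact specULiftZIsTerminal.hom_ext _ _
  have hbig : ∀ (K : Type) [AddCommMonoid K], IsPullback
      (pullback.fst (AMonS S K).hom W.hom ≫ pullback.fst (AMon (ULift.{u} ℤ) K).hom z)
      (pullback.snd (AMonS S K).hom W.hom) (AMon (ULift.{u} ℤ) K).hom (W.hom ≫ z) := fun K _ =>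
    (IsPullback.of_hasPullback (AMonS S K).hom W.hom).paste_horiz
      (IsPullback.of_hasPullback (AMon (ULift.{u} ℤ) K).hom z)
  refine ⟨fun K _ => (hsq K).isoIsPullback _ _ (hbig K), fun K K' _ _ g φ φR hg hφ h1 => ?_⟩
  have e1 : ∀ (K : Type) [AddCommMonoid K],
      ((hsq K).isoIsPullback _ _ (hbig K)).hom ≫ pullback.fst (AMonS S K).hom W.hom ≫
        pullback.fst (AMon (ULift.{u} ℤ) K).hom z = inL K :=
    fun K _ => IsPullback.isoIsPullback_hom_fst _ _ _ _
  have e2 : ∀ (K : Type) [AddCommMonoid K],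
      ((hsq K).isoIsPullback _ _ (hbig K)).hom ≫ pullback.snd (AMonS S K).hom W.hom = inR K ≫ t :=
    fun K _ => IsPullback.isoIsPullback_hom_snd _ _ _ _
  have hjR : Spec.map (CommRingCat.ofHom φR) ≫ inR K = inR K' := by
    refine (Spec.map_comp _ _).symm.trans ?_
    exact congrArg Spec.map (CommRingCat.hom_ext (RingHom.ext fun r => h1 r))
  have hjL : Spec.map (CommRingCat.ofHom φR) ≫ inL K = inL K' ≫ g.left := by
    rw [hg]
    refine (Spec.map_comp _ _).symm.trans (Eq.trans ?_ (Spec.map_comp _ _))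
    rw [← CommRingCat.ofHom_comp, ← CommRingCat.ofHom_comp, hφ]
  apply (hbig K).hom_ext
  · rw [Category.assoc (Spec.map (CommRingCat.ofHom φR)), e1 K, hjL, ← e1 K']
    simp only [Category.assoc]
    congr 1
    erw [← Category.assoc, Over.whiskerRight_left_fst, Category.assoc]
    congr 1
    exact pullback.lift_fst _ _ _
  · rw [Category.assoc (Spec.map (CommRingCat.ofHom φR)), e2 K, ← Category.assoc (Spec.map (CommRingCat.ofHom φR)),
      hjR, ← e2 K']
    simp only [Category.assoc]
    congr 1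
    exact Over.whiskerRight_left_snd _

end Groth.Agent.H23.AMonSpec
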