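import Groth.Agent.AmpleX.Generated
import Groth.Agent.AmpleX.FiniteSet
import Groth.Agent.InvX.GenEpi

/-!
A section of a large ample twist generating at finitely many points.
-/

universe u

open CategoryTheory AlgebraicGeometry TopologicalSpace
open Groth.Agent.H23.PicMul

set_option backward.isDefEq.respectTransparency false
set_option backward.isDefEq.respectTransparency.types false

namespace Groth.Agent.H23.SectionFinset

open Groth.Agent Groth.Agent.AmpleX

variable {X : Scheme.{u}}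

theorem eventually_exists_section [CompactSpace X] [X.IsSeparated] {L A : X.Modules}
    (hA : CohB1.IsAmple A) (hL : PicF.IsInvertible L) {Z : Set X} (hZ : Z.Finite) :
    ∃ N₀ : ℕ, ∀ N : ℕ, N₀ ≤ N →
      ∃ s : Coh.structureModule X ⟶ CohB1.tensorMod L (CohB1.tensorPow A N),
        Z ⊆ CohB1.genLocus (CohB1.tensorMod L (CohB1.tensorPow A N)) s := by
  classical
  let Z₀ : Set X := {z ∈ Z | ∀ w ∈ Z, z ⤳ w → w = z}
  have hZ₀ : Z₀.Finite := hZ.subset fun z hz => hz.1
  have hmax : ∀ z ∈ Z, ∃ z₀ ∈ Z₀, z ⤳ z₀ := fun z hz => by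
    obtain ⟨z₀, hle, hmin⟩ := (hZ.subset (fun w (hw : w ∈ {w ∈ Z | z ⤳ w}) => hw.1)).exists_le_minimal
      (show z ∈ {w ∈ Z | z ⤳ w} from ⟨hz, specializes_rfl⟩)
    refine ⟨z₀, ⟨hmin.1.1, fun w hw hzw => ?_⟩, hmin.1.2⟩
    have hle' : z₀ ≤ w := hmin.2 ⟨hw, hmin.1.2.trans hzw⟩ hzw
    exact (hzw.antisymm (y := w) hle').eq.symm
  let W : X → X.Opens := fun z => ⟨(⋃ w ∈ Z₀ \ {z}, closure {w})ᶜ,
    ((hZ₀.diff).isClosed_biUnion fun w _ => isClosed_closure).isOpen_compl⟩
  have hW : ∀ z : Z₀, (z : X) ∈ W z := fun z hmem => by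
    obtain ⟨w, hw, hzw⟩ := Set.mem_iUnion₂.1 hmem
    exact hw.2 ((hw.1.2 z z.2.1 (specializes_iff_mem_closure.2 hzw)).symm)
  choose m hm s hs hsW hsa using fun z : Z₀ => exists_genLocus_le hA (hW z)
  haveI := hZ₀.fintype
  let D := ∏ z, m z
  have hD : 0 < D := Finset.prod_pos fun z _ => hm z
  have hpow : ∀ z, ∃ t : Coh.structureModule X ⟶ CohB1.tensorPow A D,
      CohB1.genLocus _ t = CohB1.genLocus _ (s z) := fun z => by
    obtain ⟨c, hc⟩ : m z ∣ D := Finset.dvd_prod_of_mem _ (Finset.mem_univ z)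
    obtain ⟨k, rfl⟩ : ∃ k, c = k + 1 := Nat.exists_eq_add_of_le'
      (Nat.pos_of_ne_zero fun h0 => by rw [h0, mul_zero] at hc; exact hD.ne' hc)
    obtain ⟨t, ht⟩ := exists_section_of_cl_eq (B := CohB1.tensorPow A D)
      (by rw [cl_tensorPow, cl_tensorPow, cl_tensorPow, ← pow_mul, hc]) (InvX.powHom (s z) (k + 1))
    exact ⟨t, ht.trans (InvX.genLocus_powHom (InvX.isInvertible_tensorPow hA.1 _) _ k)⟩
  choose t ht using hpow
  have hLfl := H23.PullPush.isFinLocFree_of_isInvertible hL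
  obtain ⟨n₀, hn₀⟩ := eventually_generated hA (QCoh.isQCoh_of_isFinLocFree hLfl)
    (QCoh.isFT_of_isFP (QCoh.isFP_of_isFinLocFree hLfl))
  refine ⟨n₀ + D, fun N hN => ?_⟩
  obtain ⟨G, iso, ι, g, hg⟩ := hn₀ (N - D) (by omega)
  have hG : PicF.IsInvertible G :=
    isInvertible_of_iso iso.symm (InvX.isInvertible_tensorMod hL (InvX.isInvertible_tensorPow hA.1 _))
  choose i U hzU hU using fun z : Z₀ => InvX.exists_frame_of_generated hG g z (hg z)
  have hgz : ∀ z : Z₀, (z : X) ∈ CohB1.genLocus G (InvX.ofSect (g (i z))) := fun z =>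
    InvX.le_genLocus _ (by rw [InvX.one_ofSect]; exact hU z) (hzU z)
  let P := CohB1.tensorMod G (CohB1.tensorPow A D)
  have hAD := InvX.isInvertible_tensorPow hA.1 D
  have hP : PicF.IsInvertible P := InvX.isInvertible_tensorMod hG hAD
  let τ : Z₀ → (Coh.structureModule X ⟶ P) := fun z => InvX.mulHom (InvX.ofSect (g (i z))) (t z)
  let σ := ∑ z, τ z
  have hmem : ∀ z : Z₀, (z : X) ∈ CohB1.genLocus _ σ := fun z => by
    obtain ⟨V, hzV, e, he⟩ := InvX.exists_frame hP z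
    choose c hc using fun w => he.exists_coord le_rfl
      (AModX.res _ (le_top : V ≤ ⊤) (InvX.one (τ w)))
    simp only [AModX.res_self] at hc
    have hsum : AModX.res _ (le_top : V ≤ ⊤) (InvX.one σ) = (∑ w, c w) • e := by
      rw [one_sum, map_sum, Finset.sum_smul]
      exact Finset.sum_congr rfl fun w _ => hc w
    rw [mem_genLocus_iff σ he hsum hzV, map_sum, ← Finset.add_sum_erase _ _ (Finset.mem_univ z)]
    have hu : IsUnit (X.presheaf.germ V z hzV (c z)) :=
      (mem_genLocus_iff (τ z) he (hc z) hzV).1 (by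
        rw [InvX.genLocus_mulHom hG hAD, ht]; exact ⟨hgz z, hs z⟩)
    have hnu : (∑ w ∈ Finset.univ.erase z, X.presheaf.germ V z hzV (c w)) ∈
        IsLocalRing.maximalIdeal (X.presheaf.stalk z) := Ideal.sum_mem _ fun w hw => by
      refine fun hu' => ?_
      have h1 := (mem_genLocus_iff (τ w) he (hc w) hzV).2 hu'
      rw [InvX.genLocus_mulHom hG hAD, ht] at h1
      refine (hsW w h1.2) (Set.mem_iUnion₂.2 ⟨z, ⟨z.2, fun he' => ?_⟩, subset_closure rfl⟩)
      exact (Finset.ne_of_mem_erase hw) (Subtype.ext he').symm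
    by_contra hc'
    exact hu.elim fun v hv => (IsLocalRing.maximalIdeal.isMaximal _).ne_top ((Ideal.eq_top_iff_one _).2 (by
      have h2 := Ideal.sub_mem _ (show _ ∈ IsLocalRing.maximalIdeal (X.presheaf.stalk z) from hc') hnu
      rw [add_sub_cancel_right] at h2
      have h3 := Ideal.mul_mem_left _ (↑v⁻¹ : X.presheaf.stalk z) h2
      rwa [← hv, Units.inv_mul] at h3))
  obtain ⟨r, hr⟩ := exists_section_of_cl_eq (B := CohB1.tensorMod L (CohB1.tensorPow A N))
    (by rw [cl_tensor, cl_eq_iff.2 ⟨iso⟩, cl_tensor, cl_tensor, cl_tensorPow, cl_tensorPow, cl_tensorPow,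
      mul_assoc, ← pow_add, Nat.sub_add_cancel (by omega : D ≤ N)]) σ
  refine ⟨r, hr ▸ fun z hz => ?_⟩
  obtain ⟨z₀, hz₀, hzz⟩ := hmax z hz
  exact hzz.mem_open (CohB1.genLocus P σ).2 (hmem ⟨z₀, hz₀⟩)

end Groth.Agent.H23.SectionFinset
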