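import Groth.Agent.H23.K0TensorInv
import Groth.Agent.H23.C1Cycle
import Groth.Agent.Snapper.Multi
import Groth.Agent.Snapper.DimVanish
import Groth.Agent.CurveCohLib.Skyscraper
import Groth.Agent.WeilLib.PointCount
import Groth.Agent.CycLib.CurveDeg
import Groth.Agent.Lib.Euler
import Groth.Prelude.Def_FGA
import Groth.Prelude.Def_ChowOps
import Groth.Prelude.Def_Bivar

/-!
Intersection numbers as degrees of iterated caps with first Chern classes.
-/

set_option autoImplicit false
set_option linter.unusedSectionVars false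
set_option linter.style.haveILetI false
set_option backward.isDefEq.respectTransparency false

universe u

open CategoryTheory CategoryTheory.Limits AlgebraicGeometry

namespace Groth.Agent.H23.IntNumCycle

open Groth.Agent K0TensorInv CycleClassK

theorem length_restrict {k A : Type u} [Field k] [CommRing A] [IsLocalRing A] [Algebra k A] {M : Type u}
    [AddCommGroup M] [Module A M] (h : IsFiniteLength A M) :
    ∀ [Module k M] [IsScalarTower k A M],
      Module.length k M = Module.length k (IsLocalRing.ResidueField A) * Module.length A M := by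
  induction h with
  | of_subsingleton => intros; simp
  | @of_simple_quotient M _ _ N _ _ ih =>
    intros
    obtain ⟨I, hI, ⟨e⟩⟩ := (isSimpleModule_iff_quot_maximal (R := A) (M := M ⧸ N)).1 inferInstance
    obtain rfl := IsLocalRing.eq_maximalIdeal hI
    have h1 : Module.length k M = Module.length k N + Module.length k (M ⧸ N) :=
      Module.length_eq_add_of_exact (N.subtype.restrictScalars k) (N.mkQ.restrictScalars k)
        N.injective_subtype N.mkQ_surjective (fun x => LinearMap.exact_subtype_mkQ N x)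
    have h2 : Module.length A M = Module.length A N + Module.length A (M ⧸ N) :=
      Module.length_eq_add_of_exact N.subtype N.mkQ N.injective_subtype N.mkQ_surjective
        (LinearMap.exact_subtype_mkQ N)
    have h3 : Module.length k (M ⧸ N) = Module.length k (IsLocalRing.ResidueField A) :=
      (e.restrictScalars k).length_eq
    have h4 : Module.length A (M ⧸ N) = 1 := Module.length_eq_one_iff.2 inferInstance
    rw [h1, h2, h3, h4, ih, mul_add, mul_one]

variable (k : Type u) [Field k] {X : Scheme.{u}} [X.Over (Spec (CommRingCat.of k))]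

local notation "T[" G ", " M "]" => CohB1.tensorMod G M

/-- The alternating sum of Euler characteristics of twists. -/
noncomputable def alt : ∀ (r : ℕ), (Fin r → X.Modules) → X.Modules → ℤ
  | 0, _, F => Curv2.euler k X F
  | r + 1, M, F => alt r (fun i => M i.succ) F - alt r (fun i => M i.succ) T[F, M 0]

variable [IsProper (X ↘ Spec (CommRingCat.of k))]

theorem alt_congr : ∀ (r : ℕ) (M : Fin r → X.Modules) {F G : X.Modules}, (F ≅ G) → alt k r M F = alt k r M G
  | 0, _, _, _, e => CurveCohLib.euler_congr (k := k) e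
  | r + 1, M, _, _, e => by
    rw [alt, alt, alt_congr r _ e, alt_congr r _ (PicGrp.tensorModIso e (Iso.refl _))]

theorem alt_add [IsLocallyNoetherian X] : ∀ (r : ℕ) (M : Fin r → X.Modules), (∀ i, PicF.IsInvertible (M i)) →
    ∀ {S : ShortComplex X.Modules}, S.ShortExact → Coh.IsCoh S.X₁ → Coh.IsCoh S.X₂ → Coh.IsCoh S.X₃ →
      alt k r M S.X₂ = alt k r M S.X₁ + alt k r M S.X₃
  | 0, _, _, _, hS, h₁, h₂, h₃ => Euler.euler_add k hS h₁ h₂ h₃
  | r + 1, M, hM, S, hS, h₁, h₂, h₃ => by
    have e1 := alt_add r (fun i => M i.succ) (fun i => hM _) hS h₁ h₂ h₃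
    have e2 := alt_add r (fun i => M i.succ) (fun i => hM _) (S := S.map (ten (M 0))) (shortExact_ten (hM 0) hS)
      (isCoh_ten (hM 0) h₁) (isCoh_ten (hM 0) h₂) (isCoh_ten (hM 0) h₃)
    simp only [alt]
    rw [e1, show alt k r (fun i => M i.succ) T[S.X₂, M 0] =
      alt k r (fun i => M i.succ) T[S.X₁, M 0] + alt k r (fun i => M i.succ) T[S.X₃, M 0] from e2]
    ring

theorem perm_iso {l l' : List X.Modules} (h : l.Perm l') :
    Nonempty (FGA.tensorList l ≅ FGA.tensorList l') := by
  induction h with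
  | nil => exact ⟨Iso.refl _⟩
  | cons M _ ih => exact ⟨PicGrp.tensorModIso (Iso.refl M) ih.some⟩
  | swap M N l =>
    exact ⟨(AmpleVan.assocT N M _).symm ≪≫ PicGrp.tensorModIso (CurveTensor.commIso N M) (Iso.refl _) ≪≫
      AmpleVan.assocT M N _⟩
  | trans _ _ ih ih' => exact ⟨ih.some ≪≫ ih'.some⟩

/-- The Euler characteristic of a twist by a set of the modules. -/
noncomputable def term {r : ℕ} (M : Fin r → X.Modules) (F : X.Modules) (I : Finset (Fin r)) : ℤ :=
  (-1 : ℤ) ^ I.card * Curv2.euler k X T[FGA.tensorList ((I.sort (· ≤ ·)).map M), F]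

theorem term_cons {r : ℕ} (M : Fin (r + 1) → X.Modules) (F : X.Modules) (I : Finset (Fin r)) :
    term k M F (I.map (Fin.succEmb r)) = term k (fun i => M i.succ) F I ∧
      term k M F (insert 0 (I.map (Fin.succEmb r))) = - term k (fun i => M i.succ) T[F, M 0] I := by
  classical
  have h0 : (0 : Fin (r + 1)) ∉ I.map (Fin.succEmb r) := by simp [Fin.succ_ne_zero]
  have hp1 : (((I.map (Fin.succEmb r)).sort (· ≤ ·)).map M).Perm
      ((I.sort (· ≤ ·)).map fun i => M i.succ) := by
    have h1 : ((I.map (Fin.succEmb r)).sort (· ≤ ·)).Perm ((I.sort (· ≤ ·)).map (Fin.succEmb r)) := by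
      refine (List.perm_ext_iff_of_nodup (Finset.sort_nodup _ _)
        ((Finset.sort_nodup _ _).map (Fin.succEmb r).injective)).2 fun a => ?_
      simp
    have h2 := h1.map M
    rwa [List.map_map] at h2
  have hp2 : ((((insert 0 (I.map (Fin.succEmb r))).sort (· ≤ ·))).map M).Perm
      (M 0 :: ((I.map (Fin.succEmb r)).sort (· ≤ ·)).map M) := by
    have h1 : ((insert 0 (I.map (Fin.succEmb r))).sort (· ≤ ·)).Perm
        (0 :: (I.map (Fin.succEmb r)).sort (· ≤ ·)) := by
      refine (List.perm_ext_iff_of_nodup (Finset.sort_nodup _ _)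
        (List.nodup_cons.2 ⟨fun h => h0 ((Finset.mem_sort _).1 h), Finset.sort_nodup _ _⟩)).2 fun a => ?_
      simp
    exact h1.map M
  obtain ⟨e1⟩ := perm_iso hp1
  obtain ⟨e2⟩ := perm_iso hp2
  refine ⟨?_, ?_⟩
  · rw [term, term, Finset.card_map, CurveCohLib.euler_congr (k := k) (PicGrp.tensorModIso e1 (Iso.refl F))]
  · rw [term, term, Finset.card_insert_of_notMem h0, Finset.card_map, pow_succ]
    have e : T[FGA.tensorList ((((insert 0 (I.map (Fin.succEmb r))).sort (· ≤ ·))).map M), F] ≅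
        T[FGA.tensorList ((I.sort (· ≤ ·)).map fun i => M i.succ), T[F, M 0]] :=
      PicGrp.tensorModIso (e2 ≪≫ PicGrp.tensorModIso (Iso.refl (M 0)) e1 ≪≫ CurveTensor.commIso _ _) (Iso.refl F) ≪≫
        AmpleVan.assocT _ _ _ ≪≫ PicGrp.tensorModIso (Iso.refl _) (CurveTensor.commIso _ _)
    rw [CurveCohLib.euler_congr (k := k) e]
    ring

theorem sum_term : ∀ (r : ℕ) (M : Fin r → X.Modules) (F : X.Modules),
    ∑ I : Finset (Fin r), term k M F I = alt k r M F
  | 0, M, F => by
    rw [Fintype.sum_unique, alt, term, show (default : Finset (Fin 0)) = ∅ from Subsingleton.elim _ _]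
    simp only [Finset.card_empty, pow_zero, one_mul, Finset.sort_empty, List.map_nil]
    exact CurveCohLib.euler_congr (k := k) (CurveTensor.structureTensorIso F)
  | r + 1, M, F => by
    classical
    rw [alt, ← sum_term r, ← sum_term r, ← Finset.powerset_univ, Fin.univ_succ, Finset.cons_eq_insert,
      Finset.sum_powerset_insert (by simp [Fin.succ_ne_zero]), sub_eq_add_neg,
      ← Finset.sum_neg_distrib]
    have hmap : (Finset.map ⟨Fin.succ, Fin.succ_injective r⟩ Finset.univ : Finset (Fin (r + 1))).powerset =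
        (Finset.univ : Finset (Finset (Fin r))).map (Finset.mapEmbedding (Fin.succEmb r)).toEmbedding := by
      ext J
      simp only [Finset.mem_powerset, Finset.mem_map, Finset.mem_univ, true_and]
      constructor
      · intro hJ
        obtain ⟨u, -, hu⟩ := Finset.subset_map_iff.1 hJ
        exact ⟨u, hu.symm⟩
      · rintro ⟨u, rfl⟩
        exact Finset.map_subset_map.2 (Finset.subset_univ u)
    rw [hmap, Finset.sum_map, Finset.sum_map]
    exact congrArg₂ (· + ·) (Finset.sum_congr rfl fun I _ => (term_cons k M F I).1)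
      (Finset.sum_congr rfl fun I _ => (term_cons k M F I).2)

variable {δ : X → ℤ}

/-- The degree as a homomorphism. -/
noncomputable def degHom (δ : X → ℤ) : AlgebraicCycle X ℤ →+ ℤ :=
  AddMonoidHom.mk' (fun α => ChowOps.deg (X ↘ Spec (CommRingCat.of k)) δ α) fun a b => by
    show AlgebraicCycle.map (X ↘ Spec (CommRingCat.of k)) δ (fun _ => (0 : ℤ)) (a + b) (IsLocalRing.closedPoint k) = _
    rw [Bivar.cycMap_add]
    rfl

theorem degHom_apply (α : AlgebraicCycle X ℤ) :
    degHom k δ α = ∑ᶠ x, α x * (if δ x = 0 then ((X ↘ Spec (CommRingCat.of k)).residueDegree x : ℤ) else 0) := by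
  show (∑ᶠ x ∈ ⇑(X ↘ Spec (CommRingCat.of k)) ⁻¹' {IsLocalRing.closedPoint k},
    α x * (AlgebraicCycle.mapCoeff (X ↘ Spec (CommRingCat.of k)) δ (fun _ => (0 : ℤ)) x : ℤ)) = _
  rw [CycLib.preimage_pt, finsum_mem_univ]
  refine finsum_congr fun x => ?_
  rw [CycLib.mapCoeff_point]
  split_ifs <;> simp

variable (hX : Cyc.IsSetup X δ) (hδ : Cyc.DeltaCompat (X ↘ Spec (CommRingCat.of k)) δ (fun _ => 0))
include hX hδ

theorem delta_nonneg (x : X) : 0 ≤ δ x := by
  obtain ⟨n, -, hn⟩ := hδ x
  rw [hn]; simp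

theorem euler_eq_deg {F : X.Modules} (hF : Cyc.CohLe δ 0 F) (α : AlgebraicCycle X ℤ)
    (hα : ⇑α = Cyc.sheafFun δ 0 F) : Curv2.euler k X F = degHom k δ α := by
  classical
  haveI := CurveCohLib.isNoetherian_of_proper (k := k) (X := X)
  have hd := hX.2.2
  have h0 : ∀ x ∈ CohB1.support F, δ x = 0 := fun x hx =>
    le_antisymm (hF.2 x (not_subsingleton_iff_nontrivial.1 hx)) (delta_nonneg k hX hδ x)
  have hcl : ∀ x, δ x = 0 → IsClosed ({x} : Set X) := fun x hx => by
    refine closure_subset_iff_isClosed.1 fun y hy => ?_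
    exact (CycLib.eq_of_delta_le hd (specializes_iff_mem_closure.2 hy) (hx ▸ delta_nonneg k hX hδ y)).symm
  have hlen : ∀ x, δ x = 0 → Module.length (X.presheaf.stalk x) (F.presheaf.stalk x) < ⊤ := fun x hx =>
    length_lt_top hd hF hx
  have hsupp : ∀ x, x ∈ CohB1.support F → α x ≠ 0 := fun x hx => by
    haveI : Nontrivial (F.presheaf.stalk x) := not_subsingleton_iff_nontrivial.1 hx
    rw [hα, Cyc.sheafFun, if_pos (h0 x hx)]
    refine Nat.cast_ne_zero.2 fun h => ?_
    rcases ENat.toNat_eq_zero.1 h with h | h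
    · exact (Module.length_pos (R := X.presheaf.stalk x) (M := F.presheaf.stalk x)).ne' h
    · exact (hlen x (h0 x hx)).ne h
  have hfin : (Function.support ⇑α).Finite := by
    choose U hxU hU using lfPts_cycle α
    obtain ⟨t, ht⟩ := isCompact_univ.elim_finite_subcover (fun x => (U x : Set X)) (fun x => (U x).2)
      fun x _ => Set.mem_iUnion.2 ⟨x, hxU x⟩
    refine (t.finite_toSet.biUnion fun x _ => hU x).subset fun x hx => ?_
    obtain ⟨i, hi, hxi⟩ := Set.mem_iUnion₂.1 (ht (Set.mem_univ x))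
    exact Set.mem_iUnion₂.2 ⟨i, hi, hx, hxi⟩
  letI := fun x : X => CurveCohLib.stalkModuleK k F x
  obtain ⟨he, hfinite⟩ := CurveCohLib.euler_eq_sum_stalks (k := k) hF.1 (fun x hx => hcl x (h0 x hx))
    hfin.toFinset (fun x hx => hfin.mem_toFinset.2 (hsupp x hx))
  rw [he, degHom_apply, finsum_eq_sum_of_support_subset _ (s := hfin.toFinset) (fun x hx => by
    rw [Set.Finite.coe_toFinset]; exact left_ne_zero_of_mul hx)]
  refine Finset.sum_congr rfl fun x hx => ?_
  have hx0 : δ x = 0 := by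
    by_contra h
    have := hfin.mem_toFinset.1 hx
    rw [Function.mem_support, hα, Cyc.sheafFun, if_neg h] at this
    exact this rfl
  rw [hα, Cyc.sheafFun, if_pos hx0, if_pos hx0]
  letI : Algebra k (X.presheaf.stalk x) := (Curv2.stalkMap k X x).toAlgebra
  haveI : IsScalarTower k (X.presheaf.stalk x) (F.presheaf.stalk x) :=
    IsScalarTower.of_algebraMap_smul fun c m => rfl
  haveI := hfinite x hx
  have hl := length_restrict (k := k) (Module.length_ne_top_iff.1 (hlen x hx0).ne)
  have hres : (Module.finrank k (IsLocalRing.ResidueField (X.presheaf.stalk x)) : ℕ) =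
      (X ↘ Spec (CommRingCat.of k)).residueDegree x :=
    (WeilLib.residueDegree_eq_finrank (X ↘ Spec (CommRingCat.of k)) x).symm
  rw [FiniteFibreSum.length_eq_finrank k (F.presheaf.stalk x)] at hl
  obtain ⟨n, hn⟩ := ENat.ne_top_iff_exists.1 (hlen x hx0).ne
  rw [← hn] at hl ⊢
  rcases Nat.eq_zero_or_pos n with rfl | hpos
  · simp only [Nat.cast_zero, mul_zero, Nat.cast_eq_zero] at hl
    simp [hl]
  · have hfk : Module.length k (IsLocalRing.ResidueField (X.presheaf.stalk x)) ≠ ⊤ := fun ht => by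
      rw [ht, ENat.top_mul (by exact_mod_cast hpos.ne')] at hl
      exact ENat.coe_ne_top _ hl
    haveI : IsNoetherian k (IsLocalRing.ResidueField (X.presheaf.stalk x)) :=
      (isFiniteLength_iff_isNoetherian_isArtinian.1 (Module.length_ne_top_iff.1 hfk)).1
    rw [FiniteFibreSum.length_eq_finrank k (IsLocalRing.ResidueField (X.presheaf.stalk x)), hres] at hl
    rw [ENat.toNat_coe, mul_comm]
    exact_mod_cast hl

theorem main : ∀ (r : ℕ) (M L : Fin r → X.Modules), (∀ i, PicF.IsInvertible (M i)) →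
    (hL : ∀ i, PicF.IsInvertible (L i)) → (∀ i, Nonempty (T[M i, L i] ≅ Coh.structureModule X)) →
    ∀ (s : (i : Fin r) → (ξ : X) → Cyc.secFibre (L i) ξ), (∀ i ξ, s i ξ ≠ 0) →
    ∀ (F : X.Modules), Cyc.CohLe δ r F → ∀ γ : ℕ → AlgebraicCycle X ℤ, ⇑(γ 0) = Cyc.sheafFun δ r F →
      (∀ (i : ℕ) (h : i < r), ⇑(γ (i + 1)) = Cyc.c1CapFun δ (L ⟨i, h⟩) ⇑(γ i) (s ⟨i, h⟩)) →
      alt k r M F = degHom k δ (γ r) := by
  classical
  haveI := hX.1
  have hd := hX.2.2
  intro r
  induction r with
  | zero =>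
    intro M L _ _ _ s _ F hF γ hγ0 _
    exact euler_eq_deg k hX hδ (by simpa using hF) (γ 0) (by simpa using hγ0)
  | succ r IH =>
    intro M L hM hL hML s hs F hF γ hγ0 hγs
    let M' := fun i : Fin r => M i.succ
    let L' := fun i : Fin r => L i.succ
    let s' := fun i : Fin r => s i.succ
    let cap : ∀ i : ℕ, AlgebraicCycle X ℤ → AlgebraicCycle X ℤ := fun i a =>
      if h : i < r then RatSec.c1CapCycle (hL (Fin.succ ⟨i, h⟩)) hd a (s' ⟨i, h⟩) (hs _) else 0
    let seq : AlgebraicCycle X ℤ → ℕ → AlgebraicCycle X ℤ := fun a n => Nat.rec a (fun i b => cap i b) n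
    have hseq : ∀ a (i : ℕ) (h : i < r), ⇑(seq a (i + 1)) = Cyc.c1CapFun δ (L' ⟨i, h⟩) ⇑(seq a i) (s' ⟨i, h⟩) := by
      intro a i h
      show ⇑(cap i (seq a i)) = _
      simp only [cap, dif_pos h]
      rfl
    have hIH : ∀ G, Cyc.CohLe δ r G → ∀ a : AlgebraicCycle X ℤ, ⇑a = Cyc.sheafFun δ r G →
        alt k r M' G = degHom k δ (seq a r) := fun G hG a ha =>
      IH M' L' (fun i => hM _) (fun i => hL _) (fun i => hML _) s' (fun i => hs _) G hG (seq a) ha (hseq a)
    have hseq_add : ∀ (n : ℕ) (a b : AlgebraicCycle X ℤ), n ≤ r → seq (a + b) n = seq a n + seq b n := by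
      intro n
      induction n with
      | zero => intro a b _; rfl
      | succ n ihn =>
        intro a b hn
        refine DFunLike.coe_injective ?_
        rw [Function.locallyFinsuppWithin.coe_add, hseq _ n hn, hseq _ n hn, hseq _ n hn, ihn a b (Nat.le_of_succ_le hn),
          Function.locallyFinsuppWithin.coe_add, Bivar.c1CapFun_add]
    have hzero : ∀ G, Cyc.CohLe δ ((r : ℤ) - 1) G → alt k r M' G = 0 := by
      intro G hG
      have hf : Cyc.sheafFun δ r G = 0 := funext fun x => by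
        rw [Cyc.sheafFun]
        split_ifs with h
        · haveI : Subsingleton (G.presheaf.stalk x) := by
            by_contra hn
            have := hG.2 x (not_subsingleton_iff_nontrivial.1 hn)
            omega
          simp
        · rfl
      rw [hIH G (cohLe_mono (by omega) hG) 0 (by rw [hf]; rfl)]
      have hz := hseq_add r 0 0 le_rfl
      rw [add_zero] at hz
      rw [left_eq_add.1 hz, map_zero]
    obtain ⟨Af, hAf⟩ := KZ.exists_liftSub (Cyc.CohLe δ ((r : ℤ) + 1)) (alt k r M') fun S hS a b c =>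
      alt_add k r M' (fun i => hM _) hS a.1 b.1 c.1
    let Aq : Cyc.K0CohQuot δ ((r : ℤ) + 1) ((r : ℤ) - 1) →+ ℤ :=
      QuotientAddGroup.lift _ Af ((AddSubgroup.closure_le _).2 (by
        rintro _ ⟨G, hG, rfl⟩
        show Af _ = 0
        rw [hAf G (cohLe_mono (by omega) hG), hzero G hG]))
    have hAq : ∀ G, Cyc.CohLe δ ((r : ℤ) + 1) G →
        Aq (Cyc.toK0CohQuot δ ((r : ℤ) + 1) ((r : ℤ) - 1) G) = alt k r M' G := hAf
    let G := T[F, M 0]
    have hr1 : ((r + 1 : ℕ) : ℤ) = (r : ℤ) + 1 := by push_cast; ring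
    rw [hr1] at hF hγ0
    have hG : Cyc.CohLe δ ((r : ℤ) + 1) G := cohLe_ten (hM 0) hF
    obtain ⟨e⟩ := hML 0
    have eG : (ten (L 0)).obj G ≅ F :=
      (AmpleVan.assocT F (M 0) (L 0)) ≪≫ PicGrp.tensorModIso (Iso.refl F) e ≪≫
        (CurveTensor.commIso F (Coh.structureModule X) : T[F, Coh.structureModule X] ≅ T[Coh.structureModule X, F]) ≪≫
        CurveTensor.structureTensorIso F
    have hγ1 : ⇑(γ 1) = Cyc.c1CapFun δ (L 0) (Cyc.sheafFun δ ((r : ℤ) + 1) G) (s 0) := by
      rw [show Cyc.sheafFun δ ((r : ℤ) + 1) G = Cyc.sheafFun δ ((r : ℤ) + 1) F from sheafFun_ten (hM 0) δ _ F,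
        ← hγ0]
      exact hγs 0 r.succ_pos
    have hγk : γ 1 ∈ Cyc.Zk X δ r := fun x hx => by
      rw [hγ1]
      refine GysinLib.c1CapFun_degree (k := (r : ℤ) + 1) _ (fun ξ hξ => ?_) _ (by omega)
      simp [Cyc.sheafFun, hξ]
    have hkey := congrArg Aq (tK_tensor_sub hd (hL 0) hG (s 0) (hs 0) (γ 1) hγk hγ1)
    obtain ⟨hP, hN⟩ := cohLe_cyclePosNeg hd (γ 1) hγk
    rw [map_sub, map_sub, hAq _ (cohLe_ten (hL 0) hG), hAq _ hG, hAq _ (cohLe_mono (by omega) hP),
      hAq _ (cohLe_mono (by omega) hN), alt_congr k r M' eG] at hkey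
    obtain ⟨αP, hαP⟩ : ∃ a : AlgebraicCycle X ℤ, ⇑a = Cyc.sheafFun δ r (Cyc.cycleSheafPos ⇑(γ 1)) :=
      exists_cycle hd hP
    obtain ⟨αN, hαN⟩ : ∃ a : AlgebraicCycle X ℤ, ⇑a = Cyc.sheafFun δ r (Cyc.cycleSheafNeg ⇑(γ 1)) :=
      exists_cycle hd hN
    have hsum : αP = γ 1 + αN := DFunLike.coe_injective (by
      rw [Function.locallyFinsuppWithin.coe_add, hαP, hαN, ← sub_eq_iff_eq_add,
        sheafFun_pos_sub_neg hd ⇑(γ 1) fun x hx => by_contra fun hne => hx (hγk x hne)])
    have hshift : ∀ n, n ≤ r → seq (γ 1) n = γ (n + 1) := by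
      intro n
      induction n with
      | zero => intro _; rfl
      | succ n ihn =>
        intro hn
        refine DFunLike.coe_injective ?_
        rw [hseq _ n hn, ihn (Nat.le_of_succ_le hn), hγs (n + 1) (Nat.succ_lt_succ hn)]
        rfl
    rw [hIH _ hP αP hαP, hIH _ hN αN hαN, hsum, hseq_add r _ _ le_rfl, map_add, add_sub_cancel_right,
      hshift r le_rfl] at hkey
    show alt k r M' F - alt k r M' G = _
    exact hkey

where
  exists_cycle (hd : Cyc.IsDimFun X δ) {k : ℤ} {G : X.Modules} [IsLocallyNoetherian X] (hG : Cyc.CohLe δ k G) :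
      ∃ a : AlgebraicCycle X ℤ, ⇑a = Cyc.sheafFun δ k G := by
    exact ⟨⟨_, fun _ _ => Set.mem_univ _, fun z _ => P1Fam.locFin_sheafFun hd hG.1 hG.2 z⟩, rfl⟩

end Groth.Agent.H23.IntNumCycle

namespace Groth.Agent.H23.IntNumCycle

open Groth.Agent CycleClassK

variable (k : Type u) [Field k] {X : Scheme.{u}} [X.Over (Spec (CommRingCat.of k))]
  [IsProper (X ↘ Spec (CommRingCat.of k))] {δ : X → ℤ}

theorem support_twist_subset {A F : X.Modules} : CohB1.support (CohB1.tensorMod A F) ⊆ CohB1.support F :=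
  CurveTensor.support_tensor_subset

/-- Intersection numbers are degrees of iterated caps. -/
theorem intNum_eq (hX : Cyc.IsSetup X δ) (hδ : Cyc.DeltaCompat (X ↘ Spec (CommRingCat.of k)) δ (fun _ => 0))
    {Z : Scheme.{u}} (ι : Z ⟶ X) [IsClosedImmersion ι] {d : ℕ} (hd : topologicalKrullDim Z = d)
    (L M : Fin d → X.Modules) (hL : ∀ i, PicF.IsInvertible (L i)) (hMi : ∀ i, PicF.IsInvertible (M i))
    (hM : ∀ i, Nonempty (CohB1.tensorMod (M i) (L i) ≅ Coh.structureModule X))
    (s : (i : Fin d) → (ξ : X) → Cyc.secFibre (L i) ξ) (hs : ∀ i ξ, s i ξ ≠ 0) (γ : ℕ → X → ℤ)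
    (hγ0 : γ 0 = Cyc.sheafFun δ d ((Coh.push ι).obj (Coh.structureModule Z)))
    (hγs : ∀ (i : ℕ) (h : i < d), γ (i + 1) = Cyc.c1CapFun δ (L ⟨i, h⟩) (γ i) (s ⟨i, h⟩))
    (α : AlgebraicCycle X ℤ) (hα : ⇑α = γ d) :
    FGA.intNum k X d M ((Coh.push ι).obj (Coh.structureModule Z)) =
      ChowOps.deg (X ↘ Spec (CommRingCat.of k)) δ α := by
  haveI := CurveCohLib.isNoetherian_of_proper (k := k) (X := X)
  haveI : X.IsSeparated := ⟨by
    rw [← Limits.terminal.comp_from (X ↘ Spec (CommRingCat.of k))]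
    infer_instance⟩
  haveI : IsLocallyNoetherian Z := LocallyOfFiniteType.isLocallyNoetherian ι
  have hdim := hX.2.2
  let F := (Coh.push ι).obj (Coh.structureModule Z)
  have hFc : Coh.IsCoh F := QCoh.isCoh_pushforward_finite ι QCoh.isCoh_structureModule'
  have hsup : CohB1.support F ⊆ Set.range ι := QCoh.support_push_subset ι QCoh.isCoh_structureModule'.1
  have hrange : topologicalKrullDim ↥(Set.range ι) = (d : WithBot ℕ∞) := by
    rw [← (ι.isClosedEmbedding.isEmbedding.toHomeomorph).isHomeomorph.topologicalKrullDim_eq, hd]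
  have hle : ∀ x ∈ Set.range ι, δ x ≤ d := by
    intro x hx
    have h1 : topologicalKrullDim ↥(closure ({x} : Set X)) ≤ (d : WithBot ℕ∞) := hrange ▸
      TopDim.dim_le_dim_of_subset ((ι.isClosedEmbedding.isClosed_range).closure_subset_iff.2
        (Set.singleton_subset_iff.2 hx))
    haveI := FibDim.subsingleton_spec_field k
    rw [FibDim.topologicalKrullDim_closure (X ↘ Spec (CommRingCat.of k))] at h1
    rw [CycLib.deltaCompat_eq (X ↘ Spec (CommRingCat.of k)) hδ x, zero_add]
    exact_mod_cast h1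
  have hF : Cyc.CohLe δ d F := ⟨hFc, fun x hx => hle x (hsup (not_subsingleton_iff_nontrivial.2 hx))⟩
  have hterm : ∀ I : Finset (Fin d), (-1 : ℤ) ^ I.card *
      FGA.eulerCharLE k X (CohB1.tensorMod (FGA.tensorList ((I.sort (· ≤ ·)).map M)) F) d = term k M F I := by
    intro I
    rw [term]
    congr 1
    have hlist : ∀ l : List X.Modules, (∀ A ∈ l, PicF.IsInvertible A) → Coh.IsCoh (FGA.tensorList l) := by
      intro l
      induction l with
      | nil => exact fun _ => QCoh.isCoh_structureModule'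
      | cons A l ih =>
        exact fun h => AmpleVan.isCoh_tensor (AmpleVan.isCoh_invertible (h A (List.mem_cons_self ..)))
          (ih fun B hB => h B (List.mem_cons_of_mem _ hB))
    have hc : Coh.IsCoh (CohB1.tensorMod (FGA.tensorList ((I.sort (· ≤ ·)).map M)) F) :=
      AmpleVan.isCoh_tensor (hlist _ fun A hA => by
        obtain ⟨i, -, rfl⟩ := List.mem_map.1 hA
        exact hMi i) hFc
    refine (Euler.euler_eq_sum k _ (d + 1) fun i hi => ?_).symm
    refine Snapper.subsingleton_HH_of_dim_lt (d + 1) ⟨Set.range ι, ι.isClosedEmbedding.isClosed_range⟩ ?_ _ hc.1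
      (support_twist_subset.trans hsup) i hi
    show topologicalKrullDim ↥(Set.range ι) < _
    rw [hrange]
    exact_mod_cast Nat.lt_succ_self d
  have h1 : FGA.intNum k X d M F = alt k d M F := by
    rw [FGA.intNum, Finset.sum_congr rfl fun I _ => hterm I, sum_term]
  haveI := hX.1
  obtain ⟨a0, ha0⟩ : ∃ a : AlgebraicCycle X ℤ, ⇑a = Cyc.sheafFun δ d F := main.exists_cycle hdim hF
  let cap : ∀ i : ℕ, AlgebraicCycle X ℤ → AlgebraicCycle X ℤ := fun i a =>
    if h : i < d then RatSec.c1CapCycle (hL ⟨i, h⟩) hdim a (s ⟨i, h⟩) (hs _) else 0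
  let seq : ℕ → AlgebraicCycle X ℤ := fun n => Nat.rec a0 (fun i b => cap i b) n
  have hseq : ∀ n, n ≤ d → ⇑(seq n) = γ n := by
    intro n
    induction n with
    | zero => intro _; exact ha0.trans hγ0.symm
    | succ n ih =>
      intro hn
      show ⇑(cap n (seq n)) = _
      simp only [cap, dif_pos (show n < d from hn), RatSec.coe_c1CapCycle]
      rw [ih (Nat.le_of_succ_le hn), hγs n hn]
  have h2 := main k hX hδ d M L hMi hL hM s hs F hF seq ha0 fun i h => by
    rw [hseq (i + 1) h, hseq i h.le, hγs i h]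
  rw [h1, h2, DFunLike.coe_injective ((hseq d le_rfl).trans hα.symm)]
  rfl

end Groth.Agent.H23.IntNumCycle
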