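import Groth.Agent.H23.HomotopyFibre

/-! Cycles below the top dimension on an affine space. -/

set_option autoImplicit false

universe u

open AlgebraicGeometry CategoryTheory

namespace Groth.Agent.H23.AffineVanish

open Groth.Agent RatOn Homotopy

theorem ratEquivZero {K : Type u} [Field K] (r : ℕ) {P : Scheme.{u}} (c : P ⟶ Spec (CommRingCat.of K))
    [LocallyOfFiniteType c] (e : 𝔸(ULift.{u} (Fin r); Spec (CommRingCat.of K)) ≅ P)
    (he : e.hom ≫ c = 𝔸(ULift.{u} (Fin r); Spec (CommRingCat.of K)) ↘ Spec (CommRingCat.of K))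
    {δ : P → ℤ} (hδ : Cyc.DeltaCompat c δ (fun _ => 0)) {k : ℤ} (hk : k ≠ r)
    (α : AlgebraicCycle P ℤ) (hα : α ∈ Cyc.Zk P δ k) : Cyc.RatEquivZero δ k α := by
  classical
  let W := 𝔸(ULift.{u} (Fin r); Spec (CommRingCat.of K))
  let cW := W ↘ Spec (CommRingCat.of K)
  haveI : IsLocallyNoetherian W := LocallyOfFiniteType.isLocallyNoetherian cW
  haveI : IsLocallyNoetherian P := LocallyOfFiniteType.isLocallyNoetherian c
  have hrd : ∀ w, δ (e.hom w) = (FibDim.rd cW w : ℤ) := fun w => by
    rw [CycLib.deltaCompat_eq c hδ, zero_add, ← rd_iso_comp e c w, he]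
  have hW := CycLib.isDimFun_of_deltaCompat cW (CycLib.isSetup_spec_field K) (CycLib.deltaCompat_rd cW)
  have hP := CycLib.isDimFun_of_deltaCompat c (CycLib.isSetup_spec_field K) hδ
  have hG : ∀ w, α (e.hom w) ≠ 0 → (FibDim.rd cW w : ℤ) = k ∧ FibDim.rd cW w < r := fun w hw => by
    have h1 := (hrd w).symm.trans (not_not.1 (mt (hα _) hw))
    refine ⟨h1, lt_of_le_of_ne (FibDim.rd_affineSpace_le r w) fun h => hk ?_⟩
    rw [← h1, h]
  haveI : CompactSpace W := QuasiCompact.compactSpace_of_compactSpace cW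
  have hfin : {w : W | α (e.hom w) ≠ 0}.Finite := by
    haveI : CompactSpace P := e.hom.homeomorph.compactSpace
    have := α.locallyFiniteSupport.finite_inter_support_of_isCompact isCompact_univ
    rw [Set.univ_inter] at this
    exact this.preimage e.hom.isEmbedding.injective.injOn
  have h : ZeroOn (fun w => (FibDim.rd cW w : ℤ)) k Set.univ fun w => α (e.hom w) := by
    refine RatOn.congr (RatOn.sum hW (I := {w : W // α (e.hom w) ≠ 0}) (fun a => α (e.hom a.1))
      (fun a => single a.1) (fun _ => Set.univ) (fun _ => le_rfl)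
      (fun a => (hG a.1 a.2).1 ▸ vanish r K a.1 (hG a.1 a.2).2)
      fun x => ⟨Set.univ, isOpen_univ, trivial, ?_⟩) fun w => ?_
    · haveI : Finite {w : W // α (e.hom w) ≠ 0} := hfin.to_subtype
      exact Set.toFinite _
    · by_cases hw : α (e.hom w) = 0
      · rw [hw, finsum_eq_zero_of_forall_eq_zero fun a => ?_]
        simp only [single]
        rw [if_neg fun h => a.2 (by rw [← h]; exact hw), mul_zero]
      · rw [finsum_eq_single _ ⟨w, hw⟩ fun a ha => ?_]
        · simp [single]
        · simp only [single]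
          rw [if_neg fun h => ha (Subtype.ext h.symm), mul_zero]
  refine RatOn.ratEquivZero (RatOn.push e.hom (δ := δ) (T := Set.univ) (G' := ⇑α) ?_ (fun w => rfl)
    fun x hx => absurd (e.hom.homeomorph.surjective x) hx)
  simp only [hrd]
  exact h

end Groth.Agent.H23.AffineVanish
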