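import Groth.Agent.H23.KoszulTor
import Groth.Agent.H23.ChiAdd
import Groth.Agent.H9Misc.DRingTorLTensor
import Groth.Agent.GrLib8.KChiArith

/-!
# Associativity of Euler characteristics of derived tensor products

For a bounded above flat complex `P` resolving `M` and a complex `E` with bounded homology, the Euler
characteristic of `P ⊗ E` is the alternating sum of the `chi (M, H^q E)`.  Applied to `E = Q ⊗ N` on both
sides it gives the associativity of the Tor formula.
-/

set_option autoImplicit false
set_option linter.style.haveILetI false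

universe u

open CategoryTheory CategoryTheory.Limits MonoidalCategory

namespace Groth.Agent.H23.AssocAlg

open Groth.Agent Groth.Agent.KFlatLib Groth.Agent.GrLib8.KChi

variable {A : Type u} [CommRing A]

/-- The total tensor product. -/
noncomputable abbrev Ten (P E : DRing.Cx A) : DRing.Cx A :=
  ((curriedTensor (ModuleCat.{u} A)).map₂CochainComplex.obj P).obj E

/-- A module in degree `c`. -/
noncomputable abbrev sg (c : ℤ) (N : ModuleCat.{u} A) : DRing.Cx A :=
  (HomologicalComplex.single (ModuleCat.{u} A) (ComplexShape.up ℤ) c).obj N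

/-- The Euler characteristic by lengths. -/
noncomputable def euler (C : DRing.Cx A) : ℤ := ∑ᶠ i : ℤ, sgn i * len A (C.homology i)

/-- Cohomology of finite length in a bounded range. -/
def Small (C : DRing.Cx A) : Prop :=
  (∀ i, IsFiniteLength A (C.homology i)) ∧
    ∃ lo hi : ℤ, ∀ i, (i < lo ∨ hi < i) → Subsingleton (C.homology i)

theorem Small.finite_support {C : DRing.Cx A} (h : Small C) :
    (Function.support fun i : ℤ => sgn i * len A (C.homology i)).Finite := by
  obtain ⟨lo, hi, hlh⟩ := h.2
  refine GrLib8.KChi.finite_support _ lo hi fun i hi' => ?_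
  haveI := hlh i hi'
  rw [len_of_subsingleton, mul_zero]

theorem euler_congr {C C' : DRing.Cx A} (e : ∀ i, Nonempty ((C.homology i : Type u) ≃ₗ[A] C'.homology i)) :
    euler C = euler C' :=
  finsum_congr fun i => congrArg (sgn i * ·) (len_congr (e i).some)

theorem Small.congr {C C' : DRing.Cx A} (h : Small C)
    (e : ∀ i, Nonempty ((C.homology i : Type u) ≃ₗ[A] C'.homology i)) : Small C' :=
  ⟨fun i => fl_of_surjective (e i).some.toLinearMap (e i).some.surjective (h.1 i), by
    obtain ⟨lo, hi, hlh⟩ := h.2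
    exact ⟨lo, hi, fun i hi' => haveI := hlh i hi'; (e i).some.symm.injective.subsingleton⟩⟩

theorem homology_equiv_of_quasiIso {C C' : DRing.Cx A} (f : C ⟶ C') [QuasiIso f] (i : ℤ) :
    Nonempty ((C.homology i : Type u) ≃ₗ[A] C'.homology i) :=
  ⟨(isoOfQuasiIsoAt f i).toLinearEquiv⟩

theorem homology_equiv_of_iso {C C' : DRing.Cx A} (e : C ≅ C') (i : ℤ) :
    Nonempty ((C.homology i : Type u) ≃ₗ[A] C'.homology i) :=
  ⟨(HomologicalComplex.homologyMapIso e i).toLinearEquiv⟩

/-- Additivity along short exact sequences of complexes. -/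
theorem euler_ses {S : ShortComplex (DRing.Cx A)} (hS : S.ShortExact) (h1 : Small S.X₁) (h3 : Small S.X₃) :
    Small S.X₂ ∧ euler S.X₂ = euler S.X₁ + euler S.X₃ := by
  let f := fun i => (HomologicalComplex.homologyMap S.f i).hom
  let g := fun i => (HomologicalComplex.homologyMap S.g i).hom
  let d := fun i => (hS.δ i (i + 1) rfl).hom
  have e2 : ∀ i, Function.Exact (f i) (g i) := fun i =>
    (ShortComplex.ShortExact.moduleCat_exact_iff_function_exact _).1 (hS.homology_exact₂ i)
  have e3 : ∀ i, Function.Exact (g i) (d i) := fun i =>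
    (ShortComplex.ShortExact.moduleCat_exact_iff_function_exact _).1 (hS.homology_exact₃ i (i + 1) rfl)
  have e1 : ∀ i, Function.Exact (d i) (f (i + 1)) := fun i =>
    (ShortComplex.ShortExact.moduleCat_exact_iff_function_exact _).1 (hS.homology_exact₁ i (i + 1) rfl)
  have hfl2 : ∀ i, IsFiniteLength A (S.X₂.homology i) := fun i => by
    have a := fl_of_surjective (f i).rangeRestrict (f i).surjective_rangeRestrict (h1.1 i)
    have b := fl_of_injective (LinearMap.range (g i)).subtype Subtype.val_injective (h3.1 i)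
    refine Module.length_ne_top_iff.1 ?_
    rw [Module.length_eq_add_of_exact (LinearMap.range (f i)).subtype (g i).rangeRestrict Subtype.val_injective
      (g i).surjective_rangeRestrict fun z => ⟨fun hz => ⟨⟨z, (e2 i z).1 (congrArg Subtype.val hz)⟩, rfl⟩,
        fun ⟨w, hw⟩ => Subtype.ext ((e2 i z).2 (hw ▸ w.2))⟩]
    exact WithTop.add_ne_top.2 ⟨Module.length_ne_top_iff.2 a, Module.length_ne_top_iff.2 b⟩
  obtain ⟨lo₁, hi₁, hr₁⟩ := h1.2
  obtain ⟨lo₃, hi₃, hr₃⟩ := h3.2
  have hsub2 : ∀ i, (i < min lo₁ lo₃ ∨ max hi₁ hi₃ < i) → Subsingleton (S.X₂.homology i) := fun i hi => by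
    haveI := hr₁ i (by omega)
    haveI := hr₃ i (by omega)
    refine subsingleton_of_forall_eq 0 fun z => ?_
    obtain ⟨w, rfl⟩ := (e2 i z).1 (Subsingleton.elim _ _)
    rw [Subsingleton.elim w 0, map_zero]
  have h2 : Small S.X₂ := ⟨hfl2, _, _, hsub2⟩
  refine ⟨h2, ?_⟩
  let a := fun i => len A (LinearMap.range (f i))
  let b := fun i => len A (LinearMap.range (g i))
  let c := fun i => len A (LinearMap.range (d i))
  have k2 : ∀ i, len A (S.X₂.homology i) = a i + b i := fun i => len_exact _ _ (e2 i) (hfl2 i)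
  have k3 : ∀ i, len A (S.X₃.homology i) = b i + c i := fun i => len_exact _ _ (e3 i) (h3.1 i)
  have k1 : ∀ i, len A (S.X₁.homology i) = c (i - 1) + a i := fun i => by
    obtain ⟨j, rfl⟩ : ∃ j, i = j + 1 := ⟨i - 1, by omega⟩
    rw [len_exact _ _ (e1 j) (h1.1 (j + 1))]
    simp [c, a]
  have hc : (Function.support fun i => sgn i * c i).Finite := by
    refine GrLib8.KChi.finite_support _ lo₃ hi₃ fun i hi => ?_
    haveI := hr₃ i hi
    haveI : Subsingleton (LinearMap.range (d i)) := (d i).surjective_rangeRestrict.subsingleton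
    rw [show c i = 0 from len_of_subsingleton _, mul_zero]
  have hc' : (Function.support fun i => sgn i * c (i - 1)).Finite := by
    refine GrLib8.KChi.finite_support _ (lo₃ + 1) (hi₃ + 1) fun i hi => ?_
    haveI := hr₃ (i - 1) (by omega)
    haveI : Subsingleton (LinearMap.range (d (i - 1))) := (d (i - 1)).surjective_rangeRestrict.subsingleton
    rw [show c (i - 1) = 0 from len_of_subsingleton _, mul_zero]
  have hshift : ∑ᶠ i : ℤ, sgn i * c (i - 1) = - ∑ᶠ i : ℤ, sgn i * c i := by
    rw [← finsum_comp_equiv (Equiv.addRight (1 : ℤ)) (f := fun i => sgn i * c (i - 1)), ← finsum_neg_distrib]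
    refine finsum_congr fun i => ?_
    show sgn (i + 1) * c (i + 1 - 1) = -(sgn i * c i)
    rw [add_sub_cancel_right]
    simp [sgn, Int.negOnePow_succ]
  rw [euler, euler, euler, ← finsum_add_distrib h1.finite_support h3.finite_support]
  have key : (fun i => sgn i * len A (S.X₁.homology i) + sgn i * len A (S.X₃.homology i)) =
      fun i => sgn i * len A (S.X₂.homology i) + (sgn i * c (i - 1) + sgn i * c i) := by
    funext i
    rw [k1, k2, k3]
    ring
  rw [key, finsum_add_distrib h2.finite_support
    ((hc'.union hc).subset (Function.support_add _ _)), finsum_add_distrib hc' hc, hshift]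
  ring

variable {P : DRing.Cx A} (hflat : DRing.TermwiseFlat P) (hb : DRing.VanishesAbove P 0)

include hflat in
theorem shortExact_ten {S : ShortComplex (DRing.Cx A)} (hS : S.ShortExact) :
    (S.map ((curriedTensor (ModuleCat.{u} A)).map₂CochainComplex.obj P)).ShortExact := by
  refine shortExact₂ _ P S fun p q => ?_
  have h := hS.map_of_exact (HomologicalComplex.eval (ModuleCat.{u} A) (ComplexShape.up ℤ) q)
  haveI : Module.Flat A (P.X p) := hflat p
  refine { exact := ?_, mono_f := ?_, epi_g := ?_ }
  · rw [ShortComplex.ShortExact.moduleCat_exact_iff_function_exact]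
    exact Module.Flat.lTensor_exact (P.X p)
      ((ShortComplex.ShortExact.moduleCat_exact_iff_function_exact _).1 h.exact)
  · refine (ModuleCat.mono_iff_injective _).2 ?_
    exact Module.Flat.lTensor_preserves_injective_linearMap _ ((ModuleCat.mono_iff_injective _).1 h.mono_f)
  · refine (ModuleCat.epi_iff_surjective _).2 ?_
    exact LinearMap.lTensor_surjective _ ((ModuleCat.epi_iff_surjective _).1 h.epi_g)

include hflat hb in
theorem quasiIso_ten {E E' : DRing.Cx A} (f : E ⟶ E') [QuasiIso f] :
    QuasiIso (((curriedTensor (ModuleCat.{u} A)).map₂CochainComplex.obj P).map f) :=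
  (kFlat_of_termwiseFlat hflat hb).quasiIso_map' curriedTensorFlipIso f

/-- The tensor product with a module in degree zero. -/
noncomputable def tenSingle (K : DRing.Cx A) (N : ModuleCat.{u} A) : Ten K (sg 0 N) ≅ DRing.tensorCx K N :=
  (singleIso (curriedTensor (ModuleCat.{u} A)) N).app K

/-- The cohomology of the tensor product with a module in degree `c`. -/
theorem homology_ten_sg (N : ModuleCat.{u} A) (c i : ℤ) :
    Nonempty (((Ten P (sg c N)).homology i : Type u) ≃ₗ[A] (DRing.tensorCx P N).homology (i - c)) := by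
  let e₀ : sg c N ≅ (shiftFunctor (DRing.Cx A) (-c)).obj (sg 0 N) :=
    (((CochainComplex.singleFunctors (ModuleCat.{u} A)).shiftIso (-c) c 0 (by omega)).app N).symm
  let e₁ := HomologicalComplex.homologyMapIso
    (((curriedTensor (ModuleCat.{u} A)).map₂CochainComplex.obj P).mapIso e₀ ≪≫
      CochainComplex.mapBifunctorShift₂Iso P (sg 0 N) (curriedTensor (ModuleCat.{u} A)) (-c)) i
  exact ⟨(e₁ ≪≫ (CochainComplex.ShiftSequence.shiftIso (ModuleCat.{u} A) (-c) i (i - c) (by omega)).app _ ≪≫
    HomologicalComplex.homologyMapIso (tenSingle P N) (i - c)).toLinearEquiv⟩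

variable {M : ModuleCat.{u} A} (π : P ⟶ H9Misc.TorBalance.sgl M) [hπi : QuasiIso π]

include hflat hb π hπi in
/-- The Euler characteristic against a module in degree `c`. -/
theorem single (D : ℕ) (N : ModuleCat.{u} A) (hfl : ∀ n : ℕ, IsFiniteLength A (DRing.Tor A n M N))
    (hD : ∀ n : ℕ, D < n → Subsingleton (DRing.Tor A n M N)) (c : ℤ) :
    Small (Ten P (sg c N)) ∧ euler (Ten P (sg c N)) = sgn c * IntMult.chi A M N := by
  have hpos : ∀ j : ℤ, 0 < j → Subsingleton ((DRing.tensorCx P N).homology j) := fun j hj =>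
    ModuleCat.subsingleton_of_isZero (ShortComplex.isZero_homology_of_isZero_X₂ _
      ((tensorRight N).map_isZero (hb j hj)))
  have htor : ∀ n : ℕ, Nonempty ((DRing.Tor A n M N : Type u) ≃ₗ[A] (DRing.tensorCx P N).homology (-n : ℤ)) :=
    fun n => ⟨(KoszulTor.nonempty_tor_iso P hflat hb π N n).some.toLinearEquiv⟩
  have hK : ∀ j : ℤ, IsFiniteLength A ((DRing.tensorCx P N).homology j) ∧
      (j < -(D : ℤ) ∨ 0 < j → Subsingleton ((DRing.tensorCx P N).homology j)) := fun j => by
    rcases lt_or_ge 0 j with hj | hj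
    · haveI := hpos j hj
      exact ⟨IsFiniteLength.of_subsingleton, fun _ => hpos j hj⟩
    · obtain ⟨n, rfl⟩ : ∃ n : ℕ, j = -(n : ℤ) := ⟨j.natAbs, by omega⟩
      obtain ⟨e⟩ := htor n
      refine ⟨fl_of_surjective e.toLinearMap e.surjective (hfl n), fun h => ?_⟩
      haveI := hD n (by omega)
      exact e.symm.injective.subsingleton
  have hsmall : Small (Ten P (sg c N)) := by
    refine ⟨fun i => ?_, c - D, c, fun i hi => ?_⟩
    · obtain ⟨e⟩ := homology_ten_sg (P := P) N c i
      exact fl_of_surjective e.symm.toLinearMap e.symm.surjective (hK (i - c)).1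
    · obtain ⟨e⟩ := homology_ten_sg (P := P) N c i
      haveI := (hK (i - c)).2 (by omega)
      exact e.injective.subsingleton
  refine ⟨hsmall, ?_⟩
  let G : ℤ → ℤ := fun j => sgn j * len A ((DRing.tensorCx P N).homology j)
  have h1 : ∀ n : ℕ, (-1 : ℤ) ^ n * ((Module.length A (DRing.Tor A n M N)).toNat : ℤ) = G (-(n : ℤ)) := fun n => by
    obtain ⟨e⟩ := htor n
    simp [G, sgn, len, e.length_eq, Int.negOnePow_def]
  have h2 : Function.support G ⊆ Set.range fun n : ℕ => -(n : ℤ) := fun i hi => by
    refine ⟨i.natAbs, ?_⟩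
    have : i ≤ 0 := not_lt.1 fun h => hi (by
      haveI := hpos i h
      simp [G, len_of_subsingleton])
    show -(i.natAbs : ℤ) = i
    omega
  have hchi : IntMult.chi A M N = ∑ᶠ j : ℤ, G j := by
    rw [IntMult.chi, finsum_congr h1,
      ← finsum_mem_range (f := G) (g := fun n : ℕ => -(n : ℤ)) fun a b h => by simpa using h,
      ← finsum_mem_univ G]
    exact finsum_mem_inter_support_eq' G _ _ fun i hi => iff_of_true (h2 hi) (Set.mem_univ i)
  rw [hchi, mul_finsum, ← finsum_comp_equiv (Equiv.subRight c) (f := fun j => sgn c * G j), euler]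
  refine finsum_congr fun i => ?_
  show _ = sgn c * G (i - c)
  rw [len_congr (homology_ten_sg (P := P) N c i).some]
  simp only [G, sgn, ← mul_assoc]
  congr 1
  rw [← Units.val_mul, ← Int.negOnePow_add, add_sub_cancel]

/-- The hypotheses on a module: `Tor` of finite length, vanishing above `D`. -/
def Good (M : ModuleCat.{u} A) (D : ℕ) (N : Type u) [AddCommGroup N] [Module A N] : Prop :=
  ∀ n : ℕ, IsFiniteLength A (DRing.Tor A n M N) ∧ (D < n → Subsingleton (DRing.Tor A n M N))

theorem chi_of_subsingleton (M N : Type u) [AddCommGroup M] [Module A M] [AddCommGroup N] [Module A N]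
    [Subsingleton N] : IntMult.chi A M N = 0 := by
  rw [KoszulTor.chi_comm, ChiAdd.chi_eq_zero_of_subsingleton]

theorem chi_congr_right {M N N' : Type u} [AddCommGroup M] [Module A M] [AddCommGroup N] [Module A N]
    [AddCommGroup N'] [Module A N'] (e : N ≃ₗ[A] N') : IntMult.chi A M N = IntMult.chi A M N' := by
  rw [KoszulTor.chi_comm, ChiAdd.chi_congr_left e, KoszulTor.chi_comm]

include hflat hb π hπi in
/-- The Euler characteristic from the cohomology of the second factor. -/
theorem euler_of_homology (D : ℕ) : ∀ (k : ℕ) (lo hi : ℤ), (hi - lo + 1).toNat ≤ k → ∀ (E : DRing.Cx A),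
    (∀ i, (i < lo ∨ hi < i) → IsZero (E.homology i)) → (∀ q, Good M D (E.homology q)) →
    Small (Ten P E) ∧ euler (Ten P E) = ∑ᶠ q : ℤ, sgn q * IntMult.chi A M (E.homology q) := by
  intro k
  induction k with
  | zero =>
    intro lo hi hk E hz _
    haveI hq : QuasiIso (0 : E ⟶ E) :=
      { quasiIsoAt := fun i => (quasiIsoAt_iff_exactAt (0 : E ⟶ E) i
          ((HomologicalComplex.exactAt_iff_isZero_homology _ i).2 (hz i (by omega)))).2
          ((HomologicalComplex.exactAt_iff_isZero_homology _ i).2 (hz i (by omega))) }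
    haveI hq' := quasiIso_ten hflat hb (0 : E ⟶ E)
    have hsub : ∀ i, Subsingleton ((Ten P E).homology i) := fun i => by
      refine ModuleCat.subsingleton_of_isZero ((IsZero.iff_id_eq_zero _).2 ?_)
      have hi : IsIso (HomologicalComplex.homologyMap
          (((curriedTensor (ModuleCat.{u} A)).map₂CochainComplex.obj P).map (0 : E ⟶ E)) i) :=
        (quasiIsoAt_iff_isIso_homologyMap _ i).1 (hq'.quasiIsoAt i)
      have h0 : HomologicalComplex.homologyMap
          (((curriedTensor (ModuleCat.{u} A)).map₂CochainComplex.obj P).map (0 : E ⟶ E)) i = 0 := by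
        rw [Functor.map_zero, HomologicalComplex.homologyMap_zero]
      rw [← IsIso.hom_inv_id (HomologicalComplex.homologyMap
          (((curriedTensor (ModuleCat.{u} A)).map₂CochainComplex.obj P).map (0 : E ⟶ E)) i)]
      exact (congrArg (· ≫ inv (HomologicalComplex.homologyMap
          (((curriedTensor (ModuleCat.{u} A)).map₂CochainComplex.obj P).map (0 : E ⟶ E)) i)) h0).trans zero_comp
    refine ⟨⟨fun i => haveI := hsub i; IsFiniteLength.of_subsingleton, 0, 0, fun i _ => hsub i⟩, ?_⟩
    rw [euler, finsum_eq_zero_of_forall_eq_zero, finsum_eq_zero_of_forall_eq_zero]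
    · intro q
      haveI := ModuleCat.subsingleton_of_isZero (hz q (by omega))
      rw [chi_of_subsingleton, mul_zero]
    · intro i
      haveI := hsub i
      rw [len_of_subsingleton, mul_zero]
  | succ k ih =>
    intro lo hi hk E hz hgood
    haveI : E.IsGE lo := (CochainComplex.isGE_iff E lo).2 fun i hi' =>
      (HomologicalComplex.exactAt_iff_isZero_homology _ i).2 (hz i (Or.inl hi'))
    let eι : ∀ i, i ≤ lo → ((E.truncLE lo).homology i ≅ E.homology i) := fun i hi' =>
      haveI := E.quasiIsoAt_ιTruncLE lo i hi'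
      isoOfQuasiIsoAt (E.ιTruncLE lo) i
    haveI : (E.truncLE lo).IsGE lo := (CochainComplex.isGE_iff _ lo).2 fun i hi' =>
      (HomologicalComplex.exactAt_iff_isZero_homology _ i).2 ((hz i (Or.inl hi')).of_iso (eι i hi'.le))
    haveI : ((E.truncLE lo).truncGE lo).IsStrictlyLE lo := by
      rw [CochainComplex.isStrictlyLE_iff]
      intro i hi'
      haveI : Epi (((E.truncLE lo).πTruncGE lo).f i) := inferInstanceAs
        (Epi ((HomologicalComplex.πTruncGE (E.truncLE lo) (ComplexShape.embeddingUpIntGE lo)).f i))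
      exact IsZero.of_epi (((E.truncLE lo).πTruncGE lo).f i)
        (CochainComplex.isZero_of_isStrictlyLE (E.truncLE lo) lo i hi')
    obtain ⟨Y, ⟨eY⟩⟩ := CochainComplex.exists_iso_single ((E.truncLE lo).truncGE lo) lo
    let φ : E.truncLE lo ⟶ sg lo Y := (E.truncLE lo).πTruncGE lo ≫ eY.hom
    haveI : QuasiIso φ := quasiIso_comp _ _
    let eYH : (Y : Type u) ≃ₗ[A] E.homology lo :=
      ((HomologicalComplex.singleObjHomologySelfIso (ComplexShape.up ℤ) lo Y).symm ≪≫
        (isoOfQuasiIsoAt φ lo).symm ≪≫ eι lo le_rfl).toLinearEquiv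
    have hY : Good M D Y := fun n => by
      let e := (((Tor (ModuleCat.{u} A) n).obj M).mapIso eYH.toModuleIso).toLinearEquiv
      exact ⟨fl_of_surjective e.symm.toLinearMap e.symm.surjective (hgood lo n).1,
        fun hn => haveI := (hgood lo n).2 hn; e.injective.subsingleton⟩
    have hA := single hflat hb π D Y (fun n => (hY n).1) (fun n => (hY n).2) lo
    haveI := quasiIso_ten hflat hb φ
    have hA' : Small (Ten P (E.truncLE lo)) :=
      hA.1.congr fun i => ⟨(homology_equiv_of_quasiIso
        (((curriedTensor (ModuleCat.{u} A)).map₂CochainComplex.obj P).map φ) i).some.symm⟩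
    have hAe : euler (Ten P (E.truncLE lo)) = sgn lo * IntMult.chi A M (E.homology lo) := by
      rw [euler_congr (homology_equiv_of_quasiIso
        (((curriedTensor (ModuleCat.{u} A)).map₂CochainComplex.obj P).map φ)), hA.2, chi_congr_right eYH]
    let eπ : ∀ i, lo + 1 ≤ i → (E.homology i ≅ (E.truncGE (lo + 1)).homology i) := fun i hi' =>
      haveI := E.quasiIsoAt_πTruncGE (lo + 1) i hi'
      isoOfQuasiIsoAt (E.πTruncGE (lo + 1)) i
    have hlow : ∀ i, i < lo + 1 → IsZero ((E.truncGE (lo + 1)).homology i) := fun i hi' =>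
      CochainComplex.isZero_of_isGE _ (lo + 1) i hi'
    obtain ⟨hB, hBe⟩ := ih (lo + 1) hi (by omega) (E.truncGE (lo + 1)) (fun i hi' => by
      rcases lt_or_ge i (lo + 1) with h' | h'
      · exact hlow i h'
      · exact (hz i (by omega)).of_iso (eπ i h').symm) (fun q n => by
      rcases lt_or_ge q (lo + 1) with h' | h'
      · haveI := ModuleCat.subsingleton_of_isZero (hlow q h')
        haveI : Subsingleton (DRing.Tor A n M ((E.truncGE (lo + 1)).homology q)) := by
          haveI := ChiAdd.tor_zero_of_subsingleton (A := A) ((E.truncGE (lo + 1)).homology q) M n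
          exact (H9Misc.TorBalance.torSymm (M : ModuleCat.{u} A) ((E.truncGE (lo + 1)).homology q) n).toLinearEquiv.injective.subsingleton
        exact ⟨IsFiniteLength.of_subsingleton, fun _ => inferInstance⟩
      · let e := (((Tor (ModuleCat.{u} A) n).obj M).mapIso (eπ q h')).toLinearEquiv
        exact ⟨fl_of_surjective e.toLinearMap e.surjective (hgood q n).1,
          fun hn => haveI := (hgood q n).2 hn; e.symm.injective.subsingleton⟩)
    haveI := quasiIso_ten hflat hb (E.shortComplexTruncLEX₃ToTruncGE lo (lo + 1) rfl)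
    have e3 := homology_equiv_of_quasiIso (((curriedTensor (ModuleCat.{u} A)).map₂CochainComplex.obj P).map
      (E.shortComplexTruncLEX₃ToTruncGE lo (lo + 1) rfl))
    obtain ⟨h2, h2e⟩ := euler_ses (shortExact_ten hflat (E.shortComplexTruncLE_shortExact lo)) hA'
      (hB.congr fun i => ⟨(e3 i).some.symm⟩)
    refine ⟨h2, h2e.trans ?_⟩
    refine (congrArg₂ (· + ·) hAe ((euler_congr e3).trans hBe)).trans ?_
    let F : ℤ → ℤ := fun q => sgn q * IntMult.chi A M (E.homology q)
    have hF : ∀ q, (q < lo ∨ hi < q) → F q = 0 := fun q hq => by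
      haveI := ModuleCat.subsingleton_of_isZero (hz q hq)
      simp [F, chi_of_subsingleton]
    have hG : (fun q => sgn q * IntMult.chi A M ((E.truncGE (lo + 1)).homology q)) =
        fun q => if q = lo then 0 else F q := by
      funext q
      split_ifs with h
      · subst h
        haveI := ModuleCat.subsingleton_of_isZero (hlow q (by omega))
        rw [chi_of_subsingleton, mul_zero]
      · rcases lt_or_ge q (lo + 1) with h' | h'
        · haveI := ModuleCat.subsingleton_of_isZero (hlow q h')
          rw [chi_of_subsingleton, mul_zero, hF q (Or.inl (by omega))]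
        · simp only [F]
          rw [chi_congr_right (eπ q h').toLinearEquiv]
    have hfin : (Function.support F).Finite := GrLib8.KChi.finite_support F lo hi hF
    rw [show (∑ᶠ q : ℤ, sgn q * IntMult.chi A M ((E.truncGE (lo + 1)).homology q)) =
      ∑ᶠ q : ℤ, if q = lo then 0 else F q from congrArg finsum hG]
    have hsplit : F = fun q => (if q = lo then F q else 0) + (if q = lo then 0 else F q) := by
      funext q; split_ifs <;> simp
    conv_rhs => rw [show (fun q => sgn q * IntMult.chi A M (E.homology q)) = F from rfl, hsplit]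
    rw [finsum_add_distrib, finsum_eq_single _ lo fun q hq => if_neg hq, if_pos rfl]
    · exact (Set.finite_singleton lo).subset fun q hq => by_contra fun h => hq (if_neg h)
    · exact hfin.subset fun q hq => fun h => hq (by simp [h])

/-- Bounded above flat resolutions exist. -/
theorem exists_resolution (M : ModuleCat.{u} A) : ∃ (P : DRing.Cx A) (π : P ⟶ H9Misc.TorBalance.sgl M),
    QuasiIso π ∧ DRing.TermwiseFlat P ∧ DRing.VanishesAbove P 0 := by
  obtain ⟨R, ψ, hψ, hfl, hRb⟩ := (ringCover A).exists_bounded_resolution (H9Misc.TorBalance.sgl M) 0 fun m hm =>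
    HomologicalComplex.isZero_single_obj_homology _ _ _ _ (by omega)
  exact ⟨R, ψ, hψ, hfl, hRb⟩

/-- Interchanging two complexes in a triple product. -/
noncomputable def swapIso (P Q S : DRing.Cx A) : Ten P (Ten Q S) ≅ Ten Q (Ten P S) :=
  (α_ P Q S).symm ≪≫
    ((curriedTensor (ModuleCat.{u} A)).map₂CochainComplex.flip.obj S).mapIso
      ((symmIso curriedTensorFlipIso Q).app P) ≪≫ α_ Q P S

/-- Associativity of the Tor formula. -/
theorem chi_assoc (M N W : Type u) [AddCommGroup M] [Module A M] [AddCommGroup N] [Module A N]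
    [AddCommGroup W] [Module A W] (D : ℕ) (hWN : ∀ q, D < q → Subsingleton (DRing.Tor A q W N))
    (hMN : ∀ q, D < q → Subsingleton (DRing.Tor A q M N))
    (h1 : ∀ q, Good (ModuleCat.of A M) D (DRing.Tor A q W N))
    (h2 : ∀ q, Good (ModuleCat.of A W) D (DRing.Tor A q M N)) :
    ∑ᶠ q : ℕ, (-1 : ℤ) ^ q * IntMult.chi A M (DRing.Tor A q W N) =
      ∑ᶠ q : ℕ, (-1 : ℤ) ^ q * IntMult.chi A W (DRing.Tor A q M N) := by
  obtain ⟨P, π, hπ, hPf, hPb⟩ := exists_resolution (ModuleCat.of A M)
  obtain ⟨Q, ρ, hρ, hQf, hQb⟩ := exists_resolution (ModuleCat.of A W)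
  have key : ∀ (P' Q' : DRing.Cx A) (M' W' : Type u) [AddCommGroup M'] [Module A M'] [AddCommGroup W']
      [Module A W'] (π' : P' ⟶ H9Misc.TorBalance.sgl (ModuleCat.of A M')) [QuasiIso π'] (ρ' : Q' ⟶ H9Misc.TorBalance.sgl (ModuleCat.of A W'))
      [QuasiIso ρ'], DRing.TermwiseFlat P' → DRing.VanishesAbove P' 0 → DRing.TermwiseFlat Q' →
      DRing.VanishesAbove Q' 0 → (∀ q, D < q → Subsingleton (DRing.Tor A q W' N)) →
      (∀ q, Good (ModuleCat.of A M') D (DRing.Tor A q W' N)) →
      euler (Ten P' (Ten Q' (sg 0 (ModuleCat.of A N)))) =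
        ∑ᶠ q : ℕ, (-1 : ℤ) ^ q * IntMult.chi A M' (DRing.Tor A q W' N) := by
    intro P' Q' M' W' _ _ _ _ π' _ ρ' _ hP'f hP'b hQ'f hQ'b hvan hgood
    let E := Ten Q' (sg 0 (ModuleCat.of A N))
    have hE : ∀ j : ℤ, Nonempty ((E.homology j : Type u) ≃ₗ[A]
        (DRing.tensorCx Q' (ModuleCat.of A N)).homology j) := homology_equiv_of_iso (tenSingle Q' _)
    have hpos : ∀ j : ℤ, 0 < j → IsZero (E.homology j) := fun j hj => by
      haveI : Subsingleton ((DRing.tensorCx Q' (ModuleCat.of A N)).homology j) :=
        ModuleCat.subsingleton_of_isZero (ShortComplex.isZero_homology_of_isZero_X₂ _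
          ((tensorRight (ModuleCat.of A N)).map_isZero (hQ'b j hj)))
      haveI := (hE j).some.injective.subsingleton
      exact ModuleCat.isZero_of_subsingleton _
    have htor : ∀ n : ℕ, Nonempty ((DRing.Tor A n W' N : Type u) ≃ₗ[A] E.homology (-(n : ℤ))) := fun n =>
      ⟨(KoszulTor.nonempty_tor_iso Q' hQ'f hQ'b ρ' (ModuleCat.of A N) n).some.toLinearEquiv.trans (hE _).some.symm⟩
    obtain ⟨-, he⟩ := euler_of_homology hP'f hP'b π' D _ (-(D : ℤ)) 0 le_rfl E (fun i hi => by
      rcases hi with hi | hi
      · obtain ⟨n, rfl⟩ : ∃ n : ℕ, i = -(n : ℤ) := ⟨i.natAbs, by omega⟩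
        haveI := hvan n (by omega)
        haveI := (htor n).some.symm.injective.subsingleton
        exact ModuleCat.isZero_of_subsingleton _
      · exact hpos i hi) (fun j n => by
      rcases lt_or_ge 0 j with hj | hj
      · haveI := ModuleCat.subsingleton_of_isZero (hpos j hj)
        haveI : Subsingleton (DRing.Tor A n M' (E.homology j)) := by
          haveI := ChiAdd.tor_zero_of_subsingleton (A := A) (E.homology j) M' n
          exact (H9Misc.TorBalance.torSymm (ModuleCat.of A M') (E.homology j) n).toLinearEquiv.injective.subsingleton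
        exact ⟨IsFiniteLength.of_subsingleton, fun _ => inferInstance⟩
      · obtain ⟨m, rfl⟩ : ∃ m : ℕ, j = -(m : ℤ) := ⟨j.natAbs, by omega⟩
        let e := (((Tor (ModuleCat.{u} A) n).obj (ModuleCat.of A M')).mapIso (htor m).some.toModuleIso).toLinearEquiv
        exact ⟨fl_of_surjective e.toLinearMap e.surjective (hgood m n).1,
          fun hn => haveI := (hgood m n).2 hn; e.symm.injective.subsingleton⟩)
    rw [he]
    let G : ℤ → ℤ := fun j => sgn j * IntMult.chi A M' (E.homology j)
    have hG : ∀ n : ℕ, (-1 : ℤ) ^ n * IntMult.chi A M' (DRing.Tor A n W' N) = G (-(n : ℤ)) := fun n => by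
      simp only [G]
      rw [chi_congr_right (htor n).some]
      simp [sgn, Int.negOnePow_def]
    have hsupp : Function.support G ⊆ Set.range fun n : ℕ => -(n : ℤ) := fun i hi => by
      refine ⟨i.natAbs, ?_⟩
      have : i ≤ 0 := not_lt.1 fun h => hi (by
        haveI := ModuleCat.subsingleton_of_isZero (hpos i h)
        simp [G, chi_of_subsingleton])
      show -(i.natAbs : ℤ) = i
      omega
    rw [finsum_congr hG, ← finsum_mem_range (f := G) (g := fun n : ℕ => -(n : ℤ)) fun a b h => by simpa using h,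
      ← finsum_mem_univ (fun q : ℤ => sgn q * IntMult.chi A M' (E.homology q))]
    exact finsum_mem_inter_support_eq' G _ _ fun i hi => iff_of_true (Set.mem_univ i) (hsupp hi)
  rw [← key P Q M W π ρ hPf hPb hQf hQb hWN h1, ← key Q P W M ρ π hQf hQb hPf hPb hMN h2]
  exact euler_congr (homology_equiv_of_iso (swapIso P Q _))

end Groth.Agent.H23.AssocAlg
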