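import Groth.Agent.MagnetLib.Mono

/-! Attractor comparison along an injective map of monoids. -/

universe u

open CategoryTheory CategoryTheory.Limits MonoidalCategory CartesianMonoidalCategory MonObj
open AlgebraicGeometry Opposite Magnet

namespace Groth.Agent.H23.AttrComapInj

theorem AMonS_map_id (S : Scheme.{u}) (M : Type) [AddCommMonoid M] :
    AMonS.map S (AddMonoidHom.id M) = 𝟙 (AMonS S M) := by
  rw [AMonS.map, show AMon.map (ULift.{u} ℤ) (AddMonoidHom.id M) = 𝟙 _ from ?_]
  · exact CategoryTheory.Functor.map_id _ _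
  · ext : 1
    rw [AMon.map_left, Over.id_left]
    refine (congrArg Spec.map ?_).trans (Spec.map_id _)
    apply CommRingCat.hom_ext
    apply MonoidAlgebra.ringHom_ext
    · intro r; simp
    · intro m; simp

theorem isIso_attrComap (S : Scheme.{u}) (M Z : Type) [AddCommMonoid M] [AddCommMonoid Z] (f : M →+ Z)
    (hf : Function.Injective f) (Y : AddSubmonoid Z) (hY : Y ≤ AddMonoidHom.mrange f) (X : Over S)
    [IsSeparated X.hom] (a : MonAct (AMonS S M) X) : IsIso (attrComap a f Y) := by
  rw [NatTrans.isIso_iff_isIso_app]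
  intro T
  rw [isIso_iff_bijective]
  let c : (Y.comap f) →+ Y := (f.comp (Y.comap f).subtype).codRestrict Y (fun x => x.2)
  have hc : Function.Bijective c := by
    refine ⟨fun x y h => Subtype.ext (hf (congrArg Subtype.val h)), fun y => ?_⟩
    obtain ⟨m, hm⟩ := hY y.2
    exact ⟨⟨m, show f m ∈ Y from hm ▸ y.2⟩, Subtype.ext hm⟩
  let e := AddEquiv.ofBijective c hc
  let d : AMonS S (Y.comap f) ⟶ AMonS S Y := AMonS.map S e.symm.toAddMonoidHom
  have h1 : AMonS.map S c ≫ d = 𝟙 _ := by
    rw [← AMonS.map_comp, show c.comp e.symm.toAddMonoidHom = AddMonoidHom.id _ from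
      AddMonoidHom.ext e.apply_symm_apply, AMonS_map_id]
  have h2 : d ≫ AMonS.map S c = 𝟙 _ := by
    rw [← AMonS.map_comp, show e.symm.toAddMonoidHom.comp c = AddMonoidHom.id _ from
      AddMonoidHom.ext e.symm_apply_apply, AMonS_map_id]
  refine ⟨fun φ ψ h => Subtype.ext ?_, fun ψ => ?_⟩
  · have h' : (AMonS.map S c ▷ unop T) ≫ φ.1 = (AMonS.map S c ▷ unop T) ≫ ψ.1 := congrArg Subtype.val h
    have := congrArg ((d ▷ unop T) ≫ ·) h'
    simpa only [← comp_whiskerRight_assoc, h2, id_whiskerRight, Category.id_comp] using this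
  · have hψ := (MonAct.mem_eqvHom_iff ψ.1).mp ψ.2
    refine ⟨⟨(d ▷ unop T) ≫ ψ.1, ?_⟩, Subtype.ext ?_⟩
    · refine MagnetLib.ext_of_AMonS_map f hf (AMonS S (Y.comap f) ⊗ unop T) _ _ ?_
      apply hom_ext_lift₂
      intro T' g z
      rw [← lift_comp_fst_snd z, lift_whiskerRight_assoc, lift_whiskerRight_assoc, lift_whiskerLeft_assoc,
        MonAct.lift_prod_act_assoc, MonAct.lift_trivial_act, lift_whiskerRight_assoc, lift_whiskerRight_assoc]
      generalize z ≫ fst _ _ = b
      generalize z ≫ snd _ _ = t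
      have hb := hψ T' g (b ≫ d) t
      rw [MonAct.lift_restrict_act] at hb
      refine Eq.trans ?_ hb
      congr 2
      have hlin : (lift (g ≫ AMonS.map S f) b ≫ (subAct S M (Y.comap f)).act) =
          (g ≫ AMonS.map S f ≫ AMonS.map S (Y.comap f).subtype) * b :=
        ((MonAct.lift_restrict_act _ _ _ _).trans (MonAct.lift_regular_act _ _)).trans (by rw [Category.assoc])
      have hlin' : (lift g (b ≫ d) ≫ (subAct S Z Y).act) = (g ≫ AMonS.map S Y.subtype) * (b ≫ d) :=
        (MonAct.lift_restrict_act _ _ _ _).trans (MonAct.lift_regular_act _ _)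
      rw [hlin, hlin', MonObj.mul_comp, Category.assoc, Category.assoc, ← AMonS.map_comp, ← AMonS.map_comp]
      congr 3
      refine AddMonoidHom.ext fun y => ?_
      exact congrArg Subtype.val (e.apply_symm_apply y)
    · show (AMonS.map S c ▷ unop T) ≫ (d ▷ unop T) ≫ ψ.1 = ψ.1
      rw [← comp_whiskerRight_assoc, h1, id_whiskerRight, Category.id_comp]

end Groth.Agent.H23.AttrComapInj
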