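import Groth.Agent.H23.CharPts
import Groth.Agent.H23.AMonFree
import Groth.Agent.H23.AttrComapInj
import Groth.Prelude.Def_Magnet3
import Mathlib.GroupTheory.QuotientGroup.Defs

/-! Attractor comparison along a map of groups `f : M → Z` for a magnet inside `f(M)`. -/

universe u

open CategoryTheory CategoryTheory.Limits MonoidalCategory CartesianMonoidalCategory MonObj AlgebraicGeometry
open Opposite Magnet

namespace Groth.Agent.H23.AttrComapGrp

open CharPts

variable {S : Scheme.{u}}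

theorem subAct_point {M : Type} [AddCommMonoid M] (N : AddSubmonoid M) {T : Over S} (g : T ⟶ AMonS S M) (b : T ⟶ AMonS S N) :
    lift g b ≫ (subAct S M N).act = (g ≫ AMonS.map S N.subtype) * b :=
  (MonAct.lift_restrict_act _ _ _ _).trans (MonAct.lift_regular_act _ _)

theorem map_comp_point {M N P : Type} [AddCommMonoid M] [AddCommMonoid N] [AddCommMonoid P] (f : N →+ M) (g : P →+ N)
    {T : Over S} (x : T ⟶ AMonS S M) : (x ≫ AMonS.map S f) ≫ AMonS.map S g = x ≫ AMonS.map S (f.comp g) := by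
  rw [Category.assoc, AMonS.map_comp]

theorem map_zero_point {M N : Type} [AddCommMonoid M] [AddCommMonoid N] {T : Over S} (x : T ⟶ AMonS S M)
    (y : T ⟶ AMonS S N) : (x ≫ AMonS.map S (0 : N →+ M)) * y = y := by
  apply chi_injective
  refine MonoidHom.ext fun n => ?_
  rw [chi_mul, chi_map]
  exact (congrArg (· * chi y n) (map_one (chi x))).trans (_root_.one_mul _)

theorem eq_one_of_map_zero {M N : Type} [AddCommMonoid M] [AddCommMonoid N] {T : Over S} (x : T ⟶ AMonS S M) :
    x ≫ AMonS.map S (0 : N →+ M) = 1 := by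
  simpa using map_zero_point x (1 : T ⟶ AMonS S N)

theorem hom_ext_left {A B X : Over S} (p : A ⟶ B) [EffectiveEpi p.left] {u v : B ⟶ X} (h : p ≫ u = p ≫ v) : u = v :=
  Over.OverMorphism.ext ((cancel_epi p.left).mp (congrArg Over.Hom.left h))

theorem exists_desc {A B X : Over S} (p : A ⟶ B) [EffectiveEpi p.left] (Φ : A ⟶ X)
    (h : ∀ (W : Over S) (u v : W ⟶ A), u ≫ p = v ≫ p → u ≫ Φ = v ≫ Φ) : ∃ φ : B ⟶ X, p ≫ φ = Φ := by
  have hd : ∀ {W : Scheme.{u}} (u v : W ⟶ A.left), u ≫ p.left = v ≫ p.left → u ≫ Φ.left = v ≫ Φ.left := by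
    intro W u v huv
    have hv : v ≫ A.hom = u ≫ A.hom := by rw [← Over.w p, ← Category.assoc, ← huv, Category.assoc]
    exact congrArg Over.Hom.left (h (Over.mk (u ≫ A.hom)) (Over.homMk u rfl) (Over.homMk v hv)
      (Over.OverMorphism.ext huv))
  have hfac := EffectiveEpi.fac p.left Φ.left (fun u v huv => hd u v huv)
  refine ⟨Over.homMk (EffectiveEpi.desc p.left Φ.left (fun u v huv => hd u v huv)) ?_, Over.OverMorphism.ext hfac⟩
  rw [← cancel_epi p.left, ← Category.assoc, hfac, Over.w, Over.w]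

variable {M Z : Type} [AddCommGroup M] [AddCommGroup Z] (f : M →+ Z) (Y : AddSubmonoid Z)

/-- `f` onto its image. -/
abbrev fr : M →+ f.range := f.rangeRestrict

/-- `f⁻¹Y → Y`. -/
abbrev cmap : (Y.comap f) →+ Y := (f.comp (Y.comap f).subtype).codRestrict Y (fun x => x.2)

/-- `f⁻¹Y → M × Y`. -/
abbrev jmap : (Y.comap f) →+ M × Y := (Y.comap f).subtype.prod (cmap f Y)

variable (hY : Y ≤ AddMonoidHom.mrange f)
include hY

theorem exists_repr : ∃ e : (Y.comap f) × f.range ≃ M × Y, ∀ n n' z, e (n + n', z) = jmap f Y n + e (n', z) := by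
  have hs := f.rangeRestrict_surjective
  let s := Function.surjInv hs
  have hfs : ∀ z : f.range, f (s z) = z := fun z => congrArg Subtype.val (Function.surjInv_eq hs z)
  have hmem : ∀ (m : M) (y : Y), f m - y ∈ f.range := fun m y => by
    obtain ⟨m', hm'⟩ := hY y.2
    exact ⟨m - m', by rw [map_sub, hm']⟩
  refine ⟨{
    toFun := fun p => (p.1.1 + s p.2, cmap f Y p.1)
    invFun := fun q => (⟨q.1 - s ⟨f q.1 - q.2, hmem q.1 q.2⟩, by
      show f _ ∈ Y
      rw [map_sub, hfs, sub_sub_cancel]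
      exact q.2.2⟩, ⟨f q.1 - q.2, hmem q.1 q.2⟩)
    left_inv := fun p => by
      have h2 : (⟨f (p.1.1 + s p.2) - (cmap f Y p.1 : Z), hmem _ _⟩ : f.range) = p.2 := Subtype.ext (by
        show f (p.1.1 + s p.2) - f p.1.1 = _
        rw [map_add, hfs, add_sub_cancel_left])
      ext
      · show p.1.1 + s p.2 - s _ = _
        rw [h2, add_sub_cancel_right]
      · exact congrArg Subtype.val h2
    right_inv := fun q => by
      ext
      · exact sub_add_cancel _ _
      · show f (q.1 - s _) = _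
        rw [map_sub, hfs, sub_sub_cancel] }, fun n n' z => ?_⟩
  ext
  · exact add_assoc _ _ _
  · show f ((n : M) + n') = f n + f n'
    exact map_add f _ _

omit hY in
theorem exists_repr_range : ∃ e : f.range × (Z ⧸ f.range) ≃ Z, ∀ n n' z, e (n + n', z) = f.range.subtype n + e (n', z) := by
  refine ⟨{
    toFun := fun p => p.1 + p.2.out
    invFun := fun z => (⟨z - (QuotientAddGroup.mk z : Z ⧸ f.range).out, by
      rw [← QuotientAddGroup.eq_zero_iff, QuotientAddGroup.mk_sub, QuotientAddGroup.out_eq', sub_self]⟩,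
      QuotientAddGroup.mk z)
    left_inv := fun p => by
      have h2 : (QuotientAddGroup.mk ((p.1 : Z) + p.2.out) : Z ⧸ f.range) = p.2 := by
        rw [QuotientAddGroup.mk_add, (QuotientAddGroup.eq_zero_iff _).mpr p.1.2, zero_add, QuotientAddGroup.out_eq']
      refine Prod.ext (Subtype.ext ?_) h2
      show (p.1 : Z) + p.2.out - _ = _
      rw [h2, add_sub_cancel_right]
    right_inv := fun z => sub_add_cancel _ _ }, fun n n' z => ?_⟩
  exact add_assoc _ _ _

/-- The inclusion of the magnet into the image. -/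
abbrev yr : Y →+ f.range := Y.subtype.codRestrict f.range.toAddSubmonoid (fun y => hY y.2)

variable {X T : Over S} (a : MonAct (AMonS S M) X) (ψ : (attr (a.restrict (AMonS.map S f)) Y).obj (op T))

/-- A family equivariant for `D(Z)` is equivariant for `D(f M)`. -/
theorem equivariant_range {W : Over S} (h : W ⟶ AMonS S f.range) (y : W ⟶ AMonS S Y) (t : W ⟶ T) :
    lift ((h ≫ AMonS.map S (yr f Y hY)) * y) t ≫ ψ.1 =
      lift (h ≫ AMonS.map S (fr f)) (lift y t ≫ ψ.1) ≫ a.act := by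
  obtain ⟨e, he⟩ := exists_repr_range f
  haveI : Nonempty (Z ⧸ f.range) := ⟨0⟩
  haveI := AMonFree.effectiveEpi f.range.subtype e he S (AMonS S Y ⊗ T)
  let F : AMonS S f.range ⊗ (AMonS S Y ⊗ T) ⟶ X :=
    lift ((fst _ (AMonS S Y ⊗ T) ≫ AMonS.map S (yr f Y hY)) * (snd _ (AMonS S Y ⊗ T) ≫ fst _ _)) (snd _ (AMonS S Y ⊗ T) ≫ snd _ _) ≫ ψ.1
  let G : AMonS S f.range ⊗ (AMonS S Y ⊗ T) ⟶ X :=
    lift (fst _ (AMonS S Y ⊗ T) ≫ AMonS.map S (fr f)) (snd (AMonS S f.range) (AMonS S Y ⊗ T) ≫ ψ.1) ≫ a.act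
  have hFG : F = G := by
    apply hom_ext_left (AMonS.map S f.range.subtype ▷ (AMonS S Y ⊗ T))
    have h1 := (MonAct.mem_eqvHom_iff ψ.1).mp ψ.2 _ (fst (AMonS S Z) (AMonS S Y ⊗ T)) (snd _ (AMonS S Y ⊗ T) ≫ fst _ _) (snd _ (AMonS S Y ⊗ T) ≫ snd _ _)
    rw [subAct_point, MonAct.lift_restrict_act, ← comp_lift, lift_fst_snd, Category.comp_id] at h1
    simp only [F, G, comp_lift_assoc, MonObj.comp_mul, whiskerRight_fst_assoc, whiskerRight_snd_assoc,
      whiskerRight_snd, ← AMonS.map_comp]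
    exact h1
  have h2 := congrArg (lift h (lift y t) ≫ ·) hFG
  simp only [F, G, comp_lift_assoc, MonObj.comp_mul, lift_fst_assoc, lift_snd_assoc, lift_fst, lift_snd] at h2
  exact h2

/-- Extension to `A(M × Y)`. -/
@[irreducible] noncomputable def ext : AMonS S (M × Y) ⊗ T ⟶ X :=
  lift (fst _ T ≫ AMonS.map S (AddMonoidHom.inl M Y))
    (lift (fst _ T ≫ AMonS.map S (AddMonoidHom.inr M Y)) (snd _ T) ≫ ψ.1) ≫ a.act

omit hY in
theorem lift_ext {W : Over S} (z : W ⟶ AMonS S (M × Y)) (t : W ⟶ T) :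
    lift z t ≫ ext f Y a ψ = lift (z ≫ AMonS.map S (AddMonoidHom.inl M Y))
      (lift (z ≫ AMonS.map S (AddMonoidHom.inr M Y)) t ≫ ψ.1) ≫ a.act := by
  unfold ext
  simp [comp_lift_assoc, comp_lift, lift_fst_assoc, lift_snd]

theorem exists_quotient_char {R : Type*} [CommMonoid R] (g g' : Multiplicative M →* R)
    (y y' : Multiplicative Y →* R)
    (h : ∀ n : Y.comap f, g (Multiplicative.ofAdd (n : M)) * y (Multiplicative.ofAdd (cmap f Y n)) =
      g' (Multiplicative.ofAdd (n : M)) * y' (Multiplicative.ofAdd (cmap f Y n))) :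
    ∃ h₀ : Multiplicative f.range →* R,
      (∀ m : M, g' (Multiplicative.ofAdd m) = g (Multiplicative.ofAdd m) * h₀ (Multiplicative.ofAdd (fr f m))) ∧
      ∀ q : Y, y (Multiplicative.ofAdd q) =
        h₀ (Multiplicative.ofAdd (yr f Y hY q)) * y' (Multiplicative.ofAdd q) := by
  let r : M → R := fun m => g' (Multiplicative.ofAdd m) * g (Multiplicative.ofAdd (-m))
  have hrm : ∀ m m', r (m + m') = r m * r m' := fun m m' => by
    simp only [r, neg_add, ofAdd_add, map_mul]
    exact mul_mul_mul_comm _ _ _ _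
  have hinv : ∀ m : M, g (Multiplicative.ofAdd m) * g (Multiplicative.ofAdd (-m)) = 1 := fun m => by
    rw [← map_mul, ← ofAdd_add, add_neg_cancel, ofAdd_zero, map_one]
  have hr : ∀ m, g (Multiplicative.ofAdd m) * r m = g' (Multiplicative.ofAdd m) := fun m => by
    simp only [r]
    rw [mul_left_comm, hinv, _root_.mul_one]
  have hker : ∀ m m' : M, f m = f m' → r m = r m' := by
    intro m m' hmm
    have hk : f (m - m') = 0 := by rw [map_sub, hmm, sub_self]
    let n : Y.comap f := ⟨m - m', by show f _ ∈ Y; rw [hk]; exact Y.zero_mem⟩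
    have h1 := h n
    rw [show cmap f Y n = 0 from Subtype.ext hk, ofAdd_zero, map_one, map_one, _root_.mul_one, _root_.mul_one] at h1
    have h2 : r (m - m') = 1 := by
      show g' (Multiplicative.ofAdd (n : M)) * g (Multiplicative.ofAdd (-(n : M))) = 1
      rw [← h1, hinv]
    calc r m = r (m - m' + m') := by rw [sub_add_cancel]
      _ = _ := by rw [hrm, h2, _root_.one_mul]
  have hs := f.rangeRestrict_surjective
  let s := Function.surjInv hs
  have hfs : ∀ x : f.range, f (s x) = x := fun x => congrArg Subtype.val (Function.surjInv_eq hs x)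
  refine ⟨{ toFun := fun x => r (s x.toAdd)
            map_one' := (hker _ 0 (by rw [hfs, map_zero]; rfl)).trans (by simp [r])
            map_mul' := fun x x' => by
              rw [← hrm]
              exact hker _ _ (by rw [map_add, hfs, hfs, hfs]; rfl) }, fun m => ?_, fun q => ?_⟩
  · exact (hr m).symm.trans (congrArg (_ * ·) (hker _ _ (hfs (fr f m)).symm))
  · obtain ⟨m, hm⟩ := hY q.2
    let n : Y.comap f := ⟨m, show f m ∈ Y from hm ▸ q.2⟩
    have h1 := h n
    rw [show cmap f Y n = q from Subtype.ext hm] at h1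
    show _ = r (s (yr f Y hY q)) * _
    rw [← hker m _ (hm.trans (hfs (yr f Y hY q)).symm)]
    show _ = g' (Multiplicative.ofAdd m) * g (Multiplicative.ofAdd (-m)) * _
    rw [mul_right_comm, ← h1, mul_right_comm, hinv, _root_.one_mul]

omit hY in
theorem jmap_point {W : Over S} (z : W ⟶ AMonS S (M × Y)) :
    z ≫ AMonS.map S (jmap f Y) = ((z ≫ AMonS.map S (AddMonoidHom.inl M Y)) ≫ AMonS.map S (Y.comap f).subtype) *
      ((z ≫ AMonS.map S (AddMonoidHom.inr M Y)) ≫ AMonS.map S (cmap f Y)) := by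
  rw [map_comp_point, map_comp_point]
  apply chi_injective
  refine MonoidHom.ext fun n => ?_
  rw [chi_mul, chi_map, chi_map, chi_map, ← map_mul]
  congr 1
  show Multiplicative.ofAdd _ = Multiplicative.ofAdd _
  congr 1
  ext <;> simp

theorem ext_eq_of_map_eq {W : Over S} (z z' : W ⟶ AMonS S (M × Y)) (t : W ⟶ T)
    (hz : z ≫ AMonS.map S (jmap f Y) = z' ≫ AMonS.map S (jmap f Y)) :
    lift z t ≫ ext f Y a ψ = lift z' t ≫ ext f Y a ψ := by
  rw [lift_ext f Y a ψ z t, lift_ext f Y a ψ z' t]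
  rw [jmap_point f Y z, jmap_point f Y z'] at hz
  generalize z ≫ AMonS.map S (AddMonoidHom.inl M Y) = g at hz ⊢
  generalize z' ≫ AMonS.map S (AddMonoidHom.inl M Y) = g' at hz ⊢
  generalize z ≫ AMonS.map S (AddMonoidHom.inr M Y) = y at hz ⊢
  generalize z' ≫ AMonS.map S (AddMonoidHom.inr M Y) = y' at hz ⊢
  obtain ⟨h₀, hg, hy⟩ := exists_quotient_char f Y hY (chi g) (chi g') (chi y) (chi y') fun n => by
    have h1 := congrArg (fun x => chi x (Multiplicative.ofAdd n)) hz
    simp only [chi_mul, chi_map] at h1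
    exact h1
  obtain ⟨h, hh⟩ := exists_chi_eq (S := S) (T := W) h₀
  have hg' : g' = g * (h ≫ AMonS.map S (fr f)) := by
    apply chi_injective
    refine MonoidHom.ext fun m => ?_
    rw [chi_mul, chi_map (fr f) h, hh]
    exact hg m.toAdd
  have hy' : y = (h ≫ AMonS.map S (yr f Y hY)) * y' := by
    apply chi_injective
    refine MonoidHom.ext fun q => ?_
    rw [chi_mul, chi_map (yr f Y hY) h, hh]
    exact hy q.toAdd
  rw [hy', equivariant_range f Y hY a ψ, hg', MonAct.lift_mul_act]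

omit hY in
theorem mem_of_desc (φ : AMonS S (Y.comap f) ⊗ T ⟶ X)
    [∀ B : Over S, EffectiveEpi (AMonS.map S (jmap f Y) ▷ B).left]
    (hp : ∀ (W : Over S) (z : W ⟶ AMonS S (M × Y)) (t : W ⟶ T),
      lift (z ≫ AMonS.map S (jmap f Y)) t ≫ φ = lift z t ≫ ext f Y a ψ) :
    MonAct.IsEquivariant ((subAct S M (Y.comap f)).prod (MonAct.trivial (AMonS S M) T)) a φ := by
  rw [MonAct.mem_eqvHom_iff]
  let F : AMonS S (Y.comap f) ⊗ (T ⊗ AMonS S M) ⟶ X :=
    lift (lift (snd _ _ ≫ snd T _) (fst _ _) ≫ (subAct S M (Y.comap f)).act) (snd _ _ ≫ fst T _) ≫ φ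
  let G : AMonS S (Y.comap f) ⊗ (T ⊗ AMonS S M) ⟶ X :=
    lift (snd _ _ ≫ snd T _) (lift (fst _ _) (snd _ _ ≫ fst T _) ≫ φ) ≫ a.act
  have hFG : F = G := by
    apply hom_ext_left (AMonS.map S (jmap f Y) ▷ (T ⊗ AMonS S M))
    apply hom_ext_lift₂
    intro W z c
    rw [← lift_comp_fst_snd c]
    generalize c ≫ fst T _ = t
    generalize c ≫ snd T (AMonS S M) = g
    simp only [F, G, lift_whiskerRight_assoc, comp_lift_assoc, comp_lift, lift_fst, lift_snd, lift_snd_assoc]
    rw [subAct_point (Y.comap f) g (z ≫ AMonS.map S (jmap f Y))]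
    have hz' : (g ≫ AMonS.map S (Y.comap f).subtype) * (z ≫ AMonS.map S (jmap f Y)) =
        ((g ≫ AMonS.map S (AddMonoidHom.fst M Y)) * z) ≫ AMonS.map S (jmap f Y) := by
      rw [MonObj.mul_comp, map_comp_point]
      congr 3
    rw [hz', hp W _ t, hp W z t, lift_ext f Y a ψ _ t, lift_ext f Y a ψ z t, MonObj.mul_comp, MonObj.mul_comp,
      map_comp_point, map_comp_point, AddMonoidHom.fst_comp_inl, AddMonoidHom.fst_comp_inr, map_zero_point,
      AttrComapInj.AMonS_map_id, Category.comp_id, MonAct.lift_mul_act]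
  intro W g b t
  have := congrArg (lift b (lift t g) ≫ ·) hFG
  simp only [F, G, comp_lift_assoc, comp_lift, lift_fst, lift_snd, lift_snd_assoc] at this
  exact this

omit hY in
theorem precomp_of_desc (φ : AMonS S (Y.comap f) ⊗ T ⟶ X)
    (hp : ∀ (W : Over S) (z : W ⟶ AMonS S (M × Y)) (t : W ⟶ T),
      lift (z ≫ AMonS.map S (jmap f Y)) t ≫ φ = lift z t ≫ ext f Y a ψ) :
    (AMonS.map S (cmap f Y) ▷ T) ≫ φ = ψ.1 := by
  apply hom_ext_lift₂
  intro W y t
  rw [lift_whiskerRight_assoc]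
  have hy : y ≫ AMonS.map S (cmap f Y) = (y ≫ AMonS.map S (AddMonoidHom.snd M Y)) ≫ AMonS.map S (jmap f Y) := by
    rw [map_comp_point]
    congr 2
  rw [hy, hp W _ t, lift_ext f Y a ψ _ t, map_comp_point, map_comp_point, AddMonoidHom.snd_comp_inl,
    eq_one_of_map_zero, AddMonoidHom.snd_comp_inr, AttrComapInj.AMonS_map_id, Category.comp_id, MonAct.lift_one_act]

theorem bijective_app : Function.Bijective (fun φ : (attr a (Y.comap f)).obj (op T) => (attrComap a f Y).app (op T) φ) := by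
  obtain ⟨e, he⟩ := exists_repr f Y hY
  haveI : Nonempty f.range := ⟨0⟩
  haveI : ∀ B : Over S, EffectiveEpi (AMonS.map S (jmap f Y) ▷ B).left := fun B =>
    AMonFree.effectiveEpi (jmap f Y) e he S B
  refine ⟨fun φ φ' hφ => Subtype.ext ?_, fun ψ => ?_⟩
  · have hc : (AMonS.map S (cmap f Y) ▷ T) ≫ φ.1 = (AMonS.map S (cmap f Y) ▷ T) ≫ φ'.1 := congrArg Subtype.val hφ
    apply hom_ext_left (AMonS.map S (jmap f Y) ▷ T)
    apply hom_ext_lift₂
    intro W z t
    rw [lift_whiskerRight_assoc, lift_whiskerRight_assoc]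
    have hz : z ≫ AMonS.map S (jmap f Y) = lift (z ≫ AMonS.map S (AddMonoidHom.inl M Y))
        ((z ≫ AMonS.map S (AddMonoidHom.inr M Y)) ≫ AMonS.map S (cmap f Y)) ≫ (subAct S M (Y.comap f)).act := by
      rw [subAct_point, ← jmap_point]
    rw [hz, (MonAct.mem_eqvHom_iff φ.1).mp φ.2, (MonAct.mem_eqvHom_iff φ'.1).mp φ'.2]
    have := congrArg (lift (z ≫ AMonS.map S (AddMonoidHom.inr M Y)) t ≫ ·) hc
    simp only [lift_whiskerRight_assoc] at this
    rw [this]
  · obtain ⟨φ, hφ⟩ := exists_desc (AMonS.map S (jmap f Y) ▷ T) (ext f Y a ψ) fun W u v huv => by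
      rw [← lift_comp_fst_snd u, ← lift_comp_fst_snd v, lift_whiskerRight, lift_whiskerRight] at huv
      have h1 := congrArg (· ≫ fst _ _) huv
      have h2 := congrArg (· ≫ snd _ _) huv
      simp only [lift_fst, lift_snd] at h1 h2
      rw [← lift_comp_fst_snd u, ← lift_comp_fst_snd v, h2]
      exact ext_eq_of_map_eq f Y hY a ψ _ _ _ h1
    have hp : ∀ (W : Over S) (z : W ⟶ AMonS S (M × Y)) (t : W ⟶ T),
        lift (z ≫ AMonS.map S (jmap f Y)) t ≫ φ = lift z t ≫ ext f Y a ψ := fun W z t => by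
      rw [← hφ, lift_whiskerRight_assoc]
    exact ⟨⟨φ, mem_of_desc f Y a ψ φ hp⟩, Subtype.ext (precomp_of_desc f Y a ψ φ hp)⟩

theorem isIso_attrComap : IsIso (attrComap a f Y) := by
  rw [NatTrans.isIso_iff_isIso_app]
  intro T
  rw [isIso_iff_bijective]
  exact bijective_app (T := unop T) f Y hY a

end Groth.Agent.H23.AttrComapGrp
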