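import Groth.Agent.H23.AMonPushout
import Mathlib.CategoryTheory.Limits.Types.Pullbacks

/-! The cartesian square of attractors attached to a face. -/

universe u

open CategoryTheory CategoryTheory.Limits MonoidalCategory CartesianMonoidalCategory MonObj AlgebraicGeometry
open Opposite Magnet

namespace Groth.Agent.H23.AttrFaceSquare

variable {S : Scheme.{u}} {M : Type} [AddCommMonoid M] {N N' L L' : AddSubmonoid M} {X : Over S}

theorem leg_equivariant {A : AddSubmonoid M} (r : AMonS S A ⟶ AMonS S N')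
    (hr : MonAct.IsEquivariant (subAct S M A) (subAct S M N') r) (a : MonAct (AMonS S M) X) (T : Over S)
    (k : AMonS S N' ⊗ T ⟶ X) (φ : AMonS S A ⊗ T ⟶ X) (hk : (r ▷ T) ≫ k = φ)
    (hφ : MonAct.IsEquivariant ((subAct S M A).prod (MonAct.trivial (AMonS S M) T)) a φ)
    {W : Over S} (g : W ⟶ AMonS S M) (b : W ⟶ AMonS S A) (t : W ⟶ T) :
    lift (lift g (b ≫ r) ≫ (subAct S M N').act) t ≫ k = lift g (lift (b ≫ r) t ≫ k) ≫ a.act := by
  have h := (MonAct.mem_eqvHom_iff φ).mp hφ W g b t
  rw [← hk, lift_whiskerRight_assoc, lift_whiskerRight_assoc, Category.assoc,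
    (MonAct.isEquivariant_iff _ _ _).mp hr] at h
  exact h

theorem isPullback (a : MonAct (AMonS S M) X) (hNL : N ≤ L) (hN'L' : N' ≤ L') (hL : IsFace L' L) (hN : IsFace N' N)
    (hdiff : (N' : Set M) = (L' : Set M) \ ((L : Set M) \ (N : Set M))) :
    IsPullback (attrMap a hN'L') (attrFace a hN) (attrFace a hL) (attrMap a hNL) := by
  refine IsPullback.of_forall_isPullback_app fun T => ?_
  have hp := AMonPushout.isPushout_whisker hNL hN'L' hL hN hdiff (unop T) (S := S)
  rw [Types.isPullback_iff]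
  refine ⟨?_, fun φ φ' h => Subtype.ext (hp.hom_ext (congrArg Subtype.val h.1) (congrArg Subtype.val h.2)),
    fun ψ φ h => ?_⟩
  · ext φ
    apply Subtype.ext
    show (AMonS.faceMap S hL ▷ unop T) ≫ (AMonS.map S (AddSubmonoid.inclusion hN'L') ▷ unop T) ≫ φ.1 =
      (AMonS.map S (AddSubmonoid.inclusion hNL) ▷ unop T) ≫ (AMonS.faceMap S hN ▷ unop T) ≫ φ.1
    rw [hp.w_assoc]
  · let k := hp.desc ψ.1 φ.1 (congrArg Subtype.val h)
    have e1 : MonAct.IsEquivariant (subAct S M L') (subAct S M N') (AMonS.map S (AddSubmonoid.inclusion hN'L')) :=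
      MonAct.isEquivariant_restrict_regular _ _ _ (by rw [← AMonS.map_comp]; rfl)
    have e2 := isEquivariant_faceMapS S hN
    refine ⟨⟨k, ?_⟩, Subtype.ext (hp.inl_desc _ _ _), Subtype.ext (hp.inr_desc _ _ _)⟩
    rw [MonAct.mem_eqvHom_iff]
    let F : AMonS S N' ⊗ (unop T ⊗ AMonS S M) ⟶ X :=
      lift (lift (snd _ _ ≫ snd (unop T) _) (fst _ _) ≫ (subAct S M N').act) (snd _ _ ≫ fst (unop T) _) ≫ k
    let G : AMonS S N' ⊗ (unop T ⊗ AMonS S M) ⟶ X :=
      lift (snd _ _ ≫ snd (unop T) _) (lift (fst _ _) (snd _ _ ≫ fst (unop T) _) ≫ k) ≫ a.act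
    have hFG : F = G := by
      apply AMonPushout.hom_ext_whisker hNL hN'L' hL hN hdiff
      · apply hom_ext_lift₂
        intro W b c
        rw [← lift_comp_fst_snd c]
        simp only [F, G, lift_whiskerRight_assoc, comp_lift_assoc, comp_lift, lift_fst, lift_snd, lift_snd_assoc]
        exact leg_equivariant _ e1 a _ k ψ.1 (hp.inl_desc _ _ _) ψ.2 _ b _
      · apply hom_ext_lift₂
        intro W b c
        rw [← lift_comp_fst_snd c]
        simp only [F, G, lift_whiskerRight_assoc, comp_lift_assoc, comp_lift, lift_fst, lift_snd, lift_snd_assoc]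
        exact leg_equivariant _ e2 a _ k φ.1 (hp.inr_desc _ _ _) φ.2 _ b _
    intro W g b t
    have := congrArg (lift b (lift t g) ≫ ·) hFG
    simp only [F, G, comp_lift_assoc, comp_lift, lift_fst, lift_snd, lift_snd_assoc] at this
    exact this

end Groth.Agent.H23.AttrFaceSquare
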