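import Groth.Agent.H23.RigidAb
import Groth.Agent.H23.GeomConn
import Groth.Prelude.Def_CGrpSh2
import Groth.Prelude.Def_Biext

/-!
Biadditive pairings of abelian schemes vanish.
-/

universe u

open CategoryTheory Limits AlgebraicGeometry MonoidalCategory CartesianMonoidalCategory Opposite

open scoped MonObj

namespace Groth.Agent.H23.Biadd

variable {S : Scheme.{u}} {A B C : Over S} [GrpObj A] [GrpObj B] [GrpObj C]

/-- A natural biadditive pairing of points of abelian schemes is trivial. -/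
theorem eq_one [Smooth A.hom] [IsProper A.hom] [GeometricallyConnected A.hom]
    [GeometricallyConnected B.hom] [IsSeparated C.hom]
    (F : ∀ T : Over S, (T ⟶ A) → (T ⟶ B) → (T ⟶ C))
    (hnat : ∀ {T T' : Over S} (f : T' ⟶ T) a b, F T' (f ≫ a) (f ≫ b) = f ≫ F T a b)
    (h1 : ∀ T a a' b, F T (a * a') b = F T a b * F T a' b)
    (h2 : ∀ T a b b', F T a (b * b') = F T a b * F T a b')
    (T : Over S) (a : T ⟶ A) (b : T ⟶ B) : F T a b = 1 := by
  haveI : GeometricallyReduced A.hom := RigidGamma.geometricallyReduced_of_smooth A.hom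
  let d := F (A ⊗ B) (fst A B) (snd A B)
  have hd : ∀ (T : Over S) (a : T ⟶ A) (b : T ⟶ B), F T a b = lift a b ≫ d := fun T a b => by
    rw [← hnat, lift_fst, lift_snd]
  have hl : ∀ T (b : T ⟶ B), F T 1 b = 1 := fun T b => by
    have h := h1 T 1 1 b
    rw [_root_.one_mul] at h
    exact mul_eq_left.mp h.symm
  have hr : ∀ T (a : T ⟶ A), F T a 1 = 1 := fun T a => by
    have h := h2 T a 1 1
    rw [_root_.one_mul] at h
    exact mul_eq_left.mp h.symm
  have h0 : d = 1 := by
    refine RigidAb.eq_one_of_slices d ?_ ?_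
    · rw [← hd, ← Hom.one_def]; exact hr _ _
    · rw [← hd, ← Hom.one_def]; exact hl _ _
  rw [hd, h0, MonObj.comp_one]

variable [IsCommMonObj A] [IsCommMonObj B] [IsCommMonObj C]

local notation "𝔖" => CGrpSh.pts Scheme.fppfPrecoverage

local notation "J₀" => QuotSh.J Scheme.fppfPrecoverage

variable (φ : 𝔖 A ⟶ HomSh.homSh (J₀ S) (𝔖 B) (𝔖 C))

/-- The morphism of sheaves attached to a point. -/
noncomputable def ev (T : Over S) (a : T ⟶ A) : (𝔖 B).over T ⟶ (𝔖 C).over T :=
  φ.hom.app (op T) (ULift.up (Additive.ofMul a))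

/-- The value of `ev` on a point. -/
noncomputable def pr (T : Over S) (a : T ⟶ A) (W : Over T) (b : W.left ⟶ B) : W.left ⟶ C :=
  Additive.toMul (ULift.down ((ev φ T a).hom.app (op W) (ULift.up (Additive.ofMul b))))

theorem pr_mul_right (T : Over S) (a : T ⟶ A) (W : Over T) (b b' : W.left ⟶ B) :
    pr φ T a W (b * b') = pr φ T a W b * pr φ T a W b' :=
  congrArg (fun x => Additive.toMul (ULift.down x))
    (map_add ((ev φ T a).hom.app (op W)).hom (ULift.up (Additive.ofMul b)) (ULift.up (Additive.ofMul b')))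

theorem ev_mul (T : Over S) (a a' : T ⟶ A) : ev φ T (a * a') = ev φ T a + ev φ T a' :=
  map_add (φ.hom.app (op T)).hom (ULift.up (Additive.ofMul a)) (ULift.up (Additive.ofMul a'))

theorem pr_mul_left (T : Over S) (a a' : T ⟶ A) (W : Over T) (b : W.left ⟶ B) :
    pr φ T (a * a') W b = pr φ T a W b * pr φ T a' W b := by
  unfold pr
  rw [ev_mul]
  rfl

theorem pr_res (T : Over S) (a : T ⟶ A) {W W' : Over T} (g : W' ⟶ W) (b : W.left ⟶ B) :
    pr φ T a W' (g.left ≫ b) = g.left ≫ pr φ T a W b :=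
  congrArg (fun x => Additive.toMul (ULift.down x))
    (ConcreteCategory.congr_hom ((ev φ T a).hom.naturality g.op) (ULift.up (Additive.ofMul b)))

theorem ev_res {T T' : Over S} (f : T' ⟶ T) (a : T ⟶ A) :
    ev φ T' (f ≫ a) = ((J₀ S).overMapPullback AddCommGrpCat.{u + 1} f).map (ev φ T a) :=
  ConcreteCategory.congr_hom (φ.hom.naturality f.op) (ULift.up (Additive.ofMul a))

theorem pr_base {T T' : Over S} (f : T' ⟶ T) (a : T ⟶ A) (W : Over T') (b : W.left ⟶ B) :
    pr φ T' (f ≫ a) W b = pr φ T a ((Over.map f).obj W) b := by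
  unfold pr
  rw [ev_res]
  rfl

theorem pr_eq (T : Over S) (a : T ⟶ A) (W : Over T) (b : W.left ⟶ B) :
    pr φ T a W b = pr φ W.left (W.hom ≫ a) (Over.mk (𝟙 W.left)) b := by
  rw [pr_base]
  let g : (Over.map W.hom).obj (Over.mk (𝟙 W.left)) ⟶ W := Over.homMk (𝟙 _) (by simp)
  exact ((pr_res φ T a g b).trans (Category.id_comp _)).symm.trans
    (congrArg (pr φ T a _) (Category.id_comp b))

theorem pr_nat {T T' : Over S} (f : T' ⟶ T) (a : T ⟶ A) (b : T ⟶ B) :
    pr φ T' (f ≫ a) (Over.mk (𝟙 T')) (f ≫ b) = f ≫ pr φ T a (Over.mk (𝟙 T)) b := by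
  let g : Over.mk f ⟶ Over.mk (𝟙 T) := Over.homMk f (Category.comp_id f)
  have h1 : pr φ T a (Over.mk f) (g.left ≫ b) = g.left ≫ pr φ T a (Over.mk (𝟙 T)) b :=
    pr_res φ T a (W := Over.mk (𝟙 T)) (W' := Over.mk f) g b
  have h2 := pr_eq φ T a (Over.mk f) (f ≫ b)
  exact h2.symm.trans h1

theorem hom_eq_zero [Smooth A.hom] [IsProper A.hom] [GeometricallyConnected A.hom]
    [GeometricallyConnected B.hom] [IsSeparated C.hom] : φ = 0 := by
  have key := eq_one (fun (T : Over S) (a : T ⟶ A) (b : T ⟶ B) => (pr φ T a (Over.mk (𝟙 T)) b : T ⟶ C))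
    (fun {T T'} f a b => pr_nat φ f a b)
    (fun T a a' b => pr_mul_left φ T a a' (Over.mk (𝟙 T)) b)
    (fun T a b b' => pr_mul_right φ T a (Over.mk (𝟙 T)) b b')
  refine Sheaf.hom_ext (NatTrans.ext (funext fun T => ?_))
  ext x
  refine Sheaf.hom_ext (NatTrans.ext (funext fun W => ?_))
  ext b
  exact congrArg (fun y => ULift.up (Additive.ofMul y))
    ((pr_eq φ T.unop x.down.toMul W.unop b.down.toMul).trans (key _ _ _))

end Groth.Agent.H23.Biadd
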