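import Groth.Prelude.Def_Biext
import Mathlib.CategoryTheory.Sites.Sheaf

/-!
An endomorphism of a biextension is given by a biadditive pairing.
-/

universe u

open CategoryTheory Opposite

namespace Groth.Agent.H23.BiextEnd

variable {C : Type (u + 1)} [Category.{u} C] {J : GrothendieckTopology C}
  {P Q G : Sheaf J AddCommGrpCat.{u + 1}} (B : Biext J P Q G)

theorem isSheaf (G : Sheaf J AddCommGrpCat.{u + 1}) : Presieve.IsSheaf J (G.obj ⋙ forget AddCommGrpCat.{u + 1}) :=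
  (isSheaf_iff_isSheaf_of_type _ _).1 ((sheafCompose J (forget AddCommGrpCat.{u + 1})).obj G).2

theorem sections_ext (G : Sheaf J AddCommGrpCat.{u + 1}) {T : C} {R : Sieve T} (hR : R ∈ J T)
    {v w : G.obj.obj (op T)} (h : ∀ ⦃T' : C⦄ (k : T' ⟶ T), R k → G.obj.map k.op v = G.obj.map k.op w) : v = w :=
  (isSheaf G R hR).isSeparatedFor.ext fun _ k hk => h k hk

theorem res_res (G : Sheaf J AddCommGrpCat.{u + 1}) {T T' T'' : C} (f : T' ⟶ T) (g : T'' ⟶ T')
    (v : G.obj.obj (op T)) : G.obj.map g.op (G.obj.map f.op v) = G.obj.map (g ≫ f).op v := by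
  rw [op_comp, G.obj.map_comp, ConcreteCategory.comp_apply]

variable (f : Biext.Hom J B B)

theorem exists_g (T : C) (x : B.E.obj.obj (op T)) :
    ∃! g : G.obj.obj (op T), B.act T g x = f.map T x :=
  B.existsUnique_act T x (f.map T x) (f.πP_map T x).symm (f.πQ_map T x).symm

/-- The translation by which `f` moves a section. -/
noncomputable def gOf (T : C) (x : B.E.obj.obj (op T)) : G.obj.obj (op T) :=
  (exists_g B f T x).exists.choose

theorem gOf_spec (T : C) (x : B.E.obj.obj (op T)) : B.act T (gOf B f T x) x = f.map T x :=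
  (exists_g B f T x).exists.choose_spec

theorem gOf_unique (T : C) (x : B.E.obj.obj (op T)) {g : G.obj.obj (op T)} (h : B.act T g x = f.map T x) :
    gOf B f T x = g :=
  (exists_g B f T x).unique (gOf_spec B f T x) h

theorem gOf_res {T T' : C} (k : T' ⟶ T) (x : B.E.obj.obj (op T)) :
    gOf B f T' (B.E.obj.map k.op x) = G.obj.map k.op (gOf B f T x) := by
  apply gOf_unique
  rw [← B.act_map, gOf_spec, f.map_res]

theorem gOf_fibre (T : C) (x y : B.E.obj.obj (op T)) (hP : B.πP T x = B.πP T y) (hQ : B.πQ T x = B.πQ T y) :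
    gOf B f T x = gOf B f T y := by
  obtain ⟨h, hh, -⟩ := B.existsUnique_act T x y hP hQ
  symm
  apply gOf_unique
  rw [← hh, f.map_act, ← gOf_spec B f T x, ← B.add_act, ← B.add_act]
  rw [add_comm]
  rfl

theorem add₁_congr (T : C) {x x' z z' : B.E.obj.obj (op T)} (hx : x = x') (hz : z = z')
    (h : B.πQ T x = B.πQ T z) : B.add₁ T x z h = B.add₁ T x' z' (hx ▸ hz ▸ h) := by
  subst hx; subst hz; rfl

theorem add₂_congr (T : C) {x x' z z' : B.E.obj.obj (op T)} (hx : x = x') (hz : z = z')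
    (h : B.πP T x = B.πP T z) : B.add₂ T x z h = B.add₂ T x' z' (hx ▸ hz ▸ h) := by
  subst hx; subst hz; rfl

theorem gOf_add₁ (T : C) (x z : B.E.obj.obj (op T)) (h : B.πQ T x = B.πQ T z) :
    gOf B f T (B.add₁ T x z h) = gOf B f T x + gOf B f T z := by
  have h' : B.πQ T x = B.πQ T (B.act T (gOf B f T z) z) := by rw [B.πQ_act]; exact h
  apply gOf_unique
  rw [f.map_add₁, add₁_congr B T (gOf_spec B f T x).symm (gOf_spec B f T z).symm,
    B.add₁_act T _ _ _ h', B.add₁_comm T x _ h', B.add₁_act T _ _ _ h.symm, B.add₁_comm T z x h.symm,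
    B.add_act]

theorem gOf_add₂ (T : C) (x z : B.E.obj.obj (op T)) (h : B.πP T x = B.πP T z) :
    gOf B f T (B.add₂ T x z h) = gOf B f T x + gOf B f T z := by
  have h' : B.πP T x = B.πP T (B.act T (gOf B f T z) z) := by rw [B.πP_act]; exact h
  apply gOf_unique
  rw [f.map_add₂, add₂_congr B T (gOf_spec B f T x).symm (gOf_spec B f T z).symm,
    B.add₂_act T _ _ _ h', B.add₂_comm T x _ h', B.add₂_act T _ _ _ h.symm, B.add₂_comm T z x h.symm,
    B.add_act]

/-- `v` is the translation above `(p, q)`. -/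
def Rel (T : C) (p : P.obj.obj (op T)) (q : Q.obj.obj (op T)) (v : G.obj.obj (op T)) : Prop :=
  ∀ ⦃T' : C⦄ (k : T' ⟶ T) (x : B.E.obj.obj (op T')), B.πP T' x = P.obj.map k.op p →
    B.πQ T' x = Q.obj.map k.op q → gOf B f T' x = G.obj.map k.op v

theorem exists_rel (T : C) (p : P.obj.obj (op T)) (q : Q.obj.obj (op T)) : ∃ v, Rel B f T p q v := by
  obtain ⟨R, hR, hlift⟩ := B.locallySurjective T p q
  choose x hxP hxQ using hlift
  let fam : Presieve.FamilyOfElements (G.obj ⋙ forget AddCommGrpCat.{u + 1}) R.arrows :=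
    fun T' k hk => gOf B f T' (x k hk)
  have hc : fam.Compatible := by
    intro T₁ T₂ Z g₁ g₂ k₁ k₂ hk₁ hk₂ e
    show G.obj.map g₁.op (gOf B f T₁ (x k₁ hk₁)) = G.obj.map g₂.op (gOf B f T₂ (x k₂ hk₂))
    rw [← gOf_res, ← gOf_res]
    apply gOf_fibre
    · rw [B.πP_map, B.πP_map, hxP, hxP, res_res, res_res, e]
    · rw [B.πQ_map, B.πQ_map, hxQ, hxQ, res_res, res_res, e]
  obtain ⟨v, hv, -⟩ := isSheaf G R hR fam hc
  refine ⟨v, fun T' k y hyP hyQ => sections_ext G (J.pullback_stable k hR) fun T'' l hl => ?_⟩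
  rw [res_res, ← gOf_res]
  have h := hv (l ≫ k) hl
  refine Eq.trans ?_ h.symm
  apply gOf_fibre
  · rw [B.πP_map, hxP, hyP, res_res]
  · rw [B.πQ_map, hxQ, hyQ, res_res]

theorem rel_unique (T : C) (p : P.obj.obj (op T)) (q : Q.obj.obj (op T)) {v w : G.obj.obj (op T)}
    (hv : Rel B f T p q v) (hw : Rel B f T p q w) : v = w := by
  obtain ⟨R, hR, hlift⟩ := B.locallySurjective T p q
  refine sections_ext G hR fun T' k hk => ?_
  obtain ⟨x, hP, hQ⟩ := hlift k hk
  rw [← hv k x hP hQ, ← hw k x hP hQ]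

theorem rel_res {T T' : C} (k : T' ⟶ T) {p : P.obj.obj (op T)} {q : Q.obj.obj (op T)} {v : G.obj.obj (op T)}
    (hv : Rel B f T p q v) : Rel B f T' (P.obj.map k.op p) (Q.obj.map k.op q) (G.obj.map k.op v) := by
  intro T'' l x hP hQ
  rw [res_res] at hP hQ ⊢
  exact hv _ x hP hQ

theorem rel_add₁ {T : C} {p p' : P.obj.obj (op T)} {q : Q.obj.obj (op T)} {v w : G.obj.obj (op T)}
    (hv : Rel B f T p q v) (hw : Rel B f T p' q w) : Rel B f T (p + p') q (v + w) := by
  intro T' k y hP hQ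
  obtain ⟨R, hR, hl⟩ := B.locallySurjective T' (P.obj.map k.op p) (Q.obj.map k.op q)
  obtain ⟨R', hR', hl'⟩ := B.locallySurjective T' (P.obj.map k.op p') (Q.obj.map k.op q)
  refine sections_ext G (J.intersection_covering hR hR') fun T'' l ⟨hk, hk'⟩ => ?_
  obtain ⟨x, hxP, hxQ⟩ := hl l hk
  obtain ⟨z, hzP, hzQ⟩ := hl' l hk'
  have h : B.πQ T'' x = B.πQ T'' z := hxQ.trans hzQ.symm
  rw [← gOf_res, gOf_fibre B f T'' _ (B.add₁ T'' x z h)
    (by rw [B.πP_map, hP, B.πP_add₁, hxP, hzP, map_add, map_add])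
    (by rw [B.πQ_map, hQ, B.πQ_add₁, hxQ]), gOf_add₁, res_res, map_add]
  rw [res_res] at hxP hxQ hzP hzQ
  rw [hv _ x hxP hxQ, hw _ z hzP hzQ]

theorem rel_add₂ {T : C} {p : P.obj.obj (op T)} {q q' : Q.obj.obj (op T)} {v w : G.obj.obj (op T)}
    (hv : Rel B f T p q v) (hw : Rel B f T p q' w) : Rel B f T p (q + q') (v + w) := by
  intro T' k y hP hQ
  obtain ⟨R, hR, hl⟩ := B.locallySurjective T' (P.obj.map k.op p) (Q.obj.map k.op q)
  obtain ⟨R', hR', hl'⟩ := B.locallySurjective T' (P.obj.map k.op p) (Q.obj.map k.op q')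
  refine sections_ext G (J.intersection_covering hR hR') fun T'' l ⟨hk, hk'⟩ => ?_
  obtain ⟨x, hxP, hxQ⟩ := hl l hk
  obtain ⟨z, hzP, hzQ⟩ := hl' l hk'
  have h : B.πP T'' x = B.πP T'' z := hxP.trans hzP.symm
  rw [← gOf_res, gOf_fibre B f T'' _ (B.add₂ T'' x z h)
    (by rw [B.πP_map, hP, B.πP_add₂, hxP])
    (by rw [B.πQ_map, hQ, B.πQ_add₂, hxQ, hzQ, map_add, map_add]), gOf_add₂, res_res, map_add]
  rw [res_res] at hxP hxQ hzP hzQ
  rw [hv _ x hxP hxQ, hw _ z hzP hzQ]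

/-- An endomorphism is the identity when every biadditive pairing vanishes. -/
theorem eq_id (h : ∀ F : ∀ T : C, P.obj.obj (op T) → Q.obj.obj (op T) → G.obj.obj (op T),
      (∀ {T T' : C} (k : T' ⟶ T) p q, F T' (P.obj.map k.op p) (Q.obj.map k.op q) = G.obj.map k.op (F T p q)) →
      (∀ T p p' q, F T (p + p') q = F T p q + F T p' q) →
      (∀ T p q q', F T p (q + q') = F T p q + F T p q') → ∀ T p q, F T p q = 0) :
    f = Biext.HomOver.id J B := by
  choose F hF using exists_rel B f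
  have h0 := h F (fun k p q => rel_unique B f _ _ _ (hF _ _ _) (rel_res B f k (hF _ p q)))
    (fun T p p' q => rel_unique B f _ _ _ (hF _ _ _) (rel_add₁ B f (hF _ _ _) (hF _ _ _)))
    (fun T p q q' => rel_unique B f _ _ _ (hF _ _ _) (rel_add₂ B f (hF _ _ _) (hF _ _ _)))
  apply Biext.HomOver.ext'
  intro T x
  have hg := hF T (B.πP T x) (B.πQ T x) (𝟙 T) x (by simp) (by simp)
  rw [h0, map_zero] at hg
  rw [← gOf_spec B f T x, hg, B.zero_act]
  rfl

end Groth.Agent.H23.BiextEnd
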