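import Groth.Agent.H23.Biadd
import Groth.Agent.H23.BiextEnd

/-!
Biextensions of abelian schemes by abelian schemes are rigid.
-/

universe u

open CategoryTheory Limits AlgebraicGeometry MonoidalCategory CartesianMonoidalCategory Opposite

open scoped MonObj

namespace Groth.Agent.H23.Biadd

variable {S : Scheme.{u}} {A B C : Over S} [GrpObj A] [GrpObj B] [GrpObj C]
  [IsCommMonObj A] [IsCommMonObj B] [IsCommMonObj C]

/-- Additive points of a group scheme. -/
noncomputable abbrev up {T G : Over S} [GrpObj G] [IsCommMonObj G] (a : T ⟶ G) :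
    (CGrpSh.pts Scheme.fppfPrecoverage G).obj.obj (op T) :=
  ULift.up (Additive.ofMul a)

theorem biext_hom_eq_id [Smooth A.hom] [IsProper A.hom] [GeometricallyConnected A.hom]
    [GeometricallyConnected B.hom] [IsSeparated C.hom]
    (E : Biext (QuotSh.J Scheme.fppfPrecoverage S) (CGrpSh.pts Scheme.fppfPrecoverage A)
      (CGrpSh.pts Scheme.fppfPrecoverage B) (CGrpSh.pts Scheme.fppfPrecoverage C))
    (f : Biext.Hom (QuotSh.J Scheme.fppfPrecoverage S) E E) :
    f = Biext.HomOver.id (QuotSh.J Scheme.fppfPrecoverage S) E := by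
  refine BiextEnd.eq_id E f fun F hres h1 h2 T p q => ?_
  have key := eq_one (C := C) (fun (T : Over S) (a : T ⟶ A) (b : T ⟶ B) => Additive.toMul (F T (up a) (up b)).down)
    (fun {T T'} k a b => congrArg (fun x => Additive.toMul (ULift.down x)) (hres k (up a) (up b)))
    (fun T a a' b => congrArg (fun x => Additive.toMul (ULift.down x)) (h1 T (up a) (up a') (up b)))
    (fun T a b b' => congrArg (fun x => Additive.toMul (ULift.down x)) (h2 T (up a) (up b) (up b')))
    T p.down.toMul q.down.toMul
  exact congrArg (fun y => ULift.up (Additive.ofMul y)) key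

end Groth.Agent.H23.Biadd
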