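import Mathlib.LinearAlgebra.BilinearForm.Properties
import Mathlib.LinearAlgebra.BilinearForm.Orthogonal
import Mathlib.LinearAlgebra.Eigenspace.Basic
import Mathlib.Algebra.Polynomial.Reverse
import Mathlib.Algebra.Polynomial.Module.Basic
import Mathlib.RingTheory.Coprime.Lemmas
import Mathlib.Algebra.Polynomial.AlgebraMap
import Mathlib.RingTheory.Artinian.Module
import Mathlib.RingTheory.SimpleModule.Basic
import Mathlib.Tactic.LinearCombination
import Mathlib.Tactic.Ring

/-! Bilinear forms preserved, up to a scalar, by an automorphism. -/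

open Polynomial

namespace Groth.Agent.H23.BilinInv

variable {k : Type*} [Field k] {V : Type*} [AddCommGroup V] [Module k V]

theorem reflect_identity (B : LinearMap.BilinForm k V) (f : Module.End k V)
    (hf : ∀ x y, B (f x) (f y) = B x y) (Q : k[X]) (N : ℕ) (hN : Q.natDegree ≤ N) (x z : V) :
    B (aeval f Q x) ((f ^ N) z) = B x (aeval f (Q.reflect N) z) := by
  have key : ∀ i, ∀ a b : V, B ((f ^ i) a) ((f ^ i) b) = B a b := by
    intro i
    induction i with
    | zero => intro a b; rfl
    | succ i ih =>
      intro a b
      rw [pow_succ', Module.End.mul_apply, Module.End.mul_apply, hf, ih]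
  refine Polynomial.induction_with_natDegree_le
    (fun Q => B (aeval f Q x) ((f ^ N) z) = B x (aeval f (Q.reflect N) z)) N ?_ ?_ ?_ Q hN
  · simp
  · intro i c _ hi
    rw [reflect_C_mul_X_pow]
    simp only [aeval_mul, aeval_C, map_pow, aeval_X, Module.End.mul_apply,
      Module.algebraMap_end_apply, map_smul, LinearMap.smul_apply, revAt_le hi]
    have : (f ^ N) z = (f ^ i) ((f ^ (N - i)) z) := by
      rw [← Module.End.mul_apply, ← pow_add, Nat.add_sub_cancel' hi]
    rw [this, key]
  · intro P R _ _ hP hR
    simp only [reflect_add, map_add, LinearMap.add_apply, hP, hR]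

theorem orth_of_coprime (B : LinearMap.BilinForm k V) (f : Module.End k V)
    (hf : ∀ x y, B (f x) (f y) = B x y) (P R : k[X]) (h : IsCoprime P.reverse R) (x y : V)
    (hx : aeval f P x = 0) (hy : aeval f R y = 0) : B x y = 0 := by
  obtain ⟨a, b, hab⟩ := h
  have h1 : y = aeval f P.reverse (aeval f a y) := by
    have := congrArg (fun p => aeval f p y) hab
    simp only [map_add, map_mul, map_one, LinearMap.add_apply, Module.End.mul_apply, hy, map_zero,
      add_zero, Module.End.one_apply] at this
    conv_lhs => rw [← this]
    rw [← Module.End.mul_apply, ← Module.End.mul_apply, ← map_mul, ← map_mul, mul_comm a]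
  rw [h1, Polynomial.reverse, ← reflect_identity B f hf P P.natDegree le_rfl, hx]
  simp

/-- If `P` kills `x`, then `x` is orthogonal to the range of the reverse of `P`. -/
theorem orth_range (B : LinearMap.BilinForm k V) (f : Module.End k V)
    (hf : ∀ x y, B (f x) (f y) = B x y) (P : k[X]) (x z : V) (hx : aeval f P x = 0) :
    B x (aeval f P.reverse z) = 0 := by
  rw [Polynomial.reverse, ← reflect_identity B f hf P P.natDegree le_rfl, hx]
  simp

theorem reverse_pow (P : k[X]) (n : ℕ) : (P ^ n).reverse = P.reverse ^ n := by
  induction n with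
  | zero => rw [pow_zero, pow_zero, ← C_1, reverse_C]
  | succ n ih => rw [pow_succ, pow_succ, reverse_mul_of_domain, ih]

/-- Similitudes: generalised eigenspaces are orthogonal unless the eigenvalues multiply to the multiplier. -/
theorem orth_genEigen (B : LinearMap.BilinForm k V) (f : Module.End k V) (q : k)
    (hf : ∀ x y, B (f x) (f y) = q * B x y) (a b : k) (hab : a * b ≠ q) :
    ∀ (n m : ℕ) (x y : V), ((f - a • 1) ^ n) x = 0 → ((f - b • 1) ^ m) y = 0 → B x y = 0 := by
  intro n
  induction n with
  | zero => intro m x y hx _; simp at hx; simp [hx]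
  | succ n ihn =>
    intro m
    induction m with
    | zero => intro x y _ hy; simp at hy; simp [hy]
    | succ m ihm =>
      intro x y hx hy
      set x' := (f - a • 1) x with hx'
      set y' := (f - b • 1) y with hy'
      have hx1 : ((f - a • 1) ^ n) x' = 0 := by rw [hx', ← Module.End.mul_apply, ← pow_succ]; exact hx
      have hy1 : ((f - b • 1) ^ m) y' = 0 := by rw [hy', ← Module.End.mul_apply, ← pow_succ]; exact hy
      have hy1' : ((f - b • 1) ^ (m + 1)) y' = 0 := by rw [pow_succ', Module.End.mul_apply, hy1, map_zero]
      have e1 : B x' y = 0 := ihn (m + 1) x' y hx1 hy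
      have e2 : B x' y' = 0 := ihn (m + 1) x' y' hx1 hy1'
      have e3 : B x y' = 0 := ihm x y' hx hy1
      have hfx : f x = a • x + x' := by rw [hx']; simp
      have hfy : f y = b • y + y' := by rw [hy']; simp
      have := hf x y
      rw [hfx, hfy] at this
      simp only [map_add, map_smul, LinearMap.add_apply, LinearMap.smul_apply, smul_eq_mul, e1, e2, e3] at this
      have : (a * b - q) * B x y = 0 := by rw [sub_mul, sub_eq_zero, ← this]; ring
      exact (mul_eq_zero.mp this).resolve_left (sub_ne_zero.mpr hab)

theorem orth_genEigen_range (B : LinearMap.BilinForm k V) (f : Module.End k V) (q : k)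
    (hf : ∀ x y, B (f x) (f y) = q * B x y) :
    ∀ (n : ℕ) (x z : V), ((f - (1 : k) • 1) ^ n) x = 0 → B x (((f - q • 1) ^ n) z) = 0 := by
  intro n
  induction n with
  | zero => intro x z hx; simp at hx; simp [hx]
  | succ n ih =>
    intro x z hx
    set w := ((f - q • 1) ^ n) z with hw
    have hx1 : ((f - (1 : k) • 1) ^ n) ((f - (1 : k) • 1) x) = 0 := by
      rw [← Module.End.mul_apply, ← pow_succ]; exact hx
    have hc : (f - q • 1) * f = f * (f - q • 1) := by simp [mul_sub, sub_mul, mul_smul_comm]
    have hfw : f w = ((f - q • 1) ^ n) (f z) := by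
      rw [hw, ← Module.End.mul_apply, ← Module.End.mul_apply, (Commute.pow_left (hc : Commute _ _) n).eq]
    have h0 := ih _ (f z) hx1
    rw [← hfw] at h0
    rw [pow_succ', Module.End.mul_apply, ← hw]
    simp only [LinearMap.sub_apply, LinearMap.smul_apply, Module.End.one_apply, one_smul, map_sub,
      map_smul, smul_eq_mul] at h0 ⊢
    rw [hf] at h0
    linear_combination -h0 + 0

end Groth.Agent.H23.BilinInv
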