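import Groth.Agent.H23.DivPull
import Groth.Agent.CycLib.RatSum
import Groth.Agent.CycLib.Supp
import Groth.Agent.FDescent.MaxPoint

/-! Flat pull-back preserves rational equivalence. -/

set_option autoImplicit false
set_option linter.style.haveILetI false

universe u

open AlgebraicGeometry CategoryTheory TopologicalSpace

namespace Groth.Agent.H23.DivPull

open Groth.Agent FiniteFibreSum FlatShift

variable {X X' : Scheme.{u}}

theorem finite_gens_inter (p : X' ⟶ X) [IsLocallyNoetherian X'] (ξ : X) {V : Set X'} (hV : IsCompact V) :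
    ({z : X' | p z = ξ ∧ FibDim.FibMax p z} ∩ V).Finite := by
  let T : Set X' := p ⁻¹' closure {ξ}
  have hT : IsClosed T := isClosed_closure.preimage p.continuous
  have hfin := (CycLib.locallyFinite_components hT).finite_nonempty_inter_compact hV
  let S := {z : X' | p z = ξ ∧ FibDim.FibMax p z} ∩ V
  have hmemT : ∀ z : S, z.1 ∈ T := fun z => by
    show p z.1 ∈ closure {ξ}
    rw [z.2.1.1]; exact subset_closure rfl
  have hmax : ∀ z : S, ∀ w : ↥T, w ⤳ (⟨z.1, hmemT z⟩ : ↥T) → w = ⟨z.1, hmemT z⟩ := fun z w hw => by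
    have hw' : w.1 ⤳ z.1 := hw.map continuous_subtype_val
    refine Subtype.ext (z.2.1.2 _ hw' ?_)
    rw [z.2.1.1]
    exact ((specializes_iff_mem_closure.2 (show p w.1 ∈ closure {ξ} from w.2)).antisymm
      (z.2.1.1 ▸ hw'.map p.continuous)).eq.symm
  haveI : QuasiSober ↥T := hT.isClosedEmbedding_subtypeVal.quasiSober
  let e : S → irreducibleComponents ↥T := fun z =>
    ⟨closure {⟨z.1, hmemT z⟩}, FDescent.closure_mem_irreducibleComponents (hmax z)⟩
  have he : Function.Injective e := fun z w h => by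
    have h' : closure ({⟨z.1, hmemT z⟩} : Set ↥T) = closure {⟨w.1, hmemT w⟩} := congrArg Subtype.val h
    have h1 : (⟨w.1, hmemT w⟩ : ↥T) ⤳ ⟨z.1, hmemT z⟩ :=
      specializes_iff_mem_closure.2 (h' ▸ subset_closure rfl)
    exact Subtype.ext (congrArg Subtype.val (hmax z _ h1)).symm
  haveI := (Set.Finite.subset hfin (show Set.range e ⊆ _ by
    rintro _ ⟨z, rfl⟩
    exact ⟨z.1, ⟨⟨z.1, hmemT z⟩, subset_closure rfl, rfl⟩, z.2.2⟩)).to_subtype
  exact Set.finite_coe_iff.1 (Finite.of_injective (fun z => (⟨e z, Set.mem_range_self z⟩ : Set.range e))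
    fun z w h => he (congrArg Subtype.val h))

theorem divFun_pow [IsLocallyNoetherian X] {δ : X → ℤ} (hd : Cyc.IsDimFun X δ) {ξ : X}
    {f : X.residueField ξ} (hf : f ≠ 0) (n : ℕ) (x : X) :
    Cyc.divFun δ ξ (f ^ n) x = (n : ℤ) * Cyc.divFun δ ξ f x := by
  induction n with
  | zero =>
    have h := congrFun (CycLib.divFun_mul hd (ξ := ξ) (one_ne_zero (α := X.residueField ξ)) one_ne_zero) x
    rw [mul_one, Pi.add_apply] at h
    rw [pow_zero, Nat.cast_zero, zero_mul]
    omega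
  | succ n ih =>
    rw [pow_succ, CycLib.divFun_mul hd (pow_ne_zero n hf) hf, Pi.add_apply, ih]
    push_cast
    ring

theorem pullRes_ne_zero (p : X' ⟶ X) {ξ : X} {z : X'} (hz : p z = ξ) {g : X.residueField ξ} (hg : g ≠ 0) :
    pullRes p hz g ≠ 0 := (map_ne_zero _).2 ((map_ne_zero _).2 hg)

theorem ratEquivZero_pull (p : X' ⟶ X) [Flat p] [IsLocallyNoetherian X] [IsLocallyNoetherian X'] {δ : X → ℤ}
    {δ' : X' → ℤ} {c : ℤ} (hc : HasShift p δ' δ c) (hd : Cyc.IsDimFun X δ) (hd' : Cyc.IsDimFun X' δ') {k : ℤ}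
    {α : AlgebraicCycle X ℤ} (h : Cyc.RatEquivZero δ k α) (α' : AlgebraicCycle X' ℤ)
    (hα' : ⇑α' = Cyc.pullFun p δ' δ c ⇑α) : Cyc.RatEquivZero δ' (k + c) α' := by
  classical
  obtain ⟨ι, ξ, g, hξ, hg, hloc, hsum⟩ := h
  let ι' := Σ i : ι, {z : X' // p z = ξ i ∧ FibDim.FibMax p z}
  refine ⟨ι', fun j => j.2.1, fun j => pullRes p j.2.2.1 (g j.1) ^ (fibreLen p j.2.1).toNat, fun j => ?_,
    fun j => pow_ne_zero _ (pullRes_ne_zero p j.2.2.1 (hg j.1)), fun x' => ?_, fun x' => ?_⟩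
  · rw [hc.eq_of_fibMax j.2.2.2, j.2.2.1, hξ]
    ring
  · obtain ⟨U, hUo, hxU, hfin⟩ := hloc (p x')
    obtain ⟨V, hV, hxV, hVU⟩ := exists_isAffineOpen_mem_and_subset (x := x') (U := p ⁻¹ᵁ ⟨U, hUo⟩) hxU
    refine ⟨V, V.2, hxV, ?_⟩
    refine ((hfin.toFinset.finite_toSet.biUnion fun i _ =>
      (finite_gens_inter p (ξ i) hV.isCompact).image fun z =>
        if hz : p z = ξ i ∧ FibDim.FibMax p z then some (⟨i, z, hz⟩ : ι') else none).preimage
      (f := some) (Option.some_injective _).injOn).subset ?_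
    rintro ⟨i, z, hz⟩ ⟨w, hw, hwV⟩
    have hzV : z ∈ V := (specializes_iff_mem_closure.2 hw).mem_open V.2 hwV
    refine Set.mem_biUnion (show i ∈ (hfin.toFinset : Set ι) from hfin.mem_toFinset.2 ?_)
      ⟨z, ⟨hz, hzV⟩, by simp only [dif_pos hz]⟩
    exact ⟨ξ i, subset_closure rfl, hz.1 ▸ (hVU hzV : p z ∈ U)⟩
  · have hterm : ∀ j : ι', Cyc.divFun δ' j.2.1 (pullRes p j.2.2.1 (g j.1) ^ (fibreLen p j.2.1).toNat) x' =
        term p δ' (g j.1) x' j.2.1 := fun j => by
      rw [divFun_pow hd' (pullRes_ne_zero p j.2.2.1 (hg j.1)), term, dif_pos j.2.2.1]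
    simp only [hterm]
    obtain ⟨U, hUo, hxU, hfin⟩ := hloc (p x')
    let S := hfin.toFinset
    have hS : ∀ i ∉ S, Cyc.divFun δ (ξ i) (g i) (p x') = 0 := fun i hi => by_contra fun hne =>
      hi (hfin.mem_toFinset.2 ⟨p x', CycLib.mem_closure_of_divFun_ne_zero hne, hxU⟩)
    have hz : ∀ i, ∀ z, p z = ξ i → term p δ' (g i) x' z ≠ 0 → z ⤳ x' := fun i z hz hne => by
      rw [term, dif_pos hz] at hne
      exact specializes_iff_mem_closure.2 (CycLib.mem_closure_of_divFun_ne_zero (right_ne_zero_of_mul hne))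
    obtain ⟨V, hV, hxV, -⟩ := exists_isAffineOpen_mem_and_subset (x := x') (U := ⊤) trivial
    have hfinT : ∀ i, ({z : X' | p z = ξ i ∧ FibDim.FibMax p z} ∩ Function.support (term p δ' (g i) x')).Finite :=
      fun i => (finite_gens_inter p (ξ i) hV.isCompact).subset fun z h1 =>
        ⟨h1.1, (hz i z h1.1.1 h1.2).mem_open V.2 hxV⟩
    have hsupp : (Function.support fun j : ι' => term p δ' (g j.1) x' j.2.1).Finite := by
      refine ((S.finite_toSet.biUnion fun i _ => (hfinT i).image fun z =>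
        if hz : p z = ξ i ∧ FibDim.FibMax p z then some (⟨i, z, hz⟩ : ι') else none).preimage
        (f := some) (Option.some_injective _).injOn).subset ?_
      rintro ⟨i, z, hzz⟩ hne
      refine Set.mem_biUnion (show i ∈ (S : Set ι) from hfin.mem_toFinset.2 ?_) ⟨z, ⟨hzz, hne⟩, by simp only [dif_pos hzz]⟩
      exact ⟨p x', specializes_iff_mem_closure.1 (hzz.1 ▸ (hz i z hzz.1 hne).map p.continuous), hxU⟩
    rw [congrFun hα' x']
    have e : Cyc.pullFun p δ' δ c ⇑α x' = ∑ i ∈ S, Cyc.pullFun p δ' δ c (Cyc.divFun δ (ξ i) (g i)) x' := by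
      simp only [Cyc.pullFun]
      split_ifs
      · rw [hsum, finsum_eq_sum_of_support_subset (s := S) _ fun i hi => by_contra fun hn => hi (hS i hn),
          Finset.sum_mul]
      · simp
    rw [e, finsum_eq_sum_of_support_subset (s := hsupp.toFinset) _ (by simp),
      ← Finset.sum_fiberwise_of_maps_to (g := fun j : ι' => j.1) (t := S) fun j hj => by
        rw [Set.Finite.mem_toFinset] at hj
        exact hfin.mem_toFinset.2 ⟨p x', specializes_iff_mem_closure.1
          (j.2.2.1 ▸ (hz j.1 j.2.1 j.2.2.1 hj).map p.continuous), hxU⟩]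
    refine Finset.sum_congr rfl fun i _ => ?_
    rw [pullFun_divFun p hc hd hd' (hg i) x', finsum_mem_eq_sum _ (hfinT i)]
    refine Finset.sum_bij' (fun z hz' => (⟨i, z, ((hfinT i).mem_toFinset.1 hz').1⟩ : ι')) (fun j _ => j.2.1)
      (fun z hz' => ?_) (fun j hj => ?_) (fun z _ => rfl) (fun j hj => ?_) (fun z _ => rfl)
    · rw [Finset.mem_filter, Set.Finite.mem_toFinset]
      exact ⟨((hfinT i).mem_toFinset.1 hz').2, rfl⟩
    · obtain ⟨hj1, rfl⟩ := Finset.mem_filter.1 hj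
      exact (hfinT _).mem_toFinset.2 ⟨j.2.2, hsupp.mem_toFinset.1 hj1⟩
    · obtain ⟨-, rfl⟩ := Finset.mem_filter.1 hj
      rfl

end Groth.Agent.H23.DivPull
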