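import Groth.Agent.H23.RatLine
import Groth.Agent.H23.ProjBd.Ops
import Groth.Agent.PointBlow.Step
import Groth.Agent.CycLib.CurveDeg
import Groth.Agent.Lib.NormalPush

/-!
# Zero-cycles on the blowing up at a point
-/

set_option autoImplicit false
set_option linter.style.haveILetI false
set_option backward.isDefEq.respectTransparency false
set_option backward.isDefEq.respectTransparency.types false
set_option maxHeartbeats 1000000

universe u

open CategoryTheory AlgebraicGeometry TopologicalSpace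

noncomputable section

namespace Groth.Agent.H23.BlowPoint

open Groth.Agent Groth.Agent.H23.RatLine Groth.Agent.H23.ProjBd

variable {X Y : Scheme.{u}} {δX : X → ℤ} {δY : Y → ℤ}

/-- Principal divisors lift along points with the same residue field. -/
theorem exists_lift_div (f : X ⟶ Y) [IsProper f] (hX : Cyc.IsSetup X δX) (hY : Cyc.IsSetup Y δY)
    (hδ : Cyc.DeltaCompat f δX δY) (k : ℤ) {ξ : X} (hξ : δX ξ = k + 1) (hξ' : δY (f ξ) = k + 1)
    (hiso : Function.Bijective (f.residueFieldMap ξ)) {g : Y.residueField (f ξ)} (hg : g ≠ 0) :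
    ∃ d : AlgebraicCycle X ℤ, Cyc.RatEquivZero δX k d ∧ d ∈ Cyc.Zk X δX k ∧
      ⇑(AlgebraicCycle.map f δX δY d) = Cyc.divFun δY (f ξ) g := by
  haveI := hX.1
  haveI := hY.1
  have hg' : f.residueFieldMap ξ g ≠ 0 := (map_ne_zero_iff _ hiso.1).2 hg
  refine ⟨CycLib.divCycle hX.2.2 ξ _ hg', ⟨PUnit, fun _ => ξ, fun _ => _, fun _ => hξ, fun _ => hg',
    fun x => ⟨Set.univ, isOpen_univ, trivial, Set.toFinite _⟩, fun x => ?_⟩, fun x hx => ?_, ?_⟩
  · rw [CycLib.coe_divCycle]
    exact (finsum_unique (fun _ : PUnit => Cyc.divFun δX ξ (f.residueFieldMap ξ g) x)).symm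
  · rw [CycLib.coe_divCycle, Cyc.divFun, dif_neg]
    rintro ⟨-, h⟩
    omega
  · funext y
    rw [CycLib.map_apply']
    refine Eq.trans (CycLib.map_divFun_of_eq f hX.2.2 hY.2.2 hδ (hξ.trans hξ'.symm) hg' y) ?_
    congr 1
    letI := (f.residueFieldMap ξ).hom.toAlgebra
    show Algebra.norm (Y.residueField (f ξ)) (algebraMap (Y.residueField (f ξ)) (X.residueField ξ) g) = g
    have h1 : Module.finrank (Y.residueField (f ξ)) (X.residueField ξ) = 1 := by
      have l : Y.residueField (f ξ) ≃ₗ[Y.residueField (f ξ)] X.residueField ξ :=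
        LinearEquiv.ofBijective (Algebra.linearMap _ _) hiso
      rw [← l.finrank_eq, Module.finrank_self]
    rw [Algebra.norm_algebraMap, h1, pow_one]

/-- The push-forward of cycles as a homomorphism. -/
def pushHom (f : X ⟶ Y) [QuasiCompact f] (δX : X → ℤ) (δY : Y → ℤ) : AlgebraicCycle X ℤ →+ AlgebraicCycle Y ℤ :=
  AddMonoidHom.ofMapSub (AlgebraicCycle.map f δX δY) (CycLib.map_sub' f δX δY)

@[simp] theorem pushHom_apply (f : X ⟶ Y) [QuasiCompact f] (δX : X → ℤ) (δY : Y → ℤ) (c : AlgebraicCycle X ℤ) :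
    pushHom f δX δY c = AlgebraicCycle.map f δX δY c := rfl

/-- A class killed by push-forward has a representative with push-forward zero. -/
theorem exists_rep (f : X ⟶ Y) [IsProper f] [CompactSpace Y] (hX : Cyc.IsSetup X δX) (hY : Cyc.IsSetup Y δY)
    (hδ : Cyc.DeltaCompat f δX δY) (k : ℤ)
    (hlift : ∀ η : Y, δY η = k + 1 → ∃ ξ, f ξ = η ∧ δX ξ = k + 1 ∧ Function.Bijective (f.residueFieldMap ξ))
    {z : AlgebraicCycle X ℤ} (hz : z ∈ Cyc.Zk X δX k) (h : Cyc.RatEquivZero δY k (AlgebraicCycle.map f δX δY z)) :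
    ∃ z₁ : AlgebraicCycle X ℤ, z₁ ∈ Cyc.Zk X δX k ∧ Cyc.RatEquivZero δX k (z - z₁) ∧
      AlgebraicCycle.map f δX δY z₁ = 0 := by
  classical
  haveI := hX.1
  obtain ⟨I, η, g, hη, hg, hfin, hsum⟩ := h
  haveI : Finite I := by
    choose U hU hxU hUf using hfin
    obtain ⟨t, ht⟩ := isCompact_univ.elim_finite_subcover U hU fun x _ => Set.mem_iUnion.2 ⟨x, hxU x⟩
    refine Set.finite_univ_iff.1 ((t.finite_toSet.biUnion fun x _ => hUf x).subset fun i _ => ?_)
    obtain ⟨x, hxt, hx⟩ := Set.mem_iUnion₂.1 (ht (Set.mem_univ (η i)))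
    exact Set.mem_biUnion hxt ⟨η i, subset_closure rfl, hx⟩
  letI := Fintype.ofFinite I
  have hd : ∀ i, ∃ d : AlgebraicCycle X ℤ, Cyc.RatEquivZero δX k d ∧ d ∈ Cyc.Zk X δX k ∧
      ⇑(AlgebraicCycle.map f δX δY d) = Cyc.divFun δY (η i) (g i) := fun i => by
    obtain ⟨ξ, hξη, hξ, hiso⟩ := hlift (η i) (hη i)
    have key : ∀ η' (g' : Y.residueField η'), f ξ = η' → δY η' = k + 1 → g' ≠ 0 →
        ∃ d : AlgebraicCycle X ℤ, Cyc.RatEquivZero δX k d ∧ d ∈ Cyc.Zk X δX k ∧
          ⇑(AlgebraicCycle.map f δX δY d) = Cyc.divFun δY η' g' := by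
      rintro η' g' rfl hη' hg'
      exact exists_lift_div f hX hY hδ k hξ hη' hiso hg'
    exact key _ _ hξη (hη i) (hg i)
  choose d hdr hdz hdm using hd
  refine ⟨z - ∑ i, d i, fun x hx => ?_, ?_, ?_⟩
  · rw [Function.locallyFinsuppWithin.coe_sub, Pi.sub_apply, Function.locallyFinsuppWithin.coe_sum, Finset.sum_apply,
      hz x hx, Finset.sum_eq_zero fun i _ => hdz i x hx, sub_zero]
  · rw [sub_sub_cancel]
    exact (ratZero hX.2.2 k).sum_mem fun i _ => hdr i
  · refine Function.locallyFinsuppWithin.ext fun y => ?_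
    rw [← pushHom_apply, map_sub, map_sum, Function.locallyFinsuppWithin.coe_sub, Pi.sub_apply,
      Function.locallyFinsuppWithin.coe_sum, Finset.sum_apply, pushHom_apply, hsum y, finsum_eq_sum_of_fintype]
    simp only [pushHom_apply, hdm, sub_self]
    rfl

section Base

variable {k : Type u} [Field k] {c : Y ⟶ Spec (CommRingCat.of k)} [LocallyOfFiniteType c]

theorem closed_of_delta_eq_zero (hY : Cyc.IsSetup Y δY) (hδ : Cyc.DeltaCompat c δY (fun _ => 0)) [CompactSpace Y]
    {y : Y} (hy : δY y = 0) : IsClosed ({y} : Set Y) := by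
  obtain ⟨e, he, hec⟩ := IsClosed.exists_closed_singleton (isClosed_closure (s := {y})) ⟨y, subset_closure rfl⟩
  obtain rfl : y = e := CycLib.eq_of_delta_le hY.2.2 (specializes_iff_mem_closure.2 he)
    (by rw [hy, delta_closed c hδ hec])
  exact hec

/-- Push-forward of a closed point. -/
theorem map_pc [IsAlgClosed k] (f : X ⟶ Y) [QuasiCompact f] [LocallyOfFiniteType f]
    (hX : Cyc.DeltaCompat (f ≫ c) δX (fun _ => 0)) (hY : Cyc.DeltaCompat c δY (fun _ => 0))
    {a : X} (ha : δX a = 0) (hb : δY (f a) = 0) : AlgebraicCycle.map f δX δY (pc a) = pc (f a) := by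
  classical
  refine Function.locallyFinsuppWithin.ext fun z => ?_
  have hdeg : f.residueDegree a = 1 := by
    have h := residueDegree_closed (f ≫ c) hX ha
    rw [CycLib.residueDegree_comp, residueDegree_closed c hY hb] at h
    simpa using h
  rw [CycLib.map_apply', pc_apply]
  by_cases hz : z = f a
  · subst hz
    rw [if_pos rfl, finsum_mem_def, finsum_eq_single _ a fun b hb => ?_]
    · rw [Set.indicator_of_mem (show a ∈ f ⁻¹' {f a} from rfl), pc_apply, if_pos rfl,
        AlgebraicCycle.mapCoeff, if_pos (ha.trans hb.symm), hdeg]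
      rfl
    · by_cases hb' : b ∈ f ⁻¹' {f a}
      · rw [Set.indicator_of_mem hb', pc_apply, if_neg hb, zero_mul]
      · exact Set.indicator_of_notMem hb' _
  · rw [if_neg hz]
    refine finsum_mem_eq_zero_of_forall_eq_zero fun b hb => ?_
    rw [pc_apply, if_neg (fun h => hz (by rw [← h]; exact (hb : f b = z).symm)), zero_mul]

/-- A finite cycle is the sum of its points. -/
theorem eq_sum_pc {Z : Scheme.{u}} [CompactSpace Z] (α : AlgebraicCycle Z ℤ) :
    ∃ S : Finset Z, (∀ w, w ∈ S ↔ α w ≠ 0) ∧ α = ∑ w ∈ S, α w • pc w := by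
  classical
  have hfin : (Function.support ⇑α).Finite := by
    simpa using α.locallyFiniteSupport.finite_inter_support_of_isCompact (isCompact_univ : IsCompact (Set.univ : Set Z))
  refine ⟨hfin.toFinset, fun w => by simp, Function.locallyFinsuppWithin.ext fun v => ?_⟩
  rw [Function.locallyFinsuppWithin.coe_sum, Finset.sum_apply]
  by_cases hv : α v = 0
  · rw [hv, Finset.sum_eq_zero]
    intro w hw
    rw [Function.locallyFinsuppWithin.coe_zsmul, Pi.smul_apply, pc_apply, if_neg, smul_zero]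
    rintro rfl
    exact (hfin.mem_toFinset.1 hw) hv
  · rw [Finset.sum_eq_single_of_mem v (hfin.mem_toFinset.2 hv) fun w _ hw => by
      rw [Function.locallyFinsuppWithin.coe_zsmul, Pi.smul_apply, pc_apply, if_neg hw.symm, smul_zero],
      Function.locallyFinsuppWithin.coe_zsmul, Pi.smul_apply, pc_apply, if_pos rfl, smul_eq_mul, mul_one]

/-- Surjectivity on classes of points. -/
theorem exists_preimage [IsAlgClosed k] (f : X ⟶ Y) [IsProper f] [CompactSpace Y] [CompactSpace X]
    (hYs : Cyc.IsSetup Y δY) (hX : Cyc.DeltaCompat (f ≫ c) δX (fun _ => 0)) (hY : Cyc.DeltaCompat c δY (fun _ => 0))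
    (hsurj : Function.Surjective f) {α : AlgebraicCycle Y ℤ} (hα : α ∈ Cyc.Zk Y δY 0) :
    ∃ z : AlgebraicCycle X ℤ, z ∈ Cyc.Zk X δX 0 ∧ AlgebraicCycle.map f δX δY z = α := by
  classical
  obtain ⟨S, hS, hsum⟩ := eq_sum_pc α
  have h : ∀ y : S, ∃ a : X, f a = y ∧ δX a = 0 := fun y => by
    have hy : δY y.1 = 0 := by_contra fun h => (hS y.1).1 y.2 (hα y.1 h)
    obtain ⟨b, hb⟩ := hsurj y.1
    obtain ⟨a, ha, hac⟩ := IsClosed.exists_closed_singleton
      ((closed_of_delta_eq_zero hYs hY hy).preimage f.continuous) ⟨b, hb⟩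
    exact ⟨a, ha, delta_closed (f ≫ c) hX hac⟩
  choose a ha hδa using h
  refine ⟨∑ y : S, α y.1 • pc (a y), fun x hx => ?_, ?_⟩
  · rw [Function.locallyFinsuppWithin.coe_sum, Finset.sum_apply]
    refine Finset.sum_eq_zero fun y _ => ?_
    rw [Function.locallyFinsuppWithin.coe_zsmul, Pi.smul_apply, pc_apply, if_neg, smul_zero]
    rintro rfl
    exact hx (hδa y)
  · rw [← pushHom_apply, map_sum]
    conv_rhs => rw [hsum, ← Finset.sum_coe_sort]
    refine Finset.sum_congr rfl fun y _ => ?_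
    have hy : δY (f (a y)) = 0 := by rw [ha]; exact by_contra fun h => (hS y.1).1 y.2 (hα y.1 h)
    rw [map_zsmul, pushHom_apply, map_pc f hX hY (hδa y) hy, ha]

end Base

end Groth.Agent.H23.BlowPoint
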