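import Groth.Agent.H23.RatCurvesPts
import Groth.Agent.H23.RatExtend
import Groth.Agent.H28.ExcCharts
import Groth.Agent.RegBlow6.Algebra
import Groth.Agent.S5802
import Groth.Agent.SmoothImmX.Basic
import Groth.Agent.ASB24.TautProj
import Groth.Agent.Approx.ValExt
import Groth.Agent.PointBlow.Step
import Mathlib.AlgebraicGeometry.AlgClosed.Basic

/-!
# Lines in the exceptional fibre of the blowing up at a smooth point
-/

set_option autoImplicit false
set_option linter.style.haveILetI false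
set_option backward.isDefEq.respectTransparency false
set_option backward.isDefEq.respectTransparency.types false
set_option maxHeartbeats 1000000

universe u

open CategoryTheory AlgebraicGeometry TopologicalSpace

noncomputable section

namespace Groth.Agent.H23.BlowPoint

open Groth.Agent Groth.Agent.CycLib Groth.Agent.H23.RatLine MvPolynomial

variable {k : Type u} [Field k]

theorem valuationRing_stalk_projLine (y : CohB1.ProjSpace 1 k) :
    ∃ hdom : IsDomain ((CohB1.ProjSpace 1 k).presheaf.stalk y),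
      @ValuationRing ((CohB1.ProjSpace 1 k).presheaf.stalk y) _ hdom := by
  obtain ⟨j, hj⟩ := ProjUPX.cov_X (R := k) (n := 1) y
  rw [← Proj.opensRange_awayι _ (X j : MvPolynomial (Fin (1 + 1)) k) (ProjPt.X_mem j) one_pos] at hj
  obtain ⟨w, rfl⟩ := hj
  let A := HomogeneousLocalization.Away (CohB1.polyGrading 1 k) (X j : MvPolynomial (Fin (1 + 1)) k)
  let P := (show PrimeSpectrum A from w).asIdeal
  haveI : IsDomain (Localization.AtPrime P) :=
    IsLocalization.isDomain_localization P.primeCompl_le_nonZeroDivisors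
  haveI : IsPrincipalIdealRing (Localization.AtPrime P) := ⟨fun I => by
    obtain ⟨b, hb⟩ := (IsPrincipalIdealRing.principal (I.under A)).principal
    refine ⟨algebraMap A _ b, ?_⟩
    conv_lhs => rw [← IsLocalization.map_comap P.primeCompl (Localization.AtPrime P) I]
    rw [hb]
    simp [Ideal.submodule_span_eq, Ideal.map_span]⟩
  haveI : ValuationRing (Localization.AtPrime P) := inferInstance
  let e₂ : Localization.AtPrime P ≃+* (CohB1.ProjSpace 1 k).presheaf.stalk (RatLine.ι k j w) :=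
    ((StructureSheaf.stalkIso A w).toRingEquiv).trans
      (asIso ((RatLine.ι k j).stalkMap w)).commRingCatIsoToRingEquiv.symm
  have hd : IsDomain ((CohB1.ProjSpace 1 k).presheaf.stalk (RatLine.ι k j w)) :=
    e₂.symm.injective.isDomain e₂.symm.toRingHom
  exact ⟨hd, RatExtend.valuationRing_of_ringEquiv e₂⟩

/-- The point with affine coordinate `c`. -/
def evc (c : k) : HomogeneousLocalization.Away (CohB1.polyGrading 1 k) (X 0 : MvPolynomial (Fin (1 + 1)) k) →+* k :=
  ProjPt.coordHom (CohB1.polyGrading 1 k) (eval₂Hom (RingHom.id k) ![1, c]) (t := X 0) (by simp)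

theorem evc_ψ (c : k) : (evc c).comp (RatLine.ψ k 0 1) = Polynomial.evalRingHom c := by
  refine Polynomial.ringHom_ext (fun r => ?_) ?_
  · simp only [RingHom.comp_apply, RatLine.ψ, Polynomial.coe_eval₂RingHom, Polynomial.eval₂_C,
      Polynomial.coe_evalRingHom, Polynomial.eval_C]
    rw [evc, ProjPt.coordHom_cst]
    simp
  · simp only [RingHom.comp_apply, RatLine.ψ, Polynomial.coe_eval₂RingHom, Polynomial.eval₂_X,
      Polynomial.coe_evalRingHom, Polynomial.eval_X]
    rw [evc, ProjPt.coordHom_crd _ _ _ (by simp)]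
    simp

/-- An affine line in a proper scheme extends to a projective line. -/
theorem exists_projLine {Y : Scheme.{u}} (q : Y ⟶ Spec (CommRingCat.of k)) [IsProper q]
    (m : Spec (CommRingCat.of (Polynomial k)) ⟶ Y) (hm : m ≫ q = Spec.map (CommRingCat.ofHom Polynomial.C)) :
    ∃ g : CohB1.ProjSpace 1 k ⟶ Y, g ≫ q = CohB1.ProjSpace.toSpec 1 k ∧
      ∀ (c : k) (t : Spec (CommRingCat.of k)),
        (Spec.map (CommRingCat.ofHom (Polynomial.evalRingHom c)) ≫ m) t ∈ Set.range g := by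
  haveI := H23.PnChart.isIntegral_projSpace 1 k
  let U : (CohB1.ProjSpace 1 k).Opens := (RatLine.ι k 0).opensRange
  let f : U.toScheme ⟶ Y :=
    (RatLine.ι k 0).isoOpensRange.inv ≫ Spec.map (CommRingCat.ofHom (RatLine.ψ k 0 1)) ≫ m
  have hf : f ≫ q = U.ι ≫ CohB1.ProjSpace.toSpec 1 k := by
    have h1 : U.ι = (RatLine.ι k 0).isoOpensRange.inv ≫ RatLine.ι k 0 :=
      (Scheme.Hom.isoOpensRange_inv_comp _).symm
    rw [h1]
    simp only [f, Category.assoc, hm]
    congr 1
    rw [RatLine.ι, ASB24.Taut.awayι_toSpec, ← Spec.map_comp, ← CommRingCat.ofHom_comp]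
    congr 2
    exact Polynomial.eval₂RingHom_comp_C _ _ |>.trans rfl
  have hpt : ∀ (c : k) (t : Spec (CommRingCat.of k)),
      ∃ w : U.toScheme, f w = (Spec.map (CommRingCat.ofHom (Polynomial.evalRingHom c)) ≫ m) t := fun c t => by
    refine ⟨(RatLine.ι k 0).isoOpensRange.hom (Spec.map (CommRingCat.ofHom (evc c)) t), ?_⟩
    have h2 : Spec.map (CommRingCat.ofHom (evc c)) ≫ (RatLine.ι k 0).isoOpensRange.hom ≫ f =
        Spec.map (CommRingCat.ofHom (Polynomial.evalRingHom c)) ≫ m := by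
      dsimp only [f]
      erw [Iso.hom_inv_id_assoc]
      rw [← Spec.map_comp_assoc, ← CommRingCat.ofHom_comp, evc_ψ]
    rw [← h2]
    rfl
  suffices ∃ (U' : (CohB1.ProjSpace 1 k).Opens) (hUU' : U ≤ U'), U' = ⊤ ∧ ∃ f' : U'.toScheme ⟶ Y,
      f' ≫ q = U'.ι ≫ CohB1.ProjSpace.toSpec 1 k ∧ (CohB1.ProjSpace 1 k).homOfLE hUU' ≫ f' = f by
    obtain ⟨U', hUU', rfl, f', hf', hres⟩ := this
    refine ⟨(CohB1.ProjSpace 1 k).topIso.inv ≫ f', ?_, fun c t => ?_⟩
    · rw [Category.assoc, hf', ← Category.assoc, Scheme.toIso_inv_ι, Category.id_comp]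
    · obtain ⟨w, hw⟩ := hpt c t
      refine ⟨(CohB1.ProjSpace 1 k).topIso.hom ((CohB1.ProjSpace 1 k).homOfLE hUU' w), ?_⟩
      rw [← hw, ← hres, ← Scheme.Hom.comp_apply, Iso.hom_inv_id_assoc]
      rfl
  by_cases hU : U = ⊤
  · exact ⟨U, le_rfl, hU, f, hf, by rw [Scheme.homOfLE_rfl, Category.id_comp]⟩
  obtain ⟨y, hy⟩ : ∃ y, y ∉ U := by
    by_contra h
    push Not at h
    exact hU (top_le_iff.1 fun y _ => h y)
  obtain ⟨hdom, hval⟩ := valuationRing_stalk_projLine y
  have hne : (U : Set (CohB1.ProjSpace 1 k)).Nonempty := by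
    obtain ⟨w, hw⟩ := hpt 0 (pt k)
    exact ⟨_, w.2⟩
  haveI : Nonempty ((⊤ : (CohB1.ProjSpace 1 k).Opens) : Scheme.{u}) := ⟨⟨y, trivial⟩⟩
  haveI : IsIntegral ((⊤ : (CohB1.ProjSpace 1 k).Opens) : Scheme.{u}) :=
    isIntegral_of_isOpenImmersion (CohB1.ProjSpace 1 k).topIso.hom
  obtain ⟨U', hUU', hyU', f', hf', hres⟩ := Approx.ValExt.exists_extension_sup (CohB1.ProjSpace.toSpec 1 k) q y U f hf
    ((U.2.dense hne).closure_eq ▸ trivial) ⊤ trivial hdom hval
  refine ⟨U', hUU', top_le_iff.1 fun z _ => ?_, f', hf', hres⟩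
  by_cases hz : z ∈ U
  · exact hUU' hz
  · rwa [RatLine.subsingleton_compl_chart k 0 (show z ∉ Set.range (RatLine.ι k 0) from hz)
      (show y ∉ Set.range (RatLine.ι k 0) from hy)]

section Chart

variable {A : Type u} [CommRing A] {n : ℕ} {a : Fin n → A} {j : Fin n}

/-- Maps out of a chart of the blowing up, killing the centre. -/
theorem exists_chartHom (hq : CAlgX.IsQuasiRegular a) {R : Type u} [CommRing R] (φ : A →+* R)
    (hφ : ∀ l, φ (a l) = 0) (v : {l // l ≠ j} → R) :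
    ∃ Λ : RegBlow6.chartAlg a j →+* R, Λ.comp (algebraMap A _) = φ ∧ ∀ l, Λ (RegBlow6.coord a j l) = v l := by
  have hI : RegBlow6.cI a ≤ RingHom.ker φ := Ideal.span_le.2 (by
    rintro _ ⟨l, rfl⟩
    exact hφ l)
  have hker : RingHom.ker (RegBlow6.pres a j).toRingHom ≤ RingHom.ker (eval₂Hom φ v) := fun p hp => by
    rw [RingHom.mem_ker, coe_eval₂Hom, eval₂_eq]
    exact Finset.sum_eq_zero fun e _ => by
      rw [RingHom.mem_ker.1 (hI (RegBlow6.coeff_mem_of_pres_eq_zero hq (RingHom.mem_ker.1 hp) e)), zero_mul]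
  refine ⟨RingHom.liftOfSurjective (RegBlow6.pres a j).toRingHom (RegBlow6.pres_surjective a j)
    ⟨eval₂Hom φ v, hker⟩, RingHom.ext fun r => ?_, fun l => ?_⟩
  · have := RingHom.liftOfSurjective_comp_apply (RegBlow6.pres a j).toRingHom (RegBlow6.pres_surjective a j)
      ⟨eval₂Hom φ v, hker⟩ (C r)
    simpa [RegBlow6.pres] using this
  · have := RingHom.liftOfSurjective_comp_apply (RegBlow6.pres a j).toRingHom (RegBlow6.pres_surjective a j)
      ⟨eval₂Hom φ v, hker⟩ (X l)
    simpa [RegBlow6.pres] using this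

theorem chartHom_ext {R : Type u} [CommRing R] {Λ Λ' : RegBlow6.chartAlg a j →+* R}
    (h : Λ.comp (algebraMap A _) = Λ'.comp (algebraMap A _))
    (hc : ∀ l, Λ (RegBlow6.coord a j l) = Λ' (RegBlow6.coord a j l)) : Λ = Λ' := by
  have h2 : Λ.comp (RegBlow6.pres a j).toRingHom = Λ'.comp (RegBlow6.pres a j).toRingHom := by
    refine MvPolynomial.ringHom_ext (fun r => ?_) fun l => ?_
    · simpa [RegBlow6.pres] using RingHom.congr_fun h r
    · simpa [RegBlow6.pres] using hc l
  refine RingHom.ext fun x => ?_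
  obtain ⟨p, rfl⟩ := RegBlow6.pres_surjective a j x
  exact RingHom.congr_fun h2 p

/-- The line through two points of a chart. -/
theorem exists_line (hq : CAlgX.IsQuasiRegular a) (θ θ' : RegBlow6.chartAlg a j →+* k)
    (h : θ.comp (algebraMap A _) = θ'.comp (algebraMap A _)) (hθ : ∀ l, θ (algebraMap A _ (a l)) = 0) :
    ∃ Λ : RegBlow6.chartAlg a j →+* Polynomial k,
      Λ.comp (algebraMap A _) = Polynomial.C.comp (θ.comp (algebraMap A _)) ∧
      (Polynomial.evalRingHom 0).comp Λ = θ ∧ (Polynomial.evalRingHom 1).comp Λ = θ' := by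
  obtain ⟨Λ, hΛ, hc⟩ := exists_chartHom hq (Polynomial.C.comp (θ.comp (algebraMap A _))) (fun l => by simp [hθ l])
    (fun l => Polynomial.C (θ (RegBlow6.coord a j l)) +
      Polynomial.X * Polynomial.C (θ' (RegBlow6.coord a j l) - θ (RegBlow6.coord a j l)))
  refine ⟨Λ, hΛ, chartHom_ext ?_ fun l => ?_, chartHom_ext ?_ fun l => ?_⟩
  · rw [RingHom.comp_assoc, hΛ]; ext r; simp
  · rw [RingHom.comp_apply, hc]; simp
  · rw [RingHom.comp_assoc, hΛ, ← h]; ext r; simp
  · rw [RingHom.comp_apply, hc]; simp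

end Chart

variable [IsAlgClosed k] {X X' : Scheme.{u}} (f : X ⟶ Spec (CommRingCat.of k)) [Smooth f] [IsSeparated f]
  [IsLocallyNoetherian X] {π : X' ⟶ X} {x : X} (hx : IsClosed ({x} : Set X))
  (hπ : BlowUp.IsBlowUp π (PointBlow.pt hx)) [IsProper (π ≫ f)]
  {δ' : X' → ℤ} (hδ' : Cyc.DeltaCompat (π ≫ f) δ' (fun _ => 0))

theorem ker_pointOfClosedPoint : (pointOfClosedPoint f x hx).ker = PointBlow.pt hx := by
  haveI : IsClosedImmersion (pointOfClosedPoint f x hx) :=
    isClosedImmersion_of_comp_eq_id _ _ (pointOfClosedPoint_comp f x hx)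
  have h1 : (pointOfClosedPoint f x hx).ker.radical = (pointOfClosedPoint f x hx).ker := by
    ext U : 2
    show ((pointOfClosedPoint f x hx).ker.ideal U).radical = _
    rw [Scheme.Hom.ker_apply]
    haveI : _root_.IsReduced Γ(Spec (CommRingCat.of k), (pointOfClosedPoint f x hx) ⁻¹ᵁ U.1) :=
      IsReduced.component_reduced _
    refine Ideal.IsRadical.radical fun r ⟨n, hn⟩ => ?_
    rw [RingHom.mem_ker, map_pow] at hn
    exact IsReduced.eq_zero _ ⟨n, hn⟩
  rw [← h1, ← Scheme.IdealSheafData.vanishingIdeal_support]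
  congr 1
  refine Closeds.ext ?_
  rw [Scheme.Hom.support_ker]
  show closure (Set.range (pointOfClosedPoint f x hx)) = {x}
  have : Set.range (pointOfClosedPoint f x hx) = {x} :=
    Set.eq_singleton_iff_nonempty_unique_mem.2
      ⟨⟨_, pt k, rfl⟩, by rintro _ ⟨t, rfl⟩; exact pointOfClosedPoint_apply f x hx t⟩
  rw [this, hx.closure_eq]

include hπ hδ' in
/-- Closed points over the centre are rationally equivalent. -/
theorem ratEquiv_over {e e' : X'} (he : IsClosed ({e} : Set X')) (he' : IsClosed ({e'} : Set X'))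
    (hex : π e = x) (he'x : π e' = x) : Cyc.RatEquiv δ' 0 (pc e) (pc e') := by
  classical
  let i := pointOfClosedPoint f x hx
  haveI : IsClosedImmersion i := isClosedImmersion_of_comp_eq_id _ _ (pointOfClosedPoint_comp f x hx)
  haveI : Smooth (i ≫ f) := by rw [pointOfClosedPoint_comp]; infer_instance
  have hi := SmoothImmX.regClosed_of_smooth f i
  obtain ⟨U, hU, hzU, rs, hrs, hideal⟩ := hi.2 (pt k)
  rw [pointOfClosedPoint_apply] at hzU
  rw [ker_pointOfClosedPoint] at hideal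
  obtain ⟨n, a, hq, hJ⟩ : ∃ (n : ℕ) (a : Fin n → Γ(X, U)), CAlgX.IsQuasiRegular a ∧
      (PointBlow.pt hx).ideal ⟨U, hU⟩ = Ideal.span (Set.range a) :=
    ⟨rs.length, rs.get, S5802.result _ _ rs.get (by rw [List.ofFn_get]; exact hrs.toIsWeaklyRegular),
      hideal.trans (congrArg Ideal.span (Set.range_list_get rs).symm)⟩
  let C := fun j => H28.ExcCharts.chart hπ hU a hJ j
  have hpt : ∀ w : Spec (CommRingCat.of k), w = pt k := fun w =>
    @Subsingleton.elim _ (FibDim.subsingleton_spec_field k) _ _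
  -- points of the charts over the centre
  let Over' : ∀ j, (RegBlow6.chartAlg a j →+* k) → Prop := fun j θ =>
    (Spec.map (CommRingCat.ofHom θ) ≫ C j) ≫ (π ≫ f) = 𝟙 _ ∧ (Spec.map (CommRingCat.ofHom θ) ≫ C j ≫ π) (pt k) = x
  have hlift : ∀ {e : X'}, IsClosed ({e} : Set X') → π e = x → ∀ {j}, e ∈ H28.ExcCharts.D hπ hU a hJ j →
      ∃ θ, Over' j θ ∧ (Spec.map (CommRingCat.ofHom θ) ≫ C j) (pt k) = e := fun {e} he hex {j} hj => by
    let p := pointOfClosedPoint (π ≫ f) e he
    have hr : Set.range p ⊆ Set.range (C j) := by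
      rintro _ ⟨t, rfl⟩
      rw [pointOfClosedPoint_apply]
      exact hj
    let l := IsOpenImmersion.lift (C j) p hr
    obtain ⟨θ, hθ⟩ := Spec.map_surjective l
    have hl : Spec.map (CommRingCat.ofHom θ.hom) ≫ C j = p := by
      rw [CommRingCat.ofHom_hom, hθ]; exact IsOpenImmersion.lift_fac _ _ _
    refine ⟨θ.hom, ⟨by rw [hl]; exact pointOfClosedPoint_comp (π ≫ f) e he, ?_⟩, ?_⟩
    · rw [← Category.assoc, hl, Scheme.Hom.comp_apply, pointOfClosedPoint_apply, hex]
    · rw [hl, pointOfClosedPoint_apply]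
  have hbase : ∀ {j θ}, Over' j θ →
      Spec.map (CommRingCat.ofHom (θ.comp (algebraMap Γ(X, U) (RegBlow6.chartAlg a j)))) ≫ hU.fromSpec = i := by
    intro j θ hθ
    have h1 : Spec.map (CommRingCat.ofHom θ) ≫ C j ≫ π =
        Spec.map (CommRingCat.ofHom (θ.comp (algebraMap Γ(X, U) (RegBlow6.chartAlg a j)))) ≫ hU.fromSpec := by
      rw [H28.ExcCharts.chart_comp, ← Spec.map_comp_assoc]
      rfl
    rw [← h1]
    exact congrArg Subtype.val ((pointEquivClosedPoint f).injective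
      (a₁ := ⟨Spec.map (CommRingCat.ofHom θ) ≫ C j ≫ π, by simpa only [Category.assoc] using hθ.1⟩)
      (a₂ := ⟨i, pointOfClosedPoint_comp f x hx⟩) (Subtype.ext (by
        rw [pointEquivClosedPoint_apply_coe, pointEquivClosedPoint_apply_coe]
        exact ((congrArg _ (hpt _)).trans hθ.2).trans (pointOfClosedPoint_apply f x hx _).symm)))
  have huniq : ∀ {j θ l θ'}, Over' j θ → Over' l θ' →
      θ.comp (algebraMap Γ(X, U) (RegBlow6.chartAlg a j)) = θ'.comp (algebraMap Γ(X, U) (RegBlow6.chartAlg a l)) :=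
    fun hθ hθ' => by
      have := (hbase hθ).trans (hbase hθ').symm
      rw [cancel_mono] at this
      exact congrArg CommRingCat.Hom.hom (Spec.map_injective this)
  have hzero : ∀ {j θ}, Over' j θ → ∀ l, θ (algebraMap Γ(X, U) (RegBlow6.chartAlg a j) (a l)) = 0 := by
    intro j θ hθ l
    let φ := θ.comp (algebraMap Γ(X, U) (RegBlow6.chartAlg a j))
    by_contra hne
    have h1 : Spec.map (CommRingCat.ofHom φ) (pt k) ∈ PrimeSpectrum.basicOpen (a l) := fun h =>
      hne (by
        have h' : φ (a l) ∈ (show PrimeSpectrum k from pt k).asIdeal := h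
        rwa [(IsSimpleOrder.eq_bot_or_eq_top _).resolve_right (show PrimeSpectrum k from pt k).isPrime.ne_top,
          Ideal.mem_bot] at h')
    have h2 : x ∈ X.basicOpen (a l) := by
      have : Spec.map (CommRingCat.ofHom φ) (pt k) ∈ hU.fromSpec ⁻¹ᵁ X.basicOpen (a l) := by
        rwa [hU.fromSpec_preimage_basicOpen]
      have h3 : (Spec.map (CommRingCat.ofHom φ) ≫ hU.fromSpec) (pt k) ∈ X.basicOpen (a l) := this
      rwa [hbase hθ, pointOfClosedPoint_apply] at h3
    have hxs : x ∈ ((PointBlow.pt hx).support : Set X) ∩ U := ⟨(PointBlow.mem_support_pt hx x).2 rfl, hzU⟩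
    rw [Scheme.IdealSheafData.coe_support_inter (PointBlow.pt hx) ⟨U, hU⟩] at hxs
    exact (Scheme.mem_zeroLocus_iff _ _ _).1 hxs.1 (a l) (hJ ▸ Ideal.subset_span ⟨l, rfl⟩) h2
  have hclosed : ∀ {j θ}, Over' j θ → IsClosed ({(Spec.map (CommRingCat.ofHom θ) ≫ C j) (pt k)} : Set X') :=
    fun {j θ} hθ => (pointEquivClosedPoint (π ≫ f) ⟨_, hθ.1⟩).2 |> fun h => by
      rw [pointEquivClosedPoint_apply_coe] at h
      rw [hpt (IsLocalRing.closedPoint k)] at h
      exact h
  -- points of one chart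
  have hone : ∀ {e e' : X'}, IsClosed ({e} : Set X') → IsClosed ({e'} : Set X') → π e = x → π e' = x →
      ∀ {j}, e ∈ H28.ExcCharts.D hπ hU a hJ j → e' ∈ H28.ExcCharts.D hπ hU a hJ j →
      Cyc.RatEquiv δ' 0 (pc e) (pc e') := by
    intro e e' he he' hex he'x j hj hj'
    obtain ⟨θ, hθ, hθe⟩ := hlift he hex hj
    obtain ⟨θ', hθ', hθ'e⟩ := hlift he' he'x hj'
    obtain ⟨Λ, hΛ, h0, h1⟩ := exists_line hq θ θ' (huniq hθ hθ') (hzero hθ)
    obtain ⟨g, hg, hgp⟩ := exists_projLine (π ≫ f) (Spec.map (CommRingCat.ofHom Λ) ≫ C j) (by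
      have e1 : Spec.map (CommRingCat.ofHom Λ) ≫ C j ≫ π =
          Spec.map (CommRingCat.ofHom Polynomial.C) ≫ i := by
        rw [H28.ExcCharts.chart_comp, ← hbase hθ, ← Spec.map_comp_assoc, ← Spec.map_comp_assoc,
          ← CommRingCat.ofHom_comp, ← CommRingCat.ofHom_comp, hΛ]
      simp only [Category.assoc]
      rw [reassoc_of% e1, pointOfClosedPoint_comp, Category.comp_id])
    refine RatCurves.ratEquiv_on_curve (π ≫ f) hδ' g hg he he' ?_ ?_
    · have := hgp 0 (pt k)
      rwa [← Category.assoc, ← Spec.map_comp, ← CommRingCat.ofHom_comp, h0, hθe] at this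
    · have := hgp 1 (pt k)
      rwa [← Category.assoc, ← Spec.map_comp, ← CommRingCat.ofHom_comp, h1, hθ'e] at this
  have hcov : ∀ {e : X'}, π e = x → ∃ j, e ∈ H28.ExcCharts.D hπ hU a hJ j := fun {e} hex =>
    H28.ExcCharts.cover hπ hU a hJ (show e ∈ π ⁻¹ᵁ U by show π e ∈ U; rw [hex]; exact hzU)
  obtain ⟨j, hj⟩ := hcov hex
  obtain ⟨l, hl⟩ := hcov he'x
  by_cases hjl : l = j
  · exact hone he he' hex he'x hj (hjl ▸ hl)
  cases n with
  | zero => exact j.elim0
  | succ m =>
    obtain ⟨l', rfl⟩ := Fin.exists_succAbove_eq hjl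
    obtain ⟨θ, hθ, -⟩ := hlift he hex hj
    obtain ⟨θ₁, hθ₁, hc₁⟩ := exists_chartHom (j := j) hq (θ.comp (algebraMap Γ(X, U) _)) (hzero hθ) (fun _ => 1)
    let p₁ := (Spec.map (CommRingCat.ofHom θ₁) ≫ C j) (pt k)
    have hb : Spec.map (CommRingCat.ofHom θ₁) ≫ C j ≫ π = i := by
      rw [H28.ExcCharts.chart_comp, ← hbase hθ, ← Spec.map_comp_assoc, ← CommRingCat.ofHom_comp, hθ₁]
    have hp₁x : π p₁ = x := by
      show (Spec.map (CommRingCat.ofHom θ₁) ≫ C j ≫ π) (pt k) = x
      rw [hb, pointOfClosedPoint_apply]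
    have hO : Over' j θ₁ := ⟨by
      simp only [Category.assoc]
      rw [reassoc_of% hb, pointOfClosedPoint_comp], hp₁x⟩
    have hp₁j : p₁ ∈ H28.ExcCharts.D hπ hU a hJ j := ⟨_, rfl⟩
    have hp₁l : p₁ ∈ H28.ExcCharts.D hπ hU a hJ (j.succAbove l') := by
      refine H28.ExcCharts.basicOpen_cc_le hπ hU a hJ j l' ?_
      let D := H28.ExcCharts.D hπ hU a hJ j
      let b := RegBlow6.coord a j ⟨j.succAbove l', Fin.succAbove_ne j l'⟩
      let w := Spec.map (CommRingCat.ofHom θ₁) (pt k)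
      show w ∈ C j ⁻¹ᵁ X'.basicOpen (H28.ExcCharts.cc hπ hU a hJ j l')
      have happ : (C j).appLE D ⊤ (H28.ExcCharts.top_le hπ hU a hJ j) (H28.ExcCharts.cc hπ hU a hJ j l') =
          (Scheme.ΓSpecIso (CommRingCat.of (RegBlow6.chartAlg a j))).inv b := by
        exact (RingEquiv.ofBijective ((C j).appLE D ⊤ (H28.ExcCharts.top_le hπ hU a hJ j)).hom
          (PBlow.appLE_bijective (C j) (H28.ExcCharts.top_le hπ hU a hJ j) le_rfl)).apply_symm_apply _
      have hbo : (⊤ : (Spec (CommRingCat.of (RegBlow6.chartAlg a j))).Opens) ⊓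
          C j ⁻¹ᵁ X'.basicOpen (H28.ExcCharts.cc hπ hU a hJ j l') = PrimeSpectrum.basicOpen b := by
        rw [← Scheme.basicOpen_appLE (C j) ⊤ D (H28.ExcCharts.top_le hπ hU a hJ j), happ, basicOpen_eq_of_affine]
      have hw : w ∈ PrimeSpectrum.basicOpen b := fun h => by
        have h' : θ₁ b ∈ (show PrimeSpectrum k from pt k).asIdeal := h
        rw [hc₁] at h'
        exact (show PrimeSpectrum k from pt k).isPrime.ne_top ((Ideal.eq_top_iff_one _).2 h')
      exact (hbo.ge hw).2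
    have hS : Cyc.IsSetup X' δ' := SetupLFT.isSetup (π ≫ f) (CycLib.isSetup_spec_field k) hδ'
    exact H23.Chern.trans' hS (hone he (hclosed hO) hex hp₁x hj hp₁j)
      (hone (hclosed hO) he' hp₁x he'x hp₁l hl)

end Groth.Agent.H23.BlowPoint
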