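import Groth.Agent.H23.TameScheme
import Groth.Agent.H23.C1Cycle
import Groth.Agent.H23.RatOn

/-! Commutativity of two first Chern classes on an integral scheme. -/

set_option autoImplicit false
set_option linter.style.haveILetI false
set_option linter.unusedSectionVars false

universe u

open AlgebraicGeometry CategoryTheory TopologicalSpace IsLocalRing

namespace Groth.Agent.H23.C1Comm

open Groth.Agent RatSec TameScheme

variable {X : Scheme.{u}}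

theorem spec_spec (L : X.Modules) {x ξ η : X} (h : η ⤳ ξ) (h' : ξ ⤳ x) (t : L.presheaf.stalk x) :
    L.presheaf.stalkSpecializes h (L.presheaf.stalkSpecializes h' t) = L.presheaf.stalkSpecializes (h.trans h') t := by
  obtain ⟨U, hx, e, rfl⟩ := L.presheaf.germ_exist t
  rw [TopCat.Presheaf.germ_stalkSpecializes_apply, TopCat.Presheaf.germ_stalkSpecializes_apply,
    TopCat.Presheaf.germ_stalkSpecializes_apply]

theorem finite_maximal_inter [IsLocallyNoetherian X] {T : Set X} (hT : IsClosed T) {V : Set X} (hV : IsCompact V) :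
    {ξ : X | ξ ∈ T ∧ (∀ w ∈ T, w ⤳ ξ → w = ξ) ∧ ξ ∈ V}.Finite := by
  have hfin := (CycLib.locallyFinite_components hT).finite_nonempty_inter_compact hV
  let S := {ξ : X | ξ ∈ T ∧ (∀ w ∈ T, w ⤳ ξ → w = ξ) ∧ ξ ∈ V}
  have hmax : ∀ z : S, ∀ w : ↥T, w ⤳ (⟨z.1, z.2.1⟩ : ↥T) → w = ⟨z.1, z.2.1⟩ := fun z w hw =>
    Subtype.ext (z.2.2.1 w.1 w.2 (hw.map continuous_subtype_val))
  haveI : QuasiSober ↥T := hT.isClosedEmbedding_subtypeVal.quasiSober
  let e : S → irreducibleComponents ↥T := fun z =>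
    ⟨closure {⟨z.1, z.2.1⟩}, FDescent.closure_mem_irreducibleComponents (hmax z)⟩
  have he : Function.Injective e := fun z w h => by
    have h' : closure ({⟨z.1, z.2.1⟩} : Set ↥T) = closure {⟨w.1, w.2.1⟩} := congrArg Subtype.val h
    have h1 : (⟨w.1, w.2.1⟩ : ↥T) ⤳ ⟨z.1, z.2.1⟩ :=
      specializes_iff_mem_closure.2 (h' ▸ subset_closure rfl)
    exact Subtype.ext (congrArg Subtype.val (hmax z _ h1)).symm
  haveI := (Set.Finite.subset hfin (show Set.range e ⊆ _ by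
    rintro _ ⟨z, rfl⟩
    exact ⟨z.1, ⟨⟨z.1, z.2.1⟩, subset_closure rfl, rfl⟩, z.2.2.2⟩)).to_subtype
  exact Set.finite_coe_iff.1 (Finite.of_injective (fun z => (⟨e z, Set.mem_range_self z⟩ : Set.range e))
    fun z w h => he (congrArg Subtype.val h))

variable [IsIntegral X] {L N : X.Modules}

/-- A fixed basis of the stalk. -/
noncomputable def base (hL : PicF.IsInvertible L) (ξ : X) : L.presheaf.stalk ξ := Classical.choose (exists_gen hL ξ)

theorem base_isGen (hL : PicF.IsInvertible L) (ξ : X) : IsGen (base hL ξ) :=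
  (Classical.choose_spec (exists_gen hL ξ)).1

theorem base_isGen' (hL : PicF.IsInvertible L) {ξ η : X} (h : η ⤳ ξ) :
    IsGen (L.presheaf.stalkSpecializes h (base hL ξ)) := (Classical.choose_spec (exists_gen hL ξ)).2 _ h

/-- The rational function representing `s` in the fixed basis at `ξ`. -/
noncomputable def coordRes (hL : PicF.IsInvertible L) (s : Cyc.secFibre L (genericPoint X)) (ξ : X) :
    X.residueField (genericPoint X) :=
  X.residue _ (Classical.choose (exists_coord (base_isGen' hL (gen_sp ξ)) s))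

/-- The value of a section at `ξ` in the fixed basis. -/
noncomputable def valRes (hL : PicF.IsInvertible L) (v : (ξ : X) → Cyc.secFibre L ξ) (ξ : X) : X.residueField ξ :=
  X.residue _ (Classical.choose (exists_coord (base_isGen hL ξ) (v ξ)))

theorem valRes_ne_zero (hL : PicF.IsInvertible L) {v : (ξ : X) → Cyc.secFibre L ξ} (hv : ∀ ξ, v ξ ≠ 0) (ξ : X) :
    valRes hL v ξ ≠ 0 :=
  (residue_ne_zero (base_isGen hL ξ)).2 (Classical.choose_spec (exists_coord (base_isGen hL ξ) (v ξ)) ▸ hv ξ)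

theorem coordRes_ne_zero (hL : PicF.IsInvertible L) {s : Cyc.secFibre L (genericPoint X)} (hs : s ≠ 0) (ξ : X) :
    coordRes hL s ξ ≠ 0 :=
  (residue_ne_zero (base_isGen' hL (gen_sp ξ))).2
    (Classical.choose_spec (exists_coord (base_isGen' hL (gen_sp ξ)) s) ▸ hs)

theorem coordRes_eq (hL : PicF.IsInvertible L) {s : Cyc.secFibre L (genericPoint X)} {ξ : X}
    {t : L.presheaf.stalk ξ} {w : X.presheaf.stalk ξ} (hw : t = w • base hL ξ)
    {Φ : X.presheaf.stalk (genericPoint X)} (hΦ : s = Φ • cls L _ (L.presheaf.stalkSpecializes (gen_sp ξ) t)) :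
    coordRes hL s ξ = X.residue _ Φ * inc ξ w := by
  have hc := Classical.choose_spec (exists_coord (base_isGen' hL (gen_sp ξ)) s)
  rw [hw, ZeroSec.stalkSpecializes_smul, cls_smul, smul_smul] at hΦ
  refine ((cls_smul_eq_iff (base_isGen' hL (gen_sp ξ)) _ _).1 (hc.symm.trans hΦ)).trans ?_
  rw [map_mul]
  rfl

theorem valRes_eq (hL : PicF.IsInvertible L) {v : (ξ : X) → Cyc.secFibre L ξ} {ξ : X} {t : L.presheaf.stalk ξ}
    {w : X.presheaf.stalk ξ} (hw : t = w • base hL ξ) {ψ : X.presheaf.stalk ξ} (hψ : v ξ = ψ • cls L _ t) :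
    valRes hL v ξ = X.residue _ ψ * X.residue _ w := by
  have hc := Classical.choose_spec (exists_coord (base_isGen hL ξ) (v ξ))
  rw [hw, cls_smul, smul_smul] at hψ
  refine ((cls_smul_eq_iff (base_isGen hL ξ) _ _).1 (hc.symm.trans hψ)).trans ?_
  rw [map_mul]

variable [IsLocallyNoetherian X] {δ : X → ℤ} (hL : PicF.IsInvertible L) (hN : PicF.IsInvertible N)

/-- The witnessing rational function. -/
noncomputable def wit (δ : X → ℤ) (s : Cyc.secFibre L (genericPoint X)) (t : Cyc.secFibre N (genericPoint X))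
    (u : (ξ : X) → Cyc.secFibre N ξ) (v : (ξ : X) → Cyc.secFibre L ξ) (ξ : X) : X.residueField ξ :=
  symAt ξ (coordRes hL s ξ) (coordRes hN t ξ) * valRes hN u ξ ^ Cyc.secDivFun δ L (genericPoint X) s ξ *
    valRes hL v ξ ^ (-Cyc.secDivFun δ N (genericPoint X) t ξ)

variable {s : Cyc.secFibre L (genericPoint X)} {t : Cyc.secFibre N (genericPoint X)}
  {u : (ξ : X) → Cyc.secFibre N ξ} {v : (ξ : X) → Cyc.secFibre L ξ}

theorem wit_ne_zero (hs : s ≠ 0) (ht : t ≠ 0) (hu : ∀ ξ, u ξ ≠ 0) (hv : ∀ ξ, v ξ ≠ 0) (ξ : X) :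
    wit hL hN δ s t u v ξ ≠ 0 :=
  mul_ne_zero (mul_ne_zero (symAt_ne_zero (coordRes_ne_zero hL hs ξ) (coordRes_ne_zero hN ht ξ))
    (zpow_ne_zero _ (valRes_ne_zero hN hu ξ))) (zpow_ne_zero _ (valRes_ne_zero hL hv ξ))

include hL in
theorem secDivFun_gen_eq (hd : Cyc.IsDimFun X δ) {ξ : X} (hξ : δ ξ + 1 = δ (genericPoint X))
    {T : L.presheaf.stalk ξ} (hT : IsGen T) {Φ : X.presheaf.stalk (genericPoint X)}
    (hΦ : s = Φ • cls L _ (L.presheaf.stalkSpecializes (gen_sp ξ) T)) (hΦ0 : X.residue _ Φ ≠ 0) :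
    Cyc.secDivFun δ L (genericPoint X) s ξ = Cyc.ordAt ξ (genericPoint X) (gen_sp ξ) (X.residue _ Φ) := by
  rw [secDivFun_eq hL hd (gen_sp ξ) hT.1 hΦ hΦ0, CycLib.divFun_eq δ _ (gen_sp ξ) hξ]

theorem secDivFun_gen_zero {ξ : X} (hξ : ¬ δ ξ + 1 = δ (genericPoint X)) :
    Cyc.secDivFun δ L (genericPoint X) s ξ = 0 := dif_neg fun h => hξ h.2

theorem finite_wit (hd : Cyc.IsDimFun X δ) (hs : s ≠ 0) (ht : t ≠ 0) (z : X) :
    ∃ U : Set X, IsOpen U ∧ z ∈ U ∧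
      {ξ | δ ξ + 1 = δ (genericPoint X) ∧ wit hL hN δ s t u v ξ ≠ 1 ∧ ξ ∈ U}.Finite := by
  classical
  obtain ⟨UL, hzL, eL, heL⟩ := InvX.exists_frame hL z
  obtain ⟨UN, hzN, eN, heN⟩ := InvX.exists_frame hN z
  have hηL : genericPoint X ∈ UL := (gen_sp z).mem_open UL.2 hzL
  have hηN : genericPoint X ∈ UN := (gen_sp z).mem_open UN.2 hzN
  obtain ⟨ΦL, hΦL⟩ := exists_coord (isGen_germ heL _ hηL) s
  obtain ⟨ΦN, hΦN⟩ := exists_coord (isGen_germ heN _ hηN) t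
  have hF : X.residue _ ΦL ≠ 0 := (residue_ne_zero (isGen_germ heL _ hηL)).2 (hΦL ▸ hs)
  have hG : X.residue _ ΦN ≠ 0 := (residue_ne_zero (isGen_germ heN _ hηN)).2 (hΦN ▸ ht)
  obtain ⟨p⟩ := exists_rep z hF
  obtain ⟨q⟩ := exists_rep z hG
  obtain ⟨V1, h1, a1, ha1⟩ := X.presheaf.germ_exist p.num
  obtain ⟨V2, h2, a2, ha2⟩ := X.presheaf.germ_exist p.den
  obtain ⟨V3, h3, a3, ha3⟩ := X.presheaf.germ_exist q.num
  obtain ⟨V4, h4, a4, ha4⟩ := X.presheaf.germ_exist q.den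
  obtain ⟨V, hV, hzV, hVle⟩ := exists_isAffineOpen_mem_and_subset (x := z)
    (U := UL ⊓ UN ⊓ (V1 ⊓ V2) ⊓ (V3 ⊓ V4)) ⟨⟨⟨hzL, hzN⟩, h1, h2⟩, h3, h4⟩
  have bad : ∀ {W : X.Opens} (a : Γ(X, W)) (hzW : z ∈ W), X.presheaf.germ W z hzW a ≠ 0 → (V : Set X) ⊆ W →
      {ξ | δ ξ + 1 = δ (genericPoint X) ∧ ξ ∈ V ∧ ξ ∉ X.basicOpen a}.Finite := by
    intro W a hzW ha hVW
    refine (finite_maximal_inter (T := (X.basicOpen a : Set X)ᶜ) (X.basicOpen a).2.isClosed_compl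
      hV.isCompact).subset ?_
    rintro ξ ⟨hξ, hξV, hξa⟩
    refine ⟨hξa, fun w hw hwξ => ?_, hξV⟩
    by_contra hne
    have hδ := CycLib.delta_lt hd hwξ hne
    obtain rfl : genericPoint X = w := CycLib.eq_of_delta_le hd (gen_sp w) (by omega)
    refine hw ((X.mem_basicOpen a _ ((gen_sp z).mem_open W.2 hzW)).2 ?_)
    have h0 : inc z (X.presheaf.germ W z hzW a) ≠ 0 := (map_ne_zero_iff _ (inc_injective z)).2 ha
    rw [inc, CycLib.specMap_germ] at h0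
    by_contra hu
    exact h0 (Ideal.Quotient.eq_zero_iff_mem.2 hu)
  refine ⟨(V : Set X), V.2, hzV,
    (((bad a1 h1 (ha1 ▸ p.num_ne) (fun y hy => (hVle hy).1.2.1)).union
      (bad a2 h2 (ha2 ▸ p.den_ne) (fun y hy => (hVle hy).1.2.2))).union
      ((bad a3 h3 (ha3 ▸ q.num_ne) (fun y hy => (hVle hy).2.1)).union
      (bad a4 h4 (ha4 ▸ q.den_ne) (fun y hy => (hVle hy).2.2)))).subset ?_⟩
  rintro ξ ⟨hξ, hne, hξV⟩
  by_contra hn
  simp only [Set.mem_union, Set.mem_ofPred_eq, not_or, not_and, not_not] at hn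
  obtain ⟨⟨⟨hξL, hξN⟩, hξ1, hξ2⟩, hξ3, hξ4⟩ := hVle hξV
  have u1 := (X.mem_basicOpen a1 ξ hξ1).1 (hn.1.1 hξ hξV)
  have u2 := (X.mem_basicOpen a2 ξ hξ2).1 (hn.1.2 hξ hξV)
  have u3 := (X.mem_basicOpen a3 ξ hξ3).1 (hn.2.1 hξ hξV)
  have u4 := (X.mem_basicOpen a4 ξ hξ4).1 (hn.2.2 hξ hξV)
  have hgl : ∀ {W : X.Opens} (a : Γ(X, W)) (hzW : z ∈ W) (hξW : ξ ∈ W),
      inc z (X.presheaf.germ W z hzW a) = inc ξ (X.presheaf.germ W ξ hξW a) := fun a hzW hξW => by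
    rw [inc, inc, CycLib.specMap_germ, CycLib.specMap_germ]
  have eF : X.residue _ ΦL = inc ξ ((X.presheaf.germ V1 ξ hξ1 a1) * ↑u2.unit⁻¹) := by
    rw [p.eq, ← ha1, ← ha2, hgl a1 h1 hξ1, hgl a2 h2 hξ2, div_eq_iff ((u2.map (inc ξ)).ne_zero), ← map_mul,
      mul_assoc, IsUnit.val_inv_mul, mul_one]
  have eG : X.residue _ ΦN = inc ξ ((X.presheaf.germ V3 ξ hξ3 a3) * ↑u4.unit⁻¹) := by
    rw [q.eq, ← ha3, ← ha4, hgl a3 h3 hξ3, hgl a4 h4 hξ4, div_eq_iff ((u4.map (inc ξ)).ne_zero), ← map_mul,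
      mul_assoc, IsUnit.val_inv_mul, mul_one]
  obtain ⟨wL, hwL, hwL'⟩ := (base_isGen hL ξ).of_span (isGen_germ heL ξ hξL).1
  obtain ⟨wN, hwN, hwN'⟩ := (base_isGen hN ξ).of_span (isGen_germ heN ξ hξN).1
  have hsL : s = ΦL • cls L _ (L.presheaf.stalkSpecializes (gen_sp ξ) (L.presheaf.germ UL ξ hξL eL)) := by
    rw [TopCat.Presheaf.germ_stalkSpecializes_apply]; exact hΦL
  have hsN : t = ΦN • cls N _ (N.presheaf.stalkSpecializes (gen_sp ξ) (N.presheaf.germ UN ξ hξN eN)) := by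
    rw [TopCat.Presheaf.germ_stalkSpecializes_apply]; exact hΦN
  have hcL := coordRes_eq hL hwL' hsL
  have hcN := coordRes_eq hN hwN' hsN
  rw [eF, ← map_mul] at hcL
  rw [eG, ← map_mul] at hcN
  have hUL : IsUnit ((X.presheaf.germ V1 ξ hξ1 a1) * ↑u2.unit⁻¹) := u1.mul u2.unit⁻¹.isUnit
  have hUN : IsUnit ((X.presheaf.germ V3 ξ hξ3 a3) * ↑u4.unit⁻¹) := u3.mul u4.unit⁻¹.isUnit
  have hmk : ∀ c : X.presheaf.stalk ξ, IsUnit c → Cyc.ordAt ξ (genericPoint X) (gen_sp ξ) (inc ξ c) = 0 :=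
    fun c hc => CycLib.ordAt_eq_zero_of_isUnit hd (gen_sp ξ) hξ hc
  have za : Cyc.secDivFun δ L (genericPoint X) s ξ = 0 := by
    rw [secDivFun_gen_eq hL hd hξ (isGen_germ heL ξ hξL) hsL hF, eF, hmk _ hUL]
  have zb : Cyc.secDivFun δ N (genericPoint X) t ξ = 0 := by
    rw [secDivFun_gen_eq hN hd hξ (isGen_germ heN ξ hξN) hsN hG, eG, hmk _ hUN]
  refine hne ?_
  rw [wit, za, zb, neg_zero, zpow_zero, zpow_zero, mul_one, mul_one]
  exact symAt_units hd hξ (hUL.mul hwL) (hUN.mul hwN) hcL hcN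

theorem term_eq (hd : Cyc.IsDimFun X δ) (hu : ∀ ξ, u ξ ≠ 0) (hv : ∀ ξ, v ξ ≠ 0) {x ξ : X}
    (hx : δ x + 2 = δ (genericPoint X)) (hξ : δ ξ + 1 = δ (genericPoint X)) {TL : L.presheaf.stalk x} (hTL : IsGen TL)
    (hTL' : ∀ (ζ : X) (h : ζ ⤳ x), IsGen (L.presheaf.stalkSpecializes h TL))
    {TN : N.presheaf.stalk x} (hTN : IsGen TN) (hTN' : ∀ (ζ : X) (h : ζ ⤳ x), IsGen (N.presheaf.stalkSpecializes h TN))
    {ΦL ΦN : X.presheaf.stalk (genericPoint X)}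
    (hsL : s = ΦL • cls L _ (L.presheaf.stalkSpecializes (gen_sp x) TL)) (hF : X.residue _ ΦL ≠ 0)
    (hsN : t = ΦN • cls N _ (N.presheaf.stalkSpecializes (gen_sp x) TN)) (hG : X.residue _ ΦN ≠ 0) :
    Cyc.secDivFun δ L (genericPoint X) s ξ * Cyc.secDivFun δ N ξ (u ξ) x -
      Cyc.secDivFun δ N (genericPoint X) t ξ * Cyc.secDivFun δ L ξ (v ξ) x =
    Cyc.divFun δ ξ (wit hL hN δ s t u v ξ) x -
      Cyc.divFun δ ξ (symAt ξ (X.residue _ ΦL) (X.residue _ ΦN)) x := by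
  classical
  by_cases h : ξ ⤳ x
  swap
  · simp [Cyc.secDivFun, Cyc.divFun, h]
  have hxξ : δ x + 1 = δ ξ := by omega
  have gL := hTL' ξ h
  have gN := hTN' ξ h
  obtain ⟨wL, hwL, hwL'⟩ := (base_isGen hL ξ).of_span gL.1
  obtain ⟨wN, hwN, hwN'⟩ := (base_isGen hN ξ).of_span gN.1
  obtain ⟨ψ, hψ⟩ := exists_coord gN (u ξ)
  obtain ⟨χ, hχ⟩ := exists_coord gL (v ξ)
  have hψ0 : X.residue ξ ψ ≠ 0 := (residue_ne_zero gN).2 (hψ ▸ hu ξ)
  have hχ0 : X.residue ξ χ ≠ 0 := (residue_ne_zero gL).2 (hχ ▸ hv ξ)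
  have hsL' : s = ΦL • cls L _ (L.presheaf.stalkSpecializes (gen_sp ξ) (L.presheaf.stalkSpecializes h TL)) := by
    rw [spec_spec]; exact hsL
  have hsN' : t = ΦN • cls N _ (N.presheaf.stalkSpecializes (gen_sp ξ) (N.presheaf.stalkSpecializes h TN)) := by
    rw [spec_spec]; exact hsN
  rw [wit, coordRes_eq hL hwL' hsL', coordRes_eq hN hwN' hsN', symAt_mul_units hd hξ hF hG hwL hwN,
    valRes_eq hN hwN' hψ, valRes_eq hL hwL' hχ, secDivFun_gen_eq hL hd hξ gL hsL' hF,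
    secDivFun_gen_eq hN hd hξ gN hsN' hG, secDivFun_eq hN hd h hTN.1 hψ hψ0, secDivFun_eq hL hd h hTL.1 hχ hχ0]
  set a := Cyc.ordAt ξ (genericPoint X) (gen_sp ξ) (X.residue _ ΦL)
  set b := Cyc.ordAt ξ (genericPoint X) (gen_sp ξ) (X.residue _ ΦN)
  have hwL0 : X.residue ξ wL ≠ 0 := (hwL.map (X.residue ξ).hom).ne_zero
  have hwN0 : X.residue ξ wN ≠ 0 := (hwN.map (X.residue ξ).hom).ne_zero
  have hS := symAt_ne_zero (ξ := ξ) hF hG
  have e : symAt ξ (X.residue _ ΦL) (X.residue _ ΦN) * X.residue ξ wL ^ b * X.residue ξ wN ^ (-a) *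
      (X.residue ξ ψ * X.residue ξ wN) ^ a * (X.residue ξ χ * X.residue ξ wL) ^ (-b) =
      symAt ξ (X.residue _ ΦL) (X.residue _ ΦN) * (X.residue ξ ψ ^ a * X.residue ξ χ ^ (-b)) := by
    rw [mul_zpow, mul_zpow, zpow_neg, zpow_neg, zpow_neg]
    field_simp
  rw [e, CycLib.divFun_mul hd hS (mul_ne_zero (zpow_ne_zero _ hψ0) (zpow_ne_zero _ hχ0)),
    CycLib.divFun_mul hd (zpow_ne_zero _ hψ0) (zpow_ne_zero _ hχ0), Pi.add_apply, Pi.add_apply,
    divFun_zpow hd hψ0, divFun_zpow hd hχ0]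
  ring

theorem term_zero {x ξ : X} (h : ¬ (δ ξ + 1 = δ (genericPoint X) ∧ δ x + 1 = δ ξ)) :
    Cyc.secDivFun δ L (genericPoint X) s ξ * Cyc.secDivFun δ N ξ (u ξ) x = 0 := by
  by_cases h1 : δ ξ + 1 = δ (genericPoint X)
  · rw [show Cyc.secDivFun δ N ξ (u ξ) x = 0 from dif_neg fun h' => h ⟨h1, h'.2⟩, mul_zero]
  · rw [secDivFun_gen_zero h1, zero_mul]

include hL hN in
theorem zeroOn_comm (hd : Cyc.IsDimFun X δ) {n : ℤ} (hn : δ (genericPoint X) = n) (hs : s ≠ 0) (ht : t ≠ 0)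
    (hu : ∀ ξ, u ξ ≠ 0) (hv : ∀ ξ, v ξ ≠ 0) {T : Set X}
    (hT : ∀ ξ, δ ξ + 1 = δ (genericPoint X) → wit hL hN δ s t u v ξ ≠ 1 → ξ ∈ T) :
    RatOn.ZeroOn δ (n - 2) T fun x => Cyc.c1CapFun δ N (Cyc.secDivFun δ L (genericPoint X) s) u x -
      Cyc.c1CapFun δ L (Cyc.secDivFun δ N (genericPoint X) t) v x := by
  classical
  refine ⟨{ξ : X // δ ξ + 1 = δ (genericPoint X) ∧ wit hL hN δ s t u v ξ ≠ 1}, fun i => i.1,
    fun i => wit hL hN δ s t u v i.1, fun i => by show δ i.1 = _; have := i.2.1; omega,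
    fun i => wit_ne_zero hL hN hs ht hu hv i.1, fun i => hT _ i.2.1 i.2.2, fun z => ?_, fun x => ?_⟩
  · obtain ⟨U, hUo, hzU, hfin⟩ := finite_wit hL hN (u := u) (v := v) hd hs ht z
    refine ⟨U, hUo, hzU, (hfin.preimage Subtype.val_injective.injOn).subset ?_⟩
    rintro i ⟨w, hw, hwU⟩
    exact ⟨i.2.1, i.2.2, (specializes_iff_mem_closure.2 hw).mem_open hUo hwU⟩
  simp only [Cyc.c1CapFun]
  rw [← finsum_sub_distrib (finite_support_c1Cap (locFin_secDivFun hL hd hs) u x)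
    (finite_support_c1Cap (locFin_secDivFun hN hd ht) v x)]
  rw [finsum_subtype_eq_finsum_cond (f := fun ξ => Cyc.divFun δ ξ (wit hL hN δ s t u v ξ) x)
    (fun ξ => δ ξ + 1 = δ (genericPoint X) ∧ wit hL hN δ s t u v ξ ≠ 1)]
  by_cases hx : δ x + 2 = δ (genericPoint X)
  swap
  · rw [finsum_eq_zero_of_forall_eq_zero fun ξ => by
      rw [term_zero fun h => hx (by omega), term_zero fun h => hx (by omega), sub_zero]]
    symm
    refine finsum_eq_zero_of_forall_eq_zero fun ξ => ?_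
    rw [finsum_eq_if]
    split_ifs with h
    · exact CycLib.divFun_eq_zero_of_delta δ _ fun hh => hx (by omega)
    · rfl
  obtain ⟨TL, hTL, hTL'⟩ := exists_gen hL x
  obtain ⟨TN, hTN, hTN'⟩ := exists_gen hN x
  obtain ⟨ΦL, hsL⟩ := exists_coord (hTL' _ (gen_sp x)) s
  obtain ⟨ΦN, hsN⟩ := exists_coord (hTN' _ (gen_sp x)) t
  have hF : X.residue _ ΦL ≠ 0 := (residue_ne_zero (hTL' _ (gen_sp x))).2 (hsL ▸ hs)
  have hG : X.residue _ ΦN ≠ 0 := (residue_ne_zero (hTN' _ (gen_sp x))).2 (hsN ▸ ht)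
  obtain ⟨kf, k0⟩ := key hd hx hF hG
  obtain ⟨U, hUo, hxU, hfin⟩ := finite_wit hL hN (u := u) (v := v) hd hs ht x
  have e : ∀ ξ, Cyc.secDivFun δ L (genericPoint X) s ξ * Cyc.secDivFun δ N ξ (u ξ) x -
      Cyc.secDivFun δ N (genericPoint X) t ξ * Cyc.secDivFun δ L ξ (v ξ) x =
      (if δ ξ + 1 = δ (genericPoint X) ∧ wit hL hN δ s t u v ξ ≠ 1 then
          Cyc.divFun δ ξ (wit hL hN δ s t u v ξ) x else 0) -
        Cyc.divFun δ ξ (symAt ξ (X.residue _ ΦL) (X.residue _ ΦN)) x *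
          (if δ ξ + 1 = δ (genericPoint X) then (1 : ℤ) else 0) := by
    intro ξ
    by_cases hξ : δ ξ + 1 = δ (genericPoint X)
    · rw [term_eq hL hN hd hu hv hx hξ hTL hTL' hTN hTN' hsL hF hsN hG, if_pos hξ, mul_one]
      split_ifs with h
      · rfl
      · have h1 : wit hL hN δ s t u v ξ = 1 := not_not.1 fun h1 => h ⟨hξ, h1⟩
        rw [h1]
        refine congrArg (· - _) ?_
        by_cases hsp : ξ ⤳ x
        · rw [CycLib.divFun_eq δ _ hsp (by omega)]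
          exact CycLib.ordAt_one hd hsp (by omega)
        · exact CycLib.divFun_eq_zero_of_not_specializes δ _ hsp
    · rw [term_zero fun h => hξ h.1, term_zero fun h => hξ h.1, if_neg hξ, mul_zero, if_neg fun h => hξ h.1]
  rw [finsum_congr e, finsum_sub_distrib (hfin.subset fun ξ hξ => ?_) kf, k0, sub_zero]
  · exact finsum_congr fun ξ => finsum_eq_if.symm
  · rw [Function.mem_support] at hξ
    split_ifs at hξ with h
    · refine ⟨h.1, h.2, ?_⟩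
      have hsp : ξ ⤳ x := by
        by_contra hn
        exact hξ (CycLib.divFun_eq_zero_of_not_specializes δ _ hn)
      exact hsp.mem_open hUo hxU
    · exact absurd rfl hξ

include hL hN in
theorem ratEquiv_comm (hd : Cyc.IsDimFun X δ) {n : ℤ} (hn : δ (genericPoint X) = n) (hs : s ≠ 0) (ht : t ≠ 0)
    (hu : ∀ ξ, u ξ ≠ 0) (hv : ∀ ξ, v ξ ≠ 0) {γ₁ γ₂ : AlgebraicCycle X ℤ}
    (h₁ : ⇑γ₁ = Cyc.c1CapFun δ N (Cyc.secDivFun δ L (genericPoint X) s) u)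
    (h₂ : ⇑γ₂ = Cyc.c1CapFun δ L (Cyc.secDivFun δ N (genericPoint X) t) v) :
    Cyc.RatEquiv δ (n - 2) γ₁ γ₂ := by
  exact RatOn.ratEquiv (RatOn.congr (zeroOn_comm hL hN hd hn hs ht hu hv (T := Set.univ) fun _ _ _ => trivial)
    fun x => by rw [congrFun h₁ x, congrFun h₂ x])

theorem symAt_unit_left (hd : Cyc.IsDimFun X δ) {ξ : X} (hξ : δ ξ + 1 = δ (genericPoint X))
    {f g : X.residueField (genericPoint X)} (hg : g ≠ 0) {c : X.presheaf.stalk ξ} (hc : IsUnit c)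
    (hf : f = inc ξ c) :
    symAt ξ f g = X.residue ξ c ^ Cyc.ordAt ξ (genericPoint X) (gen_sp ξ) g := by
  haveI := krullDimLE_stalk hd hξ
  obtain ⟨q⟩ := exists_rep ξ hg
  subst hf
  rw [symAt_eq, TameFun.sym_eq (inc_injective ξ) (TameFun.Rep.of c hc.ne_zero) q, TameFun.repSym_of_left hc,
    ordAt_rep hd hξ q]
  rfl

theorem symAt_unit_right (hd : Cyc.IsDimFun X δ) {ξ : X} (hξ : δ ξ + 1 = δ (genericPoint X))
    {f g : X.residueField (genericPoint X)} (hf : f ≠ 0) {c : X.presheaf.stalk ξ} (hc : IsUnit c)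
    (hg : g = inc ξ c) :
    symAt ξ f g = X.residue ξ c ^ (-Cyc.ordAt ξ (genericPoint X) (gen_sp ξ) f) := by
  haveI := krullDimLE_stalk hd hξ
  obtain ⟨p⟩ := exists_rep ξ hf
  subst hg
  rw [symAt_eq, TameFun.sym_eq (inc_injective ξ) p (TameFun.Rep.of c hc.ne_zero), TameFun.repSym_of_right hc,
    ordAt_rep hd hξ p]
  rfl

theorem exists_unit_coord (hL : PicF.IsInvertible L) {ξ : X} {m : L.presheaf.stalk ξ} (hm0 : cls L ξ m ≠ 0)
    (hv : v ξ = cls L ξ m) (hsm : s = cls L _ (L.presheaf.stalkSpecializes (gen_sp ξ) m)) :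
    ∃ w : X.presheaf.stalk ξ, IsUnit w ∧ coordRes hL s ξ = inc ξ w ∧ valRes hL v ξ = X.residue ξ w := by
  have hg := base_isGen hL ξ
  obtain ⟨w, hw⟩ := Submodule.mem_span_singleton.1 (hg.1.ge (Submodule.mem_top : m ∈ ⊤))
  have hwu : IsUnit w := by
    by_contra h
    apply hm0
    rw [← hw, cls_smul, ← not_ne_iff, ← residue_ne_zero hg, not_ne_iff]
    exact Ideal.Quotient.eq_zero_iff_mem.2 h
  refine ⟨w, hwu, ?_, ?_⟩
  · rw [coordRes_eq hL hw.symm (Φ := 1) (by rw [one_smul]; exact hsm), map_one, one_mul]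
  · rw [valRes_eq hL hw.symm (ψ := 1) (by rw [one_smul]; exact hv), map_one, one_mul]

/-- No correction where the first section is invertible. -/
theorem wit_eq_one_left (hd : Cyc.IsDimFun X δ) (ht : t ≠ 0) {ξ : X} (hξ : δ ξ + 1 = δ (genericPoint X))
    {m : L.presheaf.stalk ξ} (hm0 : cls L ξ m ≠ 0) (hv : v ξ = cls L ξ m)
    (hsm : s = cls L _ (L.presheaf.stalkSpecializes (gen_sp ξ) m)) :
    wit hL hN δ s t u v ξ = 1 := by
  obtain ⟨w, hw, hc, hval⟩ := exists_unit_coord hL hm0 hv hsm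
  obtain ⟨Φ, hΦ⟩ := exists_coord (base_isGen' hN (gen_sp ξ)) t
  have hΦ0 : X.residue _ Φ ≠ 0 := (residue_ne_zero (base_isGen' hN (gen_sp ξ))).2 (hΦ ▸ ht)
  have hg : coordRes hN t ξ = X.residue _ Φ := by
    rw [coordRes_eq hN (one_smul _ (base hN ξ)).symm hΦ, map_one, mul_one]
  obtain ⟨ΦL, hΦL⟩ := exists_coord (base_isGen' hL (gen_sp ξ)) s
  have hF : coordRes hL s ξ = X.residue _ ΦL := by
    rw [coordRes_eq hL (one_smul _ (base hL ξ)).symm hΦL, map_one, mul_one]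
  have hF0 : X.residue _ ΦL ≠ 0 := by
    rw [← hF, hc]; exact (map_ne_zero_iff _ (inc_injective ξ)).2 hw.ne_zero
  have ha : Cyc.secDivFun δ L (genericPoint X) s ξ = 0 := by
    rw [secDivFun_gen_eq hL hd hξ (base_isGen hL ξ) hΦL hF0, ← hF, hc]
    exact CycLib.ordAt_eq_zero_of_isUnit hd (gen_sp ξ) hξ hw
  rw [wit, ha, zpow_zero, mul_one, secDivFun_gen_eq hN hd hξ (base_isGen hN ξ) hΦ hΦ0, hval,
    symAt_unit_left hd hξ (hg ▸ hΦ0) hw hc, hg, ← zpow_add₀ (hw.map (X.residue ξ).hom).ne_zero, add_neg_cancel,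
    zpow_zero]

/-- No correction where the second section is invertible. -/
theorem wit_eq_one_right (hd : Cyc.IsDimFun X δ) (hs : s ≠ 0) {ξ : X} (hξ : δ ξ + 1 = δ (genericPoint X))
    {m : N.presheaf.stalk ξ} (hm0 : cls N ξ m ≠ 0) (hu : u ξ = cls N ξ m)
    (htm : t = cls N _ (N.presheaf.stalkSpecializes (gen_sp ξ) m)) :
    wit hL hN δ s t u v ξ = 1 := by
  obtain ⟨w, hw, hc, hval⟩ := exists_unit_coord hN hm0 hu htm
  obtain ⟨Φ, hΦ⟩ := exists_coord (base_isGen' hL (gen_sp ξ)) s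
  have hΦ0 : X.residue _ Φ ≠ 0 := (residue_ne_zero (base_isGen' hL (gen_sp ξ))).2 (hΦ ▸ hs)
  have hf : coordRes hL s ξ = X.residue _ Φ := by
    rw [coordRes_eq hL (one_smul _ (base hL ξ)).symm hΦ, map_one, mul_one]
  obtain ⟨ΦN, hΦN⟩ := exists_coord (base_isGen' hN (gen_sp ξ)) t
  have hG : coordRes hN t ξ = X.residue _ ΦN := by
    rw [coordRes_eq hN (one_smul _ (base hN ξ)).symm hΦN, map_one, mul_one]
  have hG0 : X.residue _ ΦN ≠ 0 := by
    rw [← hG, hc]; exact (map_ne_zero_iff _ (inc_injective ξ)).2 hw.ne_zero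
  have hb : Cyc.secDivFun δ N (genericPoint X) t ξ = 0 := by
    rw [secDivFun_gen_eq hN hd hξ (base_isGen hN ξ) hΦN hG0, ← hG, hc]
    exact CycLib.ordAt_eq_zero_of_isUnit hd (gen_sp ξ) hξ hw
  rw [wit, hb, neg_zero, zpow_zero, mul_one, secDivFun_gen_eq hL hd hξ (base_isGen hL ξ) hΦ hΦ0, hval,
    symAt_unit_right hd hξ (hf ▸ hΦ0) hw hc, hf, ← zpow_add₀ (hw.map (X.residue ξ).hom).ne_zero, neg_add_cancel,
    zpow_zero]

end Groth.Agent.H23.C1Comm
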