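import Groth.Agent.H23.C1Class
import Groth.Agent.H23.C1Desc
import Mathlib.Topology.KrullDimension
import Mathlib.Topology.Sober

/-! Products of first Chern classes raise the codimension in the base. -/

set_option autoImplicit false
set_option linter.style.haveILetI false

universe u

open AlgebraicGeometry CategoryTheory TopologicalSpace

noncomputable section

namespace Groth.Agent.H23.C1Vanish

open Groth.Agent RatSec C1Pull

variable {X Y : Scheme.{u}} (g : Y ⟶ X) {L : X.Modules} (hL : PicF.IsInvertible L)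

/-- A generator at each point of the base, pulled back. -/
def baseSec (y : Y) : Cyc.secFibre ((Scheme.Modules.pullback g).obj L) y :=
  cls _ y (pm g L y (exists_gen hL (g y)).choose)

theorem baseSec_ne_zero (y : Y) : baseSec g hL y ≠ 0 := by
  have h := isGen_pm (p := g) (exists_gen hL (g y)).choose_spec.1
  have h1 := (residue_ne_zero h (φ := (1 : Y.presheaf.stalk y))).1 (by rw [map_one]; exact one_ne_zero)
  rwa [one_smul] at h1

theorem spec_choose {a b : X} (h : b ⤳ a) (e : b = a) :
    L.presheaf.stalkSpecializes h (exists_gen hL a).choose = (exists_gen hL b).choose := by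
  subst e
  rw [TopCat.Presheaf.stalkSpecializes_refl]
  rfl

variable [IsLocallyNoetherian Y] {δ : Y → ℤ}

/-- The divisor avoids the fibre. -/
theorem secDivFun_baseSec (hd : Cyc.IsDimFun Y δ) {ξ x : Y} (e : g ξ = g x) :
    Cyc.secDivFun δ ((Scheme.Modules.pullback g).obj L) ξ (baseSec g hL ξ) x = 0 := by
  classical
  by_cases h : ξ ⤳ x ∧ δ x + 1 = δ ξ
  swap
  · exact dif_neg h
  have hLY := PicClLib.isInvertible_pullback g hL
  have hs : baseSec g hL ξ = (1 : Y.presheaf.stalk ξ) •
      cls _ ξ (((Scheme.Modules.pullback g).obj L).presheaf.stalkSpecializes h.1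
        (pm g L x (exists_gen hL (g x)).choose)) := by
    rw [one_smul, ← pm_stalkSpecializes, spec_choose hL _ e]
    rfl
  rw [secDivFun_eq hLY hd h.1 (isGen_pm (exists_gen hL (g x)).choose_spec.1).1 hs
      (by rw [map_one]; exact one_ne_zero), map_one, CycLib.divFun_eq δ _ h.1 h.2]
  exact CycLib.ordAt_one hd h.1 h.2

omit [IsLocallyNoetherian Y] in
/-- The closure of a point, as an irreducible closed set. -/
def pointClosure (a : X) : IrreducibleCloseds X :=
  ⟨closure {a}, isIrreducible_singleton.closure, isClosed_closure⟩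

omit [IsLocallyNoetherian Y] in
/-- A point of the base has codimension at least `j`. -/
def HasChain (j : ℕ) (a : X) : Prop :=
  ∃ q : LTSeries (IrreducibleCloseds X), q.length = j ∧ q.head = pointClosure a

omit [IsLocallyNoetherian Y] in
theorem hasChain_zero (a : X) : HasChain 0 a := ⟨RelSeries.singleton _ (pointClosure a), rfl, rfl⟩

omit [IsLocallyNoetherian Y] in
theorem hasChain_succ {j : ℕ} {a b : X} (h : HasChain j a) (hab : a ⤳ b) (hne : a ≠ b) : HasChain (j + 1) b := by
  obtain ⟨q, hq, hh⟩ := h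
  have hlt : pointClosure b < pointClosure a := by
    refine lt_of_le_of_ne (show closure {b} ⊆ closure {a} from
      closure_minimal (Set.singleton_subset_iff.2 (specializes_iff_mem_closure.1 hab)) isClosed_closure) fun e => hne ?_
    have e' : closure {b} = closure {a} := congrArg (fun C : IrreducibleCloseds X => (C : Set X)) e
    exact (inseparable_iff_closure_eq.2 e'.symm).eq
  exact ⟨q.cons (pointClosure b) (hh ▸ hlt), by simp [hq], by simp⟩

omit [IsLocallyNoetherian Y] in
theorem not_hasChain {d j : ℕ} (hd : topologicalKrullDim X ≤ (d : WithBot ℕ∞)) (hj : d < j) (a : X) :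
    ¬ HasChain j a := by
  rintro ⟨q, hq, -⟩
  have h := (Order.LTSeries.length_le_krullDim q).trans hd
  rw [hq] at h
  have h1 : j ≤ d := by exact_mod_cast h
  omega

/-- One step. -/
theorem exists_cap {k : ℤ} {δX : X → ℤ} (c : Bivar.OpCl 1 X δX) (hc : Bivar.IsC1Class L c)
    {s : Bivar.OSq X δX} (hs : Cyc.IsSetup s.Y s.δ) {α : AlgebraicCycle s.Y ℤ}
    (hα : α ∈ Cyc.Zk s.Y s.δ k) {j : ℕ} (hj : ∀ ξ, α ξ ≠ 0 → HasChain j (s.g ξ)) :
    ∃ (γ : AlgebraicCycle s.Y ℤ) (hγ : γ ∈ Cyc.Zk s.Y s.δ (k - 1)),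
      c.op s k (ChowOps.cl α hα) = ChowOps.cl γ hγ ∧ ∀ x, γ x ≠ 0 → HasChain (j + 1) (s.g x) := by
  classical
  haveI := hs.1
  have hLY := PicClLib.isInvertible_pullback s.g hc.1
  have hv := baseSec_ne_zero s.g hc.1
  refine ⟨c1CapCycle hLY hs.2.2 α _ hv, C1Class.capCycle_mem hLY hs.2.2 hα _ hv,
    hc.2 s k α hα _ hv _ (coe_c1CapCycle hLY hs.2.2 α _ hv) _, fun x hx => ?_⟩
  rw [coe_c1CapCycle, Cyc.c1CapFun] at hx
  obtain ⟨ξ, hξ⟩ := not_forall.1 (mt finsum_eq_zero_of_forall_eq_zero hx)
  have h1 := left_ne_zero_of_mul hξ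
  have h2 := right_ne_zero_of_mul hξ
  have hne : s.g ξ ≠ s.g x := fun e => h2 (secDivFun_baseSec s.g hc.1 hs.2.2 e)
  have hsp : ξ ⤳ x := by_contra fun h => h2 (dif_neg fun h' => h h'.1)
  exact hasChain_succ (hj ξ h1) (hsp.map s.g.continuous) hne

end Groth.Agent.H23.C1Vanish
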