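import Mathlib.LinearAlgebra.Projectivization.Basic
import Mathlib.RingTheory.MvPolynomial.Homogeneous
import Mathlib.Algebra.Module.Submodule.Union
import Mathlib.LinearAlgebra.Dimension.Finrank
import Mathlib.LinearAlgebra.FiniteDimensional.Basic
import Mathlib.FieldTheory.IsAlgClosed.Basic
import Mathlib.LinearAlgebra.Dual.Lemmas
import Mathlib.Data.Set.Card
import Mathlib.LinearAlgebra.Quotient.Basic
import Mathlib.Algebra.CharZero.Infinite

/-! Finite point sets in projective three-space with the Cayley–Bacharach property. -/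

open Module

namespace Groth.Agent.H23.CB

variable {k : Type*} [Field k]

abbrev Pt (k : Type*) [Field k] := Projectivization k (Fin 4 → k)

def IsCB (Z : Finset (Pt k)) (n : ℕ) : Prop :=
  ∀ z ∈ Z, ∀ p : MvPolynomial (Fin 4) k, p.IsHomogeneous n →
    (∀ z' ∈ Z, z' ≠ z → MvPolynomial.eval z'.rep p = 0) → MvPolynomial.eval z.rep p = 0

theorem le_iff {z : Pt k} {W : Submodule k (Fin 4 → k)} : z.submodule ≤ W ↔ z.rep ∈ W := by
  rw [Projectivization.submodule_eq, Submodule.span_singleton_le_iff_mem]

theorem eq_of_rep_mem {z z' : Pt k} (h : z.rep ∈ z'.submodule) : z = z' := by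
  apply Projectivization.submodule_injective
  exact Submodule.eq_of_le_of_finrank_eq (le_iff.mpr h)
    (by rw [Projectivization.finrank_submodule, Projectivization.finrank_submodule])

theorem eq_one_le {W : Submodule k (Fin 4 → k)} (h : finrank k W ≤ 1) {z z' : Pt k}
    (hz : z.rep ∈ W) (hz' : z'.rep ∈ W) : z = z' := by
  apply eq_of_rep_mem
  have := Submodule.eq_of_le_of_finrank_le (le_iff.mpr hz') (by rw [Projectivization.finrank_submodule]; exact h)
  rwa [this]

theorem exists_linForm [Infinite k] (W : Submodule k (Fin 4 → k)) (T : Finset (Pt k))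
    (hT : ∀ z ∈ T, z.rep ∉ W) :
    ∃ l : MvPolynomial (Fin 4) k, l.IsHomogeneous 1 ∧ (∀ v ∈ W, MvPolynomial.eval v l = 0) ∧
      ∀ z ∈ T, MvPolynomial.eval z.rep l ≠ 0 := by
  obtain ⟨f, hf⟩ := Module.exists_dual_forall_apply_ne_zero (K := k)
    (fun z : T => Submodule.Quotient.mk (p := W) (z : Pt k).rep)
    (fun z h => hT z z.2 ((Submodule.Quotient.mk_eq_zero W).mp h))
  let g : Dual k (Fin 4 → k) := f.comp W.mkQ
  refine ⟨∑ i, MvPolynomial.C (g (Pi.single i 1)) * MvPolynomial.X i, ?_, ?_, ?_⟩
  · exact MvPolynomial.IsHomogeneous.sum _ _ _ fun i _ => MvPolynomial.isHomogeneous_C_mul_X _ _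
  all_goals
    have he : ∀ v, MvPolynomial.eval v (∑ i, MvPolynomial.C (g (Pi.single i 1)) * MvPolynomial.X i) = g v := by
      intro v
      conv_rhs => rw [pi_eq_sum_univ' v, map_sum]
      simp [mul_comm]
  · intro v hv
    rw [he]
    simp [g, (Submodule.Quotient.mk_eq_zero W).mpr hv]
  · intro z hz
    rw [he]
    exact hf ⟨z, hz⟩

theorem pi_ne_top {W : Submodule k (Fin 4 → k)} (h : finrank k W ≤ 3) : W ≠ ⊤ := by
  intro e; rw [e, finrank_top, Module.finrank_fin_fun] at h; omega

/-- No point of a `CB(n)` set is separated from the others by at most `n` subspaces. -/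
theorem not_cover [Infinite k] {Z : Finset (Pt k)} {n : ℕ} (h : IsCB Z n) {z : Pt k} (hz : z ∈ Z)
    (s : List (Submodule k (Fin 4 → k))) (hs : s.length ≤ n) (hzs : ∀ W ∈ s, z.rep ∉ W)
    (hcov : ∀ z' ∈ Z, z' ≠ z → ∃ W ∈ s, z'.rep ∈ W) : False := by
  have key : ∀ s : List (Submodule k (Fin 4 → k)), (∀ W ∈ s, z.rep ∉ W) →
      ∃ p : MvPolynomial (Fin 4) k, p.IsHomogeneous s.length ∧ MvPolynomial.eval z.rep p ≠ 0 ∧
        ∀ W ∈ s, ∀ v ∈ W, MvPolynomial.eval v p = 0 := by
    intro s
    induction s with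
    | nil => exact fun _ => ⟨1, MvPolynomial.isHomogeneous_one _ _, by simp, by simp⟩
    | cons W s ih =>
      intro hzs
      obtain ⟨p, hp, hpz, hps⟩ := ih fun W' hW' => hzs W' (List.mem_cons_of_mem _ hW')
      obtain ⟨l, hl, hlW, hlz⟩ := exists_linForm W {z} (by simpa using hzs W List.mem_cons_self)
      refine ⟨p * l, by simpa using hp.mul hl, by simpa [hpz] using hlz z (Finset.mem_singleton_self z), ?_⟩
      intro W' hW' v hv
      rcases List.mem_cons.mp hW' with rfl | hW'
      · simp [hlW v hv]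
      · simp [hps W' hW' v hv]
  obtain ⟨p, hp, hpz, hps⟩ := key s hzs
  obtain ⟨l, hl, -, hlz⟩ := exists_linForm ⊥ {z} (by simpa using z.rep_nonzero)
  have hlz' := hlz z (Finset.mem_singleton_self z)
  have := h z hz (p * l ^ (n - s.length))
    (by have := hp.mul (hl.pow (n - s.length)); rwa [one_mul, Nat.add_sub_cancel' hs] at this)
    (fun z' hz' hne => by
      obtain ⟨W, hW, hv⟩ := hcov z' hz' hne
      simp [hps W hW _ hv])
  simp [hpz, hlz'] at this

variable [DecidableEq (Pt k)]

theorem add_two_le_card [Infinite k] {Z : Finset (Pt k)} {n : ℕ} (h : IsCB Z n) (hne : Z.Nonempty) :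
    n + 2 ≤ Z.card := by
  obtain ⟨z, hz⟩ := hne
  by_contra hc
  refine not_cover h hz ((Z.erase z).toList.map fun y => y.submodule) ?_ ?_ ?_
  · rw [List.length_map, Finset.length_toList, Finset.card_erase_of_mem hz]; omega
  · intro W hW
    simp only [List.mem_map, Finset.mem_toList, Finset.mem_erase] at hW
    obtain ⟨y, ⟨hy, -⟩, rfl⟩ := hW
    exact fun hm => hy (eq_of_rep_mem hm).symm
  · intro y hy hne
    refine ⟨y.submodule, ?_, le_iff.mp le_rfl⟩
    simp only [List.mem_map, Finset.mem_toList, Finset.mem_erase]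
    exact ⟨y, ⟨hne, hy⟩, rfl⟩

open Classical in
/-- Removing the points of a subspace lowers the degree by one. -/
theorem residual [Infinite k] {Z : Finset (Pt k)} {n : ℕ} (h : IsCB Z (n + 1))
    (W : Submodule k (Fin 4 → k)) : IsCB (Z.filter fun z => z.rep ∉ W) n := by
  intro z hz p hp hvan
  obtain ⟨l, hl, hlW, hlz⟩ := exists_linForm W (Z.filter fun z => z.rep ∉ W) fun y hy => (Finset.mem_filter.mp hy).2
  have := h z (Finset.mem_filter.mp hz).1 (p * l) (hp.mul hl) fun y hy hne => by
    by_cases hyW : y.rep ∈ W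
    · simp [hlW _ hyW]
    · simp [hvan y (Finset.mem_filter.mpr ⟨hy, hyW⟩) hne]
  simpa [hlz z hz] using this

open Classical in
noncomputable def pts (Z : Finset (Pt k)) (W : Submodule k (Fin 4 → k)) : Finset (Pt k) :=
  Z.filter fun z => z.rep ∈ W

open Classical in
theorem card_split (Z : Finset (Pt k)) (W : Submodule k (Fin 4 → k)) :
    (pts Z W).card + (Z.filter fun z => z.rep ∉ W).card = Z.card :=
  Finset.card_filter_add_card_filter_not _

theorem mem_pts {Z : Finset (Pt k)} {W : Submodule k (Fin 4 → k)} {z : Pt k} :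
    z ∈ pts Z W ↔ z ∈ Z ∧ z.rep ∈ W := by
  classical simp [pts]

theorem exists_best (Z : Finset (Pt k)) (d : ℕ) :
    ∃ W : Submodule k (Fin 4 → k), finrank k W ≤ d ∧
      ∀ W' : Submodule k (Fin 4 → k), finrank k W' ≤ d → (pts Z W').card ≤ (pts Z W).card := by
  classical
  let P : ℕ → Prop := fun c => ∃ W : Submodule k (Fin 4 → k), finrank k W ≤ d ∧ (pts Z W).card = c
  have hb : ∀ W : Submodule k (Fin 4 → k), (pts Z W).card ≤ Z.card := fun W => by
    have := card_split Z W; omega
  have h0 : P (pts Z ⊥).card := ⟨⊥, by simp, rfl⟩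
  obtain ⟨W, hW, hc⟩ := Nat.findGreatest_spec (P := P) (hb ⊥) h0
  exact ⟨W, hW, fun W' hW' => hc ▸ Nat.le_findGreatest (hb W') ⟨W', hW', rfl⟩⟩

theorem exists_finrank_eq {W : Submodule k (Fin 4 → k)} {d : ℕ} (h : finrank k W ≤ d) (hd : d ≤ 4) :
    ∃ W' : Submodule k (Fin 4 → k), W ≤ W' ∧ finrank k W' = d := by
  induction d with
  | zero => exact ⟨W, le_rfl, by omega⟩
  | succ d ih =>
    rcases Nat.lt_or_eq_of_le h with h' | h'
    · obtain ⟨W', hle, hW'⟩ := ih (by omega) (by omega)
      have hne : W' ≠ ⊤ := pi_ne_top (by omega)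
      obtain ⟨v, -, hv⟩ := SetLike.exists_of_lt (lt_top_iff_ne_top.mpr hne)
      exact ⟨W' ⊔ (k ∙ v), hle.trans le_sup_left, by
        rw [Submodule.finrank_sup_span_singleton hv, hW']⟩
    · exact ⟨W, le_rfl, h'⟩

theorem collinear [Infinite k] : ∀ (n : ℕ) (Z : Finset (Pt k)), IsCB Z n → Z.card ≤ 2 * n + 1 →
    ∃ W : Submodule k (Fin 4 → k), finrank k W ≤ 2 ∧ ∀ z ∈ Z, z.rep ∈ W := by
  classical
  intro n
  induction n with
  | zero =>
    intro Z h hc
    rcases Z.eq_empty_or_nonempty with rfl | hne
    · exact ⟨⊥, by simp, by simp⟩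
    · have := add_two_le_card h hne; omega
  | succ n ih =>
    intro Z h hc
    rcases Z.eq_empty_or_nonempty with rfl | hne
    · exact ⟨⊥, by simp, by simp⟩
    have hn2 := add_two_le_card h hne
    obtain ⟨L, hL, hbest⟩ := exists_best Z 2
    refine ⟨L, hL, fun z hz => ?_⟩
    by_contra hzL
    obtain ⟨a, ha, b, hb, hab⟩ := Finset.one_lt_card.mp (show 1 < Z.card by omega)
    have h2 : 2 ≤ (pts Z L).card := by
      refine le_trans ?_ (hbest (a.submodule ⊔ b.submodule) ?_)
      · refine Finset.one_lt_card.mpr ⟨a, ?_, b, ?_, hab⟩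
        · exact mem_pts.mpr ⟨ha, Submodule.mem_sup_left (le_iff.mp le_rfl)⟩
        · exact mem_pts.mpr ⟨hb, Submodule.mem_sup_right (le_iff.mp le_rfl)⟩
      · refine (Submodule.finrank_add_le_finrank_add_finrank _ _).trans ?_
        rw [Projectivization.finrank_submodule, Projectivization.finrank_submodule]
    have hsplit := card_split Z L
    have hres := residual h L
    have hne' : (Z.filter fun z => z.rep ∉ L).Nonempty := ⟨z, Finset.mem_filter.mpr ⟨hz, hzL⟩⟩
    obtain ⟨L', hL', hall⟩ := ih _ hres (by omega)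
    have hn' := add_two_le_card hres hne'
    have : (Z.filter fun z => z.rep ∉ L).card ≤ (pts Z L').card :=
      Finset.card_le_card fun y hy => mem_pts.mpr ⟨(Finset.mem_filter.mp hy).1, hall y hy⟩
    have := hbest L' hL'
    omega

theorem mem_of_two {L L' : Submodule k (Fin 4 → k)} (hdisj : L ⊓ L' = ⊥) {z z' : Pt k} (hne : z ≠ z')
    (hz : z.rep ∈ L) (hz' : z'.rep ∈ L) : z.rep ∉ L' ⊔ z'.submodule := by
  intro h
  obtain ⟨a, ha, b, hb, hab⟩ := Submodule.mem_sup.mp h
  have haL : a ∈ L := by
    rw [show a = z.rep - b from eq_sub_of_add_eq hab]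
    exact sub_mem hz (le_iff.mpr hz' hb)
  have ha0 : a = 0 := by
    have : a ∈ L ⊓ L' := ⟨haL, ha⟩
    rwa [hdisj, Submodule.mem_bot] at this
  rw [ha0, zero_add] at hab
  exact hne (eq_of_rep_mem (hab ▸ hb))

/-- A line with at most `n + 1` points next to a skew line does not give `CB(n)`. -/
theorem not_skew [Infinite k] {Z : Finset (Pt k)} {n : ℕ} (hn : 1 ≤ n) (h : IsCB Z n)
    {L L' : Submodule k (Fin 4 → k)} (hdisj : L ⊓ L' = ⊥) (hsub : ∀ z ∈ Z, z.rep ∈ L ∨ z.rep ∈ L')
    (hpos : (pts Z L).Nonempty) (hcard : (pts Z L).card ≤ n + 1) : False := by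
  classical
  obtain ⟨z, hz⟩ := hpos
  obtain ⟨hzZ, hzL⟩ := mem_pts.mp hz
  rcases ((pts Z L).erase z).eq_empty_or_nonempty with he | ⟨z', hz'⟩
  · refine not_cover h hzZ [L'] hn ?_ ?_
    · intro W hW hm
      rw [List.mem_singleton] at hW; subst hW
      have : z.rep ∈ L ⊓ W := ⟨hzL, hm⟩
      rw [hdisj, Submodule.mem_bot] at this
      exact z.rep_nonzero this
    · intro y hy hne
      refine ⟨L', List.mem_singleton_self _, (hsub y hy).resolve_left fun hyL => ?_⟩
      exact Finset.notMem_empty y (he ▸ Finset.mem_erase.mpr ⟨hne, mem_pts.mpr ⟨hy, hyL⟩⟩)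
  · obtain ⟨hne', hz'mem⟩ := Finset.mem_erase.mp hz'
    obtain ⟨-, hz'L⟩ := mem_pts.mp hz'mem
    refine not_cover h hzZ
      ((L' ⊔ z'.submodule) :: (((pts Z L).erase z).erase z').toList.map fun y => y.submodule) ?_ ?_ ?_
    · rw [List.length_cons, List.length_map, Finset.length_toList, Finset.card_erase_of_mem hz',
        Finset.card_erase_of_mem hz]
      omega
    · intro W hW
      simp only [List.mem_cons, List.mem_map, Finset.mem_toList, Finset.mem_erase] at hW
      rcases hW with rfl | ⟨y, ⟨-, hy, -⟩, rfl⟩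
      · exact mem_of_two hdisj hne'.symm hzL hz'L
      · exact fun hm => hy (eq_of_rep_mem hm).symm
    · intro y hy hne
      simp only [List.mem_cons, List.mem_map, Finset.mem_toList, Finset.mem_erase]
      by_cases hy' : y = z'
      · exact ⟨_, Or.inl rfl, Submodule.mem_sup_right (hy' ▸ le_iff.mp le_rfl)⟩
      rcases hsub y hy with hyL | hyL
      · exact ⟨y.submodule, Or.inr ⟨y, ⟨hy', hne, mem_pts.mpr ⟨hy, hyL⟩⟩, rfl⟩, le_iff.mp le_rfl⟩
      · exact ⟨_, Or.inl rfl, Submodule.mem_sup_left hyL⟩

theorem sup_le_three {L L' : Submodule k (Fin 4 → k)} (hL : finrank k L ≤ 2) (hL' : finrank k L' ≤ 2)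
    (h : L ⊓ L' ≠ ⊥) : finrank k (L ⊔ L' : Submodule k (Fin 4 → k)) ≤ 3 := by
  have h1 := Submodule.finrank_sup_add_finrank_inf_eq L L'
  have h2 := Submodule.one_le_finrank_iff.mpr h
  omega

def Planar (Z : Finset (Pt k)) : Prop :=
  ∃ W : Submodule k (Fin 4 → k), finrank k W ≤ 3 ∧ ∀ z ∈ Z, z.rep ∈ W

def TwoLines (Z : Finset (Pt k)) (n : ℕ) : Prop :=
  ∃ L L' : Submodule k (Fin 4 → k), finrank k L ≤ 2 ∧ finrank k L' ≤ 2 ∧ L ⊓ L' = ⊥ ∧
    (∀ z ∈ Z, z.rep ∈ L ∨ z.rep ∈ L') ∧ n + 1 ≤ (pts Z L).card ∧ n + 1 ≤ (pts Z L').card ∧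
    2 * n + 3 ≤ Z.card

theorem planar_or [Infinite k] : ∀ (n : ℕ) (Z : Finset (Pt k)), IsCB Z n → Z.card ≤ 3 * n + 1 →
    Planar Z ∨ (1 ≤ n ∧ TwoLines Z n) := by
  classical
  intro n
  induction n with
  | zero =>
    intro Z h hc
    rcases Z.eq_empty_or_nonempty with rfl | hne
    · exact Or.inl ⟨⊥, by simp, by simp⟩
    · have := add_two_le_card h hne; omega
  | succ n ih =>
    intro Z h hc
    by_cases hpl : Planar Z
    · exact Or.inl hpl
    refine Or.inr ⟨by omega, ?_⟩
    have hne : Z.Nonempty := Finset.nonempty_iff_ne_empty.mpr fun he => hpl ⟨⊥, by simp, by simp [he]⟩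
    have hn2 := add_two_le_card h hne
    obtain ⟨L, hL, hbest⟩ := exists_best Z 2
    by_cases hbig : n + 3 ≤ (pts Z L).card
    · have hsplit := card_split Z L
      rcases (Z.filter fun z => z.rep ∉ L).eq_empty_or_nonempty with he | hne'
      · refine absurd ⟨L, by omega, fun z hz => ?_⟩ hpl
        by_contra hzL
        exact Finset.notMem_empty z (he ▸ Finset.mem_filter.mpr ⟨hz, hzL⟩)
      have hres := residual h L
      obtain ⟨L', hL', hall⟩ := collinear n _ hres (by omega)
      have hn' := add_two_le_card hres hne'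
      have hle : (Z.filter fun z => z.rep ∉ L).card ≤ (pts Z L').card :=
        Finset.card_le_card fun y hy => mem_pts.mpr ⟨(Finset.mem_filter.mp hy).1, hall y hy⟩
      have hcov : ∀ z ∈ Z, z.rep ∈ L ∨ z.rep ∈ L' := fun z hz =>
        or_iff_not_imp_left.mpr fun hzL => hall z (Finset.mem_filter.mpr ⟨hz, hzL⟩)
      have hdisj : L ⊓ L' = ⊥ := by
        by_contra hd
        exact hpl ⟨L ⊔ L', sup_le_three hL hL' hd, fun z hz =>
          (hcov z hz).elim (fun h => Submodule.mem_sup_left h) (fun h => Submodule.mem_sup_right h)⟩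
      exact ⟨L, L', hL, hL', hdisj, hcov, by omega, by omega, by omega⟩
    by_cases heq : n + 2 ≤ (pts Z L).card
    · exfalso
      obtain ⟨q, hq, hqL⟩ : ∃ q ∈ Z, q.rep ∉ L := by
        by_contra! hall; exact hpl ⟨L, by omega, hall⟩
      set P := L ⊔ q.submodule with hP
      have hPr : finrank k P ≤ 3 := by
        refine (Submodule.finrank_add_le_finrank_add_finrank _ _).trans ?_
        rw [Projectivization.finrank_submodule]; omega
      have hsplit := card_split Z P
      have hlt : (pts Z L).card < (pts Z P).card :=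
        Finset.card_lt_card ((Finset.ssubset_iff_of_subset fun y hy =>
          mem_pts.mpr ⟨(mem_pts.mp hy).1, Submodule.mem_sup_left (mem_pts.mp hy).2⟩).mpr
          ⟨q, mem_pts.mpr ⟨hq, Submodule.mem_sup_right (le_iff.mp le_rfl)⟩, fun hm => hqL (mem_pts.mp hm).2⟩)
      rcases (Z.filter fun z => z.rep ∉ P).eq_empty_or_nonempty with he | hne'
      · refine hpl ⟨P, hPr, fun z hz => ?_⟩
        by_contra hzP
        exact Finset.notMem_empty z (he ▸ Finset.mem_filter.mpr ⟨hz, hzP⟩)
      have hres := residual h P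
      obtain ⟨L', hL', hall⟩ := collinear n _ hres (by omega)
      have hn' := add_two_le_card hres hne'
      have hle : (Z.filter fun z => z.rep ∉ P).card ≤ (pts Z L').card :=
        Finset.card_le_card fun y hy => mem_pts.mpr ⟨(Finset.mem_filter.mp hy).1, hall y hy⟩
      have hL'max := hbest L' hL'
      by_cases hd : L ⊓ L' = ⊥
      · -- the two lines are skew
        set T := Z.filter fun z => z.rep ∉ L ∧ z.rep ∉ L' with hT
        rcases T.eq_empty_or_nonempty with he | ⟨t, ht⟩
        · refine not_skew (by omega) h hd (fun z hz => ?_) (Finset.card_pos.mp (by omega)) (by omega)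
          by_contra hcon
          push_neg at hcon
          exact Finset.notMem_empty z (he ▸ Finset.mem_filter.mpr ⟨hz, hcon⟩)
        · obtain ⟨htZ, htL, htL'⟩ := Finset.mem_filter.mp ht
          have hsum : (pts Z L).card + (pts Z L').card + T.card ≤ Z.card := by
            rw [← Finset.card_union_of_disjoint, ← Finset.card_union_of_disjoint]
            · refine Finset.card_le_card fun y hy => ?_
              simp only [Finset.mem_union, mem_pts, hT, Finset.mem_filter] at hy
              tauto
            · rw [Finset.disjoint_left]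
              intro y hy hy'
              simp only [Finset.mem_union, mem_pts, hT, Finset.mem_filter] at hy hy'
              tauto
            · rw [Finset.disjoint_left]
              intro y hy hy'
              have : y.rep ∈ L ⊓ L' := ⟨(mem_pts.mp hy).2, (mem_pts.mp hy').2⟩
              rw [hd, Submodule.mem_bot] at this
              exact y.rep_nonzero this
          refine not_cover h htZ (L :: L' :: (T.erase t).toList.map fun y => y.submodule) ?_ ?_ ?_
          · rw [List.length_cons, List.length_cons, List.length_map, Finset.length_toList,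
              Finset.card_erase_of_mem ht]
            have := Finset.card_pos.mpr ⟨t, ht⟩
            omega
          · intro W hW
            simp only [List.mem_cons, List.mem_map, Finset.mem_toList, Finset.mem_erase] at hW
            rcases hW with rfl | rfl | ⟨y, ⟨hy, -⟩, rfl⟩
            · exact htL
            · exact htL'
            · exact fun hm => hy (eq_of_rep_mem hm).symm
          · intro y hy hne''
            simp only [List.mem_cons, List.mem_map, Finset.mem_toList, Finset.mem_erase]
            by_cases h1 : y.rep ∈ L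
            · exact ⟨L, Or.inl rfl, h1⟩
            by_cases h2 : y.rep ∈ L'
            · exact ⟨L', Or.inr (Or.inl rfl), h2⟩
            exact ⟨y.submodule, Or.inr (Or.inr ⟨y, ⟨hne'', Finset.mem_filter.mpr ⟨hy, h1, h2⟩⟩, rfl⟩),
              le_iff.mp le_rfl⟩
      · -- the two lines meet, so they span a plane
        set Q := L ⊔ L' with hQ
        have hQr := sup_le_three hL hL' hd
        have hcommon : ((pts Z L) ∩ (pts Z L')).card ≤ 1 := by
          refine Finset.card_le_one.mpr fun a ha b hb => ?_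
          simp only [Finset.mem_inter, mem_pts] at ha hb
          refine eq_one_le (W := L ⊓ L') ?_ ⟨ha.1.2, ha.2.2⟩ ⟨hb.1.2, hb.2.2⟩
          by_contra hcon
          have hsub : L ⊓ L' = L := Submodule.eq_of_le_of_finrank_le inf_le_left (by omega)
          have hsub' : L ⊓ L' = L' := Submodule.eq_of_le_of_finrank_le inf_le_right (by omega)
          obtain ⟨y, hy⟩ := hne'
          obtain ⟨hyZ, hyP⟩ := Finset.mem_filter.mp hy
          have hyL : y.rep ∈ L := hsub ▸ hsub'.symm ▸ hall y hy
          exact hyP (Submodule.mem_sup_left hyL)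
        have hu := Finset.card_union_add_card_inter (pts Z L) (pts Z L')
        have huQ : ((pts Z L) ∪ (pts Z L')).card ≤ (pts Z Q).card := Finset.card_le_card fun y hy => by
          simp only [Finset.mem_union, mem_pts] at hy ⊢
          exact hy.elim (fun h => ⟨h.1, Submodule.mem_sup_left h.2⟩) (fun h => ⟨h.1, Submodule.mem_sup_right h.2⟩)
        have hs2 := card_split Z Q
        rcases (Z.filter fun z => z.rep ∉ Q).eq_empty_or_nonempty with he | hne''
        · refine hpl ⟨Q, hQr, fun z hz => ?_⟩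
          by_contra hzQ
          exact Finset.notMem_empty z (he ▸ Finset.mem_filter.mpr ⟨hz, hzQ⟩)
        · have := add_two_le_card (residual h Q) hne''; omega
    -- no line carries `n + 2` points
    exfalso
    have hline : ∀ W : Submodule k (Fin 4 → k), finrank k W ≤ 2 → (pts Z W).card ≤ n + 1 := fun W hW => by
      have := hbest W hW; omega
    have h3 : ∃ a ∈ Z, ∃ b ∈ Z, ∃ c ∈ Z, a ≠ b ∧ a ≠ c ∧ b ≠ c := by
      obtain ⟨t, hts, htc⟩ := Finset.exists_subset_card_eq (show 3 ≤ Z.card by omega)
      obtain ⟨a, b, c, hab, hac, hbc, rfl⟩ := Finset.card_eq_three.mp htc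
      simp only [Finset.insert_subset_iff, Finset.singleton_subset_iff] at hts
      exact ⟨a, hts.1, b, hts.2.1, c, hts.2.2, hab, hac, hbc⟩
    obtain ⟨a, ha, b, hb, c, hcZ, hab, hac, hbc⟩ := h3
    have hn1 : 1 ≤ n := by
      have := hline (a.submodule ⊔ b.submodule) ((Submodule.finrank_add_le_finrank_add_finrank _ _).trans
        (by rw [Projectivization.finrank_submodule, Projectivization.finrank_submodule]))
      have h2 : 2 ≤ (pts Z (a.submodule ⊔ b.submodule)).card := Finset.one_lt_card.mpr
        ⟨a, mem_pts.mpr ⟨ha, Submodule.mem_sup_left (le_iff.mp le_rfl)⟩,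
         b, mem_pts.mpr ⟨hb, Submodule.mem_sup_right (le_iff.mp le_rfl)⟩, hab⟩
      omega
    obtain ⟨H, hH, hHbest⟩ := exists_best Z 3
    have hH3 : 3 ≤ (pts Z H).card := by
      refine le_trans ?_ (hHbest (a.submodule ⊔ b.submodule ⊔ c.submodule) ?_)
      · rw [← show ({a, b, c} : Finset (Pt k)).card = 3 from Finset.card_eq_three.mpr ⟨a, b, c, hab, hac, hbc, rfl⟩]
        refine Finset.card_le_card fun y hy => ?_
        simp only [Finset.mem_insert, Finset.mem_singleton] at hy
        rcases hy with rfl | rfl | rfl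
        · exact mem_pts.mpr ⟨ha, Submodule.mem_sup_left (Submodule.mem_sup_left (le_iff.mp le_rfl))⟩
        · exact mem_pts.mpr ⟨hb, Submodule.mem_sup_left (Submodule.mem_sup_right (le_iff.mp le_rfl))⟩
        · exact mem_pts.mpr ⟨hcZ, Submodule.mem_sup_right (le_iff.mp le_rfl)⟩
      · refine (Submodule.finrank_add_le_finrank_add_finrank _ _).trans ?_
        refine (Nat.add_le_add_right (Submodule.finrank_add_le_finrank_add_finrank _ _) _).trans ?_
        rw [Projectivization.finrank_submodule, Projectivization.finrank_submodule, Projectivization.finrank_submodule]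
    have hsplit := card_split Z H
    have hne' : (Z.filter fun z => z.rep ∉ H).Nonempty := by
      rw [Finset.nonempty_iff_ne_empty]
      intro he
      refine hpl ⟨H, hH, fun z hz => ?_⟩
      by_contra hzH
      exact Finset.notMem_empty z (he ▸ Finset.mem_filter.mpr ⟨hz, hzH⟩)
    have hres := residual h H
    have hn' := add_two_le_card hres hne'
    rcases ih _ hres (by omega) with ⟨W, hW, hall⟩ | ⟨-, M, M', hM, hM', -, hcov, -, -, hcard⟩
    · have hle : (Z.filter fun z => z.rep ∉ H).card ≤ (pts Z W).card :=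
        Finset.card_le_card fun y hy => mem_pts.mpr ⟨(Finset.mem_filter.mp hy).1, hall y hy⟩
      have := hHbest W hW
      obtain ⟨M, hM, hallM⟩ := collinear n _ hres (by omega)
      have hle' : (Z.filter fun z => z.rep ∉ H).card ≤ (pts Z M).card :=
        Finset.card_le_card fun y hy => mem_pts.mpr ⟨(Finset.mem_filter.mp hy).1, hallM y hy⟩
      have := hline M hM
      omega
    · have hle : (Z.filter fun z => z.rep ∉ H).card ≤ (pts Z M).card + (pts Z M').card :=
        (Finset.card_le_card (t := pts Z M ∪ pts Z M') fun y hy => by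
          rcases hcov y hy with h1 | h1
          · exact Finset.mem_union_left _ (mem_pts.mpr ⟨(Finset.mem_filter.mp hy).1, h1⟩)
          · exact Finset.mem_union_right _ (mem_pts.mpr ⟨(Finset.mem_filter.mp hy).1, h1⟩)).trans
          (Finset.card_union_le _ _)
      have := hline M hM
      have := hline M' hM'
      omega

end Groth.Agent.H23.CB
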