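import Groth.Agent.CAlgOdd.Acyclicity
import Groth.Agent.LC.PdRegular
import Groth.Agent.TorBridge.LES
import Groth.Agent.RegLoc6.Pd
import Groth.Agent.RegExch.Relative
import Groth.Prelude.Def_IntMult

/-!
# Vanishing of higher Tor from depth
If `pd M ≤ depth N` and `M ⊗ N` is killed by a power of the maximal ideal then the higher Tor modules
vanish; hence the intersection multiplicity is a length.
-/

set_option autoImplicit false
set_option linter.style.haveILetI false

universe u

open CategoryTheory CategoryTheory.Limits IsLocalRing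
open scoped TensorProduct

namespace Groth.Agent.H23.CMTor

open Groth.Agent Groth.Agent.RegLoc6 CAlgOdd.Acyclicity

variable {R : Type u} [CommRing R] [IsLocalRing R] [IsNoetherianRing R]

/-- Multiplication by `a` factors through a finite free module. -/
def Fac (M : Type u) [AddCommGroup M] [Module R M] (a : R) : Prop :=
  ∃ (n : ℕ) (p : M →ₗ[R] (Fin n → R)) (q : (Fin n → R) →ₗ[R] M), q ∘ₗ p = a • LinearMap.id

theorem fac_of_mem_annihilator {M : Type u} [AddCommGroup M] [Module R M] {a : R}
    (ha : a ∈ Module.annihilator R M) : Fac M a :=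
  ⟨0, 0, 0, LinearMap.ext fun x => by simp [Module.mem_annihilator.1 ha x]⟩

/-- The property passes to syzygies. -/
theorem fac_ker {M : Type u} [AddCommGroup M] [Module R M] {a : R} (h : Fac M a) {n : ℕ}
    (g : (Fin n → R) →ₗ[R] M) (hg : Function.Surjective g) :
    ∃ k : (Fin n → R) →ₗ[R] LinearMap.ker g, k ∘ₗ (LinearMap.ker g).subtype = a • LinearMap.id := by
  obtain ⟨m, p, q, hqp⟩ := h
  obtain ⟨q', hq'⟩ := Module.projective_lifting_property g q hg
  refine ⟨LinearMap.codRestrict _ (a • LinearMap.id - q' ∘ₗ p ∘ₗ g) fun v => ?_, ?_⟩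
  · rw [LinearMap.mem_ker]
    have h1 : g (q' (p (g v))) = q (p (g v)) := LinearMap.congr_fun hq' _
    have h2 : q (p (g v)) = a • g v := LinearMap.congr_fun hqp _
    simp [map_sub, h1, h2]
  · refine LinearMap.ext fun v => Subtype.ext ?_
    simp [LinearMap.mem_ker.1 v.2]

/-- No element is killed by a power of the maximal ideal when the depth is positive. -/
theorem eq_zero_of_pow_smul {X : Type u} [AddCommGroup X] [Module R X] (h : DepthGE 1 (ModuleCat.of R X)) :
    ∀ (t : ℕ) (z : X), (∀ a ∈ maximalIdeal R ^ t, a • z = 0) → z = 0 := by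
  intro t
  induction t with
  | zero => exact fun z hz => by simpa using hz 1 (by simp)
  | succ t ih =>
    intro z hz
    have hm : ∀ x ∈ maximalIdeal R, x • z = 0 := fun x hx => ih _ fun a ha => by
      rw [← mul_smul]
      exact hz _ (pow_succ (maximalIdeal R) t ▸ Ideal.mul_mem_mul ha hx)
    let φ : (R ⧸ maximalIdeal R) →ₗ[R] X := Submodule.liftQ _ (LinearMap.toSpanSingleton R X z) fun x hx => hm x hx
    haveI := h 0 one_pos
    have : Subsingleton (ModuleCat.of R (R ⧸ maximalIdeal R) ⟶ ModuleCat.of R X) :=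
      Abelian.Ext.addEquiv₀.symm.subsingleton
    have h0 := congrArg (fun (f : ModuleCat.of R (R ⧸ maximalIdeal R) ⟶ ModuleCat.of R X) => f.hom (Submodule.Quotient.mk 1))
      (Subsingleton.elim (ModuleCat.ofHom φ) 0)
    exact (one_smul R z).symm.trans h0

/-- Depth of a direct summand of a finite sum of copies. -/
theorem depthGE_of_sum {X Y : ModuleCat.{u} R} {n : ℕ} (d : ℕ) (p : Fin n → (X ⟶ Y)) (i : Fin n → (Y ⟶ X))
    (h : ∑ j, p j ≫ i j = 𝟙 X) (hY : DepthGE d Y) : DepthGE d X := fun t ht =>
  subsingleton_of_forall_eq 0 fun z => by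
    haveI := hY t ht
    rw [← Abelian.Ext.comp_mk₀_id z, ← h, Abelian.Ext.mk₀_sum, Abelian.Ext.comp_sum]
    refine Finset.sum_eq_zero fun j _ => ?_
    rw [← Abelian.Ext.mk₀_comp_mk₀, ← Abelian.Ext.comp_assoc _ _ _ (add_zero t) (add_zero 0) (by omega),
      Subsingleton.elim (z.comp (Abelian.Ext.mk₀ (p j)) (add_zero t)) 0, Abelian.Ext.zero_comp]

theorem depthGE_tensor_projective {M N : Type u} [AddCommGroup M] [Module R M] [Module.Finite R M]
    [Module.Projective R M] [AddCommGroup N] [Module R N] {d : ℕ} (hN : DepthGE d (ModuleCat.of R N)) :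
    DepthGE d (ModuleCat.of R (M ⊗[R] N)) := by
  obtain ⟨n, g, hg⟩ := Module.Finite.exists_fin' R M
  obtain ⟨s, hs⟩ := Module.projective_lifting_property g LinearMap.id hg
  refine depthGE_of_sum d
    (fun j => ModuleCat.ofHom ((TensorProduct.lid R N).toLinearMap ∘ₗ (LinearMap.proj j ∘ₗ s).rTensor N))
    (fun j => ModuleCat.ofHom (TensorProduct.mk R M N (g (Pi.single j 1)))) ?_ hN
  refine ModuleCat.hom_ext (TensorProduct.ext' fun x y => ?_)
  rw [ModuleCat.hom_sum, LinearMap.sum_apply, ModuleCat.hom_id, LinearMap.id_apply]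
  conv_rhs => rw [show x = g (s x) from (LinearMap.congr_fun hs x).symm, pi_eq_sum_univ' (s x), map_sum, TensorProduct.sum_tmul]
  refine Finset.sum_congr rfl fun j _ => ?_
  simp [TensorProduct.tmul_smul, TensorProduct.smul_tmul']

/-- **Higher Tor vanishes and depth drops by at most the projective dimension.** -/
theorem main : ∀ (e : ℕ) (M : Type u) [AddCommGroup M] [Module R M] [Module.Finite R M],
    PdLE R e M → ∀ (N : Type u) [AddCommGroup N] [Module R N] (d : ℕ),
      DepthGE d (ModuleCat.of R N) → e ≤ d →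
      (∃ t, ∀ a ∈ maximalIdeal R ^ t, ∃ b c, a = b + c ∧ Fac M b ∧ c ∈ Module.annihilator R N) →
      (∀ i : ℕ, IsZero (((Tor (ModuleCat.{u} R) (i + 1)).obj (ModuleCat.of R M)).obj (ModuleCat.of R N))) ∧
        DepthGE (d - e) (ModuleCat.of R (M ⊗[R] N)) := by
  intro e
  induction e with
  | zero =>
    intro M _ _ _ h N _ _ d hN _ _
    haveI : Module.Projective R M := pdLE_zero_iff.1 h
    exact ⟨fun i => TorBridge.isZero_tor_succ_of_flat (ModuleCat.of R M) (ModuleCat.of R N) i,
      depthGE_tensor_projective hN⟩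
  | succ e ih =>
    intro M _ _ _ h N _ _ d hN hed ⟨t, ht⟩
    obtain ⟨n, g, hg⟩ := Module.Finite.exists_fin' R M
    haveI : Module.Finite R (LinearMap.ker g) := Module.Finite.iff_fg.2 (IsNoetherian.noetherian _)
    obtain ⟨hK, hKd⟩ := ih (LinearMap.ker g) ((pdLE_succ_iff g hg).1 h) N d hN (by omega) ⟨t, fun a ha => by
      obtain ⟨b, c, rfl, hb, hc⟩ := ht a ha
      obtain ⟨k, hk⟩ := fac_ker hb g hg
      exact ⟨b, c, rfl, ⟨n, (LinearMap.ker g).subtype, k, hk⟩, hc⟩⟩
    have hinj : Function.Injective ((LinearMap.ker g).subtype.rTensor N) := by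
      rw [injective_iff_map_eq_zero]
      intro z hz
      refine eq_zero_of_pow_smul (fun s hs => hKd s (by omega)) t z fun a ha => ?_
      obtain ⟨b, c, rfl, hb, hc⟩ := ht a ha
      obtain ⟨k, hk⟩ := fac_ker hb g hg
      have h1 := congrArg (fun φ => LinearMap.rTensor N φ z) hk
      simp only [LinearMap.rTensor_comp, LinearMap.comp_apply, hz, map_zero, LinearMap.rTensor_smul,
        LinearMap.rTensor_id, LinearMap.smul_apply, LinearMap.id_apply] at h1
      have h2 : c • z = 0 := by
        clear hz h1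
        induction z using TensorProduct.induction_on with
        | zero => simp
        | tmul x y => rw [← TensorProduct.tmul_smul, Module.mem_annihilator.1 hc y, TensorProduct.tmul_zero]
        | add x y hx hy => rw [smul_add, hx, hy, add_zero]
      rw [add_smul, ← h1, h2, add_zero]
    let S : ShortComplex (ModuleCat.{u} R) := LinearMap.shortComplexKer g
    have hS : S.ShortExact := LinearMap.shortExact_shortComplexKer hg
    refine ⟨fun i => ?_, ?_⟩
    · rcases i with _ | i
      · exact (TorBridge.isZero_tor_one_iff N M g hg).2 hinj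
      · exact TorBridge.isZero_tor_third S hS (ModuleCat.of R N) (i + 1)
          (TorBridge.isZero_tor_succ_of_flat (ModuleCat.of R (Fin n → R)) (ModuleCat.of R N) (i + 1)) (hK i)
    · have hex : Function.Exact ((LinearMap.ker g).subtype.rTensor N) (g.rTensor N) :=
        rTensor_exact N (LinearMap.exact_subtype_ker_map g) hg
      let T : ShortComplex (ModuleCat.{u} R) := ShortComplex.mk
        (X₁ := ModuleCat.of R (LinearMap.ker g ⊗[R] N)) (X₂ := ModuleCat.of R ((Fin n → R) ⊗[R] N))
        (X₃ := ModuleCat.of R (M ⊗[R] N))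
        (ModuleCat.ofHom ((LinearMap.ker g).subtype.rTensor N)) (ModuleCat.ofHom (g.rTensor N))
        (ModuleCat.hom_ext (LinearMap.ext fun x => hex.apply_apply_eq_zero x))
      have hT : T.ShortExact :=
        { exact := (ShortComplex.ShortExact.moduleCat_exact_iff_function_exact T).2 hex
          mono_f := (ModuleCat.mono_iff_injective _).2 hinj
          epi_g := (ModuleCat.epi_iff_surjective _).2 (LinearMap.rTensor_surjective N hg) }
      intro s hs
      exact LC.ext_subsingleton_X₃ hT _ s
        (depthGE_tensor_projective (M := Fin n → R) hN s (by omega)) (hKd (s + 1) (by omega))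

theorem le_annihilator_tmul {M N : Type u} [AddCommGroup M] [Module R M] [AddCommGroup N] [Module R N] :
    Module.annihilator R M ⊔ Module.annihilator R N ≤ Module.annihilator R (M ⊗[R] N) := by
  refine sup_le (fun a ha => Module.mem_annihilator.2 fun z => ?_) (fun a ha => Module.mem_annihilator.2 fun z => ?_)
  all_goals induction z using TensorProduct.induction_on with
    | zero => simp
    | tmul x y => first
      | rw [TensorProduct.smul_tmul', Module.mem_annihilator.1 ha x, TensorProduct.zero_tmul]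
      | rw [← TensorProduct.tmul_smul, Module.mem_annihilator.1 ha y, TensorProduct.tmul_zero]
    | add x y hx hy => rw [smul_add, hx, hy, add_zero]

/-- The multiplicity is the length when `pd M ≤ depth N`. -/
theorem chi_eq_length {M N : Type u} [AddCommGroup M] [Module R M] [Module.Finite R M]
    [AddCommGroup N] [Module R N] (e : ℕ) (hM : PdLE R e M) (hN : DepthGE e (ModuleCat.of R N))
    (hfin : ∃ t, maximalIdeal R ^ t ≤ Module.annihilator R M ⊔ Module.annihilator R N) :
    IntMult.chi R M N = ((Module.length R (M ⊗[R] N)).toNat : ℤ) := by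
  obtain ⟨t, ht⟩ := hfin
  obtain ⟨hz, -⟩ := main e M hM N e hN le_rfl ⟨t, fun a ha => by
    obtain ⟨b, hb, c, hc, rfl⟩ := Submodule.mem_sup.1 (ht ha)
    exact ⟨b, c, rfl, fac_of_mem_annihilator hb, hc⟩⟩
  rw [IntMult.chi, finsum_eq_single _ 0 fun i hi => ?_]
  · rw [pow_zero, one_mul]
    have e0 : DRing.Tor R 0 M N ≃ₗ[R] M ⊗[R] N :=
      ((TorBridge.tenF (ModuleCat.of R M)).leftDerivedZeroIsoSelf.app (ModuleCat.of R N)).toLinearEquiv
    rw [e0.length_eq]
  · obtain ⟨j, rfl⟩ := Nat.exists_eq_succ_of_ne_zero hi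
    haveI : Subsingleton (DRing.Tor R (j + 1) M N) := ModuleCat.subsingleton_of_isZero (hz j)
    rw [show Nat.succ j = j + 1 from rfl, Module.length_eq_zero]
    simp

/-- `R/I ⊗ R/J = R/(I + J)`. -/
theorem length_tensor_quot (I J : Ideal R) :
    Module.length R ((R ⧸ I) ⊗[R] (R ⧸ J)) = Module.length R (R ⧸ (I ⊔ J)) := by
  have hmap : (I • (⊤ : Submodule R (R ⧸ J))) = Submodule.map (Submodule.mkQ J) (I ⊔ J) := by
    rw [Submodule.map_sup, Submodule.mkQ_map_self, sup_bot_eq, ← LinearMap.range_eq_top.2 (Submodule.mkQ_surjective J), ← Submodule.map_top,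
      ← Submodule.map_smul'', Ideal.smul_eq_mul, Ideal.mul_top]
  exact ((TensorProduct.quotTensorEquivQuotSMul (R ⧸ J) I).trans ((Submodule.quotEquivOfEq _ _ hmap).trans
    (Submodule.quotientQuotientEquivQuotient J (I ⊔ J) le_sup_right))).length_eq

/-- Intersection multiplicity of quotients of a regular local ring from depths. -/
theorem chi_quot_eq_length {A : Type u} [CommRing A] [IsRegularLocalRing A] (d : ℕ) (hd : ringKrullDim A = d)
    (I J : Ideal A) (a b : ℕ) (ha : (a : ℕ∞) ≤ LocCoh.depth A (A ⧸ I)) (hb : (b : ℕ∞) ≤ LocCoh.depth A (A ⧸ J))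
    (hab : d ≤ a + b) (hrad : ∃ t, maximalIdeal A ^ t ≤ I ⊔ J) :
    IntMult.chi A (A ⧸ I) (A ⧸ J) = ((Module.length A (A ⧸ (I ⊔ J))).toNat : ℤ) := by
  rw [chi_eq_length b (LC.pdLE_of_le_depth A d hd (A ⧸ I) b ?_) ((depthGE_iff b (ModuleCat.of A (A ⧸ J))).2 hb)
    (by simpa [Ideal.annihilator_quotient] using hrad), length_tensor_quot]
  calc (d : ℕ∞) ≤ ((a + b : ℕ) : ℕ∞) := by exact_mod_cast hab
    _ ≤ _ := by push_cast; exact add_le_add ha le_rfl

end Groth.Agent.H23.CMTor
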