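import Groth.Agent.H23.GammaCap.Fil
import Groth.Agent.H28.KvbLam
import Groth.Agent.H28.KvbPull
import Groth.Prelude.Def_KDet

/-!
# The action of `K^•` on the classes of coherent modules
-/

set_option autoImplicit false
set_option linter.style.haveILetI false
set_option linter.unusedSectionVars false
set_option backward.isDefEq.respectTransparency false
set_option backward.isDefEq.respectTransparency.types false

universe v u

open CategoryTheory CategoryTheory.Limits AlgebraicGeometry TopologicalSpace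

noncomputable section

namespace Groth.Agent.H23.CapExists

open Groth.Agent Groth.Agent.H28 Groth.Agent.H28.KvbLam

variable {X : Scheme.{u}} [IsNoetherian X] {K : Type v} [CommRing K] [LambdaRing.LambdaOps K]
  {P : LambdaRing.PosStructure K} {φ : SGA6.Kvb X →+ K}

theorem clc_hom_ext {A : Type*} [AddCommGroup A] {f g : SGA6.Kcoh X →+ A}
    (h : ∀ G : X.Modules, Coh.IsCoh G → f (KDet.clc X G) = g (KDet.clc X G)) : f = g :=
  KZ.K0sub_hom_ext _ h

theorem exists_cap (hK : KRR.IsModel X K P φ) :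
    ∃ μ : K →+ SGA6.Kcoh X →+ SGA6.Kcoh X, KDet.IsCap φ μ := by
  classical
  have h1 : ∀ E : X.Modules, ∃ f : SGA6.Kcoh X →+ SGA6.Kcoh X, FlatMod.IsFinLocFree E →
      ∀ G, Coh.IsCoh G → f (KDet.clc X G) = KDet.clc X (tens E G) := fun E => by
    by_cases hE : FlatMod.IsFinLocFree E
    · obtain ⟨f, hf⟩ := GammaCap.exists_tens hE
      exact ⟨f, fun _ => hf⟩
    · exact ⟨0, fun h => absurd h hE⟩
  choose f hf using h1
  obtain ⟨act, hact⟩ := KZ.exists_liftSub (P := fun M : X.Modules => FlatMod.IsFinLocFree M) f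
    fun S hS h₁ h₂ h₃ => clc_hom_ext fun G hG => by
      rw [AddMonoidHom.add_apply, hf _ h₁ _ hG, hf _ h₂ _ hG, hf _ h₃ _ hG]
      have hc : ∀ {E : X.Modules}, FlatMod.IsFinLocFree E →
          Coh.IsCoh (tens G E) ∧ KDet.clc X (tens E G) = KDet.clc X (tens G E) := fun {E} hE => by
        have h₀ := CurveTensor.isCoh_tensor hE hG
        exact ⟨RefX.isCoh_of_iso (comm E G) h₀, PBCohPush.clc_iso (comm E G) h₀ (RefX.isCoh_of_iso (comm E G) h₀)⟩
      rw [(hc h₁).2, (hc h₂).2, (hc h₃).2]
      exact KZ.clSub_ses (fun M : X.Modules => Coh.IsCoh M)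
        (KFlatLib.shortExact_tensor_of_isFlat G hS (KFlatLib.isFlat_of_isFinLocFree h₃))
        (hc h₁).1 (hc h₂).1 (hc h₃).1
  let e := AddEquiv.ofBijective φ hK.bijective
  have hcl : ∀ E : X.Modules, FlatMod.IsFinLocFree E → e.symm (φ (cl E)) = cl E := fun E _ => e.symm_apply_apply _
  have key : ∀ E G : X.Modules, FlatMod.IsFinLocFree E → Coh.IsCoh G →
      act (e.symm (φ (cl E))) (KDet.clc X G) = KDet.clc X (tens E G) := fun E G hE hG => by
    rw [hcl E hE]
    exact (congrArg (fun t => t (KDet.clc X G)) (hact E hE)).trans (hf E hE G hG)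
  refine ⟨act.comp e.symm.toAddMonoidHom, ?_, ?_, key⟩
  · intro ξ
    show act (e.symm 1) ξ = ξ
    refine DFunLike.congr_fun (g := AddMonoidHom.id _) (clc_hom_ext fun G hG => ?_) ξ
    rw [← hK.map_one]
    exact (key _ G lf_O hG).trans
      (PBCohPush.clc_iso (CurveTensor.structureTensorIso G) (CurveTensor.isCoh_tensor lf_O hG) hG)
  · intro x y ξ
    show act (e.symm (x * y)) ξ = act (e.symm x) (act (e.symm y) ξ)
    refine DFunLike.congr_fun (g := (act (e.symm x)).comp (act (e.symm y))) (clc_hom_ext fun G hG => ?_) ξ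
    obtain ⟨A, B, hA, hB, rfl⟩ := KvbPull.exists_cl hK x
    obtain ⟨C, D, hC, hD, rfl⟩ := KvbPull.exists_cl hK y
    have k2 : ∀ E F : X.Modules, FlatMod.IsFinLocFree E → FlatMod.IsFinLocFree F →
        act (e.symm (φ (cl E) * φ (cl F))) (KDet.clc X G) =
          act (e.symm (φ (cl E))) (act (e.symm (φ (cl F))) (KDet.clc X G)) := fun E F hE hF => by
      rw [hK.map_mul _ _ hE hF, key _ _ (lf_tens hE hF) hG, key F G hF hG,
        key E _ hE (CurveTensor.isCoh_tensor hF hG)]
      exact PBCohPush.clc_iso ((((KFlatLib.tensorAssocSch X).app E).app F).app G)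
        (CurveTensor.isCoh_tensor (lf_tens hE hF) hG) (CurveTensor.isCoh_tensor hE (CurveTensor.isCoh_tensor hF hG))
    have a := k2 A C hA hC
    have b := k2 A D hA hD
    have c := k2 B C hB hC
    have d := k2 B D hB hD
    simp only [map_sub, sub_mul, mul_sub, AddMonoidHom.sub_apply, AddMonoidHom.comp_apply]
    erw [a, b, c, d]

end Groth.Agent.H23.CapExists
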