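import Groth.Agent.H23.CapLocal
import Groth.Agent.H23.GysinLen
import Groth.Agent.H23.FlatShift

/-! The cap of a flat pull-back with a relative effective Cartier divisor. -/

set_option autoImplicit false
set_option linter.style.haveILetI false

universe u

open AlgebraicGeometry CategoryTheory IsLocalRing
open scoped Pointwise TensorProduct

namespace Groth.Agent.H23.CapFlat

open Groth.Agent CDiv6 StalkPrimes RatSec

/-- An equation with flat zero locus stays regular modulo the ideals of the base. -/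
theorem mem_map_of_mul_mem {R S : Type u} [CommRing R] [CommRing S] [Algebra R S] {f : S}
    (hf : Function.Injective fun a : S => a * f) [Module.Flat R (S ⧸ Ideal.span ({f} : Set S))] (J : Ideal R)
    {a : S} (ha : a * f ∈ J.map (algebraMap R S)) : a ∈ J.map (algebraMap R S) := by
  let φ : S →ₗ[R] S := LinearMap.mulRight R f
  let g : S →ₗ[R] S ⧸ Ideal.span ({f} : Set S) := (Ideal.Quotient.mkₐ R (Ideal.span {f})).toLinearMap
  have hex : Function.Exact φ g := fun b => by
    show Ideal.Quotient.mk (Ideal.span {f}) b = 0 ↔ b ∈ Set.range fun a : S => a * f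
    rw [Ideal.Quotient.eq_zero_iff_mem, Ideal.mem_span_singleton']
    rfl
  have h := LinearMap.lTensor_injective_of_exact_of_flat g Ideal.Quotient.mk_surjective φ hf hex (R ⧸ J)
  have hmem : ∀ b : S, b ∈ J • (⊤ : Submodule R S) ↔ b ∈ J.map (algebraMap R S) := fun b => by
    rw [Ideal.smul_top_eq_map]
    rfl
  have h0 : ∀ b : S, b ∈ J.map (algebraMap R S) ↔ (1 : R ⧸ J) ⊗ₜ[R] b = 0 := fun b => by
    rw [← hmem, ← Submodule.Quotient.mk_eq_zero, ← (TensorProduct.quotTensorEquivQuotSMul S J).map_eq_zero_iff,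
      show (1 : R ⧸ J) = Ideal.Quotient.mk J 1 from rfl, TensorProduct.quotTensorEquivQuotSMul_mk_tmul, one_smul]
  refine (h0 a).2 (h ?_)
  rw [LinearMap.lTensor_tmul, map_zero]
  exact (h0 _).1 ha

/-- The length of a localised cyclic module. -/
theorem length_localized_cyclic {R S : Type u} [CommRing R] [CommRing S] [Algebra R S] (I P : Ideal R) [P.IsPrime]
    [IsLocalization.AtPrime S P] :
    Module.length (Localization.AtPrime P) (LocalizedModule P.primeCompl (R ⧸ I)) =
      Module.length S (S ⧸ I.map (algebraMap R S)) := by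
  let Lc := Localization.AtPrime P
  let T := S ⧸ I.map (algebraMap R S)
  let g : R ⧸ I →ₗ[R] T := Submodule.mapQ I ((I.map (algebraMap R S)).restrictScalars R) (Algebra.linearMap R S)
    fun r hr => Ideal.mem_map_of_mem _ hr
  haveI : IsLocalizedModule P.primeCompl g := by
    refine ⟨fun s => ?_, fun y => ?_, fun {a b} hab => ?_⟩
    · rw [Module.End.isUnit_iff]
      have hu := IsLocalization.map_units S s
      refine ⟨fun a b hab => hu.smul_left_cancel.1 ?_, fun b => ⟨hu.unit⁻¹.val • b, ?_⟩⟩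
      · simpa [Module.algebraMap_end_apply, algebraMap_smul] using hab
      · show (s : R) • hu.unit⁻¹.val • b = b
        rw [← algebraMap_smul S (s : R), ← mul_smul, IsUnit.mul_val_inv, one_smul]
    · obtain ⟨y, rfl⟩ := Ideal.Quotient.mk_surjective y
      obtain ⟨⟨r, s⟩, hrs⟩ := IsLocalization.surj P.primeCompl y
      refine ⟨(Submodule.Quotient.mk r, s), ?_⟩
      show (s : R) • (Ideal.Quotient.mk _ y : T) = Ideal.Quotient.mk _ (algebraMap R S r)
      rw [← hrs, ← algebraMap_smul S (s : R), Algebra.smul_def, mul_comm y, map_mul]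
      rfl
    · obtain ⟨a, rfl⟩ := Ideal.Quotient.mk_surjective a
      obtain ⟨b, rfl⟩ := Ideal.Quotient.mk_surjective b
      have h : algebraMap R S (a - b) ∈ I.map (algebraMap R S) := by
        rw [map_sub]
        exact (Submodule.Quotient.eq _).1 hab
      obtain ⟨m, hm, hmem⟩ := (IsLocalization.algebraMap_mem_map_algebraMap_iff P.primeCompl S I (a - b)).1 h
      exact ⟨⟨m, hm⟩, (Submodule.Quotient.eq I).2 (by simpa [mul_sub, smul_eq_mul] using hmem)⟩
  let e := IsLocalization.algEquiv P.primeCompl Lc S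
  letI : Module Lc T := Module.compHom _ e.toRingHom
  letI : Algebra Lc S := e.toRingHom.toAlgebra
  haveI : IsScalarTower Lc S T := IsScalarTower.of_algebraMap_smul fun _ _ => rfl
  haveI : IsScalarTower R Lc T := IsScalarTower.of_algebraMap_smul fun r m => by
    show e (algebraMap R Lc r) • m = r • m
    rw [AlgEquiv.commutes, algebraMap_smul]
  rw [((IsLocalizedModule.iso P.primeCompl g).extendScalarsOfIsLocalization P.primeCompl Lc).length_eq]
  exact Module.length_eq_of_surjective (S := Lc) (R := S) (M := T) e.surjective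

variable {X Y D : Scheme.{u}}

/-- The cap of the pull-back with the divisor, at a point of the divisor. -/
theorem c1CapFun_pull_gysin [IsLocallyNoetherian X] {δX : X → ℤ} {δY : Y → ℤ} (hdX : Cyc.IsDimFun X δX)
    (hdY : Cyc.IsDimFun Y δY) (p : X ⟶ Y) {r : ℕ} (hle : ∀ x, δX x ≤ δY (p x) + (r + 1 : ℕ))
    {L : X.Modules} (hL : PicF.IsInvertible L) {s : L.presheaf.obj (Opposite.op ⊤)}
    (hreg : ∀ x : X, Function.Injective (fun a : X.presheaf.stalk x => a • L.presheaf.germ ⊤ x trivial s))
    (i : D ⟶ X) [IsClosedImmersion i] (hD : Cyc.IsZeroSchemeOf i L s) [Flat (i ≫ p)]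
    (hleD : ∀ d, δX (i d) ≤ δY (p (i d)) + r) {k : ℤ} {α : Y → ℤ} (hα : ∀ y, δY y ≠ k + 1 → α y = 0)
    (w : (ξ : X) → Cyc.secFibre L ξ) (d : D) :
    Cyc.c1CapFun δX L (Cyc.pullFun p δX δY (r + 1) α) (Cyc.gysinChoice L s w) (i d) =
      Cyc.pullFun (i ≫ p) (fun d => δX (i d)) δY r α d := by
  classical
  let x := i d
  have hstar : ∀ ξ : X, ξ ⤳ x → δX x + 1 = δX ξ → Cyc.pullFun p δX δY (r + 1) α ξ ≠ 0 →
      δX x = k + r + 1 ∧ δY (p x) = k + 1 ∧ p ξ = p x := fun ξ h hx hne => by
    by_cases h1 : δX ξ = δY (p ξ) + ((r : ℤ) + 1)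
    · have h2 : δY (p ξ) = k + 1 := by_contra fun h2 => hne (by rw [Cyc.pullFun, hα _ h2]; simp)
      have h3 := hleD d
      have h4 := CycLib.delta_le hdY (h.map p.continuous)
      have h5 : δX x = δX (i d) := rfl
      have h6 : δY (p x) = δY (p (i d)) := rfl
      refine ⟨by omega, by omega, CycLib.eq_of_delta_le hdY (h.map p.continuous) (by omega)⟩
    · exact absurd (if_neg h1) hne
  by_cases hxk : δX x = k + r + 1 ∧ δY (p x) = k + 1
  swap
  · rw [Cyc.pullFun]
    split_ifs with hc
    · have : α ((i ≫ p) d) = 0 := hα _ fun h => hxk ⟨by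
        show δX (i d) = _
        rw [show δX (i d) = δY ((i ≫ p) d) + r from hc, h]; ring, h⟩
      rw [this, zero_mul]
      refine finsum_eq_zero_of_forall_eq_zero fun ξ => ?_
      by_contra hne
      by_cases hh : ξ ⤳ x ∧ δX x + 1 = δX ξ
      · obtain ⟨h1, h2, -⟩ := hstar ξ hh.1 hh.2 (left_ne_zero_of_mul hne)
        exact hxk ⟨h1, h2⟩
      · exact hne (by rw [show Cyc.secDivFun δX L ξ _ (i d) = 0 from dif_neg hh, mul_zero])
    · refine finsum_eq_zero_of_forall_eq_zero fun ξ => ?_
      by_contra hne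
      by_cases hh : ξ ⤳ x ∧ δX x + 1 = δX ξ
      · obtain ⟨h1, h2, -⟩ := hstar ξ hh.1 hh.2 (left_ne_zero_of_mul hne)
        exact hxk ⟨h1, h2⟩
      · exact hne (by rw [show Cyc.secDivFun δX L ξ _ (i d) = 0 from dif_neg hh, mul_zero])
  obtain ⟨hx, hy⟩ := hxk
  obtain ⟨t, f, ht, hst, hker⟩ := hD.2 d
  let I : Ideal (X.presheaf.stalk x) := (maximalIdeal (Y.presheaf.stalk (p x))).map (p.stalkMap x).hom
  have hIle : ∀ {ξ : X} (h : ξ ⤳ x), I ≤ (primeOf h).asIdeal → p ξ = p x := fun {ξ} h hI => by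
    refine ((h.map p.continuous).antisymm ((map_le_iff p h (specializes_refl (p x))).1 ?_)).eq
    rw [ZeroSec.primeOf_refl']
    exact hI
  have hIgt : ∀ {ξ : X} (h : ξ ⤳ x), p ξ = p x → I.map (X.presheaf.stalkSpecializes h).hom =
      (maximalIdeal (Y.presheaf.stalk (p ξ))).map (p.stalkMap ξ).hom := fun {ξ} h e => by
    rw [Ideal.map_map, ← GysinPb.map_maximalIdeal_congr p e, ← CommRingCat.hom_comp,
      Scheme.Hom.stalkSpecializes_stalkMap p _ _ h]
  let αx : X → ℤ := fun ξ => if h : ξ ⤳ x ∧ δX ξ = k + r + 1 + 1 then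
    ((Module.length (Localization.AtPrime (primeOf h.1).asIdeal)
      (LocalizedModule (primeOf h.1).asIdeal.primeCompl (X.presheaf.stalk x ⧸ I))).toNat : ℤ) else 0
  have hαx : ∀ ξ, Cyc.pullFun p δX δY (r + 1) α ξ * Cyc.secDivFun δX L ξ (Cyc.gysinChoice L s w ξ) x =
      α (p x) * (αx ξ * Cyc.secDivFun δX L ξ (Cyc.gysinChoice L s w ξ) x) := fun ξ => by
    by_cases hh : ξ ⤳ x ∧ δX x + 1 = δX ξ
    swap
    · rw [show Cyc.secDivFun δX L ξ (Cyc.gysinChoice L s w ξ) x = 0 from dif_neg hh, mul_zero, mul_zero, mul_zero]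
    rw [← mul_assoc]
    refine congrArg (· * _) ?_
    have hξ : δX ξ = k + r + 1 + 1 := by omega
    rw [show αx ξ = _ from dif_pos ⟨hh.1, hξ⟩]
    haveI := isLocalization_primeOf hh.1
    letI := (X.presheaf.stalkSpecializes hh.1).hom.toAlgebra
    rw [length_localized_cyclic (S := X.presheaf.stalk ξ) I (primeOf hh.1).asIdeal, RingHom.algebraMap_toAlgebra]
    by_cases e : p ξ = p x
    · rw [hIgt hh.1 e, Cyc.pullFun, if_pos (by rw [e, hy, hξ]; ring)]
      exact congrArg (· * _) (congrArg α e)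
    · rw [show Cyc.pullFun p δX δY (r + 1) α ξ = 0 from by_contra fun hne => e (hstar ξ hh.1 hh.2 hne).2.2]
      have : I.map (X.presheaf.stalkSpecializes hh.1).hom = ⊤ := by
        by_contra hne
        refine e (hIle hh.1 fun a ha => ?_)
        rw [mem_primeOf]
        intro hu
        exact hne (Ideal.eq_top_of_isUnit_mem _ (Ideal.mem_map_of_mem _ ha) hu)
      rw [this]
      haveI : Subsingleton (X.presheaf.stalk ξ ⧸ (⊤ : Ideal (X.presheaf.stalk ξ))) :=
        Ideal.Quotient.subsingleton_iff.2 rfl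
      rw [Module.length_eq_zero]
      simp
  have hfreg : Function.Injective fun a : X.presheaf.stalk x => a * f := fun a b h => hreg x (by
    show a • L.presheaf.germ ⊤ x trivial s = b • L.presheaf.germ ⊤ x trivial s
    rw [hst, smul_smul, smul_smul, show a * f = b * f from h])
  have hinj : Function.Injective fun m : X.presheaf.stalk x ⧸ I => f • m := by
    have hflat : ((p.stalkMap x) ≫ i.stalkMap d).hom.Flat := by
      rw [← Scheme.Hom.stalkMap_comp]
      exact Flat.stalkMap (i ≫ p) d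
    letI := (p.stalkMap x).hom.toAlgebra
    letI : Algebra (Y.presheaf.stalk (p x)) (D.presheaf.stalk d) := ((p.stalkMap x) ≫ i.stalkMap d).hom.toAlgebra
    haveI : Module.Flat (Y.presheaf.stalk (p x)) (D.presheaf.stalk d) := hflat
    let ψ : X.presheaf.stalk x →ₐ[Y.presheaf.stalk (p x)] D.presheaf.stalk d :=
      { (i.stalkMap d).hom with commutes' := fun _ => rfl }
    have hψ : RingHom.ker ψ = Ideal.span {f} := hker
    haveI : Module.Flat (Y.presheaf.stalk (p x)) (X.presheaf.stalk x ⧸ Ideal.span ({f} : Set (X.presheaf.stalk x))) :=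
      Module.Flat.of_linearEquiv ((Ideal.quotientEquivAlgOfEq _ hψ.symm).trans
        (Ideal.quotientKerAlgEquivOfSurjective (f := ψ) (i.stalkMap_surjective d))).toLinearEquiv
    intro a b h
    obtain ⟨a, rfl⟩ := Ideal.Quotient.mk_surjective a
    obtain ⟨b, rfl⟩ := Ideal.Quotient.mk_surjective b
    refine (Submodule.Quotient.eq I).2 (mem_map_of_mul_mem hfreg (maximalIdeal (Y.presheaf.stalk (p x))) ?_)
    have : f * a - f * b ∈ I := (Submodule.Quotient.eq I).1 h
    rwa [← mul_sub, mul_comm] at this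
  have hsupp : ∀ (ξ : X) (h : ξ ⤳ x), primeOf h ∈ Module.support (X.presheaf.stalk x) (X.presheaf.stalk x ⧸ I) →
      δX ξ ≤ k + r + 1 + 1 := fun ξ h hm => by
    rw [Module.support_eq_zeroLocus, Ideal.annihilator_quotient] at hm
    have e := hIle h hm
    have := hle ξ
    rw [e] at this
    push_cast at this
    omega
  have key := CapLocal.c1CapFun_gysin_eq hdX hL w (α := αx) (k := k + r + 1)
    (fun ξ h => dif_neg fun h' => h h'.2) hx ht hst hinj hsupp (fun ξ h hk => dif_pos ⟨h, hk⟩)
  rw [Cyc.c1CapFun] at key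
  rw [Cyc.c1CapFun, finsum_congr hαx, ← mul_finsum, key, Cyc.pullFun,
    if_pos (show δX (i d) = δY ((i ≫ p) d) + r by
      rw [show δX (i d) = δX x from rfl, hx, show δY ((i ≫ p) d) = δY (p x) from rfl, hy]; ring)]
  refine congrArg (fun n : ℕ∞ => α (p x) * (n.toNat : ℤ)) ?_
  have e1 : f • (⊤ : Submodule (X.presheaf.stalk x) (X.presheaf.stalk x ⧸ I)) =
      Submodule.map I.mkQ (Ideal.span {f}) := by
    rw [← Submodule.ideal_span_singleton_smul, ← Submodule.range_mkQ I, ← Submodule.map_top, ← Submodule.map_smul'',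
      smul_eq_mul, Ideal.mul_top]
  rw [e1, ((Submodule.quotientQuotientEquivQuotientSup I (Ideal.span {f}))).length_eq,
    ← GysinPb.length_quot_map (i.stalkMap d).hom (i.stalkMap_surjective d) (I := I ⊔ Ideal.span {f})
      (hker.le.trans le_sup_right), Ideal.map_sup,
    show (Ideal.span {f}).map (i.stalkMap d).hom = ⊥ from (Ideal.map_eq_bot_iff_le_ker _).2 hker.ge, sup_bot_eq,
    Ideal.map_map, ← CommRingCat.hom_comp, ← Scheme.Hom.stalkMap_comp]
  rfl

end Groth.Agent.H23.CapFlat
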