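import Groth.Agent.H23.StalkIdeal
import Groth.Agent.H23.CartierFlatDescAlg
import Groth.Agent.H23.FFDescent
import Groth.Agent.ProConsLib.Image

/-!
# Descent of effective Cartier divisors along flat maps, tested at points of depth at most one
-/

set_option autoImplicit false
set_option backward.isDefEq.respectTransparency false
set_option backward.isDefEq.respectTransparency.types false

universe u

open CategoryTheory CategoryTheory.Limits AlgebraicGeometry TopologicalSpace IsLocalRing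

noncomputable section

namespace Groth.Agent.H23.CartierFlatDesc

open Groth.Agent StalkIdeal CartierFlatDescAlg CDiv6

variable {X Y : Scheme.{u}} (f : X ⟶ Y) (𝓙 : X.IdealSheafData)

/-- Near the generizations of `y` the ideal comes from the local ring at `y`. -/
def Loc (y : Y) : Prop :=
  ∃ I : Ideal (Y.presheaf.stalk y), ∀ (x : X) (h : f x ⤳ y),
    sI 𝓙 x = (I.map (Y.presheaf.stalkSpecializes h).hom).map (f.stalkMap x).hom

theorem stalkMap_spec {x x' : X} (h : x' ⤳ x) :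
    (X.presheaf.stalkSpecializes h).hom.comp (f.stalkMap x).hom =
      (f.stalkMap x').hom.comp (Y.presheaf.stalkSpecializes (h.map f.continuous)).hom := by
  rw [← CommRingCat.hom_comp, ← CommRingCat.hom_comp, Scheme.Hom.stalkSpecializes_stalkMap]

theorem spec_comp {a b c : Y} (h : a ⤳ b) (h' : b ⤳ c) :
    (Y.presheaf.stalkSpecializes h).hom.comp (Y.presheaf.stalkSpecializes h').hom =
      (Y.presheaf.stalkSpecializes (h.trans h')).hom := by
  rw [← CommRingCat.hom_comp, TopCat.Presheaf.stalkSpecializes_comp]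

theorem comap_map_stalkMap [Flat f] (x : X) (I : Ideal (Y.presheaf.stalk (f x))) :
    (I.map (f.stalkMap x).hom).comap (f.stalkMap x).hom = I := by
  letI := (f.stalkMap x).hom.toAlgebra
  haveI : Module.FaithfullyFlat (Y.presheaf.stalk (f x)) (X.presheaf.stalk x) :=
    RingHom.faithfullyFlat_algebraMap_iff.mp (FFDescent.faithfullyFlat_stalkMap f x)
  exact Ideal.comap_map_eq_self_of_faithfullyFlat I

variable {f} {𝓙}

/-- The descended stalk. -/
def Iy (hloc : ∀ y : Y, ¬ (2 : ℕ∞) ≤ LocCoh.depth (Y.presheaf.stalk y) (Y.presheaf.stalk y) → Loc f 𝓙 y)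
    (y : Y) : Ideal (Y.presheaf.stalk y) :=
  ⨅ (y' : Y) (h : y' ⤳ y) (hd : ¬ (2 : ℕ∞) ≤ LocCoh.depth (Y.presheaf.stalk y') (Y.presheaf.stalk y')),
    (hloc y' hd).choose.comap (Y.presheaf.stalkSpecializes h).hom

variable [IsLocallyNoetherian X] [IsLocallyNoetherian Y] [Flat f] (hJ : BlowUp.IsEffCartierIdeal 𝓙)
  (hloc : ∀ y : Y, ¬ (2 : ℕ∞) ≤ LocCoh.depth (Y.presheaf.stalk y) (Y.presheaf.stalk y) → Loc f 𝓙 y)

include hJ

theorem exists_ass_point {x : X} {P' : Ideal (X.presheaf.stalk x)}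
    (hP' : P' ∈ associatedPrimes (X.presheaf.stalk x) (X.presheaf.stalk x ⧸ sI 𝓙 x)) :
    ∃ (x' : X) (hx' : x' ⤳ x), (primeOf hx').asIdeal = P' ∧
      ¬ (2 : ℕ∞) ≤ LocCoh.depth (Y.presheaf.stalk (f x')) (Y.presheaf.stalk (f x')) := by
  haveI : P'.IsPrime := IsAssociatedPrime.isPrime (AssociatedPrimes.mem_iff.1 hP')
  obtain ⟨x', hx', rfl⟩ := StalkPrimes.exists_point (X := X) P'
  refine ⟨x', hx', rfl, fun h2 => ?_⟩
  letI := (X.presheaf.stalkSpecializes hx').hom.toAlgebra
  haveI := StalkPrimes.isLocalization_primeOf hx'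
  obtain ⟨b, hb, hbJ⟩ := exists_gen hJ x
  rw [hbJ] at hP'
  refine depth_le_one_of_ass hb hP' (X.presheaf.stalk x') ?_
  letI := (f.stalkMap x').hom.toAlgebra
  haveI : Module.Flat (Y.presheaf.stalk (f x')) (X.presheaf.stalk x') :=
    RingHom.flat_algebraMap_iff.mp (Flat.stalkMap f x')
  haveI : IsLocalHom (algebraMap (Y.presheaf.stalk (f x')) (X.presheaf.stalk x')) :=
    inferInstanceAs (IsLocalHom (f.stalkMap x').hom)
  exact two_le_depth_of_flat (A := Y.presheaf.stalk (f x')) h2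

theorem comap_sI (x : X) : (sI 𝓙 x).comap (f.stalkMap x).hom = Iy hloc (f x) := by
  refine le_antisymm ?_ ?_
  · intro a ha
    simp only [Iy, Ideal.mem_iInf, Ideal.mem_comap]
    intro y' hy' hd
    obtain ⟨x', hx', rfl⟩ := Flat.generalizingMap f (a := x) (b := y') hy'
    have hI := (hloc _ hd).choose_spec x' specializes_rfl
    rw [TopCat.Presheaf.stalkSpecializes_refl, CommRingCat.hom_id, Ideal.map_id] at hI
    rw [← comap_map_stalkMap f x' (hloc _ hd).choose, ← hI, sI_spec 𝓙 (show x' ⤳ x from hx'), Ideal.mem_comap]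
    rw [← RingHom.comp_apply (f.stalkMap x').hom, ← stalkMap_spec f hx', RingHom.comp_apply]
    exact Ideal.mem_map_of_mem _ ha
  · intro a ha
    simp only [Iy, Ideal.mem_iInf, Ideal.mem_comap] at ha
    show (f.stalkMap x).hom a ∈ sI 𝓙 x
    refine mem_of_forall_ass _ _ fun P' hP' => ?_
    obtain ⟨x', hx', rfl, hd⟩ := exists_ass_point (f := f) hJ hP'
    have hI := (hloc _ hd).choose_spec x' specializes_rfl
    rw [TopCat.Presheaf.stalkSpecializes_refl, CommRingCat.hom_id, Ideal.map_id] at hI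
    have h1 : (X.presheaf.stalkSpecializes hx').hom ((f.stalkMap x).hom a) ∈
        (sI 𝓙 x).map (X.presheaf.stalkSpecializes hx').hom := by
      rw [← sI_spec, hI, ← RingHom.comp_apply, stalkMap_spec f hx', RingHom.comp_apply]
      exact Ideal.mem_map_of_mem _ (ha _ (hx'.map f.continuous) hd)
    letI := (X.presheaf.stalkSpecializes hx').hom.toAlgebra
    haveI := StalkPrimes.isLocalization_primeOf hx'
    exact (IsLocalization.algebraMap_mem_map_algebraMap_iff (primeOf hx').asIdeal.primeCompl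
      (X.presheaf.stalk x') _ _).1 h1

theorem sI_eq_map (x : X) : sI 𝓙 x = (Iy hloc (f x)).map (f.stalkMap x).hom := by
  rw [← comap_sI hJ hloc x]
  letI := (f.stalkMap x).hom.toAlgebra
  haveI : Module.Flat (Y.presheaf.stalk (f x)) (X.presheaf.stalk x) :=
    RingHom.flat_algebraMap_iff.mp (Flat.stalkMap f x)
  refine (map_comap_eq (A := Y.presheaf.stalk (f x)) (sI 𝓙 x) fun P' hP' => ?_).symm
  obtain ⟨x', hx', rfl, hd⟩ := exists_ass_point (f := f) hJ hP'
  obtain ⟨I', hI'⟩ := hloc _ hd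
  refine ⟨I'.comap (Y.presheaf.stalkSpecializes (hx'.map f.continuous)).hom, fun P hP hle => ?_⟩
  obtain ⟨x'', hx'', rfl⟩ := StalkPrimes.exists_point (X := X) P
  have hy : f x'' ⤳ f x' := by
    refine (StalkPrimes.primeOf_le_iff (hx'.map f.continuous) (hx''.map f.continuous)).1 ?_
    rwa [← StalkPrimes.comap_primeOf, ← StalkPrimes.comap_primeOf]
  let σ := (Y.presheaf.stalkSpecializes (hx'.map f.continuous)).hom
  letI aY : Algebra (Y.presheaf.stalk (f x)) (Y.presheaf.stalk (f x')) := σ.toAlgebra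
  haveI := StalkPrimes.isLocalization_primeOf (hx'.map f.continuous)
  have hI : (I'.comap σ).map σ = I' :=
    IsLocalization.map_under (primeOf (hx'.map f.continuous)).asIdeal.primeCompl _ I'
  have key : (sI 𝓙 x).map (X.presheaf.stalkSpecializes hx'').hom =
      ((I'.comap σ).map (f.stalkMap x).hom).map (X.presheaf.stalkSpecializes hx'').hom := by
    rw [← sI_spec, hI' x'' hy, Ideal.map_map (f.stalkMap x).hom, stalkMap_spec f hx'', ← Ideal.map_map,
      ← spec_comp hy (hx'.map f.continuous), ← Ideal.map_map, hI]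
  letI := (X.presheaf.stalkSpecializes hx'').hom.toAlgebra
  haveI := StalkPrimes.isLocalization_primeOf hx''
  have hiff := fun (K : Ideal (X.presheaf.stalk x)) (z : X.presheaf.stalk x) =>
    IsLocalization.algebraMap_mem_map_algebraMap_iff (primeOf hx'').asIdeal.primeCompl
      (X.presheaf.stalk x'') K z
  refine ⟨fun a ha => ?_, fun z hz => ?_⟩
  · exact (hiff _ _).1 (key.ge (Ideal.mem_map_of_mem _ (Ideal.mem_map_of_mem _ ha)))
  · exact (hiff _ _).1 (key.le (Ideal.mem_map_of_mem _ hz))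

variable [Surjective f]

theorem Iy_spec {y y' : Y} (h : y' ⤳ y) :
    Iy hloc y' = (Iy hloc y).map (Y.presheaf.stalkSpecializes h).hom := by
  obtain ⟨x, rfl⟩ := f.surjective y
  obtain ⟨x', hx', rfl⟩ := Flat.generalizingMap f (a := x) (b := y') h
  have h1 := sI_eq_map hJ hloc x'
  rw [sI_spec 𝓙 (show x' ⤳ x from hx'), sI_eq_map hJ hloc x, Ideal.map_map, stalkMap_spec f hx', ← Ideal.map_map] at h1
  have h2 := congrArg (Ideal.comap (f.stalkMap x').hom) h1
  rw [comap_map_stalkMap, comap_map_stalkMap] at h2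
  exact h2.symm

theorem exists_Iy_eq_span (y : Y) :
    ∃ a ∈ nonZeroDivisors (Y.presheaf.stalk y), Iy hloc y = Ideal.span {a} := by
  obtain ⟨x, rfl⟩ := f.surjective y
  letI := (f.stalkMap x).hom.toAlgebra
  haveI : Module.FaithfullyFlat (Y.presheaf.stalk (f x)) (X.presheaf.stalk x) :=
    RingHom.faithfullyFlat_algebraMap_iff.mp (FFDescent.faithfullyFlat_stalkMap f x)
  obtain ⟨b, hb, hbJ⟩ := exists_gen hJ x
  exact exists_span _ hb ((sI_eq_map hJ hloc x).symm.trans hbJ)

include hloc in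
theorem exists_descent (hf : QuasiCompact f ∨ IsOpenMap f) :
    ∃ 𝓘 : Y.IdealSheafData, BlowUp.IsEffCartierIdeal 𝓘 ∧ 𝓘.comap f = 𝓙 := by
  have hGen : ∀ y : Y, ∃ (U : Y.affineOpens) (a : Γ(Y, U.1)), y ∈ U.1 ∧ Gen (Iy hloc) U a := by
    intro y
    obtain ⟨a, -, haI⟩ := exists_Iy_eq_span hJ hloc y
    obtain ⟨V₀, hyV₀, s, rfl⟩ := Y.presheaf.exists_germ_eq a
    obtain ⟨_, ⟨V, hV, rfl⟩, hyV, hVle⟩ :=
      Y.isBasis_affineOpens.exists_subset_of_mem_open (show y ∈ V₀ from hyV₀) V₀.isOpen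
    let a' : Γ(Y, V) := Y.presheaf.map (homOfLE hVle).op s
    have hy : Iy hloc y = Ideal.span {Y.presheaf.germ V y hyV a'} :=
      haI.trans (by simp only [a']; erw [Y.presheaf.germ_res_apply])
    let fa : Γ(X, f ⁻¹ᵁ V) := f.app V a'
    let Good : Set X := {x | ∃ hx : x ∈ f ⁻¹ᵁ V, sI 𝓙 x = Ideal.span {X.presheaf.germ (f ⁻¹ᵁ V) x hx fa}}
    have hGood : IsOpen Good := by
      refine isOpen_iff_forall_mem_open.2 fun x ⟨hx, hxJ⟩ => ?_
      obtain ⟨W₀, hxW₀, g, -, hg⟩ := hJ x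
      obtain ⟨c, hc⟩ := Ideal.mem_span_singleton'.1 (hxJ.le (show X.presheaf.germ W₀.1 x hxW₀ g ∈ sI 𝓙 x by
        rw [sI_eq 𝓙 W₀ hxW₀]
        exact Ideal.mem_map_of_mem _ (hg.ge (Ideal.mem_span_singleton_self g))))
      obtain ⟨d, hd⟩ := Ideal.mem_span_singleton'.1 (show X.presheaf.germ (f ⁻¹ᵁ V) x hx fa ∈
          Ideal.span {X.presheaf.germ W₀.1 x hxW₀ g} by
        rw [← Set.image_singleton, ← Ideal.map_span, ← hg]
        exact (sI_eq 𝓙 W₀ hxW₀).le (hxJ.ge (Ideal.mem_span_singleton_self _)))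
      obtain ⟨C, hxC, c, rfl⟩ := X.presheaf.exists_germ_eq c
      obtain ⟨D, hxD, d, rfl⟩ := X.presheaf.exists_germ_eq d
      let O : X.Opens := ((f ⁻¹ᵁ V) ⊓ W₀.1) ⊓ (C ⊓ D)
      have hxO : x ∈ O := ⟨⟨hx, hxW₀⟩, hxC, hxD⟩
      have hOf : O ≤ f ⁻¹ᵁ V := inf_le_left.trans inf_le_left
      have hOW : O ≤ W₀.1 := inf_le_left.trans inf_le_right
      have hOC : O ≤ C := inf_le_right.trans inf_le_left
      have hOD : O ≤ D := inf_le_right.trans inf_le_right
      let r {U : X.Opens} (h : O ≤ U) := X.presheaf.map (homOfLE h).op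
      have e1 : X.presheaf.germ O x hxO (r hOC c * r hOf fa) = X.presheaf.germ O x hxO (r hOW g) := by
        simp only [r, map_mul, X.presheaf.germ_res_apply]; exact hc
      have e2 : X.presheaf.germ O x hxO (r hOD d * r hOW g) = X.presheaf.germ O x hxO (r hOf fa) := by
        simp only [r, map_mul, X.presheaf.germ_res_apply]; exact hd
      obtain ⟨O₁, hx₁, i₁, i₁', h₁⟩ := X.presheaf.germ_eq x hxO hxO _ _ e1
      obtain ⟨O₂, hx₂, i₂, i₂', h₂⟩ := X.presheaf.germ_eq x hxO hxO _ _ e2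
      refine ⟨O₁ ⊓ O₂, fun z hz => ?_, (O₁ ⊓ O₂).isOpen, hx₁, hx₂⟩
      have hzO : z ∈ O := i₁.le hz.1
      refine ⟨hOf hzO, ?_⟩
      have g1 := congrArg (X.presheaf.germ O₁ z hz.1) h₁
      have g2 := congrArg (X.presheaf.germ O₂ z hz.2) h₂
      rw [X.presheaf.germ_res_apply, X.presheaf.germ_res_apply] at g1 g2
      simp only [r, map_mul, X.presheaf.germ_res_apply] at g1 g2
      rw [sI_eq 𝓙 W₀ (hOW hzO), CDivEq.stk, hg, Ideal.map_span, Set.image_singleton]
      exact le_antisymm ((Ideal.span_singleton_le_iff_mem _).2 (Ideal.mem_span_singleton'.2 ⟨_, g1⟩))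
        ((Ideal.span_singleton_le_iff_mem _).2 (Ideal.mem_span_singleton'.2 ⟨_, g2⟩))
    have hfg : ∀ (x : X) (hx : x ∈ f ⁻¹ᵁ V), (Ideal.span {Y.presheaf.germ V (f x) hx a'}).map (f.stalkMap x).hom =
        Ideal.span {X.presheaf.germ (f ⁻¹ᵁ V) x hx fa} := fun x hx => by
      rw [Ideal.map_span, Set.image_singleton]
      congr 2
      exact f.germ_stalkMap_apply V x hx a'
    have hgoodI : ∀ x ∈ Good, ∃ h : f x ∈ V, Iy hloc (f x) = Ideal.span {Y.presheaf.germ V (f x) h a'} := by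
      rintro x ⟨hx, hxJ⟩
      refine ⟨hx, ?_⟩
      rw [← hfg x hx, sI_eq_map hJ hloc x] at hxJ
      have h2 := congrArg (Ideal.comap (f.stalkMap x).hom) hxJ
      rwa [comap_map_stalkMap, comap_map_stalkMap] at h2
    have hgen : ∀ x : X, f x ⤳ y → x ∈ Good := by
      intro x hx
      have hxV : f x ∈ V := hx.mem_open V.isOpen hyV
      refine ⟨hxV, ?_⟩
      rw [sI_eq_map hJ hloc x, Iy_spec hJ hloc hx, hy, Ideal.map_span, Set.image_singleton, ← hfg x hxV]
      congr 3
      exact TopCat.Presheaf.germ_stalkSpecializes_apply (F := Y.presheaf) hyV hx a'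
    obtain ⟨O, hyO, hO⟩ : ∃ O : Y.Opens, y ∈ O ∧ ∀ z ∈ O, ∃ x ∈ Good, f x = z := by
      rcases hf with hqc | hop
      · let E : Set X := (f ⁻¹ᵁ V : Set X) \ Good
        have hE : ProCons.IsProConstructible E := ProConsLib.isProConstructible_of_isLocallyClosed
          ((f ⁻¹ᵁ V).isOpen.isLocallyClosed.inter hGood.isClosed_compl.isLocallyClosed) fun W hW => by
            haveI : IsNoetherianRing Γ(X, W) := IsLocallyNoetherian.component_noetherian ⟨W, hW⟩
            haveI : NoetherianSpace ↥(W : Set X) := noetherianSpace_of_isAffineOpen W hW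
            exact (noetherianSpace_set_iff (W : Set X)).1 inferInstance _ Set.inter_subset_right
        have hycl : y ∉ closure (f.base '' E) := fun h => by
          obtain ⟨x, hxE, hxy⟩ := ProConsLib.exists_specializes_of_mem_closure_image_scheme hE f h
          exact hxE.2 (hgen x hxy)
        refine ⟨⟨(V : Set Y) \ closure (f.base '' E), V.isOpen.sdiff isClosed_closure⟩, ⟨hyV, hycl⟩,
          fun z hz => ?_⟩
        obtain ⟨x, rfl⟩ := f.surjective z
        exact ⟨x, by_contra fun h => hz.2 (subset_closure ⟨x, ⟨hz.1, h⟩, rfl⟩), rfl⟩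
      · obtain ⟨x, rfl⟩ := f.surjective y
        exact ⟨⟨f.base '' Good, hop _ hGood⟩, ⟨x, hgen x specializes_rfl, rfl⟩, fun z ⟨w, hw, e⟩ => ⟨w, hw, e⟩⟩
    obtain ⟨_, ⟨U, hU, rfl⟩, hyU, hUle⟩ := Y.isBasis_affineOpens.exists_subset_of_mem_open
      (show y ∈ O ⊓ V from ⟨hyO, hyV⟩) (O ⊓ V).isOpen
    refine ⟨⟨U, hU⟩, Y.presheaf.map (homOfLE fun z hz => (hUle hz).2).op a', hyU, fun z hz => ?_⟩
    obtain ⟨x, hxG, rfl⟩ := hO z (hUle hz).1
    obtain ⟨h, e⟩ := hgoodI x hxG
    rw [e, Y.presheaf.germ_res_apply]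
  refine ⟨ofStalks _ hGen, isEffCartier_ofStalks hGen (exists_Iy_eq_span hJ hloc), ext_sI fun x => ?_⟩
  rw [sI_comap, sI_ofStalks, sI_eq_map hJ hloc x]

omit [IsLocallyNoetherian X] [IsLocallyNoetherian Y] [Flat f] [Surjective f] hJ in
theorem isEffCartier_comap_fromSpecStalk {𝓘 : Y.IdealSheafData} (h : BlowUp.IsEffCartierIdeal 𝓘) (y : Y) :
    BlowUp.IsEffCartierIdeal (𝓘.comap (Y.fromSpecStalk y)) := fun p => by
  obtain ⟨g, hg, hgI⟩ := exists_gen h y
  refine ⟨⟨⊤, isAffineOpen_top _⟩, trivial, (Scheme.ΓSpecIso (Y.presheaf.stalk y)).inv g, ?_, ?_⟩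
  · refine mem_nonZeroDivisors_iff_right.2 fun z hz => ?_
    have hb := ConcreteCategory.bijective_of_isIso (Scheme.ΓSpecIso (Y.presheaf.stalk y)).hom
    apply hb.1
    rw [map_zero]
    refine mem_nonZeroDivisors_iff_right.1 hg _ ?_
    have := congrArg (Scheme.ΓSpecIso (Y.presheaf.stalk y)).hom hz
    rw [map_mul, map_zero, ← ConcreteCategory.comp_apply, Iso.inv_hom_id, ConcreteCategory.id_apply] at this
    exact this
  · have hb := ConcreteCategory.bijective_of_isIso (Scheme.ΓSpecIso (Y.presheaf.stalk y)).hom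
    have h' := congrArg (Ideal.comap (Scheme.ΓSpecIso (Y.presheaf.stalk y)).hom.hom) hgI
    rw [sI, tI, Ideal.comap_map_of_bijective _ hb] at h'
    rw [h']
    conv_lhs => rw [show g = (Scheme.ΓSpecIso (Y.presheaf.stalk y)).hom ((Scheme.ΓSpecIso (Y.presheaf.stalk y)).inv g) by
      rw [← ConcreteCategory.comp_apply, Iso.inv_hom_id, ConcreteCategory.id_apply]]
    rw [← Set.image_singleton, ← Ideal.map_span, Ideal.comap_map_of_bijective _ hb]

omit [IsLocallyNoetherian X] [IsLocallyNoetherian Y] [Flat f] [Surjective f] hJ in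
theorem loc_of_pullback {y : Y} {𝓘₁ : (Spec (Y.presheaf.stalk y)).IdealSheafData}
    (h : 𝓘₁.comap (pullback.snd f (Y.fromSpecStalk y)) = 𝓙.comap (pullback.fst f (Y.fromSpecStalk y))) :
    Loc f 𝓙 y := by
  refine ⟨tI 𝓘₁, fun x hx => ?_⟩
  let ψ := Y.presheaf.stalkSpecializes hx ≫ f.stalkMap x
  let l : Spec (X.presheaf.stalk x) ⟶ pullback f (Y.fromSpecStalk y) :=
    pullback.lift (X.fromSpecStalk x) (Spec.map ψ) (by
      simp only [ψ, Spec.map_comp, Category.assoc, Scheme.SpecMap_stalkSpecializes_fromSpecStalk,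
        Scheme.SpecMap_stalkMap_fromSpecStalk])
  have h' := congrArg (fun K => tI (K.comap l)) h
  simp only [← Scheme.IdealSheafData.comap_comp, l, pullback.lift_fst, pullback.lift_snd, tI_comap] at h'
  rw [Ideal.map_map, ← CommRingCat.hom_comp]
  exact h'.symm

end Groth.Agent.H23.CartierFlatDesc
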