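import Groth.Agent.H23.CartierFlatDesc
import Groth.Agent.H23.StalkPrimes
import Groth.Agent.AssLib.FlatFibre
import Groth.Agent.CDiv6.Normal

/-!
# Descent of effective Cartier divisors along flat maps to normal bases
-/

set_option autoImplicit false
set_option backward.isDefEq.respectTransparency false
set_option backward.isDefEq.respectTransparency.types false

universe u

open CategoryTheory CategoryTheory.Limits AlgebraicGeometry TopologicalSpace IsLocalRing

noncomputable section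

namespace Groth.Agent.H23.CartierFlatNormal

open Groth.Agent StalkIdeal CartierFlatDescAlg CartierFlatDesc CDiv6

variable {X Y : Scheme.{u}}

theorem primeOf_refl (y : Y) : (primeOf (specializes_rfl : y ⤳ y)).asIdeal = maximalIdeal (Y.presheaf.stalk y) := by
  ext a
  rw [mem_primeOf, TopCat.Presheaf.stalkSpecializes_refl, IsLocalRing.mem_maximalIdeal, mem_nonunits_iff]
  rfl

theorem map_maximalIdeal_eq_top {y z : Y} (h : z ⤳ y) (hne : z ≠ y) :
    (maximalIdeal (Y.presheaf.stalk y)).map (Y.presheaf.stalkSpecializes h).hom = ⊤ := by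
  by_contra hc
  have hle : maximalIdeal (Y.presheaf.stalk y) ≤ (primeOf h).asIdeal := fun a ha => (mem_primeOf h a).2 fun hu =>
    hc (Ideal.eq_top_of_isUnit_mem _ (Ideal.mem_map_of_mem _ ha) hu)
  refine hne (StalkPrimes.primeOf_inj h specializes_rfl ?_)
  rw [primeOf_refl]
  exact le_antisymm (le_maximalIdeal (primeOf h).isPrime.ne_top) hle

theorem map_pow_eq_top {y z : Y} (h : z ⤳ y) (hne : z ≠ y) (n : ℕ) :
    ((maximalIdeal (Y.presheaf.stalk y)) ^ n).map (Y.presheaf.stalkSpecializes h).hom = ⊤ := by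
  rw [Ideal.map_pow, map_maximalIdeal_eq_top h hne, Ideal.top_pow]

theorem map_specializes_of_eq {y z : Y} (h : z ⤳ y) (e : z = y) :
    (maximalIdeal (Y.presheaf.stalk y)).map (Y.presheaf.stalkSpecializes h).hom =
      maximalIdeal (Y.presheaf.stalk z) := by
  subst e
  rw [TopCat.Presheaf.stalkSpecializes_refl, CommRingCat.hom_id, Ideal.map_id]

theorem map_stalkCongr {y y' : Y} (h : y' = y) :
    (maximalIdeal (Y.presheaf.stalk y)).map (Y.presheaf.stalkCongr (.of_eq h.symm)).hom.hom =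
      maximalIdeal (Y.presheaf.stalk y') :=
  map_specializes_of_eq (specializes_of_eq h) h

theorem max_of_ne {y z w : Y} [IsDomain (Y.presheaf.stalk y)] [IsDiscreteValuationRing (Y.presheaf.stalk y)]
    (h : z ⤳ y) (hne : z ≠ y) (hw : w ⤳ z) : w = z := by
  have key : ∀ z (h : z ⤳ y), z ≠ y → (primeOf h).asIdeal = ⊥ := fun z h hne => by
    by_contra hbot
    haveI := (primeOf h).isPrime
    exact hne (StalkPrimes.primeOf_inj h specializes_rfl (by
      rw [primeOf_refl]
      exact eq_maximalIdeal (Ideal.IsPrime.isMaximal (primeOf h).isPrime hbot)))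
  have hwne : w ≠ y := fun e => hne ((h.antisymm (e ▸ hw)).eq)
  exact StalkPrimes.primeOf_inj (hw.trans h) h ((key w (hw.trans h) hwne).trans (key z h hne).symm)

variable (hY : Pi1.IsNormalScheme Y) [IsLocallyNoetherian Y]

include hY in
theorem eq_top_of_max {I : Y.IdealSheafData} (hI : BlowUp.IsEffCartierIdeal I) {η : Y}
    (hη : ∀ z, z ⤳ η → z = η) : sI I η = ⊤ := by
  haveI := (hY η).1
  obtain ⟨g, hg, hgI⟩ := exists_gen hI η
  rw [hgI, Ideal.span_singleton_eq_top]
  by_contra hu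
  have h0 := (AssLib.dimZero_iff η).2 hη ⊥ Ideal.isPrime_bot
  have hgm : g ∈ (⊥ : Ideal (Y.presheaf.stalk η)) := by rwa [h0, IsLocalRing.mem_maximalIdeal]
  exact nonZeroDivisors.ne_zero hg hgm

include hY in
theorem depth_cases {y : Y}
    (hd : ¬ (2 : ℕ∞) ≤ LocCoh.depth (Y.presheaf.stalk y) (Y.presheaf.stalk y)) :
    (∀ z, z ⤳ y → z = y) ∨ (∃ _ : IsDomain (Y.presheaf.stalk y), IsDiscreteValuationRing (Y.presheaf.stalk y) ∧
      ringKrullDim (Y.presheaf.stalk y) = 1) := by
  haveI := (hY y).1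
  haveI := (hY y).2
  by_cases h1 : (1 : ℕ∞) ≤ LocCoh.depth (Y.presheaf.stalk y) (Y.presheaf.stalk y)
  · refine Or.inr ⟨inferInstance, ?_⟩
    haveI := CDiv6.isDVR_of_depth_eq_one _ (le_antisymm (Order.le_of_lt_add_one (not_le.1 hd)) h1)
    exact ⟨this, IsPrincipalIdealRing.ringKrullDim_eq_one _ (IsDiscreteValuationRing.not_isField _)⟩
  · refine Or.inl ((AssLib.dimZero_iff y).1 fun P hP => ?_)
    obtain ⟨e, he0, he⟩ := AssLib.depthZero_iff.2
      (not_not.1 (mt (Alg6.one_le_depth_iff (R := Y.presheaf.stalk y) (M := Y.presheaf.stalk y)).2 h1))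
    refine le_antisymm (le_maximalIdeal hP.ne_top) fun r hr => ?_
    rw [(mul_eq_zero.1 (he r hr)).resolve_right he0]
    exact P.zero_mem

variable (f : X ⟶ Y) (𝓙 : X.IdealSheafData)

omit [IsLocallyNoetherian Y] in
theorem sI_top_of_fibre {y : Y} (w : ↥(f.fiber y)) (h : 𝓙.comap (f.fiberι y) = ⊤) :
    sI 𝓙 (f.fiberι y w) = ⊤ := by
  by_contra hc
  have h1 := sI_comap 𝓙 (f.fiberι y) w
  rw [h, sI_top] at h1
  refine (maximalIdeal.isMaximal ((f.fiber y).presheaf.stalk w)).ne_top (top_le_iff.1 ?_)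
  refine le_trans h1.le ((Ideal.map_mono (le_maximalIdeal hc)).trans (Ideal.map_le_iff_le_comap.2 fun a ha => ?_))
  exact map_nonunit ((f.fiberι y).stalkMap w).hom a ha

omit [IsLocallyNoetherian Y] in
theorem comap_fiberι_eq_top {y : Y} (h : ∀ x, f x = y → sI 𝓙 x = ⊤) : 𝓙.comap (f.fiberι y) = ⊤ :=
  ext_sI fun w => by rw [sI_top, sI_comap, h _ (FlatDvr.fiberι_apply_eq f w), Ideal.map_top]

/-- The fibre stalks have no embedded associated primes. -/
def NoEmb (y : Y) : Prop :=
  ∀ z : ↥(f.fiber y), AssLib.DepthZero ((f.fiber y).presheaf.stalk z) → ∀ z', z' ⤳ z →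
    AssLib.DepthZero ((f.fiber y).presheaf.stalk z') → z' = z

variable [IsLocallyNoetherian X]

omit [IsLocallyNoetherian Y] in
theorem isNoetherianRing_fibre {y : Y} (w : ↥(f.fiber y)) : IsNoetherianRing ((f.fiber y).presheaf.stalk w) :=
  isNoetherianRing_of_surjective _ _ ((f.fiberι y).stalkMap w).hom ((f.fiberι y).stalkMap_surjective w)

omit [IsLocallyNoetherian Y] in
theorem depthZero_of_max {y : Y} (w : ↥(f.fiber y)) (hw : ∀ w', w' ⤳ w → w' = w) :
    AssLib.DepthZero ((f.fiber y).presheaf.stalk w) := by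
  haveI := isNoetherianRing_fibre f w
  obtain ⟨P, hP⟩ := associatedPrimes.nonempty ((f.fiber y).presheaf.stalk w) ((f.fiber y).presheaf.stalk w)
  refine AssLib.depthZero_iff.2 ?_
  rwa [← (AssLib.dimZero_iff w).2 hw P (IsAssociatedPrime.isPrime (AssociatedPrimes.mem_iff.1 hP))]

variable [Flat f] {f 𝓙}

/-- An associated point of a divisor over a one-dimensional point is a maximal point of the fibre. -/
theorem max_of_ass {y : Y} (hE : NoEmb f y) (w : ↥(f.fiber y))
    [IsDomain (Y.presheaf.stalk (f (f.fiberι y w)))] [IsDiscreteValuationRing (Y.presheaf.stalk (f (f.fiberι y w)))]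
    (hd : ¬ (2 : ℕ∞) ≤ LocCoh.depth (X.presheaf.stalk (f.fiberι y w)) (X.presheaf.stalk (f.fiberι y w))) :
    ∀ w', w' ⤳ w → w' = w := by
  obtain ⟨π, hπ⟩ := IsDiscreteValuationRing.exists_irreducible (Y.presheaf.stalk (f (f.fiberι y w)))
  letI := (f.stalkMap (f.fiberι y w)).hom.toAlgebra
  haveI : Module.Flat (Y.presheaf.stalk (f (f.fiberι y w))) (X.presheaf.stalk (f.fiberι y w)) :=
    RingHom.flat_algebraMap_iff.mp (Flat.stalkMap f _)
  have hm := hπ.maximalIdeal_eq
  have hreg : IsSMulRegular (X.presheaf.stalk (f.fiberι y w)) ((f.stalkMap (f.fiberι y w)).hom π) :=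
    IsSMulRegular.of_flat (S := X.presheaf.stalk (f.fiberι y w))
      (fun a b hab => mul_left_cancel₀ hπ.ne_zero hab)
  have hmem : (f.stalkMap (f.fiberι y w)).hom π ∈ maximalIdeal (X.presheaf.stalk (f.fiberι y w)) :=
    map_nonunit _ _ (hm ▸ Ideal.mem_span_singleton_self π)
  have hass := not_not.1 (mt (Alg6.two_le_depth_iff hmem hreg).2 hd)
  obtain ⟨-, z, hz⟩ := Alg6.mem_ass_iff.1 hass
  obtain ⟨e, rfl⟩ := Submodule.Quotient.mk_surjective _ z
  have hsur := (f.fiberι y).stalkMap_surjective w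
  have hker : ∀ a, ((f.fiberι y).stalkMap w).hom a = 0 ↔
      ∃ v, (f.stalkMap (f.fiberι y w)).hom π * v = a := fun a => by
    rw [← RingHom.mem_ker, FlatDvr.ker_stalkMap_fiberι, hm, Ideal.map_span, Set.image_singleton,
      Ideal.mem_span_singleton']
    simp only [mul_comm]
  have hz' : ∀ a, a ∈ maximalIdeal _ ↔ ((f.fiberι y).stalkMap w).hom (a * e) = 0 := fun a => by
    rw [hker, hz, ← Submodule.Quotient.mk_smul, Alg6.mem_pointwise_smul_top_iff]
    exact Iff.rfl
  have hdz : AssLib.DepthZero ((f.fiber y).presheaf.stalk w) := by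
    refine ⟨((f.fiberι y).stalkMap w).hom e, fun h0 => ?_, fun r hr => ?_⟩
    · exact (maximalIdeal.isMaximal _).ne_top ((Ideal.eq_top_iff_one _).2 ((hz' 1).2 (by rwa [one_mul])))
    · obtain ⟨a, rfl⟩ := hsur r
      rw [← map_mul, ← hz']
      rw [IsLocalRing.mem_maximalIdeal, mem_nonunits_iff] at hr ⊢
      exact fun hu => hr (hu.map _)
  intro w' hw'
  obtain ⟨η, hη, hmax⟩ := FibDim.exists_maximal_generization w'
  have h1 := hE w hdz η (hη.trans hw') (depthZero_of_max f η hmax)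
  subst h1
  exact (hw'.antisymm hη).eq

variable (hJ : BlowUp.IsEffCartierIdeal 𝓙)
  (h1 : ∀ x : X, (∀ z, z ⤳ f x → z = f x) → sI 𝓙 x = ⊤)

include hJ h1

omit hJ [IsLocallyNoetherian Y] in
theorem map_eq_of_ne {x x' : X} (hx' : x' ⤳ x) [IsDomain (Y.presheaf.stalk (f x))]
    [IsDiscreteValuationRing (Y.presheaf.stalk (f x))] (hne : f x' ≠ f x) (n : ℕ) :
    sI 𝓙 x' = (((maximalIdeal (Y.presheaf.stalk (f x))) ^ n).map (f.stalkMap x).hom).map
      (X.presheaf.stalkSpecializes hx').hom := by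
  rw [Ideal.map_map, stalkMap_spec f hx', ← Ideal.map_map, map_pow_eq_top (hx'.map f.continuous) hne,
    Ideal.map_top]
  exact h1 x' fun z hz => max_of_ne (hx'.map f.continuous) hne hz

theorem stalk_eq {y : Y} [IsDomain (Y.presheaf.stalk y)] [IsDiscreteValuationRing (Y.presheaf.stalk y)]
    (hE : NoEmb f y) (n : ℕ)
    (hn : ∀ w : ↥(f.fiber y), (∀ w', w' ⤳ w → w' = w) → sI 𝓙 (f.fiberι y w) =
      ((maximalIdeal (Y.presheaf.stalk (f (f.fiberι y w)))) ^ n).map (f.stalkMap (f.fiberι y w)).hom)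
    (x : X) (hx : f x = y) :
    sI 𝓙 x = ((maximalIdeal (Y.presheaf.stalk (f x))) ^ n).map (f.stalkMap x).hom := by
  subst hx
  obtain ⟨π, hπ⟩ := IsDiscreteValuationRing.exists_irreducible (Y.presheaf.stalk (f x))
  have hgenc : ((maximalIdeal (Y.presheaf.stalk (f x))) ^ n).map (f.stalkMap x).hom =
      Ideal.span {(f.stalkMap x).hom (π ^ n)} := by
    rw [hπ.maximalIdeal_eq, Ideal.span_singleton_pow, Ideal.map_span, Set.image_singleton]
  have hreg : (f.stalkMap x).hom (π ^ n) ∈ nonZeroDivisors (X.presheaf.stalk x) := by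
    letI := (f.stalkMap x).hom.toAlgebra
    haveI : Module.Flat (Y.presheaf.stalk (f x)) (X.presheaf.stalk x) :=
      RingHom.flat_algebraMap_iff.mp (Flat.stalkMap f x)
    have h := IsSMulRegular.of_flat (S := X.presheaf.stalk x)
      (fun a b hab => mul_left_cancel₀ (pow_ne_zero n hπ.ne_zero) hab : IsSMulRegular (Y.presheaf.stalk (f x)) (π ^ n))
    exact mem_nonZeroDivisors_iff_right.2 fun v hv => h (show _ * v = _ * 0 by rw [mul_zero, mul_comm]; exact hv)
  obtain ⟨b, hb, hbJ⟩ := exists_gen hJ x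
  have key : ∀ d : X.presheaf.stalk x, d ∈ nonZeroDivisors (X.presheaf.stalk x) →
      ∀ P ∈ associatedPrimes (X.presheaf.stalk x) (X.presheaf.stalk x ⧸ Ideal.span {d}),
        ∃ (x' : X) (hx' : x' ⤳ x), (primeOf hx').asIdeal = P ∧
          (sI 𝓙 x).map (X.presheaf.stalkSpecializes hx').hom =
            (((maximalIdeal (Y.presheaf.stalk (f x))) ^ n).map (f.stalkMap x).hom).map
              (X.presheaf.stalkSpecializes hx').hom := by
    intro d hd P hP
    haveI : P.IsPrime := IsAssociatedPrime.isPrime (AssociatedPrimes.mem_iff.1 hP)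
    obtain ⟨x', hx', rfl⟩ := StalkPrimes.exists_point (X := X) P
    refine ⟨x', hx', rfl, ?_⟩
    rw [← sI_spec]
    by_cases hne : f x' = f x
    · obtain ⟨w, rfl⟩ : x' ∈ Set.range (f.fiberι (f x)) := by rw [Scheme.Hom.range_fiberι]; exact hne
      haveI : IsDomain (Y.presheaf.stalk (f (f.fiberι (f x) w))) := by rw [hne]; infer_instance
      haveI : IsDiscreteValuationRing (Y.presheaf.stalk (f (f.fiberι (f x) w))) := by
        revert ‹IsDomain (Y.presheaf.stalk (f (f.fiberι (f x) w)))›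
        rw [hne]
        intro _
        infer_instance
      letI := (X.presheaf.stalkSpecializes hx').hom.toAlgebra
      haveI := StalkPrimes.isLocalization_primeOf hx'
      have hd2 := depth_le_one_of_ass hd hP (X.presheaf.stalk (f.fiberι (f x) w))
      rw [hn w (max_of_ass hE w hd2), Ideal.map_map (f.stalkMap x).hom, stalkMap_spec f hx', ← Ideal.map_map,
        Ideal.map_pow (Y.presheaf.stalkSpecializes _).hom, map_specializes_of_eq _ hne]
    · exact map_eq_of_ne h1 hx' hne n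
  refine le_antisymm ?_ ?_
  · rw [hbJ, Ideal.span_singleton_le_iff_mem, hgenc]
    refine mem_of_forall_ass _ _ fun P hP => ?_
    obtain ⟨x', hx', rfl, e⟩ := key _ hreg P hP
    letI := (X.presheaf.stalkSpecializes hx').hom.toAlgebra
    haveI := StalkPrimes.isLocalization_primeOf hx'
    refine (IsLocalization.algebraMap_mem_map_algebraMap_iff (primeOf hx').asIdeal.primeCompl
      (X.presheaf.stalk x') _ _).1 ?_
    show (X.presheaf.stalkSpecializes hx').hom b ∈ (Ideal.span {_}).map (X.presheaf.stalkSpecializes hx').hom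
    rw [← hgenc, ← e, hbJ]
    exact Ideal.mem_map_of_mem _ (Ideal.mem_span_singleton_self b)
  · rw [hgenc, Ideal.span_singleton_le_iff_mem, hbJ]
    refine mem_of_forall_ass _ _ fun P hP => ?_
    obtain ⟨x', hx', rfl, e⟩ := key _ hb P hP
    letI := (X.presheaf.stalkSpecializes hx').hom.toAlgebra
    haveI := StalkPrimes.isLocalization_primeOf hx'
    refine (IsLocalization.algebraMap_mem_map_algebraMap_iff (primeOf hx').asIdeal.primeCompl
      (X.presheaf.stalk x') _ _).1 ?_
    show (X.presheaf.stalkSpecializes hx').hom _ ∈ (Ideal.span {b}).map (X.presheaf.stalkSpecializes hx').hom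
    rw [← hbJ, e, hgenc]
    exact Ideal.mem_map_of_mem _ (Ideal.mem_span_singleton_self _)

include hY in
theorem exists_descent_normal [Surjective f] (hf : QuasiCompact f ∨ IsOpenMap f)
    (h2 : ∀ y : Y, ringKrullDim (Y.presheaf.stalk y) = 1 → NoEmb f y ∧
      ∃ n : ℕ, ∀ w : ↥(f.fiber y), (∀ w', w' ⤳ w → w' = w) → sI 𝓙 (f.fiberι y w) =
        ((maximalIdeal (Y.presheaf.stalk (f (f.fiberι y w)))) ^ n).map (f.stalkMap (f.fiberι y w)).hom) :
    ∃ 𝓘 : Y.IdealSheafData, BlowUp.IsEffCartierIdeal 𝓘 ∧ 𝓘.comap f = 𝓙 := by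
  refine exists_descent hJ (fun y hy => ?_) hf
  rcases depth_cases hY hy with hmax | ⟨_, _, hdim⟩
  · refine ⟨⊤, fun x hx => ?_⟩
    rw [Ideal.map_top, Ideal.map_top]
    obtain rfl := hmax _ hx
    exact h1 x hmax
  · obtain ⟨hE, n, hn⟩ := h2 y hdim
    refine ⟨maximalIdeal (Y.presheaf.stalk y) ^ n, fun x hx => ?_⟩
    by_cases hne : f x = y
    · rw [stalk_eq hJ h1 hE n hn x hne, Ideal.map_pow (Y.presheaf.stalkSpecializes hx).hom,
        map_specializes_of_eq hx hne]
    · rw [map_pow_eq_top hx hne, Ideal.map_top]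
      exact h1 x fun z hz => max_of_ne hx hne hz

omit h1 [IsLocallyNoetherian Y] in
theorem exists_pow {y : Y} (w : ↥(f.fiber y))
    [IsDomain (Y.presheaf.stalk (f (f.fiberι y w)))] [IsDiscreteValuationRing (Y.presheaf.stalk (f (f.fiberι y w)))]
    [IsDomain ((f.fiber y).presheaf.stalk w)] (hw : ∀ w', w' ⤳ w → w' = w) :
    ∃ n : ℕ, sI 𝓙 (f.fiberι y w) =
      ((maximalIdeal (Y.presheaf.stalk (f (f.fiberι y w)))) ^ n).map (f.stalkMap (f.fiberι y w)).hom := by
  obtain ⟨π, hπ⟩ := IsDiscreteValuationRing.exists_irreducible (Y.presheaf.stalk (f (f.fiberι y w)))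
  obtain ⟨b, hb, hbJ⟩ := exists_gen hJ (f.fiberι y w)
  have hm : (maximalIdeal (Y.presheaf.stalk (f (f.fiberι y w)))).map (f.stalkMap (f.fiberι y w)).hom =
      maximalIdeal (X.presheaf.stalk (f.fiberι y w)) := by
    rw [← FlatDvr.ker_stalkMap_fiberι]
    refine le_antisymm (le_maximalIdeal (RingHom.ker_ne_top _)) fun a ha => ?_
    have h0 := (AssLib.dimZero_iff w).2 hw ⊥ Ideal.isPrime_bot
    have : ((f.fiberι y).stalkMap w).hom a ∈ (⊥ : Ideal ((f.fiber y).presheaf.stalk w)) := by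
      rw [h0]; exact map_nonunit _ _ ha
    exact this
  simp only [Ideal.map_pow, hm]
  obtain ⟨N, hN⟩ : ∃ N : ℕ, b ∉ maximalIdeal (X.presheaf.stalk (f.fiberι y w)) ^ N := by
    by_contra hc
    push Not at hc
    refine nonZeroDivisors.ne_zero hb ((Submodule.mem_bot (X.presheaf.stalk (f.fiberι y w))).1 ?_)
    rw [← Ideal.iInf_pow_eq_bot_of_isLocalRing _ (maximalIdeal.isMaximal (X.presheaf.stalk (f.fiberι y w))).ne_top,
      Ideal.mem_iInf]
    exact hc
  induction N with
  | zero => exact absurd (by simp) hN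
  | succ k ih =>
    by_cases hk : b ∈ maximalIdeal (X.presheaf.stalk (f.fiberι y w)) ^ k
    · refine ⟨k, ?_⟩
      have hmk : maximalIdeal (X.presheaf.stalk (f.fiberι y w)) =
          Ideal.span {(f.stalkMap (f.fiberι y w)).hom π} := by
        rw [← hm, hπ.maximalIdeal_eq, Ideal.map_span, Set.image_singleton]
      rw [hmk, Ideal.span_singleton_pow] at hk hN ⊢
      obtain ⟨c, rfl⟩ := Ideal.mem_span_singleton'.1 hk
      have hc : IsUnit c := by
        by_contra hc
        obtain ⟨v, rfl⟩ := Ideal.mem_span_singleton'.1 (hmk.le ((IsLocalRing.mem_maximalIdeal c).2 hc))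
        exact hN (Ideal.mem_span_singleton'.2 ⟨v, by ring⟩)
      rw [hbJ, Ideal.span_singleton_mul_left_unit hc]
    · exact ih hk

end Groth.Agent.H23.CartierFlatNormal
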