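import Groth.Agent.H23.CechBCMap

/-!
# Base change of the relative Čech complex
-/

set_option autoImplicit false
set_option linter.style.haveILetI false
set_option linter.unusedSectionVars false
set_option backward.isDefEq.respectTransparency false
set_option backward.isDefEq.respectTransparency.types false

universe u v v₁ v₂ u₁ u₂ w

open CategoryTheory CategoryTheory.Limits AlgebraicGeometry Opposite TopologicalSpace

noncomputable section

namespace Groth.Agent.H23.CechBC

open Groth.Agent Groth.Agent.QCoh Groth.Agent.KFlatLib CechOX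

section General

variable {C : Type u₁} [Category.{v₁} C] [HasFiniteProducts C] {A B : Type*} [Category A] [Category B]
  [Preadditive A] [Preadditive B] [HasProducts.{w} A] [HasProducts.{w} B] {ι : Type w} (U : ι → C)

/-- An additive functor commutes with the Čech complex of a finite family. -/
def mapCechFinIso (G : A ⥤ B) [G.Additive]
    [∀ p : ℕ, PreservesLimitsOfShape (Discrete (Fin (p + 1) → ι)) G] (P : Cᵒᵖ ⥤ A) :
    (G.mapHomologicalComplex (ComplexShape.up ℕ)).obj ((cechComplexFunctor U).obj P) ≅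
      (cechComplexFunctor U).obj (P ⋙ G) :=
  HomologicalComplex.Hom.isoOfComponents
    (fun p => PreservesProduct.iso G fun σ : Fin (p + 1) → ι => P.obj (op (∏ᶜ (U ∘ σ)))) (by
      rintro p q (rfl : p + 1 = q)
      refine Pi.hom_ext _ _ fun σ => ?_
      rw [Category.assoc]
      simp only [Functor.mapHomologicalComplex_obj_d, CechShRes.cech_d,
        AlgebraicTopology.AlternatingCofaceMapComplex.objD, PreservesProduct.iso_hom, Functor.map_sum,
        Functor.map_zsmul, Preadditive.sum_comp, Preadditive.zsmul_comp, Preadditive.comp_sum,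
        Preadditive.comp_zsmul]
      refine Finset.sum_congr rfl fun a _ => ?_
      congr 1
      refine (congrArg (fun φ => piComparison G _ ≫ φ) (CechShRes.δ_π U (P ⋙ G) a σ)).trans ?_
      refine (Category.assoc _ _ _).symm.trans ((congrArg (fun φ => φ ≫ _) (piComparison_comp_π G _ _)).trans ?_)
      refine ((G.map_comp _ _).symm.trans ((congrArg G.map (CechShRes.δ_π U P a σ).symm).trans (G.map_comp _ _))).trans ?_
      exact (congrArg (fun φ => G.map _ ≫ φ) (piComparison_comp_π G _ σ).symm).trans (Category.assoc _ _ _).symm)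

/-- A transformation which is bijective on the intersections gives an isomorphism of Čech complexes. -/
def cechMapIso {P Q : Cᵒᵖ ⥤ A} (ν : P ⟶ Q)
    (h : ∀ (p : ℕ) (σ : Fin (p + 1) → ι), IsIso (ν.app (op (∏ᶜ (U ∘ σ))))) :
    (cechComplexFunctor U).obj P ≅ (cechComplexFunctor U).obj Q :=
  HomologicalComplex.Hom.isoOfComponents
    (fun p => Pi.mapIso fun σ : Fin (p + 1) → ι =>
      (haveI := h p σ; asIso (ν.app (op (∏ᶜ (U ∘ σ)))))) (by
      rintro p q (rfl : p + 1 = q)
      refine Pi.hom_ext _ _ fun σ => ?_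
      simp only [CechShRes.cech_d, AlgebraicTopology.AlternatingCofaceMapComplex.objD,
        Preadditive.sum_comp, Preadditive.zsmul_comp, Preadditive.comp_sum,
        Preadditive.comp_zsmul, Category.assoc]
      refine Finset.sum_congr rfl fun a _ => ?_
      congr 1
      refine (congrArg (fun φ => _ ≫ φ) (CechShRes.δ_π U Q a σ)).trans ?_
      refine ((Category.assoc _ _ _).symm.trans (congrArg (fun φ => φ ≫ Q.map _) (Pi.mapIso_hom_π (β := Fin (p + 1) → ι) _ _))).trans ?_
      refine Eq.trans ?_ (whisker_eq _ (Pi.mapIso_hom_π (fun τ : Fin (p + 1 + 1) → ι =>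
        (haveI := h (p + 1) τ; asIso (ν.app (op (∏ᶜ (U ∘ τ)))))) σ)).symm
      refine Eq.trans ?_ (Category.assoc _ _ _)
      refine Eq.trans ?_ (eq_whisker (CechShRes.δ_π U P a σ) _).symm
      rw [Category.assoc, Category.assoc]
      exact congrArg (fun φ => _ ≫ φ) (ν.naturality _).symm)

variable {D : Type u₂} [Category.{v₂} D] [HasFiniteProducts D] [Quiver.IsThin D]

/-- Čech complexes along a functor of thin categories preserving the intersections. -/
def reindexCechIso (Fn : C ⥤ D) (P : Dᵒᵖ ⥤ A)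
    (e : ∀ (p : ℕ) (σ : Fin (p + 1) → ι), ∏ᶜ ((fun i => Fn.obj (U i)) ∘ σ) = Fn.obj (∏ᶜ (U ∘ σ))) :
    (cechComplexFunctor U).obj (Fn.op ⋙ P) ≅ (cechComplexFunctor fun i => Fn.obj (U i)).obj P :=
  HomologicalComplex.Hom.isoOfComponents
    (fun p => Pi.mapIso fun σ : Fin (p + 1) → ι => P.mapIso (eqToIso (e p σ)).op) (by
      rintro p q (rfl : p + 1 = q)
      refine Pi.hom_ext _ _ fun σ => ?_
      simp only [CechShRes.cech_d, AlgebraicTopology.AlternatingCofaceMapComplex.objD,
        Preadditive.sum_comp, Preadditive.zsmul_comp, Preadditive.comp_sum,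
        Preadditive.comp_zsmul, Category.assoc]
      refine Finset.sum_congr rfl fun a _ => ?_
      congr 1
      refine (congrArg (fun φ => _ ≫ φ) (CechShRes.δ_π (fun i => Fn.obj (U i)) P a σ)).trans ?_
      refine ((Category.assoc _ _ _).symm.trans (congrArg (fun φ => φ ≫ P.map _) (Pi.mapIso_hom_π (β := Fin (p + 1) → ι) _ _))).trans ?_
      refine Eq.trans ?_ (whisker_eq _ (Pi.mapIso_hom_π (fun τ : Fin (p + 1 + 1) → ι =>
        P.mapIso (eqToIso (e (p + 1) τ)).op) σ)).symm
      refine Eq.trans ?_ (Category.assoc _ _ _)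
      refine Eq.trans ?_ (eq_whisker (CechShRes.δ_π U (Fn.op ⋙ P) a σ) _).symm
      rw [Category.assoc, Category.assoc]
      refine congrArg (fun φ => _ ≫ φ) ?_
      show P.map _ ≫ P.map _ = P.map _ ≫ P.map _
      rw [← P.map_comp, ← P.map_comp]
      exact congrArg P.map (Quiver.Hom.unop_inj (Subsingleton.elim _ _)))

end General

variable {X X' S S' : Scheme.{u}} {f : X ⟶ S} {g : S' ⟶ S} {g' : X' ⟶ X} {f' : X' ⟶ S'}

theorem prod_preimage (g' : X' ⟶ X) {ι : Type u} (𝒰 : ι → X.Opens) (p : ℕ) (σ : Fin (p + 1) → ι) :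
    ∏ᶜ ((fun i => (TopologicalSpace.Opens.map g'.base).obj (𝒰 i)) ∘ σ) =
      (TopologicalSpace.Opens.map g'.base).obj (∏ᶜ (𝒰 ∘ σ)) := by
  refine le_antisymm (fun y hy => ?_)
    (Pi.lift (f := (fun i => (TopologicalSpace.Opens.map g'.base).obj (𝒰 i)) ∘ σ) fun a =>
      (TopologicalSpace.Opens.map g'.base).map (Pi.π (𝒰 ∘ σ) a)).le
  have e : ∏ᶜ (𝒰 ∘ σ) = ⨅ a, 𝒰 (σ a) := le_antisymm (le_iInf fun a => (Pi.π (𝒰 ∘ σ) a).le)
    (Pi.lift (f := 𝒰 ∘ σ) fun a => homOfLE (iInf_le (fun a => 𝒰 (σ a)) a)).le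
  show g' y ∈ ∏ᶜ (𝒰 ∘ σ)
  rw [e, ← SetLike.mem_coe, Opens.coe_iInf, Set.mem_iInter]
  exact fun a => (Pi.π ((fun i => (TopologicalSpace.Opens.map g'.base).obj (𝒰 i)) ∘ σ) a).le hy

variable (g) in
theorem preservesProducts_pullback [(Scheme.Modules.pullback g).Additive] {ι : Type u} [Finite ι] (p : ℕ) :
    PreservesLimitsOfShape (Discrete (Fin (p + 1) → ι)) (Scheme.Modules.pullback g) := by
  obtain ⟨n, ⟨e⟩⟩ := Finite.exists_equiv_fin (Fin (p + 1) → ι)
  exact preservesLimitsOfShape_of_equiv (Discrete.equivalence e.symm) (Scheme.Modules.pullback g)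

variable {ι : Type u} [Finite ι] (𝒰 : ι → X.Opens) (F : X.Modules)

/-- The base change map on all terms. -/
def βNat (hw : g' ≫ f = f' ≫ g) :
    (pushRestrFam.flip.obj F ⋙ Scheme.Modules.pushforward f) ⋙ Scheme.Modules.pullback g ⟶
      (TopologicalSpace.Opens.map g'.base).op ⋙
        (pushRestrFam.flip.obj ((Scheme.Modules.pullback g').obj F) ⋙ Scheme.Modules.pushforward f') where
  app W := β hw F W.unop
  naturality {A B} i := β_natural hw F (leOfHom i.unop)

theorem nonempty_bc_iso (h : IsPullback g' f' f g) (hF : Coh.IsQCoh F)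
    [(Scheme.Modules.pullback g).Additive]
    (haff : ∀ (p : ℕ) (σ : Fin (p + 1) → ι), IsAffineHom ((∏ᶜ (𝒰 ∘ σ) : X.Opens).ι ≫ f)) :
    Nonempty (((Scheme.Modules.pullback g).mapHomologicalComplex (ComplexShape.up ℕ)).obj
        ((relCech 𝒰 f).obj F) ≅
      (relCech (fun i => g' ⁻¹ᵁ 𝒰 i) f').obj ((Scheme.Modules.pullback g').obj F)) := by
  haveI := fun p => preservesProducts_pullback g (ι := ι) p
  haveI := (Scheme.Modules.pullbackPushforwardAdjunction f).isRightAdjoint
  haveI := (Scheme.Modules.pullbackPushforwardAdjunction f').isRightAdjoint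
  let Pf := pushRestrFam.flip.obj F
  let P' := pushRestrFam.flip.obj ((Scheme.Modules.pullback g').obj F)
  exact ⟨((Scheme.Modules.pullback g).mapHomologicalComplex (ComplexShape.up ℕ)).mapIso
      (mapCechFinIso 𝒰 (Scheme.Modules.pushforward f) Pf) ≪≫
    mapCechFinIso 𝒰 (Scheme.Modules.pullback g) (Pf ⋙ Scheme.Modules.pushforward f) ≪≫
    cechMapIso 𝒰 (βNat F h.w) (fun p σ => by haveI := haff p σ; exact isIso_β h hF _) ≪≫
    reindexCechIso 𝒰 (TopologicalSpace.Opens.map g'.base) (P' ⋙ Scheme.Modules.pushforward f')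
      (prod_preimage g' 𝒰) ≪≫
    (mapCechFinIso (fun i => g' ⁻¹ᵁ 𝒰 i) (Scheme.Modules.pushforward f') P').symm⟩

section Rpush

variable (f)

theorem isRightAcyclic_term [HasInjectiveResolutions X.Modules] (hF : Coh.IsQCoh F)
    (hι : ∀ (p : ℕ) (σ : Fin (p + 1) → ι), IsAffineHom (∏ᶜ (𝒰 ∘ σ) : X.Opens).ι)
    (haff : ∀ (p : ℕ) (σ : Fin (p + 1) → ι), IsAffineHom ((∏ᶜ (𝒰 ∘ σ) : X.Opens).ι ≫ f)) (p : ℕ) :
    TriCat.IsRightAcyclic (Scheme.Modules.pushforward f) (((cechSh 𝒰).obj F).X p) := fun q hq => by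
  obtain ⟨i, rfl⟩ : ∃ i, q = i + 1 := ⟨q - 1, by omega⟩
  let T : (Fin (p + 1) → ι) → X.Modules := fun σ => (pushRestrFam.flip.obj F).obj (op (∏ᶜ (𝒰 ∘ σ)))
  haveI := Fintype.ofFinite (Fin (p + 1) → ι)
  haveI := SpObjSS.enoughInjectives_of_hasInjectiveResolutions (C := X.Modules)
  haveI := QCoh.hasFiniteBiproducts (X := X)
  let R := (Scheme.Modules.pushforward f).rightDerived (i + 1)
  have hT : ∀ σ, IsZero (R.obj (T σ)) := fun σ => by
    haveI := hι p σ
    haveI := haff p σ
    exact CechRpush.isZero_Rpush_push _ f i _ (KFlatLib.sAcyclic_of_isQCoh (QCoh.isQCoh_restrict _ hF))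
  refine IsZero.of_iso ?_ (R.mapIso (biproduct.isoProduct T)).symm
  rw [IsZero.iff_id_eq_zero, ← R.map_id]
  refine ((congrArg R.map (IsBilimit.total (biproduct.isBilimit T)).symm).trans (R.map_sum _ _)).trans ?_
  exact Finset.sum_eq_zero fun σ _ => by rw [R.map_comp, (hT σ).eq_of_tgt (R.map (biproduct.π T σ)) 0, zero_comp]

attribute [local instance] HasDerivedCategory.standard

theorem nonempty_toD_iso [HasInjectiveResolutions X.Modules] (hF : Coh.IsQCoh F) (hcov : ⨆ i, 𝒰 i = ⊤)
    (hι : ∀ (p : ℕ) (σ : Fin (p + 1) → ι), IsAffineHom (∏ᶜ (𝒰 ∘ σ) : X.Opens).ι)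
    (haff : ∀ (p : ℕ) (σ : Fin (p + 1) → ι), IsAffineHom ((∏ᶜ (𝒰 ∘ σ) : X.Opens).ι ≫ f)) [DCoh.HasRpush f] :
    Nonempty (DCoh.toD S (relCechZ 𝒰 f F) ≅ (DCoh.Rpush f).obj (DCoh.inD X F)) := by
  let C := cechShZ 𝒰 F
  haveI : CochainComplex.IsStrictlyGE C 0 := inferInstance
  have hac : ∀ n, TriCat.IsRightAcyclic (Scheme.Modules.pushforward f) (C.X n) := fun n q hq => by
    by_cases hn : ∃ m : ℕ, ComplexShape.embeddingUpNat.f m = n
    · obtain ⟨m, hm⟩ := hn
      exact (isRightAcyclic_term f 𝒰 F hF hι haff m q hq).of_iso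
        (((Scheme.Modules.pushforward f).rightDerived q).mapIso (HomologicalComplex.extendXIso _ _ hm))
    · exact ((Scheme.Modules.pushforward f).rightDerived q).map_isZero
        (HomologicalComplex.isZero_extend_X _ _ _ fun m hm => hn ⟨m, hm⟩)
  haveI := KFlatLib.isIso_rpushUnit_of_isStrictlyGE f C 0 hac
  haveI := CechRpush.quasiIso_augHom 𝒰 F hcov
  let a : (HomologicalComplex.single X.Modules (ComplexShape.up ℤ) 0).obj F ⟶ C :=
    (HomologicalComplex.extendSingleIso ComplexShape.embeddingUpNat F 0 (0 : ℤ) (by simp)).inv ≫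
      HomologicalComplex.extendMap (CechRpush.augHom 𝒰 F) ComplexShape.embeddingUpNat
  haveI : QuasiIso a := quasiIso_comp _ _
  refine ⟨DerivedCategory.Q.mapIso (TriCat.mapExtendIso (Scheme.Modules.pushforward f) ComplexShape.embeddingUpNat
      ((cechSh 𝒰).obj F)).symm ≪≫ asIso ((KFlatLib.rpushUnit f).app C) ≪≫
    (DCoh.Rpush f).mapIso ((asIso (DerivedCategory.Q.map a)).symm ≪≫
      ((DerivedCategory.singleFunctorIsoCompQ X.Modules 0).app F).symm)⟩

end Rpush

end Groth.Agent.H23.CechBC
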