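import Groth.Agent.H23.CechRpush
import Groth.Agent.KFlatLib.Scheme.TorBCMod

/-!
# Base change of direct images of restrictions to opens affine over the base
-/

set_option autoImplicit false
set_option linter.style.haveILetI false
set_option backward.isDefEq.respectTransparency false
set_option backward.isDefEq.respectTransparency.types false

universe u

open CategoryTheory CategoryTheory.Limits AlgebraicGeometry Opposite TopologicalSpace
open scoped TensorProduct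

namespace Groth.Agent.H23.CechBC

open Groth.Agent Groth.Agent.QCoh Groth.Agent.KFlatLib CechOX

variable {X X' S S' : Scheme.{u}}

theorem inter_eq (W V : X.Opens) : W.ι ''ᵁ (W.ι ⁻¹ᵁ V) = W ⊓ V := CechShRes.image_eq W V

theorem inter_le (g' : X' ⟶ X) (W V : X.Opens) :
    (g' ⁻¹ᵁ W).ι ''ᵁ ((g' ⁻¹ᵁ W).ι ⁻¹ᵁ (g' ⁻¹ᵁ V)) ≤ g' ⁻¹ᵁ (W.ι ''ᵁ (W.ι ⁻¹ᵁ V)) :=
  le_of_eq (by rw [inter_eq, inter_eq]; rfl)

theorem pullSec_rs (g' : X' ⟶ X) (F : X.Modules) {V V₁ : X.Opens} {T T₁ : X'.Opens} (h : T ≤ g' ⁻¹ᵁ V)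
    (h₁ : T₁ ≤ g' ⁻¹ᵁ V₁) (a : V₁ ≤ V) (b : T₁ ≤ T) (x : Γ(F, V)) :
    rs ((Scheme.Modules.pullback g').obj F) b (pullSec g' F h x) = pullSec g' F h₁ (rs F a x) := by
  change rs ((Scheme.Modules.pullback g').obj F) b (rs _ h
      (((Scheme.Modules.pullbackPushforwardAdjunction g').unit.app F).app V x)) =
    rs _ h₁ (((Scheme.Modules.pullbackPushforwardAdjunction g').unit.app F).app V₁ (rs F a x))
  exact ((rs_rs _ _ _).trans (rs_rs (g'.preimage_mono a) h₁ _).symm).trans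
    (congrArg (rs _ h₁) (app_rs ((Scheme.Modules.pullbackPushforwardAdjunction g').unit.app F) a x).symm)

/-- Pull-back of sections as an additive map. -/
noncomputable def pullSecHom (g' : X' ⟶ X) (F : X.Modules) {V : X.Opens} {T : X'.Opens} (h : T ≤ g' ⁻¹ᵁ V) :
    Γ(F, V) →+ Γ((Scheme.Modules.pullback g').obj F, T) :=
  AddMonoidHom.mk' (pullSec g' F h) (pullSec_add g' F h)

/-- The presheaf map underlying `ζ`. -/
noncomputable def ζPre (g' : X' ⟶ X) (W : X.Opens) (F : X.Modules) :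
    (interFun W).op ⋙ F.presheaf ⟶
      (TopologicalSpace.Opens.map g'.base).op ⋙ (interFun (g' ⁻¹ᵁ W)).op ⋙
        ((Scheme.Modules.pullback g').obj F).presheaf where
  app V := AddCommGrpCat.ofHom (pullSecHom g' F (inter_le g' W V.unop))
  naturality {A B} i := by
    apply AddCommGrpCat.hom_ext
    apply AddMonoidHom.ext
    intro x
    exact (pullSec_rs g' F (inter_le g' W A.unop) (inter_le g' W B.unop)
      (leOfHom ((interFun W).map i.unop))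
      (leOfHom ((interFun (g' ⁻¹ᵁ W)).map ((TopologicalSpace.Opens.map g'.base).map i.unop))) x).symm

theorem scalar_eq (W V : X.Opens) (r : Γ(X, V)) :
    (W.ι.appIso (W.ι ⁻¹ᵁ V)).inv (W.ι.app V r) =
      rf X (show W.ι ''ᵁ (W.ι ⁻¹ᵁ V) ≤ V from (inter_eq W V).trans_le inf_le_right) r := by
  have h := ConcreteCategory.congr_hom (W.ι.app_appIso_inv V) r
  simp only [CategoryTheory.comp_apply] at h
  exact h

set_option maxHeartbeats 1000000 in
/-- `j_*(F|W) ⟶ g'_* j'_*(g'^*F|g'⁻¹W)`. -/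
noncomputable def ζ (g' : X' ⟶ X) (W : X.Opens) (F : X.Modules) : (pushRestr W).obj F ⟶
    (Scheme.Modules.pushforward g').obj ((pushRestr (g' ⁻¹ᵁ W)).obj ((Scheme.Modules.pullback g').obj F)) :=
  ⟨PresheafOfModules.homMk (ζPre g' W F) (fun V r m => by
    obtain ⟨V⟩ := V
    change ↑(Γ(X, V)) at r
    change pullSec g' F (inter_le g' W V)
        (((W.ι.appIso (W.ι ⁻¹ᵁ V)).inv (W.ι.app V r)) • (show ↑Γ(F, W.ι ''ᵁ (W.ι ⁻¹ᵁ V)) from m)) =
      (((g' ⁻¹ᵁ W).ι.appIso ((g' ⁻¹ᵁ W).ι ⁻¹ᵁ (g' ⁻¹ᵁ V))).inv ((g' ⁻¹ᵁ W).ι.app (g' ⁻¹ᵁ V) (g'.app V r))) •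
        pullSec g' F (inter_le g' W V) (show ↑Γ(F, W.ι ''ᵁ (W.ι ⁻¹ᵁ V)) from m)
    rw [pullSec_smul, scalar_eq, scalar_eq]
    refine congrArg (· • pullSec g' F (inter_le g' W V) _) ?_
    rw [rf, rf, ← CommRingCat.comp_apply, Scheme.Hom.map_appLE]
    rfl)⟩

theorem ζ_app (g' : X' ⟶ X) (W : X.Opens) (F : X.Modules) (V : X.Opens)
    (x : Γ(F, W.ι ''ᵁ (W.ι ⁻¹ᵁ V))) :
    (ζ g' W F).app V x = pullSec g' F (inter_le g' W V) x := rfl

theorem ζ_natural (g' : X' ⟶ X) (F : X.Modules) {W W₁ : X.Opens} (h : W₁ ≤ W) :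
    (pushRestrMap h).app F ≫ ζ g' W₁ F =
      ζ g' W F ≫ (Scheme.Modules.pushforward g').map
        ((pushRestrMap (g'.preimage_mono h)).app ((Scheme.Modules.pullback g').obj F)) := by
  apply Scheme.Modules.hom_ext
  intro V
  ext x
  exact (pullSec_rs g' F (inter_le g' W V) (inter_le g' W₁ V) (image_preimage_mono h V)
    (image_preimage_mono (g'.preimage_mono h) (g' ⁻¹ᵁ V)) x).symm

variable {f : X ⟶ S} {g : S' ⟶ S} {g' : X' ⟶ X} {f' : X' ⟶ S'} (hw : g' ≫ f = f' ≫ g) (F : X.Modules)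

/-- The base change map on one term. -/
noncomputable def β (W : X.Opens) :
    (Scheme.Modules.pullback g).obj ((Scheme.Modules.pushforward f).obj ((pushRestr W).obj F)) ⟶
      (Scheme.Modules.pushforward f').obj ((pushRestr (g' ⁻¹ᵁ W)).obj ((Scheme.Modules.pullback g').obj F)) :=
  ((Scheme.Modules.pullbackPushforwardAdjunction g).homEquiv _ _).symm
    ((Scheme.Modules.pushforward f).map (ζ g' W F) ≫ (FlatBC.squareIso hw).hom.app _)

theorem β_natural {W W₁ : X.Opens} (h : W₁ ≤ W) :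
    (Scheme.Modules.pullback g).map ((Scheme.Modules.pushforward f).map ((pushRestrMap h).app F)) ≫
        β hw F W₁ =
      β hw F W ≫ (Scheme.Modules.pushforward f').map
        ((pushRestrMap (g'.preimage_mono h)).app ((Scheme.Modules.pullback g').obj F)) := by
  rw [β, β, ← Adjunction.homEquiv_naturality_left_symm, ← Adjunction.homEquiv_naturality_right_symm]
  congr 1
  rw [← Category.assoc, ← Functor.map_comp, ζ_natural, Functor.map_comp, Category.assoc, Category.assoc]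
  congr 1
  exact (FlatBC.squareIso hw).hom.naturality _

set_option maxHeartbeats 1000000 in
theorem β_pullSec (W : X.Opens) {U : S.Opens} {W₀ : S'.Opens} (hle : W₀ ≤ g ⁻¹ᵁ U)
    (hle' : (g' ⁻¹ᵁ W).ι ''ᵁ ((g' ⁻¹ᵁ W).ι ⁻¹ᵁ (f' ⁻¹ᵁ W₀)) ≤ g' ⁻¹ᵁ (W.ι ''ᵁ (W.ι ⁻¹ᵁ (f ⁻¹ᵁ U))))
    (x : Γ(F, W.ι ''ᵁ (W.ι ⁻¹ᵁ (f ⁻¹ᵁ U)))) :
    (β hw F W).app W₀ (pullSec g ((Scheme.Modules.pushforward f).obj ((pushRestr W).obj F)) hle x) =
      pullSec g' F hle' x := by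
  let adj := Scheme.Modules.pullbackPushforwardAdjunction g
  let c := (Scheme.Modules.pushforward f).map (ζ g' W F) ≫ (FlatBC.squareIso hw).hom.app _
  have e₁ : adj.unit.app _ ≫ (Scheme.Modules.pushforward g).map (β hw F W) = c :=
    (adj.homEquiv_unit ..).symm.trans ((adj.homEquiv _ _).apply_symm_apply c)
  unfold pullSec
  refine (app_rs (β hw F W) hle _).trans ?_
  refine (congrArg (rs _ hle) (congr(($e₁).app U x))).trans ?_
  let N := (pushRestr (g' ⁻¹ᵁ W)).obj ((Scheme.Modules.pullback g').obj F)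
  change rs N (f'.preimage_mono hle)
    (((FlatBC.squareIso hw).hom.app N).app U (pullSec g' F (inter_le g' W (f ⁻¹ᵁ U)) x)) = _
  rw [FlatBC.app_eq]
  have e : f' ⁻¹ᵁ (g ⁻¹ᵁ U) = g' ⁻¹ᵁ (f ⁻¹ᵁ U) := by
    rw [← Scheme.Hom.comp_preimage, ← Scheme.Hom.comp_preimage, hw]
  have hb : (interFun (g' ⁻¹ᵁ W)).obj (f' ⁻¹ᵁ (g ⁻¹ᵁ U)) ≤ (interFun (g' ⁻¹ᵁ W)).obj (g' ⁻¹ᵁ (f ⁻¹ᵁ U)) :=
    leOfHom ((interFun (g' ⁻¹ᵁ W)).map (eqToHom e))
  have ha : (interFun (g' ⁻¹ᵁ W)).obj (f' ⁻¹ᵁ W₀) ≤ (interFun (g' ⁻¹ᵁ W)).obj (f' ⁻¹ᵁ (g ⁻¹ᵁ U)) :=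
    leOfHom ((interFun (g' ⁻¹ᵁ W)).map (homOfLE (f'.preimage_mono hle)))
  change rs ((Scheme.Modules.pullback g').obj F) ha
      (rs ((Scheme.Modules.pullback g').obj F) hb (pullSec g' F (inter_le g' W (f ⁻¹ᵁ U)) x)) =
    pullSec g' F hle' x
  rw [rs_rs]
  exact (pullSec_rs g' F (inter_le g' W (f ⁻¹ᵁ U)) hle' le_rfl (ha.trans hb) x).trans
    (congrArg (pullSec g' F hle') (rs_self le_rfl x))

theorem isIso_β (h : IsPullback g' f' f g) {F : X.Modules} (hF : Coh.IsQCoh F) (W : X.Opens)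
    [IsAffineHom (W.ι ≫ f)] : IsIso (β h.w F W) := by
  refine QCoh.isIso_of_isBasis (β h.w F W)
    (B := {W₀ | IsAffineOpen W₀ ∧ ∃ U : S.Opens, IsAffineOpen U ∧ W₀ ≤ g ⁻¹ᵁ U}) ?_ ?_
  · refine TopologicalSpace.Opens.isBasis_iff_nbhd.2 fun {V} x hx => ?_
    obtain ⟨_, ⟨U, hU, rfl⟩, hxU, -⟩ :=
      S.isBasis_affineOpens.exists_subset_of_mem_open (Set.mem_univ (g x)) isOpen_univ
    obtain ⟨_, ⟨T, hT, rfl⟩, hxT, hTle⟩ := S'.isBasis_affineOpens.exists_subset_of_mem_open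
      (show x ∈ V ⊓ g ⁻¹ᵁ U from ⟨hx, hxU⟩) (V ⊓ g ⁻¹ᵁ U).isOpen
    exact ⟨T, ⟨hT, U, hU, fun y hy => (hTle hy).2⟩, hxT, fun y hy => (hTle hy).1⟩
  rintro W₀ ⟨hW₀, U, hU, hle⟩
  letI : Algebra Γ(S, U) Γ(S', W₀) := (g.appLE U W₀ hle).hom.toAlgebra
  have halg : ∀ a, algebraMap Γ(S, U) Γ(S', W₀) a = g.appLE U W₀ hle a := fun _ => rfl
  let O : X.Opens := W.ι ''ᵁ (W.ι ⁻¹ᵁ (f ⁻¹ᵁ U))
  have hO : O ≤ f ⁻¹ᵁ U := (inter_eq W _).trans_le inf_le_right
  have hOa : IsAffineOpen O := by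
    have := (hU.preimage (W.ι ≫ f)).image_of_isOpenImmersion W.ι
    rwa [Scheme.Hom.comp_preimage] at this
  let M := (Scheme.Modules.pushforward f).obj ((pushRestr W).obj F)
  have hM : Coh.IsQCoh M :=
    (QCoh.isQCoh_iff_iso ((Scheme.Modules.pushforwardComp W.ι f).app _)).2
      (QCoh.isQCoh_pushforward (W.ι ≫ f) (QCoh.isQCoh_restrict _ hF))
  let DG := FlatBC.dG hle halg
  let DA := FlatBC.dA h.w hle halg O hO
  let P := (Scheme.Modules.pullback g').obj F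
  let N := (Scheme.Modules.pushforward f').obj ((pushRestr (g' ⁻¹ᵁ W)).obj P)
  let T : X'.Opens := (g' ⁻¹ᵁ W).ι ''ᵁ ((g' ⁻¹ᵁ W).ι ⁻¹ᵁ (f' ⁻¹ᵁ W₀))
  have hT : T = DA.W' := by
    show _ = g' ⁻¹ᵁ O ⊓ f' ⁻¹ᵁ W₀
    refine (inter_eq _ _).trans (le_antisymm ?_ ?_)
    · intro y hy
      refine ⟨?_, hy.2⟩
      have h1 : g' y ∈ f ⁻¹ᵁ U := by
        show (g' ≫ f) y ∈ U
        rw [h.w]
        exact hle hy.2
      exact (inter_eq W (f ⁻¹ᵁ U)).ge ⟨hy.1, h1⟩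
    · intro y hy
      exact ⟨((inter_eq W (f ⁻¹ᵁ U)).le hy.1).1, hy.2⟩
  let R : FlatBC.RSec DG.φ M →ₗ[Γ(S, U)] FlatBC.RSec DA.φ F :=
    { toFun := fun x => x
      map_add' := fun _ _ => rfl
      map_smul' := fun a x => by
        show (W.ι.appIso (W.ι ⁻¹ᵁ (f ⁻¹ᵁ U))).inv (W.ι.app (f ⁻¹ᵁ U) (f.app U a)) • (show Γ(F, O) from x) =
          f.appLE U O hO a • (show Γ(F, O) from x)
        rw [scalar_eq]
        rfl }
  have hR : Function.Bijective R := ⟨fun _ _ e => e, fun y => ⟨y, rfl⟩⟩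
  let L : FlatBC.TSec Γ(S, U) DA.ψ P →ₗ[Γ(S', W₀)] FlatBC.TSec Γ(S, U) DG.ψ N :=
    { toFun := fun y => rs P hT.le y
      map_add' := rs_add hT.le
      map_smul' := fun b y => by
        show rs P hT.le (f'.appLE W₀ DA.W' inf_le_right b • (show Γ(P, DA.W') from y)) =
          ((g' ⁻¹ᵁ W).ι.appIso ((g' ⁻¹ᵁ W).ι ⁻¹ᵁ (f' ⁻¹ᵁ W₀))).inv
            ((g' ⁻¹ᵁ W).ι.app (f' ⁻¹ᵁ W₀) (f'.app W₀ b)) • rs P hT.le y
        rw [scalar_eq, rs_smul]
        refine congrArg (· • rs P hT.le y) ?_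
        rw [rf, ← CommRingCat.comp_apply, Scheme.Hom.appLE_map]
        rfl }
  have hL : Function.Bijective L := TorBC.bijective_rs_of_eq P hT
  let φ := FlatBC.mapT Γ(S, U) DG.ψ (β h.w F W)
  have key : ∀ z, φ ((FlatBC.pullT DG M).liftBaseChange Γ(S', W₀) z) =
      L ((FlatBC.pullT DA F).liftBaseChange Γ(S', W₀) (R.baseChange Γ(S', W₀) z)) := fun z => by
    induction z using TensorProduct.induction_on with
    | zero => simp only [map_zero]
    | tmul b x =>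
      simp only [LinearMap.baseChange_tmul, LinearMap.liftBaseChange_tmul, map_smul]
      refine congrArg (b • ·) ?_
      exact (β_pullSec h.w F W hle ((hT.le).trans inf_le_left) x).trans
        (QCoh.map_map _ _ _).symm
    | add a b ha hb => simp only [map_add, ha, hb]
  have hG : Function.Bijective ((FlatBC.pullT DG M).liftBaseChange Γ(S', W₀)) :=
    FlatBC.isBC_dG hle halg hU hW₀ M hM
  have hA := (FlatBC.isBC_dA h.w hle halg h hU hW₀ hO hOa).2 F hF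
  have hR' : Function.Bijective (R.baseChange Γ(S', W₀)) := by
    rw [LinearMap.baseChange_eq_ltensor]
    exact ((LinearEquiv.ofBijective R hR).lTensor Γ(S', W₀)).bijective
  have hb : Function.Bijective φ := (Function.Bijective.of_comp_iff _ hG).1 (by
    rw [show (φ : _ → _) ∘ ((FlatBC.pullT DG M).liftBaseChange Γ(S', W₀) : _ → _) = _ from funext key]
    exact hL.comp (hA.comp hR'))
  exact hb

end Groth.Agent.H23.CechBC
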