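import Groth.Agent.H23.CechShRes
import Groth.Agent.KFlatLib.Scheme.AcyclicPush
import Groth.Agent.KFlatLib.Scheme.AffineSections
import Groth.Agent.CohPullX.Edge
import Groth.Agent.QCoh.RpushGod
import Groth.Agent.QCoh.Qcqs
import Groth.Agent.QCoh.Tilde
import Groth.Agent.QCoh.DevissageIdeal
import Groth.Agent.RelTildeX.SheafCrit
import Groth.Agent.TriCat.MapExtend
import Mathlib.Algebra.Homology.Embedding.ExtendHomology

/-!
# The relative Čech complex computes the higher direct images
-/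

set_option autoImplicit false
set_option linter.style.haveILetI false
set_option backward.isDefEq.respectTransparency false
set_option backward.isDefEq.respectTransparency.types false

universe u

open CategoryTheory CategoryTheory.Limits AlgebraicGeometry Opposite TopologicalSpace

namespace Groth.Agent.H23.CechRpush

open Groth.Agent

attribute [local instance] QCoh.hasFiniteBiproducts

variable {W X S : Scheme.{u}}

/-- The direct image along an affine morphism is exact on acyclic modules. -/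
theorem epi_push (g : W ⟶ S) [IsAffineHom g] {T : ShortComplex W.Modules} (hT : T.ShortExact)
    (h₁ : KFlatLib.SAcyclic T.X₁) : Epi ((Scheme.Modules.pushforward g).map T.g) :=
  RelTildeX.epi_of_locally _ fun U s y hy => by
    obtain ⟨_, ⟨V, hV, rfl⟩, hyV, hVU⟩ := S.isBasis_affineOpens.exists_subset_of_mem_open hy U.2
    obtain ⟨t, ht⟩ := KFlatLib.app_surjective hT h₁ (hV.preimage g)
      (((Scheme.Modules.pushforward g).obj T.X₃).presheaf.map (homOfLE hVU).op s)
    exact ⟨V, hVU, hyV, t, ht⟩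

/-- A direct image along an affine morphism is acyclic for every morphism making the composite affine. -/
theorem isZero_Rpush_push (j : W ⟶ X) (f : X ⟶ S) [IsAffineHom j] [IsAffineHom (j ≫ f)]
    [HasInjectiveResolutions X.Modules] (i : ℕ) (M : W.Modules) (hM : KFlatLib.SAcyclic M) :
    IsZero (((Scheme.Modules.pushforward f).rightDerived (i + 1)).obj ((Scheme.Modules.pushforward j).obj M)) := by
  haveI := SpObjSS.enoughInjectives_of_hasInjectiveResolutions (C := X.Modules)
  haveI := QCoh.preservesFiniteLimits_push f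
  haveI := QCoh.preservesFiniteLimits_push j
  induction i generalizing M with
  | zero =>
    let T := ShortComplex.mk (Injective.ι M) (cokernel.π (Injective.ι M)) (cokernel.condition _)
    have hT : T.ShortExact := { exact := ShortComplex.exact_of_g_is_cokernel _ (cokernelIsCokernel _) }
    haveI := epi_push j hT hM
    have hT' : (T.map (Scheme.Modules.pushforward j)).ShortExact :=
      { exact := hT.exact.map_of_mono_of_preservesKernel (Scheme.Modules.pushforward j) hT.mono_f inferInstance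
        mono_f := haveI := hT.mono_f; inferInstanceAs (Mono ((Scheme.Modules.pushforward j).map T.f))
        epi_g := inferInstanceAs (Epi ((Scheme.Modules.pushforward j).map T.g)) }
    haveI : Injective T.X₂ := inferInstanceAs (Injective (Injective.under M))
    obtain ⟨e⟩ := QCoh.nonempty_R1_iso (Scheme.Modules.pushforward f) hT'
      (QCoh.isZero_Rpush_of_flasque f ((Scheme.Modules.pushforward j).obj T.X₂)
        (CohPullX.isFlasque_push j.base (QCoh.isFlasqueMod_of_injective T.X₂)) 0)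
    haveI : Epi ((Scheme.Modules.pushforward f).map (T.map (Scheme.Modules.pushforward j)).g) :=
      epi_push (j ≫ f) hT hM
    exact (isZero_cokernel_of_epi _).of_iso e
  | succ i ih =>
    let T := ShortComplex.mk (Injective.ι M) (cokernel.π (Injective.ι M)) (cokernel.condition _)
    have hT : T.ShortExact := { exact := ShortComplex.exact_of_g_is_cokernel _ (cokernelIsCokernel _) }
    haveI := epi_push j hT hM
    have hT' : (T.map (Scheme.Modules.pushforward j)).ShortExact :=
      { exact := hT.exact.map_of_mono_of_preservesKernel (Scheme.Modules.pushforward j) hT.mono_f inferInstance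
        mono_f := haveI := hT.mono_f; inferInstanceAs (Mono ((Scheme.Modules.pushforward j).map T.f))
        epi_g := inferInstanceAs (Epi ((Scheme.Modules.pushforward j).map T.g)) }
    haveI : Injective T.X₂ := inferInstanceAs (Injective (Injective.under M))
    have hfl := CohPullX.isFlasque_push j.base (QCoh.isFlasqueMod_of_injective T.X₂)
    obtain ⟨e⟩ := QCoh.nonempty_shift_iso (Scheme.Modules.pushforward f) hT' i
      (QCoh.isZero_Rpush_of_flasque f ((Scheme.Modules.pushforward j).obj T.X₂) hfl i)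
      (QCoh.isZero_Rpush_of_flasque f ((Scheme.Modules.pushforward j).obj T.X₂) hfl (i + 1))
    exact (ih T.X₃ (KFlatLib.sAcyclic_X₃ hT hM (KFlatLib.sAcyclic_of_injective _))).of_iso e.symm

section Cech

open CechOX

variable {ι : Type u} [Finite ι] (𝒰 : ι → X.Opens) (F : X.Modules)
  [IsAffineHom (pullback.diagonal (terminal.from X))]

theorem isAffineOpen_pi (h𝒰 : ∀ i, IsAffineOpen (𝒰 i)) {p : ℕ} (σ : Fin (p + 1) → ι) :
    IsAffineOpen (∏ᶜ (𝒰 ∘ σ)) := by
  have e : ∏ᶜ (𝒰 ∘ σ) = ⨅ a, 𝒰 (σ a) := le_antisymm (le_iInf fun a => (Pi.π (𝒰 ∘ σ) a).le)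
    (Pi.lift (f := 𝒰 ∘ σ) fun a => homOfLE (iInf_le (fun a => 𝒰 (σ a)) a)).le
  exact e ▸ IsAffineOpen.iInf fun a => h𝒰 (σ a)

theorem isAffineHom_ι {W : X.Opens} (hW : IsAffineOpen W) : IsAffineHom W.ι :=
  ⟨fun U hU => by
    rw [← Scheme.Hom.isAffineOpen_iff_of_isOpenImmersion W.ι, Scheme.Hom.image_preimage_eq_opensRange_inf,
      Scheme.Opens.opensRange_ι]
    exact hW.inf hU⟩

omit [IsAffineHom (pullback.diagonal (terminal.from X))] in
theorem isAffineHom_of_isAffine (g : W ⟶ S) [IsAffine W] [IsAffineHom (pullback.diagonal (terminal.from S))] :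
    IsAffineHom g := by
  haveI : IsAffineHom (g ≫ terminal.from S) := by
    rw [Subsingleton.elim (g ≫ terminal.from S) (terminal.from W)]
    infer_instance
  haveI : MorphismProperty.HasOfPostcompProperty @IsAffineHom (MorphismProperty.diagonal @IsAffineHom) :=
    MorphismProperty.hasOfPostcompProperty_iff_le_diagonal.2 le_rfl
  exact MorphismProperty.of_postcomp (W := @IsAffineHom) (W' := MorphismProperty.diagonal @IsAffineHom) g
    (terminal.from S) ‹IsAffineHom (pullback.diagonal (terminal.from S))› ‹_›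

/-- The terms of the Čech complex of sheaves are quasi-coherent. -/
theorem isQCoh_term (h𝒰 : ∀ i, IsAffineOpen (𝒰 i)) (hF : Coh.IsQCoh F) (p : ℕ) :
    Coh.IsQCoh (((cechSh 𝒰).obj F).X p) := by
  let T : (Fin (p + 1) → ι) → X.Modules := fun σ => (pushRestrFam.flip.obj F).obj (op (∏ᶜ (𝒰 ∘ σ)))
  haveI := Fintype.ofFinite (Fin (p + 1) → ι)
  have hT : ∀ σ, Coh.IsQCoh (T σ) := fun σ => by
    haveI := isAffineHom_ι (isAffineOpen_pi 𝒰 h𝒰 σ)
    exact QCoh.isQCoh_pushforward _ (QCoh.isQCoh_restrict _ hF)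
  exact (QCoh.isQCoh_iff_iso (biproduct.isoProduct T : (⨁ T) ≅ ((cechSh 𝒰).obj F).X p)).1
    (QCoh.isQCoh_biproduct T hT)

variable (f : X ⟶ S) [IsAffineHom (pullback.diagonal (terminal.from S))]

theorem isQCoh_relCech (h𝒰 : ∀ i, IsAffineOpen (𝒰 i)) (hF : Coh.IsQCoh F) (p : ℕ) :
    Coh.IsQCoh (((relCech 𝒰 f).obj F).X p) := by
  let T : (Fin (p + 1) → ι) → X.Modules := fun σ => (pushRestrFam.flip.obj F).obj (op (∏ᶜ (𝒰 ∘ σ)))
  haveI := Fintype.ofFinite (Fin (p + 1) → ι)
  let P := fun σ => (Scheme.Modules.pushforward f).obj (T σ)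
  have hT : ∀ σ, Coh.IsQCoh (P σ) := fun σ => by
    haveI : IsAffine ((∏ᶜ (𝒰 ∘ σ) : X.Opens) : Scheme.{u}) := isAffineOpen_pi 𝒰 h𝒰 σ
    haveI := isAffineHom_of_isAffine ((∏ᶜ (𝒰 ∘ σ) : X.Opens).ι ≫ f)
    exact (QCoh.isQCoh_iff_iso ((Scheme.Modules.pushforwardComp (∏ᶜ (𝒰 ∘ σ) : X.Opens).ι f).app _)).2
      (QCoh.isQCoh_pushforward ((∏ᶜ (𝒰 ∘ σ) : X.Opens).ι ≫ f) (QCoh.isQCoh_restrict _ hF))
  haveI := (Scheme.Modules.pullbackPushforwardAdjunction f).isRightAdjoint
  exact (QCoh.isQCoh_iff_iso (biproduct.isoProduct P ≪≫ (PreservesProduct.iso (Scheme.Modules.pushforward f) T).symm :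
      (⨁ P) ≅ ((relCech 𝒰 f).obj F).X p)).1 (QCoh.isQCoh_biproduct P hT)

variable [HasInjectiveResolutions X.Modules]

theorem isRightAcyclic_term (h𝒰 : ∀ i, IsAffineOpen (𝒰 i)) (hF : Coh.IsQCoh F) (p : ℕ) :
    TriCat.IsRightAcyclic (Scheme.Modules.pushforward f) (((cechSh 𝒰).obj F).X p) := fun q hq => by
  obtain ⟨i, rfl⟩ : ∃ i, q = i + 1 := ⟨q - 1, by omega⟩
  let T : (Fin (p + 1) → ι) → X.Modules := fun σ => (pushRestrFam.flip.obj F).obj (op (∏ᶜ (𝒰 ∘ σ)))
  haveI := Fintype.ofFinite (Fin (p + 1) → ι)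
  haveI := SpObjSS.enoughInjectives_of_hasInjectiveResolutions (C := X.Modules)
  let R := (Scheme.Modules.pushforward f).rightDerived (i + 1)
  have hT : ∀ σ, IsZero (R.obj (T σ)) := fun σ => by
    haveI := isAffineHom_ι (isAffineOpen_pi 𝒰 h𝒰 σ)
    haveI : IsAffine ((∏ᶜ (𝒰 ∘ σ) : X.Opens) : Scheme.{u}) := isAffineOpen_pi 𝒰 h𝒰 σ
    haveI := isAffineHom_of_isAffine ((∏ᶜ (𝒰 ∘ σ) : X.Opens).ι ≫ f)
    exact isZero_Rpush_push _ f i _ (KFlatLib.sAcyclic_of_isQCoh (QCoh.isQCoh_restrict _ hF))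
  refine IsZero.of_iso ?_ (R.mapIso (biproduct.isoProduct T)).symm
  rw [IsZero.iff_id_eq_zero, ← R.map_id]
  refine ((congrArg R.map (IsBilimit.total (biproduct.isBilimit T)).symm).trans (R.map_sum _ _)).trans ?_
  exact Finset.sum_eq_zero fun σ _ => by rw [R.map_comp, (hT σ).eq_of_tgt (R.map (biproduct.π T σ)) 0, zero_comp]

/-- The coaugmentation as a morphism of complexes. -/
noncomputable def augHom : (CochainComplex.single₀ X.Modules).obj F ⟶ (cechSh 𝒰).obj F :=
  (CochainComplex.fromSingle₀Equiv _ _).symm ⟨cechShAug 𝒰 F, CechShRes.aug_d 𝒰 F⟩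

omit [Finite ι] [IsAffineHom (pullback.diagonal (terminal.from X))] [HasInjectiveResolutions X.Modules] in
theorem quasiIso_augHom (hcov : ⨆ i, 𝒰 i = ⊤) : QuasiIso (augHom 𝒰 F) where
  quasiIsoAt := fun n => by
    cases n with
    | zero =>
      rw [CochainComplex.quasiIsoAt₀_iff, ShortComplex.quasiIso_iff_of_zeros _ (by simp) (by simp) (by simp)]
      have e : (augHom 𝒰 F).f 0 = cechShAug 𝒰 F := CochainComplex.fromSingle₀Equiv_symm_apply_f_zero _ _
      refine ⟨(ShortComplex.exact_iff_of_iso (ShortComplex.isoMk (Iso.refl _) (Iso.refl _) (Iso.refl _)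
        (by simp [e]) (by simp))).2 (CechShRes.exact_aug 𝒰 F hcov), ?_⟩
      show Mono ((augHom 𝒰 F).f 0)
      rw [e]
      exact CechShRes.mono_aug 𝒰 F hcov
    | succ n =>
      rw [quasiIsoAt_iff_exactAt _ _ (HomologicalComplex.exactAt_single_obj _ _ _ _ (by simp))]
      exact CechShRes.exactAt_cechSh 𝒰 F hcov n

attribute [local instance] HasDerivedCategory.standard

/-- The relative Čech complex computes `Rf_*`. -/
theorem nonempty_toD_iso (h𝒰 : ∀ i, IsAffineOpen (𝒰 i)) (hcov : ⨆ i, 𝒰 i = ⊤) (hF : Coh.IsQCoh F)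
    [DCoh.HasRpush f] :
    Nonempty (DCoh.toD S (relCechZ 𝒰 f F) ≅ (DCoh.Rpush f).obj (DCoh.inD X F)) := by
  let C := cechShZ 𝒰 F
  haveI : CochainComplex.IsStrictlyGE C 0 := inferInstance
  have hac : ∀ n, TriCat.IsRightAcyclic (Scheme.Modules.pushforward f) (C.X n) := fun n q hq => by
    by_cases hn : ∃ m : ℕ, ComplexShape.embeddingUpNat.f m = n
    · obtain ⟨m, hm⟩ := hn
      exact (isRightAcyclic_term 𝒰 F f h𝒰 hF m q hq).of_iso
        (((Scheme.Modules.pushforward f).rightDerived q).mapIso (HomologicalComplex.extendXIso _ _ hm))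
    · exact ((Scheme.Modules.pushforward f).rightDerived q).map_isZero
        (HomologicalComplex.isZero_extend_X _ _ _ fun m hm => hn ⟨m, hm⟩)
  haveI := KFlatLib.isIso_rpushUnit_of_isStrictlyGE f C 0 hac
  haveI := quasiIso_augHom 𝒰 F hcov
  let a : (HomologicalComplex.single X.Modules (ComplexShape.up ℤ) 0).obj F ⟶ C :=
    (HomologicalComplex.extendSingleIso ComplexShape.embeddingUpNat F 0 (0 : ℤ) (by simp)).inv ≫
      HomologicalComplex.extendMap (augHom 𝒰 F) ComplexShape.embeddingUpNat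
  haveI : QuasiIso a := quasiIso_comp _ _
  refine ⟨DerivedCategory.Q.mapIso (TriCat.mapExtendIso (Scheme.Modules.pushforward f) ComplexShape.embeddingUpNat
      ((cechSh 𝒰).obj F)).symm ≪≫ asIso ((KFlatLib.rpushUnit f).app C) ≪≫
    (DCoh.Rpush f).mapIso ((asIso (DerivedCategory.Q.map a)).symm ≪≫
      ((DerivedCategory.singleFunctorIsoCompQ X.Modules 0).app F).symm)⟩

end Cech

end Groth.Agent.H23.CechRpush
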