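import Groth.Prelude.Def_CechOX
import Groth.Agent.QCoh.Ab.CechBridge
import Groth.Agent.RelTildeX.SheafCrit
import Mathlib.CategoryTheory.Limits.Preserves.Shapes.Products

/-!
# The Čech complex of sheaves of a covering is a resolution
-/

set_option autoImplicit false
set_option linter.style.haveILetI false
set_option backward.isDefEq.respectTransparency false
set_option backward.isDefEq.respectTransparency.types false

universe v u w

open CategoryTheory CategoryTheory.Limits Opposite TopologicalSpace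

namespace Groth.Agent.H23.CechShRes

section MapCech

variable {C : Type u} [Category.{v} C] [HasFiniteProducts C] {A B : Type*} [Category A] [Category B]
  [Preadditive A] [Preadditive B] [HasProducts.{w} A] [HasProducts.{w} B] (G : A ⥤ B) [G.Additive]
  [∀ J : Type w, PreservesLimitsOfShape (Discrete J) G] {ι : Type w} (U : ι → C) (P : Cᵒᵖ ⥤ A)

theorem cech_d (p : ℕ) : ((cechComplexFunctor U).obj P).d p (p + 1) =
    AlgebraicTopology.AlternatingCofaceMapComplex.objD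
      ((FormalCoproduct.cosimplicialObjectFunctor (FormalCoproduct.mk _ U).cech).obj P) p := by
  simp [cechComplexFunctor, FormalCoproduct.cochainComplexFunctor,
    AlgebraicTopology.alternatingCofaceMapComplex, AlgebraicTopology.AlternatingCofaceMapComplex.obj]

omit [Preadditive A] [Preadditive B] [G.Additive] in
theorem δ_π {p : ℕ} (a : Fin (p + 2)) (σ : Fin (p + 1 + 1) → ι) :
    ((FormalCoproduct.cosimplicialObjectFunctor (FormalCoproduct.mk _ U).cech).obj P).δ a ≫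
        Pi.π (fun σ : Fin (p + 1 + 1) → ι => P.obj (op (∏ᶜ (U ∘ σ)))) σ =
      Pi.π (fun σ : Fin (p + 1) → ι => P.obj (op (∏ᶜ (U ∘ σ)))) (fun b => σ (a.succAbove b)) ≫
        P.map (Pi.lift fun b => Pi.π (U ∘ σ) (a.succAbove b)).op :=
  Pi.lift_π _ σ

/-- A functor preserving products commutes with the Čech complex. -/
noncomputable def mapCechIso :
    (G.mapHomologicalComplex (ComplexShape.up ℕ)).obj ((cechComplexFunctor U).obj P) ≅
      (cechComplexFunctor U).obj (P ⋙ G) :=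
  HomologicalComplex.Hom.isoOfComponents
    (fun p => PreservesProduct.iso G fun σ : Fin (p + 1) → ι => P.obj (op (∏ᶜ (U ∘ σ)))) (by
      rintro p q (rfl : p + 1 = q)
      refine Pi.hom_ext _ _ fun σ => ?_
      rw [Category.assoc]
      simp only [Functor.mapHomologicalComplex_obj_d, cech_d, AlgebraicTopology.AlternatingCofaceMapComplex.objD,
        PreservesProduct.iso_hom, Functor.map_sum, Functor.map_zsmul,
        Preadditive.sum_comp, Preadditive.zsmul_comp, Preadditive.comp_sum, Preadditive.comp_zsmul]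
      refine Finset.sum_congr rfl fun a _ => ?_
      congr 1
      refine (congrArg (fun φ => piComparison G _ ≫ φ) (δ_π U (P ⋙ G) a σ)).trans ?_
      refine (Category.assoc _ _ _).symm.trans ((congrArg (fun φ => φ ≫ _) (piComparison_comp_π G _ _)).trans ?_)
      refine ((G.map_comp _ _).symm.trans ((congrArg G.map (δ_π U P a σ).symm).trans (G.map_comp _ _))).trans ?_
      exact (congrArg (fun φ => G.map _ ≫ φ) (piComparison_comp_π G _ σ).symm).trans (Category.assoc _ _ _).symm)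

end MapCech

section Acyclic

open Groth.Agent.QCoh.Ab

variable {X : TopCat.{u}} {ι : Type u} {Q : TopCat.Presheaf AddCommGrpCat.{u} X} {U : ι → Opens X} (i : ι)
  (h : ∀ W : Opens X, Function.Bijective (Q.map (homOfLE inf_le_left : W ⊓ U i ⟶ W).op))

include h in
/-- A presheaf that only depends on the intersection with one member has no higher Čech cohomology. -/
theorem acyclic_of_bijective : Acyclic Q U := by
  intro p c hc hd
  choose b hb using fun (τ : Fin (p + 1) → ι) (W : {W : Opens X // Le U τ W}) =>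
    (h W.1).2 (c (Fin.cons i τ) ⟨W.1 ⊓ U i, Fin.cases inf_le_right fun a => inf_le_left.trans (W.2 a)⟩)
  have hn : IsNatural b := fun σ W W' hW hW' j => (h W').1 <| by
    refine ((map_map'' Q j _ (homOfLE (inf_le_left.trans (leOfHom j)) : W' ⊓ U i ⟶ W) _).trans
      (map_map'' Q (homOfLE inf_le_left : W ⊓ U i ⟶ W) (homOfLE (inf_le_inf_right _ (leOfHom j))) _ _).symm).trans ?_
    exact (congrArg _ (hb σ ⟨W, hW⟩)).trans ((hc _ _ (W' ⊓ U i) _ _ _).trans (hb σ ⟨W', hW'⟩).symm)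
  refine ⟨b, hn, funext₂ fun σ W => (h W.1).1 ?_⟩
  have hle : Le U σ (W.1 ⊓ U i) := fun a => inf_le_left.trans (W.2 a)
  rw [d_natural hn σ W.1 (W.1 ⊓ U i) W.2 hle _, hc σ W.1 (W.1 ⊓ U i) W.2 hle _]
  have hbc : ∀ (τ : Fin (p + 1) → ι) (hτ : Le U τ (W.1 ⊓ U i)),
      b τ ⟨W.1 ⊓ U i, hτ⟩ = c (Fin.cons i τ) ⟨W.1 ⊓ U i, Fin.cases inf_le_right hτ⟩ := fun τ hτ =>
    (h _).1 ((hb τ ⟨_, hτ⟩).trans (hc _ _ _ _ _ _).symm)
  have e := d_cons c i σ (W.1 ⊓ U i) inf_le_right hle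
  rw [hd, eq_comm] at e
  refine Eq.trans ?_ (sub_eq_zero.1 e).symm
  exact Finset.sum_congr rfl fun a _ => by rw [hbc]

end Acyclic

section Scheme

open AlgebraicGeometry Groth.Agent.QCoh.Ab CechOX

variable {X : Scheme.{u}} {ι : Type u} (𝒰 : ι → X.Opens) (F : X.Modules)

/-- Sections over a fixed open. -/
noncomputable abbrev secAt (V : X.Opens) : X.Modules ⥤ AddCommGrpCat.{u} :=
  Scheme.Modules.toPresheaf X ⋙ (evaluation _ _).obj (op V)

instance (V : X.Opens) : (secAt V).Additive where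
  map_add {_ _} _ _ := rfl

/-- The sections over `V` of the restrictions. -/
noncomputable abbrev famAt (V : X.Opens) : TopCat.Presheaf AddCommGrpCat.{u} X.toTopCat :=
  pushRestrFam.flip.obj F ⋙ secAt V

theorem image_eq (W V : X.Opens) : W.ι ''ᵁ (W.ι ⁻¹ᵁ V) = W ⊓ V := by
  rw [Scheme.Hom.image_preimage_eq_opensRange_inf, Scheme.Opens.opensRange_ι]

theorem famAt_map (V : X.Opens) {W W' : X.Opens} (j : W' ⟶ W) :
    (famAt F V).map j.op = F.presheaf.map (homOfLE (image_preimage_mono (leOfHom j) V)).op := rfl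

theorem isIso_res {A B : X.Opens} (j : B ⟶ A) (h : A ≤ B) : IsIso (F.presheaf.map j.op) := by
  haveI : IsIso j := ⟨homOfLE h, Subsingleton.elim _ _, Subsingleton.elim _ _⟩
  infer_instance

theorem bijective_famAt {V : X.Opens} {i : ι} (hV : V ≤ 𝒰 i) (W : X.Opens) :
    Function.Bijective ((famAt F V).map (homOfLE inf_le_left : W ⊓ 𝒰 i ⟶ W).op) := by
  rw [famAt_map]
  haveI := isIso_res F (homOfLE (image_preimage_mono (inf_le_left : W ⊓ 𝒰 i ≤ W) V)) (by
    rw [image_eq, image_eq]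
    exact le_inf (le_inf inf_le_left (inf_le_right.trans hV)) inf_le_right)
  exact ConcreteCategory.bijective_of_isIso _

/-- Sections of the Čech complex of sheaves. -/
noncomputable def secCxIso (V : X.Opens) :
    ((secAt V).mapHomologicalComplex (ComplexShape.up ℕ)).obj ((cechSh 𝒰).obj F) ≅
      natCx (famAt F V) 𝒰 :=
  mapCechIso (secAt V) 𝒰 (pushRestrFam.flip.obj F) ≪≫ (cechIso (famAt F V) 𝒰).symm

theorem secCxIso_apply (V : X.Opens) (p : ℕ) (s : Γ(((cechSh 𝒰).obj F).X p, V)) (σ : Fin (p + 1) → ι)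
    (W : {W : X.Opens // Le 𝒰 σ W}) :
    ((secCxIso 𝒰 F V).hom.f p s).1 σ W = (famAt F V).map (homOfLE (le_pi 𝒰 W.2)).op
      ((secAt V).map (Pi.π (fun σ : Fin (p + 1) → ι => (pushRestrFam.flip.obj F).obj (op (∏ᶜ (𝒰 ∘ σ)))) σ) s) :=
  congrArg ((famAt F V).map (homOfLE (le_pi 𝒰 W.2)).op) (ConcreteCategory.congr_hom
    (piComparison_comp_π (secAt V) (fun σ : Fin (p + 1) → ι => (pushRestrFam.flip.obj F).obj (op (∏ᶜ (𝒰 ∘ σ)))) σ) s)

theorem secCxIso_aug (V : X.Opens) (x : Γ(F, V)) (σ : Fin (0 + 1) → ι) (W : {W : X.Opens // Le 𝒰 σ W}) :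
    ((secCxIso 𝒰 F V).hom.f 0 ((cechShAug 𝒰 F).app V x)).1 σ W =
      F.presheaf.map (homOfLE ((Scheme.Opens.ι W.1).image_preimage_le V)).op x := by
  refine (secCxIso_apply 𝒰 F V 0 ((cechShAug 𝒰 F).app V x) σ W).trans ?_
  let π := Pi.π (fun σ : Fin (0 + 1) → ι => (pushRestrFam.flip.obj F).obj (op (∏ᶜ (𝒰 ∘ σ)))) σ
  have e : cechShAug 𝒰 F ≫ π = (Scheme.Modules.restrictAdjunction (∏ᶜ (𝒰 ∘ σ)).ι).unit.app F := Pi.lift_π _ σ
  refine (congrArg ((famAt F V).map (homOfLE (le_pi 𝒰 W.2)).op)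
    (congrArg (fun φ : F ⟶ _ => φ.app V x) e)).trans ?_
  exact map_map'' F.presheaf (homOfLE ((∏ᶜ (𝒰 ∘ σ)).ι.image_preimage_le V))
    (homOfLE (image_preimage_mono (le_pi 𝒰 W.2) V)) _ x

attribute [local irreducible] secCxIso

set_option maxHeartbeats 800000 in
theorem exists_eq_aug {V : X.Opens} {i : ι} (hV : V ≤ 𝒰 i) (s : Γ(((cechSh 𝒰).obj F).X 0, V))
    (hs : (((cechSh 𝒰).obj F).d 0 1).app V s = 0) : ∃ a, (cechShAug 𝒰 F).app V a = s := by
  let Φ := secCxIso 𝒰 F V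
  let c : natCochains (famAt F V) 𝒰 1 := Φ.hom.f 0 s
  have hdc : d c.1 = 0 := by
    have h0 : natD (famAt F V) 𝒰 0 c = 0 := by
      rw [← natCx_d]
      refine (ConcreteCategory.congr_hom (Φ.hom.comm 0 1) s).trans ?_
      exact (congrArg (fun t => Φ.hom.f 1 t) hs).trans (map_zero (ConcreteCategory.hom (Φ.hom.f 1)))
    exact congrArg Subtype.val h0
  have hVU : V ≤ (𝒰 i).ι ''ᵁ ((𝒰 i).ι ⁻¹ᵁ V) := by
    rw [image_eq]; exact le_inf hV le_rfl
  let a : Γ(F, V) := F.presheaf.map (homOfLE hVU).op (c.1 (fun _ => i) ⟨𝒰 i, fun _ => le_rfl⟩)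
  refine ⟨a, (AddCommGrpCat.mono_iff_injective (Φ.hom.f 0)).1 inferInstance
    (Subtype.ext (funext₂ fun σ W => ?_))⟩
  refine (secCxIso_aug 𝒰 F V a σ W).trans ((bijective_famAt 𝒰 F hV W.1).1 ?_)
  have h1 : Le 𝒰 (fun _ : Fin 1 => i) (W.1 ⊓ 𝒰 i) := fun _ => inf_le_right
  have h2 : Le 𝒰 σ (W.1 ⊓ 𝒰 i) := fun b => inf_le_left.trans (W.2 b)
  have key : c.1 σ ⟨W.1 ⊓ 𝒰 i, h2⟩ = c.1 (fun _ => i) ⟨W.1 ⊓ 𝒰 i, h1⟩ := by
    refine sub_eq_zero.1 (Eq.trans ?_ ((d_cons c.1 i σ (W.1 ⊓ 𝒰 i) inf_le_right h2).symm.trans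
      (congrFun (congrFun hdc _) _)))
    refine congrArg (c.1 σ _ - ·) ?_
    rw [Fin.sum_univ_one, Fin.val_zero, pow_zero, one_smul]
    have e' : (Fin.cons i fun b => σ ((0 : Fin 1).succAbove b) : Fin 1 → ι) = fun _ => i :=
      funext fun b => Fin.cases rfl (fun b => b.elim0) b
    generalize_proofs hp hq
    revert hq
    rw [e']
    exact fun _ => rfl
  refine Eq.trans ?_ (((c.2 σ W.1 (W.1 ⊓ 𝒰 i) W.2 h2 (homOfLE inf_le_left)).trans key).trans
    (c.2 (fun _ => i) (𝒰 i) (W.1 ⊓ 𝒰 i) (fun _ => le_rfl) h1 (homOfLE inf_le_right)).symm).symm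
  exact (map_map'' F.presheaf _ _ (homOfLE ((image_preimage_mono (inf_le_left : W.1 ⊓ 𝒰 i ≤ _) V).trans
    ((Scheme.Opens.ι W.1).image_preimage_le V))) a).trans (map_map'' F.presheaf _ _ _ _)

theorem injective_aug {V : X.Opens} {i : ι} (hV : V ≤ 𝒰 i) : Function.Injective ((cechShAug 𝒰 F).app V) := by
  let π := Pi.π (fun σ : Fin (0 + 1) → ι => (pushRestrFam.flip.obj F).obj (op (∏ᶜ (𝒰 ∘ σ)))) fun _ => i
  haveI := isIso_res F (homOfLE ((∏ᶜ (𝒰 ∘ fun _ : Fin 1 => i)).ι.image_preimage_le V)) (by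
    rw [image_eq]
    exact le_inf (hV.trans (le_pi 𝒰 (σ := fun _ : Fin 1 => i) fun _ => le_rfl)) le_rfl)
  intro a b h
  refine (ConcreteCategory.bijective_of_isIso
    (F.presheaf.map (homOfLE ((∏ᶜ (𝒰 ∘ fun _ : Fin 1 => i)).ι.image_preimage_le V)).op)).1 ?_
  have h' : (secAt V).map (cechShAug 𝒰 F ≫ π) a = (secAt V).map (cechShAug 𝒰 F ≫ π) b :=
    congrArg (π.app V) h
  exact ((congrArg (fun φ => (secAt V).map φ a) (Pi.lift_π _ (fun _ : Fin 1 => i))).symm.trans h').trans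
    (congrArg (fun φ => (secAt V).map φ b) (Pi.lift_π _ (fun _ : Fin 1 => i)))

theorem aug_d : cechShAug 𝒰 F ≫ ((cechSh 𝒰).obj F).d 0 1 = 0 := by
  refine Scheme.Modules.hom_ext _ _ fun V => ?_
  ext x
  let Φ := secCxIso 𝒰 F V
  have hinj : Function.Injective (Φ.hom.f 1) := (AddCommGrpCat.mono_iff_injective (Φ.hom.f 1)).1 inferInstance
  refine hinj (Eq.trans ?_ (map_zero (ConcreteCategory.hom (Φ.hom.f 1))).symm)
  refine (ConcreteCategory.congr_hom (Φ.hom.comm 0 1) ((cechShAug 𝒰 F).app V x)).symm.trans ?_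
  rw [natCx_d]
  refine Subtype.ext (funext₂ fun σ W => ?_)
  show d ((Φ.hom.f 0 ((cechShAug 𝒰 F).app V x)).1) σ W = 0
  refine (Fin.sum_univ_two (M := (famAt F V).obj (op W.1)) (f := fun a : Fin 2 => (-1 : ℤ) ^ (a : ℕ) •
    (Φ.hom.f 0 ((cechShAug 𝒰 F).app V x)).1 (fun b => σ (a.succAbove b))
      ⟨W.1, fun b => W.2 (a.succAbove b)⟩)).trans ?_
  rw [secCxIso_aug, secCxIso_aug, Fin.val_zero, Fin.val_one, pow_zero, pow_one, one_smul, neg_one_smul]
  exact add_neg_cancel _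

theorem mono_aug (h𝒰 : ⨆ i, 𝒰 i = ⊤) : Mono (cechShAug 𝒰 F) := by
  let S : ShortComplex X.Modules := ShortComplex.mk (0 : F ⟶ F) (cechShAug 𝒰 F) zero_comp
  have hS : S.Exact := RelTildeX.exact_of_locally S fun U s hs x hx => by
    obtain ⟨i, hi⟩ := Opens.mem_iSup.1 (h𝒰.ge (show x ∈ (⊤ : X.Opens) from trivial))
    refine ⟨U ⊓ 𝒰 i, inf_le_left, ⟨hx, hi⟩, 0, ?_⟩
    rw [map_zero]
    refine injective_aug 𝒰 F (inf_le_right : U ⊓ 𝒰 i ≤ 𝒰 i) ?_
    rw [map_zero]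
    exact ((QCoh.map_app_comm (cechShAug 𝒰 F) _ s).trans ((congrArg _ hs).trans (map_zero _))).symm
  exact hS.mono_g rfl

theorem exact_aug (h𝒰 : ⨆ i, 𝒰 i = ⊤) :
    (ShortComplex.mk (cechShAug 𝒰 F) (((cechSh 𝒰).obj F).d 0 1) (aug_d 𝒰 F)).Exact :=
  RelTildeX.exact_of_locally _ fun U s hs x hx => by
    obtain ⟨i, hi⟩ := Opens.mem_iSup.1 (h𝒰.ge (show x ∈ (⊤ : X.Opens) from trivial))
    exact ⟨U ⊓ 𝒰 i, inf_le_left, ⟨hx, hi⟩, exists_eq_aug 𝒰 F inf_le_right _
      ((QCoh.map_app_comm (((cechSh 𝒰).obj F).d 0 1) _ s).trans ((congrArg _ hs).trans (map_zero _)))⟩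

theorem exactAt_cechSh (h𝒰 : ⨆ i, 𝒰 i = ⊤) (p : ℕ) : ((cechSh 𝒰).obj F).ExactAt (p + 1) := by
  rw [HomologicalComplex.exactAt_iff' _ p (p + 1) (p + 2) (by simp) (by simp)]
  refine RelTildeX.exact_of_locally _ fun U s hs x hx => ?_
  obtain ⟨i, hi⟩ := Opens.mem_iSup.1 (h𝒰.ge (show x ∈ (⊤ : X.Opens) from trivial))
  refine ⟨U ⊓ 𝒰 i, inf_le_left, ⟨hx, hi⟩, ?_⟩
  have hex := (exactAt_iff_acyclic (famAt F (U ⊓ 𝒰 i)) 𝒰).2
    (acyclic_of_bijective i (bijective_famAt 𝒰 F inf_le_right)) p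
  rw [HomologicalComplex.exactAt_iff_isZero_homology,
    ← (HomologicalComplex.homologyMapIso (mapCechIso (secAt (U ⊓ 𝒰 i)) 𝒰 (pushRestrFam.flip.obj F)) (p + 1)).isZero_iff,
    ← HomologicalComplex.exactAt_iff_isZero_homology,
    HomologicalComplex.exactAt_iff' _ p (p + 1) (p + 2) (by simp) (by simp), ShortComplex.ab_exact_iff] at hex
  exact hex _ ((QCoh.map_app_comm (((cechSh 𝒰).obj F).d (p + 1) (p + 2)) _ s).trans
    ((congrArg _ hs).trans (map_zero _)))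

end Scheme

end Groth.Agent.H23.CechShRes
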