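import Groth.Prelude.Def_Magnet2
import Groth.Agent.GrpSchLib.AffineHopf

/-!
Points of the diagonalizable monoid scheme `A(M)_S` with values in an arbitrary `S`-scheme `T` are the
monoid maps from `M` to the global functions of `T`.
-/

universe u

open CategoryTheory CategoryTheory.Limits MonoidalCategory CartesianMonoidalCategory MonObj AlgebraicGeometry
open Opposite Magnet TensorProduct WithConv

namespace Groth.Agent.H23.CharPts

/-- The coordinate ring over the integers. -/
abbrev Coord (M : Type) : Type u := MonoidAlgebra (ULift.{u} ℤ) (Multiplicative M)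

theorem ulift_ringHom_ext {B : Type*} [NonAssocSemiring B] (f g : ULift.{u} ℤ →+* B) : f = g := by
  ext ⟨r⟩
  exact RingHom.congr_fun (Subsingleton.elim (f.comp ULift.ringEquiv.symm.toRingHom)
    (g.comp ULift.ringEquiv.symm.toRingHom)) r

variable {S : Scheme.{u}} {M N : Type} [AddCommMonoid M] [AddCommMonoid N] {T T' : Over S}

/-- The morphism to the spectrum of the coordinate ring attached to a point. -/
noncomputable def toSp (x : T ⟶ AMonS S M) : T.left ⟶ Spec (CommRingCat.of (Coord.{u} M)) :=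
  x.left ≫ pullback.fst _ _

/-- The ring map attached to a point. -/
noncomputable def ringMap (x : T ⟶ AMonS S M) : CommRingCat.of (Coord.{u} M) ⟶ Γ(T.left, ⊤) :=
  (Scheme.ΓSpecIso _).inv ≫ (toSp x).appTop

theorem toSp_eq (x : T ⟶ AMonS S M) : toSp x = T.left.toSpecΓ ≫ Spec.map (ringMap x) := by
  rw [ringMap, Spec.map_comp, ← Scheme.toSpecΓ_naturality_assoc, Scheme.toSpecΓ, toSp]
  simp

theorem ringMap_injective : Function.Injective (ringMap : (T ⟶ AMonS S M) → _) := by
  intro x y h
  refine Over.OverMorphism.ext (pullback.hom_ext ?_ ?_)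
  · show toSp x = toSp y
    rw [toSp_eq, toSp_eq, h]
  · exact (Over.w x).trans (Over.w y).symm

theorem exists_ringMap_eq (φ : CommRingCat.of (Coord.{u} M) ⟶ Γ(T.left, ⊤)) : ∃ x : T ⟶ AMonS S M, ringMap x = φ := by
  refine ⟨Over.homMk (pullback.lift (T.left.toSpecΓ ≫ Spec.map φ) T.hom (specULiftZIsTerminal.hom_ext _ _))
    (pullback.lift_snd _ _ _), ?_⟩
  rw [ringMap, show toSp (_ : T ⟶ AMonS S M) = T.left.toSpecΓ ≫ Spec.map φ from pullback.lift_fst _ _ _,
    Scheme.Hom.comp_appTop, ← Category.assoc,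
    ← Scheme.ΓSpecIso_inv_naturality, Category.assoc, Scheme.toSpecΓ_appTop]
  exact (congrArg (φ ≫ ·) (Scheme.ΓSpecIso _).inv_hom_id).trans (Category.comp_id φ)

theorem ringMap_comp (u : T' ⟶ T) (x : T ⟶ AMonS S M) : ringMap (u ≫ x) = ringMap x ≫ u.left.appTop := by
  rw [ringMap, ringMap, toSp, toSp, Over.comp_left, Category.assoc, Scheme.Hom.comp_appTop, Category.assoc]

theorem ringMap_map (f : N →+ M) (x : T ⟶ AMonS S M) :
    ringMap (x ≫ AMonS.map S f) = CommRingCat.ofHom
      (MonoidAlgebra.mapDomainBialgHom (ULift.{u} ℤ) (AddMonoidHom.toMultiplicative f)).toAlgHom.toRingHom ≫ ringMap x := by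
  have h : toSp (x ≫ AMonS.map S f) = toSp x ≫ (AMon.map (ULift.{u} ℤ) f).left :=
    (Category.assoc _ _ _).trans ((congrArg (x.left ≫ ·) (pullback.lift_fst _ _ _)).trans (Category.assoc _ _ _).symm)
  rw [ringMap, ringMap, h]
  refine (congrArg (_ ≫ ·) (Scheme.Hom.comp_appTop _ _)).trans ((Category.assoc _ _ _).symm.trans ?_)
  refine (congrArg (· ≫ (toSp x).appTop) ?_).trans (Category.assoc _ _ _)
  exact (Scheme.ΓSpecIso_inv_naturality _).symm

/-- The character attached to a point. -/
noncomputable def chi (x : T ⟶ AMonS S M) : Multiplicative M →* Γ(T.left, ⊤) :=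
  (ringMap x).hom.toMonoidHom.comp (MonoidAlgebra.of _ _)

theorem chi_apply (x : T ⟶ AMonS S M) (m : Multiplicative M) :
    chi x m = (ringMap x).hom (MonoidAlgebra.single m 1) := rfl

theorem chi_injective : Function.Injective (chi : (T ⟶ AMonS S M) → _) := by
  intro x y h
  apply ringMap_injective
  apply CommRingCat.hom_ext
  exact MonoidAlgebra.ringHom_ext
    (fun r => RingHom.congr_fun (ulift_ringHom_ext ((ringMap x).hom.comp MonoidAlgebra.singleOneRingHom)
      ((ringMap y).hom.comp MonoidAlgebra.singleOneRingHom)) r)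
    (fun m => DFunLike.congr_fun h m)

theorem exists_chi_eq (χ : Multiplicative M →* Γ(T.left, ⊤)) : ∃ x : T ⟶ AMonS S M, chi x = χ := by
  let k : ULift.{u} ℤ →+* Γ(T.left, ⊤) := (Int.castRingHom _).comp ULift.ringEquiv.toRingHom
  obtain ⟨x, hx⟩ := exists_ringMap_eq (T := T)
    (CommRingCat.ofHom (MonoidAlgebra.liftNCRingHom k χ (fun _ _ => Commute.all _ _)))
  refine ⟨x, MonoidHom.ext fun m => ?_⟩
  rw [chi_apply, hx]
  refine (MonoidAlgebra.liftNCRingHom_single k χ (fun _ _ => Commute.all _ _) m 1).trans ?_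
  simp

theorem chi_comp (u : T' ⟶ T) (x : T ⟶ AMonS S M) (m : Multiplicative M) :
    chi (u ≫ x) m = u.left.appTop (chi x m) := by
  rw [chi_apply, chi_apply, ringMap_comp]
  rfl

theorem chi_map (f : N →+ M) (x : T ⟶ AMonS S M) (n : Multiplicative N) :
    chi (x ≫ AMonS.map S f) n = chi x (AddMonoidHom.toMultiplicative f n) := by
  rw [chi_apply, chi_apply, ringMap_map]
  show (ringMap x).hom (MonoidAlgebra.mapDomain _ (MonoidAlgebra.single n 1)) = _
  rw [MonoidAlgebra.mapDomain_single]

theorem chi_mul (x y : T ⟶ AMonS S M) (m : Multiplicative M) : chi (x * y) m = chi x m * chi y m := by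
  let z := Limits.IsTerminal.from specULiftZIsTerminal S
  let adj := Over.mapPullbackAdj z
  let B := (Γ(T.left, ⊤) : Type u)
  letI : Algebra (ULift.{u} ℤ) B := ((Int.castRingHom B).comp ULift.ringEquiv.toRingHom).toAlgebra
  let alg : (T ⟶ AMonS S M) → (Coord.{u} M →ₐ[ULift.{u} ℤ] B) := fun w =>
    { (ringMap w).hom with commutes' := fun r => RingHom.congr_fun (ulift_ringHom_ext
        ((ringMap w).hom.comp (algebraMap (ULift.{u} ℤ) _)) (algebraMap (ULift.{u} ℤ) B)) r }
  let e : (Over.map z).obj T ⟶ GrpSchLib.AffineHopf.sp (ULift.{u} ℤ) B :=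
    Over.homMk T.left.toSpecΓ (specULiftZIsTerminal.hom_ext _ _)
  have he : ∀ w : T ⟶ AMonS S M, (adj.homEquiv _ _).symm w = e ≫ GrpSchLib.AffineHopf.spMap (alg w) := by
    intro w
    refine Over.OverMorphism.ext ?_
    show w.left ≫ pullback.fst _ _ = _
    exact toSp_eq w
  have hm : (adj.homEquiv _ _).symm (x * y) =
      (adj.homEquiv _ _).symm x * (adj.homEquiv _ _).symm y := by
    apply (adj.homEquiv _ _).injective
    rw [Equiv.apply_symm_apply, Adjunction.homEquiv_unit, Functor.map_mul, MonObj.comp_mul,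
      ← Adjunction.homEquiv_unit, ← Adjunction.homEquiv_unit, Equiv.apply_symm_apply,
      Equiv.apply_symm_apply]
  rw [he x, he y, ← MonObj.comp_mul, GrpSchLib.AffineHopf.spMap_mul] at hm
  have h2 : toSp (x * y) = T.left.toSpecΓ ≫ Spec.map (CommRingCat.ofHom (toConv (alg x) * toConv (alg y)).ofConv.toRingHom) :=
    congrArg Over.Hom.left hm
  have h3 : ringMap (x * y) = CommRingCat.ofHom (toConv (alg x) * toConv (alg y)).ofConv.toRingHom := by
    rw [ringMap, h2, Scheme.Hom.comp_appTop, ← Category.assoc, ← Scheme.ΓSpecIso_inv_naturality, Category.assoc,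
      Scheme.toSpecΓ_appTop]
    exact (congrArg (_ ≫ ·) (Scheme.ΓSpecIso _).inv_hom_id).trans (Category.comp_id _)
  rw [chi_apply, h3]
  show (toConv (alg x) * toConv (alg y)).ofConv (MonoidAlgebra.single m 1) = _
  rw [AlgHom.convMul_apply, MonoidAlgebra.comul_single]
  simp [alg, chi_apply]

end Groth.Agent.H23.CharPts
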