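import Mathlib.LinearAlgebra.Matrix.Charpoly.Coeff
import Mathlib.Algebra.Polynomial.Expand
import Mathlib.NumberTheory.Padics.PadicIntegers
import Mathlib.RingTheory.IntegralClosure.IsIntegralClosure.Basic
import Mathlib.Data.Nat.Factorization.Basic

/-!
# Eigenvalues of matrices congruent to the identity
-/

open Polynomial Matrix

universe v

namespace Groth.Agent.H23.CharSqrt

variable {R : Type*} [CommRing R] {m : Type*} [Fintype m] [DecidableEq m]

theorem expand_charpoly_mul_self (N : Matrix m m R) :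
    expand R 2 (N * N).charpoly =
      (-1) ^ Fintype.card m * (N.charpoly * N.charpoly.comp (-X)) := by
  have hE : (expand R 2).toRingHom.mapMatrix (charmatrix (N * N)) =
      (scalar m (X : R[X]) - (C : R →+* R[X]).mapMatrix N) *
        (scalar m (X : R[X]) + (C : R →+* R[X]).mapMatrix N) := by
    have hsc : Commute (scalar m (X : R[X])) ((C : R →+* R[X]).mapMatrix N) :=
      scalar_commute _ (fun r => Commute.all _ _) _
    have h1 : (expand R 2).toRingHom.mapMatrix (scalar m (X : R[X])) =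
        scalar m (X : R[X]) * scalar m (X : R[X]) := by
      rw [← map_mul]
      ext i j
      by_cases h : i = j <;> simp [h, sq]
    have h2 : ∀ M : Matrix m m R,
        (expand R 2).toRingHom.mapMatrix ((C : R →+* R[X]).mapMatrix M) =
          (C : R →+* R[X]).mapMatrix M := fun M => by
      ext i j; simp
    rw [charmatrix, map_sub, h1, h2, map_mul, sub_mul, mul_add, mul_add, hsc.eq]
    abel
  have hneg : N.charpoly.comp (-X) =
      (-1) ^ Fintype.card m * (scalar m (X : R[X]) + (C : R →+* R[X]).mapMatrix N).det := by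
    rw [← coe_compRingHom_apply, Matrix.charpoly, RingHom.map_det, ← Matrix.det_neg]
    congr 1
    rw [charmatrix, map_sub]
    have h1 : (compRingHom (-X : R[X])).mapMatrix (scalar m (X : R[X])) = -scalar m (X : R[X]) := by
      ext i j
      by_cases h : i = j <;> simp [h]
    have h2 : (compRingHom (-X : R[X])).mapMatrix ((C : R →+* R[X]).mapMatrix N) =
        (C : R →+* R[X]).mapMatrix N := by
      ext i j; simp
    rw [h1, h2]
    abel
  have hd : expand R 2 (N * N).charpoly =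
      ((expand R 2).toRingHom.mapMatrix (charmatrix (N * N))).det :=
    RingHom.map_det (expand R 2).toRingHom (charmatrix (N * N))
  rw [hd, hE, Matrix.det_mul, hneg, Matrix.charpoly, charmatrix]
  ring_nf
  rw [mul_comm (Fintype.card m) 2, pow_mul, neg_one_sq, one_pow, mul_one]

theorem comp_charpoly_smul (c : R) (M : Matrix m m R) :
    (c • M).charpoly.comp (C c * X) = C c ^ Fintype.card m * M.charpoly := by
  rw [← coe_compRingHom_apply, Matrix.charpoly, RingHom.map_det, Matrix.charpoly, ← Matrix.det_smul]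
  congr 1
  ext i j
  by_cases h : i = j
  · subst h; simp [mul_sub]
  · simp [h]

theorem coeff_charpoly_smul [IsDomain R] {c : R} (hc : c ≠ 0) (M : Matrix m m R) {i : ℕ}
    (hi : i ≤ Fintype.card m) :
    (c • M).charpoly.coeff i = c ^ (Fintype.card m - i) * M.charpoly.coeff i := by
  have h := congrArg (fun p : R[X] => p.coeff i) (comp_charpoly_smul c M)
  simp only [comp_C_mul_X_coeff, ← C_pow, coeff_C_mul] at h
  apply mul_right_cancel₀ (pow_ne_zero i hc)
  rw [h, mul_right_comm, ← pow_add, Nat.sub_add_cancel hi]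

/-- Divisibility by powers of `n` may be checked in the `ℓ`-adic integers for `ℓ ∣ n`. -/
theorem int_dvd_of_padic {n k : ℕ} {a : ℤ}
    (h : ∀ (ℓ : ℕ) [Fact ℓ.Prime], ℓ ∣ n → ((n : ℤ_[ℓ]) ^ k) ∣ (a : ℤ_[ℓ])) :
    ((n : ℤ) ^ k) ∣ a := by
  rw [← Nat.cast_pow, Int.natCast_dvd, Nat.dvd_iff_prime_pow_dvd_dvd]
  intro p e hp he
  rcases Nat.eq_zero_or_pos e with rfl | he0
  · simp
  haveI : Fact p.Prime := ⟨hp⟩
  have hpn : p ∣ n := hp.dvd_of_dvd_pow ((dvd_pow_self p he0.ne').trans he)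
  have h1 : ((p : ℤ_[p]) ^ e) ∣ (a : ℤ_[p]) := by
    refine (dvd_trans ?_ (h p hpn))
    have := Nat.cast_dvd_cast (α := ℤ_[p]) he
    simpa using this
  have h2 := (PadicInt.pow_p_dvd_int_iff e a).1 h1
  rwa [← Int.natCast_dvd, Nat.cast_pow]

theorem isIntegral_root (n : ℕ) (hn : 0 < n) (g : ℕ) (f : Polynomial ℤ) (hf : f.Monic)
    (hA : ∀ (ℓ : ℕ) [Fact ℓ.Prime], ℓ ∣ n → ∃ A : Matrix (Fin g) (Fin g) ℤ_[ℓ],
      A.charpoly = f.map (Int.castRingHom ℤ_[ℓ]) ∧
        ∃ B : Matrix (Fin g) (Fin g) ℤ_[ℓ], (A - 1) ^ 2 = (n : ℤ_[ℓ]) • B)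
    (K : Type v) [Field K] [CharZero K] (α s : K) (hα : Polynomial.aeval α f = 0)
    (hs : s ^ 2 = (n : K)) :
    IsIntegral ℤ ((α - 1) / s) := by
  refine IsIntegral.of_pow (n := 2) two_pos ?_
  rw [div_pow, hs]
  rcases Nat.eq_or_lt_of_le (Nat.succ_le_iff.2 hn) with h1 | h1
  · rw [← h1]
    have hint : IsIntegral ℤ α := ⟨f, hf, hα⟩
    simpa using (IsIntegral.sub hint isIntegral_one).pow 2
  obtain ⟨ℓ₀, hℓ₀, hℓ₀n⟩ := Nat.exists_prime_and_dvd h1.ne'
  -- the polynomial whose roots are the squares of the `α - 1`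
  let P : ℤ[X] := (-1) ^ g * (f.comp (X + 1) * (f.comp (X + 1)).comp (-X))
  have hP : ∀ (ℓ : ℕ) [Fact ℓ.Prime] (A : Matrix (Fin g) (Fin g) ℤ_[ℓ]),
      A.charpoly = f.map (Int.castRingHom ℤ_[ℓ]) →
      P.map (Int.castRingHom ℤ_[ℓ]) = expand ℤ_[ℓ] 2 ((A - 1) * (A - 1)).charpoly := by
    intro ℓ _ A hAf
    have hc : (A - 1).charpoly = (f.comp (X + 1)).map (Int.castRingHom ℤ_[ℓ]) := by
      have := charpoly_sub_scalar A (1 : ℤ_[ℓ])
      rw [map_one (Matrix.scalar (Fin g))] at this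
      rw [this, hAf, Polynomial.map_comp]
      simp
    rw [expand_charpoly_mul_self, hc, Fintype.card_fin]
    simp [P, Polynomial.map_comp]
  have hdiv : ∀ i ≤ g, ((n : ℤ) ^ (g - i)) ∣ P.coeff (i * 2) := by
    intro i hi
    refine int_dvd_of_padic fun ℓ _ hℓ => ?_
    obtain ⟨A, hAf, B, hB⟩ := hA ℓ hℓ
    have h1 : (P.coeff (i * 2) : ℤ_[ℓ]) = ((n : ℤ_[ℓ]) • B).charpoly.coeff i := by
      rw [← hB, sq, ← coeff_expand_mul two_pos ((A - 1) * (A - 1)).charpoly i, ← hP ℓ A hAf,
        coeff_map]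
      rfl
    rw [h1, coeff_charpoly_smul (Nat.cast_ne_zero.2 hn.ne') B (by simpa using hi), Fintype.card_fin]
    exact dvd_mul_right _ _
  haveI : Fact ℓ₀.Prime := ⟨hℓ₀⟩
  obtain ⟨A, hAf, -⟩ := hA ℓ₀ hℓ₀n
  have hinj : Function.Injective (Polynomial.map (Int.castRingHom ℤ_[ℓ₀])) :=
    Polynomial.map_injective _ Int.cast_injective
  have hχd : ((A - 1) * (A - 1)).charpoly.natDegree = g := by
    rw [charpoly_natDegree_eq_dim, Fintype.card_fin]
  have hχs : ∑ i ∈ Finset.range (g + 1), C (((A - 1) * (A - 1)).charpoly.coeff i) * X ^ i =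
      ((A - 1) * (A - 1)).charpoly := by
    conv_rhs => rw [Polynomial.as_sum_range' ((A - 1) * (A - 1)).charpoly (g + 1) (by omega)]
    exact Finset.sum_congr rfl fun i _ => (C_mul_X_pow_eq_monomial).trans rfl
  have hPmap := hP ℓ₀ A hAf
  have hodd : P = expand ℤ 2 (∑ i ∈ Finset.range (g + 1), C (P.coeff (i * 2)) * X ^ i) := by
    apply hinj
    rw [map_expand, hPmap]
    congr 1
    conv_lhs => rw [← hχs]
    rw [Polynomial.map_sum]
    refine Finset.sum_congr rfl fun i _ => ?_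
    rw [Polynomial.map_mul, map_C, Polynomial.map_pow, map_X]
    congr 2
    rw [← coeff_map, hPmap, coeff_expand_mul two_pos]
  have htop : P.coeff (g * 2) = 1 := by
    apply Int.cast_injective (α := ℤ_[ℓ₀])
    have : (P.map (Int.castRingHom ℤ_[ℓ₀])).coeff (g * 2) = 1 := by
      rw [hPmap, coeff_expand_mul two_pos]
      have hm := Matrix.charpoly_monic ((A - 1) * (A - 1))
      rwa [Monic, leadingCoeff, hχd] at hm
    rw [coeff_map] at this
    simpa using this
  choose d hd using hdiv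
  let Q : ℤ[X] := X ^ g + ∑ i : Fin g, C (d i i.2.le) * X ^ (i : ℕ)
  have hQ : Q.Monic := monic_X_pow_add (degree_sum_fin_lt _)
  refine ⟨Q, hQ, ?_⟩
  set y := (α - 1) ^ 2 / (n : K) with hy
  have hn' : (n : K) ≠ 0 := Nat.cast_ne_zero.2 hn.ne'
  have hPα : aeval (α - 1) P = 0 := by
    simp [P, aeval_comp, hα]
  rw [hodd, expand_aeval, map_sum, Finset.sum_range_succ, htop,
    show (α - 1) ^ 2 = (n : K) * y by rw [hy]; field_simp, Finset.sum_range] at hPα
  show aeval y Q = 0
  apply mul_left_cancel₀ (pow_ne_zero g hn')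
  rw [mul_zero, ← hPα]
  simp only [Q, map_add, map_sum, map_mul, aeval_C, map_pow, aeval_X, map_one, one_mul, mul_add,
    Finset.mul_sum]
  rw [add_comm, mul_pow]
  congr 1
  refine Finset.sum_congr rfl fun i _ => ?_
  rw [hd i i.2.le, map_mul, map_pow, map_natCast, mul_pow]
  rw [← pow_sub_mul_pow (n : K) i.2.le]
  ring

end Groth.Agent.H23.CharSqrt
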