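import Groth.Agent.H23.P1Closed
import Groth.Agent.CycLib.CurveDeg
import Groth.Agent.H23.RedSub
import Groth.Agent.ZClosLib.CohDescent

/-! The fibres of the closure of a point of the projective line as a principal divisor. -/

set_option autoImplicit false
set_option linter.style.haveILetI false

universe u

open AlgebraicGeometry CategoryTheory CategoryTheory.Limits IsLocalRing

namespace Groth.Agent.H23.P1Div

open Groth.Agent P1Sect

theorem length_function_field {W : Scheme.{u}} [IsIntegral W] :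
    Module.length (W.presheaf.stalk (genericPoint W)) (W.presheaf.stalk (genericPoint W)) = 1 := by
  letI : Field (W.presheaf.stalk (genericPoint W)) := inferInstanceAs (Field W.functionField)
  exact Module.length_eq_one_iff.2 inferInstance

/-- The coordinate at the generic point of a morphism given on a chart by a ring map. -/
theorem stalkMap_c {X T : Scheme.{u}} (g : T ⟶ CohB1.ProjSpaceOver 1 X) (i : Fin (1 + 1))
    (φ : HomogeneousLocalization.Away P1.grading.{u} (P1.T i) →+* Γ(T, ⊤))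
    (hg : g ≫ pr X = T.toSpecΓ ≫ Spec.map (CommRingCat.ofHom φ) ≫ jZ i) (t : T) :
    ∃ hm : g t ∈ V X i,
      (g.stalkMap t).hom ((CohB1.ProjSpaceOver 1 X).presheaf.germ _ (g t) hm (c X i)) =
        T.presheaf.germ ⊤ t trivial (φ (eZ i)) := by
  have key : ∀ (k : T ⟶ PZ.{u}), k = T.toSpecΓ ≫ Spec.map (CommRingCat.ofHom φ) ≫ jZ i →
      ∃ hm : k t ∈ jZ i ''ᵁ ⊤, (k.stalkMap t).hom (PZ.presheaf.germ _ (k t) hm (cZ i)) =
        T.presheaf.germ ⊤ t trivial (φ (eZ i)) := by
    rintro k rfl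
    refine ⟨⟨Spec.map (CommRingCat.ofHom φ) (T.toSpecΓ t), trivial, rfl⟩, ?_⟩
    rw [Scheme.Hom.stalkMap_comp]
    refine (congrArg (T.toSpecΓ.stalkMap t).hom (stalkMap_secOf_comp (jZ i) (eZ i) φ rfl (T.toSpecΓ t) _)).trans ?_
    refine (Scheme.Hom.germ_stalkMap_apply T.toSpecΓ ⊤ t trivial _).trans ?_
    refine congrArg (T.presheaf.germ ⊤ t trivial) ?_
    exact congrArg (fun m : CommRingCat.of Γ(T, ⊤) ⟶ Γ(T, ⊤) => m.hom (φ (eZ i)))
      (show (Scheme.ΓSpecIso Γ(T, ⊤)).inv ≫ T.toSpecΓ.appTop = 𝟙 _ by rw [Scheme.toSpecΓ_appTop, Iso.inv_hom_id])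
  obtain ⟨hm, e⟩ := key (g ≫ pr X) hg
  refine ⟨hm, ?_⟩
  rw [germ_c]
  rw [Scheme.Hom.stalkMap_comp] at e
  exact e

theorem chartMap_eZ (i : Fin (1 + 1)) (B : Type u) [CommRing B] (b : B) : P1.chartMap i B b (eZ.{u} i) = b := by
  rw [eZ, HomogeneousLocalization.Away.isLocalizationElem]
  simp only [P1.chartMap, RingHom.comp_apply, HomogeneousLocalization.algebraMap_apply,
    HomogeneousLocalization.Away.val_mk]
  rw [Localization.mk_eq_mk', IsLocalization.Away.lift, IsLocalization.lift_mk'_spec]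
  fin_cases i <;> simp

variable {X : Scheme.{u}} {δ : X → ℤ} {δP : ↥(CohB1.ProjSpaceOver 1 X) → ℤ}

/-- The fibres of the closure of a point with residue field that of its image. -/
theorem fibres_eq_divFun (hX : Cyc.IsSetup X δ) (hP : Cyc.DeltaCompat (CohB1.ProjSpaceOver.toBase 1 X) δP δ) {k : ℤ}
    {W : Scheme.{u}} [IsIntegral W] (ι : W ⟶ CohB1.ProjSpaceOver 1 X) [IsClosedImmersion ι]
    (hW : δP (ι (genericPoint W)) = k + 1) (h0 : ι (genericPoint W) ∈ V X 0) (h1 : ι (genericPoint W) ∈ V X 1)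
    (hδ : δ (CohB1.ProjSpaceOver.toBase 1 X (ι (genericPoint W))) = k + 1)
    (hdeg : (CohB1.ProjSpaceOver.toBase 1 X).residueDegree (ι (genericPoint W)) = 1)
    (a : X.residueField (CohB1.ProjSpaceOver.toBase 1 X (ι (genericPoint W))))
    (ha : (CohB1.ProjSpaceOver.toBase 1 X).residueFieldMap (ι (genericPoint W)) a =
      (CohB1.ProjSpaceOver 1 X).residue (ι (genericPoint W)) (P1Fam.coord 0 (ι (genericPoint W)))) (x : X) :
    Cyc.subschemeFun δ k (pullback.snd ι (P1.sect X 0)) x - Cyc.subschemeFun δ k (pullback.snd ι (P1.sect X 1)) x =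
      Cyc.divFun δ (CohB1.ProjSpaceOver.toBase 1 X (ι (genericPoint W))) a x := by
  classical
  let π := CohB1.ProjSpaceOver.toBase 1 X
  let p := ι (genericPoint W)
  have hPs : Cyc.IsSetup _ δP := SetupLFT.isSetup π hX hP
  haveI := hPs.1
  haveI := hX.1
  have hdP := hPs.2.2
  haveI := LocallyOfFiniteType.isLocallyNoetherian ι
  have hg : ∀ z : W, p ⤳ ι z := fun z => ((genericPoint_spec W).specializes trivial).map ι.continuous
  have hW' : δP p = k + 1 := hW
  have hp : p ∉ Set.range ⇑(P1.sect X 0) ∪ Set.range ⇑(P1.sect X 1) := by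
    rintro (⟨y, hy⟩ | ⟨y, hy⟩)
    · exact P1Fam.sect_ne 0 y (hy.symm ▸ h1)
    · exact P1Fam.sect_ne 1 y (hy.symm ▸ h0)
  have hsect : ∀ z : W, ι z ∈ Set.range ⇑(P1.sect X 0) ∪ Set.range ⇑(P1.sect X 1) → δP (ι z) ≤ k := fun z hz => by
    have := CycLib.delta_lt hdP (hg z) fun e => hp (e.symm ▸ hz)
    change δP (ι z) < δP p at this
    omega
  have hlf : ∀ (i : Fin (1 + 1)) (z : X), ∃ U ∈ nhds z,
      (U ∩ Function.support (Cyc.subschemeFun δ k (pullback.snd ι (P1.sect X i)))).Finite := fun i z => by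
    rw [SpClosed.subschemeFun_symm, SpClosed.subschemeFun_eq]
    refine P1Fam.locFin_sheafFun hX.2.2 (ZClosLib.isCoh_pullback (P1.sect X i) (SpClosed.isCoh_push ι)) (fun y hy => ?_) z
    · by_contra hn
      have hy' : P1.sect X i y ∈ Set.range ι := by
        by_contra hn'
        haveI := ClosedPushLen.subsingleton_stalk ι (Coh.structureModule W) hn'
        rw [SpGysin.nontrivial_iff_length (A := X.presheaf.stalk y),
          CapSheaf.length_stalk_pullback_closed _ _ y (ker_sect X i y)] at hy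
        exact hy Module.length_eq_zero
      obtain ⟨w, hw⟩ := hy'
      have hi01 : i = 0 ∨ i = 1 := by fin_cases i <;> simp
      have := hsect w (by rcases hi01 with rfl | rfl <;> [exact Or.inl ⟨y, hw.symm⟩; exact Or.inr ⟨y, hw.symm⟩])
      rw [hw, P1Fam.delta_sect hP] at this
      exact hn this
  let α : AlgebraicCycle X ℤ := ⟨_, Set.subset_univ _, fun z _ => hlf 0 z⟩
  let β : AlgebraicCycle X ℤ := ⟨_, Set.subset_univ _, fun z _ => hlf 1 z⟩
  obtain ⟨D, -, hD, hmap⟩ := P1Closed.map_cap hX hP ι (fun z => hW ▸ CycLib.delta_le hdP (hg z)) hsect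
    (fun z hz => Or.inl (by rw [P1Closed.eq_genericPoint_of_associated hz]; exact hp)) α β rfl rfl
  have hA : ∀ ξ, Cyc.sheafFun δP (k + 1) ((Coh.push ι).obj (Coh.structureModule W)) ξ = if ξ = p then 1 else 0 := by
    intro ξ
    rw [Cyc.sheafFun]
    beta_reduce
    by_cases hξ : ξ = p
    · subst hξ
      rw [if_pos hW, if_pos rfl, ClosedPushLen.length_stalk, ClosedPushLen.length_structureModule,
        length_function_field]
      rfl
    · rw [if_neg hξ]
      split_ifs with hk
      · haveI : Subsingleton (((Coh.push ι).obj (Coh.structureModule W)).presheaf.stalk ξ) := by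
          refine ClosedPushLen.subsingleton_stalk ι _ ?_
          rintro ⟨z, rfl⟩
          exact hξ (CycLib.eq_of_delta_le hdP (hg z) (by show δP p ≤ _; omega)).symm
        rw [Module.length_eq_zero]
        rfl
      · rfl
  have hDx : ∀ q, D q = Cyc.divFun δP p ((CohB1.ProjSpaceOver 1 X).residue p (P1Fam.coord 0 p)) q := fun q => by
    rw [hD, Cyc.c1CapFun, finsum_eq_single _ p (fun ξ hξ => by rw [hA, if_neg hξ, zero_mul]), hA, if_pos rfl, one_mul,
      P1Fam.csec, C1Desc.secDivFun_smul_one hdP (P1Fam.residue_coord_ne_zero 0 p)]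
  have hne : (CohB1.ProjSpaceOver 1 X).residue p (P1Fam.coord 0 p) ≠ 0 := P1Fam.residue_coord_ne_zero 0 p
  have h := congrArg (fun c : AlgebraicCycle X ℤ => c x) hmap
  rw [Function.locallyFinsuppWithin.coe_sub, Pi.sub_apply, CycLib.map_apply'] at h
  refine h.symm.trans ?_
  rw [finsum_mem_congr rfl fun q _ => by rw [hDx q],
    CycLib.map_divFun_of_eq π hdP hX.2.2 hP (hW.trans hδ.symm) hne x]
  obtain ⟨n, hn, hna⟩ := CycLib.normGen_residueFieldMap π p a
  have hn1 : n = 1 := hn.trans hdeg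
  rw [← ha, hna, hn1, pow_one]

end Groth.Agent.H23.P1Div
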