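import Groth.Agent.H23.HomotopyMain
import Groth.Agent.H23.FibreDegSum
import Groth.Agent.H23.P1Div
import Groth.Agent.CycLib.Finite
import Groth.Agent.CycLib.CurveDeg
import Groth.Agent.DimFormula.Fibre
import Groth.Agent.FibDim.AffineSpaceFibre

/-! The Chow groups of affine space over a field vanish below the top degree. -/

set_option autoImplicit false
set_option linter.style.haveILetI false

universe u

open AlgebraicGeometry CategoryTheory CategoryTheory.Limits TopologicalSpace

namespace Groth.Agent.H23.Homotopy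

open Groth.Agent FlatShift FiniteFibreSum RatOn

theorem exists_divFun_eq_single (R : CommRingCat.{u}) [IsDomain R] [IsPrincipalIdealRing R] {δ : Spec R → ℤ}
    (hd : Cyc.IsDimFun (Spec R) δ) (ξ : Spec R) (hξ : ξ.asIdeal ≠ ⊥) :
    ∃ (η : Spec R) (g : (Spec R).residueField η), g ≠ 0 ∧ δ η = δ ξ + 1 ∧
      ∀ x, Cyc.divFun δ η g x = single ξ x := by
  classical
  let η : Spec R := (⟨⊥, Ideal.isPrime_bot⟩ : PrimeSpectrum R)
  obtain ⟨p, hp⟩ : ∃ p, ξ.asIdeal = Ideal.span {p} := (IsPrincipalIdealRing.principal ξ.asIdeal).principal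
  have hp0 : p ≠ 0 := fun h => hξ (by rw [hp, h, Ideal.span_singleton_eq_bot.2 rfl])
  have hgen : ∀ x : Spec R, η ⤳ x := fun x => (PrimeSpectrum.le_iff_specializes η x).1 bot_le
  have hmax : ∀ x : Spec R, x ≠ η → x.asIdeal.IsMaximal := fun x hx =>
    IsPrime.to_maximal_ideal (fun h => hx (PrimeSpectrum.ext h))
  have hne : ∀ x : Spec R, x ≠ η → δ x + 1 = δ η := fun x hx => by
    refine ((hd η x (hgen x) (Ne.symm hx)).2 fun z _ hzx => ?_).symm
    by_cases hz : z = η
    · exact Or.inl hz
    · exact Or.inr (PrimeSpectrum.ext ((hmax z hz).eq_of_le x.isPrime.ne_top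
        ((PrimeSpectrum.le_iff_specializes z x).2 hzx)))
  let alg : ∀ x : Spec R, Algebra R ((Spec R).presheaf.stalk x) := fun x => StructureSheaf.stalkAlgebra R x
  have loc : ∀ x : Spec R, letI := alg x; IsLocalization.AtPrime ((Spec R).presheaf.stalk x) x.asIdeal :=
    fun x => StructureSheaf.IsLocalization.to_stalk R x
  letI := alg η
  haveI := loc η
  let g : (Spec R).residueField η := (Spec R).residue η (algebraMap R ((Spec R).presheaf.stalk η) p)
  have hg : g ≠ 0 := fun h => hp0 ((IsLocalization.AtPrime.to_map_mem_maximal_iff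
    ((Spec R).presheaf.stalk η) η.asIdeal p).1 ((IsLocalRing.residue_eq_zero_iff _).1 h))
  have hξη : ξ ≠ η := fun h => hξ (by rw [h])
  refine ⟨η, g, hg, (hne ξ hξη).symm, fun x => ?_⟩
  by_cases hx : x = η
  · rw [hx, CycLib.divFun_eq_zero_of_delta δ g (by omega), single, if_neg (Ne.symm hξη)]
  letI := alg x
  haveI := loc x
  let a := algebraMap R ((Spec R).presheaf.stalk x) p
  have hsm : Cyc.specMap x η (hgen x) a = g :=
    congrArg ((Spec R).residue η) (congrArg (fun φ : R ⟶ (Spec R).presheaf.stalk η => φ.hom p)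
      (StructureSheaf.toStalk_stalkSpecializes (R := R) (hgen x)))
  rw [CycLib.divFun_eq δ g (hgen x) (hne x hx)]
  by_cases hxξ : x = ξ
  · subst hxξ
    rw [single, if_pos rfl, ← hsm, ← CycLib.algebraMap_locQuot_mk (hgen x)]
    have hane : Ideal.Quotient.mk (RingHom.ker (Cyc.specMap x η (hgen x))) a ≠ 0 := fun h => hg (by
      rw [← hsm]
      exact RingHom.mem_ker.1 (Ideal.Quotient.eq_zero_iff_mem.1 h))
    rw [CycLib.ordAt_algebraMap hd (hgen x) (hne x hx) hane]
    have hmm : (Ideal.span {Ideal.Quotient.mk (RingHom.ker (Cyc.specMap x η (hgen x))) a}).IsMaximal := by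
      have h1 : IsLocalRing.maximalIdeal ((Spec R).presheaf.stalk x) = Ideal.span {a} := by
        rw [← IsLocalization.AtPrime.map_eq_maximalIdeal x.asIdeal, hp, Ideal.map_span, Set.image_singleton]
      have h2 : Ideal.map (Ideal.Quotient.mk (RingHom.ker (Cyc.specMap x η (hgen x)))) (Ideal.span {a}) =
          IsLocalRing.maximalIdeal _ := by
        rw [← h1]
        exact IsLocalRing.map_maximalIdeal_of_surjective _ Ideal.Quotient.mk_surjective
      rw [Ideal.map_span, Set.image_singleton] at h2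
      rw [h2]
      exact IsLocalRing.maximalIdeal.isMaximal _
    have : Ring.ord (Cyc.LocQuot x η (hgen x)) (Ideal.Quotient.mk (RingHom.ker (Cyc.specMap x η (hgen x))) a) = 1 := by
      rw [Ring.ord, Module.length_eq_one_iff,
        isSimpleModule_iff_isSimpleModule_of_algebraMap_surjective
          (S := Cyc.LocQuot x η (hgen x) ⧸ Ideal.span {Ideal.Quotient.mk _ a}) Ideal.Quotient.mk_surjective]
      letI := Ideal.Quotient.field (Ideal.span {Ideal.Quotient.mk (RingHom.ker (Cyc.specMap x η (hgen x))) a})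
      exact instIsSimpleModule _
    rw [this]
    rfl
  · rw [single, if_neg hxξ, ← hsm]
    refine CycLib.ordAt_eq_zero_of_isUnit hd (hgen x) (hne x hx) (IsLocalization.map_units _ (M := x.asIdeal.primeCompl)
      (⟨p, fun h => hxξ (PrimeSpectrum.ext ?_)⟩ : x.asIdeal.primeCompl))
    refine (((hmax ξ hξη)).eq_of_le x.isPrime.ne_top ?_).symm
    rw [hp]
    exact (Ideal.span_singleton_le_iff_mem _).2 h

theorem rd_iso_comp {W A B : Scheme.{u}} (e : W ≅ A) (c : A ⟶ B) [LocallyOfFiniteType c] (w : W) :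
    FibDim.rd (e.hom ≫ c) w = FibDim.rd c (e.hom w) := by
  rw [CycLib.rd_comp, CycLib.rd_eq_zero_of_finite e.hom w
    (RingHom.Finite.of_surjective _ (CycLib.residueFieldMap_bijective e.hom w).2), add_zero]

theorem fibMax_iso_comp {W A B : Scheme.{u}} (e : W ≅ A) (c : A ⟶ B) (w : W) :
    FibDim.FibMax (e.hom ≫ c) w ↔ FibDim.FibMax c (e.hom w) := by
  constructor
  · intro h z hz he
    obtain ⟨z, rfl⟩ := e.hom.homeomorph.surjective z
    exact congrArg e.hom (h z (e.hom.isEmbedding.isInducing.specializes_iff.1 hz) he)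
  · exact fun h z hz he => e.hom.isEmbedding.injective (h _ (hz.map e.hom.continuous) he)

/-- Cycles of dimension less than `r` are rationally equivalent to zero. -/
def Vanish {W : Scheme.{u}} {K : Type u} [Field K] (c : W ⟶ Spec (CommRingCat.of K)) (r : ℕ) : Prop :=
  ∀ a : W, FibDim.rd c a < r →
    ZeroOn (fun w => (FibDim.rd c w : ℤ)) (FibDim.rd c a : ℤ) Set.univ (single a)

/-- The fibre over `y` is an affine space. -/
def AffFib {X Y : Scheme.{u}} (f : X ⟶ Y) (n : Type u) (y : Y) : Prop :=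
  ∃ j : 𝔸(n; Spec (Y.residueField y)) ⟶ X,
    IsPullback j (𝔸(n; Spec (Y.residueField y)) ↘ Spec (Y.residueField y)) f (Y.fromSpecResidueField y)

instance isIntegral_affineSpace_field (n : Type u) (K : Type u) [Field K] :
    IsIntegral 𝔸(n; Spec (CommRingCat.of K)) := by
  haveI : Nonempty 𝔸(n; Spec (CommRingCat.of K)) :=
    (AffineSpace.SpecIso n (CommRingCat.of K)).hom.homeomorph.toEquiv.nonempty
  exact isIntegral_of_isOpenImmersion (AffineSpace.SpecIso n (CommRingCat.of K)).hom

theorem fibreData_of_affFib' {X Y : Scheme.{u}} (f : X ⟶ Y) [LocallyOfFiniteType f] [IsLocallyNoetherian X]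
    {δX : X → ℤ} {δY δ₁ : Y → ℤ} (hdX : Cyc.IsDimFun X δX) (hδ : Cyc.DeltaCompat f δX δY) (r : Y → ℕ) (c : ℤ)
    (hc : HasShift f δX δ₁ c) (hr : ∀ y, δ₁ y + c = δY y + r y) (k : ℤ) (n : Y → Type u) [∀ y, Finite (n y)]
    (H : ∀ y, AffFib f (n y) y)
    (hV : ∀ y, Vanish (K := Y.residueField y) (𝔸(n y; Spec (Y.residueField y)) ↘ Spec (Y.residueField y)) (r y)) :
    FibreData f δX c k := by
  classical
  constructor
  · intro y
    obtain ⟨j, hj⟩ := H y
    let e : 𝔸(n y; Spec (Y.residueField y)) ≅ f.fiber y := hj.isoPullback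
    haveI : IsIntegral 𝔸(n y; Spec (Y.residueField y)) := isIntegral_affineSpace_field (n y) (Y.residueField y)
    haveI : Nonempty ↥(f.fiber y) := e.inv.homeomorph.toEquiv.nonempty
    haveI : IsIntegral (f.fiber y) := isIntegral_of_isOpenImmersion e.inv
    refine ⟨f.fiberι y (genericPoint ↥(f.fiber y)), FibDim.fiber_apply_fiberι f _, fun x hx => ?_, ?_⟩
    · obtain ⟨b, rfl⟩ : x ∈ Set.range (f.fiberι y) := by rw [Scheme.Hom.range_fiberι]; exact hx
      exact ((genericPoint_spec ↥(f.fiber y)).specializes (Set.mem_univ b)).map (f.fiberι y).continuous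
    · rw [fibreLen_fiberι, P1Div.length_function_field]
  · intro ξ hξ hm
    obtain ⟨j, hj⟩ := H (f ξ)
    let e : 𝔸(n (f ξ); Spec (Y.residueField (f ξ))) ≅ f.fiber (f ξ) := hj.isoPullback
    let cA := 𝔸(n (f ξ); Spec (Y.residueField (f ξ))) ↘ Spec (Y.residueField (f ξ))
    have ej : e.hom ≫ f.fiberι (f ξ) = j := hj.isoPullback_hom_fst
    have ec : e.hom ≫ f.fiberToSpecResidueField (f ξ) = cA := hj.isoPullback_hom_snd
    haveI : IsPreimmersion j := ej ▸ inferInstance
    haveI : LocallyOfFiniteType (f.fiberToSpecResidueField (f ξ)) :=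
      MorphismProperty.pullback_snd (P := @LocallyOfFiniteType) f (Y.fromSpecResidueField (f ξ)) inferInstance
    haveI : IsLocallyNoetherian 𝔸(n (f ξ); Spec (Y.residueField (f ξ))) := LocallyOfFiniteType.isLocallyNoetherian cA
    have hjf : ∀ a, f (j a) = f ξ := fun a => by rw [← ej]; exact FibDim.fiber_apply_fiberι f _
    have hrd : ∀ a, (FibDim.rd cA a : ℤ) = δX (j a) + -δY (f ξ) := fun a => by
      have h1 := CycLib.deltaCompat_eq f hδ (j a)
      have h2 : FibDim.rd (Y := Spec (Y.residueField (f ξ))) cA a = FibDim.rd f (j a) := by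
        rw [← ec, rd_iso_comp, ← ej]
        exact DimFormula.rd_fiberToSpec f (f ξ) (e.hom a)
      rw [hjf] at h1
      omega
    obtain ⟨a, ha⟩ : ∃ a, j a = ξ := by
      obtain ⟨b, hb⟩ : ξ ∈ Set.range (f.fiberι (f ξ)) := by rw [Scheme.Hom.range_fiberι]; rfl
      obtain ⟨a, rfl⟩ := e.hom.homeomorph.surjective b
      exact ⟨a, by rw [← ej]; exact hb⟩
    have hlt : FibDim.rd cA a < r (f ξ) := by
      have h1 := hc.le hdX ξ
      have h3 := hr (f ξ)
      have h2 := hrd a
      rw [ha] at h2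
      by_contra h
      exact hm (hc.fibMax_of_ge hdX (by omega))
    obtain ⟨ι, w, g, hw, hg, -, hloc, hsum⟩ := hV (f ξ) a hlt
    haveI : Finite ι := by
      choose U hUo hxU hUf using hloc
      obtain ⟨t, ht⟩ := CompactSpace.elim_nhds_subcover U fun x => (hUo x).mem_nhds (hxU x)
      refine Set.finite_univ_iff.1 ((t.finite_toSet.biUnion fun x _ => hUf x).subset fun l _ => ?_)
      obtain ⟨x, hx, hxl⟩ := Set.mem_iUnion₂.1 (ht.ge (Set.mem_univ (w l)))
      exact Set.mem_biUnion hx ⟨w l, subset_closure rfl, hxl⟩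
    choose g' hg' using fun l => (CycLib.residueFieldMap_bijective j (w l)).2 (g l)
    refine ⟨ι, inferInstance, fun l => j (w l), g', fun l => ⟨fun h => hg l (by rw [← hg' l, h, map_zero]), hjf _, ?_⟩,
      fun x hx => ?_⟩
    · have h1 : δX (j (w l)) + -δY (f ξ) = δX (j a) + -δY (f ξ) + 1 :=
        (hrd (w l)).symm.trans ((hw l).trans (congrArg (fun x : ℤ => x + 1) (hrd a)))
      rw [ha] at h1
      show δX (j (w l)) = _
      omega
    · obtain ⟨b, rfl⟩ : ∃ b, j b = x := by
        obtain ⟨b, hb⟩ : x ∈ Set.range (f.fiberι (f ξ)) := by rw [Scheme.Hom.range_fiberι]; exact hx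
        obtain ⟨a, rfl⟩ := e.hom.homeomorph.surjective b
        exact ⟨a, by rw [← ej]; exact hb⟩
      rw [show single ξ (j b) = single a b by
        simp only [single, ← ha, j.isEmbedding.injective.eq_iff], hsum b]
      exact finsum_congr fun l => by rw [← hg' l, CycLib.divFun_preimmersion j _ hrd]

theorem fibreData_of_affFib {X Y : Scheme.{u}} (f : X ⟶ Y) [LocallyOfFiniteType f] [IsLocallyNoetherian X]
    {δX : X → ℤ} {δY : Y → ℤ} (hdX : Cyc.IsDimFun X δX) (hδ : Cyc.DeltaCompat f δX δY) (r : ℕ)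
    (hc : HasShift f δX δY r) (k : ℤ) (n : Type u) [Finite n] (H : ∀ y, AffFib f n y)
    (hV : ∀ y, Vanish (K := Y.residueField y) (𝔸(n; Spec (Y.residueField y)) ↘ Spec (Y.residueField y)) r) :
    FibreData f δX (r : ℤ) k   :=
  fibreData_of_affFib' f hdX hδ (fun _ => r) r hc (fun _ => rfl) k (fun _ => n) H hV

theorem hasShift_of_affFib {X Y : Scheme.{u}} (f : X ⟶ Y) [LocallyOfFiniteType f]
    {δX : X → ℤ} {δY : Y → ℤ} (hδ : Cyc.DeltaCompat f δX δY) (r : ℕ)
    (e : X ≅ 𝔸(ULift.{u} (Fin r); Y)) (he : e.hom ≫ (𝔸(ULift.{u} (Fin r); Y) ↘ Y) = f) :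
    HasShift f δX δY r := fun x hx => by
  subst he
  rw [CycLib.deltaCompat_eq _ hδ x, rd_iso_comp,
    FibDim.rd_affineSpace_fibMax r ((fibMax_iso_comp e _ x).1 ((fibMax_iff _ x).2 hx))]

theorem affFib_of_iso {X Y : Scheme.{u}} (f : X ⟶ Y) (n : Type u) (e : X ≅ 𝔸(n; Y))
    (he : e.hom ≫ (𝔸(n; Y) ↘ Y) = f) (y : Y) : AffFib f n y :=
  ⟨AffineSpace.map n (Y.fromSpecResidueField y) ≫ e.inv,
    (AffineSpace.isPullback_map (n := n) (Y.fromSpecResidueField y)).of_iso (Iso.refl _) e.symm (Iso.refl _) (Iso.refl _)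
      (by simp) (by simp) (by simp [← he]) (by simp)⟩

instance flat_over (n : Type u) (S : Scheme.{u}) : Flat (𝔸(n; S) ↘ S) :=
  MorphismProperty.pullback_fst _ _ <| by
    have := isIso_of_isTerminal specULiftZIsTerminal terminalIsTerminal (terminal.from _)
    rw [← terminal.comp_from (Spec.map (CommRingCat.ofHom MvPolynomial.C)),
      MorphismProperty.cancel_right_of_respectsIso (P := @Flat), HasRingHomProperty.Spec_iff (P := @Flat)]
    exact RingHom.flat_algebraMap_iff.2 (inferInstance : Module.Flat (ULift.{u} ℤ) (MvPolynomial n (ULift.{u} ℤ)))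

section Succ

variable (r : ℕ) (S : Scheme.{u})

/-- Forgetting the last coordinate. -/
noncomputable def proj : 𝔸(ULift.{u} (Fin (r + 1)); S) ⟶ 𝔸(ULift.{u} (Fin r); S) :=
  AffineSpace.reindex (fun i : ULift.{u} (Fin r) => (⟨i.down.castSucc⟩ : ULift.{u} (Fin (r + 1)))) S

/-- `𝔸^{r+1} = 𝔸^1` over `𝔸^r`. -/
noncomputable def succIso : 𝔸(ULift.{u} (Fin (r + 1)); S) ≅ 𝔸(ULift.{u} (Fin 1); 𝔸(ULift.{u} (Fin r); S)) where
  hom := AffineSpace.homOfVector (proj r S) fun _ => AffineSpace.coord S ⟨Fin.last r⟩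
  inv := AffineSpace.homOfVector
    ((𝔸(ULift.{u} (Fin 1); 𝔸(ULift.{u} (Fin r); S)) ↘ 𝔸(ULift.{u} (Fin r); S)) ≫ (𝔸(ULift.{u} (Fin r); S) ↘ S))
    fun i => Fin.lastCases (AffineSpace.coord (𝔸(ULift.{u} (Fin r); S)) ⟨0⟩)
      (fun l => (𝔸(ULift.{u} (Fin 1); 𝔸(ULift.{u} (Fin r); S)) ↘ 𝔸(ULift.{u} (Fin r); S)).appTop
        (AffineSpace.coord S ⟨l⟩)) i.down
  hom_inv_id := by
    apply AffineSpace.hom_ext
    · rw [Category.assoc, AffineSpace.homOfVector_over, ← Category.assoc, AffineSpace.homOfVector_over,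
        Category.id_comp]
      exact AffineSpace.reindex_over _ _
    · rintro ⟨i⟩
      simp only [Category.id_comp, Scheme.Hom.comp_appTop, CommRingCat.comp_apply, Scheme.Hom.id_appTop,
        AffineSpace.homOfVector_appTop_coord]
      induction i using Fin.lastCases with
      | last => simp
      | cast l =>
        simp only [Fin.lastCases_castSucc]
        rw [← CommRingCat.comp_apply, ← Scheme.Hom.comp_appTop, AffineSpace.homOfVector_over]
        exact AffineSpace.reindex_appTop_coord _ _ _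
  inv_hom_id := by
    apply AffineSpace.hom_ext
    · apply AffineSpace.hom_ext
      · simp [proj]
      · rintro ⟨l⟩
        simp only [Category.assoc, Category.id_comp, AffineSpace.homOfVector_over]
        simp [proj]
    · rintro ⟨i⟩
      obtain rfl := Subsingleton.elim i 0
      simp

theorem succIso_over : (succIso r S).hom ≫
    (𝔸(ULift.{u} (Fin 1); 𝔸(ULift.{u} (Fin r); S)) ↘ 𝔸(ULift.{u} (Fin r); S)) = proj r S :=
  AffineSpace.homOfVector_over _ _

end Succ

theorem vanish_one (K : Type u) [Field K] :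
    Vanish (K := K) (𝔸(ULift.{u} (Fin 1); Spec (CommRingCat.of K)) ↘ Spec (CommRingCat.of K)) 1 := by
  classical
  intro a ha
  let n := ULift.{u} (Fin 1)
  let c := 𝔸(n; Spec (CommRingCat.of K)) ↘ Spec (CommRingCat.of K)
  let R : CommRingCat.{u} := CommRingCat.of (MvPolynomial n K)
  let e : 𝔸(n; Spec (CommRingCat.of K)) ≅ Spec R := AffineSpace.SpecIso n (CommRingCat.of K)
  haveI : IsPrincipalIdealRing R :=
    IsPrincipalIdealRing.of_surjective (MvPolynomial.uniqueAlgEquiv K n).symm.toRingEquiv.toRingHom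
      (MvPolynomial.uniqueAlgEquiv K n).symm.surjective
  haveI : IsLocallyNoetherian 𝔸(n; Spec (CommRingCat.of K)) := LocallyOfFiniteType.isLocallyNoetherian c
  haveI : IsLocallyNoetherian (Spec R) := LocallyOfFiniteType.isLocallyNoetherian (e.inv ≫ c)
  have hdA := CycLib.isDimFun_of_deltaCompat c (CycLib.isSetup_spec_field K) (CycLib.deltaCompat_rd c)
  let δR : Spec R → ℤ := fun x => (FibDim.rd c (e.inv x) : ℤ)
  have hdR : Cyc.IsDimFun (Spec R) δR := CycLib.isDimFun_closedImmersion e.inv hdA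
  have ha0 : (e.hom a).asIdeal ≠ ⊥ := fun h => by
    have hgen : FibDim.FibMax c a := fun z hz _ => by
      refine e.hom.isEmbedding.injective (PrimeSpectrum.ext ?_)
      have := (PrimeSpectrum.le_iff_specializes _ _).2 (hz.map e.hom.continuous)
      have h' : (e.hom z).asIdeal ≤ (e.hom a).asIdeal := this
      rw [h] at h' ⊢
      exact le_bot_iff.1 h'
    exact absurd (FibDim.rd_affineSpace_fibMax 1 hgen) ha.ne
  obtain ⟨η, g, hg, hη, hdiv⟩ := exists_divFun_eq_single R hdR (e.hom a) ha0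
  have hie : ∀ x, e.inv (e.hom x) = x := fun x => by
    rw [← Scheme.Hom.comp_apply, e.hom_inv_id]; rfl
  have hei : ∀ x, e.hom (e.inv x) = x := fun x => by
    rw [← Scheme.Hom.comp_apply, e.inv_hom_id]; rfl
  have key : ∀ x, δR (e.hom x) = (FibDim.rd c x : ℤ) := fun x => by
    show (FibDim.rd c (e.inv (e.hom x)) : ℤ) = _
    rw [hie]
  obtain ⟨g', hg'⟩ := (CycLib.residueFieldMap_bijective e.inv η).2 g
  refine ⟨PUnit, fun _ => e.inv η, fun _ => g', fun _ => ?_, fun _ (h : g' = 0) => hg (by rw [← hg', h, map_zero]),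
    fun _ => trivial, fun x => ⟨Set.univ, isOpen_univ, trivial, Set.toFinite _⟩, fun x => ?_⟩
  · exact hη.trans (by rw [key])
  · obtain ⟨x, rfl⟩ := e.inv.homeomorph.surjective x
    rw [finsum_unique]
    refine Eq.trans ?_ (CycLib.divFun_preimmersion e.inv (δX := fun w => (FibDim.rd c w : ℤ)) (δW := δR) 0
      (fun z => (add_zero _).symm) η g' x)
    rw [hg', hdiv]
    have : e.inv x = a ↔ x = e.hom a :=
      ⟨fun h => (hei x).symm.trans (congrArg e.hom h), fun h => (congrArg e.inv h).trans (hie a)⟩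
    unfold single
    show (if e.inv x = a then (1 : ℤ) else 0) = _
    split_ifs with h1 h2 h2 <;> tauto

theorem vanish (r : ℕ) (K : Type u) [Field K] :
    Vanish (K := K) (𝔸(ULift.{u} (Fin r); Spec (CommRingCat.of K)) ↘ Spec (CommRingCat.of K)) r := by
  induction r with
  | zero => exact fun a h => absurd h (Nat.not_lt_zero _)
  | succ r IH =>
    intro a ha
    let cW := 𝔸(ULift.{u} (Fin (r + 1)); Spec (CommRingCat.of K)) ↘ Spec (CommRingCat.of K)
    let cB := 𝔸(ULift.{u} (Fin r); Spec (CommRingCat.of K)) ↘ Spec (CommRingCat.of K)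
    let p := proj r (Spec (CommRingCat.of K))
    haveI : IsLocallyNoetherian 𝔸(ULift.{u} (Fin (r + 1)); Spec (CommRingCat.of K)) :=
      LocallyOfFiniteType.isLocallyNoetherian cW
    haveI : IsLocallyNoetherian 𝔸(ULift.{u} (Fin r); Spec (CommRingCat.of K)) :=
      LocallyOfFiniteType.isLocallyNoetherian cB
    have hp : (succIso r (Spec (CommRingCat.of K))).hom ≫ _ = p := succIso_over r _
    haveI : LocallyOfFiniteType p := hp ▸ inferInstance
    haveI : QuasiCompact p := hp ▸ inferInstance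
    haveI : Flat p := hp ▸ (inferInstanceAs (Flat (_ ≫ _)))
    let δB := fun x => (FibDim.rd cB x : ℤ)
    let δW := fun x => (FibDim.rd cW x : ℤ)
    have hS := CycLib.isSetup_spec_field K
    have hdB := CycLib.isDimFun_of_deltaCompat cB hS (CycLib.deltaCompat_rd cB)
    have hdW := CycLib.isDimFun_of_deltaCompat cW hS (CycLib.deltaCompat_rd cW)
    have hδ : Cyc.DeltaCompat p δW δB := CycLib.deltaCompat_of_comp p cB (CycLib.deltaCompat_rd cB) cW
      (AffineSpace.reindex_over _ _).symm
    have hc : HasShift p δW δB ((1 : ℕ) : ℤ) := hasShift_of_affFib p hδ 1 (succIso r _) hp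
    let k : ℤ := δW a - 1
    obtain ⟨A, hA₁, hA₂, hA₃⟩ := isPull_single hdW hdB hc
      (fibreData_of_affFib p hdW hδ 1 hc k (ULift.{u} (Fin 1)) (affFib_of_iso p _ (succIso r _) hp)
        fun y => vanish_one _) _ a (by simp [k]; rfl) rfl
    let α : AlgebraicCycle 𝔸(ULift.{u} (Fin r); Spec (CommRingCat.of K)) ℤ :=
      { toFun := A
        supportWithinDomain' := fun _ _ => trivial
        supportLocallyFiniteWithinDomain' := fun y _ => by
          obtain ⟨U, hUo, hy, hUf⟩ := hA₂ y
          exact ⟨U, hUo.mem_nhds hy, hUf.subset fun z hz => ⟨hz.2, hz.1⟩⟩ }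
    have hfin : (Function.support ⇑α).Finite := by
      have := α.locallyFiniteSupport.finite_inter_support_of_isCompact isCompact_univ
      rwa [Set.univ_inter] at this
    have hz : ∀ b, ZeroOn δB k Set.univ fun x => A b * single b x := fun b => by
      by_cases hb : A b = 0
      · exact congr (zero _) fun x => by rw [hb, zero_mul]
      · have h1 : δB b = k := (hA₁ b hb).2
        have h2 := IH b (by
          have h3 : δW a ≤ (r : ℤ) := Int.ofNat_le.2 (Nat.lt_succ_iff.1 ha)
          have h4 : δB b < (r : ℤ) := by simp only [k] at h1; omega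
          exact Int.ofNat_lt.1 h4)
        refine congr (RatOn.add hdB (h1 ▸ h2 : ZeroOn δB k Set.univ (single b)) (zero _) (A b) 0) fun x => by ring
    have hα0 : Cyc.RatEquivZero δB k α := by
      refine ratEquivZero (T := Set.univ) (congr (RatOn.sum hdB (I := ↥(Function.support ⇑α)) (fun _ => 1)
        (fun b x => A b.1 * single b.1 x) (fun _ => Set.univ) (fun _ => le_rfl) (fun b => hz b.1)
        fun x => ⟨Set.univ, isOpen_univ, trivial, ?_⟩) fun x => ?_)
      · haveI := hfin.to_subtype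
        exact Set.toFinite _
      · simp only [one_mul]
        by_cases hx : A x = 0
        · rw [finsum_eq_zero_of_forall_eq_zero fun b => ?_]
          · exact hx
          · rw [single, if_neg fun e => b.2 (show A b.1 = 0 by rw [← e, hx]), mul_zero]
        · rw [finsum_eq_single _ (⟨x, hx⟩ : ↥(Function.support ⇑α)) fun b hb => ?_]
          · rw [single, if_pos rfl, mul_one]; rfl
          · rw [single, if_neg fun e => hb (Subtype.ext e.symm), mul_zero]
    have hpull := DivPull.ratEquivZero_pull p hc hdB hdW hα0 (FlatClass.pullCycle hc hdW α) rfl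
    rw [show k + ((1 : ℕ) : ℤ) = δW a by simp [k]] at hpull hA₃
    refine congr (RatOn.add hdW (mono hA₃ (Set.subset_univ _)) (of_ratEquivZero hpull) 1 1) fun x => ?_
    show single a x = 1 * (single a x - Cyc.pullFun p δW δB _ A x) + 1 * Cyc.pullFun p δW δB _ A x
    ring

end Groth.Agent.H23.Homotopy
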