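import Groth.Agent.H23.GysinComm

/-! Gysin maps commute with each other. -/

set_option autoImplicit false
set_option linter.style.haveILetI false

universe u

open AlgebraicGeometry CategoryTheory CategoryTheory.Limits TopologicalSpace Opposite

namespace Groth.Agent.H23.GysinLib

open Groth.Agent RatSec C1Pull

theorem isZeroSchemeOf_iso {X P P' : Scheme.{u}} (e : P' ≅ P) {j : P ⟶ X} {L : X.Modules}
    {s : L.presheaf.obj (Opposite.op ⊤)} (h : Cyc.IsZeroSchemeOf j L s) : Cyc.IsZeroSchemeOf (e.hom ≫ j) L s := by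
  refine ⟨?_, fun d => ?_⟩
  · rw [← h.1]
    ext x
    constructor
    · rintro ⟨d, rfl⟩; exact ⟨e.hom d, rfl⟩
    · rintro ⟨d, rfl⟩
      obtain ⟨d', rfl⟩ := e.hom.homeomorph.surjective d
      exact ⟨d', rfl⟩
  · obtain ⟨t, f, h1, h2, h3⟩ := h.2 (e.hom d)
    refine ⟨t, f, h1, h2, ?_⟩
    refine Eq.trans ?_ h3
    ext a
    change (Scheme.Hom.stalkMap (e.hom ≫ j) d).hom a = 0 ↔ (j.stalkMap (e.hom d)).hom a = 0
    rw [Scheme.Hom.stalkMap_comp]
    show (e.hom.stalkMap d).hom ((j.stalkMap (e.hom d)).hom a) = 0 ↔ _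
    exact map_eq_zero_iff _ (ConcreteCategory.bijective_of_isIso (e.hom.stalkMap d)).1

variable {X D D' : Scheme.{u}} [IsLocallyNoetherian X] {δ : X → ℤ} {L L' : X.Modules} {i : D ⟶ X}
  [IsClosedImmersion i] {i' : D' ⟶ X} [IsClosedImmersion i']

/-- One order of composition. -/
theorem exists_gysin_gysin {s : L.presheaf.obj (Opposite.op ⊤)} {s' : L'.presheaf.obj (Opposite.op ⊤)}
    (hd : Cyc.IsDimFun X δ) (hL : PicF.IsInvertible L) (hL' : PicF.IsInvertible L')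
    (hD : Cyc.IsZeroSchemeOf i L s) (hD' : Cyc.IsZeroSchemeOf i' L' s')
    {σ' : ((Scheme.Modules.pullback i).obj L').presheaf.obj (Opposite.op ⊤)}
    (hσ' : Cyc.IsZeroSchemeOf (pullback.fst i i') ((Scheme.Modules.pullback i).obj L') σ')
    {P : Scheme.{u}} (e : P ≅ pullback i i') (q : P ⟶ D) [IsClosedImmersion q] (hq : q = e.hom ≫ pullback.fst i i')
    {k : ℤ} (α : AlgebraicCycle X ℤ) (hα : α ∈ Cyc.Zk X δ (k + 2))
    {w : (ξ : X) → Cyc.secFibre L ξ} (hw : ∀ ξ, w ξ ≠ 0) {w' : (ξ : X) → Cyc.secFibre L' ξ} (hw' : ∀ ξ, w' ξ ≠ 0)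
    {w₁ : (d : D) → Cyc.secFibre ((Scheme.Modules.pullback i).obj L') d} (hw₁ : ∀ d, w₁ d ≠ 0) {γ : D → ℤ}
    (hγ : γ = fun d => Cyc.c1CapFun δ L ⇑α (Cyc.gysinChoice L s w) (i d)) {ζ : AlgebraicCycle P ℤ}
    (hζ : ∀ z, ζ z = Cyc.c1CapFun (fun d => δ (i d)) ((Scheme.Modules.pullback i).obj L') γ
      (Cyc.gysinChoice ((Scheme.Modules.pullback i).obj L') σ' w₁) (q z)) :
    ∃ B : AlgebraicCycle P ℤ, Cyc.RatEquiv (fun z => δ (i (q z))) k ζ B ∧
      ∀ z, B z = Cyc.c1CapFun δ L' (Cyc.c1CapFun δ L ⇑α (Cyc.gysinChoice L s w)) (Cyc.gysinChoice L' s' w') (i (q z)) := by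
  haveI : IsLocallyNoetherian D := LocallyOfFiniteType.isLocallyNoetherian i
  have hdD := CycLib.isDimFun_closedImmersion i hd
  have hLD := PicClLib.isInvertible_pullback i hL'
  have hγ' : γ = ⇑(gysinCycle hL hd i s α hw) := hγ
  subst hγ'
  have hgc' := gysinChoice_ne_zero (L := L') s' hw'
  let v := vPull i L' (Cyc.gysinChoice L' s' w')
  have hv := vPull_ne_zero (p := i) hL' hgc'
  let B := CycLib.restrictCycle q q.isClosedEmbedding.injective
    (c1CapCycle hLD hdD (gysinCycle hL hd i s α hw) v hv)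
  refine ⟨B, ?_, fun z => ?_⟩
  · have hrange : Set.range q = Set.range (pullback.fst i i') := by
      subst hq
      exact Function.Surjective.range_comp e.hom.homeomorph.surjective (pullback.fst i i')
    refine ratEquiv_restrict q hLD hdD (gysinCycle hL hd i s α hw)
      (fun d hd' => c1CapFun_degree (x := i d) ⇑α (fun ξ h => hα ξ h) _ (k := k + 2) (by intro h; exact hd' (show δ (i d) = k + 1 by omega)))
      (gysinChoice_ne_zero σ' hw₁) hv (fun ξ hξ => ?_) hζ (fun z => rfl)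
    exact (secDivFun_gysinChoice i i' hL' hdD hD' hσ' w' w₁ (hrange ▸ hξ)).symm
  · show Cyc.c1CapFun (fun d => δ (i d)) _ ⇑(gysinCycle hL hd i s α hw) v (q z) = _
    rw [← map_gysinCycle hL hd hD α hw,
      ← congrFun (C1Push.map_c1Cap (p := i) hL' hdD hd (deltaCompat_closedImmersion i δ) (gysinCycle hL hd i s α hw)
        hgc') (i (q z)), CycLib.map_preimmersion_apply]
    rfl

theorem gysin_gysin {s : L.presheaf.obj (Opposite.op ⊤)} {s' : L'.presheaf.obj (Opposite.op ⊤)}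
    (hd : Cyc.IsDimFun X δ) (hL : PicF.IsInvertible L) (hL' : PicF.IsInvertible L')
    (hD : Cyc.IsZeroSchemeOf i L s) (hD' : Cyc.IsZeroSchemeOf i' L' s')
    {σ' : ((Scheme.Modules.pullback i).obj L').presheaf.obj (Opposite.op ⊤)}
    (hσ' : Cyc.IsZeroSchemeOf (pullback.fst i i') ((Scheme.Modules.pullback i).obj L') σ')
    {σ : ((Scheme.Modules.pullback i').obj L).presheaf.obj (Opposite.op ⊤)}
    (hσ : Cyc.IsZeroSchemeOf (pullback.snd i i') ((Scheme.Modules.pullback i').obj L) σ)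
    {k : ℤ} (α : AlgebraicCycle X ℤ) (hα : α ∈ Cyc.Zk X δ (k + 2))
    {w : (ξ : X) → Cyc.secFibre L ξ} (hw : ∀ ξ, w ξ ≠ 0) {w' : (ξ : X) → Cyc.secFibre L' ξ} (hw' : ∀ ξ, w' ξ ≠ 0)
    {w₁ : (d : D) → Cyc.secFibre ((Scheme.Modules.pullback i).obj L') d} (hw₁ : ∀ d, w₁ d ≠ 0)
    {w₂ : (d : D') → Cyc.secFibre ((Scheme.Modules.pullback i').obj L) d} (hw₂ : ∀ d, w₂ d ≠ 0)
    {γ : D → ℤ} (hγ : γ = fun d => Cyc.c1CapFun δ L ⇑α (Cyc.gysinChoice L s w) (i d))
    {γ' : D' → ℤ} (hγ' : γ' = fun d => Cyc.c1CapFun δ L' ⇑α (Cyc.gysinChoice L' s' w') (i' d))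
    {ζ₁ ζ₂ : AlgebraicCycle (pullback i i' : Scheme.{u}) ℤ}
    (h₁ : ∀ z, ζ₁ z = Cyc.c1CapFun (fun d => δ (i d)) ((Scheme.Modules.pullback i).obj L') γ
      (Cyc.gysinChoice ((Scheme.Modules.pullback i).obj L') σ' w₁) (pullback.fst i i' z))
    (h₂ : ∀ z, ζ₂ z = Cyc.c1CapFun (fun d => δ (i' d)) ((Scheme.Modules.pullback i').obj L) γ'
      (Cyc.gysinChoice ((Scheme.Modules.pullback i').obj L) σ w₂) (pullback.snd i i' z)) :
    Cyc.RatEquiv (fun z => δ (i (pullback.fst i i' z))) k ζ₁ ζ₂ := by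
  obtain ⟨B₁, hB₁, hB₁v⟩ := exists_gysin_gysin (δ := δ) hd hL hL' hD hD' hσ' (Iso.refl _) (pullback.fst i i')
    (Category.id_comp _).symm α hα hw hw' hw₁ hγ h₁
  have hσf : Cyc.IsZeroSchemeOf (pullback.fst i' i) ((Scheme.Modules.pullback i').obj L) σ := by
    have h := isZeroSchemeOf_iso (pullbackSymmetry i' i) hσ
    rwa [pullbackSymmetry_hom_comp_snd] at h
  obtain ⟨B₂, hB₂, hB₂v⟩ := exists_gysin_gysin (δ := δ) hd hL' hL hD' hD hσf (pullbackSymmetry i i')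
    (pullback.snd i i') (pullbackSymmetry_hom_comp_fst i i').symm α hα hw' hw hw₂ hγ' h₂
  let q := pullback.fst i i' ≫ i
  haveI : IsLocallyNoetherian (pullback i i' : Scheme.{u}) := LocallyOfFiniteType.isLocallyNoetherian q
  have hdP : Cyc.IsDimFun (pullback i i' : Scheme.{u}) (fun z => δ (i (pullback.fst i i' z))) :=
    CycLib.isDimFun_closedImmersion q hd
  have hpt : ∀ z : (pullback i i' : Scheme.{u}), i' (pullback.snd i i' z) = i (pullback.fst i i' z) := fun z => by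
    rw [← Scheme.Hom.comp_apply, ← Scheme.Hom.comp_apply, pullback.condition]
  simp only [hpt] at hB₂
  have hgc := gysinChoice_ne_zero (L := L) s hw
  have hgc' := gysinChoice_ne_zero (L := L') s' hw'
  have h12 : Cyc.RatEquiv (fun z => δ (i (pullback.fst i i' z))) k B₁ B₂ := by
    refine RatOn.restrict' hd q (T := Set.range i ∩ Set.range i') ?_
      (C1Glue.zeroOn_comm hL' hL hd (k := k) (fun ξ h => hα ξ h) (locFin α) hgc' hgc' hgc hgc
        fun ξ ζ _ h1 _ h3 => ?_) fun z => ?_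
    · rintro _ ⟨⟨d, rfl⟩, hd'⟩
      obtain ⟨z, rfl⟩ : d ∈ Set.range (pullback.fst i i') := by rw [range_fst_eq]; exact hd'
      exact ⟨z, rfl⟩
    · rcases not_and_or.1 h3 with h | h
      · exact Or.inl (C1Glue.coherent_gysinChoice hL hD w w h1 h)
      · exact Or.inr (C1Glue.coherent_gysinChoice hL' hD' w' w' h1 h)
    · rw [hB₁v, hB₂v, hpt]
      rfl
  exact RatOn.trans hdP hB₁ (RatOn.trans hdP h12 (RatOn.symm hdP hB₂))

end Groth.Agent.H23.GysinLib
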