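import Groth.Agent.H23.FlatClass
import Groth.Agent.H23.GysinSq
import Groth.Agent.H23.GysinGysin
import Groth.Agent.H23.C1Desc
import Groth.Agent.H23.SecIso

/-! The bivariant class of a Gysin map. -/

set_option autoImplicit false
set_option linter.style.haveILetI false

universe u

open AlgebraicGeometry CategoryTheory CategoryTheory.Limits

namespace Groth.Agent.H23.GysinClass

open Groth.Agent ChowDesc RatSec FlatClass

variable {D X : Scheme.{u}} {δ : X → ℤ} {L : X.Modules} {i : D ⟶ X} [IsClosedImmersion i]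
  {s : L.presheaf.obj (Opposite.op ⊤)}

theorem gysinCycle_mem [IsLocallyNoetherian X] (hL : PicF.IsInvertible L) (hd : Cyc.IsDimFun X δ) {δD : D → ℤ}
    (hδ : δD = fun d => δ (i d)) {k : ℤ} {α : AlgebraicCycle X ℤ} (hα : α ∈ Cyc.Zk X δ k)
    {w : (ξ : X) → Cyc.secFibre L ξ} (hw : ∀ ξ, w ξ ≠ 0) :
    GysinLib.gysinCycle hL hd i s α hw ∈ Cyc.Zk D δD (k - 1) := fun d hd' => by
  show Cyc.c1CapFun δ L ⇑α (Cyc.gysinChoice L s w) (i d) = 0
  refine GysinLib.c1CapFun_degree ⇑α (fun ξ hξ => hα ξ hξ) _ ?_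
  simp only [hδ] at hd'
  exact hd'

/-- The Gysin map on cycles. -/
noncomputable def gysinHom [IsLocallyNoetherian X] (hL : PicF.IsInvertible L) (hd : Cyc.IsDimFun X δ) (i : D ⟶ X)
    [IsClosedImmersion i] (s : L.presheaf.obj (Opposite.op ⊤)) {δD : D → ℤ} (hδ : δD = fun d => δ (i d)) (k : ℤ)
    {w : (ξ : X) → Cyc.secFibre L ξ} (hw : ∀ ξ, w ξ ≠ 0) : ↥(ChowOps.zk X δ k) →+ ChowOps.CH D δD (k - 1) :=
  AddMonoidHom.mk' (fun a => ChowOps.cl (GysinLib.gysinCycle hL hd i s (a : AlgebraicCycle X ℤ) hw)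
      (gysinCycle_mem hL hd hδ a.2 hw)) fun a b => by
    rw [← Bivar.cl_add _ _ (gysinCycle_mem hL hd hδ a.2 hw) (gysinCycle_mem hL hd hδ b.2 hw)]
    refine Bivar.cl_congr ?_ _ _
    ext d
    show Cyc.c1CapFun δ L ⇑(((a + b : ↥(ChowOps.zk X δ k))) : AlgebraicCycle X ℤ) (Cyc.gysinChoice L s w) (i d) =
      Cyc.c1CapFun δ L ⇑(a : AlgebraicCycle X ℤ) (Cyc.gysinChoice L s w) (i d) +
      Cyc.c1CapFun δ L ⇑(b : AlgebraicCycle X ℤ) (Cyc.gysinChoice L s w) (i d)
    rw [AddSubgroup.coe_add, Function.locallyFinsuppWithin.coe_add, Bivar.c1CapFun_add]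
    rfl

theorem gysinHom_eq_zero [IsLocallyNoetherian X] (hL : PicF.IsInvertible L) (hd : Cyc.IsDimFun X δ)
    (hD : Cyc.IsZeroSchemeOf i L s) {δD : D → ℤ} (hδ : δD = fun d => δ (i d)) {k : ℤ}
    {w : (ξ : X) → Cyc.secFibre L ξ} (hw : ∀ ξ, w ξ ≠ 0) (a : ↥(ChowOps.zk X δ k))
    (ha : Cyc.RatEquivZero δ k (a : AlgebraicCycle X ℤ)) : gysinHom hL hd i s hδ k hw a = 0 := by
  refine (cl_eq_of_ratEquiv (β := 0) (gysinCycle_mem hL hd hδ a.2 hw) ((ChowOps.zk D δD (k - 1)).zero_mem) ?_).trans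
    Bivar.cl_zero
  show Cyc.RatEquivZero δD (k - 1) (_ - 0)
  rw [sub_zero, hδ]
  refine RatOn.restrict hd i (T := Set.range i) le_rfl (G := Cyc.c1CapFun δ L ⇑(a : AlgebraicCycle X ℤ)
    (Cyc.gysinChoice L s w)) (C1Desc.zeroOn_c1Cap hL hd ?_ (GysinLib.gysinChoice_ne_zero s hw)
      fun ξ ζ _ h1 _ h3 => C1Glue.coherent_gysinChoice hL hD w w h1 h3) fun d => rfl
  rw [sub_add_cancel]
  exact RatOn.of_ratEquivZero ha

variable {δX : X → ℤ} {δD : D → ℤ}

theorem closedImmersion_f' (t : Bivar.Sq i δD δX) : IsClosedImmersion t.f' :=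
  MorphismProperty.of_isPullback t.isPullback.flip ‹_›

theorem delta_f' (hδ : Cyc.DeltaCompat i δD δX) (t : Bivar.Sq i δD δX) : t.δX' = fun d => t.δY' (t.f' d) :=
  haveI := closedImmersion_f' t
  deltaCompat_unique t.f' (deltaCompat_f' hδ t) (GysinLib.deltaCompat_closedImmersion t.f' t.δY')

variable (hX : Cyc.IsSetup X δX) (hL : PicF.IsInvertible L) (hD : Cyc.IsZeroSchemeOf i L s)
  (hδ : Cyc.DeltaCompat i δD δX)

/-- The Gysin operation on a square. -/
noncomputable def op (t : Bivar.Sq i δD δX) (k : ℤ) :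
    ChowOps.CH t.Y' t.δY' k →+ ChowOps.CH t.X' t.δX' (k - 1) :=
  haveI := closedImmersion_f' t
  haveI := (isSetup_Y' hX t).1
  have hLt := PicClLib.isInvertible_pullback t.g hL
  lift (gysinHom hLt (isSetup_Y' hX t).2.2 t.f' (KFlatLib.pb t.g (U := ⊤) s) (delta_f' hδ t) k
      (exists_sections hLt).choose_spec)
    fun a ha => gysinHom_eq_zero hLt (isSetup_Y' hX t).2.2 (GysinSq.isZeroSchemeOf_pb t.isPullback hL hD)
      (delta_f' hδ t) (exists_sections hLt).choose_spec a ha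

/-- The operation computed with any equation. -/
theorem op_cl (t : Bivar.Sq i δD δX) {k : ℤ} {α : AlgebraicCycle t.Y' ℤ} (hα : α ∈ Cyc.Zk t.Y' t.δY' k)
    {N : t.Y'.Modules} (hN : PicF.IsInvertible N) (e : (Scheme.Modules.pullback t.g).obj L ≅ N)
    {τ : N.presheaf.obj (Opposite.op ⊤)} (hτ : Cyc.IsZeroSchemeOf t.f' N τ)
    {w : (ξ : t.Y') → Cyc.secFibre N ξ} (hw : ∀ ξ, w ξ ≠ 0) {γ : AlgebraicCycle t.X' ℤ}
    (hγ : ∀ d, γ d = Cyc.c1CapFun t.δY' N ⇑α (Cyc.gysinChoice N τ w) (t.f' d))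
    (hγ' : γ ∈ Cyc.Zk t.X' t.δX' (k - 1)) : op hX hL hD hδ t k (ChowOps.cl α hα) = ChowOps.cl γ hγ' := by
  haveI := closedImmersion_f' t
  haveI := (isSetup_Y' hX t).1
  have hd := (isSetup_Y' hX t).2.2
  have hLt := PicClLib.isInvertible_pullback t.g hL
  have hD₀ := GysinSq.isZeroSchemeOf_pb t.isPullback hL hD
  have hv := (exists_sections hLt).choose_spec
  refine cl_eq_of_ratEquiv (gysinCycle_mem hLt hd (delta_f' hδ t) hα hv) hγ' ?_
  have hτ' := isZeroSchemeOf_mapIso e.symm hτ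
  have hw' := mapSec_ne_zero e.symm hw
  have hgw := GysinLib.gysinChoice_ne_zero (L := N) τ hw
  have key := GysinLib.ratEquiv_restrict t.f' hLt hd (k := k - 1) α (fun x hx => hα x (by omega))
    (GysinLib.gysinChoice_ne_zero _ hv) (GysinLib.gysinChoice_ne_zero _ hw')
    (fun ξ hξ => GysinSq.secDivFun_gysinChoice_indep t.isPullback hd hL hD hD₀ hτ' _ _ hξ)
    (γ := GysinLib.gysinCycle hLt hd t.f' _ α hv) (fun _ => rfl) (γ' := γ)
    (fun d => by
      rw [hγ d, ← c1CapFun_mapSec e.symm hN hLt hd ⇑α hgw]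
      exact congrFun (congrArg (Cyc.c1CapFun t.δY' _ ⇑α) (funext fun ξ => mapSec_gysinChoice e.symm τ w ξ)) _)
  generalize GysinLib.gysinCycle hLt hd t.f' _ α hv = C at key ⊢
  rw [delta_f' hδ t]
  exact key

/-- The comparison of pulled back modules along a morphism of squares. -/
noncomputable def sqIso {t₁ t₂ : Bivar.Sq i δD δX} (h : t₂.Y' ⟶ t₁.Y') (w : h ≫ t₁.g = t₂.g) (M : X.Modules) :
    (Scheme.Modules.pullback t₂.g).obj M ≅
      (Scheme.Modules.pullback h).obj ((Scheme.Modules.pullback t₁.g).obj M) :=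
  ChowDesc.pbIso (s := ⟨t₁.Y', t₁.g, t₁.lft, t₁.δY', t₁.compatY⟩) (t := ⟨t₂.Y', t₂.g, t₂.lft, t₂.δY', t₂.compatY⟩)
    h w M

/-- The Gysin class. -/
noncomputable def gysin (hDs : Cyc.IsSetup D δD) : Bivar.Cl 1 i δD δX where
  op t k := op hX hL hD hδ t k
  push s' t h _ h' _ w₁ w₂ w₃ k := by
    intro α hα
    haveI := closedImmersion_f' s'
    haveI := closedImmersion_f' t
    have hs := isSetup_Y' hX s'
    have ht := isSetup_Y' hX t
    haveI := hs.1
    haveI := ht.1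
    have hLs := PicClLib.isInvertible_pullback s'.g hL
    have hLh := PicClLib.isInvertible_pullback h hLs
    have hDs' := GysinSq.isZeroSchemeOf_pb s'.isPullback hL hD
    have sq := isPullback_hom h h' w₁ w₂ w₃
    have hτ := GysinSq.isZeroSchemeOf_pb sq hLs hDs'
    obtain ⟨v, hv⟩ := exists_sections hLs
    obtain ⟨v', hv'⟩ := exists_sections hLh
    have hd1 := delta_f' hδ s'
    have hd2 := delta_f' hδ t
    let β := GysinLib.gysinCycle hLh ht.2.2 t.f' (KFlatLib.pb h (U := ⊤) (KFlatLib.pb s'.g (U := ⊤) s)) α hv'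
    refine ⟨β, gysinCycle_mem hLh ht.2.2 hd2 hα hv',
      op_cl hX hL hD hδ t hα hLh (sqIso h w₁ L) hτ hv' (fun _ => rfl) _, ?_⟩
    rw [op_cl hX hL hD hδ s' (Bivar.cycMap_mem_Zk h t.δY' s'.δY' k hα) hLs (Iso.refl _) hDs' hv
      (γ := GysinLib.gysinCycle hLs hs.2.2 s'.f' _ (AlgebraicCycle.map h t.δY' s'.δY' α) hv) (fun _ => rfl)
      (gysinCycle_mem hLs hs.2.2 hd1 (Bivar.cycMap_mem_Zk h t.δY' s'.δY' k hα) hv)]
    refine cl_eq_of_ratEquiv _ _ ?_
    have key := GysinSq.ratEquiv_gysin_push (j := t.f') (q := h') (f := h) (i := s'.f') sq hs ht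
      (deltaCompat_homY h w₁) hLs hDs' hτ (k := k - 1) α (fun x hx => hα x (by omega)) hv hv'
      (γ := GysinLib.gysinCycle hLs hs.2.2 s'.f' _ (AlgebraicCycle.map h t.δY' s'.δY' α) hv) (fun _ => rfl)
      (γ' := β) (fun _ => rfl)
    generalize GysinLib.gysinCycle hLs hs.2.2 s'.f' _ (AlgebraicCycle.map h t.δY' s'.δY' α) hv = C at key ⊢
    rw [hd1, hd2]
    exact key
  pull s' t h _ h' _ r hr hr' w₁ w₂ w₃ k := by
    intro α hα
    haveI := closedImmersion_f' s'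
    haveI := closedImmersion_f' t
    have hs := isSetup_Y' hX s'
    have ht := isSetup_Y' hX t
    have ht' := isSetup_X' hDs t
    haveI := hs.1
    haveI := ht.1
    haveI := ht'.1
    haveI := (isSetup_X' hDs s').1
    haveI := s'.lft
    haveI := lft_g' s'
    haveI : LocallyOfFiniteType (h ≫ s'.g) := w₁ ▸ t.lft
    haveI : LocallyOfFiniteType h := locallyOfFiniteType_of_comp h s'.g
    haveI : LocallyOfFiniteType (h' ≫ s'.g') := w₃ ▸ lft_g' t
    haveI : LocallyOfFiniteType h' := locallyOfFiniteType_of_comp h' s'.g'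
    have hLs := PicClLib.isInvertible_pullback s'.g hL
    have hLh := PicClLib.isInvertible_pullback h hLs
    have hDs' := GysinSq.isZeroSchemeOf_pb s'.isPullback hL hD
    have sq := isPullback_hom h h' w₁ w₂ w₃
    have hτ := GysinSq.isZeroSchemeOf_pb sq hLs hDs'
    obtain ⟨v, hv⟩ := exists_sections hLs
    obtain ⟨v', hv'⟩ := exists_sections hLh
    have hd1 := delta_f' hδ s'
    have hd2 := delta_f' hδ t
    have hh := FlatShift.hasShift_of_hasRelDim h hr (deltaCompat_homY h w₁)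
    have hh' := FlatShift.hasShift_of_hasRelDim h' hr' (deltaCompat_homX h' w₃)
    let β := GysinLib.gysinCycle hLs hs.2.2 s'.f' (KFlatLib.pb s'.g (U := ⊤) s) α hv
    have hβ := gysinCycle_mem hLs hs.2.2 hd1 hα hv (s := KFlatLib.pb s'.g (U := ⊤) s)
    refine ⟨β, hβ, op_cl hX hL hD hδ s' hα hLs (Iso.refl _) hDs' hv (fun _ => rfl) _, fun α₁ hα₁e hα₁ => ?_⟩
    have hl : k + (r : ℤ) - 1 = k - 1 + r := by ring
    refine ⟨pullCycle hh' ht'.2.2 β, pullCycle_mem hh' ht'.2.2 hβ hl, rfl, ?_⟩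
    rw [op_cl hX hL hD hδ t hα₁ hLh (sqIso h w₁ L) hτ hv'
      (γ := GysinLib.gysinCycle hLh ht.2.2 t.f' _ α₁ hv') (fun _ => rfl) (gysinCycle_mem hLh ht.2.2 hd2 hα₁ hv')]
    refine cl_eq_of_ratEquiv _ _ ?_
    have key := GysinSq.ratEquiv_gysin_pull (j := t.f') (q := h') (f := h) (i := s'.f') sq hh hs.2.2 ht.2.2 hLs hDs'
      hτ (k := k - 1) α (fun x hx => hα x (by omega)) hv hv'
      (ζ₁ := GysinLib.gysinCycle hLh ht.2.2 t.f' _ α₁ hv') (ζ₂ := pullCycle hh' ht'.2.2 β)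
      (fun z => by rw [← hα₁e]; rfl)
      (by
        show Cyc.pullFun h' t.δX' s'.δX' r ⇑β = _
        rw [hd2, hd1]
        rfl)
    rw [hl]
    generalize GysinLib.gysinCycle hLh ht.2.2 t.f' _ α₁ hv' = C at key ⊢
    generalize pullCycle hh' ht'.2.2 β = C' at key ⊢
    rw [hd2]
    exact key
  gysin s' t i' _ j _ w₁ w₂ w₃ M hM σ hσ τ hτ k := by
    intro α hα
    haveI := closedImmersion_f' s'
    haveI := closedImmersion_f' t
    have hs := isSetup_Y' hX s'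
    have ht := isSetup_Y' hX t
    haveI := hs.1
    haveI := ht.1
    have hs' := isSetup_X' hDs s'
    haveI := hs'.1
    have hLs := PicClLib.isInvertible_pullback s'.g hL
    have hLi := PicClLib.isInvertible_pullback i' hLs
    have hMf := PicClLib.isInvertible_pullback s'.f' hM
    have hDs' := GysinSq.isZeroSchemeOf_pb s'.isPullback hL hD
    have sq := isPullback_hom i' j w₁ w₂ w₃
    have hτ' := GysinSq.isZeroSchemeOf_pb sq hLs hDs'
    obtain ⟨v, hv⟩ := exists_sections hLs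
    obtain ⟨v', hv'⟩ := exists_sections hLi
    have hd1 := delta_f' hδ s'
    have hd2 := delta_f' hδ t
    have hdi := delta_closedImmersionY i' w₁
    have hdj := delta_closedImmersionX j w₃
    let β := GysinLib.gysinCycle hLs hs.2.2 s'.f' (KFlatLib.pb s'.g (U := ⊤) s) α hv
    have hβ := gysinCycle_mem hLs hs.2.2 hd1 hα hv (s := KFlatLib.pb s'.g (U := ⊤) s)
    refine ⟨β, hβ, op_cl hX hL hD hδ s' hα hLs (Iso.refl _) hDs' hv (fun _ => rfl) _, fun w hw γ hγe hγ w' hw' => ?_⟩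
    let ζ := GysinLib.gysinCycle hMf hs'.2.2 j τ β hw'
    have hζ : ζ ∈ Cyc.Zk t.X' t.δX' (k - 1 - 1) := gysinCycle_mem hMf hs'.2.2 hdj hβ hw'
    refine ⟨ζ, hζ, fun _ => rfl, ?_⟩
    let ζ' := GysinLib.gysinCycle hLi ht.2.2 t.f' (KFlatLib.pb i' (U := ⊤) (KFlatLib.pb s'.g (U := ⊤) s)) γ hv'
    rw [op_cl hX hL hD hδ t hγ hLi (sqIso i' w₁ L) hτ' hv' (γ := ζ') (fun _ => rfl)
      (gysinCycle_mem hLi ht.2.2 hd2 hγ hv')]
    refine cl_eq_of_ratEquiv _ _ ?_
    let a := sq.isoPullback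
    have ha1 : a.inv ≫ t.f' = pullback.fst i' s'.f' := sq.isoPullback_inv_fst
    have ha2 : a.inv ≫ j = pullback.snd i' s'.f' := sq.isoPullback_inv_snd
    have hσ' : Cyc.IsZeroSchemeOf (pullback.fst i' s'.f')
        ((Scheme.Modules.pullback i').obj ((Scheme.Modules.pullback s'.g).obj L))
        (KFlatLib.pb i' (U := ⊤) (KFlatLib.pb s'.g (U := ⊤) s)) := ha1 ▸ GysinSq.isZeroSchemeOf_iso_comp _ _ hτ'
    have hσ₂ : Cyc.IsZeroSchemeOf (pullback.snd i' s'.f') ((Scheme.Modules.pullback s'.f').obj M) τ :=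
      ha2 ▸ GysinSq.isZeroSchemeOf_iso_comp _ _ hτ
    have hP : ∀ z, t.f' (a.inv z) = pullback.fst i' s'.f' z := fun z => by rw [← ha1]; rfl
    have hP' : ∀ z, j (a.inv z) = pullback.snd i' s'.f' z := fun z => by rw [← ha2]; rfl
    let ζ₁ := CycLib.restrictCycle a.inv a.inv.isClosedEmbedding.injective ζ'
    let ζ₂ := CycLib.restrictCycle a.inv a.inv.isClosedEmbedding.injective ζ
    have key := GysinLib.gysin_gysin (i := i') (i' := s'.f') hs.2.2 hM hLs hσ hDs' hσ' hσ₂ (k := k - 2) α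
      (fun x hx => hα x (by omega)) hw hv hv' hw' (γ := ⇑γ) (funext hγe) (γ' := ⇑β) (funext fun _ => rfl)
      (ζ₁ := ζ₁) (ζ₂ := ζ₂)
      (fun z => by
        show Cyc.c1CapFun t.δY' _ ⇑γ _ (t.f' (a.inv z)) = _
        rw [hP, hdi])
      (fun z => by
        show Cyc.c1CapFun s'.δX' _ ⇑β _ (j (a.inv z)) = _
        rw [hP', hd1])
    haveI : IsLocallyNoetherian t.X' := (isSetup_X' hDs t).1
    haveI : IsLocallyNoetherian (pullback i' s'.f' : Scheme.{u}) := LocallyOfFiniteType.isLocallyNoetherian a.inv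
    have hdP := CycLib.isDimFun_closedImmersion (pullback.fst i' s'.f') (hdi ▸ ht.2.2)
    have key' := RatOn.restrict (δ := fun z => s'.δY' (i' (pullback.fst i' s'.f' z))) hdP a.hom
      (T := Set.univ) (fun x _ => a.hom.surjective x) (RatOn.of_ratEquivZero key) (γ := ζ' - ζ)
      fun d => by
        have e : a.inv (a.hom d) = d := by
          show (a.hom ≫ a.inv) d = d
          rw [a.hom_inv_id]
          rfl
        show ζ' d - ζ d = ζ' (a.inv (a.hom d)) - ζ (a.inv (a.hom d))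
        rw [e]
    show Cyc.RatEquivZero t.δX' (k - 1 - 1) (ζ' - ζ)
    rw [show k - 1 - 1 = k - 2 by ring]
    generalize ζ' - ζ = C at key' ⊢
    refine cast (congrArg (fun δ' => Cyc.RatEquivZero δ' (k - 2) C) (funext fun d => ?_)) key'
    show s'.δY' (i' (pullback.fst i' s'.f' (a.hom d))) = t.δX' d
    rw [hd2, hdi, ← hP]
    show s'.δY' (i' (t.f' ((a.hom ≫ a.inv) d))) = _
    rw [a.hom_inv_id]
    rfl

theorem isGysinClass (hDs : Cyc.IsSetup D δD) : Bivar.IsGysinClass i L s (gysin hX hL hD hδ hDs) :=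
  ⟨hL, hD, hδ, fun t τ hτ k α hα w hw γ hγ hγ' =>
    op_cl hX hL hD hδ t hα (PicClLib.isInvertible_pullback t.g hL) (Iso.refl _) hτ hw hγ hγ'⟩

end Groth.Agent.H23.GysinClass
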