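import Groth.Agent.H23.RatOn
import Groth.Agent.H23.ChowDesc

/-! Equal Chow classes are rationally equivalent cycles. -/

set_option autoImplicit false

universe u

open AlgebraicGeometry CategoryTheory

namespace Groth.Agent.H23.ClEq

open Groth.Agent

variable {X : Scheme.{u}} {δ : X → ℤ} {k : ℤ}

theorem zeroOn_pair [IsLocallyNoetherian X] (hd : Cyc.IsDimFun X δ) {G H : X → ℤ}
    (hG : RatOn.ZeroOn δ k Set.univ G) (hH : RatOn.ZeroOn δ k Set.univ H) (a b : ℤ) :
    RatOn.ZeroOn δ k Set.univ fun x => a * G x + b * H x := by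
  refine RatOn.congr (RatOn.sum hd (I := ULift.{u} Bool) (fun i => bif i.down then a else b)
    (fun i => bif i.down then G else H) (fun _ => Set.univ) (fun _ => subset_rfl)
    (fun i => by rcases i with ⟨_ | _⟩ <;> assumption)
    fun x => ⟨Set.univ, isOpen_univ, trivial, Set.toFinite _⟩) fun x => ?_
  rw [finsum_eq_sum_of_fintype, ← Equiv.sum_comp Equiv.ulift.symm, Fintype.sum_bool]
  rfl

theorem ratEquivZero_of_mem [IsLocallyNoetherian X] (hd : Cyc.IsDimFun X δ) {a : ↥(ChowOps.zk X δ k)}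
    (h : a ∈ ChowOps.ratTriv X δ k) : Cyc.RatEquivZero δ k (a : AlgebraicCycle X ℤ) := by
  refine RatOn.ratEquivZero (T := Set.univ) ?_
  induction h using AddSubgroup.closure_induction with
  | mem x hx => exact RatOn.of_ratEquivZero hx
  | zero => exact RatOn.congr (RatOn.zero _) fun _ => rfl
  | add x y _ _ hx hy =>
    exact RatOn.congr (zeroOn_pair hd hx hy 1 1) fun z => by
      show (x : AlgebraicCycle X ℤ) z + (y : AlgebraicCycle X ℤ) z = _
      ring
  | neg x _ hx =>
    exact RatOn.congr (zeroOn_pair hd hx hx (-1) 0) fun z => by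
      show -((x : AlgebraicCycle X ℤ) z) = _
      ring

/-- Equal classes: rationally equivalent. -/
theorem ratEquiv_of_cl_eq [IsLocallyNoetherian X] (hd : Cyc.IsDimFun X δ) {α β : AlgebraicCycle X ℤ}
    {hα : α ∈ Cyc.Zk X δ k} {hβ : β ∈ Cyc.Zk X δ k} (h : ChowOps.cl α hα = ChowOps.cl β hβ) :
    Cyc.RatEquiv δ k α β := by
  have h0 : ChowOps.clHom X δ k ((⟨α, hα⟩ : ↥(ChowOps.zk X δ k)) - ⟨β, hβ⟩) = 0 :=
    (map_sub _ _ _).trans (sub_eq_zero.2 h)
  exact ratEquivZero_of_mem hd ((QuotientAddGroup.eq_zero_iff _).1 h0)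

end Groth.Agent.H23.ClEq
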