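import Groth.Agent.H23.C1Class
import Groth.Agent.H23.GysinClass
import Groth.Agent.H23.SecIso
import Groth.Agent.H23.Chern.Gysin
import Groth.Agent.H23.ClEq

/-! The self-intersection formula `o^* o_* α = c₁(o^* M) ∩ α` of the zero scheme of a section. -/

set_option autoImplicit false
set_option backward.isDefEq.respectTransparency false
set_option backward.isDefEq.respectTransparency.types false

universe u

open CategoryTheory CategoryTheory.Limits AlgebraicGeometry TopologicalSpace Opposite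

namespace Groth.Agent.H23.SelfInt

open Groth.Agent RatSec C1Pull ChowDesc

variable {Y P : Scheme.{u}} [IsLocallyNoetherian Y] [IsLocallyNoetherian P] {δP : P → ℤ} {o : Y ⟶ P}
  [IsClosedImmersion o] {M : P.Modules} {s : M.presheaf.obj (op (⊤ : P.Opens))}

/-- The Gysin coefficient function of a push-forward. -/
theorem gysin_map (hM : PicF.IsInvertible M) (hd : Cyc.IsDimFun P δP) (hD : Cyc.IsZeroSchemeOf o M s) {δ : Y → ℤ}
    (hδ : δ = fun d => δP (o d)) (α : AlgebraicCycle Y ℤ) {w : (ξ : P) → Cyc.secFibre M ξ} (hw : ∀ ξ, w ξ ≠ 0)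
    {N : Y.Modules} (hN : PicF.IsInvertible N) (e : (Scheme.Modules.pullback o).obj M ≅ N) (d : Y) :
    Cyc.c1CapFun δP M ⇑(AlgebraicCycle.map o δ δP α) (Cyc.gysinChoice M s w) (o d) =
      Cyc.c1CapFun δ N ⇑α (fun y => mapSec e y (vPull o M w y)) d := by
  classical
  subst hδ
  have hdY := CycLib.isDimFun_closedImmersion o hd
  have h1 : Cyc.c1CapFun δP M ⇑(AlgebraicCycle.map o (fun d => δP (o d)) δP α) (Cyc.gysinChoice M s w) =
      Cyc.c1CapFun δP M ⇑(AlgebraicCycle.map o (fun d => δP (o d)) δP α) w := by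
    funext x
    refine finsum_congr fun ξ => ?_
    by_cases hξ : ξ ∈ Set.range o
    · rw [GysinLib.gysinChoice_eq_of_mem hD w hξ]
    · rw [CycLib.map_apply_not_range o _ δP α hξ, zero_mul, zero_mul]
  rw [h1, ← congrFun (C1Push.map_c1Cap hM hdY hd (GysinLib.deltaCompat_closedImmersion o δP) α hw) (o d),
    CycLib.map_preimmersion_apply, coe_c1CapCycle,
    c1CapFun_mapSec e (PicClLib.isInvertible_pullback o hM) hN hdY _ (vPull_ne_zero hM hw)]

/-- Gysin cycles of rationally equivalent cycles are rationally equivalent. -/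
theorem gysin_congr (hM : PicF.IsInvertible M) (hd : Cyc.IsDimFun P δP) (hD : Cyc.IsZeroSchemeOf o M s) {δ : Y → ℤ}
    (hδ : δ = fun d => δP (o d)) {w : (ξ : P) → Cyc.secFibre M ξ} (hw : ∀ ξ, w ξ ≠ 0) {k : ℤ}
    {β β' : AlgebraicCycle P ℤ} (h : Cyc.RatEquiv δP k β β') {ζ ζ' : AlgebraicCycle Y ℤ}
    (hζ : ∀ d, ζ d = Cyc.c1CapFun δP M ⇑β (Cyc.gysinChoice M s w) (o d))
    (hζ' : ∀ d, ζ' d = Cyc.c1CapFun δP M ⇑β' (Cyc.gysinChoice M s w) (o d)) : Cyc.RatEquiv δ (k - 1) ζ ζ' := by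
  subst hδ
  have h1 := Chern.gysinAdd_mem_ratZero hM hd s hw hD (CycLib.isDimFun_closedImmersion o hd)
    (show β - β' ∈ ProjBd.ratZero hd k from h)
  rw [map_sub] at h1
  rw [show ζ = Chern.gysinAdd o hM hd s hw β from Function.locallyFinsuppWithin.ext hζ,
    show ζ' = Chern.gysinAdd o hM hd s hw β' from Function.locallyFinsuppWithin.ext hζ']
  exact h1

omit [IsLocallyNoetherian Y] [IsLocallyNoetherian P] in
theorem c1Class_cl {X : Scheme.{u}} {δX : X → ℤ} (hX : Cyc.IsSetup X δX) {L : X.Modules} {c : Bivar.OpCl 1 X δX}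
    (hc : Bivar.IsC1Class L c) (t : Bivar.OSq X δX) {P : Scheme.{u}} {o : t.Y ⟶ P} [IsClosedImmersion o]
    {δP : P → ℤ} (hPs : Cyc.IsSetup P δP) {M : P.Modules} {s : M.presheaf.obj (op (⊤ : P.Opens))}
    (hM : PicF.IsInvertible M) (hD : Cyc.IsZeroSchemeOf o M s) (hδ : t.δ = fun d => δP (o d))
    (e : (Scheme.Modules.pullback o).obj M ≅ (Scheme.Modules.pullback t.g).obj L) {k : ℤ}
    {α : AlgebraicCycle t.Y ℤ} (hα : α ∈ Cyc.Zk t.Y t.δ k) {w : (ξ : P) → Cyc.secFibre M ξ} (hw : ∀ ξ, w ξ ≠ 0)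
    {γ : AlgebraicCycle t.Y ℤ}
    (hγ : ∀ d, γ d = Cyc.c1CapFun δP M ⇑(AlgebraicCycle.map o t.δ δP α) (Cyc.gysinChoice M s w) (o d))
    (hγk : γ ∈ Cyc.Zk t.Y t.δ (k - 1)) : c.op t k (ChowOps.cl α hα) = ChowOps.cl γ hγk := by
  haveI := hPs.1
  haveI := (isSetup_osq hX t).1
  refine hc.2 t k α hα (fun y => mapSec e y (vPull o M w y)) (mapSec_ne_zero e (vPull_ne_zero hM hw)) γ
    (funext fun d => ?_) hγk
  rw [hγ d]
  exact gysin_map hM hPs.2.2 hD hδ α hw (PicClLib.isInvertible_pullback t.g hc.1) e d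

end Groth.Agent.H23.SelfInt
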