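import Groth.Agent.H23.ChowDesc
import Groth.Agent.H23.GysinSq
import Groth.Agent.H23.GysinComm
import Groth.Agent.H23.FlatPushPull
import Groth.Agent.H23.RatEquivPull
import Groth.Agent.FibDim.RelDim
import Groth.Prelude.Def_Bivar2

/-! The bivariant class of flat pull-back. -/

set_option autoImplicit false
set_option linter.style.haveILetI false

universe u

open AlgebraicGeometry CategoryTheory CategoryTheory.Limits

namespace Groth.Agent.H23.FlatClass

open Groth.Agent ChowDesc FlatShift RatSec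

variable {X' X : Scheme.{u}} {δ : X → ℤ} {δ' : X' → ℤ} {p : X' ⟶ X} {c : ℤ}

/-- The flat pull-back of a cycle. -/
noncomputable def pullCycle [Flat p] (hc : HasShift p δ' δ c) [IsLocallyNoetherian X] [IsLocallyNoetherian X'] (hd' : Cyc.IsDimFun X' δ')
    (α : AlgebraicCycle X ℤ) : AlgebraicCycle X' ℤ where
  toFun := Cyc.pullFun p δ' δ c ⇑α
  supportWithinDomain' := fun _ _ => trivial
  supportLocallyFiniteWithinDomain' := fun z _ => C1Pull.locFin_pullFun hc hd' (GysinLib.locFin α) z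

theorem pullCycle_mem [Flat p] (hc : HasShift p δ' δ c) [IsLocallyNoetherian X] [IsLocallyNoetherian X'] (hd' : Cyc.IsDimFun X' δ')
    {α : AlgebraicCycle X ℤ} {k l : ℤ} (hα : α ∈ Cyc.Zk X δ k) (hl : l = k + c) :
    pullCycle hc hd' α ∈ Cyc.Zk X' δ' l :=
  hl ▸ Bivar.pullFun_mem_Zk p δ' δ c k hα (pullCycle hc hd' α) rfl

/-- Flat pull-back on cycles. -/
noncomputable def pullHom [Flat p] (hc : HasShift p δ' δ c) [IsLocallyNoetherian X] [IsLocallyNoetherian X'] (hd' : Cyc.IsDimFun X' δ')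
    (k l : ℤ) (hl : l = k + c) : ↥(ChowOps.zk X δ k) →+ ChowOps.CH X' δ' l :=
  AddMonoidHom.mk' (fun a => ChowOps.cl (pullCycle hc hd' (a : AlgebraicCycle X ℤ)) (pullCycle_mem hc hd' a.2 hl))
    fun a b => by
      rw [← Bivar.cl_add _ _ (pullCycle_mem hc hd' a.2 hl) (pullCycle_mem hc hd' b.2 hl)]
      refine Bivar.cl_congr (DFunLike.coe_injective ?_) _ _
      rw [Function.locallyFinsuppWithin.coe_add]
      exact Bivar.pullFun_add p δ' δ c ⇑(a : AlgebraicCycle X ℤ) ⇑(b : AlgebraicCycle X ℤ)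

/-- Flat pull-back on Chow groups. -/
noncomputable def pullCH [Flat p] (hc : HasShift p δ' δ c) (hX : Cyc.IsSetup X δ) (hX' : Cyc.IsSetup X' δ')
    (k l : ℤ) (hl : l = k + c) : ChowOps.CH X δ k →+ ChowOps.CH X' δ' l :=
  haveI := hX.1
  haveI := hX'.1
  lift (pullHom hc hX'.2.2 k l hl) fun a ha => by
    refine (cl_eq_of_ratEquiv (β := 0) (pullCycle_mem hc hX'.2.2 a.2 hl) ((ChowOps.zk X' δ' l).zero_mem) ?_).trans
      Bivar.cl_zero
    show Cyc.RatEquivZero δ' l (_ - 0)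
    rw [sub_zero, hl]
    exact DivPull.ratEquivZero_pull p hc hX.2.2 hX'.2.2 ha _ rfl

theorem pullCH_cl [Flat p] (hc : HasShift p δ' δ c) (hX : Cyc.IsSetup X δ) (hX' : Cyc.IsSetup X' δ') {k l : ℤ}
    (hl : l = k + c) {α : AlgebraicCycle X ℤ} (hα : α ∈ Cyc.Zk X δ k) {γ : AlgebraicCycle X' ℤ}
    (hγ : ⇑γ = Cyc.pullFun p δ' δ c ⇑α) (hγ' : γ ∈ Cyc.Zk X' δ' l) :
    pullCH hc hX hX' k l hl (ChowOps.cl α hα) = ChowOps.cl γ hγ' :=
  haveI := hX.1
  haveI := hX'.1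
  Bivar.cl_congr (DFunLike.coe_injective hγ.symm) _ _

omit p c

variable {Y : Scheme.{u}} {f : X ⟶ Y} {δX : X → ℤ} {δY : Y → ℤ}

theorem lft_g' (s : Bivar.Sq f δX δY) : LocallyOfFiniteType s.g' := MorphismProperty.of_isPullback s.isPullback s.lft

theorem isSetup_Y' (hY : Cyc.IsSetup Y δY) (s : Bivar.Sq f δX δY) : Cyc.IsSetup s.Y' s.δY' :=
  haveI := s.lft
  SetupLFT.isSetup s.g hY s.compatY

theorem isSetup_X' (hX : Cyc.IsSetup X δX) (s : Bivar.Sq f δX δY) : Cyc.IsSetup s.X' s.δX' :=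
  haveI := lft_g' s
  SetupLFT.isSetup s.g' hX s.compatX

theorem flat_f' [Flat f] (s : Bivar.Sq f δX δY) : Flat s.f' := MorphismProperty.of_isPullback s.isPullback.flip ‹_›

theorem lft_f' [LocallyOfFiniteType f] (s : Bivar.Sq f δX δY) : LocallyOfFiniteType s.f' :=
  MorphismProperty.of_isPullback s.isPullback.flip ‹_›

theorem deltaCompat_f' [LocallyOfFiniteType f] (hδ : Cyc.DeltaCompat f δX δY) (s : Bivar.Sq f δX δY) :
    Cyc.DeltaCompat s.f' s.δX' s.δY' := by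
  haveI := s.lft
  haveI := lft_g' s
  haveI := lft_f' s
  have h1 := Bivar.deltaCompat_comp s.f' s.g _ _ _ (deltaCompat_rd s.f' s.δY') s.compatY
  have h2 := Bivar.deltaCompat_comp s.g' f _ _ _ s.compatX hδ
  rw [s.isPullback.w] at h1
  rw [deltaCompat_unique (s.g' ≫ f) h2 h1]
  exact deltaCompat_rd s.f' s.δY'

theorem hasShift_f' [LocallyOfFiniteType f] {r : ℕ} (hr : Cyc.HasRelDim f r) (hδ : Cyc.DeltaCompat f δX δY)
    (s : Bivar.Sq f δX δY) : HasShift s.f' s.δX' s.δY' r :=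
  haveI := lft_f' s
  hasShift_of_hasRelDim s.f' (FibDim.hasRelDim_baseChange s.isPullback.flip hr) (deltaCompat_f' hδ s)

/-- A morphism of squares is compatible with the dimension functions. -/
theorem deltaCompat_homY {s t : Bivar.Sq f δX δY} (h : t.Y' ⟶ s.Y') [LocallyOfFiniteType h] (w : h ≫ s.g = t.g) :
    Cyc.DeltaCompat h t.δY' s.δY' :=
  ChowDesc.deltaCompat_hom (s := ⟨s.Y', s.g, s.lft, s.δY', s.compatY⟩) (t := ⟨t.Y', t.g, t.lft, t.δY', t.compatY⟩) h w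

theorem deltaCompat_homX {s t : Bivar.Sq f δX δY} (h : t.X' ⟶ s.X') [LocallyOfFiniteType h] (w : h ≫ s.g' = t.g') :
    Cyc.DeltaCompat h t.δX' s.δX' :=
  ChowDesc.deltaCompat_hom (s := ⟨s.X', s.g', lft_g' s, s.δX', s.compatX⟩)
    (t := ⟨t.X', t.g', lft_g' t, t.δX', t.compatX⟩) h w

theorem delta_closedImmersionX {s t : Bivar.Sq f δX δY} (i : t.X' ⟶ s.X') [IsClosedImmersion i]
    (w : i ≫ s.g' = t.g') : t.δX' = fun d => s.δX' (i d) :=
  ChowDesc.delta_closedImmersion (s := ⟨s.X', s.g', lft_g' s, s.δX', s.compatX⟩)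
    (t := ⟨t.X', t.g', lft_g' t, t.δX', t.compatX⟩) i w

theorem delta_closedImmersionY {s t : Bivar.Sq f δX δY} (i : t.Y' ⟶ s.Y') [IsClosedImmersion i]
    (w : i ≫ s.g = t.g) : t.δY' = fun d => s.δY' (i d) :=
  ChowDesc.delta_closedImmersion (s := ⟨s.Y', s.g, s.lft, s.δY', s.compatY⟩)
    (t := ⟨t.Y', t.g, t.lft, t.δY', t.compatY⟩) i w

theorem isPullback_hom {s t : Bivar.Sq f δX δY} (h : t.Y' ⟶ s.Y') (h' : t.X' ⟶ s.X') (w₁ : h ≫ s.g = t.g)
    (w₂ : h' ≫ s.f' = t.f' ≫ h) (w₃ : h' ≫ s.g' = t.g') : IsPullback t.f' h' h s.f' :=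
  IsPullback.of_bot (by rw [w₁, w₃]; exact t.isPullback) w₂.symm s.isPullback

/-- The class of flat pull-back. -/
noncomputable def flatPull (hX : Cyc.IsSetup X δX) (hY : Cyc.IsSetup Y δY) [Flat f] [LocallyOfFiniteType f] {r : ℕ}
    (hr : Cyc.HasRelDim f r) (hδ : Cyc.DeltaCompat f δX δY) : Bivar.Cl (-(r : ℤ)) f δX δY where
  op s k :=
    haveI := flat_f' s
    pullCH (hasShift_f' hr hδ s) (isSetup_Y' hY s) (isSetup_X' hX s) k (k - -(r : ℤ)) (by ring)
  push s t h _ h' _ w₁ w₂ w₃ k := by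
    intro α hα
    haveI := flat_f' s
    haveI := flat_f' t
    have hs := isSetup_Y' hY s
    have ht := isSetup_Y' hY t
    have hs' := isSetup_X' hX s
    have ht' := isSetup_X' hX t
    haveI := hs.1
    haveI := ht.1
    haveI := hs'.1
    haveI := ht'.1
    have hl : k - -(r : ℤ) = k + r := by ring
    have hc := hasShift_f' hr hδ t
    refine ⟨_, pullCycle_mem hc ht'.2.2 hα hl, pullCH_cl hc ht ht' hl hα rfl _, ?_⟩
    refine pullCH_cl (hasShift_f' hr hδ s) hs hs' hl (Bivar.cycMap_mem_Zk h t.δY' s.δY' k hα) ?_ _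
    exact (map_pullFun_baseChange (isPullback_hom h h' w₁ w₂ w₃) (hasShift_f' hr hδ s) hs'.2.2
      (deltaCompat_homY h w₁) (deltaCompat_homX h' w₃) α (pullCycle hc ht'.2.2 α) rfl).symm
  pull s t h _ h' _ m hm hm' w₁ w₂ w₃ k := by
    intro α hα
    haveI := flat_f' s
    haveI := flat_f' t
    haveI := lft_f' s
    haveI := lft_f' t
    haveI := s.lft
    haveI := lft_g' s
    haveI : LocallyOfFiniteType (h ≫ s.g) := w₁ ▸ t.lft
    haveI : LocallyOfFiniteType h := locallyOfFiniteType_of_comp h s.g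
    haveI : LocallyOfFiniteType (h' ≫ s.g') := w₃ ▸ lft_g' t
    haveI : LocallyOfFiniteType h' := locallyOfFiniteType_of_comp h' s.g'
    have hs := isSetup_Y' hY s
    have ht := isSetup_Y' hY t
    have hs' := isSetup_X' hX s
    have ht' := isSetup_X' hX t
    haveI := hs.1
    haveI := ht.1
    haveI := hs'.1
    haveI := ht'.1
    have hl : k - -(r : ℤ) = k + r := by ring
    have hc := hasShift_f' hr hδ s
    have hct := hasShift_f' hr hδ t
    have hh := hasShift_of_hasRelDim h hm (deltaCompat_homY h w₁)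
    have hh' := hasShift_of_hasRelDim h' hm' (deltaCompat_homX h' w₃)
    refine ⟨_, pullCycle_mem hc hs'.2.2 hα hl, pullCH_cl hc hs hs' hl hα rfl _, fun α₁ hα₁e hα₁ => ?_⟩
    let β₁ := pullCycle hh' ht'.2.2 (pullCycle hc hs'.2.2 α)
    have hβ₁ : β₁ ∈ Cyc.Zk t.X' t.δX' (k + (m : ℤ) - -(r : ℤ)) :=
      pullCycle_mem hh' ht'.2.2 (pullCycle_mem hc hs'.2.2 hα hl) (by ring)
    refine ⟨β₁, hβ₁, rfl, pullCH_cl hct ht ht' (by ring) hα₁ ?_ _⟩
    show Cyc.pullFun h' t.δX' s.δX' m (Cyc.pullFun s.f' s.δX' s.δY' r ⇑α) = _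
    rw [hα₁e, pullFun_comp_of_le h' s.f' _ _ _ (fun x => hh'.le ht'.2.2 x) (fun x => hc.le hs'.2.2 x),
      pullFun_comp_of_le t.f' h _ _ _ (fun x => hct.le ht'.2.2 x) (fun x => hh.le ht.2.2 x), add_comm]
    simp only [w₂]
  gysin s t i _ j _ w₁ w₂ w₃ L hL σ hσ τ hτ k := by
    intro α hα
    haveI := flat_f' s
    haveI := flat_f' t
    have hs := isSetup_Y' hY s
    have ht := isSetup_Y' hY t
    have hs' := isSetup_X' hX s
    have ht' := isSetup_X' hX t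
    haveI := hs.1
    haveI := ht.1
    haveI := hs'.1
    haveI := ht'.1
    have hl : k - -(r : ℤ) = k + r := by ring
    have hc := hasShift_f' hr hδ s
    have hct := hasShift_f' hr hδ t
    have hLf := PicClLib.isInvertible_pullback s.f' hL
    refine ⟨_, pullCycle_mem hc hs'.2.2 hα hl, pullCH_cl hc hs hs' hl hα rfl _, fun w hw γ hγe hγ w' hw' => ?_⟩
    let ζ := GysinLib.gysinCycle hLf hs'.2.2 j τ (pullCycle hc hs'.2.2 α) hw'
    have hζe : ∀ e, ζ e = Cyc.c1CapFun s.δX' _ ⇑(pullCycle hc hs'.2.2 α) (Cyc.gysinChoice _ τ w') (j e) :=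
      fun _ => rfl
    have hdj := delta_closedImmersionX j w₃
    have hζ : ζ ∈ Cyc.Zk t.X' t.δX' (k - 1 - -(r : ℤ)) := fun d hd => by
      rw [hζe]
      refine GysinLib.c1CapFun_degree _ (fun ξ hξ => pullCycle_mem hc hs'.2.2 hα hl ξ hξ) _ ?_
      simp only [hdj] at hd
      omega
    refine ⟨ζ, hζ, hζe, ?_⟩
    have hl' : k - 1 - -(r : ℤ) = k - 1 + r := by ring
    rw [pullCH_cl hct ht ht' hl' hγ (γ := pullCycle hct ht'.2.2 γ) rfl (pullCycle_mem hct ht'.2.2 hγ hl')]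
    refine (cl_eq_of_ratEquiv hζ _ ?_).symm
    have key := GysinSq.ratEquiv_gysin_pull (j := j) (q := t.f') (f := s.f') (i := i)
      (isPullback_hom i j w₁ w₂ w₃).flip hc hs.2.2 hs'.2.2 hL hσ hτ (k := k - 1) α
      (fun x hx => hα x (by omega)) hw hw' (ζ₁ := ζ) (ζ₂ := pullCycle hct ht'.2.2 γ) hζe
      (by
        show Cyc.pullFun t.f' t.δX' t.δY' r ⇑γ = _
        rw [hdj, delta_closedImmersionY i w₁, show ⇑γ = fun d => Cyc.c1CapFun s.δY' L ⇑α (Cyc.gysinChoice L σ w) (i d)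
          from funext hγe])
    rw [hl']
    generalize pullCycle hct ht'.2.2 γ = C at key ⊢
    rw [hdj]
    exact key

theorem isFlatPullClass (hX : Cyc.IsSetup X δX) (hY : Cyc.IsSetup Y δY) [Flat f] [LocallyOfFiniteType f] {r : ℕ}
    (hr : Cyc.HasRelDim f r) (hδ : Cyc.DeltaCompat f δX δY) :
    Bivar.IsFlatPullClass f r (flatPull hX hY hr hδ) := by
  refine ⟨‹_›, ‹_›, hr, hδ, fun s k α hα α₁ he hα₁ => ?_⟩
  haveI := flat_f' s
  exact pullCH_cl (hasShift_f' hr hδ s) (isSetup_Y' hY s) (isSetup_X' hX s) (by ring) hα he hα₁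

end Groth.Agent.H23.FlatClass
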