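import Groth.Agent.H23.StalkPrimes
import Groth.Agent.CycLib.Div
import Groth.Agent.CycLib.DivMap
import Groth.Agent.CycLib.EulerDim1
import Groth.Agent.IntThLib.Dim1
import Groth.Agent.QCoh.Stalk
import Groth.Prelude.Def_C1

/-! The zero scheme of a regular section and the divisor of the section on the components. -/

set_option autoImplicit false
set_option linter.style.haveILetI false

universe u

open AlgebraicGeometry CategoryTheory IsLocalRing

namespace Groth.Agent.H23.ZeroSec

open Groth.Agent CDiv6 StalkPrimes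

variable {X : Scheme.{u}}

theorem stalkSpecializes_smul (L : X.Modules) {x ξ : X} (h : ξ ⤳ x) (a : X.presheaf.stalk x)
    (m : L.presheaf.stalk x) :
    L.presheaf.stalkSpecializes h (a • m) = X.presheaf.stalkSpecializes h a • L.presheaf.stalkSpecializes h m := by
  obtain ⟨U, hU, b, rfl⟩ := X.presheaf.exists_germ_eq (x := x) a
  obtain ⟨V, hV, v, rfl⟩ := L.presheaf.germ_exist m
  have hW : x ∈ U ⊓ V := ⟨hU, hV⟩
  rw [← X.presheaf.germ_res_apply (homOfLE inf_le_left : U ⊓ V ⟶ U) x hW b,
    ← L.presheaf.germ_res_apply (homOfLE inf_le_right : U ⊓ V ⟶ V) x hW v, ← QCoh.germ_smul',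
    TopCat.Presheaf.germ_stalkSpecializes_apply]
  refine (QCoh.germ_smul' L (h.mem_open (U ⊓ V).isOpen hW) _ _).trans ?_
  exact congrArg₂ (fun p q => p • q) (TopCat.Presheaf.germ_stalkSpecializes_apply X.presheaf hW h _).symm
    (TopCat.Presheaf.germ_stalkSpecializes_apply L.presheaf hW h _).symm

theorem length_localized_primeOf {x z : X} (hz : z ⤳ x) (P : PrimeSpectrum (X.presheaf.stalk x))
    (hP : P = primeOf hz) :
    Module.length (Localization.AtPrime P.asIdeal) (LocalizedModule P.asIdeal.primeCompl (X.presheaf.stalk x)) =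
      Module.length (X.presheaf.stalk z) (X.presheaf.stalk z) := by
  subst hP
  haveI := isLocalization_primeOf hz
  letI := (X.presheaf.stalkSpecializes hz).hom.toAlgebra
  let S := (primeOf hz).asIdeal.primeCompl
  rw [((IsLocalizedModule.iso S (Algebra.linearMap (X.presheaf.stalk x)
    (Localization.AtPrime (primeOf hz).asIdeal))).extendScalarsOfIsLocalization S
    (Localization.AtPrime (primeOf hz).asIdeal)).length_eq]
  exact FiniteFibreSum.length_self_of_bijective _
    (IsLocalization.algEquiv S (Localization.AtPrime (primeOf hz).asIdeal) (X.presheaf.stalk z)).bijective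

theorem primeOf_refl' (x : X) : (primeOf (specializes_refl x)).asIdeal = maximalIdeal (X.presheaf.stalk x) := by
  ext g
  rw [mem_primeOf, TopCat.Presheaf.stalkSpecializes_refl]
  exact Iff.rfl

-- The length formula at a point of dimension `k` when δ ≤ k + 1.
open Classical in
theorem length_span [IsLocallyNoetherian X] {δ : X → ℤ} (hd : Cyc.IsDimFun X δ) {k : ℤ} {x : X} (hx : δ x = k)
    (hdim : ∀ y : X, δ y ≤ k + 1) (f : X.presheaf.stalk x) (hreg : f ∈ nonZeroDivisors (X.presheaf.stalk x)) :
    ∃ s : Finset X, (∀ z, z ∈ s ↔ z ⤳ x ∧ δ z = k + 1) ∧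
      (Module.length (X.presheaf.stalk x) (X.presheaf.stalk x ⧸ Ideal.span {f})).toNat =
        ∑ z ∈ s, (Module.length (X.presheaf.stalk z) (X.presheaf.stalk z)).toNat *
          (if hz : z ⤳ x then (Ring.ord (Cyc.LocQuot x z hz) (Ideal.Quotient.mk _ f)).toNat else 0) := by
  classical
  have hne : ∀ {z : X}, z ⤳ x → z ≠ x → δ z = k + 1 := fun {z} hz h => by
    have h1 := CycLib.delta_lt hd hz h
    have h2 := hdim z
    omega
  have hnemax : ∀ {z : X} (hz : z ⤳ x), δ z = k + 1 → (primeOf hz).asIdeal ≠ maximalIdeal (X.presheaf.stalk x) := fun {z} hz h e => by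
    have := primeOf_inj hz (specializes_refl x) (e.trans (primeOf_refl' x).symm)
    subst this
    omega
  have hmin : ∀ {z : X} (hz : z ⤳ x), δ z = k + 1 → (primeOf hz).asIdeal ∈ minimalPrimes (X.presheaf.stalk x) := fun {z} hz h => by
    refine ⟨⟨(primeOf hz).2, bot_le⟩, fun q hq hle => ?_⟩
    haveI := hq.1
    obtain ⟨w, hw, rfl⟩ := exists_point q
    have hwz := (primeOf_le_iff hz hw).1 hle
    have : w = z := CycLib.eq_of_delta_le hd hwz (h ▸ hdim w)
    subst this
    exact le_rfl
  have hfin : {z : X | z ⤳ x ∧ δ z = k + 1}.Finite := by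
    let e : {z : X | z ⤳ x ∧ δ z = k + 1} → Ideal (X.presheaf.stalk x) := fun z => (primeOf z.2.1).asIdeal
    haveI := (Set.Finite.subset (minimalPrimes.finite_of_isNoetherianRing (X.presheaf.stalk x))
      (show Set.range e ⊆ _ by rintro _ ⟨z, rfl⟩; exact hmin z.2.1 z.2.2)).to_subtype
    exact Set.finite_coe_iff.1 (Finite.of_injective (fun z => (⟨e z, Set.mem_range_self z⟩ : Set.range e))
      fun z w h => Subtype.ext (primeOf_inj z.2.1 w.2.1 (congrArg Subtype.val h)))
  refine ⟨hfin.toFinset, fun z => hfin.mem_toFinset, ?_⟩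
  rcases Set.eq_empty_or_nonempty {z : X | z ⤳ x ∧ δ z = k + 1} with he | ⟨z₀, hz₀, hz₀δ⟩
  · rw [show hfin.toFinset = ∅ by simpa using he, Finset.sum_empty]
    have huniq : ∀ q : Ideal (X.presheaf.stalk x), q.IsPrime → q = maximalIdeal (X.presheaf.stalk x) := fun q hq => by
      obtain ⟨w, hw, rfl⟩ := exists_point q
      by_contra hne'
      have hwx : w ≠ x := fun e => hne' (by subst e; exact primeOf_refl' _)
      have hmem : w ∈ {z : X | z ⤳ x ∧ δ z = k + 1} := ⟨hw, hne hw hwx⟩
      rw [he] at hmem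
      exact hmem
    haveI : Ring.KrullDimLE 0 (X.presheaf.stalk x) :=
      Ring.krullDimLE_zero_iff.2 fun q hq => huniq q hq ▸ maximalIdeal.isMaximal (X.presheaf.stalk x)
    have hmm : maximalIdeal (X.presheaf.stalk x) ∈ minimalPrimes (X.presheaf.stalk x) :=
      ⟨⟨(maximalIdeal.isMaximal (X.presheaf.stalk x)).isPrime, bot_le⟩, fun q hq _ => (huniq q hq.1).ge⟩
    have hu : IsUnit f := by
      by_contra hu
      exact Set.disjoint_left.1 (Ideal.disjoint_nonZeroDivisors_of_mem_minimalPrimes hmm)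
        ((mem_maximalIdeal f).2 hu) hreg
    rw [Ideal.span_singleton_eq_top.2 hu]
    haveI : Subsingleton ((X.presheaf.stalk x) ⧸ (⊤ : Ideal (X.presheaf.stalk x))) := Submodule.Quotient.subsingleton_iff.2 rfl
    rw [Module.length_eq_zero]
    rfl
  have hR1 : ringKrullDim (X.presheaf.stalk x) = 1 := by
    refine le_antisymm ((Order.krullDimLE_iff 1 _).1 (Ring.krullDimLE_one_iff.2 fun q hq => ?_)) ?_
    · obtain ⟨w, hw, rfl⟩ := exists_point q
      rcases eq_or_ne w x with rfl | hwx
      · exact Or.inr (primeOf_refl' w ▸ maximalIdeal.isMaximal _)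
      · exact Or.inl (hmin hw (hne hw hwx))
    · have hlt : primeOf hz₀ < closedPoint (X.presheaf.stalk x) :=
        lt_of_le_of_ne (le_maximalIdeal (primeOf hz₀).2.ne_top) fun e =>
          hnemax hz₀ hz₀δ (congrArg PrimeSpectrum.asIdeal e)
      have := Order.LTSeries.length_le_krullDim ((RelSeries.singleton _ (primeOf hz₀)).snoc _ hlt)
      simpa [ringKrullDim] using this
  have hfmin : ∀ p ∈ minimalPrimes (X.presheaf.stalk x), f ∉ p := fun p hp hmem =>
    Set.disjoint_left.1 (Ideal.disjoint_nonZeroDivisors_of_mem_minimalPrimes hp) hmem hreg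
  have key := IntThLib.length_quot_smul_eq hR1 (X.presheaf.stalk x) f hfmin
  have hker : LinearMap.ker (LinearMap.lsmul (X.presheaf.stalk x) (X.presheaf.stalk x) f) = ⊥ := LinearMap.ker_eq_bot.2 fun a b h => by
    rw [LinearMap.lsmul_apply, LinearMap.lsmul_apply, smul_eq_mul, smul_eq_mul] at h
    exact (mul_cancel_left_mem_nonZeroDivisors hreg).1 h
  rw [hker, Module.length_eq_zero (R := (X.presheaf.stalk x)) (M := (⊥ : Submodule (X.presheaf.stalk x) (X.presheaf.stalk x))), zero_add] at key
  have e1 : LinearMap.range (LinearMap.lsmul (X.presheaf.stalk x) (X.presheaf.stalk x) f) = Ideal.span {f} := by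
    ext u
    rw [LinearMap.mem_range, Ideal.mem_span_singleton']
    exact exists_congr fun v => by rw [LinearMap.lsmul_apply, smul_eq_mul, mul_comm]
  rw [(Submodule.quotEquivOfEq _ _ e1).length_eq] at key
  let P : X → PrimeSpectrum (X.presheaf.stalk x) := fun z => if hz : z ⤳ x then primeOf hz else closedPoint (X.presheaf.stalk x)
  rw [finsum_cond_eq_sum_of_cond_iff (t := hfin.toFinset.image P) _ (fun {q} _ => by
    rw [Finset.mem_image]
    constructor
    · intro hq
      obtain ⟨w, hw, e⟩ := exists_point q.asIdeal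
      refine ⟨w, hfin.mem_toFinset.2 ⟨hw, hne hw fun hwx => ?_⟩,
        by simp only [P, dif_pos hw]; exact PrimeSpectrum.ext e⟩
      subst hwx
      rw [← e, primeOf_refl'] at hq
      exact hnemax hz₀ hz₀δ (le_antisymm (le_maximalIdeal (primeOf hz₀).2.ne_top)
        (hq.2 ⟨(primeOf hz₀).2, bot_le⟩ (le_maximalIdeal (primeOf hz₀).2.ne_top)))
    · rintro ⟨w, hw, rfl⟩
      obtain ⟨hw, hwδ⟩ := hfin.mem_toFinset.1 hw
      simp only [P, dif_pos hw]
      exact hmin hw hwδ),
    Finset.sum_image fun z hz w hw e => by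
      have hz' := (hfin.mem_toFinset.1 hz).1
      have hw' := (hfin.mem_toFinset.1 hw).1
      simp only [P, dif_pos hz', dif_pos hw'] at e
      exact primeOf_inj hz' hw' (congrArg PrimeSpectrum.asIdeal e)] at key
  have key' := congrArg ENat.toNat key
  rw [ENat.toNat_sum] at key'
  · rw [key']
    refine Finset.sum_congr rfl fun z hz => ?_
    obtain ⟨hz, -⟩ := hfin.mem_toFinset.1 hz
    rw [dif_pos hz, ENat.toNat_mul, length_localized_primeOf hz (P z) (dif_pos hz),
      ← CycLib.ord_eq_length]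
    let e : ((X.presheaf.stalk x) ⧸ (P z).asIdeal) ≃+* Cyc.LocQuot x z hz :=
      Ideal.quotEquivOfEq (by rw [CycLib.ker_specMap]; exact congrArg PrimeSpectrum.asIdeal (dif_pos hz))
    rw [← CycLib.ord_ringEquiv e]
    rfl
  · intro z hz
    obtain ⟨hz', hzδ⟩ := hfin.mem_toFinset.1 hz
    have hp : (P z).asIdeal ∈ minimalPrimes (X.presheaf.stalk x) := by
      rw [show P z = primeOf hz' from dif_pos hz']; exact hmin hz' hzδ
    haveI : Ring.KrullDimLE 1 ((X.presheaf.stalk x) ⧸ (P z).asIdeal) := by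
      rw [Ring.KrullDimLE, Order.krullDimLE_iff]
      exact (ringKrullDim_quotient_le _).trans hR1.le
    refine WithTop.mul_ne_top (IntThLib.length_localized_ne_top _ hp (X.presheaf.stalk x)) ?_
    rw [← CycLib.ord_eq_length]
    exact Ring.ord_ne_top (mem_nonZeroDivisors_of_ne_zero fun h0 => hfmin _ hp (Ideal.Quotient.eq_zero_iff_mem.1 h0))

end Groth.Agent.H23.ZeroSec
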