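import Groth.Agent.H23.C1Comm
import Groth.Agent.H23.ZeroSec
import Groth.Agent.H23.FibreDegSum

/-! Fundamental cycles and zero schemes of regular sections. -/

set_option autoImplicit false
set_option linter.style.haveILetI false

universe u

open AlgebraicGeometry CategoryTheory TopologicalSpace IsLocalRing

namespace Groth.Agent.H23.FundCycle

open Groth.Agent CDiv6 StalkPrimes

variable {Y : Scheme.{u}}

theorem subschemeFun_id (δ : Y → ℤ) (k : ℤ) (y : Y) :
    Cyc.subschemeFun δ k (𝟙 Y) y =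
      if δ y = k then ((Module.length (Y.presheaf.stalk y) (Y.presheaf.stalk y)).toNat : ℤ) else 0 := by
  classical
  rw [Cyc.subschemeFun]
  refine if_congr Iff.rfl ?_ rfl
  rw [show {z : Y | (𝟙 Y : Y ⟶ Y) z = y} = {y} from Set.ext fun z => Iff.rfl, finsum_mem_singleton]

theorem maximal_of_support [IsLocallyNoetherian Y] (δ : Y → ℤ) {k : ℤ} {y : Y}
    (h : Cyc.subschemeFun δ k (𝟙 Y) y ≠ 0) {w : Y} (hw : w ⤳ y) : w = y := by
  rw [subschemeFun_id] at h
  split_ifs at h with h'
  · have hne : Module.length (Y.presheaf.stalk y) (Y.presheaf.stalk y) ≠ ⊤ := fun e => h (by rw [e]; rfl)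
    haveI : IsArtinianRing (Y.presheaf.stalk y) := (isFiniteLength_iff_isNoetherian_isArtinian.1 (Module.length_ne_top_iff.1 hne)).2
    haveI := (primeOf hw).2
    exact primeOf_inj hw (specializes_refl y)
      ((IsLocalRing.eq_maximalIdeal (IsArtinianRing.isMaximal_of_isPrime _)).trans (ZeroSec.primeOf_refl' y).symm)
  · exact absurd rfl h

/-- `[Y]_k` as a cycle. -/
noncomputable def fund [IsLocallyNoetherian Y] (δ : Y → ℤ) (k : ℤ) : AlgebraicCycle Y ℤ where
  toFun := Cyc.subschemeFun δ k (𝟙 Y)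
  supportWithinDomain' := fun _ _ => trivial
  supportLocallyFiniteWithinDomain' := fun z _ => by
    obtain ⟨V, hV, hzV, -⟩ := exists_isAffineOpen_mem_and_subset (x := z) (U := (⊤ : Y.Opens)) trivial
    exact ⟨(V : Set Y), V.2.mem_nhds hzV, (C1Comm.finite_maximal_inter isClosed_univ hV.isCompact).subset
      fun y hy => ⟨trivial, fun w _ hw => maximal_of_support δ hy.2 hw, hy.1⟩⟩

theorem coe_fund [IsLocallyNoetherian Y] (δ : Y → ℤ) (k : ℤ) : ⇑(fund δ k) = Cyc.subschemeFun δ k (𝟙 Y) := rfl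

theorem subschemeFun_closed {X : Scheme.{u}} (ι : Y ⟶ X) [IsClosedImmersion ι] [IsLocallyNoetherian Y]
    (δ : X → ℤ) (k : ℤ) :
    Cyc.subschemeFun δ k ι = ⇑(AlgebraicCycle.map ι (fun y => δ (ι y)) δ (fund (fun y => δ (ι y)) k)) := by
  classical
  funext x
  by_cases hx : x ∈ Set.range ι
  · obtain ⟨y, rfl⟩ := hx
    rw [CycLib.map_preimmersion_apply, coe_fund, subschemeFun_id, Cyc.subschemeFun]
    refine if_congr Iff.rfl ?_ rfl
    rw [show {z : Y | ι z = ι y} = {y} from Set.ext fun z => ι.isEmbedding.injective.eq_iff, finsum_mem_singleton]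
  · rw [CycLib.map_apply_not_range ι _ δ _ hx, Cyc.subschemeFun,
      show {z : Y | ι z = x} = ∅ from Set.eq_empty_of_forall_notMem fun z hz => hx ⟨z, hz⟩, finsum_mem_empty, ite_self]

/-- The divisor of a regular section on an integral scheme is the cycle of its zero scheme. -/
theorem secDivFun_eq_subschemeFun {X : Scheme.{u}} [IsIntegral X] [IsLocallyNoetherian X] {δ : X → ℤ}
    (hd : Cyc.IsDimFun X δ) {L : X.Modules} (hL : PicF.IsInvertible L) {s : L.presheaf.obj (Opposite.op ⊤)}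
    {i : Y ⟶ X} [IsClosedImmersion i] (hD : Cyc.IsZeroSchemeOf i L s)
    (hs : RatSec.cls L (genericPoint X) (L.presheaf.germ ⊤ _ trivial s) ≠ 0) (d : Y) :
    Cyc.secDivFun δ L (genericPoint X) (RatSec.cls L _ (L.presheaf.germ ⊤ _ trivial s)) (i d) =
      Cyc.subschemeFun (fun d => δ (i d)) (δ (genericPoint X) - 1) (𝟙 Y) d := by
  classical
  rw [subschemeFun_id]
  by_cases hx : δ (i d) + 1 = δ (genericPoint X)
  swap
  · rw [if_neg (fun h => hx (by omega)), C1Comm.secDivFun_gen_zero hx]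
  rw [if_pos (by omega)]
  obtain ⟨t, f, ht, hst, hker⟩ := hD.2 d
  obtain ⟨hgt, hgt'⟩ := RatSec.isGen_of_span hL ht
  have hη := TameScheme.gen_sp (i d)
  have e : RatSec.cls L _ (L.presheaf.germ ⊤ _ trivial s) = (X.presheaf.stalkSpecializes hη).hom f •
      RatSec.cls L _ (L.presheaf.stalkSpecializes hη t) := by
    rw [← RatSec.cls_smul, ← ZeroSec.stalkSpecializes_smul, ← hst, TopCat.Presheaf.germ_stalkSpecializes_apply]
  have hf0 : X.residue _ ((X.presheaf.stalkSpecializes hη).hom f) ≠ 0 :=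
    (RatSec.residue_ne_zero (hgt' _ hη)).2 (e ▸ hs)
  rw [RatSec.secDivFun_eq hL hd hη ht e hf0, CycLib.divFun_eq δ _ hη hx]
  have hf : f ≠ 0 := fun h => hf0 (by rw [h, map_zero, map_zero])
  haveI := TameScheme.krullDimLE_stalk hd hx
  have h1 := TameScheme.ordAt_rep hd hx (TameFun.Rep.of (ι := TameScheme.inc (i d)) f hf)
  refine h1.trans ?_
  show TameFun.ordA f - TameFun.ordA 1 = _
  rw [TameFun.ordA_unit isUnit_one, sub_zero, TameFun.ordA, Ring.ord,
    FiniteFibreSum.length_self_of_surjective (i.stalkMap d).hom (i.stalkMap_surjective d) hker]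

end Groth.Agent.H23.FundCycle
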