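import Groth.Agent.H23.ChiAdd
import Groth.Agent.CycLib.SamuelAssoc

/-!
# Devissage of the Tor Euler characteristic
-/

set_option autoImplicit false
set_option linter.style.haveILetI false

universe u

open IsLocalRing

namespace Groth.Agent.H23.ChiAdd

open Groth.Agent

variable {A : Type u} [CommRing A]

/-- The length of the localisation at a prime. -/
noncomputable def lenAt (p : PrimeSpectrum A) (M : Type u) [AddCommGroup M] [Module A M] : ℤ :=
  ((Module.length (Localization.AtPrime p.asIdeal) (LocalizedModule p.asIdeal.primeCompl M)).toNat : ℤ)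

variable [IsRegularLocalRing A]

open Classical in
theorem chi_devissage (a : ℕ) (N : Type u) [AddCommGroup N] [Module A N] [Module.Finite A N]
    (M : Type u) [AddCommGroup M] [Module A M] [Module.Finite A M] :
    Meet (A := A) M N → Module.supportDim A M ≤ a →
      (∀ q : PrimeSpectrum A, q ∈ Module.support A M → ringKrullDim (A ⧸ q.asIdeal) < a →
        IntMult.chi A (A ⧸ q.asIdeal) N = 0) →
    ∃ T : Finset (PrimeSpectrum A), (∀ p, ringKrullDim (A ⧸ p.asIdeal) = a →
      Module.length (Localization.AtPrime p.asIdeal) (LocalizedModule p.asIdeal.primeCompl M) ≠ ⊤ ∧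
      (p ∉ T → Module.length (Localization.AtPrime p.asIdeal) (LocalizedModule p.asIdeal.primeCompl M) = 0)) ∧
    ∀ S : Finset (PrimeSpectrum A), T ⊆ S → IntMult.chi A M N =
      ∑ p ∈ S.filter (fun p => ringKrullDim (A ⧸ p.asIdeal) = a), lenAt p M * IntMult.chi A (A ⧸ p.asIdeal) N := by
  refine IsNoetherianRing.induction_on_isQuotientEquivQuotientPrime (A := A) (M := M) ‹_›
    (motive := fun M _ _ _ => Meet (A := A) M N → Module.supportDim A M ≤ a →
      (∀ q : PrimeSpectrum A, q ∈ Module.support A M → ringKrullDim (A ⧸ q.asIdeal) < a →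
        IntMult.chi A (A ⧸ q.asIdeal) N = 0) →
      ∃ T : Finset (PrimeSpectrum A), (∀ p, ringKrullDim (A ⧸ p.asIdeal) = a →
        Module.length (Localization.AtPrime p.asIdeal) (LocalizedModule p.asIdeal.primeCompl M) ≠ ⊤ ∧
        (p ∉ T → Module.length (Localization.AtPrime p.asIdeal) (LocalizedModule p.asIdeal.primeCompl M) = 0)) ∧
      ∀ S : Finset (PrimeSpectrum A), T ⊆ S → IntMult.chi A M N =
        ∑ p ∈ S.filter (fun p => ringKrullDim (A ⧸ p.asIdeal) = a), lenAt p M * IntMult.chi A (A ⧸ p.asIdeal) N)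
    ?_ ?_ ?_
  · intro M _ _ _ _ _ _ _
    have h0 : ∀ p : PrimeSpectrum A,
        Module.length (Localization.AtPrime p.asIdeal) (LocalizedModule p.asIdeal.primeCompl M) = 0 := fun p => by
      haveI : Subsingleton (LocalizedModule p.asIdeal.primeCompl M) := ⟨fun a b => by
        induction a using LocalizedModule.induction_on with
        | _ m s =>
          induction b using LocalizedModule.induction_on with
          | _ m' s' => exact LocalizedModule.mk_eq.2 ⟨1, Subsingleton.elim _ _⟩⟩
      exact Module.length_eq_zero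
    refine ⟨∅, fun p _ => ⟨by simp [h0 p], fun _ => h0 p⟩, fun S _ => ?_⟩
    rw [chi_eq_zero_of_subsingleton, Finset.sum_eq_zero fun p _ => by simp [lenAt, h0 p]]
  · intro M _ _ _ q eq hMN hq hvan
    rw [Module.supportDim_eq_of_equiv eq, Module.supportDim_quotient_eq_ringKrullDim] at hq
    have hlen : ∀ p : PrimeSpectrum A, ringKrullDim (A ⧸ p.asIdeal) = a →
        Module.length (Localization.AtPrime p.asIdeal) (LocalizedModule p.asIdeal.primeCompl M) =
          if q = p then 1 else 0 := fun p hp => by
      rw [← CycLib.length_localized_quot_prime q p a hq hp]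
      refine le_antisymm ?_ ?_
      · exact Module.length_le_of_injective (LocalizedModule.map p.asIdeal.primeCompl eq.toLinearMap)
          (IsLocalizedModule.map_injective p.asIdeal.primeCompl (LocalizedModule.mkLinearMap _ _)
            (LocalizedModule.mkLinearMap _ _) eq.toLinearMap eq.injective)
      · exact Module.length_le_of_surjective (LocalizedModule.map p.asIdeal.primeCompl eq.toLinearMap)
          (IsLocalizedModule.map_surjective p.asIdeal.primeCompl (LocalizedModule.mkLinearMap _ _)
            (LocalizedModule.mkLinearMap _ _) eq.toLinearMap eq.surjective)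
    refine ⟨{q}, fun p hp => ⟨?_, fun hpq => ?_⟩, fun S hS => ?_⟩
    · rw [hlen p hp]
      split_ifs <;> simp
    · rw [hlen p hp, if_neg fun h => hpq (by simp [h])]
    rw [chi_congr_left eq]
    rcases hq.lt_or_eq with hlt | heq
    · rw [Finset.sum_eq_zero fun p hp => ?_]
      · refine hvan q ?_ hlt
        rw [Module.support_eq_zeroLocus, eq.annihilator_eq, Ideal.annihilator_quotient]
        exact (le_refl q.asIdeal : _)
      · have hp' := (Finset.mem_filter.1 hp).2
        rw [lenAt, hlen p hp', if_neg fun h : q = p => hlt.ne (h.symm ▸ hp')]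
        simp
    · rw [Finset.sum_eq_single q]
      · rw [lenAt, hlen q heq, if_pos rfl]
        simp
      · intro p hp hpq
        rw [lenAt, hlen p (Finset.mem_filter.1 hp).2, if_neg (Ne.symm hpq)]
        simp
      · exact fun h => absurd (Finset.mem_filter.2 ⟨hS (by simp), heq⟩) h
  · intro M₁ _ _ _ M₂ _ _ _ M₃ _ _ _ f g hf hg hfg ih₁ ih₃ hMN hdim hvan
    have hM₁ : Meet (A := A) M₁ N := hMN.of_le fun r hr => Module.mem_annihilator.2 fun x => hf (by
      rw [map_smul, Module.mem_annihilator.1 hr, map_zero])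
    have hM₃ : Meet (A := A) M₃ N := hMN.of_le fun r hr => Module.mem_annihilator.2 fun x => by
      obtain ⟨y, rfl⟩ := hg x
      rw [← map_smul, Module.mem_annihilator.1 hr, map_zero]
    obtain ⟨T₁, hT₁, hl₁⟩ := ih₁ hM₁ ((Module.supportDim_le_of_injective f hf).trans hdim)
      fun q hq => hvan q (Module.support_subset_of_injective f hf hq)
    obtain ⟨T₃, hT₃, hl₃⟩ := ih₃ hM₃ ((Module.supportDim_le_of_surjective g hg).trans hdim)
      fun q hq => hvan q (Module.support_subset_of_surjective g hg hq)
    refine ⟨T₁ ∪ T₃, fun p hp => ?_, fun S hS => ?_⟩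
    · rw [CycLib.length_localized_add p f g hf hg hfg]
      exact ⟨WithTop.add_ne_top.2 ⟨(hT₁ p hp).1, (hT₃ p hp).1⟩, fun h => by
        rw [Finset.mem_union, not_or] at h
        rw [(hT₁ p hp).2 h.1, (hT₃ p hp).2 h.2, add_zero]⟩
    · rw [chi_add f g hf hg hfg hMN, hl₁ S (Finset.union_subset_left hS), hl₃ S (Finset.union_subset_right hS),
        ← Finset.sum_add_distrib]
      refine Finset.sum_congr rfl fun p hp => ?_
      have hp' := (Finset.mem_filter.1 hp).2
      rw [lenAt, lenAt, lenAt, CycLib.length_localized_add p f g hf hg hfg,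
        ENat.toNat_add (hT₁ p hp').1 (hT₃ p hp').1, Nat.cast_add, add_mul]

theorem chi_eq_sum_left (a : ℕ) {M N : Type u} [AddCommGroup M] [Module A M] [Module.Finite A M]
    [AddCommGroup N] [Module A N] [Module.Finite A N] (hMN : Meet (A := A) M N) (hdim : Module.supportDim A M ≤ a)
    (hvan : ∀ q : PrimeSpectrum A, q ∈ Module.support A M → ringKrullDim (A ⧸ q.asIdeal) < a →
        IntMult.chi A (A ⧸ q.asIdeal) N = 0) :
    IntMult.chi A M N = ∑ᶠ p : {p : PrimeSpectrum A // ringKrullDim (A ⧸ p.asIdeal) = a},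
      lenAt p.1 M * IntMult.chi A (A ⧸ p.1.asIdeal) N := by
  classical
  obtain ⟨T, hT, hl⟩ := chi_devissage a N M hMN hdim hvan
  refine (hl T le_rfl).trans ?_
  rw [finsum_eq_finsetSum_of_support_subset _ (s := T.subtype fun p => ringKrullDim (A ⧸ p.asIdeal) = a) ?_,
    Finset.sum_subtype_eq_sum_filter (s := T) (p := fun p : PrimeSpectrum A => ringKrullDim (A ⧸ p.asIdeal) = a)
      (f := fun p => lenAt p M * IntMult.chi A (A ⧸ p.asIdeal) N)]
  intro p hp
  rw [Finset.mem_coe, Finset.mem_subtype]
  by_contra hn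
  exact hp (by simp [lenAt, (hT p.1 p.2).2 hn])

/-- The Tor Euler characteristic from the generic points of the supports. -/
theorem chi_eq_sum (a b : ℕ) {M N : Type u} [AddCommGroup M] [Module A M] [Module.Finite A M]
    [AddCommGroup N] [Module A N] [Module.Finite A N] (hMN : Meet (A := A) M N) (hdimM : Module.supportDim A M ≤ a)
    (hdimN : Module.supportDim A N ≤ b)
    (hvan : ∀ p q : PrimeSpectrum A, p ∈ Module.support A M → q ∈ Module.support A N →
      ringKrullDim (A ⧸ p.asIdeal) ≤ a → ringKrullDim (A ⧸ q.asIdeal) ≤ b →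
      (ringKrullDim (A ⧸ p.asIdeal) < a ∨ ringKrullDim (A ⧸ q.asIdeal) < b) →
        IntMult.chi A (A ⧸ p.asIdeal) (A ⧸ q.asIdeal) = 0) :
    IntMult.chi A M N = ∑ᶠ p : {p : PrimeSpectrum A // ringKrullDim (A ⧸ p.asIdeal) = a},
      lenAt p.1 M * ∑ᶠ q : {q : PrimeSpectrum A // ringKrullDim (A ⧸ q.asIdeal) = b},
        lenAt q.1 N * IntMult.chi A (A ⧸ p.1.asIdeal) (A ⧸ q.1.asIdeal) := by
  have hle : ∀ (p : PrimeSpectrum A), p ∈ Module.support A M →
      ringKrullDim (A ⧸ p.asIdeal) ≤ a := fun p hp => by
    refine le_trans ?_ hdimM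
    rw [Module.supportDim_eq_ringKrullDim_quotient_annihilator]
    refine ringKrullDim_le_of_surjective (Ideal.Quotient.factor ?_) (Ideal.Quotient.factor_surjective _)
    rwa [Module.support_eq_zeroLocus] at hp
  have hleN : ∀ (q : PrimeSpectrum A), q ∈ Module.support A N →
      ringKrullDim (A ⧸ q.asIdeal) ≤ b := fun q hq => by
    refine le_trans ?_ hdimN
    rw [Module.supportDim_eq_ringKrullDim_quotient_annihilator]
    refine ringKrullDim_le_of_surjective (Ideal.Quotient.factor ?_) (Ideal.Quotient.factor_surjective _)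
    rwa [Module.support_eq_zeroLocus] at hq
  have hmeet : ∀ p : PrimeSpectrum A, p ∈ Module.support A M → Meet (A := A) N (A ⧸ p.asIdeal) := fun p hp => by
    refine meet_comm (hMN.of_le ?_)
    rw [Ideal.annihilator_quotient]
    rwa [Module.support_eq_zeroLocus] at hp
  have inner : ∀ p : PrimeSpectrum A, p ∈ Module.support A M →
      IntMult.chi A (A ⧸ p.asIdeal) N = ∑ᶠ q : {q : PrimeSpectrum A // ringKrullDim (A ⧸ q.asIdeal) = b},
        lenAt q.1 N * IntMult.chi A (A ⧸ p.asIdeal) (A ⧸ q.1.asIdeal) := fun p hp => by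
    rw [KoszulTor.chi_comm, chi_eq_sum_left b (hmeet p hp) hdimN fun q hq hlt => by
      rw [KoszulTor.chi_comm]; exact hvan p q hp hq (hle p hp) hlt.le (Or.inr hlt)]
    exact finsum_congr fun q => by rw [KoszulTor.chi_comm]
  have hz : ∀ (q : PrimeSpectrum A), q ∉ Module.support A N → lenAt q N = 0 := fun q hq => by
    rw [lenAt, Module.notMem_support_iff] at *
    rw [Module.length_eq_zero]
    simp
  rw [chi_eq_sum_left a hMN hdimM fun p hp hlt => ?_]
  · refine finsum_congr fun p => ?_
    by_cases hp : p.1 ∈ Module.support A M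
    · rw [inner p.1 hp]
    · rw [Module.notMem_support_iff] at hp
      rw [lenAt, Module.length_eq_zero]
      simp
  · rw [inner p hp]
    refine finsum_eq_zero_of_forall_eq_zero fun q => ?_
    by_cases hq : q.1 ∈ Module.support A N
    · rw [hvan p q.1 hp hq (hle p hp) (hleN q.1 hq) (Or.inl hlt), mul_zero]
    · rw [hz q.1 hq, zero_mul]

end Groth.Agent.H23.ChiAdd
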