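import Groth.Agent.H23.P1Fam
import Groth.Agent.H23.SpClosed

/-! The fibres over zero and infinity of a closed subscheme of the projective line. -/

set_option autoImplicit false
set_option linter.style.haveILetI false

universe u

open AlgebraicGeometry CategoryTheory CategoryTheory.Limits IsLocalRing
open scoped Pointwise

namespace Groth.Agent.H23.P1Closed

open Groth.Agent P1Sect

theorem isAssociatedPrime_of_push {P Z : Scheme.{u}} [IsLocallyNoetherian P] (ι : Z ⟶ P) [IsClosedImmersion ι]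
    (z : Z) (h : IsAssociatedPrime (maximalIdeal (P.presheaf.stalk (ι z)))
      (((Coh.push ι).obj (Coh.structureModule Z)).presheaf.stalk (ι z))) :
    IsAssociatedPrime (maximalIdeal (Z.presheaf.stalk z)) (Z.presheaf.stalk z) := by
  haveI := LocallyOfFiniteType.isLocallyNoetherian ι
  obtain ⟨-, y, hy⟩ := isAssociatedPrime_iff.1 h
  letI : Module (P.presheaf.stalk (ι z)) ((Coh.structureModule Z).presheaf.stalk z) :=
    Module.compHom _ (ι.stalkMap z).hom
  obtain ⟨e⟩ := SpClosed.nonempty_stalkEquiv ι (Coh.structureModule Z) z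
  obtain ⟨a, ha⟩ := Submodule.mem_span_singleton.1 ((UnitSec.span_one z).ge (Submodule.mem_top : e y ∈ ⊤))
  refine isAssociatedPrime_iff.2 ⟨(maximalIdeal.isMaximal _).isPrime, a, Ideal.ext fun r => ?_⟩
  obtain ⟨s, rfl⟩ := ι.stalkMap_surjective z r
  rw [Submodule.mem_colon_singleton, Submodule.mem_bot, smul_eq_mul]
  have h1 : (ι.stalkMap z).hom s ∈ maximalIdeal (Z.presheaf.stalk z) ↔ s ∈ maximalIdeal (P.presheaf.stalk (ι z)) := by
    rw [mem_maximalIdeal, mem_maximalIdeal, mem_nonunits_iff, mem_nonunits_iff, isUnit_map_iff]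
  refine h1.trans ?_
  rw [hy, Submodule.mem_colon_singleton, Submodule.mem_bot, ← e.map_eq_zero_iff, map_smul, ← ha]
  show (ι.stalkMap z).hom s • a • UnitSec.one z = 0 ↔ _
  rw [← mul_smul]
  exact ⟨fun h => UnitSec.eq_zero_of_smul_one _ h, fun h => by rw [h, zero_smul]⟩

variable {X : Scheme.{u}} {δ : X → ℤ} {δP : ↥(CohB1.ProjSpaceOver 1 X) → ℤ}

theorem map_cap (hX : Cyc.IsSetup X δ) (hP : Cyc.DeltaCompat (CohB1.ProjSpaceOver.toBase 1 X) δP δ) {k : ℤ}
    {Z : Scheme.{u}} (ι : Z ⟶ CohB1.ProjSpaceOver 1 X) [IsClosedImmersion ι] (hZ : ∀ z : Z, δP (ι z) ≤ k + 1)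
    (hZ0 : ∀ z : Z, ι z ∈ Set.range ⇑(P1.sect X 0) ∪ Set.range ⇑(P1.sect X 1) → δP (ι z) ≤ k)
    (hemb : ∀ z : Z, IsAssociatedPrime (maximalIdeal (Z.presheaf.stalk z)) (Z.presheaf.stalk z) →
      ι z ∉ Set.range ⇑(P1.sect X 0) ∪ Set.range ⇑(P1.sect X 1) ∨ δP (ι z) < k)
    (α β : AlgebraicCycle X ℤ) (hα : ⇑α = Cyc.subschemeFun δ k (pullback.snd ι (P1.sect X 0)))
    (hβ : ⇑β = Cyc.subschemeFun δ k (pullback.snd ι (P1.sect X 1))) :
    ∃ D : AlgebraicCycle (CohB1.ProjSpaceOver 1 X) ℤ, Cyc.RatEquivZero δP k D ∧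
      ⇑D = Cyc.c1CapFun δP (Coh.structureModule _)
        (Cyc.sheafFun δP (k + 1) ((Coh.push ι).obj (Coh.structureModule Z))) (P1Fam.csec 0) ∧
      AlgebraicCycle.map (CohB1.ProjSpaceOver.toBase 1 X) δP δ D = α - β := by
  haveI := (SetupLFT.isSetup (CohB1.ProjSpaceOver.toBase 1 X) hX hP).1
  rw [SpClosed.subschemeFun_symm, SpClosed.subschemeFun_eq] at hα hβ
  have hrange : ∀ p, Nontrivial (((Coh.push ι).obj (Coh.structureModule Z)).presheaf.stalk p) → p ∈ Set.range ι :=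
    fun p hp => by
    by_contra hn
    haveI := ClosedPushLen.subsingleton_stalk ι (Coh.structureModule Z) hn
    exact not_subsingleton _ this
  have hsect : ∀ (j : Fin (1 + 1)) (x : X), Nontrivial (((Scheme.Modules.pullback (P1.sect X j)).obj
      ((Coh.push ι).obj (Coh.structureModule Z))).presheaf.stalk x) → P1.sect X j x ∈ Set.range ι := fun j x hn => by
    refine hrange _ (not_subsingleton_iff_nontrivial.1 fun hs => ?_)
    rw [SpGysin.nontrivial_iff_length (A := X.presheaf.stalk x),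
      CapSheaf.length_stalk_pullback_closed _ _ x (ker_sect X j x)] at hn
    exact hn Module.length_eq_zero
  refine P1Fam.map_cap hX hP (SpClosed.isCoh_push ι) (fun p hp => ?_) (fun x hx => ?_) (fun x hx => ?_)
    (fun p hp => ?_) α β hα hβ
  · obtain ⟨z, rfl⟩ := hrange p hp
    exact hZ z
  · obtain ⟨z, hz⟩ := hsect 0 x hx
    have := hZ0 z (Or.inl ⟨x, hz.symm⟩)
    rwa [hz, P1Fam.delta_sect hP] at this
  · obtain ⟨z, hz⟩ := hsect 1 x hx
    have := hZ0 z (Or.inr ⟨x, hz.symm⟩)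
    rwa [hz, P1Fam.delta_sect hP] at this
  · by_cases hn : Nontrivial (((Coh.push ι).obj (Coh.structureModule Z)).presheaf.stalk p)
    · obtain ⟨z, rfl⟩ := hrange p hn
      exact hemb z (isAssociatedPrime_of_push ι z hp)
    · haveI := not_nontrivial_iff_subsingleton.1 hn
      exact absurd hp not_isAssociatedPrime_of_subsingleton

theorem ratEquiv (hX : Cyc.IsSetup X δ) (hP : Cyc.DeltaCompat (CohB1.ProjSpaceOver.toBase 1 X) δP δ) {k : ℤ}
    {Z : Scheme.{u}} (ι : Z ⟶ CohB1.ProjSpaceOver 1 X) [IsClosedImmersion ι] (hZ : ∀ z : Z, δP (ι z) ≤ k + 1)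
    (hZ0 : ∀ z : Z, ι z ∈ Set.range ⇑(P1.sect X 0) ∪ Set.range ⇑(P1.sect X 1) → δP (ι z) ≤ k)
    (hemb : ∀ z : Z, IsAssociatedPrime (maximalIdeal (Z.presheaf.stalk z)) (Z.presheaf.stalk z) →
      ι z ∉ Set.range ⇑(P1.sect X 0) ∪ Set.range ⇑(P1.sect X 1) ∨ δP (ι z) < k)
    (α β : AlgebraicCycle X ℤ) (hα : ⇑α = Cyc.subschemeFun δ k (pullback.snd ι (P1.sect X 0)))
    (hβ : ⇑β = Cyc.subschemeFun δ k (pullback.snd ι (P1.sect X 1))) : Cyc.RatEquiv δ k α β := by
  obtain ⟨D, hrat, -, hmap⟩ := map_cap hX hP ι hZ hZ0 hemb α β hα hβ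
  show Cyc.RatEquivZero δ k (α - β)
  rw [← hmap]
  exact CycLib.ratEquivZero_map _ (SetupLFT.isSetup (CohB1.ProjSpaceOver.toBase 1 X) hX hP) hX hP hrat

theorem eq_genericPoint_of_associated {W : Scheme.{u}} [IsIntegral W] [IsLocallyNoetherian W] {z : W}
    (h : IsAssociatedPrime (maximalIdeal (W.presheaf.stalk z)) (W.presheaf.stalk z)) : z = genericPoint W := by
  obtain ⟨hp, y, hy⟩ := isAssociatedPrime_iff.1 h
  have hy0 : y ≠ 0 := by
    rintro rfl
    exact hp.ne_top (hy.trans (Ideal.ext fun r => by simp [Submodule.mem_colon_singleton]))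
  have hbot : maximalIdeal (W.presheaf.stalk z) = ⊥ := by
    rw [hy]
    refine Ideal.ext fun r => ?_
    rw [Submodule.mem_colon_singleton, Submodule.mem_bot, Ideal.mem_bot, smul_eq_mul, mul_eq_zero, or_iff_left hy0]
  have hg : genericPoint W ⤳ z := (genericPoint_spec W).specializes trivial
  refine (StalkPrimes.primeOf_inj hg (specializes_refl z) ?_).symm
  rw [ZeroSec.primeOf_refl', hbot]
  refine eq_bot_iff.2 fun r hr => ?_
  rw [Ideal.mem_bot]
  by_contra hr0
  refine (CDiv6.mem_primeOf hg r).1 hr ?_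
  exact IsUnit.mk0 _ ((map_ne_zero_iff (algebraMap (W.presheaf.stalk z) W.functionField)
    (IsFractionRing.injective _ _)).2 hr0)

end Groth.Agent.H23.P1Closed
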