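import Groth.Agent.H23.InterSheaf
import Groth.Agent.S2428
import Groth.Agent.H23.FlatShift
import Groth.Agent.ZClosLib.CohDescent

/-!
# Flat pullback of the intersection product of the cycles of two sheaves
-/

set_option autoImplicit false
set_option linter.style.haveILetI false
set_option backward.isDefEq.respectTransparency.types false

universe u

open AlgebraicGeometry CategoryTheory CategoryTheory.Limits IsLocalRing TopologicalSpace

namespace Groth.Agent.H23.InterPull

open Groth.Agent

/-- Flat local base change of the Tor Euler characteristic. -/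
theorem chi_baseChange {A B : Type u} [CommRing A] [IsLocalRing A] [CommRing B] [IsLocalRing B] [Algebra A B]
    [Module.Flat A B] [IsLocalHom (algebraMap A B)] (M N : Type u) [AddCommGroup M] [Module A M] [AddCommGroup N]
    [Module A N] :
    IntMult.chi B (TensorProduct A B M) (TensorProduct A B N) = IntMult.chi A M N *
      ((Module.length B (B ⧸ (maximalIdeal A).map (algebraMap A B))).toNat : ℤ) := by
  rw [IntMult.chi, IntMult.chi, finsum_mul]
  refine finsum_congr fun i => ?_
  obtain ⟨e⟩ := S2428.result A B M N i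
  rw [← e.length_eq, IsLocalRing.length_baseChange A B, ENat.toNat_mul]
  push_cast
  ring

theorem chi_congr_both {A : Type u} [CommRing A] {M M' N N' : Type u} [AddCommGroup M] [Module A M]
    [AddCommGroup M'] [Module A M'] [AddCommGroup N] [Module A N] [AddCommGroup N'] [Module A N']
    (e : M ≃ₗ[A] M') (e' : N ≃ₗ[A] N') : IntMult.chi A M N = IntMult.chi A M' N' := by
  rw [ChiAdd.chi_congr_left e, KoszulTor.chi_comm, ChiAdd.chi_congr_left e', KoszulTor.chi_comm]

variable {X Y : Scheme.{u}}

/-- The Euler characteristic of the stalks of pulled back sheaves. -/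
theorem chi_stalk_pullback (f : X ⟶ Y) [Flat f] (F G : Y.Modules) (x : X) :
    IntMult.chi (X.presheaf.stalk x) (((Scheme.Modules.pullback f).obj F).presheaf.stalk x)
        (((Scheme.Modules.pullback f).obj G).presheaf.stalk x) =
      IntMult.chi (Y.presheaf.stalk (f x)) (F.presheaf.stalk (f x)) (G.presheaf.stalk (f x)) *
        ((Module.length (X.presheaf.stalk x) (X.presheaf.stalk x ⧸ Ideal.map (f.stalkMap x).hom
          (maximalIdeal (Y.presheaf.stalk (f x))))).toNat : ℤ) := by
  have hflat : (f.stalkMap x).hom.Flat := Flat.stalkMap f x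
  have eF := ((KFlatLib.stalkPullbackIso f x).app F).toLinearEquiv
  have eG := ((KFlatLib.stalkPullbackIso f x).app G).toLinearEquiv
  refine (chi_congr_both eF eG).trans ?_
  algebraize [(f.stalkMap x).hom]
  haveI : IsLocalHom (algebraMap (Y.presheaf.stalk (f x)) (X.presheaf.stalk x)) :=
    inferInstanceAs <| IsLocalHom (f.stalkMap x).hom
  exact chi_baseChange (A := Y.presheaf.stalk (f x)) (B := X.presheaf.stalk x)
    ((DerSch.stalkFunctor Y (f x)).obj F) ((DerSch.stalkFunctor Y (f x)).obj G)

variable {K : Type u} [Field K] [IsAlgClosed K] (f : X ⟶ Y) [Flat f] (gX : X ⟶ Spec (CommRingCat.of K))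
  (gY : Y ⟶ Spec (CommRingCat.of K)) [Smooth gX] [IsSeparated gX] [IsIntegral X] [Smooth gY] [IsSeparated gY]
  [IsIntegral Y] {δX : X → ℤ} {δY : Y → ℤ} (hdX : Cyc.IsDimFun X δX) (hdY : Cyc.IsDimFun Y δY)
  (hδX : Cyc.DeltaCompat gX δX (fun _ => 0)) (hδY : Cyc.DeltaCompat gY δY (fun _ => 0))
  {n m : ℤ} (hn : δX (genericPoint X) = n) (hm : δY (genericPoint Y) = m) {c : ℤ} (hc : c = n - m)
  (hle : ∀ x, δX x ≤ δY (f x) + c)
  {F G : Y.Modules} (hF : Coh.IsCoh F) (hG : Coh.IsCoh G) {r s : ℤ}
  (hr : ∀ y : Y, Nontrivial (F.presheaf.stalk y) → δY y ≤ r)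
  (hs : ∀ y : Y, Nontrivial (G.presheaf.stalk y) → δY y ≤ s)
  (hrs : ∀ y : Y, Nontrivial (F.presheaf.stalk y) → Nontrivial (G.presheaf.stalk y) → δY y ≤ r + s - m)

include gX gY hdX hdY hδX hδY hn hm hc hle hF hG hr hs hrs in
theorem pullFun_interProd :
    IntMult.IntersectProperly δX n (Cyc.sheafFun δX (r + c) ((Scheme.Modules.pullback f).obj F))
        (Cyc.sheafFun δX (s + c) ((Scheme.Modules.pullback f).obj G)) ∧
      Cyc.pullFun f δX δY c (IntMult.interProd δY m (Cyc.sheafFun δY r F) (Cyc.sheafFun δY s G)) =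
        IntMult.interProd δX n (Cyc.sheafFun δX (r + c) ((Scheme.Modules.pullback f).obj F))
          (Cyc.sheafFun δX (s + c) ((Scheme.Modules.pullback f).obj G)) := by
  haveI : IsLocallyNoetherian X := LocallyOfFiniteType.isLocallyNoetherian gX
  haveI : IsLocallyNoetherian Y := LocallyOfFiniteType.isLocallyNoetherian gY
  have hF' : Coh.IsCoh ((Scheme.Modules.pullback f).obj F) := ZClosLib.isCoh_pullback f hF
  have hG' : Coh.IsCoh ((Scheme.Modules.pullback f).obj G) := ZClosLib.isCoh_pullback f hG
  have hr' := (FlatShift.sheafFun_pullback f δX δY hle r F hr).1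
  have hs' := (FlatShift.sheafFun_pullback f δX δY hle s G hs).1
  have hrs' : ∀ x : X, Nontrivial (((Scheme.Modules.pullback f).obj F).presheaf.stalk x) →
      Nontrivial (((Scheme.Modules.pullback f).obj G).presheaf.stalk x) → δX x ≤ (r + c) + (s + c) - n :=
    fun x h1 h2 => by
      have := hrs (f x) (FlatShift.nontrivial_of_pullback f F x h1) (FlatShift.nontrivial_of_pullback f G x h2)
      have := hle x
      omega
  refine ⟨InterSheaf.intersectProperly hF' hG' hrs', funext fun x => ?_⟩
  rw [InterSheaf.interProd_sheafFun gX hdX hδX hn hF' hG' hr' hs' hrs' x, Cyc.pullFun,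
    InterSheaf.interProd_sheafFun gY hdY hδY hm hF hG hr hs hrs (f x), chi_stalk_pullback]
  rcases subsingleton_or_nontrivial (F.presheaf.stalk (f x)) with h0 | h1
  · rw [ChiAdd.chi_eq_zero_of_subsingleton]
    simp
  rcases subsingleton_or_nontrivial (G.presheaf.stalk (f x)) with h0 | h2
  · rw [KoszulTor.chi_comm, ChiAdd.chi_eq_zero_of_subsingleton]
    simp
  have := hrs (f x) h1 h2
  have := hle x
  split_ifs <;> first | rfl | (exfalso; omega) | simp

end Groth.Agent.H23.InterPull
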