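import Groth.Agent.H23.P1Charts
import Mathlib.AlgebraicGeometry.Fiber
import Mathlib.AlgebraicGeometry.Morphisms.UniversallyOpen
import Mathlib.AlgebraicGeometry.Morphisms.Finite
import Mathlib.AlgebraicGeometry.Morphisms.FlatRank
import Mathlib.AlgebraicGeometry.Morphisms.QuasiFinite

/-! Clopen subsets and the fibres of the projective line; components of finite locally free covers of `P^1_S`. -/

universe u

open CategoryTheory CategoryTheory.Limits AlgebraicGeometry Topology

namespace Groth.Agent.H23.P1Conn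

variable {S : Scheme.{u}}

theorem isPullback_toP1 {X Y : Scheme.{u}} (f : X ⟶ Y) :
    IsPullback (P1.toP1 f) (CohB1.ProjSpaceOver.toBase 1 X) (CohB1.ProjSpaceOver.toBase 1 Y) f := by
  refine IsPullback.of_right (h₁₂ := pullback.fst _ _) (h₂₂ := specULiftZIsTerminal.from Y) ?_ ?_
    (IsPullback.of_hasPullback (CohB1.ProjSpace.toSpec 1 (ULift.{u} ℤ)) (specULiftZIsTerminal.from Y))
  · have h1 : P1.toP1 f ≫ pullback.fst _ _ = pullback.fst _ _ :=
      (pullback.lift_fst _ _ _).trans (Category.comp_id _)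
    exact IsPullback.of_iso (IsPullback.of_hasPullback (CohB1.ProjSpace.toSpec 1 (ULift.{u} ℤ)) (specULiftZIsTerminal.from X))
      (Iso.refl _) (Iso.refl _) (Iso.refl _) (Iso.refl _)
      (by rw [Iso.refl_hom, Iso.refl_hom, Category.comp_id]; exact h1.symm.trans (Category.id_comp _).symm)
      (by simp [CohB1.ProjSpaceOver.toBase]; rfl) (by simp) (specULiftZIsTerminal.hom_ext _ _)
  · exact pullback.lift_snd _ _ _

theorem sect_toBase (i : Fin (1 + 1)) : P1.sect S i ≫ CohB1.ProjSpaceOver.toBase 1 S = 𝟙 S :=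
  pullback.lift_snd _ _ _

theorem isPreconnected_fibre (s : S) : _root_.IsPreconnected (CohB1.ProjSpaceOver.toBase 1 S ⁻¹' {s}) := by
  haveI : IsIntegral (CohB1.ProjSpaceOver 1 (Spec (S.residueField s))) :=
    inferInstanceAs (IsIntegral (CohB1.ProjSpaceOver 1 (Spec (CommRingCat.of (S.residueField s)))))
  have hr : CohB1.ProjSpaceOver.toBase 1 S ⁻¹' {s} = Set.range (P1.toP1 (S.fromSpecResidueField s)) := by
    have h := isPullback_toP1 (S.fromSpecResidueField s)
    ext q
    constructor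
    · intro hq
      obtain ⟨z, hz, -⟩ := Scheme.exists_preimage_of_isPullback h q
        (IsLocalRing.closedPoint (S.residueField s))
        ((Set.mem_singleton_iff.mp hq).trans (Scheme.fromSpecResidueField_apply s _).symm)
      exact ⟨z, hz⟩
    · rintro ⟨z, rfl⟩
      rw [Set.mem_preimage, Set.mem_singleton_iff, ← Scheme.Hom.comp_apply, h.w, Scheme.Hom.comp_apply]
      exact Scheme.fromSpecResidueField_apply s _
  rw [hr]
  exact isPreconnected_range (P1.toP1 (S.fromSpecResidueField s)).continuous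

theorem mem_iff_sect_mem {A : Set (CohB1.ProjSpaceOver 1 S)} (hA : IsClopen A) (i : Fin (1 + 1))
    (q : CohB1.ProjSpaceOver 1 S) : q ∈ A ↔ P1.sect S i (CohB1.ProjSpaceOver.toBase 1 S q) ∈ A := by
  set s := CohB1.ProjSpaceOver.toBase 1 S q
  have h1 : P1.sect S i s ∈ CohB1.ProjSpaceOver.toBase 1 S ⁻¹' {s} := by
    rw [Set.mem_preimage, Set.mem_singleton_iff, ← Scheme.Hom.comp_apply, sect_toBase]; rfl
  constructor <;> intro h
  · exact (isPreconnected_fibre s).subset_isClopen hA ⟨q, rfl, h⟩ h1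
  · exact (isPreconnected_fibre s).subset_isClopen hA ⟨_, h1, h⟩ rfl

theorem clopen_eq_univ [PreconnectedSpace S] {A : Set (CohB1.ProjSpaceOver 1 S)} (hA : IsClopen A) (hne : A.Nonempty) :
    A = Set.univ := by
  have hB : IsClopen ((P1.sect S 0) ⁻¹' A) := hA.preimage (P1.sect S 0).continuous
  obtain ⟨q, hq⟩ := hne
  have := hB.eq_univ ⟨_, (mem_iff_sect_mem hA 0 q).mp hq⟩
  exact Set.eq_univ_of_forall fun q => (mem_iff_sect_mem hA 0 q).mpr (this.ge (Set.mem_univ (CohB1.ProjSpaceOver.toBase 1 S q)))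

variable {X : Scheme.{u}} (f : X ⟶ CohB1.ProjSpaceOver 1 S) [IsFinite f] [Flat f] [LocallyOfFinitePresentation f]

theorem isClopen_image {W : Set X} (hW : IsClopen W) : IsClopen (f '' W) :=
  ⟨f.isClosedMap W hW.1, f.isOpenMap W hW.2⟩

theorem eq_univ_of_zero_section {W : Set X} (hW : IsClopen W)
    (h0 : ∀ x : X, f x ∈ Set.range (P1.sect S 0) → x ∈ W) : W = Set.univ := by
  refine Set.eq_univ_of_forall fun x => ?_
  by_contra hx
  obtain ⟨y, hy, hy'⟩ := (mem_iff_sect_mem (isClopen_image f hW.compl) 0 (f x)).mp ⟨x, hx, rfl⟩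
  exact hy (h0 y ⟨_, hy'.symm⟩)

theorem exists_mem_connectedComponent [PreconnectedSpace S] (x : X) (p : CohB1.ProjSpaceOver 1 S) :
    ∃ y ∈ connectedComponent x, f y = p := by
  classical
  have hfin : (f ⁻¹' {p}).Finite := f.finite_preimage_singleton p
  let P : ℕ → Prop := fun n => ∃ W : Set X, IsClopen W ∧ x ∈ W ∧ (W ∩ f ⁻¹' {p}).ncard = n
  have hP : ∃ n, P n := ⟨_, Set.univ, isClopen_univ, trivial, rfl⟩
  obtain ⟨W, hW, hxW, hn⟩ := Nat.find_spec hP
  have hsurj : ∀ V : Set X, IsClopen V → V.Nonempty → ∃ y ∈ V, f y = p := fun V hV hne =>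
    (clopen_eq_univ (isClopen_image f hV) (hne.image f)).ge (Set.mem_univ p)
  have hconn : _root_.IsPreconnected W := by
    rw [isPreconnected_closed_iff]
    intro t t' ht ht' hsub hWt hWt'
    by_contra hempty
    rw [Set.not_nonempty_iff_eq_empty] at hempty
    have hA : IsClopen (W ∩ t) := by
      refine ⟨hW.1.inter ht, ?_⟩
      rw [show W ∩ t = W ∩ t'ᶜ by
        ext z
        refine ⟨fun h => ⟨h.1, fun h' => (Set.ext_iff.mp hempty z).mp ⟨h.1, h.2, h'⟩⟩, fun h => ⟨h.1, (hsub h.1).resolve_right h.2⟩⟩]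
      exact hW.2.inter ht'.isOpen_compl
    have hB : IsClopen (W ∩ t') := by
      refine ⟨hW.1.inter ht', ?_⟩
      rw [show W ∩ t' = W ∩ tᶜ by
        ext z
        refine ⟨fun h => ⟨h.1, fun h' => (Set.ext_iff.mp hempty z).mp ⟨h.1, h', h.2⟩⟩, fun h => ⟨h.1, (hsub h.1).resolve_left h.2⟩⟩]
      exact hW.2.inter ht.isOpen_compl
    have key : ∀ A B : Set X, IsClopen A → IsClopen B → A ⊆ W → B ⊆ W → B.Nonempty → x ∈ A →
        (∀ z, z ∈ A → z ∈ B → False) → False := by
      intro A B hA hB hAW hBW hBne hxA hdis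
      obtain ⟨y, hyB, hyp⟩ := hsurj B hB hBne
      have hlt : (A ∩ f ⁻¹' {p}).ncard < (W ∩ f ⁻¹' {p}).ncard :=
        Set.ncard_lt_ncard ⟨Set.inter_subset_inter_left _ hAW, fun hle => hdis y (hle ⟨hBW hyB, hyp⟩).1 hyB⟩
          (hfin.inter_of_right W)
      exact Nat.find_min hP (hn ▸ hlt) ⟨A, hA, hxA, rfl⟩
    have hdis : ∀ z, z ∈ W ∩ t → z ∈ W ∩ t' → False := fun z h h' =>
      (Set.ext_iff.mp hempty z).mp ⟨h.1, h.2, h'.2⟩
    rcases hsub hxW with hx | hx
    · exact key _ _ hA hB Set.inter_subset_left Set.inter_subset_left hWt' ⟨hxW, hx⟩ hdis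
    · exact key _ _ hB hA Set.inter_subset_left Set.inter_subset_left hWt ⟨hxW, hx⟩ fun z h h' => hdis z h' h
  obtain ⟨y, hy, hyp⟩ := hsurj W hW ⟨x, hxW⟩
  exact ⟨y, hconn.subset_connectedComponent hxW hy, hyp⟩

theorem finrank_eq {T : Scheme.{u}} (g : T ⟶ X) [IsFinite g] [Flat g] [LocallyOfFinitePresentation g] (r : ℕ)
    (h : ∀ x : X, f x ∈ Set.range (P1.sect S 0) → g.finrank x = r) (x : X) : g.finrank x = r := by
  have hW : IsClopen {z : X | g.finrank z = r} := (Scheme.Hom.isLocallyConstant_finrank g).isClopen_fiber r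
  exact (eq_univ_of_zero_section f hW h).ge (Set.mem_univ x)

end Groth.Agent.H23.P1Conn
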