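import Groth.Agent.H23.P1Fam
import Groth.Agent.H23.P1Conn
import Groth.Agent.H23.InterSheaf
import Groth.Agent.H23.InterPull
import Groth.Agent.H23.InterBilin
import Groth.Agent.H23.GraphFlat
import Groth.Agent.H23.RigidGamma
import Groth.Agent.PnLight.Chart
import Groth.Agent.PnCoh.Chow.Proper

/-!
# The intersection product with the sections of the projective line
-/

set_option autoImplicit false
set_option linter.style.haveILetI false
set_option backward.isDefEq.respectTransparency.types false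

universe u

open AlgebraicGeometry CategoryTheory CategoryTheory.Limits IsLocalRing TopologicalSpace
open scoped Pointwise

namespace Groth.Agent.H23.P1Proper

open Groth.Agent

instance smooth_toBase (X : Scheme.{u}) : Smooth (CohB1.ProjSpaceOver.toBase 1 X) := by
  haveI : Smooth (CohB1.ProjSpace.toSpec 1 (ULift.{u} ℤ)) := SmoothOfRelativeDimension.smooth 1 _
  exact MorphismProperty.pullback_snd _ _ inferInstance

theorem isIrreducible_fibre {X : Scheme.{u}} (s : X) :
    IsIrreducible (CohB1.ProjSpaceOver.toBase 1 X ⁻¹' {s}) := by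
  haveI : IsIntegral (CohB1.ProjSpaceOver 1 (Spec (X.residueField s))) :=
    inferInstanceAs (IsIntegral (CohB1.ProjSpaceOver 1 (Spec (CommRingCat.of (X.residueField s)))))
  have hr : CohB1.ProjSpaceOver.toBase 1 X ⁻¹' {s} = Set.range (P1.toP1 (X.fromSpecResidueField s)) := by
    have h := P1Conn.isPullback_toP1 (X.fromSpecResidueField s)
    ext q
    constructor
    · intro hq
      obtain ⟨z, hz, -⟩ := Scheme.exists_preimage_of_isPullback h q
        (IsLocalRing.closedPoint (X.residueField s))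
        ((Set.mem_singleton_iff.mp hq).trans (Scheme.fromSpecResidueField_apply s _).symm)
      exact ⟨z, hz⟩
    · rintro ⟨z, rfl⟩
      rw [Set.mem_preimage, Set.mem_singleton_iff, ← Scheme.Hom.comp_apply, h.w, Scheme.Hom.comp_apply]
      exact Scheme.fromSpecResidueField_apply s _
  rw [hr, ← Set.image_univ]
  exact (IrreducibleSpace.isIrreducible_univ _).image _ (P1.toP1 (X.fromSpecResidueField s)).continuous.continuousOn

instance irreducibleSpace (X : Scheme.{u}) [IrreducibleSpace X] :
    IrreducibleSpace (CohB1.ProjSpaceOver 1 X) := by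
  haveI : Nonempty (CohB1.ProjSpaceOver 1 X) := ⟨P1.sect X 0 (genericPoint X)⟩
  haveI : PreirreducibleSpace (CohB1.ProjSpaceOver 1 X) := by
    refine ⟨fun U V hU hV hU' hV' => ?_⟩
    rw [Set.univ_inter] at hU' hV' ⊢
    have ho := (CohB1.ProjSpaceOver.toBase 1 X).isOpenMap
    obtain ⟨-, ⟨u, hu, rfl⟩, ⟨v, hv, hvu⟩⟩ :=
      nonempty_preirreducible_inter (ho U hU) (ho V hV) (hU'.image _) (hV'.image _)
    obtain ⟨z, -, hz⟩ := (isIrreducible_fibre (CohB1.ProjSpaceOver.toBase 1 X u)).2 U V hU hV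
      ⟨u, rfl, hu⟩ ⟨v, hvu, hv⟩
    exact ⟨z, hz⟩
  exact ⟨inferInstance⟩

variable {K : Type u} [Field K] {X : Scheme.{u}}

theorem isIntegral (f : X ⟶ Spec (CommRingCat.of K)) [Smooth f] [IrreducibleSpace X] :
    IsIntegral (CohB1.ProjSpaceOver 1 X) := by
  haveI := RigidGamma.isReduced_of_smooth (CohB1.ProjSpaceOver.toBase 1 X ≫ f)
  exact isIntegral_of_irreducibleSpace_of_isReduced _

variable (f : X ⟶ Spec (CommRingCat.of K)) {δ : X → ℤ} {δP : ↥(CohB1.ProjSpaceOver 1 X) → ℤ}
  (hδ : Cyc.DeltaCompat f δ (fun _ => 0)) (hP : Cyc.DeltaCompat (CohB1.ProjSpaceOver.toBase 1 X) δP δ)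

include hδ hP in
theorem deltaCompat_comp [LocallyOfFiniteType f] :
    Cyc.DeltaCompat (CohB1.ProjSpaceOver.toBase 1 X ≫ f) δP (fun _ => 0) := by
  have e : δP = fun p => (0 : ℤ) + (FibDim.rd (CohB1.ProjSpaceOver.toBase 1 X ≫ f) p : ℤ) := funext fun p => by
    rw [CycLib.deltaCompat_eq _ hP p, CycLib.deltaCompat_eq f hδ, CycLib.rd_comp]
    push_cast
    ring
  rw [e]
  exact ChowDesc.deltaCompat_rd (CohB1.ProjSpaceOver.toBase 1 X ≫ f) fun _ => 0

include f hδ hP in
/-- The dimension of the projective line over a variety. -/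
theorem delta_generic [Smooth f] [IsIntegral X] (hX : Cyc.IsSetup X δ) {n : ℤ} (hn : δ (genericPoint X) = n) :
    δP (genericPoint (CohB1.ProjSpaceOver 1 X)) = n + 1 := by
  haveI := hX.1
  haveI := isIntegral f
  have hPs := SetupLFT.isSetup _ hX hP
  haveI := hPs.1
  set η := genericPoint (CohB1.ProjSpaceOver 1 X)
  have hηs := genericPoint_specializes (P1.sect X 0 (genericPoint X))
  have hne : η ≠ P1.sect X 0 (genericPoint X) := fun h => P1Fam.sect_ne 0 (genericPoint X) (by
    rw [← h]
    exact ((genericPoint_spec _).mem_open_set_iff (P1Sect.V X (1 - 0)).2).2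
      ⟨P1.sect X 1 (genericPoint X), trivial, P1Sect.sect_mem X 1 (genericPoint X)⟩)
  have h1 := CycLib.delta_lt hPs.2.2 hηs hne
  rw [P1Fam.delta_sect hP, hn] at h1
  obtain ⟨d, hd, hd'⟩ := PointPrime.dim_stalk (CohB1.ProjSpaceOver.toBase 1 X ≫ f) (deltaCompat_comp f hδ hP) rfl
    (P1.sect X 0 (genericPoint X))
  rw [P1Fam.delta_sect hP, hn] at hd'
  haveI := GrpSchLib.isRegularLocalRing_stalk_of_smooth (CohB1.ProjSpaceOver.toBase 1 X ≫ f)
    (P1.sect X 0 (genericPoint X))
  have hmax : maximalIdeal ((CohB1.ProjSpaceOver 1 X).presheaf.stalk (P1.sect X 0 (genericPoint X))) =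
      Ideal.span {(CohB1.ProjSpaceOver 1 X).presheaf.germ _ _ (P1Sect.sect_mem X 0 (genericPoint X))
        (P1Sect.c X 0)} := by
    rw [← P1Sect.ker_sect]
    refine (IsLocalRing.eq_maximalIdeal ?_).symm
    letI : Field (X.presheaf.stalk (genericPoint X)) := inferInstanceAs (Field X.functionField)
    exact RingHom.ker_isMaximal_of_surjective _ ((P1.sect X 0).stalkMap_surjective _)
  have h2 : d ≤ 1 := by
    have h3 := IsRegularLocalRing.spanFinrank_maximalIdeal
      (R := (CohB1.ProjSpaceOver 1 X).presheaf.stalk (P1.sect X 0 (genericPoint X)))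
    rw [hd, hmax] at h3
    have h4 : d = (Ideal.span {(CohB1.ProjSpaceOver 1 X).presheaf.germ _ _ (P1Sect.sect_mem X 0 (genericPoint X))
        (P1Sect.c X 0)}).spanFinrank := by exact_mod_cast h3.symm
    rw [h4]
    refine (Submodule.spanFinrank_span_le_ncard_of_finite (Set.finite_singleton _)).trans ?_
    rw [Set.ncard_singleton]
  change (d : ℤ) = δP η - n at hd'
  have e : δP η = δP (genericPoint (CohB1.ProjSpaceOver 1 X)) := rfl
  omega

theorem chi_span_singleton {A : Type u} [CommRing A] [IsNoetherianRing A] [IsLocalRing A] (t : A)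
    (ht : IsSMulRegular A t) (M : Type u) [AddCommGroup M] [Module A M] [Module.Finite A M] (hM : IsSMulRegular M t) :
    IntMult.chi A (A ⧸ Ideal.span {t}) M = ((Module.length A (M ⧸ t • (⊤ : Submodule A M))).toNat : ℤ) := by
  have hl : RingTheory.Sequence.IsWeaklyRegular A [t] := by simpa using ht
  rw [show Ideal.span {t} = Ideal.ofList [t] from (Ideal.ofList_singleton t).symm, KoszulTor.chi_quot_eq [t] hl M,
    GrLib8.KChi.chi_cons_of_regular (M' := ModuleCat.of A (M ⧸ t • (⊤ : Submodule A M)))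
      (ModuleCat.ofHom (t • (⊤ : Submodule A M)).mkQ) (Submodule.mkQ_surjective _)
      (fun z hz => hM.right_eq_zero_of_smul hz) fun z => ?_, GrLib8.KChi.chi_nil_eq]
  · rfl
  · show Submodule.Quotient.mk z = 0 ↔ _
    rw [Submodule.Quotient.mk_eq_zero, Submodule.mem_smul_pointwise_iff_exists]
    simp

section Section

variable [IsAlgClosed K] [Smooth f] [IsSeparated f] [IsIntegral X] (hX : Cyc.IsSetup X δ) {n : ℤ}
  (hn : δ (genericPoint X) = n)

include f hδ hP hX hn in
/-- Meeting a prime cycle with a section is capping with the coordinate. -/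
theorem interProd_sect {k : ℤ} {ξ : CohB1.ProjSpaceOver 1 X} (hξ : δP ξ = k + 1)
    (h0 : ξ ∉ Set.range (P1.sect X 0)) (h1 : ξ ∉ Set.range (P1.sect X 1)) (i : Fin (1 + 1))
    (p : CohB1.ProjSpaceOver 1 X) :
    (p ∈ Set.range (P1.sect X i) →
      IntMult.interProd δP (n + 1) (Set.indicator {ξ} 1) (Set.indicator {P1.sect X i (genericPoint X)} 1) p =
        Cyc.c1CapFun δP (Coh.structureModule _) (Set.indicator {ξ} 1) (P1Fam.csec i) p) ∧
      (p ∉ Set.range (P1.sect X i) →
        IntMult.interProd δP (n + 1) (Set.indicator {ξ} 1) (Set.indicator {P1.sect X i (genericPoint X)} 1) p = 0 ∧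
          (p ∈ P1Sect.V X i →
            Cyc.c1CapFun δP (Coh.structureModule _) (Set.indicator {ξ} 1) (P1Fam.csec i) p = 0)) := by
  classical
  haveI := hX.1
  haveI := isIntegral f
  have hPs := SetupLFT.isSetup _ hX hP
  haveI := hPs.1
  have hdP := hPs.2.2
  haveI : IsSeparated (CohB1.ProjSpaceOver.toBase 1 X ≫ f) := inferInstance
  let F := Cyc.closureStructureSheaf ξ
  let G := (Coh.push (P1.sect X i)).obj (Coh.structureModule X)
  have hF : Coh.IsCoh F := SkyPoint.isCoh_closure ξ
  have hG : Coh.IsCoh G := SpClosed.isCoh_push (P1.sect X i)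
  have hFξ : ∀ q, Nontrivial (F.presheaf.stalk q) → ξ ⤳ q := fun q h => SkyPoint.specializes_of_nontrivial_closure h
  have hGr : ∀ q, Nontrivial (G.presheaf.stalk q) → q ∈ Set.range (P1.sect X i) := fun q h => by_contra fun hq =>
    not_subsingleton_iff_nontrivial.2 h (ClosedPushLen.subsingleton_stalk _ _ hq)
  have hIG : Set.indicator {P1.sect X i (genericPoint X)} 1 = Cyc.sheafFun δP n G :=
    (GraphFlat.sheafFun_graph (P1.sect X i) hX.2.2 (funext fun x => (P1Fam.delta_sect hP i x).symm) hn).symm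
  have hIF : Set.indicator {ξ} 1 = Cyc.sheafFun δP (k + 1) F := by rw [← hξ, InterBilin.sheafFun_closure hdP]
  have hni : ξ ∉ Set.range (P1.sect X i) := by fin_cases i <;> assumption
  have hmeet : ∀ q, Nontrivial (F.presheaf.stalk q) → Nontrivial (G.presheaf.stalk q) → δP q ≤ k := fun q a b => by
    have := CycLib.delta_lt hdP (hFξ q a) fun e => hni (e ▸ hGr q b)
    omega
  have hi : ∀ (j : Fin (1 + 1)) (x : X),
      Nontrivial (((Scheme.Modules.pullback (P1.sect X j)).obj F).presheaf.stalk x) → δ x ≤ k := by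
    intro j x hx
    have hn' : Nontrivial (F.presheaf.stalk (P1.sect X j x)) := by
      refine not_subsingleton_iff_nontrivial.1 fun hs => ?_
      rw [SpGysin.nontrivial_iff_length (A := X.presheaf.stalk x),
        CapSheaf.length_stalk_pullback_closed _ _ x (P1Sect.ker_sect X j x)] at hx
      exact hx Module.length_eq_zero
    have := CycLib.delta_lt hdP (hFξ _ hn') fun e => by
      fin_cases j
      · exact h0 ⟨x, e.symm⟩
      · exact h1 ⟨x, e.symm⟩
    rw [P1Fam.delta_sect hP] at this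
    omega
  have hreg : ∀ (q : CohB1.ProjSpaceOver 1 X) (t : (CohB1.ProjSpaceOver 1 X).presheaf.stalk q) (h : ξ ⤳ q),
      t ∉ (CDiv6.primeOf h).asIdeal → IsSMulRegular (F.presheaf.stalk q) t := fun q t h ht => by
    obtain ⟨z, rfl⟩ := (SkyPoint.range_ptIdeal ξ).ge (specializes_iff_mem_closure.1 h)
    obtain ⟨e⟩ := SpClosed.nonempty_quotEquiv (IntMult.ptIdeal ξ).subschemeι z
    refine ((e.trans (Submodule.quotEquivOfEq _ _ ((MultCM.ker_stalkMap_subschemeι _ z).trans
      (PointPrime.stalkIdeal_ptIdeal h)))).isSMulRegular_congr t).2 (IsSMulRegular.of_right_eq_zero_of_smul fun y hy => ?_)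
    obtain ⟨y, rfl⟩ := Ideal.Quotient.mk_surjective y
    rw [Algebra.smul_def, Ideal.Quotient.algebraMap_eq, ← map_mul, Ideal.Quotient.eq_zero_iff_mem] at hy
    exact Ideal.Quotient.eq_zero_iff_mem.2 (((CDiv6.primeOf h).2.mem_or_mem hy).resolve_left ht)
  have hemb : ∀ q : ↥(CohB1.ProjSpaceOver 1 X),
      IsAssociatedPrime (maximalIdeal ((CohB1.ProjSpaceOver 1 X).presheaf.stalk q)) (F.presheaf.stalk q) →
        q ∉ Set.range ⇑(P1.sect X 0) ∪ Set.range ⇑(P1.sect X 1) ∨ δP q < k := fun q hq => by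
    refine Or.inl ?_
    have hn' : Nontrivial (F.presheaf.stalk q) := by
      obtain ⟨-, y, hy⟩ := (isAssociatedPrime_iff).1 hq
      refine nontrivial_of_ne y 0 fun h => (maximalIdeal.isMaximal ((CohB1.ProjSpaceOver 1 X).presheaf.stalk q)).ne_top ?_
      rw [hy, h]
      exact eq_top_iff.2 fun a _ => Submodule.mem_colon_singleton.2 (by simp)
    have hs := hFξ q hn'
    by_contra hc
    have hne : ξ ≠ q := fun e => by
      rcases hc with hc | hc
      · exact h0 (e ▸ hc)
      · exact h1 (e ▸ hc)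
    obtain ⟨t, htm, htp⟩ := SetLike.not_le_iff_exists.1 fun hle : maximalIdeal _ ≤ (CDiv6.primeOf hs).asIdeal =>
      hne (StalkPrimes.primeOf_inj hs specializes_rfl ((le_antisymm
        (IsLocalRing.le_maximalIdeal (CDiv6.primeOf hs).2.ne_top) hle).trans (ZeroSec.primeOf_refl' _).symm))
    obtain ⟨hP', y, hy⟩ := (isAssociatedPrime_iff).1 hq
    have hy0 : y = 0 := (hreg q t hs htp).right_eq_zero_of_smul (by
      have := hy.le htm
      rwa [Submodule.mem_colon_singleton, Submodule.mem_bot] at this)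
    refine hP'.ne_top ?_
    rw [hy, hy0]
    exact eq_top_iff.2 fun a _ => Submodule.mem_colon_singleton.2 (by simp)
  have hFdim : ∀ q, Nontrivial (F.presheaf.stalk q) → δP q ≤ k + 1 := fun q h => hξ ▸ CycLib.delta_le hdP (hFξ q h)
  have hprod := InterSheaf.interProd_sheafFun (CohB1.ProjSpaceOver.toBase 1 X ≫ f) hdP (deltaCompat_comp f hδ hP)
    (delta_generic f hδ hP hX hn) hF hG (r := k + 1) (s := n) hFdim
    (fun q h => by
      obtain ⟨x, rfl⟩ := hGr q h
      rw [P1Fam.delta_sect hP]
      exact hn ▸ CycLib.delta_le hX.2.2 (genericPoint_specializes x))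
    (fun q a b => by have := hmeet q a b; omega) p
  rw [← hIF, ← hIG, show k + 1 + n - (n + 1) = k by omega] at hprod
  refine ⟨fun hp => ?_, fun hp => ⟨?_, fun hpV => ?_⟩⟩
  · obtain ⟨x, rfl⟩ := hp
    rw [hprod]
    by_cases hk : δP (P1.sect X i x) = k
    swap
    · rw [if_neg hk]
      refine (GysinLib.c1CapFun_degree (k := k + 1) _ (fun q hq => ?_) (P1Fam.csec i) (by omega)).symm
      exact Set.indicator_of_notMem (fun h => hq (by rw [Set.mem_singleton_iff.1 h, hξ])) _
    rw [if_pos hk, hIF, P1Fam.cap_eq hF hdP hP hFdim hi hemb i (P1Sect.sect_mem X i x) hk]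
    obtain ⟨eG⟩ := SpClosed.nonempty_quotEquiv (P1.sect X i) x
    haveI := GrpSchLib.isRegularLocalRing_stalk_of_smooth (CohB1.ProjSpaceOver.toBase 1 X ≫ f) (P1.sect X i x)
    haveI := QCoh.finite_stalk_of_isFT hF.1 hF.2 (P1.sect X i x)
    rw [KoszulTor.chi_comm, InterPull.chi_congr_both (eG.trans (Submodule.quotEquivOfEq _ _
      (P1Sect.ker_sect X i x))) (LinearEquiv.refl _ (F.presheaf.stalk (P1.sect X i x)))]
    rcases subsingleton_or_nontrivial (F.presheaf.stalk (P1.sect X i x)) with hs | hs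
    · rw [KoszulTor.chi_comm, ChiAdd.chi_eq_zero_of_subsingleton, Module.length_eq_zero]
      simp
    have hspec := hFξ _ hs
    have htξ : (CohB1.ProjSpaceOver 1 X).presheaf.germ _ (P1.sect X i x) (P1Sect.sect_mem X i x) (P1Sect.c X i) ∉
        (CDiv6.primeOf hspec).asIdeal := fun hmem => by
      refine hni ((P1Sect.range_sect X i).ge ⟨hspec.mem_open (P1Sect.V X i).2 (P1Sect.sect_mem X i x), ?_⟩)
      have := (CDiv6.mem_primeOf hspec _).1 hmem
      rwa [TopCat.Presheaf.germ_stalkSpecializes_apply] at this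
    exact chi_span_singleton _ (IsSMulRegular.of_right_eq_zero_of_smul fun y hy => by
      rcases mul_eq_zero.1 hy with h | h
      · exact absurd (h ▸ zero_mem _) htξ
      · exact h) _ (hreg _ _ hspec htξ)
  · rw [hprod]
    haveI : Subsingleton (G.presheaf.stalk p) := not_nontrivial_iff_subsingleton.1 fun h => hp (hGr p h)
    rw [KoszulTor.chi_comm, ChiAdd.chi_eq_zero_of_subsingleton, ite_self]
  · rw [hIF]
    by_cases hk : δP p = k
    swap
    · refine GysinLib.c1CapFun_degree (k := k + 1) _ (fun q hq => ?_) _ (by omega)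
      exact if_neg hq
    refine (P1Fam.cap_eq hF hdP hP hFdim hi hemb i hpV hk).trans ?_
    have hu : IsUnit ((CohB1.ProjSpaceOver 1 X).presheaf.germ _ p hpV (P1Sect.c X i)) :=
      not_not.1 fun hu => hp ((P1Sect.range_sect X i).ge ⟨hpV, hu⟩)
    haveI : Subsingleton (F.presheaf.stalk p ⧸ ((CohB1.ProjSpaceOver 1 X).presheaf.germ _ p hpV (P1Sect.c X i)) •
        (⊤ : Submodule ((CohB1.ProjSpaceOver 1 X).presheaf.stalk p) (F.presheaf.stalk p))) := by
      rw [Submodule.Quotient.subsingleton_iff, ← Submodule.ideal_span_singleton_smul,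
        Ideal.span_singleton_eq_top.2 hu, Submodule.top_smul]
    rw [Module.length_eq_zero]
    rfl

end Section

end Groth.Agent.H23.P1Proper
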