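import Groth.Agent.H23.AssocAlg
import Groth.Agent.H23.InterBilin

/-!
# Associativity of the intersection product of three subvarieties
-/

set_option autoImplicit false
set_option linter.style.haveILetI false
set_option backward.isDefEq.respectTransparency.types false

universe u

open AlgebraicGeometry CategoryTheory CategoryTheory.Limits IsLocalRing TopologicalSpace
open scoped TensorProduct

namespace Groth.Agent.H23.InterAssoc

open Groth.Agent CDiv6 ChiAdd

section Local

variable {A : Type u} [CommRing A]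

/-- The length at a prime, computed in any localisation at it. -/
theorem lenAt_eq (p : PrimeSpectrum A) (S : Type u) [CommRing S] [Algebra A S] [IsLocalization.AtPrime S p.asIdeal]
    (T : Type u) [AddCommGroup T] [Module A T] :
    lenAt p T = ((Module.length S (S ⊗[A] T)).toNat : ℤ) := by
  let L := Localization.AtPrime p.asIdeal
  let e : L ≃ₐ[A] S := IsLocalization.algEquiv p.asIdeal.primeCompl L S
  letI : Algebra L S := e.toAlgHom.toRingHom.toAlgebra
  haveI : IsScalarTower A L S := IsScalarTower.of_algebraMap_eq fun a => (e.commutes a).symm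
  let eL : L ≃ₗ[L] S := { e.toRingEquiv.toAddEquiv with map_smul' := fun x y => map_mul e x y }
  rw [lenAt, ← Module.length_eq_of_surjective (S := L) (R := S) (M := S ⊗[A] T) e.surjective,
    (LocalizedModule.equivTensorProduct p.asIdeal.primeCompl T).length_eq,
    (TensorProduct.AlgebraTensorModule.congr eL (LinearEquiv.refl A T)).length_eq]

end Local

variable {X : Scheme.{u}}

theorem map_primeOf {a y ζ : X} (ha : a ⤳ y) (hy : y ⤳ ζ) :
    (primeOf (ha.trans hy)).asIdeal.map (X.presheaf.stalkSpecializes hy).hom = (primeOf ha).asIdeal := by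
  letI := (X.presheaf.stalkSpecializes hy).hom.toAlgebra
  haveI := StalkPrimes.isLocalization_primeOf hy
  have hc : (primeOf (ha.trans hy)).asIdeal = (primeOf ha).asIdeal.comap (X.presheaf.stalkSpecializes hy).hom := by
    ext r
    rw [Ideal.mem_comap, mem_primeOf, mem_primeOf, ← ConcreteCategory.comp_apply,
      TopCat.Presheaf.stalkSpecializes_comp]
  rw [hc]
  exact IsLocalization.map_comap (primeOf hy).asIdeal.primeCompl (X.presheaf.stalk y) (primeOf ha).asIdeal

/-- The intersection product is commutative. -/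
theorem interProd_comm (δ : X → ℤ) (n : ℤ) (α β : X → ℤ) :
    IntMult.interProd δ n α β = IntMult.interProd δ n β α := by
  funext ζ
  let e : {p : X × X // p.1 ⤳ ζ ∧ p.2 ⤳ ζ ∧ δ p.1 + δ p.2 - n = δ ζ} ≃
      {p : X × X // p.1 ⤳ ζ ∧ p.2 ⤳ ζ ∧ δ p.1 + δ p.2 - n = δ ζ} :=
    { toFun := fun p => ⟨(p.1.2, p.1.1), p.2.2.1, p.2.1, by show δ p.1.2 + δ p.1.1 - n = δ ζ; linarith [p.2.2.2]⟩
      invFun := fun p => ⟨(p.1.2, p.1.1), p.2.2.1, p.2.1, by show δ p.1.2 + δ p.1.1 - n = δ ζ; linarith [p.2.2.2]⟩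
      left_inv := fun _ => rfl
      right_inv := fun _ => rfl }
  rw [IntMult.interProd, IntMult.interProd, ← finsum_comp_equiv e]
  refine finsum_congr fun p => ?_
  show α p.1.2 * β p.1.1 * IntMult.mult _ _ ζ = β p.1.1 * α p.1.2 * IntMult.mult _ _ ζ
  rw [IntMult.mult, IntMult.mult, KoszulTor.chi_comm, mul_comm (α p.1.2)]
  rfl

/-- The intersection of two prime cycles vanishes off their common specialisations of the expected dimension. -/
theorem interProd_pair_ne {δ : X → ℤ} {n : ℤ} {b c y : X}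
    (h : IntMult.interProd δ n (Set.indicator {b} 1) (Set.indicator {c} 1) y ≠ 0) :
    b ⤳ y ∧ c ⤳ y ∧ δ y = δ b + δ c - n := by
  obtain ⟨⟨⟨a₁, a₂⟩, h1, h2, h3⟩, hne⟩ := not_forall.1 (mt finsum_eq_zero_of_forall_eq_zero h)
  obtain rfl : a₁ = b := Set.mem_singleton_iff.1 (Set.mem_of_indicator_ne_zero (left_ne_zero_of_mul (left_ne_zero_of_mul hne)))
  obtain rfl : a₂ = c := Set.mem_singleton_iff.1 (Set.mem_of_indicator_ne_zero (right_ne_zero_of_mul (left_ne_zero_of_mul hne)))
  exact ⟨h1, h2, h3.symm⟩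

theorem interProd_pair {δ : X → ℤ} {n : ℤ} {b c y : X} (hb : b ⤳ y) (hc : c ⤳ y) (hy : δ y = δ b + δ c - n) :
    IntMult.interProd δ n (Set.indicator {b} 1) (Set.indicator {c} 1) y =
      IntMult.mult (IntMult.ptIdeal b) (IntMult.ptIdeal c) y := by
  rw [IntMult.interProd, finsum_eq_single _ (⟨(b, c), hb, hc, hy.symm⟩ :
      {p : X × X // p.1 ⤳ y ∧ p.2 ⤳ y ∧ δ p.1 + δ p.2 - n = δ y}) fun a ha => ?_]
  · simp
  · obtain ⟨⟨a₁, a₂⟩, h⟩ := a
    by_cases h1 : a₁ = b
    · by_cases h2 : a₂ = c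
      · exact absurd (by subst h1 h2; rfl) ha
      · simp [Set.indicator_of_notMem (fun h => h2 (Set.mem_singleton_iff.1 h))]
    · simp [Set.indicator_of_notMem (fun h => h1 (Set.mem_singleton_iff.1 h))]

variable {K : Type u} [Field K] [IsAlgClosed K] (f : X ⟶ Spec (CommRingCat.of K)) [Smooth f]
  [IsSeparated f] [IsIntegral X] {δ : X → ℤ} (hd : Cyc.IsDimFun X δ)
  (hδ : Cyc.DeltaCompat f δ (fun _ => 0)) {n : ℤ} (hn : δ (genericPoint X) = n) (a b c : X)
  (hbc : ∀ y, b ⤳ y → c ⤳ y → δ y ≤ δ b + δ c - n)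
  (habc : ∀ y, a ⤳ y → b ⤳ y → c ⤳ y → δ y ≤ δ a + δ b + δ c - 2 * n)

omit [IsAlgClosed K] [IsSeparated f] [IsIntegral X] in
theorem interProd_triple_eq_zero {ζ : X}
    (h : ¬ (a ⤳ ζ ∧ b ⤳ ζ ∧ c ⤳ ζ ∧ δ ζ = δ a + δ b + δ c - 2 * n)) :
    IntMult.interProd δ n (Set.indicator {a} 1)
      (IntMult.interProd δ n (Set.indicator {b} 1) (Set.indicator {c} 1)) ζ = 0 := by
  refine finsum_eq_zero_of_forall_eq_zero fun ⟨⟨x, y⟩, hx, hy, hxy⟩ => ?_
  by_contra hne
  obtain rfl : x = a := Set.mem_singleton_iff.1 (Set.mem_of_indicator_ne_zero (left_ne_zero_of_mul (left_ne_zero_of_mul hne)))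
  obtain ⟨h1, h2, h3⟩ := interProd_pair_ne (right_ne_zero_of_mul (left_ne_zero_of_mul hne))
  dsimp only at hxy hy hx h1 h2 h3
  exact h ⟨hx, h1.trans hy, h2.trans hy, by omega⟩

include f hd hδ hn in
/-- Associativity at a point only needs properness at its generisations. -/
theorem interProd_triple_local {ζ : X} (hbc : ∀ y, y ⤳ ζ → b ⤳ y → c ⤳ y → δ y ≤ δ b + δ c - n)
    (habc : ∀ y, y ⤳ ζ → a ⤳ y → b ⤳ y → c ⤳ y → δ y ≤ δ a + δ b + δ c - 2 * n) (ha : a ⤳ ζ) (hb : b ⤳ ζ) (hc : c ⤳ ζ)
    (hζ : δ ζ = δ a + δ b + δ c - 2 * n) :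
    (∀ q, AssocAlg.Good (ModuleCat.of ↑(X.presheaf.stalk ζ) (X.presheaf.stalk ζ ⧸ (primeOf ha).asIdeal))
        (maximalIdeal (X.presheaf.stalk ζ)).spanFinrank
        (DRing.Tor (X.presheaf.stalk ζ) q (X.presheaf.stalk ζ ⧸ (primeOf hc).asIdeal)
          (X.presheaf.stalk ζ ⧸ (primeOf hb).asIdeal))) ∧
      (∀ q, (maximalIdeal (X.presheaf.stalk ζ)).spanFinrank < q → Subsingleton (DRing.Tor (X.presheaf.stalk ζ) q
        (X.presheaf.stalk ζ ⧸ (primeOf hc).asIdeal) (X.presheaf.stalk ζ ⧸ (primeOf hb).asIdeal))) ∧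
      IntMult.interProd δ n (Set.indicator {a} 1)
          (IntMult.interProd δ n (Set.indicator {b} 1) (Set.indicator {c} 1)) ζ =
        ∑ᶠ q : ℕ, (-1 : ℤ) ^ q * IntMult.chi (X.presheaf.stalk ζ) (X.presheaf.stalk ζ ⧸ (primeOf ha).asIdeal)
          (DRing.Tor (X.presheaf.stalk ζ) q (X.presheaf.stalk ζ ⧸ (primeOf hc).asIdeal)
            (X.presheaf.stalk ζ ⧸ (primeOf hb).asIdeal)) := by
  classical
  haveI : IsLocallyNoetherian X := LocallyOfFiniteType.isLocallyNoetherian f
  haveI := GrpSchLib.isRegularLocalRing_stalk_of_smooth f ζ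
  let A := X.presheaf.stalk ζ
  set D := (maximalIdeal A).spanFinrank with hDdef
  have hdim : ringKrullDim A = D := IsRegularLocalRing.spanFinrank_maximalIdeal.symm
  let M := A ⧸ (primeOf ha).asIdeal
  let N := A ⧸ (primeOf hb).asIdeal
  let W := A ⧸ (primeOf hc).asIdeal
  let T := fun q => DRing.Tor A q W N
  haveI : ∀ q, Module.Finite A (T q) := fun q => S6315.result A W N q
  have hann : ∀ q, (primeOf hb).asIdeal ⊔ (primeOf hc).asIdeal ≤ Module.annihilator A (T q) := fun q => by
    intro r hr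
    refine Module.mem_annihilator.2 fun z => smul_tor_eq_zero ?_ q z
    rw [Ideal.annihilator_quotient, Ideal.annihilator_quotient, sup_comm]
    exact hr
  have hsupp : ∀ q (y : X) (h : y ⤳ ζ), primeOf h ∈ Module.support A (T q) → b ⤳ y ∧ c ⤳ y := by
    intro q y h hy
    rw [Module.support_eq_zeroLocus, PrimeSpectrum.mem_zeroLocus] at hy
    have := (hann q).trans hy
    exact ⟨(StalkPrimes.primeOf_le_iff h hb).1 (le_sup_left.trans this),
      (StalkPrimes.primeOf_le_iff h hc).1 (le_sup_right.trans this)⟩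
  have hvan : ∀ q, D < q → Subsingleton (T q) := fun q hq => subsingleton_tor_of_lt hdim W N hq
  have hmeet : ∀ q, Meet (A := A) M (T q) := fun q p hp => by
    obtain ⟨y, hy, e⟩ := StalkPrimes.exists_point (x := ζ) p.asIdeal
    have h1 : (primeOf ha).asIdeal ≤ p.asIdeal := by
      refine le_trans ?_ (le_sup_left.trans hp)
      rw [Ideal.annihilator_quotient]
    have h2 : (primeOf hb).asIdeal ⊔ (primeOf hc).asIdeal ≤ p.asIdeal := (hann q).trans (le_sup_right.trans hp)
    rw [← e] at h1 h2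
    have := habc y hy ((StalkPrimes.primeOf_le_iff hy ha).1 h1)
      ((StalkPrimes.primeOf_le_iff hy hb).1 (le_sup_left.trans h2))
      ((StalkPrimes.primeOf_le_iff hy hc).1 (le_sup_right.trans h2))
    obtain rfl : y = ζ := CycLib.eq_of_delta_le hd hy (by omega)
    exact PrimeSpectrum.ext (e.symm.trans (ZeroSec.primeOf_refl' _))
  refine ⟨fun q i => ⟨isFiniteLength_tor (hmeet q) i, fun hi => subsingleton_tor_of_lt hdim M (T q) hi⟩, hvan, ?_⟩
  set S := δ b + δ c - n with hS
  let β : ℕ → X → ℤ := fun q y =>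
    if h : y ⤳ ζ then (if δ y = S then lenAt (primeOf h) (T q) else 0) else 0
  have hfinS : {y : X | y ⤳ ζ ∧ b ⤳ y ∧ c ⤳ y ∧ δ y = S}.Finite := by
    let g : X → Ideal A := fun y => if h : y ⤳ ζ then (primeOf h).asIdeal else ⊤
    refine Set.Finite.of_finite_image (f := g) ?_ fun y hy z hz e => ?_
    · refine ((primeOf hb).asIdeal ⊔ (primeOf hc).asIdeal).finite_minimalPrimes_of_isNoetherianRing.subset ?_
      rintro _ ⟨y, ⟨hy, hby, hcy, hyS⟩, rfl⟩
      simp only [g, dif_pos hy]
      refine ⟨⟨(primeOf hy).2, sup_le ((StalkPrimes.primeOf_le_iff hy hb).2 hby)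
        ((StalkPrimes.primeOf_le_iff hy hc).2 hcy)⟩, fun Q hQ hQy => ?_⟩
      haveI := hQ.1
      obtain ⟨z, hz, rfl⟩ := StalkPrimes.exists_point (x := ζ) Q
      have hzy : z ⤳ y := (StalkPrimes.primeOf_le_iff hy hz).1 hQy
      have := hbc z hz ((StalkPrimes.primeOf_le_iff hz hb).1 (le_sup_left.trans hQ.2))
        ((StalkPrimes.primeOf_le_iff hz hc).1 (le_sup_right.trans hQ.2))
      obtain rfl : z = y := CycLib.eq_of_delta_le hd hzy (by omega)
      exact le_rfl
    · simp only [g, dif_pos hy.1, dif_pos hz.1] at e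
      exact StalkPrimes.primeOf_inj hy.1 hz.1 e
  have hβ : ∀ q, CycleClassK.LFPts (Function.support (β q)) := fun q x => by
    refine ⟨⊤, trivial, hfinS.subset fun y hy => ?_⟩
    have hy' : β q y ≠ 0 := hy.1
    simp only [β] at hy'
    split_ifs at hy' with h1 h2
    · have hmem : primeOf h1 ∈ Module.support A (T q) := by
        rw [Module.mem_support_iff, ← not_subsingleton_iff_nontrivial]
        intro hs
        exact hy' (by simp [lenAt, Module.length_eq_zero])
      exact ⟨h1, (hsupp q y h1 hmem).1, (hsupp q y h1 hmem).2, h2⟩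
    all_goals exact absurd rfl hy'
  have hγ : ∀ y, y ⤳ ζ → IntMult.interProd δ n (Set.indicator {b} 1) (Set.indicator {c} 1) y =
      ∑ q ∈ Finset.range (D + 1), (-1 : ℤ) ^ q * β q y := by
    intro y hy
    by_cases hyS : b ⤳ y ∧ c ⤳ y ∧ δ y = S
    swap
    · rw [show IntMult.interProd δ n _ _ y = 0 from by_contra fun h => hyS (interProd_pair_ne h)]
      refine (Finset.sum_eq_zero fun q _ => ?_).symm
      simp only [β, dif_pos hy]
      split_ifs with h2
      · by_cases hm : primeOf hy ∈ Module.support A (T q)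
        · exact absurd ⟨(hsupp q y hy hm).1, (hsupp q y hy hm).2, h2⟩ hyS
        · rw [Module.notMem_support_iff] at hm
          simp [lenAt, Module.length_eq_zero]
      · rw [mul_zero]
    obtain ⟨hby, hcy, hyS⟩ := hyS
    rw [interProd_pair hby hcy hyS, IntMult.mult, PointPrime.stalkIdeal_ptIdeal hby,
      PointPrime.stalkIdeal_ptIdeal hcy]
    letI := (X.presheaf.stalkSpecializes hy).hom.toAlgebra
    haveI := StalkPrimes.isLocalization_primeOf hy
    haveI : Module.Flat A (X.presheaf.stalk y) :=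
      IsLocalization.flat (X.presheaf.stalk y) (primeOf hy).asIdeal.primeCompl
    have eq : ∀ {w : X} (h : w ⤳ y) (h' : w ⤳ ζ),
        Nonempty (((X.presheaf.stalk y) ⊗[A] (A ⧸ (primeOf h').asIdeal)) ≃ₗ[X.presheaf.stalk y]
          X.presheaf.stalk y ⧸ (primeOf h).asIdeal) := fun h h' =>
      ⟨(Algebra.TensorProduct.quotIdealMapEquivTensorQuot (X.presheaf.stalk y) (primeOf h').asIdeal).toLinearEquiv.symm.trans
        (Submodule.quotEquivOfEq _ _ (map_primeOf h hy))⟩
    obtain ⟨eb⟩ := eq hby hb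
    obtain ⟨ec⟩ := eq hcy hc
    rw [← InterPull.chi_congr_both ec eb, IntMult.chi]
    have hterm : ∀ q : ℕ, ((Module.length (X.presheaf.stalk y) (DRing.Tor (X.presheaf.stalk y) q
        ((X.presheaf.stalk y) ⊗[A] W) ((X.presheaf.stalk y) ⊗[A] N))).toNat : ℤ) = β q y := fun q => by
      obtain ⟨e⟩ := S2428.result A (X.presheaf.stalk y) W N q
      simp only [β, dif_pos hy, if_pos hyS]
      rw [← e.length_eq, lenAt_eq (primeOf hy) (X.presheaf.stalk y)]
    rw [finsum_congr fun q => congrArg ((-1 : ℤ) ^ q * ·) (hterm q)]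
    refine finsum_eq_sum_of_support_subset _ fun q hq => ?_
    by_contra hq'
    rw [Finset.coe_range, Set.mem_Iio, not_lt] at hq'
    haveI := hvan q (by omega)
    refine hq ?_
    simp only [β, dif_pos hy, if_pos hyS]
    simp [lenAt, Module.length_eq_zero]
  have hlfa : CycleClassK.LFPts (Function.support (Set.indicator {a} (1 : X → ℤ))) :=
    InterBilin.sheafFun_closure hd a ▸ CycleClassK.lfPts_sheafFun hd ⟨SkyPoint.isCoh_closure a, fun w h =>
      CycLib.delta_le hd (SkyPoint.specializes_of_nontrivial_closure h)⟩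
  rw [InterBilin.interProd_expand (δ := δ) (n := n) ζ ({()} : Finset Unit) (Finset.range (D + 1)) (fun _ => 1)
    (fun q => (-1 : ℤ) ^ q) (fun _ => Set.indicator {a} 1) β (Set.indicator {a} 1)
    (IntMult.interProd δ n (Set.indicator {b} 1) (Set.indicator {c} 1)) (fun w _ => by simp) hγ
    (fun _ _ => hlfa) (fun q _ => hβ q), Finset.sum_singleton]
  have hval : ∀ q, IntMult.interProd δ n (Set.indicator {a} 1) (β q) ζ = IntMult.chi A M (T q) := by
    intro q
    refine (InterStalk.chi_eq_interProd f hδ hn ζ M (T q) (δ a) S (by omega) (CycLib.delta_le hd ha) (hbc ζ specializes_rfl hb hc)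
      _ _ (fun y h => ?_) (fun y h => by simp only [β, dif_pos h]) (fun y h hy => ?_) (fun y h hy => ?_)
      (fun y h hy hy' => ?_)).symm
    · by_cases hya : y = a
      · subst hya
        rw [Set.indicator_of_mem (Set.mem_singleton y), Pi.one_apply, if_pos rfl,
          lenAt_eq (primeOf h) (Localization.AtPrime (primeOf h).asIdeal)]
        have e := (Algebra.TensorProduct.quotIdealMapEquivTensorQuot (Localization.AtPrime (primeOf h).asIdeal)
          (primeOf h).asIdeal).toLinearEquiv.symm.trans (Submodule.quotEquivOfEq _ _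
            (Localization.AtPrime.map_eq_maximalIdeal (I := (primeOf h).asIdeal)))
        rw [e.length_eq, Module.length_eq_one_iff.2 ((isSimpleModule_iff_isCoatom).2
          (Ideal.isMaximal_def.1 (maximalIdeal.isMaximal _)))]
        rfl
      · rw [Set.indicator_of_notMem fun h' => hya (Set.mem_singleton_iff.1 h')]
        split_ifs with hr
        · by_cases hm : primeOf h ∈ Module.support A M
          · rw [Module.support_eq_zeroLocus, PrimeSpectrum.mem_zeroLocus, Ideal.annihilator_quotient] at hm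
            exact absurd (CycLib.eq_of_delta_le hd ((StalkPrimes.primeOf_le_iff h ha).1 hm) hr.ge).symm hya
          · rw [Module.notMem_support_iff] at hm
            simp [lenAt, Module.length_eq_zero]
        · rfl
    · rw [Module.support_eq_zeroLocus, PrimeSpectrum.mem_zeroLocus, Ideal.annihilator_quotient] at hy
      exact CycLib.delta_le hd ((StalkPrimes.primeOf_le_iff h ha).1 hy)
    · exact hbc y h (hsupp q y h hy).1 (hsupp q y h hy).2
    · rw [Module.support_eq_zeroLocus, PrimeSpectrum.mem_zeroLocus, Ideal.annihilator_quotient] at hy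
      have := habc y h ((StalkPrimes.primeOf_le_iff h ha).1 hy) (hsupp q y h hy').1 (hsupp q y h hy').2
      exact CycLib.eq_of_delta_le hd h (by omega)
  refine Eq.trans ?_ (finsum_eq_sum_of_support_subset (fun q : ℕ => (-1 : ℤ) ^ q * IntMult.chi A M (T q))
    (s := Finset.range (D + 1)) fun q hq => ?_).symm
  · exact Finset.sum_congr rfl fun q _ => by rw [one_mul, hval q]
  · by_contra hq'
    rw [Finset.coe_range, Set.mem_Iio, not_lt] at hq'
    haveI := hvan q (by omega)
    exact hq (by simp [AssocAlg.chi_of_subsingleton])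

include f hd hδ hn hbc habc in
theorem interProd_triple {ζ : X} (ha : a ⤳ ζ) (hb : b ⤳ ζ) (hc : c ⤳ ζ)
    (hζ : δ ζ = δ a + δ b + δ c - 2 * n) :
    (∀ q, AssocAlg.Good (ModuleCat.of ↑(X.presheaf.stalk ζ) (X.presheaf.stalk ζ ⧸ (primeOf ha).asIdeal))
        (maximalIdeal (X.presheaf.stalk ζ)).spanFinrank
        (DRing.Tor (X.presheaf.stalk ζ) q (X.presheaf.stalk ζ ⧸ (primeOf hc).asIdeal)
          (X.presheaf.stalk ζ ⧸ (primeOf hb).asIdeal))) ∧
      (∀ q, (maximalIdeal (X.presheaf.stalk ζ)).spanFinrank < q → Subsingleton (DRing.Tor (X.presheaf.stalk ζ) q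
        (X.presheaf.stalk ζ ⧸ (primeOf hc).asIdeal) (X.presheaf.stalk ζ ⧸ (primeOf hb).asIdeal))) ∧
      IntMult.interProd δ n (Set.indicator {a} 1)
          (IntMult.interProd δ n (Set.indicator {b} 1) (Set.indicator {c} 1)) ζ =
        ∑ᶠ q : ℕ, (-1 : ℤ) ^ q * IntMult.chi (X.presheaf.stalk ζ) (X.presheaf.stalk ζ ⧸ (primeOf ha).asIdeal)
          (DRing.Tor (X.presheaf.stalk ζ) q (X.presheaf.stalk ζ ⧸ (primeOf hc).asIdeal)
            (X.presheaf.stalk ζ ⧸ (primeOf hb).asIdeal)) :=
  interProd_triple_local f hd hδ hn a b c (fun y _ => hbc y) (fun y _ => habc y) ha hb hc hζ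

end Groth.Agent.H23.InterAssoc
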