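import Groth.Agent.H23.ZetaCoprod
import Mathlib.AlgebraicGeometry.IdealSheaf.Functorial

/-!
Inclusion-exclusion for classes of open subschemes; Zariski locally trivial fibrations.
-/

set_option autoImplicit false
set_option linter.style.haveILetI false
set_option backward.isDefEq.respectTransparency false

universe u

open CategoryTheory CategoryTheory.Limits AlgebraicGeometry TopologicalSpace

namespace Groth.Agent.H23.ClassInclExcl

open ZetaCoprod

variable {S : Scheme.{u}} (A : K0Var.Gen S) [IsLocallyNoetherian A.X]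

theorem cl_sup_add_inf (U V : A.X.Opens) :
    (openGen A (U ⊔ V)).cl + (openGen A (U ⊓ V)).cl = (openGen A U).cl + (openGen A V).cl := by
  let P : Scheme.{u} := V.toScheme
  let C : Closeds P := ⟨((V.ι ⁻¹ᵁ U : P.Opens) : Set P)ᶜ, (V.ι ⁻¹ᵁ U).2.isClosed_compl⟩
  let I := Scheme.IdealSheafData.vanishingIdeal C
  let Z : K0Var.Gen S := K0Var.Gen.mk I.subscheme (I.subschemeι ≫ V.ι ≫ A.hom)
  have hrange : ∀ z : V.toScheme, z ∈ Set.range I.subschemeι ↔ z.1 ∉ U := fun z => by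
    rw [Scheme.IdealSheafData.range_subschemeι, Scheme.IdealSheafData.coe_support_vanishingIdeal]
    rfl
  have h₁ : (openGen A V).cl = Z.cl + (openGen A (U ⊓ V)).cl := by
    refine K0Var.Gen.cl_scissor (i := I.subschemeι) (j := A.X.homOfLE (inf_le_right : U ⊓ V ≤ V))
      ⟨inferInstanceAs (IsClosedImmersion I.subschemeι), inferInstanceAs (IsOpenImmersion (A.X.homOfLE _)),
        rfl, A.X.homOfLE_ι_assoc _ _, ?_⟩
    show Set.range I.subschemeι = (Set.range (A.X.homOfLE (inf_le_right : U ⊓ V ≤ V)))ᶜ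
    ext z
    rw [range_homOfLE A, hrange, Set.mem_compl_iff, Set.mem_setOf_eq]
    exact ⟨fun h hz => h hz.1, fun h hz => h ⟨hz, z.2⟩⟩
  let i := I.subschemeι ≫ A.X.homOfLE (le_sup_right : V ≤ U ⊔ V)
  have hi : Set.range i = (Set.range (A.X.homOfLE (le_sup_left : U ≤ U ⊔ V)))ᶜ := by
    rw [range_homOfLE A]
    ext z
    rw [Set.mem_compl_iff, Set.mem_setOf_eq]
    constructor
    · rintro ⟨w, rfl⟩ hw
      refine (hrange (I.subschemeι w)).1 ⟨w, rfl⟩ ?_
      rwa [← Scheme.homOfLE_apply (le_sup_right : V ≤ U ⊔ V) (I.subschemeι w)]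
    · intro hz
      have hzV : z.1 ∈ V := (Opens.mem_sup.1 z.2).resolve_left hz
      obtain ⟨w, hw⟩ := (hrange ⟨z.1, hzV⟩).2 hz
      refine ⟨w, Subtype.ext ?_⟩
      show ((A.X.homOfLE (le_sup_right : V ≤ U ⊔ V)) (I.subschemeι w)).1 = z.1
      rw [Scheme.homOfLE_apply, hw]
  have h₂ : (openGen A (U ⊔ V)).cl = Z.cl + (openGen A U).cl := by
    refine K0Var.Gen.cl_scissor (i := i) (j := A.X.homOfLE (le_sup_left : U ≤ U ⊔ V))
      ⟨?_, inferInstanceAs (IsOpenImmersion (A.X.homOfLE _)),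
        ?_, A.X.homOfLE_ι_assoc _ _, hi⟩
    · refine IsClosedImmersion.of_isPreimmersion i ?_
      rw [hi, range_homOfLE A]
      exact ((U ⊔ V).ι ⁻¹ᵁ U).2.isClosed_compl
    · show (I.subschemeι ≫ A.X.homOfLE _) ≫ (U ⊔ V).ι ≫ A.hom = I.subschemeι ≫ V.ι ≫ A.hom
      rw [Category.assoc, A.X.homOfLE_ι_assoc]
  rw [h₁, h₂]
  ring

variable {X : Scheme.{u}} (B : K0Var.Gen S) [IsLocallyNoetherian B.X] (f : B.X ⟶ A.X)
  (hB : f ≫ A.hom = B.hom)

omit [IsLocallyNoetherian A.X] in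
theorem cl_of_trivial (pF : X ⟶ S) [LocallyOfFiniteType pF] [QuasiCompact pF] [IsLocallyNoetherian A.X]
    {U : A.X.Opens} (e : (f ⁻¹ᵁ U).toScheme ≅ pullback (U.ι ≫ A.hom) pF)
    (he : e.hom ≫ pullback.fst _ _ = f ∣_ U) (hB : f ≫ A.hom = B.hom) {W : A.X.Opens} (hW : W ≤ U) :
    (openGen B (f ⁻¹ᵁ W)).cl = (openGen A W).cl * K0Var.cl pF := by
  have sqU : IsPullback (f ∣_ U) (e.hom ≫ pullback.snd _ _) (U.ι ≫ A.hom) pF :=
    (IsPullback.of_hasPullback _ _).of_iso e.symm (Iso.refl _) (Iso.refl _) (Iso.refl _)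
      (by simp [← he]) (by simp) (by simp) (by simp)
  have sqW : IsPullback (f ∣_ W) (B.X.homOfLE (f.preimage_mono hW)) (A.X.homOfLE hW) (f ∣_ U) := by
    refine IsPullback.of_bot ?_ ?_ (isPullback_morphismRestrict f U)
    · simpa using isPullback_morphismRestrict f W
    · rw [← cancel_mono U.ι]
      simp
  have sq := sqW.paste_vert sqU
  rw [← Category.assoc] at sq
  have hfac : A.X.homOfLE hW ≫ U.ι ≫ A.hom = W.ι ≫ A.hom := A.X.homOfLE_ι_assoc hW A.hom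
  have sq' : IsPullback (f ∣_ W) (B.X.homOfLE (f.preimage_mono hW) ≫ e.hom ≫ pullback.snd _ _)
      (W.ι ≫ A.hom) pF := by
    rw [← hfac]
    simpa using sq
  rw [show (openGen A W).cl = K0Var.cl (W.ι ≫ A.hom) from rfl, ← K0Var.cl_mul]
  refine K0Var.Gen.cl_congr _ (K0Var.Gen.mk _ (pullback.fst (W.ι ≫ A.hom) pF ≫ W.ι ≫ A.hom)) sq'.isoPullback ?_
  show sq'.isoPullback.hom ≫ pullback.fst (W.ι ≫ A.hom) pF ≫ W.ι ≫ A.hom = (f ⁻¹ᵁ W).ι ≫ B.hom
  rw [sq'.isoPullback_hom_fst_assoc, morphismRestrict_ι_assoc, hB]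

include hB in
/-- Zariski locally trivial fibrations multiply classes. -/
theorem cl_eq_mul (pF : X ⟶ S) [LocallyOfFiniteType pF] [QuasiCompact pF] [CompactSpace A.X]
    (h : ∀ y : A.X, ∃ (U : A.X.Opens) (e : (f ⁻¹ᵁ U).toScheme ≅ pullback (U.ι ≫ A.hom) pF),
      y ∈ U ∧ e.hom ≫ pullback.fst (U.ι ≫ A.hom) pF = f ∣_ U) :
    B.cl = A.cl * K0Var.cl pF := by
  classical
  choose U e hyU he using h
  obtain ⟨s, hs⟩ := isCompact_univ.elim_finite_subcover (fun y => (U y : Set A.X)) (fun y => (U y).2)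
    fun y _ => Set.mem_iUnion.2 ⟨y, hyU y⟩
  have key : ∀ t : Finset A.X, ∀ W : A.X.Opens,
      (openGen B (f ⁻¹ᵁ (W ⊓ t.sup U))).cl = (openGen A (W ⊓ t.sup U)).cl * K0Var.cl pF := by
    intro t
    induction t using Finset.induction_on with
    | empty => intro W; simp [cl_openGen_bot]
    | insert a t _ ih =>
      intro W
      have h₁ := cl_sup_add_inf A (W ⊓ U a) (W ⊓ t.sup U)
      have h₂ := cl_sup_add_inf B (f ⁻¹ᵁ (W ⊓ U a)) (f ⁻¹ᵁ (W ⊓ t.sup U))
      have e₁ := cl_of_trivial A B f pF (e a) (he a) hB (inf_le_right : W ⊓ U a ≤ U a)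
      have e₃ := cl_of_trivial A B f pF (e a) (he a) hB
        (inf_le_left.trans inf_le_right : W ⊓ U a ⊓ (W ⊓ t.sup U) ≤ U a)
      rw [← inf_sup_left, ← Finset.sup_insert] at h₁
      have hpre : f ⁻¹ᵁ (W ⊓ U a) ⊔ f ⁻¹ᵁ (W ⊓ t.sup U) = f ⁻¹ᵁ (W ⊓ (insert a t).sup U) := by
        rw [← Scheme.Hom.preimage_sup, ← inf_sup_left, ← Finset.sup_insert]
      rw [hpre, ← Scheme.Hom.preimage_inf, e₁, e₃, ih W] at h₂
      linear_combination h₂ - K0Var.cl pF * h₁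
  have htop : s.sup U = ⊤ := eq_top_iff.2 fun y _ => by
    obtain ⟨z, hz, hyz⟩ := Set.mem_iUnion₂.1 (hs (Set.mem_univ y))
    exact Finset.le_sup (f := U) hz hyz
  have := key s ⊤
  rw [top_inf_eq, htop, Scheme.Hom.preimage_top, cl_openGen_top, cl_openGen_top] at this
  exact this

end Groth.Agent.H23.ClassInclExcl
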