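import Groth.Agent.H23.SpGysin
import Groth.Agent.H23.C1Push
import Groth.Agent.H23.FlatClass
import Groth.Agent.FlatDvr.FibreStalk
import Groth.Agent.CycLib.DivMap

/-! Specialisation, push-forward and pull-back. -/

set_option autoImplicit false
set_option linter.style.haveILetI false

universe u

open AlgebraicGeometry CategoryTheory CategoryTheory.Limits IsLocalRing

namespace Groth.Agent.H23.SpMap

open Groth.Agent RatSec C1Desc C1Pull SpGysin

section

variable {X Y X' Y' : Scheme.{u}} {f : X ⟶ Y} {g : X' ⟶ Y'} {i : X' ⟶ X} {j : Y' ⟶ Y} [IsPreimmersion i]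
  [IsPreimmersion j] (w : g ≫ j = i ≫ f) {δX : X → ℤ} {δY : Y → ℤ} {δ' : X' → ℤ} {δ : Y' → ℤ} {c : ℤ}
  (hi : ∀ x, δX (i x) = δ' x + c) (hj : ∀ y, δY (j y) = δ y + c)
include w hi hj

theorem mapCoeff_restrict (x : X') :
    AlgebraicCycle.mapCoeff f δX δY (i x) = AlgebraicCycle.mapCoeff g δ' δ x := by
  have e : f (i x) = j (g x) := by rw [← Scheme.Hom.comp_apply, ← w]; rfl
  have hd : f.residueDegree (i x) = g.residueDegree x := by
    have h1 := CycLib.residueDegree_comp g j x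
    have h2 := CycLib.residueDegree_comp i f x
    rw [CycLib.residueDegree_preimmersion j] at h1
    rw [CycLib.residueDegree_preimmersion i, ← w, h1] at h2
    simpa using h2.symm
  have hiff : δX (i x) = δY (f (i x)) ↔ δ' x = δ (g x) := by
    rw [hi, e, hj]
    omega
  simp only [AlgebraicCycle.mapCoeff]
  by_cases h : δ' x = δ (g x)
  · rw [if_pos (hiff.2 h), if_pos h, hd]
  · rw [if_neg (fun h' => h (hiff.1 h')), if_neg h]

theorem map_restrict [QuasiCompact f] [QuasiCompact g] (hpre : ∀ x, f x ∈ Set.range j → x ∈ Set.range i)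
    (A : AlgebraicCycle X ℤ) (B : AlgebraicCycle X' ℤ) (hAB : ∀ x, B x = A (i x)) (y : Y') :
    AlgebraicCycle.map f δX δY A (j y) = AlgebraicCycle.map g δ' δ B y := by
  rw [CycLib.map_apply', CycLib.map_apply']
  have e : ∀ x, f (i x) = j (g x) := fun x => by rw [← Scheme.Hom.comp_apply, ← w]; rfl
  refine (finsum_mem_eq_of_bijOn (fun x => i x) ⟨fun x hx => ?_, i.isEmbedding.injective.injOn, fun z hz => ?_⟩
    fun x _ => ?_).symm
  · show f (i x) = j y
    rw [e, show g x = y from hx]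
  · obtain ⟨x, rfl⟩ := hpre z ⟨y, (show f z = j y from hz).symm⟩
    exact ⟨x, j.isEmbedding.injective ((e x).symm.trans hz), rfl⟩
  · rw [hAB, mapCoeff_restrict w hi hj]

theorem pullFun_restrict (hker : ∀ x, RingHom.ker (i.stalkMap x).hom ≤
      Ideal.map (f.stalkMap (i x)).hom (maximalIdeal (Y.presheaf.stalk (f (i x)))))
    (r : ℤ) (A : Y → ℤ) (x : X') :
    Cyc.pullFun f δX δY r A (i x) = Cyc.pullFun g δ' δ r (fun y => A (j y)) x := by
  have e : j (g x) = f (i x) := by rw [← Scheme.Hom.comp_apply, w]; rfl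
  simp only [Cyc.pullFun]
  have hiff : δX (i x) = δY (f (i x)) + r ↔ δ' x = δ (g x) + r := by
    rw [hi, ← e, hj]
    omega
  by_cases h : δ' x = δ (g x) + r
  swap
  · rw [if_neg (fun h' => h (hiff.1 h')), if_neg h]
  rw [if_pos (hiff.2 h), if_pos h, e]
  refine congrArg (fun n : ℕ∞ => A (f (i x)) * (n.toNat : ℤ)) ?_
  let O := X.presheaf.stalk (i x)
  let O' := X'.presheaf.stalk x
  let I : Ideal O := Ideal.map (f.stalkMap (i x)).hom (maximalIdeal (Y.presheaf.stalk (f (i x))))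
  letI : Algebra O O' := (i.stalkMap x).hom.toAlgebra
  have hs : Function.Surjective (algebraMap O O') := i.stalkMap_surjective x
  have hI' : Ideal.map (g.stalkMap x).hom (maximalIdeal (Y'.presheaf.stalk (g x))) = Ideal.map (algebraMap O O') I := by
    rw [← IsLocalRing.map_maximalIdeal_of_surjective (j.stalkMap (g x)).hom (j.stalkMap_surjective (g x))]
    simp only [I, Ideal.map_map, RingHom.algebraMap_toAlgebra, ← CommRingCat.hom_comp, ← Scheme.Hom.stalkMap_comp]
    have key : ∀ (u v : X' ⟶ Y) (e : u = v), Ideal.map (u.stalkMap x).hom (maximalIdeal _) =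
        Ideal.map (v.stalkMap x).hom (maximalIdeal _) := by
      rintro u v rfl
      rfl
    exact key _ _ w
  rw [hI', ← Module.length_eq_of_surjective (S := O) (R := O') (M := O' ⧸ Ideal.map (algebraMap O O') I) hs]
  let q : O →ₗ[O] O' ⧸ Ideal.map (algebraMap O O') I :=
    ((Ideal.map (algebraMap O O') I).mkQ.restrictScalars O).comp (Algebra.linearMap O O')
  have hq : Function.Surjective q := (Submodule.mkQ_surjective _).comp hs
  have hk : LinearMap.ker q = I := Submodule.ext fun t => by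
    show Submodule.Quotient.mk (algebraMap O O' t) = (0 : O' ⧸ Ideal.map (algebraMap O O') I) ↔ t ∈ I
    rw [Submodule.Quotient.mk_eq_zero, ← Ideal.mem_comap, Ideal.comap_map_of_surjective _ hs]
    exact ⟨fun ht => (sup_le le_rfl (hker x)) ht, fun ht => Ideal.mem_sup_left ht⟩
  exact ((Submodule.quotEquivOfEq _ _ hk.symm).trans (q.quotKerEquivOfSurjective hq)).length_eq

end

variable {R : Type u} [CommRing R] [IsDomain R] [IsDiscreteValuationRing R] {X Y : Scheme.{u}} (b : Y ⟶ B R)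
  [LocallyOfFiniteType b] (f : X ⟶ Y) [LocallyOfFiniteType f]

theorem deltaCompat_f : Cyc.DeltaCompat f (δT (f ≫ b)) (δT b) :=
  ChowDesc.deltaCompat_hom (δX := δR R) (s := ⟨Y, b, inferInstance, δT b, SpGysin.deltaCompat b⟩)
    (t := ⟨X, f ≫ b, inferInstance, δT (f ≫ b), SpGysin.deltaCompat (f ≫ b)⟩) f rfl

omit [LocallyOfFiniteType b] [LocallyOfFiniteType f] in
theorem πx_comp (x : X) : πx (f ≫ b) x = (f.stalkMap x).hom (πx b (f x)) := by
  rw [πx, Scheme.Hom.stalkMap_comp]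
  rfl

theorem secDivFun_sec_pull {z : X} (hz : (f ≫ b) z ≠ s R) :
    Cyc.secDivFun (δT (f ≫ b)) ((Scheme.Modules.pullback f).obj (Coh.structureModule Y)) z
        (vPull f (Coh.structureModule Y) (sec b) z) =
      Cyc.secDivFun (δT (f ≫ b)) (Coh.structureModule X) z (sec (f ≫ b) z) := by
  have hd' := (isSetupT (f ≫ b)).2.2
  haveI := (isSetupT (f ≫ b)).1
  haveI := (isSetupT b).1
  rw [secDivFun_sec (f ≫ b) hz, πx_comp]
  funext x'
  by_cases hzx : z ⤳ x'
  · refine (secDivFun_vPull InvX.isInvertible_structureModule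
      (PicClLib.isInvertible_pullback f InvX.isInvertible_structureModule) hd' (sec_ne_zero b) hzx (isGen_one _)
      (by rw [spec_one]; exact isGen_one _) rfl (hzx.map f.continuous) (φ := πx b (f z)) ?_).trans ?_
    · rw [spec_one]
      exact sec_eq b hz
    · rw [DivPull.pullRes_rfl, ← residue_stalkMap]
  · rw [Cyc.secDivFun, dif_neg fun h' => hzx h'.1, Cyc.divFun, dif_neg fun h' => hzx h'.1]

theorem c1CapFun_sec_pull {α : X → ℤ} (hα : ∀ z, (f ≫ b) z ≠ η R → α z = 0) :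
    Cyc.c1CapFun (δT (f ≫ b)) ((Scheme.Modules.pullback f).obj (Coh.structureModule Y)) α
        (vPull f (Coh.structureModule Y) (sec b)) =
      Cyc.c1CapFun (δT (f ≫ b)) (Coh.structureModule X) α (sec (f ≫ b)) := by
  funext x
  refine finsum_congr fun z => ?_
  by_cases hz : (f ≫ b) z = η R
  · rw [secDivFun_sec_pull b f (hz ▸ η_ne_s R)]
  · rw [hα z hz, zero_mul, zero_mul]

omit [LocallyOfFiniteType f] in
theorem locFin_ext {δη : ↥(b.fiber (η R)) → ℤ} (r : ℤ) (α : AlgebraicCycle (b.fiber (η R)) ℤ) (z : Y) :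
    ∃ U ∈ nhds z, (U ∩ Function.support (ext b δη r ⇑α)).Finite := by
  obtain ⟨U, hU, hzU, -⟩ := exists_isAffineOpen_mem_and_subset (x := z) (U := (⊤ : Y.Opens)) trivial
  haveI : QuasiCompact (b.fiberι (η R)) := MorphismProperty.pullback_fst _ _ inferInstance
  refine ⟨U, U.2.mem_nhds hzU, ((α.locallyFiniteSupport.finite_inter_support_of_isCompact
    ((quasiCompact_iff (b.fiberι (η R))).1 inferInstance U U.isOpen hU.isCompact)).image
      (b.fiberι (η R))).subset ?_⟩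
  rintro y ⟨hy, hne⟩
  by_cases h : ∃ ζ, b.fiberι (η R) ζ = y
  · obtain ⟨ζ, rfl⟩ := h
    rw [Function.mem_support, ext_apply] at hne
    split_ifs at hne with hr
    · exact ⟨ζ, ⟨hy, hne⟩, rfl⟩
    · exact absurd rfl hne
  · exact absurd (Function.extend_apply' _ _ _ h) hne

/-- A cycle on the generic fibre on the total space. -/
noncomputable def extCycle (δη : ↥(b.fiber (η R)) → ℤ) (r : ℤ) (α : AlgebraicCycle (b.fiber (η R)) ℤ) :
    AlgebraicCycle Y ℤ :=
  ⟨ext b δη r ⇑α, Set.subset_univ _, fun z _ => locFin_ext b r α z⟩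

/-- The map of fibres. -/
noncomputable abbrev fibMap (y : B R) : (f ≫ b).fiber y ⟶ b.fiber y :=
  pullback.map (f ≫ b) ((B R).fromSpecResidueField y) b ((B R).fromSpecResidueField y) f (𝟙 _) (𝟙 _)
    (Category.comp_id _) ((Category.comp_id _).trans (Category.id_comp _).symm)

omit [LocallyOfFiniteType b] [LocallyOfFiniteType f] in
theorem w_fibMap (y : B R) : fibMap b f y ≫ b.fiberι y = (f ≫ b).fiberι y ≫ f := pullback.lift_fst _ _ _

omit [LocallyOfFiniteType b] [LocallyOfFiniteType f] in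
theorem mem_range_of_mem {y : B R} {x : X} (h : f x ∈ Set.range (b.fiberι y)) :
    x ∈ Set.range ((f ≫ b).fiberι y) := by
  rw [Scheme.Hom.range_fiberι] at h ⊢
  exact h

theorem spFun_map [IsProper f] {δXη : ↥((f ≫ b).fiber (η R)) → ℤ} {δXs : ↥((f ≫ b).fiber (s R)) → ℤ}
    {δYη : ↥(b.fiber (η R)) → ℤ} {δYs : ↥(b.fiber (s R)) → ℤ}
    (hXη : Cyc.DeltaCompat ((f ≫ b).fiberToSpecResidueField (η R)) δXη (fun _ => 0))
    (hXs : Cyc.DeltaCompat ((f ≫ b).fiberToSpecResidueField (s R)) δXs (fun _ => 0))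
    (hYη : Cyc.DeltaCompat (b.fiberToSpecResidueField (η R)) δYη (fun _ => 0))
    (hYs : Cyc.DeltaCompat (b.fiberToSpecResidueField (s R)) δYs (fun _ => 0))
    [QuasiCompact (fibMap b f (η R))] [QuasiCompact (fibMap b f (s R))] (r : ℤ)
    (α : AlgebraicCycle ((f ≫ b).fiber (η R)) ℤ) (hα : α ∈ Cyc.Zk ((f ≫ b).fiber (η R)) δXη r)
    (β : AlgebraicCycle ((f ≫ b).fiber (s R)) ℤ)
    (hβ : ⇑β = Cyc.spFun (f ≫ b) (η R) (s R) δXη δXs r ⇑α) :
    Cyc.spFun b (η R) (s R) δYη δYs r ⇑(AlgebraicCycle.map (fibMap b f (η R)) δXη δYη α) =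
      ⇑(AlgebraicCycle.map (fibMap b f (s R)) δXs δYs β) := by
  have hX := isSetupT (f ≫ b)
  have hY := isSetupT b
  haveI := hX.1
  haveI := hY.1
  let A := extCycle (f ≫ b) δXη r α
  have hη1 : ∀ ζ, δT (f ≫ b) ((f ≫ b).fiberι (η R) ζ) = δXη ζ + 1 := fun ζ => by
    rw [δT_fiber _ _ hXη, δR_η, add_comm]
  have hη2 : ∀ ζ, δT b (b.fiberι (η R) ζ) = δYη ζ + 1 := fun ζ => by rw [δT_fiber _ _ hYη, δR_η, add_comm]
  have hs1 : ∀ ζ, δT (f ≫ b) ((f ≫ b).fiberι (s R) ζ) = δXs ζ + 0 := fun ζ => by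
    rw [δT_fiber _ _ hXs, δR_s, zero_add, add_zero]
  have hs2 : ∀ ζ, δT b (b.fiberι (s R) ζ) = δYs ζ + 0 := fun ζ => by
    rw [δT_fiber _ _ hYs, δR_s, zero_add, add_zero]
  have hA : ∀ ζ, α ζ = A ((f ≫ b).fiberι (η R) ζ) := fun ζ => by
    show α ζ = ext (f ≫ b) δXη r ⇑α _
    rw [ext_apply]
    split_ifs with h
    · rfl
    · exact hα ζ h
  have hext : ext b δYη r ⇑(AlgebraicCycle.map (fibMap b f (η R)) δXη δYη α) =
      ⇑(AlgebraicCycle.map f (δT (f ≫ b)) (δT b) A) := by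
    funext y
    by_cases h : ∃ ζ, b.fiberι (η R) ζ = y
    · obtain ⟨ζ, rfl⟩ := h
      rw [ext_apply, map_restrict (w_fibMap b f (η R)) hη1 hη2 (fun x hx => mem_range_of_mem b f hx) A α hA ζ]
      split_ifs with hr
      · rfl
      · exact (Bivar.cycMap_mem_Zk _ δXη δYη r hα ζ hr).symm
    · rw [ext, Function.extend_apply' _ _ _ h, CycLib.map_apply']
      refine (finsum_mem_eq_zero_of_forall_eq_zero fun x hx => mul_eq_zero_of_left ?_ _).symm
      refine ext_eq_zero (f ≫ b) _ _ _ fun hx' => h ?_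
      have : f x ∈ Set.range (b.fiberι (η R)) := by rw [Scheme.Hom.range_fiberι]; exact hx'
      rwa [show f x = y from hx] at this
  funext y
  rw [spFun_eq b hYη hYs, hext, ← C1Push.map_c1Cap InvX.isInvertible_structureModule hX.2.2 hY.2.2
    (deltaCompat_f b f) A (sec_ne_zero b)]
  refine map_restrict (w_fibMap b f (s R)) hs1 hs2 (fun x hx => mem_range_of_mem b f hx) _ β (fun x => ?_) y
  rw [hβ, spFun_eq (f ≫ b) hXη hXs, coe_c1CapCycle, c1CapFun_sec_pull b f (α := ⇑A)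
    fun z hz => ext_eq_zero (f ≫ b) _ _ _ hz]
  rfl

theorem spFun_pull [Flat f] {e : ℕ} (he : Cyc.HasRelDim f e) {δX'η : ↥((f ≫ b).fiber (η R)) → ℤ}
    {δX's : ↥((f ≫ b).fiber (s R)) → ℤ} {δXη : ↥(b.fiber (η R)) → ℤ} {δXs : ↥(b.fiber (s R)) → ℤ}
    (h1 : Cyc.DeltaCompat ((f ≫ b).fiberToSpecResidueField (η R)) δX'η (fun _ => 0))
    (h2 : Cyc.DeltaCompat ((f ≫ b).fiberToSpecResidueField (s R)) δX's (fun _ => 0))
    (h3 : Cyc.DeltaCompat (b.fiberToSpecResidueField (η R)) δXη (fun _ => 0))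
    (h4 : Cyc.DeltaCompat (b.fiberToSpecResidueField (s R)) δXs (fun _ => 0))
    (r : ℤ) (α : AlgebraicCycle (b.fiber (η R)) ℤ) (hα : α ∈ Cyc.Zk (b.fiber (η R)) δXη r) :
    Cyc.spFun (f ≫ b) (η R) (s R) δX'η δX's (r + e) (Cyc.pullFun (fibMap b f (η R)) δX'η δXη e ⇑α) =
      Cyc.pullFun (fibMap b f (s R)) δX's δXs e (Cyc.spFun b (η R) (s R) δXη δXs r ⇑α) := by
  have hX := isSetupT (f ≫ b)
  have hY := isSetupT b
  haveI := hX.1
  haveI := hY.1
  have hη1 : ∀ ζ, δT (f ≫ b) ((f ≫ b).fiberι (η R) ζ) = δX'η ζ + 1 := fun ζ => by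
    rw [δT_fiber _ _ h1, δR_η, add_comm]
  have hη2 : ∀ ζ, δT b (b.fiberι (η R) ζ) = δXη ζ + 1 := fun ζ => by rw [δT_fiber _ _ h3, δR_η, add_comm]
  have hs1 : ∀ ζ, δT (f ≫ b) ((f ≫ b).fiberι (s R) ζ) = δX's ζ + 0 := fun ζ => by
    rw [δT_fiber _ _ h2, δR_s, zero_add, add_zero]
  have hs2 : ∀ ζ, δT b (b.fiberι (s R) ζ) = δXs ζ + 0 := fun ζ => by
    rw [δT_fiber _ _ h4, δR_s, zero_add, add_zero]
  have hker : ∀ (y : B R) (x : ↥((f ≫ b).fiber y)), RingHom.ker (((f ≫ b).fiberι y).stalkMap x).hom ≤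
      Ideal.map (f.stalkMap ((f ≫ b).fiberι y x)).hom (maximalIdeal (Y.presheaf.stalk (f ((f ≫ b).fiberι y x)))) := by
    intro y x
    rw [FlatDvr.ker_stalkMap_fiberι, Scheme.Hom.stalkMap_comp]
    show Ideal.map ((f.stalkMap ((f ≫ b).fiberι y x)).hom.comp (b.stalkMap (f ((f ≫ b).fiberι y x))).hom) _ ≤ _
    rw [← Ideal.map_map]
    exact Ideal.map_mono (((IsLocalRing.local_hom_TFAE (b.stalkMap (f ((f ≫ b).fiberι y x))).hom).out 0 2).1
      (inferInstance : IsLocalHom (b.stalkMap (f ((f ≫ b).fiberι y x))).hom))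
  have hc := FlatShift.hasShift_of_hasRelDim f he (deltaCompat_f b f)
  have hext : ext (f ≫ b) δX'η (r + e) (Cyc.pullFun (fibMap b f (η R)) δX'η δXη e ⇑α) =
      Cyc.pullFun f (δT (f ≫ b)) (δT b) e (ext b δXη r ⇑α) := by
    funext x
    by_cases h : ∃ ζ, (f ≫ b).fiberι (η R) ζ = x
    · obtain ⟨ζ, rfl⟩ := h
      rw [ext_apply, pullFun_restrict (w_fibMap b f (η R)) hη1 hη2 (hker _) e _ ζ]
      have : (fun y => ext b δXη r ⇑α (b.fiberι (η R) y)) = ⇑α := funext fun y => by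
        rw [ext_apply]
        split_ifs with hr
        · rfl
        · exact (hα y hr).symm
      rw [this]
      split_ifs with hr
      · rfl
      · refine Eq.symm ?_
        rw [Cyc.pullFun]
        split_ifs with hd
        · exact mul_eq_zero_of_left (hα _ fun h' => hr (by rw [hd, h'])) _
        · rfl
    · rw [ext, Function.extend_apply' _ _ _ h]
      refine Eq.symm ?_
      rw [Cyc.pullFun]
      split_ifs
      · refine mul_eq_zero_of_left (ext_eq_zero b _ _ _ fun hx' => h ?_) _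
        have : x ∈ Set.range ((f ≫ b).fiberι (η R)) := by rw [Scheme.Hom.range_fiberι]; exact hx'
        exact this
      · rfl
  funext x
  rw [spFun_eq (f ≫ b) h1 h2, hext, ← c1CapFun_sec_pull b f fun z hz => by
      rw [Cyc.pullFun]
      split_ifs
      · exact mul_eq_zero_of_left (ext_eq_zero b _ _ _ hz) _
      · rfl,
    ← pullFun_c1CapFun InvX.isInvertible_structureModule
      (PicClLib.isInvertible_pullback f InvX.isInvertible_structureModule) hc hY.2.2 hX.2.2 (locFin_ext b r α)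
      (sec_ne_zero b),
    pullFun_restrict (w_fibMap b f (s R)) hs1 hs2 (hker _) e _ x]
  refine congrFun (congrArg _ (funext fun y => ?_)) x
  rw [spFun_eq b h3 h4]

end Groth.Agent.H23.SpMap
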