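import Groth.Agent.H23.GysinClass
import Groth.Agent.H23.ClEq
import Groth.Agent.H23.SpMap
import Groth.Agent.H23.SelfInt

/-! Chow groups and bivariant operations on a decomposition into open and closed pieces. -/

set_option autoImplicit false
set_option linter.style.haveILetI false

universe u

open AlgebraicGeometry CategoryTheory CategoryTheory.Limits

namespace Groth.Agent.H23.ClopenDecomp

open Groth.Agent

section

variable {U X : Scheme.{u}} (v : U ⟶ X) [IsOpenImmersion v] [IsClosedImmersion v] {δ : X → ℤ} {δ' : U → ℤ}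

omit [IsOpenImmersion v] in
theorem hasRelDim_zero : Cyc.HasRelDim v 0 := by
  refine (CycLib.hasRelDim_iff v).2 fun x _ => ?_
  have h := ChowDesc.deltaCompat_unique v (ChowDesc.deltaCompat_rd v fun _ => 0)
    (GysinLib.deltaCompat_closedImmersion v fun _ => 0)
  simpa using congrFun h x

variable (hd : δ' = fun x => δ (v x))
include hd

omit [IsOpenImmersion v] in
theorem hasShift_zero : FlatShift.HasShift v δ' δ 0 := by
  subst hd
  exact FlatShift.hasShift_of_hasRelDim v (hasRelDim_zero v) (GysinLib.deltaCompat_closedImmersion v δ)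

omit [IsOpenImmersion v] in
theorem pullFun_eq (A : X → ℤ) : Cyc.pullFun v δ' δ 0 A = fun x => A (v x) := by
  funext x
  have hm : Ideal.map (v.stalkMap x).hom (IsLocalRing.maximalIdeal (X.presheaf.stalk (v x))) =
      IsLocalRing.maximalIdeal (U.presheaf.stalk x) :=
    IsLocalRing.map_maximalIdeal_of_surjective _ (v.stalkMap_surjective x)
  have hl : Module.length (U.presheaf.stalk x)
      (U.presheaf.stalk x ⧸ IsLocalRing.maximalIdeal (U.presheaf.stalk x)) = 1 :=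
    Module.length_eq_one_iff.2 (isSimpleModule_iff_isCoatom.2
      (IsLocalRing.maximalIdeal.isMaximal (U.presheaf.stalk x)).out)
  unfold Cyc.pullFun
  rw [if_pos (by rw [hd, add_zero]), hm, hl]
  simp

/-- Restriction of a cycle. -/
noncomputable abbrev rcyc (α : AlgebraicCycle X ℤ) : AlgebraicCycle U ℤ :=
  CycLib.restrictCycle v v.isEmbedding.injective α

omit [IsOpenImmersion v] in
theorem rcyc_mem {α : AlgebraicCycle X ℤ} {k : ℤ} (hα : α ∈ Cyc.Zk X δ k) : rcyc v α ∈ Cyc.Zk U δ' k :=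
  fun x hx => hα (v x) (by rwa [hd] at hx)

/-- Restriction of classes. -/
noncomputable def resCH (hX : Cyc.IsSetup X δ) (hU : Cyc.IsSetup U δ') (k : ℤ) :
    ChowOps.CH X δ k →+ ChowOps.CH U δ' k :=
  FlatClass.pullCH (hasShift_zero v hd) hX hU k k (add_zero k).symm

theorem resCH_cl (hX : Cyc.IsSetup X δ) (hU : Cyc.IsSetup U δ') {k : ℤ} {α : AlgebraicCycle X ℤ}
    (hα : α ∈ Cyc.Zk X δ k) :
    resCH v hd hX hU k (ChowOps.cl α hα) = ChowOps.cl (rcyc v α) (rcyc_mem v hd hα) :=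
  FlatClass.pullCH_cl _ hX hU _ hα (pullFun_eq v hd ⇑α).symm _

end

section

variable {Z : Scheme.{u}} {δ : Z → ℤ} {J : Type u} {U : J → Scheme.{u}} (v : ∀ j, U j ⟶ Z)
  [∀ j, IsOpenImmersion (v j)] [∀ j, IsClosedImmersion (v j)] {δ' : ∀ j, U j → ℤ}
  (hdisj : ∀ j j' : J, j ≠ j' → Disjoint (Set.range (v j)) (Set.range (v j')))
  (hcov : ∀ z : Z, ∃ j, z ∈ Set.range (v j))
  (hd : ∀ j, δ' j = fun x => δ (v j x)) (hZ : Cyc.IsSetup Z δ) (hU : ∀ j, Cyc.IsSetup (U j) (δ' j))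

/-- Restriction to all pieces. -/
noncomputable def resAll (k : ℤ) : ChowOps.CH Z δ k →+ ∀ j, ChowOps.CH (U j) (δ' j) k :=
  AddMonoidHom.mk' (fun a j => resCH (v j) (hd j) hZ (hU j) k a) fun _ _ => funext fun _ => map_add _ _ _

theorem resAll_apply (k : ℤ) (a : ChowOps.CH Z δ k) (j : J) :
    resAll v hd hZ hU k a j = resCH (v j) (hd j) hZ (hU j) k a := rfl

include hdisj hcov

theorem resAll_injective (k : ℤ) : Function.Injective (resAll v hd hZ hU k) := by
  haveI := hZ.1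
  refine (injective_iff_map_eq_zero _).2 fun a ha => ?_
  obtain ⟨α, hα, rfl⟩ := Bivar.exists_rep a
  refine (ChowDesc.cl_eq_of_ratEquiv (β := 0) hα ((ChowOps.zk Z δ k).zero_mem) ?_).trans Bivar.cl_zero
  show Cyc.RatEquivZero δ k (α - 0)
  rw [sub_zero]
  classical
  let G : J → Z → ℤ := fun j z => if z ∈ Set.range (v j) then α z else 0
  have hj : ∀ j, RatOn.ZeroOn δ k (Set.range (v j)) (G j) := fun j => by
    haveI := (hU j).1
    have h0 := congrFun ha j
    rw [resAll_apply, resCH_cl (v j) (hd j) hZ (hU j) hα] at h0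
    have h1 := ClEq.ratEquivZero_of_mem (hU j).2.2
      (a := ⟨rcyc (v j) α, rcyc_mem (v j) (hd j) hα⟩) ((QuotientAddGroup.eq_zero_iff _).1 h0)
    rw [← Set.image_univ]
    refine RatOn.push (v j) (G := fun w => α (v j w)) ?_ (fun w => if_pos ⟨w, rfl⟩) fun z hz => if_neg hz
    have h2 : RatOn.ZeroOn (δ' j) k Set.univ (fun w => α (v j w)) := RatOn.of_ratEquivZero h1
    rw [hd j] at h2
    exact h2
  refine RatOn.ratEquivZero (T := Set.univ) (RatOn.congr (RatOn.sum hZ.2.2 (fun _ => (1 : ℤ)) G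
    (fun j => Set.range (v j)) (fun j => Set.subset_univ _) hj fun z => ?_) fun z => ?_)
  · obtain ⟨j₀, hj₀⟩ := hcov z
    refine ⟨Set.range (v j₀), (v j₀).isOpenEmbedding.isOpen_range, hj₀, (Set.finite_singleton j₀).subset ?_⟩
    rintro j ⟨⟨x, hx, hx'⟩, -⟩
    by_contra hne
    exact Set.disjoint_left.1 (hdisj j j₀ hne) hx hx'
  · obtain ⟨j₀, hj₀⟩ := hcov z
    rw [finsum_eq_single _ j₀ fun j hj' => ?_]
    · show α z = 1 * G j₀ z
      rw [one_mul]
      exact (if_pos hj₀).symm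
    · show 1 * G j z = 0
      rw [one_mul]
      exact if_neg fun h => Set.disjoint_left.1 (hdisj j j₀ hj') h hj₀

theorem resAll_surjective (k : ℤ) : Function.Surjective (resAll v hd hZ hU k) := by
  intro b
  choose β hβ he using fun j => Bivar.exists_rep (b j)
  choose c x hx using hcov
  have huniq : ∀ (j : J) (w : U j), (⟨c (v j w), x (v j w)⟩ : Σ i, U i) = ⟨j, w⟩ := fun j w => by
    have e : c (v j w) = j := by
      by_contra hne
      exact Set.disjoint_left.1 (hdisj _ _ hne) ⟨_, hx (v j w)⟩ ⟨w, rfl⟩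
    have key : ∀ (i : J) (w' : U i), i = j → v i w' = v j w → (⟨i, w'⟩ : Σ i, U i) = ⟨j, w⟩ := by
      rintro i w' rfl h
      rw [(v i).isEmbedding.injective h]
    exact key _ _ e (hx _)
  let A : Z → ℤ := fun z => β (c z) (x z)
  have hA : ∀ (j : J) (w : U j), A (v j w) = β j w := fun j w =>
    congrArg (fun p : Σ i, U i => β p.1 p.2) (huniq j w)
  let α : AlgebraicCycle Z ℤ :=
    { toFun := A
      supportWithinDomain' := fun _ _ => trivial
      supportLocallyFiniteWithinDomain' := fun z _ => by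
        obtain ⟨t, ht, hfin⟩ := (β (c z)).supportLocallyFiniteWithinDomain' (x z) trivial
        refine ⟨v (c z) '' t, ?_, (hfin.image (v (c z))).subset ?_⟩
        · have := (v (c z)).isOpenEmbedding.isOpenMap.image_mem_nhds ht
          rwa [hx z] at this
        · rintro y ⟨⟨w, hw, rfl⟩, hy⟩
          exact ⟨w, ⟨hw, fun h0 => hy (by show A _ = 0; rw [hA]; exact h0)⟩, rfl⟩ }
  have hα : α ∈ Cyc.Zk Z δ k := fun z hz => hβ (c z) (x z) (by rw [hd]; show δ _ ≠ k; rwa [hx z])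
  refine ⟨ChowOps.cl α hα, funext fun j => ?_⟩
  rw [resAll_apply, resCH_cl (v j) (hd j) hZ (hU j) hα, ← he j]
  exact Bivar.cl_congr (Function.locallyFinsuppWithin.ext fun w => hA j w) _ _

/-- Classes on a decomposed scheme are families of classes. -/
noncomputable def equiv (k : ℤ) : ChowOps.CH Z δ k ≃+ ∀ j, ChowOps.CH (U j) (δ' j) k :=
  AddEquiv.ofBijective (resAll v hd hZ hU k)
    ⟨resAll_injective v hdisj hcov hd hZ hU k, resAll_surjective v hdisj hcov hd hZ hU k⟩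

end

section

variable {D X U E : Scheme.{u}} {δ : X → ℤ} {δD : D → ℤ} {δU : U → ℤ} {δE : E → ℤ}

/-- The Gysin map commutes with restriction to open and closed pieces. -/
theorem gysin_res (i : D ⟶ X) [IsClosedImmersion i] (v : U ⟶ X) [IsOpenImmersion v] [IsClosedImmersion v]
    (v' : E ⟶ D) [IsOpenImmersion v'] [IsClosedImmersion v'] (iU : E ⟶ U) (sq : IsPullback iU v' v i)
    (hX : Cyc.IsSetup X δ) (hD : Cyc.IsSetup D δD) (hE : Cyc.IsSetup E δE) (hδ : Cyc.DeltaCompat i δD δ)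
    (hv : δU = fun x => δ (v x)) (hv' : δE = fun x => δD (v' x))
    {L : X.Modules} (hL : PicF.IsInvertible L) {σ : L.presheaf.obj (Opposite.op ⊤)}
    (hσ : Cyc.IsZeroSchemeOf i L σ) {N : U.Modules} (hN : PicF.IsInvertible N)
    (e : (Scheme.Modules.pullback v).obj L ≅ N) {τ : N.presheaf.obj (Opposite.op ⊤)}
    (hτ : Cyc.IsZeroSchemeOf iU N τ) {k k₁ : ℤ} (hk : k₁ = k - 1) {α : AlgebraicCycle X ℤ}
    (hα : α ∈ Cyc.Zk X δ k)
    {w : (ξ : X) → Cyc.secFibre L ξ} (hw : ∀ ξ, w ξ ≠ 0) {γ : AlgebraicCycle D ℤ}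
    (hγe : ∀ d, γ d = Cyc.c1CapFun δ L ⇑α (Cyc.gysinChoice L σ w) (i d)) (hγ : γ ∈ Cyc.Zk D δD k₁)
    {w' : (ξ : U) → Cyc.secFibre N ξ} (hw' : ∀ ξ, w' ξ ≠ 0) {γ' : AlgebraicCycle E ℤ}
    (hγ'e : ∀ d, γ' d = Cyc.c1CapFun δU N ⇑(rcyc v α) (Cyc.gysinChoice N τ w') (iU d))
    (hγ' : γ' ∈ Cyc.Zk E δE k₁) :
    resCH v' hv' hD hE k₁ (ChowOps.cl γ hγ) = ChowOps.cl γ' hγ' := by
  subst hk hv hv'
  let s₀ : Bivar.Sq i δD δ :=
    { Y' := X, X' := D, g := 𝟙 X, f' := i, g' := 𝟙 D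
      isPullback := IsPullback.of_vert_isIso ⟨by simp⟩
      lft := inferInstance, δY' := δ, δX' := δD
      compatY := Bivar.deltaCompat_id δ, compatX := Bivar.deltaCompat_id δD }
  let t₀ : Bivar.Sq i δD δ :=
    { Y' := U, X' := E, g := v, f' := iU, g' := v', isPullback := sq, lft := inferInstance
      δY' := fun x => δ (v x), δX' := fun x => δD (v' x)
      compatY := GysinLib.deltaCompat_closedImmersion v δ
      compatX := GysinLib.deltaCompat_closedImmersion v' δD }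
  let G := GysinClass.gysin hX hL hσ hδ hD
  have h0 : G.op s₀ k (ChowOps.cl α hα) = ChowOps.cl γ hγ :=
    GysinClass.op_cl hX hL hσ hδ s₀ hα hL ((Scheme.Modules.pullbackId X).app L) hσ hw hγe hγ
  have h1 : G.op t₀ k (ChowOps.cl (rcyc v α) (rcyc_mem v rfl hα)) = ChowOps.cl γ' hγ' :=
    GysinClass.op_cl hX hL hσ hδ t₀ (rcyc_mem v rfl hα) hN e hτ hw' hγ'e hγ'
  have hp := G.pull s₀ t₀ v v' 0 (hasRelDim_zero v) (hasRelDim_zero v') (Category.comp_id v) sq.w.symm
    (Category.comp_id v') k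
  rw [Nat.cast_zero, add_zero] at hp
  obtain ⟨β, hβ, e1, e2⟩ := hp α hα
  obtain ⟨β₁, hβ₁, e3, e4⟩ := e2 (rcyc v α) (pullFun_eq v rfl ⇑α).symm (rcyc_mem v rfl hα)
  rw [← h1, e4, ← h0, e1]
  refine (resCH_cl v' rfl hD hE hβ).trans (Bivar.cl_congr (DFunLike.coe_injective ?_) _ _)
  rw [e3]
  exact (pullFun_eq v' rfl ⇑β).symm

end

/-! ### Classes and morphisms of squares -/

section

variable {X Y : Scheme.{u}} {δX : X → ℤ} {δY : Y → ℤ} {f : X ⟶ Y} {p : ℤ}

/-- A bivariant class commutes with restriction to open and closed pieces. -/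
theorem res_op (hX : Cyc.IsSetup X δX) (hY : Cyc.IsSetup Y δY) (c : Bivar.Cl p f δX δY) (s t : Bivar.Sq f δX δY)
    (h : t.Y' ⟶ s.Y') [IsOpenImmersion h] [IsClosedImmersion h] (h' : t.X' ⟶ s.X') [IsOpenImmersion h']
    [IsClosedImmersion h'] (w₁ : h ≫ s.g = t.g) (w₂ : h' ≫ s.f' = t.f' ≫ h) (w₃ : h' ≫ s.g' = t.g') (k : ℤ)
    (a : ChowOps.CH s.Y' s.δY' k) :
    c.op t k (resCH h (FlatClass.delta_closedImmersionY h w₁) (FlatClass.isSetup_Y' hY s)
        (FlatClass.isSetup_Y' hY t) k a) =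
      resCH h' (FlatClass.delta_closedImmersionX h' w₃) (FlatClass.isSetup_X' hX s) (FlatClass.isSetup_X' hX t)
        (k - p) (c.op s k a) := by
  obtain ⟨α, hα, rfl⟩ := Bivar.exists_rep a
  have hdY := FlatClass.delta_closedImmersionY h w₁
  have hdX := FlatClass.delta_closedImmersionX h' w₃
  have hp := c.pull s t h h' 0 (hasRelDim_zero h) (hasRelDim_zero h') w₁ w₂ w₃ k
  rw [Nat.cast_zero, add_zero] at hp
  obtain ⟨β, hβ, e1, e2⟩ := hp α hα
  obtain ⟨β₁, hβ₁, e3, e4⟩ := e2 (rcyc h α) (pullFun_eq h hdY ⇑α).symm (rcyc_mem h hdY hα)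
  rw [resCH_cl h hdY _ _ hα, e4, e1, resCH_cl h' hdX _ _ hβ]
  refine Bivar.cl_congr (DFunLike.coe_injective ?_) _ _
  rw [e3]
  exact pullFun_eq h' hdX ⇑β

end

end Groth.Agent.H23.ClopenDecomp
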