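import Groth.Agent.H23.GysinClass
import Groth.Agent.H23.FlatPushPull
import Groth.Agent.CycLib.DivPushAll

/-! Proper push-forward of bivariant classes. -/

set_option autoImplicit false
set_option linter.style.haveILetI false

universe u

open AlgebraicGeometry CategoryTheory CategoryTheory.Limits

namespace Groth.Agent.H23.PushClass

open Groth.Agent ChowDesc RatSec FlatClass

variable {X' X : Scheme.{u}} {δ : X → ℤ} {δ' : X' → ℤ} (f : X' ⟶ X) [IsProper f]

/-- Proper push-forward on cycles. -/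
noncomputable def mapHom (δ' : X' → ℤ) (δ : X → ℤ) (k : ℤ) : ↥(ChowOps.zk X' δ' k) →+ ChowOps.CH X δ k :=
  AddMonoidHom.mk' (fun a => ChowOps.cl (AlgebraicCycle.map f δ' δ (a : AlgebraicCycle X' ℤ))
      (Bivar.cycMap_mem_Zk f δ' δ k a.2)) fun a b => by
    rw [← Bivar.cl_add]
    exact Bivar.cl_congr (Bivar.cycMap_add f δ' δ _ _) _ _

/-- Proper push-forward on Chow groups. -/
noncomputable def mapCH (hX' : Cyc.IsSetup X' δ') (hX : Cyc.IsSetup X δ) (hδ : Cyc.DeltaCompat f δ' δ) (k : ℤ) :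
    ChowOps.CH X' δ' k →+ ChowOps.CH X δ k :=
  lift (mapHom f δ' δ k) fun a ha => by
    refine (cl_eq_of_ratEquiv (β := 0) (Bivar.cycMap_mem_Zk f δ' δ k a.2) ((ChowOps.zk X δ k).zero_mem) ?_).trans
      Bivar.cl_zero
    show Cyc.RatEquivZero δ k (_ - 0)
    rw [sub_zero]
    exact CycLib.ratEquivZero_map f hX' hX hδ ha

theorem mapCH_cl (hX' : Cyc.IsSetup X' δ') (hX : Cyc.IsSetup X δ) (hδ : Cyc.DeltaCompat f δ' δ) {k : ℤ}
    {β : AlgebraicCycle X' ℤ} (hβ : β ∈ Cyc.Zk X' δ' k) :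
    mapCH f hX' hX hδ k (ChowOps.cl β hβ) =
      ChowOps.cl (AlgebraicCycle.map f δ' δ β) (Bivar.cycMap_mem_Zk f δ' δ k hβ) := rfl

omit f

variable {X Y Z : Scheme.{u}} {δX : X → ℤ} {δY : Y → ℤ} {δZ : Z → ℤ} {f : X ⟶ Y} {g : Y ⟶ Z} [IsProper f]
  [LocallyOfFiniteType g]

/-- The square over the composite given by the chosen fibre product. -/
noncomputable abbrev comp (hδf : Cyc.DeltaCompat f δX δY) (s : Bivar.Sq g δY δZ) : Bivar.Sq (f ≫ g) δX δZ :=
  haveI := lft_g' s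
  ⟨s.Y', pullback s.g' f, s.g, pullback.fst s.g' f ≫ s.f', pullback.snd s.g' f,
    (IsPullback.of_hasPullback s.g' f).paste_horiz s.isPullback, s.lft, s.δY',
    fun x => δX (pullback.snd s.g' f x) + FibDim.rd (pullback.snd s.g' f) x, s.compatY, deltaCompat_rd _ δX⟩

theorem deltaCompat_fst (hδf : Cyc.DeltaCompat f δX δY) (s : Bivar.Sq g δY δZ) :
    Cyc.DeltaCompat (pullback.fst s.g' f) (comp hδf s).δX' s.δX' := by
  haveI := lft_g' s
  let S : Bivar.Sq f δX δY := ⟨s.X', pullback s.g' f, s.g', pullback.fst s.g' f, pullback.snd s.g' f,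
    IsPullback.of_hasPullback s.g' f, lft_g' s, s.δX', (comp hδf s).δX', s.compatX, (comp hδf s).compatX⟩
  exact deltaCompat_f' hδf S

variable (hX : Cyc.IsSetup X δX) (hY : Cyc.IsSetup Y δY) (hδf : Cyc.DeltaCompat f δX δY) {p : ℤ}

/-- The operation of the push-forward class. -/
noncomputable def op (c : Bivar.Cl p (f ≫ g) δX δZ) (s : Bivar.Sq g δY δZ) (k : ℤ) :
    ChowOps.CH s.Y' s.δY' k →+ ChowOps.CH s.X' s.δX' (k - p) :=
  (mapCH (pullback.fst s.g' f) (isSetup_X' hX (comp hδf s)) (isSetup_X' hY s) (deltaCompat_fst hδf s) (k - p)).comp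
    (c.op (comp hδf s) k)

theorem op_cl (c : Bivar.Cl p (f ≫ g) δX δZ) (s : Bivar.Sq g δY δZ) {k : ℤ} {α : AlgebraicCycle s.Y' ℤ}
    (hα : α ∈ Cyc.Zk s.Y' s.δY' k) {β : AlgebraicCycle (comp hδf s).X' ℤ}
    (hβ : β ∈ Cyc.Zk (comp hδf s).X' (comp hδf s).δX' (k - p))
    (e : c.op (comp hδf s) k (ChowOps.cl α hα) = ChowOps.cl β hβ) :
    op hX hY hδf c s k (ChowOps.cl α hα) =
      ChowOps.cl (AlgebraicCycle.map (pullback.fst s.g' f) (comp hδf s).δX' s.δX' β)
        (Bivar.cycMap_mem_Zk _ _ s.δX' (k - p) hβ) := by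
  show mapCH (pullback.fst s.g' f) (isSetup_X' hX (comp hδf s)) (isSetup_X' hY s) (deltaCompat_fst hδf s) (k - p) (c.op (comp hδf s) k (ChowOps.cl α hα)) = _
  rw [e]
  rfl

/-- The induced morphism of fibre products. -/
noncomputable def lifth {s t : Bivar.Sq g δY δZ} (h' : t.X' ⟶ s.X') (w₃ : h' ≫ s.g' = t.g') :
    pullback t.g' f ⟶ pullback s.g' f :=
  pullback.lift (pullback.fst t.g' f ≫ h') (pullback.snd t.g' f) (by rw [Category.assoc, w₃, pullback.condition])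

theorem isPullback_lifth {s t : Bivar.Sq g δY δZ} (h' : t.X' ⟶ s.X') (w₃ : h' ≫ s.g' = t.g') :
    IsPullback (lifth (f := f) h' w₃) (pullback.fst t.g' f) (pullback.fst s.g' f) h' :=
  IsPullback.of_right (h₁₂ := pullback.snd s.g' f) (by
      rw [show lifth (f := f) h' w₃ ≫ pullback.snd s.g' f = pullback.snd t.g' f from pullback.lift_snd _ _ _, w₃]
      exact (IsPullback.of_hasPullback t.g' f).flip)
    (pullback.lift_fst _ _ _) (IsPullback.of_hasPullback s.g' f).flip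

/-- The push-forward class. -/
noncomputable def push (hδg : Cyc.DeltaCompat g δY δZ) (c : Bivar.Cl p (f ≫ g) δX δZ) : Bivar.Cl p g δY δZ where
  op s k := op hX hY hδf c s k
  push s t h _ h' _ w₁ w₂ w₃ k := by
    intro α hα
    have sq := isPullback_lifth (f := f) h' w₃
    haveI : IsProper (lifth (f := f) h' w₃) := MorphismProperty.of_isPullback sq.flip ‹_›
    have hH₂ : lifth (f := f) h' w₃ ≫ pullback.fst s.g' f ≫ s.f' = (pullback.fst t.g' f ≫ t.f') ≫ h := by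
      rw [← Category.assoc, sq.w, Category.assoc, w₂, ← Category.assoc]
    have hH₃ : lifth (f := f) h' w₃ ≫ pullback.snd s.g' f = pullback.snd t.g' f := pullback.lift_snd _ _ _
    obtain ⟨β, hβ, e1, e2⟩ := c.push (comp hδf s) (comp hδf t) h (lifth h' w₃) w₁ hH₂ hH₃ k α hα
    refine ⟨_, Bivar.cycMap_mem_Zk (pullback.fst t.g' f) (comp hδf t).δX' t.δX' (k - p) hβ,
      op_cl hX hY hδf c t hα hβ e1, (op_cl hX hY hδf c s _ _ e2).trans (Bivar.cl_congr ?_ _ _)⟩
    rw [CycLib.map_map (lifth h' w₃) (pullback.fst s.g' f) (deltaCompat_homX (s := comp hδf s) (t := comp hδf t) (lifth h' w₃) hH₃) (deltaCompat_fst hδf s),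
      CycLib.map_map (pullback.fst t.g' f) h' (deltaCompat_fst hδf t) (deltaCompat_homX h' w₃)]
    congr 1
    exact sq.w
  pull s t h _ h' _ r hr hr' w₁ w₂ w₃ k := by
    intro α hα
    have sq := isPullback_lifth (f := f) h' w₃
    haveI : Flat (lifth (f := f) h' w₃) := MorphismProperty.of_isPullback sq.flip ‹_›
    haveI := lft_g' s
    haveI : LocallyOfFiniteType (h' ≫ s.g') := w₃ ▸ lft_g' t
    haveI : LocallyOfFiniteType h' := locallyOfFiniteType_of_comp h' s.g'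
    haveI : LocallyOfFiniteType (lifth (f := f) h' w₃) := MorphismProperty.of_isPullback sq.flip ‹_›
    have hrH : Cyc.HasRelDim (lifth (f := f) h' w₃) r := FibDim.hasRelDim_baseChange sq.flip hr'
    have hH₂ : lifth (f := f) h' w₃ ≫ pullback.fst s.g' f ≫ s.f' = (pullback.fst t.g' f ≫ t.f') ≫ h := by
      rw [← Category.assoc, sq.w, Category.assoc, w₂, ← Category.assoc]
    have hH₃ : lifth (f := f) h' w₃ ≫ pullback.snd s.g' f = pullback.snd t.g' f := pullback.lift_snd _ _ _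
    have hsX := isSetup_X' hY s
    have htX := isSetup_X' hY t
    haveI := hsX.1
    haveI := htX.1
    obtain ⟨β, hβ, e1, e2⟩ := c.pull (comp hδf s) (comp hδf t) h (lifth h' w₃) r hr hrH w₁ hH₂ hH₃ k α hα
    refine ⟨_, Bivar.cycMap_mem_Zk (pullback.fst s.g' f) (comp hδf s).δX' s.δX' (k - p) hβ,
      op_cl hX hY hδf c s hα hβ e1, fun α₁ hα₁e hα₁ => ?_⟩
    obtain ⟨β₁, hβ₁, hβ₁e, e3⟩ := e2 α₁ hα₁e hα₁
    refine ⟨AlgebraicCycle.map (pullback.fst t.g' f) (comp hδf t).δX' t.δX' β₁,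
      Bivar.cycMap_mem_Zk _ _ _ _ hβ₁, ?_, op_cl hX hY hδf c t hα₁ hβ₁ e3⟩
    exact (FlatShift.map_pullFun_baseChange sq (p := h') (FlatShift.hasShift_of_hasRelDim h' hr'
      (deltaCompat_homX h' w₃)) htX.2.2 (deltaCompat_fst hδf s) (deltaCompat_fst hδf t) β β₁ hβ₁e).symm
  gysin s t i _ j _ w₁ w₂ w₃ L hL σ hσ τ hτ k := by
    intro α hα
    have sq := isPullback_lifth (f := f) j w₃
    haveI : IsClosedImmersion (lifth (f := f) j w₃) := MorphismProperty.of_isPullback sq.flip ‹_›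
    have hH₂ : lifth (f := f) j w₃ ≫ pullback.fst s.g' f ≫ s.f' = (pullback.fst t.g' f ≫ t.f') ≫ i := by
      rw [← Category.assoc, sq.w, Category.assoc, w₂, ← Category.assoc]
    have hH₃ : lifth (f := f) j w₃ ≫ pullback.snd s.g' f = pullback.snd t.g' f := pullback.lift_snd _ _ _
    have hsX := isSetup_X' hY s
    have hcX := isSetup_X' hX (comp hδf s)
    haveI := hsX.1
    haveI := hcX.1
    have hM := PicClLib.isInvertible_pullback s.f' hL
    have hMP := PicClLib.isInvertible_pullback (pullback.fst s.g' f) hM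
    have hτP := GysinSq.isZeroSchemeOf_pb sq hM hτ
    let e : (Scheme.Modules.pullback (pullback.fst s.g' f)).obj ((Scheme.Modules.pullback s.f').obj L) ≅
        (Scheme.Modules.pullback (pullback.fst s.g' f ≫ s.f')).obj L :=
      (Scheme.Modules.pullbackComp (pullback.fst s.g' f) s.f').app L
    have hτ' := isZeroSchemeOf_mapIso e hτP
    have hMc := PicClLib.isInvertible_pullback (pullback.fst s.g' f ≫ s.f') hL
    obtain ⟨β, hβ, e1, e2⟩ := c.gysin (comp hδf s) (comp hδf t) i (lifth j w₃) w₁ hH₂ hH₃ L hL σ hσ _ hτ' k α hα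
    refine ⟨_, Bivar.cycMap_mem_Zk (pullback.fst s.g' f) (comp hδf s).δX' s.δX' (k - p) hβ,
      op_cl hX hY hδf c s hα hβ e1, fun w hw γ hγe hγ w' hw' => ?_⟩
    obtain ⟨v, hv⟩ := exists_sections hMP
    obtain ⟨ζ₁, hζ₁, hζ₁e, e3⟩ := e2 w hw γ hγe hγ _ (mapSec_ne_zero e hv)
    have hdj := delta_closedImmersionX j w₃
    have hdH : (comp hδf t).δX' = fun d => (comp hδf s).δX' (lifth j w₃ d) :=
      delta_closedImmersionX (s := comp hδf s) (t := comp hδf t) (lifth j w₃) hH₃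
    have hmem := Bivar.cycMap_mem_Zk (pullback.fst s.g' f) (comp hδf s).δX' s.δX' (k - p) hβ
    let ζ := GysinLib.gysinCycle hM hsX.2.2 j τ
      (AlgebraicCycle.map (pullback.fst s.g' f) (comp hδf s).δX' s.δX' β) hw'
    have hζ : ζ ∈ Cyc.Zk t.X' t.δX' (k - 1 - p) := by
      rw [show k - 1 - p = k - p - 1 by ring]
      exact GysinClass.gysinCycle_mem hM hsX.2.2 hdj hmem hw'
    refine ⟨ζ, hζ, fun _ => rfl, (op_cl hX hY hδf c t hγ hζ₁ e3).trans (cl_eq_of_ratEquiv _ _ ?_).symm⟩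
    have key := GysinSq.ratEquiv_gysin_push (j := lifth j w₃) (q := pullback.fst t.g' f) (f := pullback.fst s.g' f)
      (i := j) sq hsX hcX (deltaCompat_fst hδf s) hM hτ hτP (k := k - 1 - p) β
      (fun x hx => hβ x (by omega)) hw' hv (γ := ζ) (fun _ => rfl) (γ' := ζ₁)
      (fun z => by
        rw [hζ₁e z, ← c1CapFun_mapSec e hMP hMc hcX.2.2 ⇑β (GysinLib.gysinChoice_ne_zero _ hv)]
        exact (congrFun (congrArg (Cyc.c1CapFun (comp hδf s).δX' _ ⇑β)
          (funext fun ξ => mapSec_gysinChoice e _ v ξ)) _).symm)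
    rw [hdH, hdj]
    exact key

theorem isProperPushClass (hδg : Cyc.DeltaCompat g δY δZ) (c : Bivar.Cl p (f ≫ g) δX δZ) :
    Bivar.IsProperPushClass f g c (push hX hY hδf hδg c) := by
  refine ⟨‹_›, hδf, fun s X' f' _ gX hp δX' hX' k α hα β hβ he => ?_⟩
  haveI := lft_g' s
  let t : Bivar.Sq (f ≫ g) δX δZ :=
    ⟨s.Y', X', s.g, f' ≫ s.f', gX, hp.paste_horiz s.isPullback, s.lft, s.δY', δX', s.compatY, hX'⟩
  let a := hp.isoPullback
  have h₂ : a.hom ≫ pullback.fst s.g' f ≫ s.f' = (f' ≫ s.f') ≫ 𝟙 _ := by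
    rw [hp.isoPullback_hom_fst_assoc, Category.comp_id]
  have h₃ : a.hom ≫ pullback.snd s.g' f = gX := hp.isoPullback_hom_snd
  obtain ⟨β₀, hβ₀, e1, e2⟩ := c.push (comp hδf s) t (𝟙 _) a.hom (Category.id_comp _) h₂ h₃ k α hα
  have hid : AlgebraicCycle.map (𝟙 s.Y') s.δY' s.δY' α = α := by
    ext y
    exact CycLib.map_preimmersion_apply (𝟙 s.Y') s.δY' α y
  rw [Bivar.cl_congr (β := α) (show AlgebraicCycle.map (𝟙 s.Y') t.δY' (comp hδf s).δY' α = α from hid) _ hα] at e2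
  refine (op_cl hX hY hδf c s hα _ e2).trans ?_
  have hda : Cyc.DeltaCompat a.hom δX' (comp hδf s).δX' := deltaCompat_homX (s := comp hδf s) (t := t) a.hom h₃
  have hX's := isSetup_X' hX t
  have hsX := isSetup_X' hY s
  have hδ' : Cyc.DeltaCompat f' δX' s.δX' := by
    have := Bivar.deltaCompat_comp a.hom (pullback.fst s.g' f) δX' _ _ hda (deltaCompat_fst hδf s)
    rwa [hp.isoPullback_hom_fst] at this
  refine (Bivar.cl_congr ?_ _ (Bivar.cycMap_mem_Zk f' δX' s.δX' (k - p) hβ₀)).trans ?_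
  · rw [CycLib.map_map a.hom (pullback.fst s.g' f) hda (deltaCompat_fst hδf s)]
    congr 1
    exact hp.isoPullback_hom_fst
  · rw [← mapCH_cl f' hX's hsX hδ' hβ₀, ← mapCH_cl f' hX's hsX hδ' hβ, ← show _ = ChowOps.cl β₀ hβ₀ from e1,
      show c.op t k (ChowOps.cl α hα) = _ from he]

end Groth.Agent.H23.PushClass
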