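import Groth.Agent.H23.ClopenDecomp
import Groth.Agent.H23.PushClass

/-! Bivariant classes over a decomposition into open and closed pieces. -/

set_option autoImplicit false
set_option linter.style.haveILetI false

universe u

open AlgebraicGeometry CategoryTheory CategoryTheory.Limits

namespace Groth.Agent.H23.ClopenGlue

open Groth.Agent FlatClass ClopenDecomp

theorem isClosed_range_piece {Y : Scheme.{u}} {J : Type u} {U : J → Scheme.{u}} (g : ∀ j, U j ⟶ Y)
    [∀ j, IsOpenImmersion (g j)] (hdisj : ∀ j j' : J, j ≠ j' → Disjoint (Set.range (g j)) (Set.range (g j')))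
    (hcov : ∀ y : Y, ∃ j, y ∈ Set.range (g j)) (j : J) : IsClosed (Set.range (g j)) := by
  rw [← isOpen_compl_iff, show (Set.range (g j))ᶜ = ⋃ i : {i // i ≠ j}, Set.range (g i.1) from ?_]
  · exact isOpen_iUnion fun i => (g i.1).isOpenEmbedding.isOpen_range
  · ext y
    simp only [Set.mem_compl_iff, Set.mem_iUnion]
    refine ⟨fun hy => ?_, fun ⟨i, hi⟩ hy => Set.disjoint_left.1 (hdisj i.1 j i.2) hi hy⟩
    obtain ⟨i, hi⟩ := hcov y
    exact ⟨⟨i, fun e => hy (e ▸ hi)⟩, hi⟩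

theorem exists_pre {A B C D : Scheme.{u}} {a : A ⟶ B} {b : A ⟶ C} {c : B ⟶ D} {e : C ⟶ D} (h : IsPullback a b c e)
    (x : B) (y : C) (hxy : c x = e y) : ∃ z, a z = x := by
  obtain ⟨z, hz, -⟩ := Scheme.Pullback.exists_preimage_pullback x y hxy
  refine ⟨h.isoPullback.inv z, ?_⟩
  rw [← hz, ← h.isoPullback_inv_fst]
  rfl

variable {X Y : Scheme.{u}} {δX : X → ℤ} {δY : Y → ℤ} {f : X ⟶ Y}

/-- The piece of a square over a base change. -/
noncomputable def piece (σ s : Bivar.Sq f δX δY) : Bivar.Sq σ.f' σ.δX' σ.δY' :=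
  haveI := s.lft
  haveI : LocallyOfFiniteType (pullback.snd s.g σ.g) := inferInstance
  haveI : LocallyOfFiniteType (pullback.snd (pullback.snd s.g σ.g) σ.f') := inferInstance
  ⟨pullback s.g σ.g, pullback (pullback.snd s.g σ.g) σ.f', pullback.snd s.g σ.g, pullback.fst _ _, pullback.snd _ _,
    IsPullback.of_hasPullback _ _, inferInstance,
    fun y => σ.δY' (pullback.snd s.g σ.g y) + FibDim.rd (pullback.snd s.g σ.g) y,
    fun y => σ.δX' (pullback.snd (pullback.snd s.g σ.g) σ.f' y) +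
      FibDim.rd (pullback.snd (pullback.snd s.g σ.g) σ.f') y,
    ChowDesc.deltaCompat_rd _ _, ChowDesc.deltaCompat_rd _ _⟩

/-- The piece as a square. -/
noncomputable abbrev psq (σ s : Bivar.Sq f δX δY) : Bivar.Sq f δX δY := σ.paste (piece σ s)

/-- The inclusion of a piece. -/
noncomputable def inY (σ s : Bivar.Sq f δX δY) : (psq σ s).Y' ⟶ s.Y' := pullback.fst s.g σ.g

theorem inY_g (σ s : Bivar.Sq f δX δY) : inY σ s ≫ s.g = (psq σ s).g := pullback.condition

/-- The inclusion of a piece, second level. -/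
noncomputable def inX (σ s : Bivar.Sq f δX δY) : (psq σ s).X' ⟶ s.X' :=
  s.isPullback.lift ((psq σ s).f' ≫ inY σ s) (psq σ s).g'
    (by rw [Category.assoc, inY_g]; exact (psq σ s).isPullback.w)

theorem inX_f' (σ s : Bivar.Sq f δX δY) : inX σ s ≫ s.f' = (psq σ s).f' ≫ inY σ s := s.isPullback.lift_fst _ _ _

theorem inX_g' (σ s : Bivar.Sq f δX δY) : inX σ s ≫ s.g' = (psq σ s).g' := s.isPullback.lift_snd _ _ _

theorem isPullback_in (σ s : Bivar.Sq f δX δY) : IsPullback (psq σ s).f' (inX σ s) (inY σ s) s.f' :=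
  isPullback_hom (inY σ s) (inX σ s) (inY_g σ s) (inX_f' σ s) (inX_g' σ s)

instance (σ s : Bivar.Sq f δX δY) [IsOpenImmersion σ.g] : IsOpenImmersion (inY σ s) :=
  inferInstanceAs (IsOpenImmersion (pullback.fst s.g σ.g))

instance (σ s : Bivar.Sq f δX δY) [IsClosedImmersion σ.g] : IsClosedImmersion (inY σ s) :=
  inferInstanceAs (IsClosedImmersion (pullback.fst s.g σ.g))

instance (σ s : Bivar.Sq f δX δY) [IsOpenImmersion σ.g] : IsOpenImmersion (inX σ s) :=
  MorphismProperty.of_isPullback (P := @IsOpenImmersion) (isPullback_in σ s) inferInstance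

instance (σ s : Bivar.Sq f δX δY) [IsClosedImmersion σ.g] : IsClosedImmersion (inX σ s) :=
  MorphismProperty.of_isPullback (P := @IsClosedImmersion) (isPullback_in σ s) inferInstance

theorem range_inY (σ s : Bivar.Sq f δX δY) : Set.range (inY σ s) = s.g ⁻¹' Set.range σ.g :=
  Scheme.Pullback.range_fst s.g σ.g

theorem range_inX (σ s : Bivar.Sq f δX δY) : Set.range (inX σ s) = s.f' ⁻¹' Set.range (inY σ s) := by
  have h := (isPullback_in σ s).flip
  rw [← Scheme.Pullback.range_fst s.f' (inY σ s), ← h.isoPullback_hom_fst]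
  exact (Scheme.Hom.surjective h.isoPullback.hom).range_comp _

theorem delta_inY (σ s : Bivar.Sq f δX δY) [IsClosedImmersion σ.g] :
    (psq σ s).δY' = fun x => s.δY' (inY σ s x) :=
  delta_closedImmersionY (inY σ s) (inY_g σ s)

theorem delta_inX (σ s : Bivar.Sq f δX δY) [IsClosedImmersion σ.g] :
    (psq σ s).δX' = fun x => s.δX' (inX σ s x) :=
  delta_closedImmersionX (inX σ s) (inX_g' σ s)

section

variable (hX : Cyc.IsSetup X δX) (hY : Cyc.IsSetup Y δY) {p : ℤ}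

/-- Restriction to a piece. -/
noncomputable def resY (σ s : Bivar.Sq f δX δY) [IsOpenImmersion σ.g] [IsClosedImmersion σ.g] (k : ℤ) :
    ChowOps.CH s.Y' s.δY' k →+ ChowOps.CH (piece σ s).Y' (piece σ s).δY' k :=
  resCH (inY σ s) (delta_inY σ s) (isSetup_Y' hY s) (isSetup_Y' hY (psq σ s)) k

/-- Restriction to a piece, second level. -/
noncomputable def resX (σ s : Bivar.Sq f δX δY) [IsOpenImmersion σ.g] [IsClosedImmersion σ.g] (k : ℤ) :
    ChowOps.CH s.X' s.δX' k →+ ChowOps.CH (piece σ s).X' (piece σ s).δX' k :=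
  resCH (inX σ s) (delta_inX σ s) (isSetup_X' hX s) (isSetup_X' hX (psq σ s)) k

theorem res_op' (c : Bivar.Cl p f δX δY) (σ s : Bivar.Sq f δX δY) [IsOpenImmersion σ.g] [IsClosedImmersion σ.g]
    (k : ℤ) (a : ChowOps.CH s.Y' s.δY' k) :
    c.op (psq σ s) k (resY hY σ s k a) = resX hX σ s (k - p) (c.op s k a) :=
  res_op hX hY c s (psq σ s) (inY σ s) (inX σ s) (inY_g σ s) (inX_f' σ s) (inX_g' σ s) k a

variable {J : Type u} (σ : J → Bivar.Sq f δX δY) [∀ j, IsOpenImmersion (σ j).g] [∀ j, IsClosedImmersion (σ j).g]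
  (hdisj : ∀ j j' : J, j ≠ j' → Disjoint (Set.range (σ j).g) (Set.range (σ j').g))
  (hcov : ∀ y : Y, ∃ j, y ∈ Set.range (σ j).g)

omit [∀ j, IsOpenImmersion (σ j).g] [∀ j, IsClosedImmersion (σ j).g] in
include hdisj in
theorem disj_inX (s : Bivar.Sq f δX δY) (j j' : J) (hne : j ≠ j') :
    Disjoint (Set.range (inX (σ j) s)) (Set.range (inX (σ j') s)) := by
  rw [range_inX, range_inX, range_inY, range_inY]
  exact ((hdisj j j' hne).preimage _).preimage _

omit [∀ j, IsOpenImmersion (σ j).g] [∀ j, IsClosedImmersion (σ j).g] in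
include hcov in
theorem cov_inX (s : Bivar.Sq f δX δY) (x : s.X') : ∃ j, x ∈ Set.range (inX (σ j) s) := by
  obtain ⟨j, hj⟩ := hcov (s.g (s.f' x))
  exact ⟨j, by rw [range_inX, range_inY]; exact hj⟩

/-- Classes on the second level are families of classes on the pieces. -/
noncomputable def eqvX (s : Bivar.Sq f δX δY) (k : ℤ) :
    ChowOps.CH s.X' s.δX' k ≃+ ∀ j, ChowOps.CH (piece (σ j) s).X' (piece (σ j) s).δX' k :=
  ClopenDecomp.equiv (fun j => inX (σ j) s) (disj_inX σ hdisj s) (cov_inX σ hcov s)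
    (fun j => delta_inX (σ j) s) (isSetup_X' hX s) (fun j => isSetup_X' hX (psq (σ j) s)) k

theorem eqvX_apply (s : Bivar.Sq f δX δY) (k : ℤ) (a : ChowOps.CH s.X' s.δX' k) (j : J) :
    eqvX hX σ hdisj hcov s k a j = resX hX (σ j) s k a := rfl

include hdisj hcov in
theorem ext_res (s : Bivar.Sq f δX δY) (k : ℤ) {a b : ChowOps.CH s.X' s.δX' k}
    (h : ∀ j, resX hX (σ j) s k a = resX hX (σ j) s k b) : a = b :=
  (eqvX hX σ hdisj hcov s k).injective (funext fun j => by rw [eqvX_apply, eqvX_apply, h])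

include hX hY hdisj hcov in
theorem res_injective (c₁ c₂ : Bivar.Cl p f δX δY) (h : ∀ j, c₁.res (σ j) = c₂.res (σ j)) : c₁ = c₂ := by
  refine Bivar.Cl.ext (funext fun s => funext fun k => AddMonoidHom.ext fun a => ?_)
  refine ext_res hX σ hdisj hcov s (k - p) fun j => ?_
  rw [← res_op' hX hY, ← res_op' hX hY]
  exact DFunLike.congr_fun (congrFun (congrFun (congrArg Bivar.Cl.op (h j)) (piece (σ j) s)) k) _

variable (d : (j : J) → Bivar.Cl p (σ j).f' (σ j).δX' (σ j).δY')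

/-- The glued operation. -/
noncomputable def glueOp (s : Bivar.Sq f δX δY) (k : ℤ) :
    ChowOps.CH s.Y' s.δY' k →+ ChowOps.CH s.X' s.δX' (k - p) :=
  (eqvX hX σ hdisj hcov s (k - p)).symm.toAddMonoidHom.comp
    (AddMonoidHom.mk' (fun a j => (d j).op (piece (σ j) s) k (resY hY (σ j) s k a))
      fun _ _ => funext fun _ => by simp only [map_add, Pi.add_apply])

theorem res_glueOp (s : Bivar.Sq f δX δY) (k : ℤ) (a : ChowOps.CH s.Y' s.δY' k) (j : J) :
    resX hX (σ j) s (k - p) (glueOp hX hY σ hdisj hcov d s k a) = (d j).op (piece (σ j) s) k (resY hY (σ j) s k a) := by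
  rw [← eqvX_apply hX σ hdisj hcov s (k - p)]
  exact congrFun ((eqvX hX σ hdisj hcov s (k - p)).apply_symm_apply _) j

section hom

variable {σ₀ s t : Bivar.Sq f δX δY}

/-- The morphism of pieces induced by a morphism of squares. -/
noncomputable def mapY (σ₀ : Bivar.Sq f δX δY) (h : t.Y' ⟶ s.Y') (w₁ : h ≫ s.g = t.g) :
    (psq σ₀ t).Y' ⟶ (psq σ₀ s).Y' :=
  pullback.lift (pullback.fst t.g σ₀.g ≫ h) (pullback.snd t.g σ₀.g)
    ((Category.assoc _ _ _).trans ((congrArg (pullback.fst t.g σ₀.g ≫ ·) w₁).trans pullback.condition))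

theorem mapY_in (h : t.Y' ⟶ s.Y') (w₁ : h ≫ s.g = t.g) : mapY σ₀ h w₁ ≫ inY σ₀ s = inY σ₀ t ≫ h :=
  pullback.lift_fst _ _ _

theorem mapY_g (h : t.Y' ⟶ s.Y') (w₁ : h ≫ s.g = t.g) : mapY σ₀ h w₁ ≫ (piece σ₀ s).g = (piece σ₀ t).g :=
  pullback.lift_snd _ _ _

theorem isPullback_mapY (h : t.Y' ⟶ s.Y') (w₁ : h ≫ s.g = t.g) :
    IsPullback (inY σ₀ t) (mapY σ₀ h w₁) h (inY σ₀ s) := by
  refine IsPullback.of_bot (h₂₁ := (psq σ₀ s).Y' |> fun _ => inY σ₀ s) ?_ (mapY_in h w₁).symm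
    (IsPullback.of_hasPullback s.g σ₀.g)
  rw [w₁]
  have := mapY_g (σ₀ := σ₀) h w₁
  change IsPullback (inY σ₀ t) (mapY σ₀ h w₁ ≫ (piece σ₀ s).g) t.g σ₀.g
  rw [this]
  exact IsPullback.of_hasPullback t.g σ₀.g

/-- Second level. -/
noncomputable def mapX (σ₀ : Bivar.Sq f δX δY) (h : t.Y' ⟶ s.Y') (w₁ : h ≫ s.g = t.g) :
    (psq σ₀ t).X' ⟶ (psq σ₀ s).X' :=
  (piece σ₀ s).isPullback.lift ((piece σ₀ t).f' ≫ mapY σ₀ h w₁) (piece σ₀ t).g'
    (by rw [Category.assoc, mapY_g]; exact (piece σ₀ t).isPullback.w)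

theorem mapX_f' (h : t.Y' ⟶ s.Y') (w₁ : h ≫ s.g = t.g) :
    mapX σ₀ h w₁ ≫ (piece σ₀ s).f' = (piece σ₀ t).f' ≫ mapY σ₀ h w₁ :=
  (piece σ₀ s).isPullback.lift_fst _ _ _

theorem mapX_g (h : t.Y' ⟶ s.Y') (w₁ : h ≫ s.g = t.g) : mapX σ₀ h w₁ ≫ (piece σ₀ s).g' = (piece σ₀ t).g' :=
  (piece σ₀ s).isPullback.lift_snd _ _ _

variable (h : t.Y' ⟶ s.Y') (h' : t.X' ⟶ s.X') (w₁ : h ≫ s.g = t.g) (w₂ : h' ≫ s.f' = t.f' ≫ h)
  (w₃ : h' ≫ s.g' = t.g')

include w₂ w₃ in
theorem mapX_in : mapX σ₀ h w₁ ≫ inX σ₀ s = inX σ₀ t ≫ h' := by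
  refine s.isPullback.hom_ext ?_ ?_
  · rw [Category.assoc, inX_f', Category.assoc, w₂, ← Category.assoc, ← Category.assoc]
    change (mapX σ₀ h w₁ ≫ (piece σ₀ s).f') ≫ inY σ₀ s = (inX σ₀ t ≫ t.f') ≫ h
    rw [mapX_f', Category.assoc, mapY_in, inX_f', Category.assoc]
  · rw [Category.assoc, inX_g', Category.assoc, w₃, inX_g']
    change mapX σ₀ h w₁ ≫ (piece σ₀ s).g' ≫ σ₀.g' = (piece σ₀ t).g' ≫ σ₀.g'
    rw [← Category.assoc, mapX_g]

include w₂ w₃ in
theorem isPullback_mapX : IsPullback (inX σ₀ t) (mapX σ₀ h w₁) h' (inX σ₀ s) := by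
  refine IsPullback.of_bot ?_ (mapX_in h h' w₁ w₂ w₃).symm (isPullback_in σ₀ s).flip
  rw [w₂]
  have := mapX_f' (σ₀ := σ₀) h w₁
  change IsPullback (inX σ₀ t) (mapX σ₀ h w₁ ≫ (piece σ₀ s).f') (t.f' ≫ h) (inY σ₀ s)
  rw [this]
  exact (isPullback_in σ₀ t).flip.paste_vert (isPullback_mapY h w₁)

end hom

/-- The glued class. -/
noncomputable def glue : Bivar.Cl p f δX δY where
  op s k := glueOp hX hY σ hdisj hcov d s k
  push s t h _ h' _ w₁ w₂ w₃ k := by
    intro α hα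
    obtain ⟨β, hβ, e⟩ := Bivar.exists_rep (glueOp hX hY σ hdisj hcov d t k (ChowOps.cl α hα))
    refine ⟨β, hβ, e.symm, ext_res hX σ hdisj hcov s _ fun j => ?_⟩
    have hsY := isPullback_mapY (σ₀ := σ j) h w₁
    have hsX := isPullback_mapX (σ₀ := σ j) h h' w₁ w₂ w₃
    haveI : IsProper (mapY (σ j) h w₁) := MorphismProperty.of_isPullback hsY ‹_›
    haveI : IsProper (mapX (σ j) h w₁) := MorphismProperty.of_isPullback hsX ‹_›
    have hαj := rcyc_mem (inY (σ j) t) (delta_inY (σ j) t) hα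
    obtain ⟨βj, hβj, e1, e2⟩ := (d j).push (piece (σ j) s) (piece (σ j) t) (mapY (σ j) h w₁) (mapX (σ j) h w₁)
      (mapY_g h w₁) (mapX_f' h w₁) (mapX_g h w₁) k _ hαj
    rw [res_glueOp]
    have h1 : resY hY (σ j) s k (ChowOps.cl (AlgebraicCycle.map h t.δY' s.δY' α) (Bivar.cycMap_mem_Zk h _ _ k hα)) =
        ChowOps.cl (AlgebraicCycle.map (mapY (σ j) h w₁) (piece (σ j) t).δY' (piece (σ j) s).δY'
          (rcyc (inY (σ j) t) α)) (Bivar.cycMap_mem_Zk _ _ _ k hαj) := by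
      refine (resCH_cl _ _ _ _ _).trans (Bivar.cl_congr (Function.locallyFinsuppWithin.ext fun y => ?_) _ _)
      exact SpMap.map_restrict (c := 0) (mapY_in h w₁) (fun x => (congrFun (delta_inY _ _) x).symm.trans (add_zero _).symm)
        (fun x => (congrFun (delta_inY _ _) x).symm.trans (add_zero _).symm) (fun x ⟨y, hy⟩ => by
          obtain ⟨z, hz⟩ := exists_pre hsY x y hy.symm
          exact ⟨z, hz⟩) α _ (fun _ => rfl) y
    have h2 : ChowOps.cl βj hβj = ChowOps.cl (rcyc (inX (σ j) t) β) (rcyc_mem _ (delta_inX (σ j) t) hβ) := by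
      rw [← e1, ← resCH_cl (inX (σ j) t) (delta_inX (σ j) t) (isSetup_X' hX t) (isSetup_X' hX (psq (σ j) t)) hβ, e]
      have := res_glueOp hX hY σ hdisj hcov d t k (ChowOps.cl α hα) j
      refine Eq.trans ?_ this.symm
      exact congrArg _ (resCH_cl _ _ _ _ _).symm
    have hs' := isSetup_X' hX (psq (σ j) s)
    have ht' := isSetup_X' hX (psq (σ j) t)
    have hδ' := deltaCompat_homX (s := piece (σ j) s) (t := piece (σ j) t) (mapX (σ j) h w₁) (mapX_g h w₁)
    rw [h1, e2, ← PushClass.mapCH_cl _ ht' hs' hδ' hβj, h2, PushClass.mapCH_cl]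
    refine Eq.trans ?_ (resCH_cl _ (delta_inX (σ j) s) _ _ _).symm
    refine Bivar.cl_congr (Function.locallyFinsuppWithin.ext fun y => ?_) _ _
    exact (SpMap.map_restrict (c := 0) (mapX_in h h' w₁ w₂ w₃) (fun x => (congrFun (delta_inX _ _) x).symm.trans (add_zero _).symm)
      (fun x => (congrFun (delta_inX _ _) x).symm.trans (add_zero _).symm) (fun x ⟨y, hy⟩ => by
        obtain ⟨z, hz⟩ := exists_pre hsX x y hy.symm
        exact ⟨z, hz⟩) β _ (fun _ => rfl) y).symm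
  pull s t h _ h' _ r hr hr' w₁ w₂ w₃ k := by
    intro α hα
    obtain ⟨β, hβ, e⟩ := Bivar.exists_rep (glueOp hX hY σ hdisj hcov d s k (ChowOps.cl α hα))
    refine ⟨β, hβ, e.symm, fun α₁ hα₁e hα₁ => ?_⟩
    haveI := s.lft
    haveI := lft_g' s
    haveI : LocallyOfFiniteType (h ≫ s.g) := w₁ ▸ t.lft
    haveI : LocallyOfFiniteType h := locallyOfFiniteType_of_comp h s.g
    haveI : LocallyOfFiniteType (h' ≫ s.g') := w₃ ▸ lft_g' t
    haveI : LocallyOfFiniteType h' := locallyOfFiniteType_of_comp h' s.g'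
    haveI := (isSetup_X' hX s).1
    haveI := (isSetup_X' hX t).1
    have hh' := FlatShift.hasShift_of_hasRelDim h' hr' (deltaCompat_homX h' w₃)
    have hl : k + (r : ℤ) - p = k - p + r := by ring
    let β₁ := pullCycle hh' (isSetup_X' hX t).2.2 β
    have hβ₁ : β₁ ∈ Cyc.Zk t.X' t.δX' (k + r - p) := pullCycle_mem hh' (isSetup_X' hX t).2.2 hβ hl
    refine ⟨β₁, hβ₁, rfl, ext_res hX σ hdisj hcov t _ fun j => ?_⟩
    have hsY := isPullback_mapY (σ₀ := σ j) h w₁
    have hsX := isPullback_mapX (σ₀ := σ j) h h' w₁ w₂ w₃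
    haveI : Flat (mapY (σ j) h w₁) := MorphismProperty.of_isPullback hsY ‹_›
    haveI : Flat (mapX (σ j) h w₁) := MorphismProperty.of_isPullback hsX ‹_›
    haveI : LocallyOfFiniteType (mapY (σ j) h w₁) := MorphismProperty.of_isPullback hsY ‹_›
    haveI : LocallyOfFiniteType (mapX (σ j) h w₁) := MorphismProperty.of_isPullback hsX ‹_›
    have hrX := FibDim.hasRelDim_baseChange hsX hr'
    obtain ⟨βj, hβj, e1, e2⟩ := (d j).pull (piece (σ j) s) (piece (σ j) t) (mapY (σ j) h w₁) (mapX (σ j) h w₁) r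
      (FibDim.hasRelDim_baseChange hsY hr) hrX (mapY_g h w₁) (mapX_f' h w₁) (mapX_g h w₁) k _
      (rcyc_mem (inY (σ j) s) (delta_inY (σ j) s) hα)
    have hα₁j := rcyc_mem (inY (σ j) t) (delta_inY (σ j) t) hα₁
    obtain ⟨βj₁, hβj₁, e3, e4⟩ := e2 (rcyc (inY (σ j) t) α₁) (funext fun x => by
      show α₁ (inY (σ j) t x) = _
      rw [hα₁e]
      exact SpMap.pullFun_restrict (c := 0) (mapY_in h w₁) (fun x => (congrFun (delta_inY _ _) x).symm.trans (add_zero _).symm)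
        (fun x => (congrFun (delta_inY _ _) x).symm.trans (add_zero _).symm) (fun x => ((RingHom.injective_iff_ker_eq_bot _).1
          (ConcreteCategory.bijective_of_isIso _).1).le.trans bot_le) r ⇑α x) hα₁j
    rw [res_glueOp, show resY hY (σ j) t (k + r) (ChowOps.cl α₁ hα₁) = _ from resCH_cl _ _ _ _ hα₁, e4]
    have hs' := isSetup_X' hX (psq (σ j) s)
    have ht' := isSetup_X' hX (psq (σ j) t)
    haveI := hs'.1
    haveI := ht'.1
    have hhj := FlatShift.hasShift_of_hasRelDim (mapX (σ j) h w₁) hrX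
      (deltaCompat_homX (s := piece (σ j) s) (t := piece (σ j) t) (mapX (σ j) h w₁) (mapX_g h w₁))
    have h2 : ChowOps.cl βj hβj = ChowOps.cl (rcyc (inX (σ j) s) β) (rcyc_mem _ (delta_inX (σ j) s) hβ) := by
      rw [← e1, ← resCH_cl (inX (σ j) s) (delta_inX (σ j) s) (isSetup_X' hX s) (isSetup_X' hX (psq (σ j) s)) hβ, e]
      refine Eq.trans ?_ (res_glueOp hX hY σ hdisj hcov d s k (ChowOps.cl α hα) j).symm
      exact congrArg _ (resCH_cl _ _ _ _ _).symm
    rw [← pullCH_cl hhj hs' ht' hl hβj e3 hβj₁, h2,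
      pullCH_cl hhj hs' ht' hl (γ := pullCycle hhj ht'.2.2 (rcyc (inX (σ j) s) β)) _ rfl
        (pullCycle_mem hhj ht'.2.2 (rcyc_mem _ (delta_inX (σ j) s) hβ) hl)]
    refine Eq.trans ?_ (resCH_cl _ (delta_inX (σ j) t) _ _ _).symm
    refine Bivar.cl_congr (Function.locallyFinsuppWithin.ext fun x => ?_) _ _
    exact (SpMap.pullFun_restrict (c := 0) (mapX_in h h' w₁ w₂ w₃) (fun x => (congrFun (delta_inX _ _) x).symm.trans (add_zero _).symm)
      (fun x => (congrFun (delta_inX _ _) x).symm.trans (add_zero _).symm) (fun x => ((RingHom.injective_iff_ker_eq_bot _).1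
        (ConcreteCategory.bijective_of_isIso _).1).le.trans bot_le) r ⇑β x).symm
  gysin s t i _ i' _ w₁ w₂ w₃ L hL σL hσ τ hτ k := by
    intro α hα
    obtain ⟨β, hβ, e⟩ := Bivar.exists_rep (glueOp hX hY σ hdisj hcov d s k (ChowOps.cl α hα))
    refine ⟨β, hβ, e.symm, fun w hw γ hγe hγ w' hw' => ?_⟩
    haveI := (isSetup_X' hX s).1
    have hLf := PicClLib.isInvertible_pullback s.f' hL
    have hdi := delta_closedImmersionX i' w₃
    let ζ := GysinLib.gysinCycle hLf (isSetup_X' hX s).2.2 i' τ β hw'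
    have hζ : ζ ∈ Cyc.Zk t.X' t.δX' (k - 1 - p) := by
      have := GysinClass.gysinCycle_mem hLf (isSetup_X' hX s).2.2 hdi hβ hw' (s := τ)
      rwa [show k - p - 1 = k - 1 - p by ring] at this
    refine ⟨ζ, hζ, fun _ => rfl, ext_res hX σ hdisj hcov t _ fun j => ?_⟩
    have hsY := isPullback_mapY (σ₀ := σ j) i w₁
    have hsX := isPullback_mapX (σ₀ := σ j) i i' w₁ w₂ w₃
    haveI : IsClosedImmersion (mapY (σ j) i w₁) := MorphismProperty.of_isPullback hsY ‹_›
    haveI : IsClosedImmersion (mapX (σ j) i w₁) := MorphismProperty.of_isPullback hsX ‹_›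
    have hLj := PicClLib.isInvertible_pullback (inY (σ j) s) hL
    have hNj := PicClLib.isInvertible_pullback (piece (σ j) s).f' hLj
    have hσj := GysinSq.isZeroSchemeOf_pb hsY.flip hL hσ
    have hτj := GysinSq.isZeroSchemeOf_pb
      (isPullback_hom (s := piece (σ j) s) (t := piece (σ j) t) (mapY (σ j) i w₁) (mapX (σ j) i w₁) (mapY_g i w₁)
        (mapX_f' i w₁) (mapX_g i w₁)).flip hLj hσj
    obtain ⟨v, hv⟩ := RatSec.exists_sections hLj
    obtain ⟨v', hv'⟩ := RatSec.exists_sections hNj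
    have hsj := isSetup_Y' hY (psq (σ j) s)
    have hsj' := isSetup_X' hX (psq (σ j) s)
    haveI := hsj.1
    haveI := hsj'.1
    obtain ⟨βj, hβj, e1, e2⟩ := (d j).gysin (piece (σ j) s) (piece (σ j) t) (mapY (σ j) i w₁) (mapX (σ j) i w₁)
      (mapY_g i w₁) (mapX_f' i w₁) (mapX_g i w₁) _ hLj _ hσj _ hτj k _
      (rcyc_mem (inY (σ j) s) (delta_inY (σ j) s) hα)
    have hdY := delta_closedImmersionY (s := piece (σ j) s) (t := piece (σ j) t) (mapY (σ j) i w₁) (mapY_g i w₁)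
    have hdX := delta_closedImmersionX (s := piece (σ j) s) (t := piece (σ j) t) (mapX (σ j) i w₁) (mapX_g i w₁)
    let γj := GysinLib.gysinCycle hLj hsj.2.2 (mapY (σ j) i w₁) (KFlatLib.pb (inY (σ j) s) (U := ⊤) σL)
      (rcyc (inY (σ j) s) α) hv
    have hγj : γj ∈ Cyc.Zk (piece (σ j) t).Y' (piece (σ j) t).δY' (k - 1) :=
      GysinClass.gysinCycle_mem hLj hsj.2.2 hdY (rcyc_mem (inY (σ j) s) (delta_inY (σ j) s) hα) hv
    obtain ⟨ζj, hζj, e3, e4⟩ := e2 v hv γj (fun _ => rfl) hγj v' hv'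
    have hG1 : resY hY (σ j) t (k - 1) (ChowOps.cl γ hγ) = ChowOps.cl γj hγj :=
      gysin_res i (inY (σ j) s) (inY (σ j) t) (mapY (σ j) i w₁) hsY.flip (isSetup_Y' hY s) (isSetup_Y' hY t)
        (isSetup_Y' hY (psq (σ j) t)) (deltaCompat_homY i w₁) (delta_inY (σ j) s) (delta_inY (σ j) t) hL hσ hLj
        (Iso.refl _) hσj rfl hα hw hγe hγ hv (fun _ => rfl) hγj
    rw [res_glueOp, hG1, e4]
    haveI : IsLocallyNoetherian (piece (σ j) t).X' := (isSetup_X' hX (psq (σ j) t)).1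
    let ζ₀ := GysinLib.gysinCycle hNj hsj'.2.2 (mapX (σ j) i w₁)
      (KFlatLib.pb (piece (σ j) s).f' (U := ⊤) (KFlatLib.pb (inY (σ j) s) (U := ⊤) σL)) (rcyc (inX (σ j) s) β) hv'
    have hζ₀ : ζ₀ ∈ Cyc.Zk (piece (σ j) t).X' (piece (σ j) t).δX' (k - 1 - p) := by
      have := GysinClass.gysinCycle_mem hNj hsj'.2.2 hdX (rcyc_mem (inX (σ j) s) (delta_inX (σ j) s) hβ) hv'
        (s := KFlatLib.pb (piece (σ j) s).f' (U := ⊤) (KFlatLib.pb (inY (σ j) s) (U := ⊤) σL))
      rwa [show k - p - 1 = k - 1 - p by ring] at this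
    have hG2 : resX hX (σ j) t (k - 1 - p) (ChowOps.cl ζ hζ) = ChowOps.cl ζ₀ hζ₀ :=
      gysin_res i' (inX (σ j) s) (inX (σ j) t) (mapX (σ j) i w₁) hsX.flip (isSetup_X' hX s) (isSetup_X' hX t)
        (isSetup_X' hX (psq (σ j) t)) (deltaCompat_homX i' w₃) (delta_inX (σ j) s) (delta_inX (σ j) t) hLf hτ hNj
        ((Scheme.Modules.pullbackComp (inX (σ j) s) s.f').app L ≪≫
          (Scheme.Modules.pullbackCongr (inX_f' (σ j) s)).app L ≪≫
          ((Scheme.Modules.pullbackComp (piece (σ j) s).f' (inY (σ j) s)).app L).symm) hτj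
        (k := k - p) (by ring) hβ hw' (fun _ => rfl) hζ hv' (fun _ => rfl) hζ₀
    rw [hG2]
    refine ChowDesc.cl_eq_of_ratEquiv _ _ ?_
    have h2 : ChowOps.cl βj hβj = ChowOps.cl (rcyc (inX (σ j) s) β) (rcyc_mem _ (delta_inX (σ j) s) hβ) := by
      rw [← e1, ← resCH_cl (inX (σ j) s) (delta_inX (σ j) s) (isSetup_X' hX s) (isSetup_X' hX (psq (σ j) s)) hβ, e]
      refine Eq.trans ?_ (res_glueOp hX hY σ hdisj hcov d s k (ChowOps.cl α hα) j).symm
      exact congrArg _ (resCH_cl _ _ _ _ _).symm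
    rw [show k - 1 - p = k - p - 1 by ring]
    exact SelfInt.gysin_congr hNj hsj'.2.2 hτj hdX hv' (ClEq.ratEquiv_of_cl_eq hsj'.2.2 h2) e3 fun _ => rfl

theorem res_glue (j : J) : (glue hX hY σ hdisj hcov d).res (σ j) = d j := by
  refine Bivar.Cl.ext (funext fun t => funext fun k => AddMonoidHom.ext fun a => ?_)
  show glueOp hX hY σ hdisj hcov d ((σ j).paste t) k a = (d j).op t k a
  refine ext_res hX σ hdisj hcov _ _ fun i => ?_
  rw [res_glueOp]
  by_cases hij : i = j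
  · subst hij
    have w : inY (σ i) ((σ i).paste t) ≫ t.g = (piece (σ i) ((σ i).paste t)).g := by
      rw [← cancel_mono (σ i).g, Category.assoc]
      exact inY_g (σ i) ((σ i).paste t)
    haveI : Mono (σ i).g' := by
      haveI : IsOpenImmersion (σ i).g' := MorphismProperty.of_isPullback (P := @IsOpenImmersion) (σ i).isPullback inferInstance
      infer_instance
    refine res_op (isSetup_X' hX (σ i)) (isSetup_Y' hY (σ i)) (d i) t (piece (σ i) ((σ i).paste t))
      (inY (σ i) ((σ i).paste t)) (inX (σ i) ((σ i).paste t)) w (inX_f' (σ i) ((σ i).paste t)) ?_ k a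
    rw [← cancel_mono (σ i).g', Category.assoc]
    exact inX_g' (σ i) ((σ i).paste t)
  · haveI : IsEmpty (piece (σ i) ((σ j).paste t)).X' := ⟨fun x => by
      have hx : inY (σ i) ((σ j).paste t) ((piece (σ i) ((σ j).paste t)).f' x) ∈
          ((σ j).paste t).g ⁻¹' Set.range (σ i).g := by
        rw [← range_inY]
        exact ⟨_, rfl⟩
      exact Set.disjoint_left.1 (hdisj i j hij) hx ⟨_, rfl⟩⟩
    obtain ⟨α, hα, e1⟩ := Bivar.exists_rep ((d i).op (piece (σ i) ((σ j).paste t)) k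
      (resY hY (σ i) ((σ j).paste t) k a))
    obtain ⟨β, hβ, e2⟩ := Bivar.exists_rep (resX hX (σ i) ((σ j).paste t) (k - p) ((d j).op t k a))
    rw [← e1, ← e2]
    exact Bivar.cl_congr (Function.locallyFinsuppWithin.ext fun x => isEmptyElim x) _ _

end

end Groth.Agent.H23.ClopenGlue
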