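import Groth.Agent.H23.MaxRank

/-! The class of a coherent module supported on a proper closed subset of an integral scheme,
modulo classes supported in codimension two. -/

set_option autoImplicit false
set_option backward.isDefEq.respectTransparency false
set_option backward.isDefEq.respectTransparency.types false
set_option linter.style.haveILetI false

universe u

open CategoryTheory CategoryTheory.Limits AlgebraicGeometry TopologicalSpace Opposite ZeroObject

namespace Groth.Agent.H23.CodimOneRank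

open Groth.Agent
open Groth.Agent.KZ.CycleClass (len len_eq_zero)

variable {X : Scheme.{u}}

/-- The points with one-dimensional local ring. -/
def Dim1 (x : X) : Prop := ringKrullDim (X.presheaf.stalk x) = 1

theorem coheight_of_dim1 {x : X} (h : Dim1 x) : Order.coheight x = 1 := by
  rw [Dim1, ringKrullDim_stalk_eq_coheight x] at h
  exact WithBot.coe_eq_one.1 h

theorem krullDimLE_of_dim1 {x : X} (h : Dim1 x) : Ring.KrullDimLE 1 (X.presheaf.stalk x) :=
  Ring.krullDimLE_iff.2 h.le

theorem two_le_of_lt {x z : X} (hz : ¬ MaxRank.IsMax z) (h : z ⤳ x) (hne : z ≠ x) :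
    (2 : WithBot ℕ∞) ≤ ringKrullDim (X.presheaf.stalk x) := by
  have h1 := MaxRank.one_le_of_not_isMax hz
  rw [ringKrullDim_stalk_eq_coheight z] at h1
  rw [ringKrullDim_stalk_eq_coheight x]
  have hlt : x < z := lt_of_le_not_ge (Scheme.le_iff_specializes.2 h) fun h' =>
    hne ((h.antisymm (Scheme.le_iff_specializes.1 h')).eq)
  refine WithBot.coe_le_coe.2 ((le_trans ?_ (Order.coheight_add_one_le hlt)))
  exact le_trans (le_of_eq (by rfl : ((2 : ℕ) : ℕ∞) = 1 + 1)) (add_le_add (WithBot.coe_le_coe.1 h1) le_rfl)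

theorem eq_of_dim1 {x z : X} (hz : ¬ MaxRank.IsMax z) (hx : Dim1 x) (h : z ⤳ x) : z = x := by
  by_contra hne
  have := two_le_of_lt hz h hne
  rw [hx] at this
  exact absurd this (by decide)

theorem two_le_or {x : X} (h0 : ¬ MaxRank.IsMax x) :
    Dim1 x ∨ (2 : WithBot ℕ∞) ≤ ringKrullDim (X.presheaf.stalk x) := by
  have h1 := MaxRank.one_le_of_not_isMax h0
  unfold Dim1
  rw [ringKrullDim_stalk_eq_coheight x] at h1 ⊢
  rcases (WithBot.coe_le_coe.1 h1).lt_or_eq with h | h
  · exact Or.inr (WithBot.coe_le_coe.2 (Order.add_one_le_of_lt h |>.trans' (le_of_eq one_add_one_eq_two.symm)))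
  · exact Or.inl (by rw [← h]; rfl)

variable [IsIntegral X]

theorem not_isMax_of_ne {x : X} (h : x ≠ genericPoint X) : ¬ MaxRank.IsMax x := fun hm =>
  h (MaxRank.isMax_iff.1 hm _ ((genericPoint_spec X).specializes (Set.mem_univ x))).symm

theorem isMax_genericPoint : MaxRank.IsMax (genericPoint X) :=
  MaxRank.isMax_iff.2 fun _ hy => (hy.antisymm ((genericPoint_spec X).specializes (Set.mem_univ _))).eq

theorem ne_genericPoint_of_dim1 {x : X} (h : Dim1 x) : x ≠ genericPoint X := fun e => by
  have h0 : ringKrullDim (X.presheaf.stalk x) = 0 := e ▸ isMax_genericPoint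
  rw [h] at h0
  exact one_ne_zero h0

theorem finite_dim1 [IsNoetherian X] {C : Set X} (hC : IsClosed C) (hη : genericPoint X ∉ C) :
    {x : X | x ∈ C ∧ Dim1 x}.Finite := by
  haveI : QuasiSober ↥C := hC.isClosedEmbedding_subtypeVal.quasiSober
  haveI : Finite (irreducibleComponents ↥C) := NoetherianSpace.finite_irreducibleComponents.to_subtype
  refine Set.finite_coe_iff.1 (Finite.of_injective
    (fun x : {x : X | x ∈ C ∧ Dim1 x} => (⟨irreducibleComponent (⟨x.1, x.2.1⟩ : ↥C),
      irreducibleComponent_mem_irreducibleComponents _⟩ : irreducibleComponents ↥C)) fun x y hxy => ?_)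
  obtain ⟨z, hz⟩ := QuasiSober.sober isIrreducible_irreducibleComponent
    (isClosed_irreducibleComponent (x := (⟨x.1, x.2.1⟩ : ↥C)))
  have hm : ¬ MaxRank.IsMax z.1 := not_isMax_of_ne fun e => hη (e ▸ z.2)
  have h1 := eq_of_dim1 hm x.2.2 ((hz.specializes mem_irreducibleComponent).map continuous_subtype_val)
  have h2 := eq_of_dim1 hm y.2.2 ((hz.specializes (by
    rw [show irreducibleComponent (⟨x.1, x.2.1⟩ : ↥C) = irreducibleComponent (⟨y.1, y.2.1⟩ : ↥C) from
      congrArg Subtype.val hxy]
    exact mem_irreducibleComponent)).map continuous_subtype_val)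
  exact Subtype.ext (h1.symm.trans h2)

noncomputable section

/-- The subgroup of classes supported in codimension at least two. -/
def H2 : AddSubgroup (KZero.K0sub fun M : X.Modules => Coh.IsCoh M) :=
  AddSubgroup.closure {c | ∃ F : X.Modules, Coh.IsCoh F ∧
    (∀ x ∈ CohB1.support F, (2 : WithBot ℕ∞) ≤ ringKrullDim (X.presheaf.stalk x)) ∧
    c = KZero.clSub (fun M : X.Modules => Coh.IsCoh M) F}

/-- The combination of classes of prime divisors. -/
def comb (S : Finset X) (g : X → ℤ) : KZero.K0sub fun M : X.Modules => Coh.IsCoh M :=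
  ∑ x ∈ S, g x • KZero.clSub (fun M : X.Modules => Coh.IsCoh M) (Cyc.closureStructureSheaf x)

omit [IsIntegral X] in
theorem comb_add (S : Finset X) (g h : X → ℤ) : comb S (g + h) = comb S g + comb S h := by
  simp [comb, add_smul, Finset.sum_add_distrib]

omit [IsIntegral X] in
theorem comb_sub (S : Finset X) (g h : X → ℤ) : comb S (g - h) = comb S g - comb S h := by
  simp [comb, sub_smul, Finset.sum_sub_distrib]

/-- The lengths of the stalks. -/
def lv (M : X.Modules) : X → ℤ := fun x => ((len M x).toNat : ℤ)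

/-- The inductive statement. -/
def Good (S : Finset X) (M : X.Modules) : Prop :=
  (∀ x ∈ S, len M x ≠ ⊤) ∧
    KZero.clSub (fun M : X.Modules => Coh.IsCoh M) M - comb S (lv M) ∈ H2

variable [IsNoetherian X]

omit [IsIntegral X] in
theorem comb_lv_add (S : Finset X) {T : ShortComplex X.Modules} (hT : T.ShortExact) (h₁ : Coh.IsCoh T.X₁)
    (h₂ : Coh.IsCoh T.X₂) (h₃ : Coh.IsCoh T.X₃) (t : ∀ x ∈ S, len T.X₂ x ≠ ⊤) :
    comb S (lv T.X₂) = comb S (lv T.X₁) + comb S (lv T.X₃) := by
  rw [← comb_add]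
  refine Finset.sum_congr rfl fun x hx => ?_
  have hl : len T.X₂ x = len T.X₁ x + len T.X₃ x := CycLib.length_stalk_shortExact hT h₁.1 h₂.1 h₃.1 _
  have ht := t x hx
  rw [hl] at ht
  obtain ⟨t1, t3⟩ := WithTop.add_ne_top.1 ht
  congr 1
  show ((len T.X₂ x).toNat : ℤ) = ((len T.X₁ x).toNat : ℤ) + ((len T.X₃ x).toNat : ℤ)
  rw [hl, ENat.toNat_add t1 t3, Nat.cast_add]

theorem good_all {C : Set X} (hC : IsClosed C) (hη : genericPoint X ∉ C) {S : Finset X}
    (hS : ∀ x, x ∈ S ↔ x ∈ C ∧ Dim1 x) {M : X.Modules} (hM : Coh.IsCoh M) (hMC : CohB1.support M ⊆ C) :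
    Good S M := by
  have small : ∀ N : X.Modules, Coh.IsCoh N →
      (∀ x ∈ CohB1.support N, (2 : WithBot ℕ∞) ≤ ringKrullDim (X.presheaf.stalk x)) → Good S N := by
    intro N hN h
    have h0 : ∀ x ∈ S, len N x = 0 := fun x hx => len_eq_zero fun hm => by
      have := h x hm
      rw [((hS x).1 hx).2] at this
      exact absurd this (by decide)
    refine ⟨fun x hx => by simp [h0 x hx], ?_⟩
    rw [show comb S (lv N) = 0 from Finset.sum_eq_zero fun x hx => by simp [lv, h0 x hx], sub_zero]
    exact AddSubgroup.subset_closure ⟨N, hN, h, rfl⟩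
  refine (QCoh.devissage (X := X) (fun N => Coh.IsCoh N → Good S N) ?_ ?_ C ?_ ?_ ?_ hM hMC) hM
  · rintro A B ⟨e⟩ hA hB
    have hA' : Coh.IsCoh A := KZ.isClosedUnderIsomorphisms_isCoh.of_iso e.symm hB
    have hg := hA hA'
    have hE := KZ.shortExact_iso_zero e (isZero_zero X.Modules)
    have h0 : ∀ x, len (0 : X.Modules) x = 0 := fun x =>
      len_eq_zero (by rw [QCoh.support_eq_empty_of_isZero (isZero_zero _) KZ.isCoh_zero.1]; exact Set.notMem_empty x)
    have hl : ∀ x, len A x = len B x := fun x => by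
      refine (CycLib.length_stalk_shortExact hE KZ.isCoh_zero.1 hA'.1 hB.1 x).trans ?_
      show len (0 : X.Modules) x + len B x = _
      rw [h0, zero_add]
    refine ⟨fun x hx => hl x ▸ hg.1 x hx, ?_⟩
    rw [show lv B = lv A from funext fun x => by simp [lv, hl],
      ← KZ.clSub_iso _ e hA' hB (isZero_zero _) KZ.isCoh_zero]
    exact hg.2
  · intro N hN hc
    exact small N hc fun x hx => by
      rw [QCoh.support_eq_empty_of_isZero hN hc.1] at hx
      exact absurd hx (Set.notMem_empty x)
  · intro T hT h₁ h₂ h₃ _ g₁ g₃ _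
    obtain ⟨t1, p1⟩ := g₁ h₁
    obtain ⟨t3, p3⟩ := g₃ h₃
    have t2 : ∀ x ∈ S, len T.X₂ x ≠ ⊤ := fun x hx => by
      rw [show len T.X₂ x = len T.X₁ x + len T.X₃ x from CycLib.length_stalk_shortExact hT h₁.1 h₂.1 h₃.1 x]
      exact WithTop.add_ne_top.2 ⟨t1 x hx, t3 x hx⟩
    refine ⟨t2, ?_⟩
    rw [comb_lv_add S hT h₁ h₂ h₃ t2, KZ.clSub_ses (fun M : X.Modules => Coh.IsCoh M) hT h₁ h₂ h₃,
      add_sub_add_comm]
    exact H2.add_mem p1 p3
  · intro ξ hξC _ Z i _ _ hr hc
    have hξ : i (genericPoint Z) = ξ :=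
      IsGenericPoint.eq (S := Set.range i) (QCoh.range_eq_closure i).symm hr.symm
    have hs : CohB1.support ((Coh.push i).obj (Coh.structureModule Z)) ⊆ closure {ξ} :=
      hr ▸ QCoh.support_push_subset i QCoh.isQCoh_structureModule
    have hξm : ¬ MaxRank.IsMax ξ := not_isMax_of_ne fun e => hη (hξC (e ▸ subset_closure rfl))
    rcases two_le_or hξm with hd | hd
    · have h0 : ∀ x ∈ S, x ≠ ξ → len ((Coh.push i).obj (Coh.structureModule Z)) x = 0 :=
        fun x hx hne => len_eq_zero fun hm =>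
          hne (eq_of_dim1 hξm ((hS x).1 hx).2 (specializes_iff_mem_closure.2 (hs hm))).symm
      have h1 : len ((Coh.push i).obj (Coh.structureModule Z)) ξ = 1 := hξ ▸ KZ.CycleClass.len_push_structure i
      refine ⟨fun x hx => ?_, ?_⟩
      · rcases eq_or_ne x ξ with rfl | hne
        · rw [h1]; simp
        · rw [h0 x hx hne]; simp
      · rw [show comb S (lv ((Coh.push i).obj (Coh.structureModule Z))) =
            KZero.clSub (fun M : X.Modules => Coh.IsCoh M) ((Coh.push i).obj (Coh.structureModule Z)) from ?_,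
          sub_self]
        · exact H2.zero_mem
        · rw [KZ.CycleClass.clSub_push_structure i, hξ, comb,
            Finset.sum_eq_single_of_mem ξ ((hS ξ).2 ⟨hξC (subset_closure rfl), hd⟩)
              fun x hx hne => by simp [lv, h0 x hx hne]]
          simp [lv, h1]
    · refine small _ hc fun x hx => ?_
      rcases eq_or_ne ξ x with rfl | hne
      · exact hd
      · exact two_le_of_lt hξm (specializes_iff_mem_closure.2 (hs hx)) hne
  · intro T hT h₁ h₂ h₃ _ g₂ g₃ _
    obtain ⟨t2, p2⟩ := g₂ h₂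
    obtain ⟨t3, p3⟩ := g₃ h₃
    refine ⟨fun x hx => ?_, ?_⟩
    · have ht := t2 x hx
      rw [show len T.X₂ x = len T.X₁ x + len T.X₃ x from CycLib.length_stalk_shortExact hT h₁.1 h₂.1 h₃.1 x] at ht
      exact (WithTop.add_ne_top.1 ht).1
    · have := H2.sub_mem p2 p3
      rw [comb_lv_add S hT h₁ h₂ h₃ t2, KZ.clSub_ses (fun M : X.Modules => Coh.IsCoh M) hT h₁ h₂ h₃,
        add_sub_add_comm, add_sub_cancel_right] at this
      exact this

end

end Groth.Agent.H23.CodimOneRank
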