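import Groth.Agent.H23.StalkPrimes
import Groth.Agent.CDiv6.Factorial
import Mathlib.RingTheory.Ideal.MinimalPrime.Localization
import Mathlib.RingTheory.Artinian.Ring

/-!
# Factoriality from regularly immersed subschemes of codimension one
-/

universe u

set_option linter.style.haveILetI false

open CategoryTheory AlgebraicGeometry TopologicalSpace IsLocalRing

namespace Groth.Agent.H23.CodimOneUfd

open Groth.Agent

/-- A noetherian local ring of positive dimension has a prime of height one above any given minimal prime. -/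
theorem exists_height_one {A : Type u} [CommRing A] [IsNoetherianRing A] [IsLocalRing A]
    (hA : ¬ Ring.KrullDimLE 0 A) : ∃ p : Ideal A, p.IsPrime ∧ p.height = 1 := by
  have hfin : (minimalPrimes A).Finite := minimalPrimes.finite_of_isNoetherianRing A
  have hm : maximalIdeal A ∉ minimalPrimes A := fun h => hA <| by
    refine Ring.krullDimLE_zero_iff.2 fun I hI => ?_
    have h1 : I ≤ maximalIdeal A := IsLocalRing.le_maximalIdeal hI.ne_top
    have h2 : maximalIdeal A ≤ I := h.2 ⟨hI, bot_le⟩ h1
    rw [le_antisymm h1 h2]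
    exact maximalIdeal.isMaximal A
  obtain ⟨a, ham, ha⟩ : ∃ a ∈ maximalIdeal A, ∀ q ∈ minimalPrimes A, a ∉ q := by
    by_contra hc
    push Not at hc
    have hsub : ((maximalIdeal A : Ideal A) : Set A) ⊆ ⋃ q ∈ (hfin.toFinset : Set (Ideal A)), (q : Set A) :=
      fun a ha => by
        obtain ⟨q, hq, haq⟩ := hc a ha
        exact Set.mem_iUnion₂.2 ⟨q, hfin.mem_toFinset.2 hq, haq⟩
    obtain ⟨q, hq, hle⟩ := (Ideal.subset_union_prime ⊥ ⊥ fun q hq _ _ =>
      (hfin.mem_toFinset.1 hq).1.1).1 hsub
    have hq' := hfin.mem_toFinset.1 hq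
    exact hm (((maximalIdeal.isMaximal A).eq_of_le hq'.1.1.ne_top hle).symm ▸ hq')
  obtain ⟨p, hp, -⟩ := Ideal.exists_minimalPrimes_le (show Ideal.span {a} ≤ maximalIdeal A by
    simpa [Ideal.span_le] using ham)
  haveI := hp.1.1
  refine ⟨p, inferInstance, le_antisymm
    (Ideal.height_le_one_of_isPrincipal_of_mem_minimalPrimes _ p hp) (Order.one_le_iff_pos.2 ?_)⟩
  obtain ⟨q, hq, hqp⟩ := Ideal.exists_minimalPrimes_le (bot_le : ⊥ ≤ p)
  haveI := hq.1.1
  have hne : q ≠ p := fun h => ha q hq (h ▸ hp.1.2 (Ideal.mem_span_singleton_self a))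
  exact Order.one_le_iff_pos.1 (le_trans le_add_self
    (Ideal.height_add_one_le_of_lt_of_isPrime (lt_of_le_of_ne hqp hne)))

/-- If every prime of height one is generated by a nonzerodivisor, a positive dimensional local ring
is a unique factorisation domain. -/
theorem ufd_of_height_one {A : Type u} [CommRing A] [IsNoetherianRing A] [IsLocalRing A]
    (hA : ¬ Ring.KrullDimLE 0 A)
    (h : ∀ p : Ideal A, p.IsPrime → p.height = 1 → ∃ t ∈ nonZeroDivisors A, p = Ideal.span {t}) :
    ∃ _ : IsDomain A, UniqueFactorizationMonoid A := by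
  obtain ⟨p, hp, hp1⟩ := exists_height_one hA
  obtain ⟨t, ht, rfl⟩ := h p hp hp1
  obtain ⟨q, hq, hqp⟩ := Ideal.exists_minimalPrimes_le (bot_le : ⊥ ≤ Ideal.span {t})
  haveI := hq.1.1
  have htq : t ∉ q := fun htq => notMem_nonZeroDivisors_of_mem_mem_minimalPrimes htq hq ht
  have hq0 : q = ⊥ := by
    refine Submodule.eq_bot_of_le_smul_of_le_jacobson_bot (Ideal.span {t}) q (IsNoetherian.noetherian q)
      (fun a haq => ?_) ?_
    · obtain ⟨b, rfl⟩ := Ideal.mem_span_singleton'.1 (hqp haq)
      have hb : b ∈ q := ((inferInstance : q.IsPrime).mem_or_mem haq).resolve_right htq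
      rw [mul_comm]
      exact Submodule.smul_mem_smul (Ideal.mem_span_singleton_self t) hb
    · rw [IsLocalRing.jacobson_eq_maximalIdeal ⊥ (by simp)]
      exact IsLocalRing.le_maximalIdeal hp.ne_top
  haveI : IsDomain A := by
    subst hq0
    exact IsDomain.of_bot_isPrime A
  refine ⟨inferInstance, UniqueFactorizationMonoid.iff_exists_prime_mem_of_isPrime.2 fun Q hQ hQp => ?_⟩
  obtain ⟨b, hb, hb0⟩ := Submodule.exists_mem_ne_zero_of_ne_bot hQ
  obtain ⟨P, hP, hPQ⟩ := Ideal.exists_minimalPrimes_le (show Ideal.span {b} ≤ Q by simpa [Ideal.span_le] using hb)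
  haveI := hP.1.1
  have hP0 : P ≠ ⊥ := fun h => hb0 (by
    have := hP.1.2 (Ideal.mem_span_singleton_self b)
    rw [h] at this
    simpa using this)
  obtain ⟨s, hs, rfl⟩ := h P inferInstance (CDiv6.height_eq_one_of_prime hP0
    (Ideal.height_le_one_of_isPrincipal_of_mem_minimalPrimes _ P hP))
  exact ⟨s, hPQ (Ideal.mem_span_singleton_self s),
    (Ideal.span_singleton_prime (nonZeroDivisors.ne_zero hs)).1 inferInstance⟩

variable {X : Scheme.{u}}

/-- A generization of a point with integral local ring has integral local ring. -/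
theorem isDomain_of_specializes {x z : X} (h : x ⤳ z) [IsDomain (X.presheaf.stalk z)] :
    IsDomain (X.presheaf.stalk x) := by
  obtain ⟨S, hS⟩ := VarGeom.exists_isLocalization_stalkSpecializes h
  letI := (X.presheaf.stalkSpecializes h).hom.toAlgebra
  refine IsLocalization.isDomain_of_le_nonZeroDivisors _ (M := S)
    (le_nonZeroDivisors_of_noZeroDivisors fun h0 => ?_)
  have hu := IsLocalization.map_units (X.presheaf.stalk x) (⟨0, h0⟩ : S)
  simp at hu

variable [IsLocallyNoetherian X]

/-- A maximal point without proper specializations is isolated. -/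
theorem isOpen_singleton {x : X} (h0 : Order.coheight x = 0) (hs : ∀ y : X, x ⤳ y → y = x) :
    IsOpen ({x} : Set X) := by
  obtain ⟨_, ⟨V, hV, rfl⟩, hxV, -⟩ :=
    X.isBasis_affineOpens.exists_subset_of_mem_open (Set.mem_univ x) isOpen_univ
  replace hV : IsAffineOpen V := hV
  haveI : IsNoetherianRing Γ(X, V) := IsLocallyNoetherian.component_noetherian ⟨V, hV⟩
  haveI : NoetherianSpace ↥(V : Set X) := by
    rw [← hV.range_fromSpec]; exact NoetherianSpace.range _ hV.fromSpec.continuous
  haveI : QuasiSober ↥(V : Set X) := V.isOpen.isOpenEmbedding_subtypeVal.quasiSober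
  let v : ↥(V : Set X) := ⟨x, hxV⟩
  have hfin : (irreducibleComponents ↥(V : Set X)).Finite := NoetherianSpace.finite_irreducibleComponents
  let S : Set ↥(V : Set X) := ⋃ C ∈ {C ∈ irreducibleComponents ↥(V : Set X) | C ≠ {v}}, C
  have hS : IsClosed S := (hfin.subset fun C hC => hC.1).isClosed_biUnion fun C hC =>
    isClosed_of_mem_irreducibleComponents C hC.1
  have hcompl : ({v} : Set ↥(V : Set X)) = Sᶜ := by
    refine Set.Subset.antisymm ?_ fun w hw => ?_
    · rintro w rfl hwS
      obtain ⟨C, ⟨hC, hne⟩, hwC⟩ := Set.mem_iUnion₂.1 hwS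
      obtain ⟨g, hg⟩ := QuasiSober.sober hC.1 (isClosed_of_mem_irreducibleComponents C hC)
      have hgv : g.1 ⤳ x := (hg.specializes hwC).map continuous_subtype_val
      have hxg : x ⤳ g.1 := by
        have := (Order.coheight_eq_zero.1 h0) hgv
        exact this
      have hgx : g = v := Subtype.ext (hxg.antisymm hgv).eq.symm
      refine hne (Set.Subset.antisymm (fun c hc => ?_) (Set.singleton_subset_iff.2 hwC))
      have hsp : g.1 ⤳ c.1 := (hg.specializes hc).map continuous_subtype_val
      rw [hgx] at hsp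
      exact Subtype.ext (hs c.1 hsp)
    · by_contra hne
      refine hw (Set.mem_iUnion₂.2 ⟨irreducibleComponent w, ⟨irreducibleComponent_mem_irreducibleComponents w,
        fun h => hne ?_⟩, mem_irreducibleComponent⟩)
      exact h ▸ mem_irreducibleComponent
  have hopen : IsOpen ({v} : Set ↥(V : Set X)) := hcompl ▸ hS.isOpen_compl
  have := V.isOpen.isOpenMap_subtype_val _ hopen
  rwa [Set.image_singleton] at this

theorem ufd_of_regularlyImmersed (hred : ∀ x : X, IsOpen ({x} : Set X) → _root_.IsReduced (X.presheaf.stalk x))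
    (h : ∀ ζ : X, ringKrullDim (X.presheaf.stalk ζ) = 1 → ∀ (x : X) (hx : ζ ⤳ x),
        ∃ t : X.presheaf.stalk x, t ∈ nonZeroDivisors (X.presheaf.stalk x) ∧
          (maximalIdeal (X.presheaf.stalk ζ)).comap (X.presheaf.stalkSpecializes hx).hom = Ideal.span {t})
    (x : X) : ∃ _ : IsDomain (X.presheaf.stalk x), UniqueFactorizationMonoid (X.presheaf.stalk x) := by
  have hpos : ∀ y : X, ¬ Ring.KrullDimLE 0 (X.presheaf.stalk y) →
      ∃ _ : IsDomain (X.presheaf.stalk y), UniqueFactorizationMonoid (X.presheaf.stalk y) := fun y hy => by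
    refine ufd_of_height_one hy fun p hp hp1 => ?_
    obtain ⟨ζ, hζ, rfl⟩ := StalkPrimes.exists_point p
    have h1 : ringKrullDim (X.presheaf.stalk ζ) = 1 := by
      rw [ringKrullDim_stalk_eq_coheight, ← CDiv6.height_primeOf hζ, hp1]; rfl
    exact h ζ h1 y hζ
  by_cases hx : Ring.KrullDimLE 0 (X.presheaf.stalk x)
  swap
  · exact hpos x hx
  haveI : _root_.IsReduced (X.presheaf.stalk x) := by
    by_cases hs : ∀ y : X, x ⤳ y → y = x
    · refine hred x (isOpen_singleton ?_ hs)
      have h0 : ringKrullDim (X.presheaf.stalk x) = 0 := ringKrullDimZero_iff_ringKrullDim_eq_zero.1 hx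
      rw [ringKrullDim_stalk_eq_coheight] at h0
      exact_mod_cast h0
    · push Not at hs
      obtain ⟨y, hxy, hne⟩ := hs
      have hy : ¬ Ring.KrullDimLE 0 (X.presheaf.stalk y) := fun hy => by
        have h0 : ringKrullDim (X.presheaf.stalk y) = 0 := ringKrullDimZero_iff_ringKrullDim_eq_zero.1 hy
        rw [ringKrullDim_stalk_eq_coheight] at h0
        have hy0 : Order.coheight y = 0 := by exact_mod_cast h0
        exact hne (Specializes.antisymm ((Order.coheight_eq_zero.1 hy0) hxy) hxy).eq
      obtain ⟨_, -⟩ := hpos y hy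
      haveI := isDomain_of_specializes hxy
      infer_instance
  obtain hfield : IsField (X.presheaf.stalk x) := by
    haveI := hx
    haveI := IsNoetherianRing.isArtinianRing_of_krullDimLE_zero (R := X.presheaf.stalk x)
    refine (IsArtinianRing.isField_of_isReduced_of_isLocalRing _)
  letI := hfield.toField
  exact ⟨(hfield.toField).isDomain, inferInstance⟩

theorem regularlyImmersed_of_ufd
    (h : ∀ x : X, ∃ _ : IsDomain (X.presheaf.stalk x), UniqueFactorizationMonoid (X.presheaf.stalk x))
    (ζ : X) (hζ : ringKrullDim (X.presheaf.stalk ζ) = 1) (x : X) (hx : ζ ⤳ x) :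
    ∃ t : X.presheaf.stalk x, t ∈ nonZeroDivisors (X.presheaf.stalk x) ∧
      (maximalIdeal (X.presheaf.stalk ζ)).comap (X.presheaf.stalkSpecializes hx).hom = Ideal.span {t} := by
  obtain ⟨_, hU⟩ := h x
  haveI := hU
  rw [ringKrullDim_stalk_eq_coheight] at hζ
  have h1 : (CDiv6.primeOf hx).asIdeal.height = 1 := by
    rw [CDiv6.height_primeOf]; exact_mod_cast hζ
  have h0 : (CDiv6.primeOf hx).asIdeal ≠ ⊥ := fun h => by
    rw [h, Ideal.height_bot] at h1; exact zero_ne_one h1
  obtain ⟨π, hπP, hπ⟩ := (CDiv6.primeOf hx).isPrime.exists_mem_prime_of_ne_bot h0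
  haveI := (Ideal.span_singleton_prime hπ.ne_zero).2 hπ
  refine ⟨π, mem_nonZeroDivisors_of_ne_zero hπ.ne_zero, ?_⟩
  exact (CDiv6.eq_of_le_of_height_one (by simpa using hπ.ne_zero)
    (by rwa [Ideal.span_le, Set.singleton_subset_iff]) h1).symm

end Groth.Agent.H23.CodimOneUfd
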