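import Groth.Agent.KFlatLib.Scheme.QCohDerived
import Groth.Agent.KFlatLib.Scheme.CohD
import Groth.Agent.CAlgOdd.PCResolve

/-!
# Derived tensor products of bounded above complexes with coherent cohomology
-/

set_option linter.style.haveILetI false
set_option backward.isDefEq.respectTransparency false

universe u

open CategoryTheory CategoryTheory.Limits AlgebraicGeometry

attribute [local instance] HasDerivedCategory.standard

namespace Groth.Agent.H23.CohTensor

open Groth.Agent Groth.Agent.KFlatLib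

variable {X : Scheme.{u}}

lemma isCoh_homology_of_terms [IsLocallyNoetherian X] (K : CochainComplex X.Modules ℤ)
    (h : ∀ i, Coh.IsCoh (K.X i)) (i : ℤ) : Coh.IsCoh (K.homology i) := by
  have hc : ∀ j, Coh.IsCoh (K.cycles j) := fun j =>
    KFlatLib.isCoh_of_iso ((limit.isLimit _).conePointUniqueUpToIso (K.cyclesIsKernel j (j + 1) (by simp)))
      (QCoh.isCoh_kernel (h j) (h (j + 1)) (K.d j (j + 1)))
  exact KFlatLib.isCoh_of_iso ((colimit.isColimit _).coconePointUniqueUpToIso
      (K.homologyIsCokernel (i - 1) i (by simp)))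
    (QCoh.isCoh_cokernel (h (i - 1)).1 (hc i) (K.toCycles (i - 1) i))

/-- Terms of the tensor product of bounded above complexes of finite locally free modules. -/
lemma isFinLocFree_tensorCx_X {E F : CochainComplex X.Modules ℤ} (b d : ℤ)
    [E.IsStrictlyLE b] [F.IsStrictlyLE d] (hE : ∀ p, FlatMod.IsFinLocFree (E.X p))
    (hF : ∀ q, FlatMod.IsFinLocFree (F.X q)) (n : ℤ) :
    FlatMod.IsFinLocFree (((DCoh.tensorCx.obj E).obj F).X n) := by
  refine isFinLocFree_sigma
    (ι := ↥((ComplexShape.π (ComplexShape.up ℤ) (ComplexShape.up ℤ) (ComplexShape.up ℤ)) ⁻¹' {n}))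
    (fun i => (DCoh.tensorBi.obj (E.X i.1.1)).obj (F.X i.1.2))
    ((Finset.Icc (n - d) b).image fun p => ⟨(p, n - p), show p + (n - p) = n by omega⟩)
    (fun i hi => ?_) fun i => isFinLocFree_tensor (hE _) (hF _)
  have h2 := i.2
  change i.1.1 + i.1.2 = n at h2
  by_cases hp : b < i.1.1
  · exact (DCoh.tensorBi.flip.obj (F.X i.1.2)).map_isZero (E.isZero_of_isStrictlyLE b _ hp)
  refine (DCoh.tensorBi.obj (E.X i.1.1)).map_isZero (F.isZero_of_isStrictlyLE d _ ?_)
  by_contra h
  exact hi (Finset.mem_image.2 ⟨i.1.1, Finset.mem_Icc.2 (by omega),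
    Subtype.ext (Prod.ext rfl (show n - i.1.1 = i.1.2 by omega))⟩)

lemma isCoh_of_isFinLocFree [IsLocallyNoetherian X] {M : X.Modules} (h : FlatMod.IsFinLocFree M) :
    Coh.IsCoh M :=
  QCoh.isCoh_iff_isFP.2 (QCoh.isFP_of_isFinLocFree h)

/-- On a noetherian chart, a bounded above object with coherent cohomology has a bounded above
representative by finite locally free modules. -/
lemma exists_chart_rep [IsLocallyNoetherian X] {K : DCoh.D X} (hK : DCoh.IsCohD K) (b : ℤ)
    (hb : ∀ i, b < i → IsZero (DCoh.HD K i)) {R : CommRingCat.{u}} [IsNoetherianRing R]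
    (j : Spec R ⟶ X) [IsOpenImmersion j] :
    ∃ T : CochainComplex (Spec R).Modules ℤ, T.IsStrictlyLE b ∧
      (∀ i, FlatMod.IsFinLocFree (T.X i)) ∧ DCoh.IsKFlat T ∧
      Nonempty (DCoh.toD (Spec R) T ≅ (rho j).obj K) := by
  haveI := QCoh.tilde_preservesFiniteLimits (R := R)
  haveI : IsLocallyNoetherian (Spec R) := isLocallyNoetherian_of_isOpenImmersion j
  obtain ⟨M, ⟨eM⟩⟩ := exists_tildeD_iso (isQCohD_rho j (isCohD_isQCohD hK))
  let eH : ∀ i, (tilde.functor R).obj ((DerivedCategory.homologyFunctor (ModuleCat.{u} R) i).obj M) ≅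
      (Scheme.Modules.restrictFunctor j).obj (DCoh.HD K i) := fun i =>
    ((mapDCHomologyIso (tilde.functor R) i).app M).symm ≪≫
      (DerivedCategory.homologyFunctor _ i).mapIso eM ≪≫ restrictHDIso j K i
  have hz : ∀ i, b < i → IsZero ((DerivedCategory.homologyFunctor (ModuleCat.{u} R) i).obj M) :=
    fun i hi => (IsZero.iff_id_eq_zero _).2 ((tilde.functor R).map_injective (IsZero.eq_of_src
      ((Functor.map_isZero (Scheme.Modules.restrictFunctor j) (hb i hi)).of_iso (eH i)) _ _))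
  let F := DerivedCategory.Q.objPreimage M
  let e : DerivedCategory.Q.obj F ≅ M := DerivedCategory.Q.objObjPreimageIso M
  have hzF : ∀ i, b < i → IsZero ((DerivedCategory.homologyFunctor (ModuleCat.{u} R) i).obj
      (DerivedCategory.Q.obj F)) := fun i hi =>
    (hz i hi).of_iso ((DerivedCategory.homologyFunctor _ i).mapIso e)
  have hpc : ∀ m, DRing.IsPseudoCoherent R m (DRing.toD F) := fun m =>
    (Groth.Agent.S6942.result R m (DRing.toD F) PUnit).1.2
      ⟨⟨b, fun i hi => ModuleCat.subsingleton_of_isZero (hzF i hi)⟩, fun i _ =>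
        (isCoh_tilde_iff _).1 (KFlatLib.isCoh_of_iso
          ((tilde.functor R).mapIso ((DerivedCategory.homologyFunctor _ i).mapIso e) ≪≫ eH i).symm
          (isCoh_restrict j (hK i)))⟩
  obtain ⟨E, α, hE, hf, hα⟩ := CAlgOdd.PCResolve.exists_resolution b (fun i hi => by
    rw [HomologicalComplex.exactAt_iff_isZero_homology]
    exact (hzF i hi).of_iso ((DerivedCategory.homologyFunctorFactors _ i).app F).symm) hpc
  haveI : IsIso (DerivedCategory.Q.map α) := (DerivedCategory.isIso_Q_map_iff_quasiIso _ _).2 hα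
  let T : CochainComplex (Spec R).Modules ℤ := ((tilde.functor R).mapHomologicalComplex (ComplexShape.up ℤ)).obj E
  haveI hT : T.IsStrictlyLE b := (CochainComplex.isStrictlyLE_iff _ _).2 fun m hm =>
    (tilde.functor R).map_isZero (hE m hm)
  have hfree : ∀ i, FlatMod.IsFinLocFree (T.X i) := fun i => isFinLocFree_tilde_of_free (hf i)
  exact ⟨T, hT, hfree, isKFlat_of_isStrictlyLE T b fun i => isFlat_of_isFinLocFree (hfree i),
    ⟨(tildeQ E).symm ≪≫ (DCoh.tildeD R).mapIso (asIso (DerivedCategory.Q.map α) ≪≫ e) ≪≫ eM⟩⟩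

/-- The representative of the derived tensor product by two K-flat complexes. -/
noncomputable def ltensorRepIso (E : CochainComplex X.Modules ℤ) [DCoh.HasLTensorCx E]
    {P : CochainComplex X.Modules ℤ} (hP : DCoh.IsKFlat P) {L : DCoh.D X}
    (e : DCoh.toD X P ≅ L) :
    DCoh.toD X ((DCoh.tensorCx.obj P).obj ((kRes X).obj E)) ≅ (DCoh.LTensorCx E).obj L :=
  haveI := (flatCover X).quasiIso_ψ E
  haveI : QuasiIso ((DCoh.tensorCx.obj P).map ((flatCover X).ψ.app E)) :=
    KFlat.quasiIso_map' (tensorBiFlipIso X) hP _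
  haveI : IsIso (DerivedCategory.Q.map ((DCoh.tensorCx.obj P).map ((flatCover X).ψ.app E))) :=
    isIso_Q_map _ inferInstance
  asIso (DerivedCategory.Q.map ((DCoh.tensorCx.obj P).map ((flatCover X).ψ.app E))) ≪≫
    (ltensorCxIso E hP).symm ≪≫ (DCoh.LTensorCx E).mapIso e

/-- Derived tensor products are bounded above. -/
lemma exists_bound (E : CochainComplex X.Modules ℤ) [DCoh.HasLTensorCx E] (L : DCoh.D X) (a b : ℤ)
    (ha : ∀ i, a < i → IsZero (DCoh.HD L i))
    (hb : ∀ i, b < i → IsZero (DCoh.HD (DCoh.toD X E) i)) (i : ℤ) (hi : a + b < i) :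
    IsZero (DCoh.HD ((DCoh.LTensorCx E).obj L) i) := by
  let K := DerivedCategory.Q.objPreimage L
  let eK : DerivedCategory.Q.obj K ≅ L := DerivedCategory.Q.objObjPreimageIso L
  haveI : K.IsLE a := (CochainComplex.isLE_iff _ _).2 fun m hm => by
    rw [HomologicalComplex.exactAt_iff_isZero_homology]
    exact ((ha m hm).of_iso ((DerivedCategory.homologyFunctor _ m).mapIso eK)).of_iso
      ((DerivedCategory.homologyFunctorFactors _ m).app K).symm
  haveI : E.IsLE b := (CochainComplex.isLE_iff _ _).2 fun m hm => by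
    rw [HomologicalComplex.exactAt_iff_isZero_homology]
    exact (hb m hm).of_iso ((DerivedCategory.homologyFunctorFactors _ m).app E).symm
  obtain ⟨R, ρ, hρ, hR, hR'⟩ := exists_flat_rep K a
  obtain ⟨S, σ, hσ, hS, hS'⟩ := exists_flat_rep E b
  haveI := hρ; haveI := hσ; haveI := hR; haveI := hS
  haveI := isIso_Q_map ρ inferInstance
  haveI := isIso_Q_map σ inferInstance
  haveI := (flatCover X).quasiIso_ψ E
  haveI := isIso_Q_map ((flatCover X).ψ.app E) inferInstance
  let e := tensorQIso hR' hR' hS' (isKFlat_kRes E) (Iso.refl _)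
    (asIso (DerivedCategory.Q.map σ) ≪≫ (asIso (DerivedCategory.Q.map ((flatCover X).ψ.app E))).symm) ≪≫
      ltensorRepIso E hR' (asIso (DerivedCategory.Q.map ρ) ≪≫ eK)
  refine IsZero.of_iso ?_ ((DerivedCategory.homologyFunctor _ i).mapIso e).symm
  exact (ShortComplex.isZero_homology_of_isZero_X₂ _ (isZero_tensorCx_X R S a b i hi)).of_iso
    ((DerivedCategory.homologyFunctorFactors _ i).app _)

/-- Coherence of the cohomology of a derived tensor product. -/
theorem isCohD_ltensor [IsLocallyNoetherian X] (E : CochainComplex X.Modules ℤ) [DCoh.HasLTensorCx E]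
    (L : DCoh.D X) (hL : DCoh.IsCohD L) (hE : DCoh.IsCohD (DCoh.toD X E)) (a b : ℤ)
    (ha : ∀ i, a < i → IsZero (DCoh.HD L i))
    (hb : ∀ i, b < i → IsZero (DCoh.HD (DCoh.toD X E) i)) :
    DCoh.IsCohD ((DCoh.LTensorCx E).obj L) := by
  intro i
  refine isCoh_of_local fun x => ?_
  obtain ⟨R, hR, j, hj, hx⟩ := exists_chart x
  haveI := hR
  haveI : IsLocallyNoetherian (Spec R) := isLocallyNoetherian_of_isOpenImmersion j
  refine ⟨_, j, hj, hx, ?_⟩
  obtain ⟨T, hT, hTf, hTk, ⟨eT⟩⟩ := exists_chart_rep hL a ha j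
  obtain ⟨S, hS, hSf, hSk, ⟨eS⟩⟩ := exists_chart_rep hE b hb j
  haveI := hT; haveI := hS
  haveI := (flatCover X).quasiIso_ψ E
  haveI := isIso_Q_map ((flatCover X).ψ.app E) inferInstance
  have hcoh : Coh.IsCoh (DCoh.HD (DCoh.toD (Spec R) ((DCoh.tensorCx.obj T).obj S)) i) :=
    KFlatLib.isCoh_of_iso ((DerivedCategory.homologyFunctorFactors _ i).app _).symm
      (isCoh_homology_of_terms _ (fun n => isCoh_of_isFinLocFree (isFinLocFree_tensorCx_X a b hTf hSf n)) i)
  let c := restrictPullCxIso j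
  let eP : DCoh.toD (Spec R) ((pullCx j).obj (repK L)) ≅ DCoh.toD (Spec R) T :=
    DerivedCategory.Q.mapIso (c.app _).symm ≪≫ ((rhoQ j).app _).symm ≪≫ (rho j).mapIso (repKIso L) ≪≫ eT.symm
  let eQ : DCoh.toD (Spec R) ((pullCx j).obj ((kRes X).obj E)) ≅ DCoh.toD (Spec R) S :=
    DerivedCategory.Q.mapIso (c.app _).symm ≪≫ ((rhoQ j).app _).symm ≪≫
      (rho j).mapIso (asIso (DerivedCategory.Q.map ((flatCover X).ψ.app E))) ≪≫ eS.symm
  let e : DCoh.toD (Spec R) ((DCoh.tensorCx.obj T).obj S) ≅ (rho j).obj ((DCoh.LTensorCx E).obj L) :=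
    (tensorQIso (isKFlat_pullback j (isKFlat_repK L)) hTk (isKFlat_pullback j (isKFlat_kRes E)) hSk eP eQ).symm ≪≫
      DerivedCategory.Q.mapIso (pullTensorCxIso j (repK L) ((kRes X).obj E) ≪≫ (c.app _).symm) ≪≫
      ((rhoQ j).app _).symm ≪≫ (rho j).mapIso (ltensorRepIso E (isKFlat_repK L) (repKIso L))
  exact KFlatLib.isCoh_of_iso ((DerivedCategory.homologyFunctor _ i).mapIso e ≪≫ restrictHDIso j _ i) hcoh

end Groth.Agent.H23.CohTensor
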