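import Mathlib.NumberTheory.Padics.RingHoms
import Mathlib.LinearAlgebra.FreeModule.PID
import Mathlib.LinearAlgebra.Dimension.RankNullity
import Mathlib.LinearAlgebra.Dimension.Localization
import Mathlib.GroupTheory.Index
import Mathlib.Algebra.Module.Torsion.Basic
import Mathlib.Tactic.NoncommRing

/-!
# Torsion of coinvariants of automorphisms of order `ℓ`
-/

universe u

namespace Groth.Agent.H23.Coinv

variable {ℓ : ℕ} [Fact ℓ.Prime] {M : Type u} [AddCommGroup M] [Module ℤ_[ℓ] M]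
  [Module.Free ℤ_[ℓ] M] [Module.Finite ℤ_[ℓ] M]

theorem index_smul_range (P : Submodule ℤ_[ℓ] M) :
    ((LinearMap.lsmul ℤ_[ℓ] P (ℓ : ℤ_[ℓ])).toAddMonoidHom.range).index =
      ℓ ^ Module.finrank ℤ_[ℓ] P := by
  let b := Module.finBasis ℤ_[ℓ] P
  let π : P →+ (Fin (Module.finrank ℤ_[ℓ] P) → ZMod ℓ) :=
    { toFun := fun x i => PadicInt.toZMod (b.equivFun x i)
      map_zero' := by funext i; simp
      map_add' := fun x y => by funext i; simp [map_add] }
  have hsurj : Function.Surjective π := fun y => by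
    choose z hz using fun i => ZMod.ringHom_surjective (PadicInt.toZMod (p := ℓ)) (y i)
    exact ⟨b.equivFun.symm z, funext fun i => by
      show PadicInt.toZMod (b.equivFun (b.equivFun.symm z) i) = y i
      rw [LinearEquiv.apply_symm_apply]; exact hz i⟩
  have hker : π.ker = (LinearMap.lsmul ℤ_[ℓ] P (ℓ : ℤ_[ℓ])).toAddMonoidHom.range := by
    ext x
    rw [AddMonoidHom.mem_ker, AddMonoidHom.mem_range]
    constructor
    · intro hx
      have hmem : ∀ i, ∃ d, d * (ℓ : ℤ_[ℓ]) = b.equivFun x i := fun i =>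
        Ideal.mem_span_singleton'.1 (by
          rw [← PadicInt.maximalIdeal_eq_span_p, ← PadicInt.ker_toZMod, RingHom.mem_ker]
          exact congrFun hx i)
      choose d hd using hmem
      refine ⟨b.equivFun.symm d, b.equivFun.injective ?_⟩
      funext i
      show b.equivFun ((ℓ : ℤ_[ℓ]) • b.equivFun.symm d) i = _
      rw [map_smul, LinearEquiv.apply_symm_apply, Pi.smul_apply, smul_eq_mul, mul_comm]
      exact hd i
    · rintro ⟨y, rfl⟩
      funext i
      show PadicInt.toZMod (b.equivFun ((ℓ : ℤ_[ℓ]) • y) i) = 0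
      rw [map_smul, Pi.smul_apply, smul_eq_mul, map_mul, map_natCast, ZMod.natCast_self, zero_mul]
  rw [← hker, AddSubgroup.index_ker, AddMonoidHom.range_eq_top.2 hsurj, AddSubgroup.card_top]
  simp

theorem core (f e : Module.End ℤ_[ℓ] M) (hee : e * e = e) (hef : e * f = f) (hfe : f * e = f)
    (hker : ∀ x, f x = 0 → e x = 0) {k : ℕ} (hk : k = 1 ∨ k = 2)
    (h1 : ∀ x, ∃ y, (f ^ k) x = (ℓ : ℤ_[ℓ]) • e y)
    (h2 : ∀ x, ∃ y, (ℓ : ℤ_[ℓ]) • e x = (f ^ k) y) :
    (∀ x ∈ Submodule.torsion ℤ_[ℓ] (M ⧸ LinearMap.range f), (ℓ : ℤ_[ℓ]) • x = 0) ∧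
      ∃ r : ℕ, r * k = Module.finrank ℤ_[ℓ] M - Module.finrank ℤ_[ℓ] (LinearMap.ker f) ∧
        Nat.card (Submodule.torsion ℤ_[ℓ] (M ⧸ LinearMap.range f)) = ℓ ^ r := by
  have hℓ : (ℓ : ℤ_[ℓ]) ≠ 0 := Nat.cast_ne_zero.2 (Fact.out (p := ℓ.Prime)).ne_zero
  let P : Submodule ℤ_[ℓ] M := LinearMap.range e
  have heP : ∀ x ∈ P, e x = x := by
    rintro _ ⟨x, rfl⟩; rw [← Module.End.mul_apply, hee]
  have hfP : ∀ x, f x ∈ P := fun x => ⟨f x, by rw [← Module.End.mul_apply, hef]⟩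
  have hkerf : LinearMap.ker f = LinearMap.ker e := by
    ext x
    refine ⟨hker x, fun hx => ?_⟩
    rw [LinearMap.mem_ker] at hx ⊢
    rw [← hfe, Module.End.mul_apply, hx, map_zero]
  have hc : Module.finrank ℤ_[ℓ] M - Module.finrank ℤ_[ℓ] (LinearMap.ker f) =
      Module.finrank ℤ_[ℓ] P := by
    have h : Module.finrank ℤ_[ℓ] P + Module.finrank ℤ_[ℓ] (LinearMap.ker e) =
        Module.finrank ℤ_[ℓ] M := by
      rw [← Submodule.finrank_quotient_add_finrank (LinearMap.ker e),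
        (LinearMap.quotKerEquivRange e).finrank_eq]
    rw [hkerf]
    omega
  let g : P →+ P :=
    { toFun := fun x => ⟨f x.1, hfP _⟩
      map_zero' := Subtype.ext (map_zero f)
      map_add' := fun x y => Subtype.ext (map_add f _ _) }
  have hg_range : ∀ p : P, p ∈ g.range ↔ p.1 ∈ LinearMap.range f := by
    intro p
    constructor
    · rintro ⟨x, rfl⟩; exact ⟨x.1, rfl⟩
    · rintro ⟨x, hx⟩
      exact ⟨⟨e x, x, rfl⟩, Subtype.ext (by
        show f (e x) = p.1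
        rw [← Module.End.mul_apply, hfe, hx])⟩
  -- the torsion is the quotient of `P` by the image of `f`
  let φ : P →+ (M ⧸ LinearMap.range f) :=
    (LinearMap.range f).mkQ.toAddMonoidHom.comp P.toAddSubgroup.subtype
  have hφker : φ.ker = g.range := by
    ext p
    rw [hg_range]
    exact Submodule.Quotient.mk_eq_zero _
  have hkill : ∀ p : P, (ℓ : ℤ_[ℓ]) • φ p = 0 := fun p => by
    obtain ⟨y, hy⟩ := h2 p.1
    rw [heP _ p.2] at hy
    show (LinearMap.range f).mkQ ((ℓ : ℤ_[ℓ]) • p.1) = 0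
    rw [hy]
    refine (Submodule.Quotient.mk_eq_zero _).2 ?_
    rcases hk with rfl | rfl
    · exact ⟨y, by rw [pow_one]⟩
    · exact ⟨f y, by rw [sq, Module.End.mul_apply]⟩
  have hφrange : ∀ t : M ⧸ LinearMap.range f,
      t ∈ Submodule.torsion ℤ_[ℓ] (M ⧸ LinearMap.range f) ↔ t ∈ φ.range := by
    intro t
    constructor
    · rintro ⟨⟨a, ha⟩, hat⟩
      obtain ⟨y, rfl⟩ := Submodule.mkQ_surjective _ t
      have hat' : (LinearMap.range f).mkQ (a • y) = 0 := hat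
      obtain ⟨z, hz⟩ := (Submodule.Quotient.mk_eq_zero _).1 hat'
      refine ⟨⟨y, ⟨y, ?_⟩⟩, rfl⟩
      have h0 : a • e y = a • y := by
        rw [← map_smul, ← hz, ← Module.End.mul_apply, hef]
      exact smul_right_injective M (nonZeroDivisors.ne_zero ha) h0
    · rintro ⟨p, rfl⟩
      exact ⟨⟨(ℓ : ℤ_[ℓ]), mem_nonZeroDivisors_of_ne_zero hℓ⟩, hkill p⟩
  refine ⟨fun x hx => ?_, ?_⟩
  · obtain ⟨p, rfl⟩ := (hφrange x).1 hx
    exact hkill p
  have hcard : Nat.card (Submodule.torsion ℤ_[ℓ] (M ⧸ LinearMap.range f)) = g.range.index := by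
    rw [← hφker, AddSubgroup.index_ker]
    exact Nat.card_congr (Equiv.subtypeEquivRight hφrange)
  rw [hc, hcard]
  -- compute the index
  have hfk : (LinearMap.lsmul ℤ_[ℓ] P (ℓ : ℤ_[ℓ])).toAddMonoidHom.range =
      if k = 1 then g.range else (g.comp g).range := by
    have key : ∀ p : P, p ∈ (LinearMap.lsmul ℤ_[ℓ] P (ℓ : ℤ_[ℓ])).toAddMonoidHom.range ↔
        ∃ x, (f ^ k) x = p.1 := by
      intro p
      constructor
      · rintro ⟨q, rfl⟩
        obtain ⟨y, hy⟩ := h2 q.1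
        exact ⟨y, by rw [← hy, heP _ q.2]; rfl⟩
      · rintro ⟨x, hx⟩
        obtain ⟨y, hy⟩ := h1 x
        exact ⟨⟨e y, y, rfl⟩, Subtype.ext (by rw [← hx, hy]; rfl)⟩
    ext p
    rcases hk with rfl | rfl
    · rw [if_pos rfl, key, hg_range]
      simp [LinearMap.mem_range]
    · rw [if_neg (by omega), key]
      constructor
      · rintro ⟨x, hx⟩
        exact ⟨⟨e x, x, rfl⟩, Subtype.ext (by
          show f (f (e x)) = p.1
          rw [← hx, sq, Module.End.mul_apply, ← Module.End.mul_apply f e, hfe])⟩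
      · rintro ⟨x, rfl⟩
        exact ⟨x.1, by rw [sq, Module.End.mul_apply]; rfl⟩
  have hidx := index_smul_range (ℓ := ℓ) P
  rw [hfk] at hidx
  rcases hk with rfl | rfl
  · rw [if_pos rfl] at hidx
    exact ⟨_, mul_one _, hidx⟩
  · rw [if_neg (by omega)] at hidx
    have hginj : Function.Injective g := by
      rw [injective_iff_map_eq_zero]
      intro p hp
      have : f p.1 = 0 := congrArg Subtype.val hp
      exact Subtype.ext ((heP _ p.2).symm.trans (hker _ this))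
    rw [AddMonoidHom.range_comp, AddSubgroup.index_map_of_injective _ hginj, ← sq] at hidx
    obtain ⟨r, -, hr⟩ := (Nat.dvd_prime_pow (Fact.out (p := ℓ.Prime))).1
      (hidx ▸ dvd_pow_self g.range.index two_ne_zero)
    refine ⟨r, ?_, hr⟩
    rw [hr, ← pow_mul] at hidx
    exact Nat.pow_right_injective (Fact.out (p := ℓ.Prime)).two_le hidx

theorem of_involution (hℓ : ℓ = 2) (f B : Module.End ℤ_[ℓ] M) (hf : (f + 1) ^ 2 = 1)
    (hB : f = (2 : ℤ_[ℓ]) • B) :
    (∀ x ∈ Submodule.torsion ℤ_[ℓ] (M ⧸ LinearMap.range f), (ℓ : ℤ_[ℓ]) • x = 0) ∧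
      ∃ r : ℕ, r * 1 = Module.finrank ℤ_[ℓ] M - Module.finrank ℤ_[ℓ] (LinearMap.ker f) ∧
        Nat.card (Submodule.torsion ℤ_[ℓ] (M ⧸ LinearMap.range f)) = ℓ ^ r := by
  subst hℓ
  have hBB : B * B = -B := by
    have h4 : (4 : ℤ_[2]) • (B * B + B) = (4 : ℤ_[2]) • (0 : Module.End ℤ_[2] M) := by
      have h0 : (f + 1) ^ 2 - 1 = 0 := sub_eq_zero.2 hf
      rw [show (f + 1) ^ 2 - 1 = f * f + f + f by noncomm_ring, hB, smul_mul_smul_comm] at h0
      rw [smul_zero, ← h0, smul_add]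
      norm_num [← add_smul, add_assoc]
    have := smul_right_injective (Module.End ℤ_[2] M) (show (4 : ℤ_[2]) ≠ 0 by norm_num) h4
    exact eq_neg_of_add_eq_zero_left this
  have hfx : ∀ x, f x = (2 : ℤ_[2]) • B x := fun x => by rw [hB]; rfl
  refine core f (-B) ?_ ?_ ?_ ?_ (Or.inl rfl) ?_ ?_
  · rw [neg_mul_neg, hBB]
  · rw [hB, neg_mul, mul_smul_comm, hBB, smul_neg, neg_neg]
  · rw [hB, mul_neg, smul_mul_assoc, hBB, smul_neg, neg_neg]
  · intro x hx
    rw [hfx] at hx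
    rw [LinearMap.neg_apply, (smul_eq_zero_iff_right (show (2 : ℤ_[2]) ≠ 0 by norm_num)).1 hx,
      neg_zero]
  · exact fun x => ⟨-x, by simp [hfx]⟩
  · exact fun x => ⟨-x, by simp [hfx]⟩

theorem main (A : M ≃ₗ[ℤ_[ℓ]] M) (hA : A ^ ℓ = 1) (f : Module.End ℤ_[ℓ] M)
    (hf : f = (A : M →ₗ[ℤ_[ℓ]] M) - 1)
    (hcase : (ℓ = 2 ∧ ∃ B : Module.End ℤ_[ℓ] M, f = (2 : ℤ_[ℓ]) • B) ∨
      (ℓ = 2 ∧ ∃ B : Module.End ℤ_[ℓ] M, f ^ 2 = (4 : ℤ_[ℓ]) • B) ∨
      (ℓ = 3 ∧ ∃ B : Module.End ℤ_[ℓ] M, f ^ 2 = (3 : ℤ_[ℓ]) • B)) :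
    (∀ x ∈ Submodule.torsion ℤ_[ℓ] (M ⧸ LinearMap.range f), (ℓ : ℤ_[ℓ]) • x = 0) ∧
      ∃ r : ℕ, r * (ℓ - 1) = Module.finrank ℤ_[ℓ] M - Module.finrank ℤ_[ℓ] (LinearMap.ker f) ∧
        Nat.card (Submodule.torsion ℤ_[ℓ] (M ⧸ LinearMap.range f)) = ℓ ^ r := by
  have hpow : ∀ m : ℕ, ((A ^ m : M ≃ₗ[ℤ_[ℓ]] M) : Module.End ℤ_[ℓ] M) = (f + 1) ^ m := fun m => by
    induction m with
    | zero => rfl
    | succ m ih =>
      rw [pow_succ, pow_succ, ← ih, show f + 1 = (A : M →ₗ[ℤ_[ℓ]] M) by rw [hf, sub_add_cancel]]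
      rfl
  have hone : (f + 1) ^ ℓ = 1 := by rw [← hpow, hA]; rfl
  rcases hcase with ⟨h2, B, hB⟩ | ⟨h2, B, hB⟩ | ⟨h3, B, hB⟩
  · have := of_involution h2 f B (by subst h2; exact hone) hB
    rwa [show ℓ - 1 = 1 by omega]
  · have h1 : f = (2 : ℤ_[ℓ]) • (-B) := by
      have hone' : (f + 1) ^ 2 = 1 := by subst h2; exact hone
      have h0 : (f + 1) ^ 2 - 1 = 0 := sub_eq_zero.2 hone'
      rw [show (f + 1) ^ 2 - 1 = f ^ 2 + f + f by noncomm_ring, hB] at h0
      apply smul_right_injective (Module.End ℤ_[ℓ] M) (show (2 : ℤ_[ℓ]) ≠ 0 by norm_num)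
      show (2 : ℤ_[ℓ]) • f = (2 : ℤ_[ℓ]) • ((2 : ℤ_[ℓ]) • (-B))
      rw [smul_smul, smul_neg, show (2 : ℤ_[ℓ]) * 2 = 4 by norm_num, two_smul]
      rw [← sub_eq_zero, ← h0]
      abel
    have := of_involution h2 f (-B) (by subst h2; exact hone) h1
    rwa [show ℓ - 1 = 1 by omega]
  · subst h3
    have hne : (3 : ℤ_[3]) ≠ 0 := by norm_num
    have h3 : ∀ T : Module.End ℤ_[3] M, (3 : ℤ_[3]) • T = T + T + T := fun T => by
      rw [show (3 : ℤ_[3]) = 1 + 1 + 1 by norm_num, add_smul, add_smul, one_smul]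
    have h30 : f * f * f + (3 : ℤ_[3]) • (f * f) + (3 : ℤ_[3]) • f = 0 := by
      have h0 : (f + 1) ^ 3 - 1 = 0 := sub_eq_zero.2 hone
      rw [← h0, h3, h3]
      noncomm_ring
    have hB' : f * f = (3 : ℤ_[3]) • B := by rw [← sq]; exact hB
    have hBf : B * f = f * B := smul_right_injective (Module.End ℤ_[3] M) hne (by
      show (3 : ℤ_[3]) • (B * f) = (3 : ℤ_[3]) • (f * B)
      rw [← smul_mul_assoc, ← mul_smul_comm, ← hB', mul_assoc])
    have h31 : f * B + (3 : ℤ_[3]) • B + f = 0 := smul_right_injective (Module.End ℤ_[3] M) hne (by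
      show (3 : ℤ_[3]) • (f * B + (3 : ℤ_[3]) • B + f) = (3 : ℤ_[3]) • (0 : Module.End ℤ_[3] M)
      rw [smul_zero, ← h30, smul_add, smul_add, ← mul_smul_comm, ← hB', mul_assoc])
    have hBB : B * B + B + f * B = 0 := smul_right_injective (Module.End ℤ_[3] M) hne (by
      show (3 : ℤ_[3]) • (B * B + B + f * B) = (3 : ℤ_[3]) • (0 : Module.End ℤ_[3] M)
      have e1 : (3 : ℤ_[3]) • (B * B) = f * (f * B) := by
        rw [← smul_mul_assoc, ← hB', mul_assoc]
      have e2 : f * (f * B) + (3 : ℤ_[3]) • (f * B) + f * f = 0 := by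
        have := congrArg (f * ·) h31
        simpa [mul_add, mul_smul_comm] using this
      rw [smul_zero, ← e2, smul_add, smul_add, e1, ← hB']
      abel)
    have hfB : f * B = -(3 : ℤ_[3]) • B - f := by
      rw [neg_smul]; exact eq_sub_of_add_eq (eq_neg_of_add_eq_zero_left (by rw [← h31]; abel))
    have hB2 : B * B = -B - f * B := by
      rw [← sub_eq_zero, ← hBB]; abel
    set e : Module.End ℤ_[3] M := -(f + B) with he
    have hfe : f * e = f := by
      rw [he, mul_neg, mul_add, hB', hfB, neg_smul]; abel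
    have hef : e * f = f := by
      rw [he, neg_mul, add_mul, hBf, ← mul_add, ← mul_neg]; exact hfe
    have hee : e * e = e := by
      rw [he, neg_mul_neg, add_mul, mul_add, mul_add, hB', hBf, hB2, hfB, neg_smul]
      simp only [h3]
      abel
    have hBe : B * e = B := by
      rw [he, mul_neg, mul_add, hBf, hB2]; abel
    have heB : e * B = B := by
      rw [he, neg_mul, add_mul, hB2]; abel
    have hu : B * (-((f + 1) * (f + 1))) = e := by
      rw [show -((f + 1) * (f + 1)) = -(f * f + f + f + 1) by noncomm_ring, mul_neg, mul_add, mul_add,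
        mul_add, hB', mul_smul_comm, hBf, mul_one, hB2, hfB, he, neg_smul]
      simp only [h3]
      abel
    have hsq : ∀ x, (f ^ 2) x = (3 : ℤ_[3]) • B x := fun x => by rw [hB]; rfl
    have := core f e hee hef hfe (fun x hx => ?_) (Or.inr rfl)
      (fun x => ⟨B x, by
        rw [hsq, ← Module.End.mul_apply, heB]; norm_num⟩)
      (fun x => ⟨(-((f + 1) * (f + 1))) x, by
        rw [hsq, ← Module.End.mul_apply, hu]; norm_num⟩)
    · exact this
    · have h0 : (3 : ℤ_[3]) • B x = 0 := by rw [← hsq, sq, Module.End.mul_apply, hx, map_zero]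
      rw [he, LinearMap.neg_apply, LinearMap.add_apply, hx,
        (smul_eq_zero_iff_right hne).1 h0, add_zero, neg_zero]

end Groth.Agent.H23.Coinv
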