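import Groth.Agent.H23.DiagGeom
import Groth.Agent.H23.StalkPrimes
import Groth.Agent.H23.SkyPoint
import Groth.Agent.CycLib.LFT
import Groth.Agent.H23.ChiDevissage

/-!
# Local rings of a smooth variety at a point: primes, dimensions, multiplicities
-/

set_option autoImplicit false
set_option linter.style.haveILetI false
set_option backward.isDefEq.respectTransparency.types false

universe u

open AlgebraicGeometry CategoryTheory CategoryTheory.Limits IsLocalRing TopologicalSpace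

namespace Groth.Agent.H23.PointPrime

open Groth.Agent CDiv6

variable {X : Scheme.{u}}

/-- The ideal of the closure of `y` at a specialisation is the prime of `y`. -/
theorem stalkIdeal_ptIdeal {y ζ : X} (h : y ⤳ ζ) :
    IntMult.stalkIdeal (IntMult.ptIdeal y) ζ = (primeOf h).asIdeal := by
  obtain ⟨_, ⟨U, hU, rfl⟩, hζU, -⟩ :=
    X.isBasis_affineOpens.exists_subset_of_mem_open (Set.mem_univ ζ) isOpen_univ
  rw [MultCM.stalkIdeal_eq _ ⟨U, hU⟩ hζU]
  letI : Algebra Γ(X, U) (X.presheaf.stalk ζ) := (X.presheaf.germ U ζ hζU).hom.toAlgebra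
  haveI : IsLocalization.AtPrime (X.presheaf.stalk ζ) (hU.primeIdealOf ⟨ζ, hζU⟩).asIdeal :=
    hU.isLocalization_stalk ⟨ζ, hζU⟩
  have hyU : y ∈ U := h.mem_open U.isOpen hζU
  have e : (IntMult.ptIdeal y).ideal ⟨U, hU⟩ =
      (primeOf h).asIdeal.comap (algebraMap Γ(X, U) (X.presheaf.stalk ζ)) := by
    ext a
    rw [Ideal.mem_comap, mem_primeOf]
    refine (QCoh.mem_vanishing_closure_iff y (V := ⟨U, hU⟩) a).trans (not_congr ?_)
    rw [show (X.presheaf.stalkSpecializes h) (algebraMap Γ(X, U) (X.presheaf.stalk ζ) a) =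
      X.presheaf.germ U y hyU a from TopCat.Presheaf.germ_stalkSpecializes_apply _ _ _ _]
    exact X.mem_basicOpen a y hyU
  rw [e]
  exact IsLocalization.map_comap (hU.primeIdealOf ⟨ζ, hζU⟩).asIdeal.primeCompl _ _

theorem coe_support_ptIdeal (y : X) : ((IntMult.ptIdeal y).support : Set X) = closure {y} :=
  (IntMult.ptIdeal y).range_subschemeι.symm.trans (SkyPoint.range_ptIdeal y)

theorem mem_support_ptIdeal {y ζ : X} (h : y ⤳ ζ) : ζ ∈ (IntMult.ptIdeal y).support :=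
  (coe_support_ptIdeal y).ge (specializes_iff_mem_closure.1 h)

section Var

variable {K : Type u} [Field K] (f : X ⟶ Spec (CommRingCat.of K))

theorem deg_eq [LocallyOfFiniteType f] {δ : X → ℤ} (hδ : Cyc.DeltaCompat f δ (fun _ => 0)) (x : X) :
    δ x = (VarDim.deg f x : ℤ) := by
  have h1 := CycLib.deltaCompat_eq f hδ x
  rw [zero_add] at h1
  have h2 := VarDim.deg_eq_add (q := 𝟙 (Spec (CommRingCat.of K))) (p := f) (f := f) (Category.comp_id f) x
  haveI : Subsingleton ↥(Spec (CommRingCat.of K)) := inferInstanceAs (Subsingleton (PrimeSpectrum K))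
  rw [DiagReg.deg_eq_zero (𝟙 (Spec (CommRingCat.of K))) (isClosed_discrete _), zero_add] at h2
  rw [h1, h2, VarDim.fdeg, ← FibDim.rd_eq_rdeg, Cardinal.toNat_natCast]

/-- The dimension of the closure of a point at a specialisation. -/
theorem dim_quot_prime [LocallyOfFiniteType f] {δ : X → ℤ} (hδ : Cyc.DeltaCompat f δ (fun _ => 0)) {y ζ : X}
    (h : y ⤳ ζ) :
    ∃ b : ℕ, ringKrullDim (X.presheaf.stalk ζ ⧸ (primeOf h).asIdeal) = b ∧ (b : ℤ) = δ y - δ ζ := by
  haveI : IsIntegral (IntMult.ptIdeal y).subscheme := QCoh.isIntegral_closure_point y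
  have hr : topologicalKrullDim (IntMult.ptIdeal y).support = (VarDim.deg f y : ℕ) := by
    refine Eq.trans ?_ (VarDim.topologicalKrullDim_closure_singleton f y)
    show topologicalKrullDim ↥((IntMult.ptIdeal y).support : Set X) = _
    rw [coe_support_ptIdeal]
  obtain ⟨b, hb, hb'⟩ := MultCM.exists_dim_quot f (IntMult.ptIdeal y) hr (mem_support_ptIdeal h)
  rw [stalkIdeal_ptIdeal h] at hb
  exact ⟨b, hb, by rw [deg_eq f hδ, deg_eq f hδ]; omega⟩

theorem dim_stalk [LocallyOfFiniteType f] [IrreducibleSpace X] {δ : X → ℤ}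
    (hδ : Cyc.DeltaCompat f δ (fun _ => 0)) {n : ℤ} (hn : δ (genericPoint X) = n) (ζ : X) :
    ∃ d : ℕ, ringKrullDim (X.presheaf.stalk ζ) = d ∧ (d : ℤ) = n - δ ζ := by
  obtain ⟨d, hd, hd'⟩ := MultCM.exists_dim_stalk f (n := VarDim.deg f (genericPoint X))
    (VarDim.topologicalKrullDim_eq_deg_genericPoint f) ζ
  refine ⟨d, hd, ?_⟩
  rw [← hn, deg_eq f hδ, deg_eq f hδ]
  omega

variable [IsAlgClosed K] [Smooth f] [IsSeparated f] [IsIntegral X] {δ : X → ℤ}
  (hδ : Cyc.DeltaCompat f δ (fun _ => 0)) {n : ℤ} (hn : δ (genericPoint X) = n)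

include f hδ hn

/-- Dimension inequality, vanishing and positivity of multiplicities of two points. -/
theorem mult_dimSpec {y z ζ : X} (hy : y ⤳ ζ) (hz : z ⤳ ζ)
    (hmax : ∀ w : X, y ⤳ w → z ⤳ w → w ⤳ ζ → w = ζ) :
    δ y + δ z - n ≤ δ ζ ∧ (δ y + δ z - n < δ ζ → IntMult.mult (IntMult.ptIdeal y) (IntMult.ptIdeal z) ζ = 0) ∧
      (δ y + δ z - n = δ ζ → 0 < IntMult.mult (IntMult.ptIdeal y) (IntMult.ptIdeal z) ζ) := by
  haveI : IsLocallyNoetherian X := LocallyOfFiniteType.isLocallyNoetherian f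
  haveI : IsLocallyNoetherian (pullback f f) := LocallyOfFiniteType.isLocallyNoetherian (pullback.fst f f ≫ f)
  obtain ⟨d, hd, hd'⟩ := dim_stalk f hδ hn ζ
  obtain ⟨a, ha, ha'⟩ := dim_quot_prime f hδ hy
  obtain ⟨b, hb, hb'⟩ := dim_quot_prime f hδ hz
  obtain ⟨t, ht⟩ : ∃ t, maximalIdeal (X.presheaf.stalk ζ) ^ t ≤ (primeOf hz).asIdeal ⊔ (primeOf hy).asIdeal := by
    refine Ideal.exists_pow_le_of_le_radical_of_fg ?_ (IsNoetherian.noetherian _)
    rw [Ideal.radical_eq_sInf]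
    refine le_sInf fun q ⟨hq, hqp⟩ => ?_
    haveI := hqp
    obtain ⟨w, hw, hwq⟩ := StalkPrimes.exists_point q
    have hwy : y ⤳ w := (StalkPrimes.primeOf_le_iff hw hy).1 (hwq ▸ le_sup_right.trans hq)
    have hwz : z ⤳ w := (StalkPrimes.primeOf_le_iff hw hz).1 (hwq ▸ le_sup_left.trans hq)
    obtain rfl := hmax w hwy hwz hw
    rw [← hwq]
    refine fun x hx => (mem_primeOf hw x).2 ?_
    rw [show X.presheaf.stalkSpecializes hw = 𝟙 _ from TopCat.Presheaf.stalkSpecializes_refl _ _]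
    exact (mem_maximalIdeal x).1 hx
  obtain ⟨l, -, hl, hlk⟩ := DiagGeom.exists_seq f (n := VarDim.deg f (genericPoint X))
    (VarDim.topologicalKrullDim_eq_deg_genericPoint f) ζ
  have h := DiagDim.chi_dimSpec ((pullback.diagonal f).stalkMap ζ).hom (DiagGeom.sec₁ f ζ) (DiagGeom.sec₂ f ζ)
    (DiagGeom.retr_sec _ _ _ ζ) (DiagGeom.retr_sec _ _ _ ζ) (DiagGeom.flat_sec _ _ _ ζ) l hl hlk
    (primeOf hz).asIdeal (primeOf hy).asIdeal (primeOf hz).2.ne_top (primeOf hy).2.ne_top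
    (stalkIdeal_ptIdeal hz ▸ DiagGeom.flat_quot_sec₂ f (IntMult.ptIdeal z) ζ (mem_support_ptIdeal hz))
    hd hb ha ht
  rw [IntMult.mult, stalkIdeal_ptIdeal hy, stalkIdeal_ptIdeal hz]
  exact ⟨by omega, fun hlt => h.2.1 (by omega), fun he => h.2.2 (by omega)⟩

end Var

end Groth.Agent.H23.PointPrime
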