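import Groth.Agent.H23.InterSmoothAlg
import Groth.Agent.VarDim.Top
import Groth.Agent.VarDim.Local
import Groth.Agent.CycLib.DivMap
import Groth.Prelude.Def_RegImm
import Groth.Agent.Synt29.KoszulSyntomic
import Groth.Agent.H23.StalkPrimes
import Mathlib.AlgebraicGeometry.Morphisms.Smooth

/-!
# Dimension bounds for intersections and preimages in varieties
-/

set_option autoImplicit false
set_option linter.style.haveILetI false
set_option backward.isDefEq.respectTransparency.types false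

universe u

open AlgebraicGeometry CategoryTheory CategoryTheory.Limits TopologicalSpace IsLocalRing Order

namespace Groth.Agent.H23.InterSmooth

open Groth.Agent

/-- The generic point of a component of a closed subset. -/
theorem exists_component_point {W : Type u} [TopologicalSpace W] [QuasiSober W] [T0Space W] {Y : Set W}
    (hY : IsClosed Y) {C : Set Y} (hC : C ∈ irreducibleComponents Y) :
    ∃ c ∈ Y, topologicalKrullDim C = topologicalKrullDim (closure {c} : Set W) ∧
      ∀ d ∈ Y, d ⤳ c → d = c := by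
  have hemb : Topology.IsClosedEmbedding (Subtype.val : Y → W) := hY.isClosedEmbedding_subtypeVal
  have hc' : IsClosed (Subtype.val '' C) :=
    hemb.isClosedMap C (isClosed_of_mem_irreducibleComponents C hC)
  obtain ⟨c, hc⟩ := QuasiSober.sober (hC.1.image _ continuous_subtype_val.continuousOn) hc'
  obtain ⟨c', hc'C, rfl⟩ : c ∈ Subtype.val '' C := hc.mem
  refine ⟨c'.1, c'.2, ?_, fun d hd hdc => ?_⟩
  · rw [hc.def]
    exact IsHomeomorph.topologicalKrullDim_eq _ (hemb.isEmbedding.homeomorphImage C).isHomeomorph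
  · have h1 : C ⊆ closure ({⟨d, hd⟩} : Set Y) := fun y hy => by
      rw [← specializes_iff_mem_closure, subtype_specializes_iff]
      refine hdc.trans (specializes_iff_mem_closure.2 ?_)
      rw [hc.def]
      exact ⟨y, hy, rfl⟩
    have h2 : (⟨d, hd⟩ : Y) ∈ C :=
      hC.2 (isIrreducible_singleton.closure : IsIrreducible (closure ({⟨d, hd⟩} : Set Y))) h1 (subset_closure rfl)
    refine (hdc.antisymm (specializes_iff_mem_closure.2 ?_)).eq
    rw [hc.def]
    exact ⟨_, h2, rfl⟩

variable {k : Type u} [Field k] {X : Scheme.{u}} (f : X ⟶ Spec (CommRingCat.of k))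

theorem exists_smooth_algebra [Smooth f] {U : X.Opens} (hU : IsAffineOpen U) :
    ∃ _ : Algebra k Γ(X, U), Algebra.FiniteType k Γ(X, U) ∧ Algebra.Smooth k Γ(X, U) := by
  let φ : k →+* Γ(X, U) := (f.appLE ⊤ U (by simp)).hom.comp (Scheme.ΓSpecIso (CommRingCat.of k)).inv.hom
  have h : (f.appLE ⊤ U (by simp)).hom.Smooth :=
    HasRingHomProperty.appLE (P := @Smooth) f inferInstance ⟨⊤, isAffineOpen_top _⟩ ⟨U, hU⟩ (by simp)
  have hs : φ.Smooth := (RingHom.Smooth.of_bijective
    (ConcreteCategory.bijective_of_isIso (Scheme.ΓSpecIso (CommRingCat.of k)).inv)).comp h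
  letI : Algebra k Γ(X, U) := φ.toAlgebra
  haveI : Algebra.Smooth k Γ(X, U) := RingHom.smooth_algebraMap.1 hs
  exact ⟨inferInstance, inferInstance, inferInstance⟩

theorem le_dim_inter [Smooth f] [IsIntegral X] {n r s : ℕ} (hn : topologicalKrullDim X = n) (V W : Set X)
    (hVc : IsClosed V) (hVi : IsIrreducible V) (hWc : IsClosed W) (hWi : IsIrreducible W)
    (hr : topologicalKrullDim V = r) (hs : topologicalKrullDim W = s) (Z : Set ↥(V ∩ W))
    (hZ : Z ∈ irreducibleComponents ↥(V ∩ W)) :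
    ((r + s : ℕ) : WithBot ℕ∞) ≤ topologicalKrullDim Z + n := by
  obtain ⟨v, hv⟩ := QuasiSober.sober hVi hVc
  obtain ⟨w, hw⟩ := QuasiSober.sober hWi hWc
  obtain ⟨z, ⟨hzV, hzW⟩, hdim, hmax⟩ := exists_component_point (hVc.inter hWc) hZ
  rw [← hv.def, VarDim.topologicalKrullDim_closure_singleton f] at hr
  rw [← hw.def, VarDim.topologicalKrullDim_closure_singleton f] at hs
  rw [VarDim.topologicalKrullDim_eq_deg_genericPoint f] at hn
  rw [hdim, VarDim.topologicalKrullDim_closure_singleton f]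
  obtain ⟨U, hU, hzU, -⟩ := exists_isAffineOpen_mem_and_subset (x := z) (U := ⊤) trivial
  obtain ⟨_, hft, hsm⟩ := exists_smooth_algebra f hU
  haveI : Nonempty U := ⟨⟨z, hzU⟩⟩
  haveI : IsDomain Γ(X, U) := inferInstance
  obtain ⟨R, rfl⟩ := VarDim.exists_fromSpec_eq hU hzU
  have hvz : v ⤳ hU.fromSpec R := hv.specializes hzV
  have hwz : w ⤳ hU.fromSpec R := hw.specializes hzW
  obtain ⟨P, rfl⟩ := VarDim.exists_fromSpec_eq hU (hvz.mem_open U.2 hzU)
  obtain ⟨Q, rfl⟩ := VarDim.exists_fromSpec_eq hU (hwz.mem_open U.2 hzU)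
  obtain ⟨η, hη⟩ := VarDim.exists_fromSpec_eq hU ((genericPoint_specializes (hU.fromSpec R)).mem_open U.2 hzU)
  have hη0 : η = ⟨⊥, Ideal.isPrime_bot⟩ := by
    refine PrimeSpectrum.ext (le_bot_iff.1 ?_)
    exact (VarDim.fromSpec_specializes_iff hU η ⟨⊥, Ideal.isPrime_bot⟩).1 (hη ▸ genericPoint_specializes _)
  have hdimA : ringKrullDim Γ(X, U) = n := by
    rw [← ringKrullDim_eq_of_ringEquiv (RingEquiv.quotientBot Γ(X, U)),
      ← VarDim.coheight_eq_ringKrullDim_quotient (⟨⊥, Ideal.isPrime_bot⟩ : PrimeSpectrum Γ(X, U)),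
      VarDim.deg_eq_coheight f hU, ← hη0, hη]
    exact_mod_cast hn
  have hR : R.asIdeal ∈ (P.asIdeal ⊔ Q.asIdeal).minimalPrimes := by
    refine ⟨⟨R.2, sup_le ((VarDim.fromSpec_specializes_iff hU P R).1 hvz)
      ((VarDim.fromSpec_specializes_iff hU Q R).1 hwz)⟩, fun S hS hSR => ?_⟩
    let S' : PrimeSpectrum Γ(X, U) := ⟨S, hS.1⟩
    have h1 : hU.fromSpec S' ∈ V :=
      hv.def ▸ specializes_iff_mem_closure.1 ((VarDim.fromSpec_specializes_iff hU P S').2 (le_sup_left.trans hS.2))
    have h2 : hU.fromSpec S' ∈ W :=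
      hw.def ▸ specializes_iff_mem_closure.1 ((VarDim.fromSpec_specializes_iff hU Q S').2 (le_sup_right.trans hS.2))
    have h3 := hmax _ ⟨h1, h2⟩ ((VarDim.fromSpec_specializes_iff hU S' R).2 hSR)
    exact ((VarDim.fromSpec_specializes_iff hU R S').1 (h3 ▸ specializes_rfl))
  have hi := intersection k hdimA P Q R hR
  rw [VarDim.deg_eq_coheight f hU, VarDim.deg_eq_coheight f hU, VarDim.deg_eq_coheight f hU] at hi
  have hr' : VarDim.deg f (hU.fromSpec P) = r := by exact_mod_cast hr
  have hs' : VarDim.deg f (hU.fromSpec Q) = s := by exact_mod_cast hs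
  rw [hr', hs'] at hi
  have hi' : r + s ≤ VarDim.deg f (hU.fromSpec R) + n := by exact_mod_cast hi
  exact_mod_cast hi'

/-- Components of preimages under regular immersions. -/
theorem le_dim_preimage {X Y Z : Scheme.{u}} (gY : Y ⟶ Spec (CommRingCat.of k)) [LocallyOfFiniteType gY]
    (i : X ⟶ Y) (c : ℕ) (hreg : RegImm.IsRegularImmersionOfCodim RegImm.Kind.regular c i)
    (ι : Z ⟶ Y) [IsClosedImmersion ι] [IsIntegral Z] (d : ℕ) (hd : topologicalKrullDim Z = d)
    (T : Set ↥(pullback i ι)) (hT : T ∈ irreducibleComponents ↥(pullback i ι)) :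
    ((d : ℕ) : WithBot ℕ∞) ≤ topologicalKrullDim T + c := by
  haveI := hreg.1
  let p := pullback.snd i ι
  haveI : IsImmersion p := MorphismProperty.pullback_snd i ι hreg.1
  let g := ι ≫ gY
  haveI : LocallyOfFiniteType g := inferInstance
  obtain ⟨t, ht⟩ := QuasiSober.sober hT.1 (isClosed_of_mem_irreducibleComponents T hT)
  have htmax : ∀ w, w ⤳ t → w = t := fun w hw => by
    have h1 : T ⊆ closure {w} := by
      rw [← ht.def]
      exact closure_minimal (Set.singleton_subset_iff.2 (specializes_iff_mem_closure.1 hw)) isClosed_closure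
    have h2 : w ∈ T := hT.2 (isIrreducible_singleton.closure : IsIrreducible (closure ({w} : Set _))) h1
      (subset_closure rfl)
    exact (hw.antisymm (ht.specializes h2)).eq
  haveI : IsIso (p.residueFieldMap t) :=
    (ConcreteCategory.isIso_iff_bijective _).2 (CycLib.residueFieldMap_bijective p t)
  have hdimT : topologicalKrullDim T = ((VarDim.deg g (p t) : ℕ∞) : WithBot ℕ∞) := by
    rw [← ht.def, VarDim.topologicalKrullDim_closure_singleton (p ≫ g), VarDim.deg_comp g p t]
  obtain ⟨b, hb, -, hle⟩ := VarDim.exists_deg_add_stalk g (p t)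
  have hgen : VarDim.deg g (genericPoint Z) = d := by
    rw [VarDim.topologicalKrullDim_eq_deg_genericPoint g] at hd
    exact_mod_cast hd
  have hbd := hle _ (genericPoint_specializes (p t))
  rw [hgen] at hbd
  suffices hbc : b ≤ c by
    rw [hdimT]
    exact_mod_cast (show d ≤ VarDim.deg g (p t) + c by omega)
  let x := pullback.fst i ι t
  obtain ⟨U, hxU, hcl, rs, hlen, -, hker⟩ := hreg.2 x
  have hιU : ι (p t) = i x := by
    rw [← Scheme.Hom.comp_apply, ← pullback.condition, Scheme.Hom.comp_apply]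
  have hytU : p t ∈ ι ⁻¹ᵁ U.1 := show ι (p t) ∈ U.1 from hιU ▸ hxU
  haveI : IsLocallyNoetherian Z := LocallyOfFiniteType.isLocallyNoetherian g
  let σ : Γ(Y, U.1) →+* Z.presheaf.stalk (p t) :=
    (Z.presheaf.germ (ι ⁻¹ᵁ U.1) (p t) hytU).hom.comp (ι.app U.1).hom
  let J : Ideal (Z.presheaf.stalk (p t)) := Ideal.ofList (rs.map σ)
  obtain ⟨hV, hs⟩ := Synt29.surjective_app_of_isClosedImmersion_restrict i U.1 U.2
  have key : ∀ (z : Z) (hz : z ⤳ p t), (∀ a ∈ rs, ¬ IsUnit ((Z.presheaf.stalkSpecializes hz).hom (σ a))) → z = p t := by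
    intro z hz hrz
    have hzU : ι z ∈ U.1 := (hz.mem_open (ι ⁻¹ᵁ U.1).isOpen hytU : z ∈ ι ⁻¹ᵁ U.1)
    let q := U.2.primeIdealOf ⟨ι z, hzU⟩
    have hqa : ∀ a ∈ rs, a ∈ q.asIdeal := fun a ha => by
      have h1 : ¬ IsUnit ((Y.presheaf.germ U.1 (ι z) hzU).hom a) := fun hu => hrz a ha (by
        have h2 := hu.map (ι.stalkMap z).hom
        erw [Scheme.Hom.germ_stalkMap_apply] at h2
        simp only [σ, RingHom.comp_apply]
        erw [TopCat.Presheaf.germ_stalkSpecializes_apply]
        exact h2)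
      letI : Algebra Γ(Y, U.1) (Y.presheaf.stalk (ι z)) := (Y.presheaf.germ U.1 (ι z) hzU).hom.toAlgebra
      haveI : IsLocalization.AtPrime (Y.presheaf.stalk (ι z)) q.asIdeal := U.2.isLocalization_stalk ⟨ι z, hzU⟩
      by_contra hc
      exact h1 ((IsLocalization.AtPrime.isUnit_to_map_iff (Y.presheaf.stalk (ι z)) q.asIdeal a).2 hc)
    have hq : q ∈ Set.range (PrimeSpectrum.comap (i.app U.1).hom) := by
      rw [range_comap_of_surjective _ _ hs, PrimeSpectrum.mem_zeroLocus, hker]
      exact Ideal.span_le.2 fun a ha => hqa a ha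
    obtain ⟨x', hx'⟩ := hq
    have hix' : i (hV.fromSpec x') = ι z := by
      have h1 := IsAffineOpen.SpecMap_appLE_fromSpec i U.2 hV le_rfl
      rw [← Scheme.Hom.comp_apply, ← h1, Scheme.Hom.comp_apply]
      refine Eq.trans ?_ (U.2.fromSpec_primeIdealOf ⟨ι z, hzU⟩)
      congr 1
      rw [← Scheme.Hom.app_eq_appLE]
      exact hx'
    obtain ⟨w, hw1, hw2⟩ := Scheme.Pullback.exists_preimage_pullback _ _ hix'
    have hwt : w ⤳ t := p.isEmbedding.isInducing.specializes_iff.1 (by rw [show p w = z from hw2]; exact hz)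
    rw [← hw2]
    exact congrArg p (htmax w hwt)
  have hJm : maximalIdeal (Z.presheaf.stalk (p t)) ∈ J.minimalPrimes := by
    have hσm : ∀ a ∈ rs, σ a ∈ maximalIdeal (Z.presheaf.stalk (p t)) := fun a ha => by
      rw [mem_maximalIdeal, mem_nonunits_iff]
      intro hu
      have h1 := hu.map (p.stalkMap t).hom
      simp only [σ, RingHom.comp_apply] at h1
      erw [Scheme.Hom.germ_stalkMap_apply] at h1
      have h0 : (i.app U.1).hom a = 0 := by
        have : a ∈ RingHom.ker (i.app U.1).hom := hker ▸ Ideal.subset_span ha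
        exact this
      have h2 : (p.app (ι ⁻¹ᵁ U.1)) ((ι.app U.1) a) = ((p ≫ ι).app U.1) a := rfl
      erw [h2] at h1
      have h3 : ∀ {f g : pullback i ι ⟶ Y}, f = g → ∀ (h : t ∈ f ⁻¹ᵁ U.1) (h' : t ∈ g ⁻¹ᵁ U.1),
          IsUnit ((pullback i ι).presheaf.germ (f ⁻¹ᵁ U.1) t h (f.app U.1 a)) →
            IsUnit ((pullback i ι).presheaf.germ (g ⁻¹ᵁ U.1) t h' (g.app U.1 a)) := by
        rintro f g rfl h h' hu
        exact hu
      have h4 := h3 pullback.condition.symm _ (show x ∈ i ⁻¹ᵁ U.1 from hxU) h1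
      have h5 : ((pullback.fst i ι ≫ i).app U.1) a = 0 := by
        rw [Scheme.Hom.comp_app]
        show (pullback.fst i ι).app (i ⁻¹ᵁ U.1) ((i.app U.1) a) = 0
        rw [show (i.app U.1) a = 0 from h0, map_zero]
      rw [h5, map_zero] at h4
      exact not_isUnit_zero h4
    refine ⟨⟨inferInstance, Ideal.span_le.2 fun y hy => ?_⟩, fun S hS _ => ?_⟩
    · obtain ⟨a, ha, rfl⟩ := List.mem_map.1 hy
      exact hσm a ha
    · haveI := hS.1
      obtain ⟨z, hz, rfl⟩ := StalkPrimes.exists_point (X := Z) S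
      have hzy : z = p t := key z hz fun a ha =>
        (CDiv6.mem_primeOf hz (σ a)).1 (hS.2 (Ideal.subset_span (List.mem_map.2 ⟨a, ha, rfl⟩)))
      subst hzy
      intro a ha
      rw [CDiv6.mem_primeOf, TopCat.Presheaf.stalkSpecializes_refl]
      exact (mem_maximalIdeal a).1 ha
  classical
  have hh := Ideal.height_le_card_of_mem_minimalPrimes_span_finset (s := (rs.map σ).toFinset)
    (p := maximalIdeal (Z.presheaf.stalk (p t))) (by
      rw [List.coe_toFinset]
      exact hJm)
  rw [← IsLocalRing.maximalIdeal_height_eq_ringKrullDim] at hb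
  have hb' : (maximalIdeal (Z.presheaf.stalk (p t))).height = b := by exact_mod_cast hb
  rw [hb'] at hh
  have := List.toFinset_card_le (rs.map σ)
  rw [List.length_map, hlen] at this
  exact (by exact_mod_cast hh : b ≤ (rs.map σ).toFinset.card).trans this

end Groth.Agent.H23.InterSmooth
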