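import Mathlib.RingTheory.RegularLocalRing.Defs
import Mathlib.RingTheory.Ideal.Cotangent
import Mathlib.Algebra.Module.SpanRankOperations
import Mathlib.RingTheory.Noetherian.Basic

/-!
Two quotients of a regular local ring meeting in the reduced point with enough dimension are regular.
-/

universe u

open IsLocalRing

namespace Groth.Agent.H23.RegPair

variable {R : Type u} [CommRing R]

theorem isRegularLocalRing_quotients [IsRegularLocalRing R] (I J : Ideal R) (h : I ⊔ J = maximalIdeal R)
    {d a b : ℕ} (hd : ringKrullDim R = d) (ha : ringKrullDim (R ⧸ I) = a) (hb : ringKrullDim (R ⧸ J) = b)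
    (hab : d ≤ a + b) : IsRegularLocalRing (R ⧸ I) ∧ IsRegularLocalRing (R ⧸ J) := by
  classical
  have hI : I ≤ maximalIdeal R := h ▸ le_sup_left
  have hJ : J ≤ maximalIdeal R := h ▸ le_sup_right
  let T : Set (maximalIdeal R) := {x | (x : R) ∈ I ∨ (x : R) ∈ J}
  have hT : Submodule.span R T = ⊤ := by
    refine eq_top_iff.2 fun x _ => ?_
    obtain ⟨y, hy, z, hz, hyz⟩ := Submodule.mem_sup.1 (h.symm ▸ x.2 : (x : R) ∈ I ⊔ J)
    rw [show x = (⟨y, hI hy⟩ : maximalIdeal R) + ⟨z, hJ hz⟩ from Subtype.ext hyz.symm]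
    exact add_mem (Submodule.subset_span (Or.inl hy)) (Submodule.subset_span (Or.inr hz))
  let v : T → CotangentSpace R := fun x => (maximalIdeal R).toCotangent x.1
  have hv : Submodule.span (ResidueField R) (Set.range v) = ⊤ := by
    rw [show Set.range v = (maximalIdeal R).toCotangent '' T from by ext; simp [v],
      CotangentSpace.span_image_eq_top_iff]
    exact hT
  obtain ⟨κ, c, hc, hspan, hli⟩ := exists_linearIndependent' (ResidueField R) v
  rw [hv] at hspan
  let B := Module.Basis.mk hli hspan.ge
  haveI : Fintype κ := FiniteDimensional.fintypeBasisIndex B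
  have hcard : Fintype.card κ = d := by
    have h1 := IsRegularLocalRing.spanFinrank_maximalIdeal (R := R)
    rw [hd, spanFinrank_maximalIdeal_eq_finrank_cotangentSpace, Module.finrank_eq_card_basis B] at h1
    exact_mod_cast h1
  let x : κ → R := fun j => ((c j).1 : R)
  have hx : Ideal.span (Set.range x) = maximalIdeal R := by
    have h2 : Submodule.span R (Set.range fun j => (c j).1) = ⊤ := by
      rw [← CotangentSpace.span_image_eq_top_iff, ← Set.range_comp]
      exact hspan
    have h3 := congrArg (Submodule.map (Submodule.subtype (maximalIdeal R))) h2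
    rw [Submodule.map_span, ← Set.range_comp, Submodule.map_top, Submodule.range_subtype] at h3
    exact h3
  have key : ∀ (K : Ideal R), K ≤ maximalIdeal R → ∀ e : ℕ, ringKrullDim (R ⧸ K) = e →
      e ≤ (Finset.univ.filter fun j => x j ∉ K).card ∧
        ((Finset.univ.filter fun j => x j ∉ K).card ≤ e → IsRegularLocalRing (R ⧸ K)) := by
    intro K hK e he
    haveI : Nontrivial (R ⧸ K) := Ideal.Quotient.nontrivial_iff.2 fun ht =>
      (maximalIdeal.isMaximal R).ne_top (top_le_iff.1 (ht ▸ hK))
    haveI : IsLocalRing (R ⧸ K) := .of_surjective' (Ideal.Quotient.mk K) Ideal.Quotient.mk_surjective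
    have hle : (maximalIdeal (R ⧸ K)).spanFinrank ≤ (Finset.univ.filter fun j => x j ∉ K).card := by
      have e1 : maximalIdeal (R ⧸ K) = Ideal.span ((fun j => Ideal.Quotient.mk K (x j)) '' ↑(Finset.univ.filter fun j => x j ∉ K)) := by
        rw [← IsLocalRing.map_maximalIdeal_of_surjective (Ideal.Quotient.mk K) Ideal.Quotient.mk_surjective, ← hx,
          Ideal.map_span]
        refine le_antisymm (Ideal.span_le.2 ?_) (Ideal.span_mono ?_)
        · rintro _ ⟨_, ⟨j, rfl⟩, rfl⟩
          by_cases hj : x j ∈ K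
          · rw [Ideal.Quotient.eq_zero_iff_mem.2 hj]; exact zero_mem _
          · exact Ideal.subset_span ⟨j, by simp [hj], rfl⟩
        · rintro _ ⟨j, -, rfl⟩
          exact ⟨x j, ⟨j, rfl⟩, rfl⟩
      rw [e1]
      refine (Submodule.spanFinrank_span_le_ncard_of_finite (Set.toFinite _)).trans ?_
      refine (Set.ncard_image_le (Set.toFinite _)).trans ?_
      rw [Set.ncard_coe_finset]
    have hdim : (e : WithBot ℕ∞) ≤ (maximalIdeal (R ⧸ K)).spanFinrank := he ▸ ringKrullDim_le_spanFinrank_maximalIdeal _
    refine ⟨le_trans (by exact_mod_cast hdim) hle, fun hle' => ?_⟩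
    exact IsRegularLocalRing.of_spanFinrank_maximalIdeal_le (R ⧸ K) (by rw [he]; exact_mod_cast hle.trans hle')
  obtain ⟨k1, r1⟩ := key I hI a ha
  obtain ⟨k2, r2⟩ := key J hJ b hb
  have hsum : (Finset.univ.filter fun j => x j ∉ I).card + (Finset.univ.filter fun j => x j ∉ J).card ≤ d := by
    have hdisj : Disjoint (Finset.univ.filter fun j => x j ∉ I) (Finset.univ.filter fun j => x j ∉ J) :=
      Finset.disjoint_filter.2 fun j _ h1 h2 => (c j).2.elim h1 h2
    rw [← Finset.card_union_of_disjoint hdisj, ← hcard]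
    exact Finset.card_le_univ _
  exact ⟨r1 (by omega), r2 (by omega)⟩

end Groth.Agent.H23.RegPair
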