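import Groth.Agent.H23.MoveLineResidue
import Groth.Agent.H23.P1Fam
import Groth.Agent.QCoh.DevissageIdeal
import Groth.Agent.H23.SkyPoint

/-!
# Fibres of the moved subvariety
-/

set_option autoImplicit false
set_option linter.style.haveILetI false
set_option linter.unusedSectionVars false
set_option backward.isDefEq.respectTransparency false
set_option backward.isDefEq.respectTransparency.types false

universe u

open CategoryTheory CategoryTheory.Limits AlgebraicGeometry
open MvPolynomial (aeval IsHomogeneous)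
open scoped TensorProduct

noncomputable section

namespace Groth.Agent.H23.MoveLine

variable {N : ℕ} {K : Type u} [Field K]

local notation "PP" => CohB1.ProjSpace N K
local notation "Pol" => MvPolynomial (Fin (N + 1)) K

/-- Evaluation of the parameter at zero, on schemes. -/
abbrev ev0 (j : Fin (N + 1)) : Spec (CommRingCat.of (Pj N K j)) ⟶ Spec (CommRingCat.of (Polynomial (Pj N K j))) :=
  Spec.map (CommRingCat.ofHom (Polynomial.evalRingHom 0))

theorem sect_pj (j : Fin (N + 1)) (i : Fin (1 + 1)) :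
    pj N K j ≫ P1.sect PP i = ev0 j ≫ cje N K j i := by
  refine pullback.hom_ext ?_ ?_
  · rw [P1.sect, Category.assoc, pullback.lift_fst, Category.assoc, cje_fst, P1Charts.chartZ,
      ← Spec.map_comp_assoc, ← Spec.map_comp_assoc, P1.point, ← Category.assoc, ← Category.assoc,
      specULiftZIsTerminal.hom_ext (pj N K j ≫ specULiftZIsTerminal.from PP)
        (Spec.map (CommRingCat.ofHom (P1Charts.up (Pj N K j))))]
    rw [← Spec.map_comp, P1Sect.evalAway_eq, ← CommRingCat.ofHom_comp, ← CommRingCat.ofHom_comp,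
      ← CommRingCat.ofHom_comp]
    congr 3
    rw [← RingHom.comp_assoc]
    refine congrArg (fun φ : Polynomial P1.R0.{u} →+* Pj N K j => φ.comp (P1Charts.θ i)) ?_
    refine Polynomial.ringHom_ext (fun c => ?_) ?_
    · simp [P1Charts.upX]
    · simp [P1Charts.upX]
  · show (pj N K j ≫ P1.sect PP i) ≫ CohB1.ProjSpaceOver.toBase 1 PP =
      (ev0 j ≫ cje N K j i) ≫ CohB1.ProjSpaceOver.toBase 1 PP
    rw [Category.assoc, P1Sect.sect_toBase, Category.comp_id, Category.assoc, cje_toBase, ← Spec.map_comp_assoc,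
      ← CommRingCat.ofHom_comp, show (Polynomial.evalRingHom (0 : Pj N K j)).comp Polynomial.C = RingHom.id _ from
        RingHom.ext fun p => Polynomial.eval_C, CommRingCat.ofHom_id]
    simp

theorem mem_ev0_iff (j : Fin (N + 1)) (p : Spec (CommRingCat.of (Pj N K j))) (F : Polynomial (Pj N K j)) :
    F ∈ (ev0 j p).asIdeal ↔ F.eval 0 ∈ p.asIdeal := Iff.rfl

/-- A point of a section, read in a chart. -/
theorem X_mem_of_mem_range_sect (j : Fin (N + 1)) (i : Fin (1 + 1))
    (q : Spec (CommRingCat.of (Polynomial (Pj N K j)))) (h : cje N K j i q ∈ Set.range (P1.sect PP i)) :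
    Polynomial.X ∈ q.asIdeal := by
  obtain ⟨y, hy⟩ := h
  have h1 := congrArg (CohB1.ProjSpaceOver.toBase 1 PP) hy
  rw [← Scheme.Hom.comp_apply, P1Sect.sect_toBase, ← Scheme.Hom.comp_apply, cje_toBase, Scheme.Hom.comp_apply] at h1
  change y = _ at h1
  subst h1
  rw [← Scheme.Hom.comp_apply, sect_pj, Scheme.Hom.comp_apply] at hy
  rw [← (cje N K j i).isOpenEmbedding.injective hy, mem_ev0_iff, Polynomial.eval_X]
  exact Submodule.zero_mem _

theorem mem_range_sect_of_X_mem (j : Fin (N + 1)) (q : Spec (CommRingCat.of (Polynomial (Pj N K j))))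
    (h : Polynomial.X ∈ q.asIdeal) : cje N K j 0 q ∈ Set.range (P1.sect PP 0) := by
  let p : Spec (CommRingCat.of (Pj N K j)) := Spec.map (CommRingCat.ofHom Polynomial.C) q
  refine ⟨pj N K j p, ?_⟩
  rw [← Scheme.Hom.comp_apply, sect_pj, Scheme.Hom.comp_apply]
  congr 1
  refine PrimeSpectrum.ext ?_
  ext F
  refine (mem_ev0_iff j p F).trans ?_
  show Polynomial.C (F.eval 0) ∈ q.asIdeal ↔ _
  obtain ⟨G, hG⟩ : Polynomial.X ∣ F - Polynomial.C (F.eval 0) := by
    rw [Polynomial.X_dvd_iff, Polynomial.coeff_sub, Polynomial.coeff_C_zero, ← Polynomial.coeff_zero_eq_eval_zero,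
      sub_self]
  have hm : F - Polynomial.C (F.eval 0) ∈ q.asIdeal := hG ▸ q.asIdeal.mul_mem_right G h
  exact ⟨fun h' => by simpa using q.asIdeal.add_mem hm h', fun h' => by simpa using q.asIdeal.sub_mem h' hm⟩

/-- The preimage of a closed subscheme of an affine scheme in an affine scheme is reduced when its ideal is radical. -/
theorem isReduced_pullback_quot {R A : Type u} [CommRing R] [CommRing A] (f : R →+* A) (I : Ideal R)
    (h : (I.map f).IsRadical) {W : Scheme.{u}} (i : W ⟶ Spec (CommRingCat.of R))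
    (e : W ≅ Spec (CommRingCat.of (R ⧸ I))) (he : i = e.hom ≫ Spec.map (CommRingCat.ofHom (Ideal.Quotient.mk I))) :
    IsReduced (pullback i (Spec.map (CommRingCat.ofHom f))) := by
  letI : Algebra R A := f.toAlgebra
  haveI : _root_.IsReduced (A ⧸ I.map (algebraMap R A)) := (Ideal.isRadical_iff_quotient_reduced _).1 h
  haveI : _root_.IsReduced (CommRingCat.of ((R ⧸ I) ⊗[R] A)) :=
    isReduced_of_injective
      ((Algebra.TensorProduct.comm R (R ⧸ I) A).trans
        ((Algebra.TensorProduct.quotIdealMapEquivTensorQuot A I).symm.restrictScalars R))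
      (AlgEquiv.injective _)
  haveI : IsReduced (Spec (CommRingCat.of ((R ⧸ I) ⊗[R] A))) := (affine_isReduced_iff _).2 inferInstance
  subst he
  exact isReduced_of_isOpenImmersion
    (pullback.map (e.hom ≫ Spec.map (CommRingCat.ofHom (Ideal.Quotient.mk I))) (Spec.map (CommRingCat.ofHom f))
      (Spec.map (CommRingCat.ofHom (algebraMap R (R ⧸ I)))) (Spec.map (CommRingCat.ofHom (algebraMap R A)))
      e.hom (𝟙 _) (𝟙 _) (Category.comp_id _) (Category.comp_id _) ≫ (pullbackSpecIso R (R ⧸ I) A).hom)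

variable {L0 : Type u} [Field L0] [Algebra K L0] (g : Fin (N + 1) → Fin (N + 1) → K) (a : Fin (N + 1) → L0)
  (j0 : Fin (N + 1)) (ha : a j0 = 1)

include ha

/-- The original point. -/
theorem specializes_pnt_iff (j : Fin (N + 1)) (p : Spec (CommRingCat.of (Pj N K j))) :
    pnt (K := K) j0 a (IsLocalRing.closedPoint L0) ⤳ pj N K j p ↔
      ∀ (n : ℕ) (f : Pol), f.IsHomogeneous n → aeval a f = 0 → PnChart.dh N K j f ∈ p.asIdeal := by
  have ha0 : a j0 ≠ 0 := by simp [ha]
  constructor
  · intro h n f hf hfa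
    by_contra hp
    have hf' : (f * MvPolynomial.X j).IsHomogeneous (n + 1) := hf.mul (MvPolynomial.isHomogeneous_X K j)
    have h1 : pj N K j p ∈ Proj.basicOpen (CohB1.polyGrading N K) (f * MvPolynomial.X j) :=
      (mem_pj_iff j p hf' n.succ_pos).2 (by rwa [map_mul, dh_X_self, mul_one])
    exact (mem_pnt_iff j0 a ha0 hf' n.succ_pos _).1 (h.mem_open (Proj.basicOpen _ _).isOpen h1)
      (by rw [map_mul, hfa, zero_mul])
  · intro h
    have haj : a j ≠ 0 := fun h0 => p.2.ne_top ((Ideal.eq_top_iff_one _).2 (by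
      rw [← dh_X_self (K := K) j]
      exact h 1 _ (MvPolynomial.isHomogeneous_X K j) (by simpa using h0)))
    rw [pnt_indep j0 j a ha0 haj]
    refine Specializes.map ((PrimeSpectrum.le_iff_specializes
      (Spec.map (CommRingCat.ofHom (evj (K := K) j a).toRingHom) (IsLocalRing.closedPoint L0)) p).1 ?_) (pj N K j).continuous
    show Ideal.comap (evj (K := K) j a).toRingHom (IsLocalRing.maximalIdeal L0) ≤ p.asIdeal
    rw [IsLocalRing.maximalIdeal_eq_bot]
    intro x (hx : evj j a x = 0)
    obtain ⟨n, f, hf, rfl⟩ := exists_dh j x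
    exact h n f hf (by rw [← evj_dh j a haj hf, hx, zero_mul])

omit ha in
theorem mv_ne_of_a_ne (j : Fin (N + 1)) (hj : a j ≠ 0) : mv g a j ≠ 0 := by
  refine (map_ne_zero_iff _ (IsFractionRing.injective _ _)).2 fun h => hj ?_
  have := congrArg (Polynomial.eval 0) h
  simpa [mP] using this

/-- The fibre over zero, on points. -/
theorem specializes_sect_zero_iff (y : PP) :
    xi g a j0 ⤳ P1.sect PP 0 y ↔ pnt (K := K) j0 a (IsLocalRing.closedPoint L0) ⤳ y := by
  obtain ⟨j, p, rfl⟩ := exists_pj N K y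
  rw [← Scheme.Hom.comp_apply, sect_pj, Scheme.Hom.comp_apply, specializes_pnt_iff a j0 ha]
  constructor
  · intro h n f hf hfa
    obtain ⟨hj, hker⟩ := ker_le_of_specializes g a j0 ha j 0 _ h
    obtain ⟨F, hF, hF0⟩ := exists_lift g a j hj hf hfa
    rw [← hF0]
    exact hker (RingHom.mem_ker.2 hF)
  · intro h
    have haj : a j ≠ 0 := fun h0 => p.2.ne_top ((Ideal.eq_top_iff_one _).2 (by
      rw [← dh_X_self (K := K) j]
      exact h 1 _ (MvPolynomial.isHomogeneous_X K j) (by simpa using h0)))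
    have hj := mv_ne_of_a_ne g a j haj
    refine specializes_of_ker_le g a j0 ha j 0 hj _ fun F hF => ?_
    obtain ⟨n, f, G, hf, hdh, hG, hG0⟩ := exists_clear g a j hj F
    rw [RingHom.mem_ker.1 hF, zero_mul, map_eq_zero_iff _ (IsFractionRing.injective _ _)] at hG
    rw [mem_ev0_iff, ← hdh]
    exact h n f hf (by rw [← hG0, hG, Polynomial.eval_zero])

/-- The moved point has one dimension more. -/
theorem delta_xi {δP : PP → ℤ} (hδP : Cyc.DeltaCompat (CohB1.ProjSpace.toSpec N K) δP (fun _ => 0))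
    {δ' : PP1 N K → ℤ} (hδ' : Cyc.DeltaCompat (CohB1.ProjSpaceOver.toBase 1 PP) δ' δP)
    [LocallyOfFiniteType (CohB1.ProjSpace.toSpec N K)] (c : ℕ) (hc : Algebra.trdeg K L0 = c)
    (hgen : ∀ x : L0, ∃ p q : Pj N K j0, evj j0 a q ≠ 0 ∧ x * evj j0 a q = evj j0 a p) :
    δ' (xi g a j0) = c + 1 := by
  have h := pnt1_eq g a j0 ha j0 0 (mv_j0_ne g a j0 ha)
  rw [← h]
  obtain ⟨b, hb, hδ⟩ := delta_cje hδP hδ' j0 0
    (Spec.map (CommRingCat.ofHom (evQ g a j0 0)) (IsLocalRing.closedPoint (L1 L0)))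
  have e : (Spec.map (CommRingCat.ofHom (evQ g a j0 0)) (IsLocalRing.closedPoint (L1 L0))).asIdeal =
      RingHom.ker (evQ g a j0 0) := by
    show Ideal.comap (evQ g a j0 0) (IsLocalRing.maximalIdeal (L1 L0)) = _
    rw [IsLocalRing.maximalIdeal_eq_bot, RingHom.ker_eq_comap_bot]
  rw [e, trdeg_eq g a j0 ha c hc hgen] at hb
  rw [hδ]
  have : c + 1 = b := by exact_mod_cast hb
  omega

/-- The fibre over zero is reduced. -/
theorem isReduced_fibre_zero {C' : Scheme.{u}} [IsReduced C'] (ι' : C' ⟶ PP1 N K) [IsClosedImmersion ι']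
    (hr : Set.range ι' = closure {xi g a j0}) : IsReduced (pullback ι' (P1.sect PP 0)) := by
  have key : ∀ j, IsReduced (pullback (pullback.snd ι' (P1.sect PP 0)) (pj N K j)) := by
    intro j
    let W := pullback ι' (cje N K j 0)
    haveI : IsOpenImmersion (pullback.fst ι' (cje N K j 0)) := inferInstance
    haveI : IsReduced W := isReduced_of_isOpenImmersion (pullback.fst ι' (cje N K j 0))
    obtain ⟨I, e, he⟩ := (IsClosedImmersion.Spec_iff (f := pullback.snd ι' (cje N K j 0))).1 inferInstance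
    haveI : IsReduced (Spec (CommRingCat.of (Polynomial (Pj N K j) ⧸ I))) := isReduced_of_isOpenImmersion e.inv
    haveI : _root_.IsReduced (Polynomial (Pj N K j) ⧸ I) := by
      have := (affine_isReduced_iff (CommRingCat.of (Polynomial (Pj N K j) ⧸ I))).1 inferInstance
      exact this
    have hI : I.IsRadical := (Ideal.isRadical_iff_quotient_reduced I).2 inferInstance
    have hzero : ∀ q : Spec (CommRingCat.of (Polynomial (Pj N K j))),
        I ≤ q.asIdeal ↔ xi g a j0 ⤳ cje N K j 0 q := by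
      intro q
      have h1 : Set.range (pullback.snd ι' (cje N K j 0)) =
          PrimeSpectrum.zeroLocus (I : Set (Polynomial (Pj N K j))) := by
        rw [he, Scheme.Hom.comp_base, TopCat.coe_comp, Set.range_comp, Set.range_eq_univ.2 e.hom.surjective,
          Set.image_univ]
        refine (range_comap_of_surjective _ _ Ideal.Quotient.mk_surjective).trans ?_
        rw [Ideal.mk_ker]
      have h2 := Scheme.Pullback.range_snd ι' (cje N K j 0)
      rw [h1, hr] at h2
      rw [specializes_iff_mem_closure]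
      exact (SetLike.coe_subset_coe.symm).trans (Set.ext_iff.1 h2 q)
    -- the ideal of the fibre
    have hJ : (I.map (Polynomial.evalRingHom 0)).IsRadical := by
      have hsurj : Function.Surjective (Polynomial.evalRingHom (0 : Pj N K j)) :=
        fun p => ⟨Polynomial.C p, Polynomial.eval_C⟩
      by_cases hj : mv g a j = 0
      · have hItop : I = ⊤ := by
          by_contra hne
          obtain ⟨M, hM, hle⟩ := Ideal.exists_le_maximal I hne
          exact (ker_le_of_specializes g a j0 ha j 0 ⟨M, hM.isPrime⟩ ((hzero ⟨M, hM.isPrime⟩).1 hle)).1 hj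
        rw [hItop, Ideal.map_top]
        exact fun x _ => trivial
      · haveI : (RingHom.ker (evQ g a j 0)).IsPrime := RingHom.ker_isPrime _
        have hIeq : I = RingHom.ker (evQ g a j 0) := by
          rw [← hI.radical]
          refine le_antisymm ?_ ?_
          · have := (hzero ⟨_, RingHom.ker_isPrime (evQ g a j 0)⟩).2
              (specializes_of_ker_le g a j0 ha j 0 hj ⟨_, RingHom.ker_isPrime (evQ g a j 0)⟩ le_rfl)
            exact (Ideal.radical_mono this).trans (Ideal.IsPrime.radical inferInstance).le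
          · rw [Ideal.radical_eq_sInf]
            exact le_sInf fun M ⟨hle, hMp⟩ =>
              (ker_le_of_specializes g a j0 ha j 0 ⟨M, hMp⟩ ((hzero ⟨M, hMp⟩).1 hle)).2
        have hmem : ∀ p, p ∈ I.map (Polynomial.evalRingHom 0) ↔
            ∃ (n : ℕ) (f : Pol), f.IsHomogeneous n ∧ aeval a f = 0 ∧ PnChart.dh N K j f = p := by
          intro p
          rw [Ideal.mem_map_iff_of_surjective _ hsurj, hIeq]
          constructor
          · rintro ⟨F, hF, rfl⟩
            obtain ⟨n, f, G, hf, hdh, hG, hG0⟩ := exists_clear g a j hj F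
            rw [RingHom.mem_ker.1 hF, zero_mul, map_eq_zero_iff _ (IsFractionRing.injective _ _)] at hG
            exact ⟨n, f, hf, by rw [← hG0, hG, Polynomial.eval_zero], hdh⟩
          · rintro ⟨n, f, hf, hfa, rfl⟩
            obtain ⟨F, hF, hF0⟩ := exists_lift g a j hj hf hfa
            exact ⟨F, RingHom.mem_ker.2 hF, hF0⟩
        by_cases haj : a j = 0
        · have : I.map (Polynomial.evalRingHom (0 : Pj N K j)) = ⊤ := (Ideal.eq_top_iff_one _).2
            ((hmem 1).2 ⟨1, _, MvPolynomial.isHomogeneous_X K j, by simpa using haj, dh_X_self j⟩)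
          rw [this]
          exact fun x _ => trivial
        · have e2 : I.map (Polynomial.evalRingHom (0 : Pj N K j)) = RingHom.ker (evj (K := K) j a).toRingHom := by
            ext p
            rw [hmem, RingHom.mem_ker]
            show _ ↔ evj j a p = 0
            constructor
            · rintro ⟨n, f, hf, hfa, rfl⟩
              have := evj_dh j a haj hf
              rw [hfa] at this
              exact (mul_eq_zero.1 this).resolve_right (pow_ne_zero n haj)
            · intro hp
              obtain ⟨n, f, hf, rfl⟩ := exists_dh j p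
              exact ⟨n, f, hf, by rw [← evj_dh j a haj hf, hp, zero_mul], rfl⟩
          rw [e2]
          exact (RingHom.ker_isPrime _).isRadical
    -- the piece is the spectrum of the quotient
    haveI := isReduced_pullback_quot (Polynomial.evalRingHom (0 : Pj N K j)) I hJ (pullback.snd ι' (cje N K j 0)) e he
    let e1 : pullback (pullback.snd ι' (P1.sect PP 0)) (pj N K j) ≅ pullback (pullback.snd ι' (cje N K j 0)) (ev0 j) :=
      pullbackLeftPullbackSndIso ι' (P1.sect PP 0) (pj N K j) ≪≫ pullback.congrHom rfl (sect_pj j 0) ≪≫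
        (pullbackLeftPullbackSndIso ι' (cje N K j 0) (ev0 j)).symm
    exact isReduced_of_isOpenImmersion e1.hom
  have hst : ∀ z, _root_.IsReduced ((pullback ι' (P1.sect PP 0)).presheaf.stalk z) := by
    intro z
    obtain ⟨j, p, hp⟩ := exists_pj N K (pullback.snd ι' (P1.sect PP 0) z)
    haveI := key j
    obtain ⟨w, hw, -⟩ := Scheme.Pullback.exists_preimage_pullback (f := pullback.snd ι' (P1.sect PP 0))
      (g := pj N K j) z p hp.symm
    subst hw
    exact isReduced_of_injective
      ((pullback.fst (pullback.snd ι' (P1.sect PP 0)) (pj N K j)).stalkMap w).hom (ConcreteCategory.bijective_of_isIso _).1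
  exact isReduced_of_isReduced_stalk _

/-- A general matrix gives fibres meeting a given subvariety in few dimensions. -/
theorem exists_bound {δP : PP → ℤ} (hδP : Cyc.DeltaCompat (CohB1.ProjSpace.toSpec N K) δP (fun _ => 0))
    {δ' : PP1 N K → ℤ} (hδ' : Cyc.DeltaCompat (CohB1.ProjSpaceOver.toBase 1 PP) δ' δP)
    [LocallyOfFiniteType (CohB1.ProjSpace.toSpec N K)]
    {c d : ℕ} (hc : δP (pnt (K := K) j0 a (IsLocalRing.closedPoint L0)) = c) (η : PP) (hd : δP η = d)
    (U : Type u) [Fintype U] (S : MvPolynomial U K) {e : ℕ} (he : c + d + Fintype.card U < N + e) :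
    ∃ h : MvPolynomial (ULift.{u} (Fin (N + 1) × Fin (N + 1))) K, h ≠ 0 ∧
      ∀ g : Fin (N + 1) → Fin (N + 1) → K, aeval (fun p : ULift.{u} _ => g p.down.1 p.down.2) h ≠ 0 →
      ∀ z : PP1 N K, xi g a j0 ⤳ z → η ⤳ CohB1.ProjSpaceOver.toBase 1 PP z →
        z ∉ Set.range (P1.sect PP 0) →
        (∀ (j : Fin (N + 1)) (q : Spec (CommRingCat.of (Polynomial (Pj N K j)))), cje N K j 1 q = z →
          ∀ (L : Type u) [Field L] [Algebra K L] (v : Polynomial (Pj N K j) →ₐ[K] L),
            RingHom.ker v.toRingHom = q.asIdeal → ∃ σ : U → L, aeval σ S = v Polynomial.X) →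
        ∃ m : ℕ, δ' z = m ∧ m < e := by
  classical
  have ha0 : a j0 ≠ 0 := by simp [ha]
  have H : ∀ ij : Fin (N + 1) × Fin (N + 1), ∃ h : MvPolynomial (ULift.{u} (Fin (N + 1) × Fin (N + 1))) K, h ≠ 0 ∧
      (a ij.1 ≠ 0 → ∀ pB : Spec (CommRingCat.of (Pj N K ij.2)), pj N K ij.2 pB = η →
        ∀ (g : Fin (N + 1) → Fin (N + 1) → K), aeval (fun p : ULift.{u} _ => g p.down.1 p.down.2) h ≠ 0 →
        ∀ (L : Type u) [Field L] [Algebra K L] (v : Polynomial (Pj N K ij.2) →ₐ[K] L) (b : Fin (N + 1) → L) (μ : L),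
          b ij.1 = 1 → (∀ p ∈ RingHom.ker (evj (K := K) ij.1 a).toRingHom, evj ij.1 b p = 0) →
          (∀ p ∈ pB.asIdeal, v (Polynomial.C p) = 0) → (∃ σ : U → L, aeval σ S = v Polynomial.X) →
          (∀ l, v Polynomial.X * b l + ∑ p, algebraMap K L (g l p) * b p = μ * v (yc ij.2 l)) →
            ∃ m : ℕ, ringKrullDim (Polynomial (Pj N K ij.2) ⧸ RingHom.ker v.toRingHom) = m ∧ m < e) := by
    rintro ⟨i0, j⟩
    by_cases hcase : a i0 ≠ 0 ∧ η ∈ (pj N K j).opensRange
    swap
    · refine ⟨1, one_ne_zero, fun h1 pB hpB => absurd ⟨h1, ⟨pB, hpB⟩⟩ hcase⟩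
    obtain ⟨hi, pB, hpB⟩ := hcase
    let pA : Spec (CommRingCat.of (Pj N K i0)) :=
      Spec.map (CommRingCat.ofHom (evj (K := K) i0 a).toRingHom) (IsLocalRing.closedPoint L0)
    have hA : pA.asIdeal = RingHom.ker (evj (K := K) i0 a).toRingHom := by
      show Ideal.comap (evj (K := K) i0 a).toRingHom (IsLocalRing.maximalIdeal L0) = _
      rw [IsLocalRing.maximalIdeal_eq_bot, RingHom.ker_eq_comap_bot]
    haveI : (RingHom.ker (evj (K := K) i0 a).toRingHom).IsPrime := RingHom.ker_isPrime _
    obtain ⟨b1, hb1, hb1'⟩ := delta_pj hδP i0 pA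
    have : pj N K i0 pA = pnt j0 a (IsLocalRing.closedPoint L0) := by rw [pnt_indep j0 i0 a ha0 hi]; rfl
    rw [this, hc] at hb1'
    obtain rfl : c = b1 := by exact_mod_cast hb1'
    rw [hA] at hb1
    obtain ⟨b2, hb2, hb2'⟩ := delta_pj hδP j pB
    rw [hpB, hd] at hb2'
    obtain rfl : d = b2 := by exact_mod_cast hb2'
    haveI := pB.2
    obtain ⟨h, hh, hH⟩ := exists_chart_bound i0 j _ pB.asIdeal hb1 hb2 U S he
    refine ⟨h, hh, fun _ pB' hpB' => ?_⟩
    obtain rfl : pB' = pB := (pj N K j).isOpenEmbedding.injective (hpB'.trans hpB.symm)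
    exact hH
  choose h hh hH using H
  refine ⟨∏ ij, h ij, Finset.prod_ne_zero_iff.2 fun ij _ => hh ij, fun g hg z hz hη h0 hS => ?_⟩
  obtain ⟨j, e', q, rfl⟩ := exists_cje N K z
  obtain ⟨q', hq'⟩ := exists_cje_one j e' q fun he0 => by
    subst he0
    exact fun hX => h0 (mem_range_sect_of_X_mem j q hX)
  rw [← hq'] at hz hη ⊢
  obtain ⟨L, _, _, v, b, i0, μ, hv, hb, hi, hf, hrel⟩ := exists_residue g a j0 ha j 1 q' hz
  have hbase : CohB1.ProjSpaceOver.toBase 1 PP (cje N K j 1 q') =
      pj N K j (Spec.map (CommRingCat.ofHom Polynomial.C) q') := by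
    rw [← Scheme.Hom.comp_apply, cje_toBase, Scheme.Hom.comp_apply]
  rw [hbase] at hη
  obtain ⟨pB, hpB⟩ : η ∈ (pj N K j).opensRange := hη.mem_open (pj N K j).opensRange.isOpen ⟨_, rfl⟩
  have hle : pB.asIdeal ≤ q'.asIdeal.comap Polynomial.C := by
    rw [← hpB] at hη
    exact (PrimeSpectrum.le_iff_specializes _ _).2 ((pj N K j).isOpenEmbedding.isInducing.specializes_iff.1 hη)
  obtain ⟨m, hm, hme⟩ := hH (i0, j) hi pB hpB g
    ((Finset.prod_ne_zero_iff.1 (by rwa [map_prod] at hg)) (i0, j) (Finset.mem_univ _)) L v b μ hb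
    (fun p hp => by
      obtain ⟨n, f, hfn, rfl⟩ := exists_dh i0 p
      have e1 := evj_dh i0 a hi hfn
      rw [show evj i0 a (PnChart.dh N K i0 f) = 0 from hp, zero_mul] at e1
      have e2 := evj_dh i0 b (by simp [hb]) hfn
      rw [hb, one_pow, mul_one] at e2
      rw [e2]
      exact hf n f hfn e1.symm)
    (fun p hp => by
      have : Polynomial.C p ∈ RingHom.ker v.toRingHom := hv ▸ hle hp
      exact this)
    (hS j q' hq' L v hv) (fun l => by simpa [om] using hrel l)
  obtain ⟨b', hb', hδ⟩ := delta_cje hδP hδ' j 1 q'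
  rw [← hv, hm] at hb'
  exact ⟨m, by rw [hδ]; exact_mod_cast hb'.symm, hme⟩

end Groth.Agent.H23.MoveLine
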