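import Groth.Agent.FlatLocus.Basic
import Groth.Agent.VarDim.Fibre
import Groth.Agent.VarDim.Top
import Groth.Agent.NormalLib.Finite

/-!
The flat locus and the finite-fibre locus downstairs of a proper map.
-/

universe u

open CategoryTheory CategoryTheory.Limits AlgebraicGeometry TopologicalSpace

namespace Groth.Agent.H23.CorrLoci

variable {Z W : Scheme.{u}} (f : Z ⟶ W)

theorem isOpen_flatFibre_and_nonempty [IsIntegral W] [LocallyOfFinitePresentation f]
    (hf : IsClosedMap f) :
    IsOpen {w : W | ∀ z : Z, f z = w → (f.stalkMap z).hom.Flat} ∧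
      {w : W | ∀ z : Z, f z = w → (f.stalkMap z).hom.Flat}.Nonempty := by
  refine ⟨?_, genericPoint W, fun z hz => ?_⟩
  · have : {w : W | ∀ z : Z, f z = w → (f.stalkMap z).hom.Flat} =
        (f '' {z : Z | (f.stalkMap z).hom.Flat}ᶜ)ᶜ := by
      ext w
      simp only [Set.mem_setOf_eq, Set.mem_compl_iff, Set.mem_image, not_exists, not_and]
      exact forall_congr' fun z => ⟨fun h h1 h2 => h1 (h h2), fun h h2 => by_contra fun h1 => h h1 h2⟩
    rw [this]
    exact (hf _ (FlatLocus.isOpen_flat_locus f).isClosed_compl).isOpen_compl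
  · have hF : IsField (W.presheaf.stalk (f z)) := by
      rw [hz]; exact Field.toIsField W.functionField
    letI := hF.toField
    letI : Algebra (W.presheaf.stalk (f z)) (Z.presheaf.stalk z) := (f.stalkMap z).hom.toAlgebra
    show Module.Flat (W.presheaf.stalk (f z)) (Z.presheaf.stalk z)
    infer_instance

theorem exists_finiteLocus [IsProper f] :
    ∃ U : W.Opens, (U : Set W) = {w : W | (f ⁻¹' {w}).Finite} ∧ IsFinite (f ∣_ U) := by
  let V : W.Opens := ⟨_, (f.isClosedMap _ f.quasiFiniteLocus.isOpen.isClosed_compl).isOpen_compl⟩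
  refine ⟨V, Set.ext fun w => ⟨fun hw => ?_, ?_⟩, ?_⟩
  · have hqf : ∀ x, f x = w → f.QuasiFiniteAt x := fun x hx =>
      by_contra fun H => hw ⟨x, H, hx⟩
    have : CompactSpace (f.fiber w) :=
      QuasiCompact.compactSpace_of_compactSpace (f.fiberToSpecResidueField w)
    have : DiscreteTopology (f.fiber w) := discreteTopology_iff_isOpen_singleton.2 fun a => by
      have ha : f (f.fiberι w a) = w := (f.fiberHomeo w a).2
      have := Scheme.Hom.quasiFiniteAt_iff_isOpen_singleton_asFiber.1 (hqf _ ha)
      rw [← (f.fiberHomeo _).isOpen_image, Set.image_singleton, Scheme.Hom.asFiber,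
        Homeomorph.apply_symm_apply] at this
      rw [← (f.fiberHomeo w).isOpen_image, Set.image_singleton]
      exact this.preimage (f := fun y : f ⁻¹' {w} => (⟨y.1, y.2.trans ha.symm⟩ : f ⁻¹' {f (f.fiberι w a)}))
        (by fun_prop) |> fun h => by
          convert h using 1
          ext y
          simp [Subtype.ext_iff]
    have : Finite (f.fiber w) := finite_of_compact_of_discrete
    have : Finite (f ⁻¹' {w}) := (f.fiberHomeo w).finite_iff.1 ‹_›
    exact Set.toFinite _
  · rintro hw ⟨x, hx, rfl⟩
    have : Finite (f.fiber (f x)) := (f.fiberHomeo (f x)).finite_iff.mpr hw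
    exact hx (Scheme.Hom.quasiFiniteAt_iff_isOpen_singleton_asFiber.mpr (isOpen_discrete _))
  · suffices LocallyQuasiFinite (f ∣_ V) from .of_isProper_of_locallyQuasiFinite _
    rw [← Scheme.Hom.quasiFiniteLocus_eq_top_iff]
    ext x
    have : f.QuasiFiniteAt ((f ⁻¹ᵁ V).ι x) := by by_contra H; exact x.2 ⟨_, H, by simp⟩
    rw [← Scheme.Hom.quasiFiniteAt_comp_iff_of_isOpenImmersion, ← morphismRestrict_ι,
      Scheme.Hom.quasiFiniteAt_comp_iff] at this
    simpa

theorem finite_generic_fibre {k : Type u} [Field k] (q : W ⟶ Spec (CommRingCat.of k))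
    [LocallyOfFiniteType q] [LocallyOfFiniteType f] [IrreducibleSpace W] [IrreducibleSpace Z]
    (hd : topologicalKrullDim Z ≤ topologicalKrullDim W) : (f ⁻¹' {genericPoint W}).Finite := by
  refine (Set.finite_singleton (genericPoint Z)).subset fun z hz => ?_
  rw [VarDim.topologicalKrullDim_eq_deg_genericPoint q,
    VarDim.topologicalKrullDim_eq_deg_genericPoint (f ≫ q)] at hd
  have hd' : VarDim.deg (f ≫ q) (genericPoint Z) ≤ VarDim.deg q (genericPoint W) := by exact_mod_cast hd
  have e := VarDim.deg_comp_eq f q z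
  rw [show f z = genericPoint W from hz] at e
  exact (VarDim.eq_of_specializes_of_deg_le (f ≫ q) (genericPoint_specializes z) (by omega)).symm

end Groth.Agent.H23.CorrLoci
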