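import Groth.Agent.H23.GysinPb
import Groth.Agent.H23.SpClosed
import Groth.Agent.DimFormula.ClosedSub
import Groth.Agent.CycLib.LFT

/-! The pull-back of the diagonal along `ψ × id` is the graph of `ψ`. -/

set_option autoImplicit false
set_option linter.style.haveILetI false
set_option backward.isDefEq.respectTransparency false

universe u

open CategoryTheory CategoryTheory.Limits AlgebraicGeometry IsLocalRing

namespace Groth.Agent.H23.GraphPull

open Groth.Agent

variable {X : Scheme.{u}} {S : Scheme.{u}} {f : X ⟶ S} {ψ : X ⟶ X}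
  {m : pullback f f ⟶ pullback f f} {g : X ⟶ pullback f f}

theorem isPullback_graph (hm₁ : m ≫ pullback.fst f f = pullback.fst f f ≫ ψ)
    (hm₂ : m ≫ pullback.snd f f = pullback.snd f f) (hg₁ : g ≫ pullback.fst f f = 𝟙 X)
    (hg₂ : g ≫ pullback.snd f f = ψ) : IsPullback g ψ m (pullback.diagonal f) := by
  have h1 : g ≫ m = ψ ≫ pullback.diagonal f := by
    apply pullback.hom_ext
    · rw [Category.assoc, hm₁, ← Category.assoc, hg₁, Category.id_comp, Category.assoc, pullback.diagonal_fst,
        Category.comp_id]
    · rw [Category.assoc, hm₂, hg₂, Category.assoc, pullback.diagonal_snd, Category.comp_id]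
  refine ⟨⟨h1⟩, ⟨PullbackCone.IsLimit.mk _ (fun c => c.fst ≫ pullback.fst f f) ?_ ?_ ?_⟩⟩
  · intro c
    have e1 : c.fst ≫ pullback.fst f f ≫ ψ = c.snd := by
      have := congrArg (· ≫ pullback.fst f f) c.condition
      simpa [hm₁] using this
    have e2 : c.fst ≫ pullback.snd f f = c.snd := by
      have := congrArg (· ≫ pullback.snd f f) c.condition
      simpa [hm₂] using this
    apply pullback.hom_ext
    · rw [Category.assoc, hg₁, Category.comp_id]
    · rw [Category.assoc, hg₂, e2, Category.assoc, e1]
  · intro c
    have := congrArg (· ≫ pullback.fst f f) c.condition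
    simpa [hm₁] using this
  · intro c l hl _
    rw [← hl, Category.assoc, hg₁, Category.comp_id]

theorem map_maximalIdeal_of_isIso {A B : CommRingCat.{u}} [IsLocalRing A] [IsLocalRing B] (φ : A ⟶ B) [IsIso φ] :
    (maximalIdeal A).map φ.hom = maximalIdeal B := by
  have hb := ConcreteCategory.bijective_of_isIso φ
  rcases Ideal.map_eq_top_or_isMaximal_of_surjective φ.hom hb.2 (maximalIdeal.isMaximal A) with h | h
  · have h' := congrArg (Ideal.comap φ.hom) h
    rw [Ideal.comap_map_of_bijective φ.hom hb, Ideal.comap_top] at h'
    exact absurd h' (maximalIdeal.isMaximal A).ne_top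
  · exact IsLocalRing.eq_maximalIdeal h

variable {D T : Scheme.{u}} (i : D ⟶ T) [IsClosedImmersion i] (m' : X ⟶ T)

/-- The fibre length of a morphism at a point of the inverse image of a closed subscheme with field stalks. -/
theorem length_fibre (z : (pullback m' i : Scheme.{u})) (hD : IsField (D.presheaf.stalk (pullback.snd m' i z)))
    (hP : IsField ((pullback m' i).presheaf.stalk z)) :
    Module.length (X.presheaf.stalk (pullback.fst m' i z))
      (X.presheaf.stalk (pullback.fst m' i z) ⧸ Ideal.map (m'.stalkMap (pullback.fst m' i z)).hom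
        (maximalIdeal (T.presheaf.stalk (m' (pullback.fst m' i z))))) = 1 := by
  letI := hP.toField
  letI := hD.toField
  have hker : RingHom.ker (i.stalkMap (pullback.snd m' i z)).hom = maximalIdeal _ :=
    IsLocalRing.eq_maximalIdeal (RingHom.ker_isMaximal_of_surjective _ (i.stalkMap_surjective _))
  have h := GysinPb.ker_stalkMap_fst m' i z
  rw [hker, GysinPb.baseMap, CommRingCat.hom_comp, ← Ideal.map_map] at h
  haveI : IsIso (T.presheaf.stalkSpecializes (specializes_of_eq (GysinPb.apply_fst_eq m' i z))) :=
    ⟨T.presheaf.stalkSpecializes (specializes_of_eq (GysinPb.apply_fst_eq m' i z).symm), by simp, by simp⟩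
  rw [map_maximalIdeal_of_isIso] at h
  rw [← h, ← SpClosed.length_stalk_closed, Module.length_eq_one_iff]
  exact inferInstance

end Groth.Agent.H23.GraphPull
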