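import Groth.Agent.H23.GraphFlat
import Groth.Agent.H23.DiagMult
import Groth.Agent.H23.GraphPull
import Groth.Agent.FibDim.Minimal

/-!
# Cycles pulled back from the two factors of a product meet in the exterior product
-/

set_option autoImplicit false
set_option linter.style.haveILetI false
set_option backward.isDefEq.respectTransparency.types false

universe u

open AlgebraicGeometry CategoryTheory CategoryTheory.Limits IsLocalRing TopologicalSpace
open scoped TensorProduct

namespace Groth.Agent.H23.CrossProd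

open Groth.Agent

variable {W X Y : Scheme.{u}} (p : W ⟶ X) (q : W ⟶ Y)

/-- The stalk of the structure sheaf of a closure at its generic point is the residue field. -/
theorem nonempty_closure_self (x : X) :
    Nonempty ((Cyc.closureStructureSheaf x).presheaf.stalk x ≃ₗ[X.presheaf.stalk x]
      X.presheaf.stalk x ⧸ maximalIdeal (X.presheaf.stalk x)) := by
  obtain ⟨w, hw⟩ := (SkyPoint.range_ptIdeal x).ge (subset_closure rfl)
  have hker : RingHom.ker ((IntMult.ptIdeal x).subschemeι.stalkMap w).hom =
      maximalIdeal (X.presheaf.stalk ((IntMult.ptIdeal x).subschemeι w)) := by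
    have h1 := MultCM.ker_stalkMap_subschemeι (IntMult.ptIdeal x) w
    rw [h1, ← DiagGeom.stalkIdeal_congr (IntMult.ptIdeal x) hw.symm,
      PointPrime.stalkIdeal_ptIdeal (specializes_refl x), ZeroSec.primeOf_refl' _]
    exact GraphPull.map_maximalIdeal_of_isIso _
  obtain ⟨e⟩ := SpClosed.nonempty_quotEquiv (IntMult.ptIdeal x).subschemeι w
  have key : ∀ v : X, (IntMult.ptIdeal x).subschemeι w = v →
      Nonempty ((Cyc.closureStructureSheaf x).presheaf.stalk v ≃ₗ[X.presheaf.stalk v]
        X.presheaf.stalk v ⧸ maximalIdeal (X.presheaf.stalk v)) := by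
    rintro _ rfl
    exact ⟨e.trans (Submodule.quotEquivOfEq _ _ hker)⟩
  exact key x hw

/-- Two pulled back sheaves with one factor a point, when the other projection is flat on the fibre. -/
theorem chi_cross [Flat p] [Flat q] (z : W) (N : Y.Modules)
    (hflat : ((Ideal.Quotient.mk ((maximalIdeal (X.presheaf.stalk (p z))).map (p.stalkMap z).hom)).comp
      (q.stalkMap z).hom).Flat) :
    IntMult.chi (W.presheaf.stalk z)
        (((Scheme.Modules.pullback p).obj (Cyc.closureStructureSheaf (p z))).presheaf.stalk z)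
        (((Scheme.Modules.pullback q).obj N).presheaf.stalk z) =
      ((Module.length (Y.presheaf.stalk (q z)) (N.presheaf.stalk (q z))).toNat : ℤ) *
        ((Module.length (W.presheaf.stalk z) (W.presheaf.stalk z ⧸
          ((maximalIdeal (X.presheaf.stalk (p z))).map (p.stalkMap z).hom ⊔
            (maximalIdeal (Y.presheaf.stalk (q z))).map (q.stalkMap z).hom))).toNat : ℤ) := by
  obtain ⟨eP⟩ := nonempty_closure_self (X := X) (p z)
  have hflatA : (p.stalkMap z).hom.Flat := Flat.stalkMap p z
  have hflatB : (q.stalkMap z).hom.Flat := Flat.stalkMap q z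
  have eF := ((KFlatLib.stalkPullbackIso p z).app (Cyc.closureStructureSheaf (p z))).toLinearEquiv
  have eG := ((KFlatLib.stalkPullbackIso q z).app N).toLinearEquiv
  refine (InterPull.chi_congr_both eF eG).trans ?_
  let A := X.presheaf.stalk (p z)
  let A' := Y.presheaf.stalk (q z)
  let B := W.presheaf.stalk z
  let I : Ideal B := (maximalIdeal A).map (p.stalkMap z).hom
  let N₀ := (DerSch.stalkFunctor Y (q z)).obj N
  letI : Algebra A B := (p.stalkMap z).hom.toAlgebra
  letI : Algebra A' B := (q.stalkMap z).hom.toAlgebra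
  haveI : Module.Flat A B := hflatA
  haveI : Module.Flat A' B := hflatB
  haveI : Module.Flat A' (B ⧸ I) := hflat
  haveI : IsLocalHom (algebraMap A B) := inferInstanceAs <| IsLocalHom (p.stalkMap z).hom
  haveI : IsLocalHom (algebraMap A' B) := inferInstanceAs <| IsLocalHom (q.stalkMap z).hom
  have hI : I ≤ maximalIdeal B := ((local_hom_TFAE (algebraMap A B)).out 0 2).1 ‹IsLocalHom (algebraMap A B)›
  haveI : Nontrivial (B ⧸ I) :=
    Ideal.Quotient.nontrivial_iff.2 (ne_top_of_le_ne_top (maximalIdeal.isMaximal _).ne_top hI)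
  haveI : IsLocalRing (B ⧸ I) := IsLocalRing.of_surjective' _ (Ideal.Quotient.mk_surjective (I := I))
  haveI : IsLocalHom (algebraMap A' (B ⧸ I)) := by
    haveI : IsLocalHom (Ideal.Quotient.mk I) := IsLocalHom.of_surjective _ Ideal.Quotient.mk_surjective
    exact RingHom.isLocalHom_comp (Ideal.Quotient.mk I) (algebraMap A' B)
  let e : (B ⊗[A] ((DerSch.stalkFunctor X (p z)).obj (Cyc.closureStructureSheaf (p z)))) ≃ₗ[B] B ⧸ I :=
    (TensorProduct.AlgebraTensorModule.congr (LinearEquiv.refl B B) eP).trans
      (Algebra.TensorProduct.quotIdealMapEquivTensorQuot B (maximalIdeal A)).toLinearEquiv.symm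
  refine (ChiAdd.chi_congr_left (A := B) (N := B ⊗[A'] N₀) e).trans ?_
  rw [GraphChi.chi_eq_length A' B (B ⧸ I) Ideal.Quotient.mk_surjective N₀]
  have hL : Module.length (B ⧸ I) ((B ⧸ I) ⧸ (maximalIdeal A').map (algebraMap A' (B ⧸ I))) =
      Module.length B (B ⧸ (I ⊔ (maximalIdeal A').map (algebraMap A' B))) := by
    have hmap : (maximalIdeal A').map (algebraMap A' (B ⧸ I)) =
        ((maximalIdeal A').map (algebraMap A' B)).map (Ideal.Quotient.mk I) := by
      rw [Ideal.map_map]
      rfl
    rw [hmap, ← Module.length_eq_of_surjective (S := B) (R := B ⧸ I) (Ideal.Quotient.mk_surjective (I := I))]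
    exact (DoubleQuot.quotQuotEquivQuotSupₐ B I ((maximalIdeal A').map (algebraMap A' B))).toLinearEquiv.length_eq
  rw [hL]
  push_cast
  rfl

section Field

variable {K : Type u} [Field K] (gX : X ⟶ Spec (CommRingCat.of K)) (gY : Y ⟶ Spec (CommRingCat.of K))
  (h : IsPullback p q gX gY)

include h in
/-- The fibre of a product over a point of one factor is flat over the other. -/
theorem flat_fibre (z : W) :
    ((Ideal.Quotient.mk ((maximalIdeal (X.presheaf.stalk (p z))).map (p.stalkMap z).hom)).comp
      (q.stalkMap z).hom).Flat := by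
  set J := IntMult.ptIdeal (p z) with hJ
  set i := pullback.fst p J.subschemeι
  have hz : p z ∈ Set.range J.subschemeι := by
    rw [SkyPoint.range_ptIdeal]; exact subset_closure rfl
  obtain ⟨v, hv⟩ := hz
  obtain ⟨w, hw, hwv⟩ := Scheme.Pullback.exists_preimage_pullback (f := p) (g := J.subschemeι) z v hv.symm
  haveI : Flat (i ≫ q) := by
    have h2 : IsPullback (pullback.snd p J.subschemeι) (i ≫ q) (J.subschemeι ≫ gX) gY :=
      (IsPullback.of_hasPullback p J.subschemeι).flip.paste_vert h
    haveI : Flat (J.subschemeι ≫ gX) := AlgStLib.OnePt.flat_of_field _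
    exact MorphismProperty.of_isPullback h2 (inferInstance : Flat (J.subschemeι ≫ gX))
  let e₀ := (W.presheaf.stalkCongr (.of_eq hw.symm)).hom
  let ψ : W.presheaf.stalk z →+* (pullback p J.subschemeι).presheaf.stalk w := (e₀ ≫ i.stalkMap w).hom
  have hψs : Function.Surjective ψ :=
    (i.stalkMap_surjective w).comp (ConcreteCategory.bijective_of_isIso e₀).2
  have hψk : RingHom.ker ψ = (maximalIdeal (X.presheaf.stalk (p z))).map (p.stalkMap z).hom := by
    have h1 : (IntMult.stalkIdeal (J.comap p) z) =
        (maximalIdeal (X.presheaf.stalk (p z))).map (p.stalkMap z).hom := by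
      rw [DiagGeom.stalkIdeal_comap, hJ, PointPrime.stalkIdeal_ptIdeal (specializes_refl _), ZeroSec.primeOf_refl' _]
    rw [← h1]
    show RingHom.ker ((i.stalkMap w).hom.comp e₀.hom) = _
    have h2 := DiagMult.stalkIdeal_ker i w
    have h3 : i.ker = J.comap p := rfl
    rw [← RingHom.comap_ker, ← h2, h3, ← DiagGeom.stalkIdeal_congr (J.comap p) hw.symm]
    exact Ideal.comap_map_of_bijective _ (ConcreteCategory.bijective_of_isIso e₀)
  let e := (Ideal.quotEquivOfEq hψk.symm).trans (RingHom.quotientKerEquivOfSurjective hψs)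
  have he : (Ideal.Quotient.mk ((maximalIdeal (X.presheaf.stalk (p z))).map (p.stalkMap z).hom)).comp
      (q.stalkMap z).hom = e.symm.toRingHom.comp (ψ.comp (q.stalkMap z).hom) := by
    refine RingHom.ext fun x => e.injective ?_
    show _ = e (e.symm _)
    rw [e.apply_symm_apply]
    rfl
  rw [he]
  refine RingHom.Flat.comp ?_ (RingHom.Flat.of_bijective e.symm.bijective)
  have h3 : ψ.comp (q.stalkMap z).hom =
      ((Y.presheaf.stalkCongr (.of_eq (congrArg q hw.symm))).hom ≫ (i ≫ q).stalkMap w).hom := by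
    show (q.stalkMap z ≫ e₀ ≫ i.stalkMap w).hom = _
    congr 1
    rw [Scheme.Hom.stalkMap_comp, ← Category.assoc, ← Category.assoc]
    congr 1
    exact Scheme.Hom.stalkMap_congr_point q _ _ hw.symm
  rw [h3]
  exact RingHom.Flat.comp (RingHom.Flat.of_bijective (ConcreteCategory.bijective_of_isIso _))
    (Flat.stalkMap (i ≫ q) w)

variable [IsAlgClosed K] [LocallyOfFiniteType gX] [IsIntegral X] [LocallyOfFiniteType gY] [IsIntegral Y]
  [Smooth (p ≫ gX)] [IsSeparated (p ≫ gX)] [IsIntegral W] [Flat p] [Flat q]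
  {δX : X → ℤ} {δY : Y → ℤ} {δ : W → ℤ} (hdX : Cyc.IsDimFun X δX) (hdY : Cyc.IsDimFun Y δY)
  (hd : Cyc.IsDimFun W δ) (hδX : Cyc.DeltaCompat gX δX (fun _ => 0)) (hδY : Cyc.DeltaCompat gY δY (fun _ => 0))
  (hδ : Cyc.DeltaCompat (p ≫ gX) δ (fun _ => 0))

include h hδX hδY hδ in
omit [IsAlgClosed K] [Smooth (p ≫ gX)] [IsSeparated (p ≫ gX)] [IsIntegral X] [IsIntegral Y] [IsIntegral W] [Flat p] [Flat q] in
/-- The dimension at a point of a product is at most the sum. -/
theorem delta_prod [LocallyOfFiniteType (p ≫ gX)] (z : W) :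
    δ z ≤ δX (p z) + δY (q z) ∧
      ((∀ w, w ⤳ z → p w = p z → q w = q z → w = z) → δ z = δX (p z) + δY (q z)) := by
  haveI : LocallyOfFiniteType q := MorphismProperty.of_isPullback h ‹LocallyOfFiniteType gX›
  have e1 : δ z = ((FibDim.rd (q ≫ gY) z : ℕ) : ℤ) := by
    rw [CycLib.deltaCompat_eq _ hδ z, zero_add]
    exact congrArg (fun φ : W ⟶ Spec (CommRingCat.of K) => ((FibDim.rd φ z : ℕ) : ℤ)) h.w
  rw [CycLib.deltaCompat_eq gX hδX (p z), CycLib.deltaCompat_eq gY hδY (q z), zero_add, zero_add, e1,
    FibDim.rd_comp q gY z]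
  have h1 := FibDim.rd_baseChange_le h z
  refine ⟨by omega, fun hmin => ?_⟩
  have h2 := FibDim.rd_baseChange_eq_of_minimal h z hmin
  omega

include h hδX hδY hδ in
omit [IsAlgClosed K] [Smooth (p ≫ gX)] [IsSeparated (p ≫ gX)] in
/-- The dimension of a product. -/
theorem delta_generic [LocallyOfFiniteType (p ≫ gX)] :
    δ (genericPoint W) = δX (genericPoint X) + δY (genericPoint Y) := by
  have hgen : ∀ {V : Scheme.{u}} [IsIntegral V] (a : W ⟶ V) [Flat a], a (genericPoint W) = genericPoint V := by
    intro V _ a _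
    obtain ⟨x', hx', hfx'⟩ := CycLib.exists_generization a (x := genericPoint W) (y := genericPoint V)
      (genericPoint_specializes _)
    rw [← hfx', hx'.antisymm (genericPoint_specializes x') |>.eq]
  rw [(delta_prod p q gX gY h hδX hδY hδ (genericPoint W)).2 fun w hw _ _ =>
    (hw.antisymm (genericPoint_specializes w)).eq, hgen p, hgen q]

include h gY hdX hdY hd hδX hδY hδ in
theorem interProd_eq [LocallyOfFiniteType (p ≫ gX)] {n m r s : ℤ} (hn : δX (genericPoint X) = n)
    (hm : δY (genericPoint Y) = m) {α : X → ℤ} {β : Y → ℤ} (hα : CycleClassK.LFPts (Function.support α))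
    (hβ : CycleClassK.LFPts (Function.support β)) (hαr : ∀ x, δX x ≠ r → α x = 0)
    (hβs : ∀ y, δY y ≠ s → β y = 0) :
    IntMult.IntersectProperly δ (n + m) (Cyc.pullFun p δ δX m α) (Cyc.pullFun q δ δY n β) ∧
      ∀ z, IntMult.interProd δ (n + m) (Cyc.pullFun p δ δX m α) (Cyc.pullFun q δ δY n β) z =
        if δ z = δX (p z) + δY (q z) then α (p z) * β (q z) *
          ((Module.length (W.presheaf.stalk z) (W.presheaf.stalk z ⧸
            ((maximalIdeal (X.presheaf.stalk (p z))).map (p.stalkMap z).hom ⊔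
              (maximalIdeal (Y.presheaf.stalk (q z))).map (q.stalkMap z).hom))).toNat : ℤ)
        else 0 := by
  classical
  haveI : IsLocallyNoetherian X := LocallyOfFiniteType.isLocallyNoetherian gX
  haveI : IsLocallyNoetherian Y := LocallyOfFiniteType.isLocallyNoetherian gY
  haveI : IsLocallyNoetherian W := LocallyOfFiniteType.isLocallyNoetherian (p ≫ gX)
  have hnW : δ (genericPoint W) = n + m := by rw [delta_generic p q gX gY h hδX hδY hδ, hn, hm]
  have hleP : ∀ w, δ w ≤ δX (p w) + m := fun w => by
    have := GraphFlat.le_of_flat p (p ≫ gX) gX hδ hδX hnW hn w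
    omega
  have hleQ : ∀ w, δ w ≤ δY (q w) + n := fun w => by
    have := GraphFlat.le_of_flat q (p ≫ gX) gY hδ hδY hnW hm w
    omega
  have hsum := fun w => (delta_prod p q gX gY h hδX hδY hδ w).1
  refine ⟨fun ξ η w hξ hη h1 h2 => ?_, fun z => ?_⟩
  · rw [Cyc.pullFun] at hξ hη
    split_ifs at hξ with c1
    swap
    · exact absurd rfl hξ
    split_ifs at hη with c2
    swap
    · exact absurd rfl hη
    have h5 := CycLib.delta_le hdX (h1.map p.continuous)
    have h6 := CycLib.delta_le hdY (h2.map q.continuous)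
    have := hsum w
    omega
  have hS := InterBilin.finite_gen hα (p z)
  have hT := InterBilin.finite_gen hβ (q z)
  have key : ∀ {V : Scheme.{u}} [IsLocallyNoetherian V] {δV : V → ℤ} (a : W ⟶ V) [Flat a] {c : ℤ},
      Cyc.IsDimFun V δV → (∀ w, δ w ≤ δV (a w) + c) → ∀ y : V,
      Cyc.pullFun a δ δV c (Set.indicator {y} 1) =
          Cyc.sheafFun δ (δV y + c) ((Scheme.Modules.pullback a).obj (Cyc.closureStructureSheaf y)) ∧
        Coh.IsCoh ((Scheme.Modules.pullback a).obj (Cyc.closureStructureSheaf y)) ∧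
        (∀ w : W, Nontrivial (((Scheme.Modules.pullback a).obj (Cyc.closureStructureSheaf y)).presheaf.stalk w) →
          δ w ≤ δV y + c) ∧
        CycleClassK.LFPts (Function.support (Cyc.pullFun a δ δV c (Set.indicator {y} 1))) := by
    intro V _ δV a _ c hdV hle y
    have h1 := FlatShift.sheafFun_pullback a δ δV hle (δV y) (Cyc.closureStructureSheaf y) fun w hw =>
      CycLib.delta_le hdV (SkyPoint.specializes_of_nontrivial_closure hw)
    rw [InterBilin.sheafFun_closure hdV y] at h1
    exact ⟨h1.2, ZClosLib.isCoh_pullback a (SkyPoint.isCoh_closure y), h1.1, h1.2 ▸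
      CycleClassK.lfPts_sheafFun hd ⟨ZClosLib.isCoh_pullback a (SkyPoint.isCoh_closure y), h1.1⟩⟩
  have hlin : ∀ {V : Scheme.{u}} (δV : V → ℤ) (a : W ⟶ V) (c : ℤ) (φ : V → ℤ)
      (hS : {y : V | y ∈ Function.support φ ∧ y ⤳ a z}.Finite) (w : W), w ⤳ z → Cyc.pullFun a δ δV c φ w =
        ∑ y ∈ hS.toFinset, φ y * Cyc.pullFun a δ δV c (Set.indicator {y} 1) w := by
    intro V δV a c φ hS w hw
    simp only [Cyc.pullFun]
    split_ifs with hh
    · rw [InterBilin.eq_sum_indicator (a z) hS (hw.map a.continuous), Finset.sum_mul]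
      exact Finset.sum_congr rfl fun y _ => mul_assoc _ _ _
    · simp
  rw [InterBilin.interProd_expand (δ := δ) (n := n + m) z hS.toFinset hT.toFinset α β
    (fun x => Cyc.pullFun p δ δX m (Set.indicator {x} 1)) (fun y => Cyc.pullFun q δ δY n (Set.indicator {y} 1))
    _ _ (hlin δX p m α hS) (hlin δY q n β hT)
    (fun x _ => (key p hdX hleP x).2.2.2) (fun y _ => (key q hdY hleQ y).2.2.2)]
  set L := ((Module.length (W.presheaf.stalk z) (W.presheaf.stalk z ⧸
    ((maximalIdeal (X.presheaf.stalk (p z))).map (p.stalkMap z).hom ⊔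
      (maximalIdeal (Y.presheaf.stalk (q z))).map (q.stalkMap z).hom))).toNat : ℤ) with hL
  have hterm : ∀ x ∈ hS.toFinset, ∀ y ∈ hT.toFinset,
      IntMult.interProd δ (n + m) (Cyc.pullFun p δ δX m (Set.indicator {x} 1))
        (Cyc.pullFun q δ δY n (Set.indicator {y} 1)) z =
      if δ z = r + s then Set.indicator {x} (1 : X → ℤ) (p z) * Set.indicator {y} (1 : Y → ℤ) (q z) * L else 0 := by
    intro x hx y hy
    rw [Set.Finite.mem_toFinset] at hx hy
    have hxr : δX x = r := by_contra fun h => hx.1 (hαr x h)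
    have hys : δY y = s := by_contra fun h => hy.1 (hβs y h)
    obtain ⟨ex, cx, dx, -⟩ := key p hdX hleP x
    obtain ⟨ey, cy, dy, -⟩ := key q hdY hleQ y
    rw [ex, ey, InterSheaf.interProd_sheafFun (p ≫ gX) hd hδ hnW cx cy dx dy (fun w h1 h2 => ?_) z,
      show δX x + m + (δY y + n) - (n + m) = r + s by omega]
    swap
    · have h3 := CycLib.delta_le hdX (SkyPoint.specializes_of_nontrivial_closure
        (FlatShift.nontrivial_of_pullback p _ _ h1))
      have h4 := CycLib.delta_le hdY (SkyPoint.specializes_of_nontrivial_closure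
        (FlatShift.nontrivial_of_pullback q _ _ h2))
      have := hsum w
      omega
    split_ifs with hz
    swap
    · rfl
    have h3 := CycLib.delta_le hdX hx.2
    have h4 := CycLib.delta_le hdY hy.2
    have h5 := hsum z
    have hpx : p z = x := (CycLib.eq_of_delta_le hdX hx.2 (by omega)).symm
    have hqy : q z = y := (CycLib.eq_of_delta_le hdY hy.2 (by omega)).symm
    subst hpx hqy
    rw [chi_cross p q z _ (flat_fibre p q gX gY h z), SkyPoint.length_closure_self,
      Set.indicator_of_mem (Set.mem_singleton (p z)), Set.indicator_of_mem (Set.mem_singleton (q z))]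
    simp [hL]
  rw [Finset.sum_congr rfl fun x hx => Finset.sum_congr rfl fun y hy => by rw [hterm x hx y hy]]
  by_cases hz : δ z = r + s
  · simp only [if_pos hz]
    have e : α (p z) * β (q z) * L = ∑ x ∈ hS.toFinset, ∑ y ∈ hT.toFinset,
        α x * β y * (Set.indicator {x} (1 : X → ℤ) (p z) * Set.indicator {y} (1 : Y → ℤ) (q z) * L) := by
      conv_lhs => rw [InterBilin.eq_sum_indicator (p z) hS (specializes_refl _),
        InterBilin.eq_sum_indicator (q z) hT (specializes_refl _), Finset.sum_mul_sum, Finset.sum_mul]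
      refine Finset.sum_congr rfl fun x _ => ?_
      rw [Finset.sum_mul]
      exact Finset.sum_congr rfl fun y _ => by ring
    rw [← e]
    split_ifs with hc
    · rfl
    · by_cases h0 : α (p z) = 0
      · simp [h0]
      by_cases h1 : β (q z) = 0
      · simp [h1]
      exact absurd (by rw [by_contra fun h => h0 (hαr _ h), by_contra fun h => h1 (hβs _ h)]; exact hz) hc
  · simp only [if_neg hz, mul_zero, Finset.sum_const_zero]
    split_ifs with hc
    · by_cases h0 : α (p z) = 0
      · simp [h0]
      by_cases h1 : β (q z) = 0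
      · simp [h1]
      exact absurd (by
        have a : δX (p z) = r := by_contra fun h => h0 (hαr _ h)
        have b : δY (q z) = s := by_contra fun h => h1 (hβs _ h)
        omega) hz
    · rfl

end Field

end Groth.Agent.H23.CrossProd
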