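import Groth.Agent.RegLoc6.Basic
import Mathlib.RingTheory.Ideal.MinimalPrime.Noetherian
import Mathlib.RingTheory.Nakayama
import Mathlib.RingTheory.KrullDimension.Basic

/-! A regular curve germ avoiding a given hypersurface. -/

set_option autoImplicit false
set_option linter.style.haveILetI false

universe u

open IsLocalRing

namespace Groth.Agent.H23.CurveRegular

open Groth.Agent

theorem eq_span_of_prime_le {R : Type u} [CommRing R] [IsDomain R] [IsLocalRing R] [IsNoetherianRing R] {x : R}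
    (hx : x ∈ maximalIdeal R) {q : Ideal R} [q.IsPrime] (hle : q ≤ Ideal.span {x}) (hne : q ≠ ⊥) :
    q = Ideal.span {x} := by
  refine le_antisymm hle ((Ideal.span_singleton_le_iff_mem _).2 ?_)
  by_contra hxq
  refine hne (Submodule.eq_bot_of_le_smul_of_le_jacobson_bot (Ideal.span {x}) q (IsNoetherian.noetherian _) ?_ ?_)
  · intro y hy
    obtain ⟨z, rfl⟩ := Ideal.mem_span_singleton'.1 (hle hy)
    have hz : z ∈ q := (Ideal.IsPrime.mem_or_mem ‹_› hy).resolve_right hxq
    rw [mul_comm]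
    exact Submodule.smul_mem_smul (Ideal.mem_span_singleton_self x) hz
  · rw [IsLocalRing.jacobson_eq_maximalIdeal _ bot_ne_top]
    exact (Ideal.span_singleton_le_iff_mem _).2 hx

/-- One hyperplane section of a regular local ring avoiding a given hypersurface. -/
theorem exists_hyperplane {k : Type u} [Field k] [Infinite k] {R : Type u} [CommRing R] [IsRegularLocalRing R]
    (σ : k →+* R) {n : ℕ} (hn : ringKrullDim R = (n + 2 : ℕ)) {g : R} (hg : g ≠ 0) :
    ∃ x ∈ maximalIdeal R, x ∉ maximalIdeal R ^ 2 ∧ g ∉ Ideal.span {x} := by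
  haveI := RegLoc6.isDomain_of_isRegularLocalRing R
  have hsf : (maximalIdeal R).spanFinrank = n + 2 := by
    have h1 := IsRegularLocalRing.spanFinrank_maximalIdeal (R := R)
    rw [hn] at h1
    exact_mod_cast h1
  have hsm : ∀ y ∈ maximalIdeal R, maximalIdeal R ≤ maximalIdeal R ^ 2 ⊔ Ideal.span {y} → False := by
    intro y hy h
    have h2 : maximalIdeal R ≤ Ideal.span {y} := by
      refine Submodule.le_of_le_smul_of_le_jacobson_bot (I := maximalIdeal R) (IsNoetherian.noetherian _) ?_ ?_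
      · rw [IsLocalRing.jacobson_eq_maximalIdeal _ bot_ne_top]
      · rw [Ideal.smul_eq_mul, ← pow_two, sup_comm]
        exact h
    rw [le_antisymm h2 ((Ideal.span_singleton_le_iff_mem _).2 hy)] at hsf
    have h3 : (Ideal.span {y}).spanFinrank ≤ 1 :=
      (Submodule.spanFinrank_span_le_ncard_of_finite (Set.finite_singleton y)).trans (Set.ncard_singleton y).le
    omega
  obtain ⟨x₁, hx₁, hx₁'⟩ : ∃ x ∈ maximalIdeal R, x ∉ maximalIdeal R ^ 2 := by
    by_contra hne
    simp only [not_exists, not_and, not_not] at hne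
    exact hsm 0 (zero_mem _) fun y hy => Ideal.mem_sup_left (hne y hy)
  obtain ⟨x₂, hx₂, hx₂'⟩ : ∃ x ∈ maximalIdeal R, x ∉ maximalIdeal R ^ 2 ⊔ Ideal.span {x₁} := by
    by_contra hne
    simp only [not_exists, not_and, not_not] at hne
    exact hsm x₁ hx₁ fun y hy => hne y hy
  have hm : ∀ c, x₁ + σ c * x₂ ∈ maximalIdeal R := fun c => add_mem hx₁ (Ideal.mul_mem_left _ _ hx₂)
  have hc2 : ∀ c, x₁ + σ c * x₂ ∉ maximalIdeal R ^ 2 := by
    intro c h
    rcases eq_or_ne c 0 with rfl | hc
    · rw [map_zero, zero_mul, add_zero] at h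
      exact hx₁' h
    · refine hx₂' ?_
      have h1 : σ c⁻¹ * (x₁ + σ c * x₂) - σ c⁻¹ * x₁ ∈ maximalIdeal R ^ 2 ⊔ Ideal.span {x₁} :=
        sub_mem (Ideal.mem_sup_left (Ideal.mul_mem_left _ _ h))
          (Ideal.mem_sup_right (Ideal.mul_mem_left _ _ (Ideal.mem_span_singleton_self x₁)))
      rwa [mul_add, add_sub_cancel_left, ← mul_assoc, ← map_mul, inv_mul_cancel₀ hc, map_one, one_mul] at h1
  by_contra hne
  simp only [not_exists, not_and, not_not] at hne
  let P : k → Ideal R := fun c => Ideal.span {x₁ + σ c * x₂}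
  have hP : ∀ c, (P c).IsPrime := fun c => by
    haveI := (RegLoc6.isRegularLocalRing_quot_and (hm c) (hc2 c)).1
    haveI := RegLoc6.isDomain_of_isRegularLocalRing (R ⧸ P c)
    exact (Ideal.Quotient.isDomain_iff_prime _).1 inferInstance
  have hmin : ∀ c, P c ∈ (Ideal.span {g}).minimalPrimes := fun c => by
    refine ⟨⟨hP c, (Ideal.span_singleton_le_iff_mem _).2 (hne _ (hm c) (hc2 c))⟩, fun q hq hle => ?_⟩
    haveI := hq.1
    refine (eq_span_of_prime_le (hm c) hle fun e => hg ?_).ge
    have := hq.2 (Ideal.mem_span_singleton_self g)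
    rwa [e] at this
  have hinj : Function.Injective P := by
    intro c c' h
    by_contra hcc
    have h1 : σ (c - c') * x₂ ∈ P c := by
      have h2 : x₁ + σ c' * x₂ ∈ P c := h.ge (Ideal.mem_span_singleton_self _)
      have := sub_mem (Ideal.mem_span_singleton_self (x₁ + σ c * x₂) : _ ∈ P c) h2
      rwa [add_sub_add_left_eq_sub, ← sub_mul, ← map_sub] at this
    have h3 : x₂ ∈ P c := by
      have := Ideal.mul_mem_left _ (σ (c - c')⁻¹) h1
      rwa [← mul_assoc, ← map_mul, inv_mul_cancel₀ (sub_ne_zero.2 hcc), map_one, one_mul] at this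
    obtain ⟨t, ht⟩ := Ideal.mem_span_singleton'.1 h3
    by_cases hu : t ∈ maximalIdeal R
    · refine hx₂' (Ideal.mem_sup_left ?_)
      rw [← ht, pow_two]
      exact Ideal.mul_mem_mul hu (hm c)
    · have hu' : IsUnit t := by rwa [mem_maximalIdeal, mem_nonunits_iff, not_not] at hu
      by_cases hv : IsUnit (1 - t * σ c)
      · obtain ⟨v, hv⟩ := hv
        refine hx₂' (Ideal.mem_sup_right (Ideal.mem_span_singleton'.2 ⟨(v⁻¹ : Rˣ) * t, ?_⟩))
        have h4 : (v : R) * x₂ = t * x₁ := by rw [hv]; linear_combination ht.symm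
        calc ((v⁻¹ : Rˣ) : R) * t * x₁ = (v⁻¹ : Rˣ) * ((v : R) * x₂) := by rw [mul_assoc, h4]
          _ = x₂ := by rw [← mul_assoc, Units.inv_mul, one_mul]
      · refine hx₁' ?_
        have h4 : t * x₁ = (1 - t * σ c) * x₂ := by linear_combination ht
        obtain ⟨w, hw⟩ := hu'
        have h5 : x₁ = (w⁻¹ : Rˣ) * ((1 - t * σ c) * x₂) := by
          rw [← h4, ← hw, ← mul_assoc, Units.inv_mul, one_mul]
        rw [h5, pow_two]
        exact Ideal.mul_mem_left _ _ (Ideal.mul_mem_mul ((mem_maximalIdeal _).2 hv) hx₂)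
  exact Set.not_infinite.2 (Ideal.finite_minimalPrimes_of_isNoetherianRing R (Ideal.span {g}))
    ((Set.infinite_range_of_injective hinj).mono (Set.range_subset_iff.2 hmin))

theorem exists_curve_aux {k : Type u} [Field k] [Infinite k] :
    ∀ (n : ℕ) (R : Type u) [CommRing R] [IsRegularLocalRing R] (_ : k →+* R),
      ringKrullDim R = (n + 1 : ℕ) → ∀ g : R, g ≠ 0 →
      ∃ P : Ideal R, P.IsPrime ∧ g ∉ P ∧ ∃ _ : IsRegularLocalRing (R ⧸ P), ringKrullDim (R ⧸ P) = 1 := by
  intro n
  induction n with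
  | zero =>
    intro R _ _ σ hn g hg
    haveI := RegLoc6.isDomain_of_isRegularLocalRing R
    let e : R ≃+* R ⧸ (⊥ : Ideal R) := (RingEquiv.quotientBot R).symm
    refine ⟨⊥, Ideal.isPrime_bot, fun h => hg h, IsRegularLocalRing.of_ringEquiv e, ?_⟩
    rw [← ringKrullDim_eq_of_ringEquiv e, hn]
    norm_num
  | succ n ih =>
    intro R _ _ σ hn g hg
    obtain ⟨x, hx, hx2, hgx⟩ := exists_hyperplane σ hn hg
    obtain ⟨hreg, hdim⟩ := RegLoc6.isRegularLocalRing_quot_and hx hx2
    haveI := hreg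
    let q := Ideal.Quotient.mk (Ideal.span {x})
    have hdim' : ringKrullDim (R ⧸ Ideal.span {x}) = (n + 1 : ℕ) := by
      rw [hn] at hdim
      refine ENat.WithBot.add_one_cancel.1 ?_
      rw [hdim, Nat.cast_add (n + 1), Nat.cast_one]
    obtain ⟨P, hP, hgP, hreg', hd⟩ := ih (R ⧸ Ideal.span {x}) (q.comp σ) hdim' (q g) fun h => hgx (Ideal.Quotient.eq_zero_iff_mem.1 h)
    haveI := hreg'
    let e : (R ⧸ Ideal.span {x}) ⧸ P ≃+* R ⧸ P.comap q :=
      ((RingHom.quotientKerEquivOfSurjective (f := (Ideal.Quotient.mk P).comp q)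
        (Ideal.Quotient.mk_surjective.comp Ideal.Quotient.mk_surjective)).symm.trans
        (Ideal.quotEquivOfEq (by rw [← RingHom.comap_ker, Ideal.mk_ker])))
    refine ⟨P.comap q, inferInstance, hgP, IsRegularLocalRing.of_ringEquiv e, ?_⟩
    rw [← ringKrullDim_eq_of_ringEquiv e]
    exact hd

/-- Through the closed point of a regular local ring there is a regular curve germ outside a hypersurface. -/
theorem exists_curve {k : Type u} [Field k] [Infinite k] {R : Type u} [CommRing R] [IsRegularLocalRing R]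
    (σ : k →+* R) {g : R} (hg : g ∈ maximalIdeal R) (hg0 : g ≠ 0) :
    ∃ P : Ideal R, P.IsPrime ∧ g ∉ P ∧ ∃ _ : IsRegularLocalRing (R ⧸ P), ringKrullDim (R ⧸ P) = 1 := by
  have hd := IsRegularLocalRing.spanFinrank_maximalIdeal (R := R)
  rcases Nat.eq_zero_or_pos (maximalIdeal R).spanFinrank with h0 | h0
  · exact absurd hg (fun h => hg0 (by
      rw [(Submodule.spanFinrank_eq_zero_iff_eq_bot (IsNoetherian.noetherian _)).1 h0] at h
      exact h))
  · obtain ⟨n, hn⟩ := Nat.exists_eq_succ_of_ne_zero h0.ne'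
    exact exists_curve_aux n R σ (by rw [← hd, hn]) g hg0

end Groth.Agent.H23.CurveRegular
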