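import Groth.Agent.S2568
import Groth.Agent.S10830
import Groth.Agent.GeomPtInt5.Generize
import Groth.Agent.FibDim.RelDim
import Groth.Agent.H23.TopDim
import Mathlib.AlgebraicGeometry.AlgClosed.Basic
import Groth.Prelude.Def_Pi1

/-!
# Families of cycles parametrised by a normal base over an algebraically closed field

The total space of a component of such a family is open over the base (Chevalley's criterion), its fibres are
pure dimensional, and the fibre over a connected closed set of parameters is constant when the union of the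
fibres has the dimension of a fibre.
-/

set_option autoImplicit false
set_option linter.style.haveILetI false

open CategoryTheory CategoryTheory.Limits AlgebraicGeometry TopologicalSpace Topology

universe u

namespace Groth.Agent.H23.CycFamily

section Component

variable {P Y : Scheme.{u}} (q : P ⟶ Y) [LocallyOfFiniteType q]
  {Z : Set P} (hc : IsClosed Z) (hi : IsIrreducible Z) (hs : q '' Z = Set.univ)
  (d : ℕ) (hd : ∀ y : Y, topologicalKrullDim ↥(Z ∩ q ⁻¹' {y}) = d)

/-- For an irreducible closed set surjecting with equidimensional fibres onto a normal integral base: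
the restricted map is open, and each point lies on a `d`-dimensional irreducible piece of its fibre. -/
theorem component [IsIntegral Y] (hN : Pi1.IsNormalScheme Y) (hc : IsClosed Z) (hi : IsIrreducible Z)
    (hs : q '' Z = Set.univ) (hd : ∀ y : Y, topologicalKrullDim ↥(Z ∩ q ⁻¹' {y}) = d) :
    (∀ U : Set P, IsOpen U → IsOpen (q '' (Z ∩ U))) ∧
      ∀ t ∈ Z, ∃ D : Set P, IsIrreducible D ∧ t ∈ closure D ∧ closure D ⊆ Z ∧
        closure D ⊆ q ⁻¹' (closure {q t}) ∧
        (d : WithBot ℕ∞) ≤ topologicalKrullDim ↥(closure D ∩ q ⁻¹' {q t}) := by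
  let W : Closeds P := ⟨Z, hc⟩
  let j := (Scheme.IdealSheafData.vanishingIdeal W).subschemeι
  let f := j ≫ q
  have hrange : Set.range j = Z := DimFormula.range_vanishingIdeal W
  haveI : IrreducibleSpace ↥((Scheme.IdealSheafData.vanishingIdeal W).subscheme) := by
    have hh : IsIrreducible (Set.range j) := hrange ▸ hi
    exact j.isEmbedding.toHomeomorph.irreducibleSpace_iff.2 (Subtype.irreducibleSpace hh)
  have himg : ∀ T : Set ↥((Scheme.IdealSheafData.vanishingIdeal W).subscheme), f '' T = q '' (j '' T) := by
    intro T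
    simp only [f, Scheme.Hom.comp_base, TopCat.coe_comp, Set.image_comp]
  haveI : IsDominant f := ⟨Function.Surjective.denseRange fun y => by
    obtain ⟨x, hx, rfl⟩ : y ∈ q '' Z := hs.symm ▸ Set.mem_univ y
    obtain ⟨w, rfl⟩ : x ∈ Set.range j := hrange.symm ▸ hx
    exact ⟨w, rfl⟩⟩
  have hpre : ∀ y, j '' (f ⁻¹' {y}) = Z ∩ q ⁻¹' {y} := by
    intro y
    rw [← hrange]
    ext x
    constructor
    · rintro ⟨w, hw, rfl⟩
      exact ⟨⟨w, rfl⟩, hw⟩
    · rintro ⟨⟨w, rfl⟩, hw⟩
      exact ⟨w, hw, rfl⟩
  have hfib : ∀ y, topologicalKrullDim ↥(f.fiber y) = d := by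
    intro y
    rw [(f.fiberHomeo y).isHomeomorph.topologicalKrullDim_eq,
      ((j.isEmbedding.homeomorphImage _).trans (Homeomorph.setCongr (hpre y))).isHomeomorph.topologicalKrullDim_eq,
      hd]
  have hrd : FibDim.rd f (genericPoint _) = d := by
    have h := FibDim.dim_closure_inter_fibre f
      (genericPoint ↥((Scheme.IdealSheafData.vanishingIdeal W).subscheme))
    rw [(genericPoint_spec _).def, Set.univ_inter,
      ← (f.fiberHomeo _).isHomeomorph.topologicalKrullDim_eq, hfib] at h
    exact_mod_cast h.symm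
  constructor
  · intro U hU
    have hY : ∀ y : Y, CAlg2.IsGeomUnibranch (Y.presheaf.stalk y) := fun y => by
      obtain ⟨hdom, hic⟩ := hN y
      exact GeomPtInt5.isGeomUnibranch_of_normal _
    haveI := S2568.result hY f fun x => by
      refine le_antisymm ?_ ?_
      · rw [hfib]
        exact le_trans (H23.TopDim.localDim_le_dim _) (hfib _).le
      · rw [hfib, ← hrd]
        exact FibDim.fibreDimAt_ge_rd f ((genericPoint_spec _).specializes (Set.mem_univ x))
    rw [← hrange, Set.inter_comm, ← Set.image_preimage_eq_inter_range, ← himg]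
    exact f.isOpenMap _ (hU.preimage j.continuous)
  · intro t ht
    obtain ⟨w, rfl⟩ : t ∈ Set.range j := hrange.symm ▸ ht
    obtain ⟨z, hzw, hfz, -, hle⟩ := FibDim.exists_fibMax_rd_ge f
      ((genericPoint_spec ↥((Scheme.IdealSheafData.vanishingIdeal W).subscheme)).specializes (Set.mem_univ w))
    refine ⟨{j z}, isIrreducible_singleton, specializes_iff_mem_closure.1 (hzw.map j.continuous),
      closure_minimal (Set.singleton_subset_iff.2 (hrange ▸ ⟨z, rfl⟩)) hc,
      closure_minimal (Set.singleton_subset_iff.2 (subset_closure ?_)) (isClosed_closure.preimage q.continuous), ?_⟩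
    · exact hfz
    · have h := FibDim.dim_closure_inter_fibre f z
      have himg' : j '' (closure {z} ∩ f ⁻¹' {f z}) = closure {j z} ∩ q ⁻¹' {q (j w)} := by
        rw [Set.image_inter j.isEmbedding.injective, hpre, ← j.isClosedEmbedding.closure_image_eq,
          Set.image_singleton, ← Set.inter_assoc, Set.inter_eq_left.2
            (closure_minimal (Set.singleton_subset_iff.2 (hrange ▸ ⟨z, rfl⟩)) hc), hfz]
        rfl
      rw [((j.isEmbedding.homeomorphImage _).trans (Homeomorph.setCongr himg')).isHomeomorph.topologicalKrullDim_eq] at h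
      rw [h, ← hrd]
      exact_mod_cast hle

end Component

section Slice

variable {k : Type u} [Field k] [IsAlgClosed k] {X Y : Scheme.{u}}
  (sX : X ⟶ Spec (CommRingCat.of k)) (sY : Y ⟶ Spec (CommRingCat.of k))

/-- The slice over a closed point of the parameter scheme is a copy of `X`. -/
theorem exists_slice [LocallyOfFiniteType sY] {y : Y} (hy : IsClosed {y}) :
    ∃ s : X ⟶ pullback sX sY, s ≫ pullback.fst sX sY = 𝟙 X ∧
      Set.range s = pullback.snd sX sY ⁻¹' {y} := by
  let e := pointOfClosedPoint sY y hy
  let s : X ⟶ pullback sX sY := pullback.lift (𝟙 X) (sX ≫ e) (by simp [e])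
  have he : e ≫ sY = 𝟙 _ := pointOfClosedPoint_comp _ _ _
  have hs : s ≫ pullback.fst sX sY = 𝟙 X := pullback.lift_fst _ _ _
  have sq : IsPullback s sX (pullback.snd sX sY) e := by
    refine IsPullback.of_right (h₁₂ := pullback.fst sX sY) (v₁₃ := sX) (h₂₂ := sY) ?_
      (pullback.lift_snd _ _ _) (IsPullback.of_hasPullback sX sY).flip.flip
    haveI : IsIso (s ≫ pullback.fst sX sY) := hs.symm ▸ inferInstance
    haveI : IsIso (e ≫ sY) := he.symm ▸ inferInstance
    exact IsPullback.of_horiz_isIso ⟨by rw [hs, he, Category.id_comp, Category.comp_id]⟩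
  refine ⟨s, hs, ?_⟩
  have h1 : Set.range s = pullback.snd sX sY ⁻¹' Set.range e := by
    rw [← sq.isoPullback_hom_fst, Scheme.Hom.comp_base, TopCat.coe_comp,
      Function.Surjective.range_comp (show Function.Surjective sq.isoPullback.hom from
        sq.isoPullback.hom.homeomorph.surjective), Scheme.Pullback.range_fst]
  rw [h1]
  congr 1
  ext z
  constructor
  · rintro ⟨a, rfl⟩
    exact pointOfClosedPoint_apply _ _ _ _
  · rintro rfl
    exact ⟨IsLocalRing.closedPoint k, pointOfClosedPoint_apply _ _ _ _⟩

end Slice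

/-- A closed irreducible subset of full dimension in a finite dimensional closed set is a component. -/
theorem mem_irreducibleComponents_of_dim {T : Type u} [TopologicalSpace T] {F C : Set T} {d : ℕ}
    (hF : topologicalKrullDim ↥F = d) (hC : IsClosed C) (hCi : IsIrreducible C) (hCF : C ⊆ F)
    (hCd : (d : WithBot ℕ∞) ≤ topologicalKrullDim ↥C) {E : Set T} (hE : IsIrreducible E) (hEF : E ⊆ F)
    (hCE : C ⊆ E) : E ⊆ C := by
  haveI : IrreducibleSpace ↥E := Subtype.irreducibleSpace hE
  by_contra hne
  have hfin : topologicalKrullDim ↥E ≤ d :=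
    hF ▸ H23.TopDim.dim_le_dim_of_subset hEF
  have hlt := S10830.result ↥E (fun h => by rw [h] at hfin; exact absurd hfin (not_le.2 (WithBot.coe_lt_coe.2 (ENat.coe_lt_top d))))
    (Subtype.val ⁻¹' C) (hC.preimage continuous_subtype_val)
    (fun h => hne fun x hx => Set.eq_univ_iff_forall.1 h ⟨x, hx⟩)
  let e : ↥(Subtype.val ⁻¹' C : Set ↥E) ≃ₜ ↥C :=
    (IsEmbedding.subtypeVal.homeomorphImage _).trans (Homeomorph.setCongr (by
      rw [Subtype.image_preimage_coe, Set.inter_eq_right.2 hCE]))
  rw [e.isHomeomorph.topologicalKrullDim_eq] at hlt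
  exact absurd (lt_of_lt_of_le hlt hfin) (not_lt.2 hCd)

end Groth.Agent.H23.CycFamily
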