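import Groth.Agent.H23.TraceSplit
import Groth.Agent.H23.PullPush
import Groth.Agent.QCoh.LocFree
import Groth.Agent.QCoh.Qcqs
import Mathlib.Topology.Sheaves.SheafCondition.UniqueGluing

/-!
The rank two algebra attached to a pairing on an invertible module.
-/

universe u

open CategoryTheory CategoryTheory.Limits AlgebraicGeometry TopologicalSpace Opposite TensorProduct

namespace Groth.Agent.H23.DblBuild

variable {X : Scheme.{u}} {L : X.Modules} (hL : PicF.IsInvertible L)
  (m : CohB1.tensorMod L L ⟶ Coh.structureModule X)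

/-- The pairing on sections. -/
noncomputable def b (W : X.Opens) (l l' : Γ(L, W)) : Γ(X, W) :=
  (m.val.app (op W)).hom (SecTwist.tmul L L W l l')

theorem b_add_left (W : X.Opens) (l l' k : Γ(L, W)) : b m W (l + l') k = b m W l k + b m W l' k := by
  show (m.val.app (op W)).hom (((SecTwist.toTensor L L).app (op W)).hom
    ((show L.val.obj (op W) from l + l') ⊗ₜ (show L.val.obj (op W) from k))) = _
  erw [TensorProduct.add_tmul, map_add, map_add]
  rfl

theorem b_add_right (W : X.Opens) (l l' k : Γ(L, W)) : b m W k (l + l') = b m W k l + b m W k l' := by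
  show (m.val.app (op W)).hom (((SecTwist.toTensor L L).app (op W)).hom
    ((show L.val.obj (op W) from k) ⊗ₜ (show L.val.obj (op W) from l + l'))) = _
  erw [TensorProduct.tmul_add, map_add, map_add]
  rfl

/-- The pairing on the algebraic tensor product. -/
noncomputable def bLin (W : X.Opens) : Γ(L, W) ⊗[Γ(X, W)] Γ(L, W) →ₗ[Γ(X, W)] Γ(X, W) where
  toFun x := (m.val.app (op W)).hom (((SecTwist.toTensor L L).app (op W)).hom x)
  map_add' x y := (congrArg (m.val.app (op W)).hom (map_add ((SecTwist.toTensor L L).app (op W)).hom x y)).trans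
    (map_add (m.val.app (op W)).hom _ _)
  map_smul' r x := (congrArg (m.val.app (op W)).hom (map_smul ((SecTwist.toTensor L L).app (op W)).hom r x)).trans
    (map_smul (m.val.app (op W)).hom r _)

theorem b_smul_left (W : X.Opens) (r : Γ(X, W)) (l k : Γ(L, W)) : b m W (r • l) k = r * b m W l k := by
  show bLin m W ((r • l) ⊗ₜ k) = r • bLin m W (l ⊗ₜ k)
  rw [← map_smul, TensorProduct.smul_tmul']

theorem b_smul_right (W : X.Opens) (r : Γ(X, W)) (l k : Γ(L, W)) : b m W k (r • l) = r * b m W k l := by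
  show bLin m W (k ⊗ₜ (r • l)) = r • bLin m W (k ⊗ₜ l)
  rw [← map_smul, TensorProduct.tmul_smul]

theorem b_res {W' W : X.Opens} (h : W' ≤ W) (l k : Γ(L, W)) :
    X.presheaf.map (homOfLE h).op (b m W l k) =
      b m W' (L.presheaf.map (homOfLE h).op l) (L.presheaf.map (homOfLE h).op k) :=
  (PresheafOfModules.naturality_apply m.val (homOfLE h).op (SecTwist.tmul L L W l k)).symm.trans
    (congrArg (m.val.app (op W')).hom (SecTwist.map_tmul L L (homOfLE h) l k))

include hL in
/-- An identity between natural multilinear expressions holds if it holds for multiples of a section. -/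
theorem assoc (W : X.Opens) (x y z : Γ(L, W)) :
    b m W x y • z = b m W y z • x ∧ b m W x y = b m W y x := by
  choose U g hU hg using DblAlg.exists_gen hL
  have key : ∀ p : X, ∀ v : Γ(L, U p ⊓ W), ∃ a : Γ(X, U p ⊓ W),
      v = a • L.presheaf.map (homOfLE inf_le_left).op (g p) := fun p v => by
    obtain ⟨c, hc⟩ := (hg p (U p ⊓ W) inf_le_left).2 v
    exact ⟨c 0, by rw [← hc, Frame.comb, Fin.sum_univ_one]⟩
  constructor
  · refine TopCat.Sheaf.eq_of_locally_eq' (⟨L.presheaf, Scheme.Modules.isSheaf L⟩ : TopCat.Sheaf Ab.{u} X)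
      (fun p : X => U p ⊓ W) W (fun p => homOfLE inf_le_right)
      (fun p hp => Opens.mem_iSup.mpr ⟨p, hU p, hp⟩) _ _ fun p => ?_
    show L.presheaf.map (homOfLE inf_le_right).op _ = L.presheaf.map (homOfLE inf_le_right).op _
    rw [Scheme.Modules.map_smul, Scheme.Modules.map_smul, b_res, b_res]
    obtain ⟨a, ha⟩ := key p (L.presheaf.map (homOfLE inf_le_right).op x)
    obtain ⟨c, hc⟩ := key p (L.presheaf.map (homOfLE inf_le_right).op y)
    obtain ⟨e, he⟩ := key p (L.presheaf.map (homOfLE inf_le_right).op z)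
    rw [ha, hc, he]
    simp only [b_smul_left, b_smul_right, smul_smul]
    congr 1
    ring
  · refine X.sheaf.eq_of_locally_eq' (fun p : X => U p ⊓ W) W (fun p => homOfLE inf_le_right)
      (fun p hp => Opens.mem_iSup.mpr ⟨p, hU p, hp⟩) _ _ fun p => ?_
    show X.presheaf.map (homOfLE inf_le_right).op _ = X.presheaf.map (homOfLE inf_le_right).op _
    rw [b_res, b_res]
    obtain ⟨a, ha⟩ := key p (L.presheaf.map (homOfLE inf_le_right).op x)
    obtain ⟨c, hc⟩ := key p (L.presheaf.map (homOfLE inf_le_right).op y)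
    rw [ha, hc]
    simp only [b_smul_left, b_smul_right]
    ring

/-- Sections of the algebra. -/
@[nolint unusedArguments]
def Pair (_hL : PicF.IsInvertible L) (_m : CohB1.tensorMod L L ⟶ Coh.structureModule X) (W : X.Opens) : Type u :=
  Γ(X, W) × Γ(L, W)

noncomputable instance (W : X.Opens) : AddCommGroup (Pair hL m W) :=
  inferInstanceAs (AddCommGroup (Γ(X, W) × Γ(L, W)))

variable {hL m}

theorem Pair.ext {W : X.Opens} {p q : Pair hL m W} (h1 : p.1 = q.1) (h2 : p.2 = q.2) : p = q := Prod.ext h1 h2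

noncomputable instance (W : X.Opens) : CommRing (Pair hL m W) :=
  { (inferInstance : AddCommGroup (Pair hL m W)) with
    mul := fun p q => (p.1 * q.1 + b m W p.2 q.2, p.1 • q.2 + q.1 • p.2)
    one := (1, 0)
    mul_assoc := fun p q r => Pair.ext
      (by
        show (p.1 * q.1 + b m W p.2 q.2) * r.1 + b m W (p.1 • q.2 + q.1 • p.2) r.2 =
          p.1 * (q.1 * r.1 + b m W q.2 r.2) + b m W p.2 (q.1 • r.2 + r.1 • q.2)
        rw [b_add_left, b_add_right, b_smul_left, b_smul_left, b_smul_right, b_smul_right]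
        ring)
      (by
        show (p.1 * q.1 + b m W p.2 q.2) • r.2 + r.1 • (p.1 • q.2 + q.1 • p.2) =
          p.1 • (q.1 • r.2 + r.1 • q.2) + (q.1 * r.1 + b m W q.2 r.2) • p.2
        rw [add_smul, add_smul, smul_add, smul_add, (assoc hL m W p.2 q.2 r.2).1]
        module)
    mul_comm := fun p q => Pair.ext
      (by
        show p.1 * q.1 + b m W p.2 q.2 = q.1 * p.1 + b m W q.2 p.2
        rw [mul_comm, (assoc hL m W p.2 q.2 q.2).2])
      (add_comm _ _)
    left_distrib := fun p q r => Pair.ext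
      (by
        show p.1 * (q.1 + r.1) + b m W p.2 (q.2 + r.2) = p.1 * q.1 + b m W p.2 q.2 + (p.1 * r.1 + b m W p.2 r.2)
        rw [b_add_right]; ring)
      (by
        show p.1 • (q.2 + r.2) + (q.1 + r.1) • p.2 = p.1 • q.2 + q.1 • p.2 + (p.1 • r.2 + r.1 • p.2)
        rw [smul_add, add_smul]; abel)
    right_distrib := fun p q r => Pair.ext
      (by
        show (p.1 + q.1) * r.1 + b m W (p.2 + q.2) r.2 = p.1 * r.1 + b m W p.2 r.2 + (q.1 * r.1 + b m W q.2 r.2)
        rw [b_add_left]; ring)
      (by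
        show (p.1 + q.1) • r.2 + r.1 • (p.2 + q.2) = p.1 • r.2 + r.1 • p.2 + (q.1 • r.2 + r.1 • q.2)
        rw [smul_add, add_smul]; abel)
    zero_mul := fun p => Pair.ext
      (by
        show (0 : Γ(X, W)) * p.1 + b m W 0 p.2 = 0
        rw [← zero_smul Γ(X, W) (0 : Γ(L, W)), b_smul_left]; ring)
      (by
        show (0 : Γ(X, W)) • p.2 + p.1 • (0 : Γ(L, W)) = 0
        rw [zero_smul, smul_zero, add_zero])
    mul_zero := fun p => Pair.ext
      (by
        show p.1 * (0 : Γ(X, W)) + b m W p.2 0 = 0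
        rw [← zero_smul Γ(X, W) (0 : Γ(L, W)), b_smul_right]; ring)
      (by
        show p.1 • (0 : Γ(L, W)) + (0 : Γ(X, W)) • p.2 = 0
        rw [zero_smul, smul_zero, add_zero])
    one_mul := fun p => Pair.ext
      (by
        show (1 : Γ(X, W)) * p.1 + b m W 0 p.2 = p.1
        rw [← zero_smul Γ(X, W) (0 : Γ(L, W)), b_smul_left]; ring)
      (by
        show (1 : Γ(X, W)) • p.2 + p.1 • (0 : Γ(L, W)) = p.2
        rw [one_smul, smul_zero, add_zero])
    mul_one := fun p => Pair.ext
      (by
        show p.1 * (1 : Γ(X, W)) + b m W p.2 0 = p.1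
        rw [← zero_smul Γ(X, W) (0 : Γ(L, W)), b_smul_right]; ring)
      (by
        show p.1 • (0 : Γ(L, W)) + (1 : Γ(X, W)) • p.2 = p.2
        rw [one_smul, smul_zero, zero_add]) }

variable (hL m)

/-- Restriction. -/
noncomputable def res {W' W : X.Opens} (h : W' ≤ W) : Pair hL m W →+* Pair hL m W' where
  toFun p := (X.presheaf.map (homOfLE h).op p.1, L.presheaf.map (homOfLE h).op p.2)
  map_one' := Pair.ext (hL := hL) (m := m) (map_one (X.presheaf.map (homOfLE h).op).hom) (map_zero (L.presheaf.map (homOfLE h).op).hom)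
  map_zero' := Pair.ext (hL := hL) (m := m) (map_zero (X.presheaf.map (homOfLE h).op).hom) (map_zero (L.presheaf.map (homOfLE h).op).hom)
  map_add' p q := Pair.ext (hL := hL) (m := m) (map_add (X.presheaf.map (homOfLE h).op).hom p.1 q.1)
    (map_add (L.presheaf.map (homOfLE h).op).hom p.2 q.2)
  map_mul' p q := Pair.ext (hL := hL) (m := m)
    (by
      show X.presheaf.map (homOfLE h).op (p.1 * q.1 + b m W p.2 q.2) = _ * _ + b m W' _ _
      rw [map_add, map_mul, b_res])
    (by
      show L.presheaf.map (homOfLE h).op (p.1 • q.2 + q.1 • p.2) = _ • _ + _ • _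
      rw [map_add, Scheme.Modules.map_smul, Scheme.Modules.map_smul])

/-- The presheaf of rings. -/
noncomputable def presh : TopCat.Presheaf CommRingCat.{u} X.carrier where
  obj W := CommRingCat.of (Pair hL m W.unop)
  map i := CommRingCat.ofHom (res hL m i.unop.le)
  map_id W := CommRingCat.hom_ext (RingHom.ext fun p => Pair.ext (hL := hL) (m := m)
    (ConcreteCategory.congr_hom (X.presheaf.map_id W) p.1) (ConcreteCategory.congr_hom (L.presheaf.map_id W) p.2))
  map_comp i i' := CommRingCat.hom_ext (RingHom.ext fun p => Pair.ext (hL := hL) (m := m)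
    (ConcreteCategory.congr_hom (X.presheaf.map_comp i i') p.1)
    (ConcreteCategory.congr_hom (L.presheaf.map_comp i i') p.2))

theorem isSheaf_presh : (presh hL m).IsSheaf := by
  rw [TopCat.Presheaf.isSheaf_iff_isSheafUniqueGluing]
  intro ι U sf hsf
  let LS : TopCat.Sheaf Ab.{u} X := ⟨L.presheaf, Scheme.Modules.isSheaf L⟩
  obtain ⟨r, hr, hr'⟩ := X.sheaf.existsUnique_gluing U (fun i => (show Pair hL m (U i) from sf i).1)
    fun i j => congrArg Prod.fst (hsf i j)
  obtain ⟨l, hl, hl'⟩ := LS.existsUnique_gluing U (fun i => (show Pair hL m (U i) from sf i).2)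
    fun i j => congrArg Prod.snd (hsf i j)
  refine ⟨((r, l) : Pair hL m (iSup U)), fun i => Pair.ext (hL := hL) (m := m) (hr i) (hl i), fun p hp => Pair.ext (hL := hL) (m := m) ?_ ?_⟩
  · exact hr' _ fun i => congrArg Prod.fst (hp i)
  · exact hl' _ fun i => congrArg Prod.snd (hp i)

/-- The structure map. -/
noncomputable def str : X.presheaf ⟶ presh hL m where
  app W := CommRingCat.ofHom
    { toFun := fun r => ((r, 0) : Pair hL m W.unop)
      map_one' := rfl
      map_zero' := rfl
      map_add' := fun r s => Pair.ext (hL := hL) (m := m) rfl (add_zero (0 : Γ(L, W.unop))).symm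
      map_mul' := fun r s => Pair.ext (hL := hL) (m := m)
        (by
          show r * s = r * s + b m W.unop 0 0
          rw [← zero_smul Γ(X, W.unop) (0 : Γ(L, W.unop)), b_smul_left]; ring)
        (by
          show (0 : Γ(L, W.unop)) = (show Γ(X, W.unop) from r) • (0 : Γ(L, W.unop)) + (show Γ(X, W.unop) from s) • (0 : Γ(L, W.unop))
          rw [smul_zero, smul_zero, add_zero]) }
  naturality W W' i := CommRingCat.hom_ext (RingHom.ext fun r => Pair.ext (hL := hL) (m := m) rfl (map_zero (L.presheaf.map i).hom).symm)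

theorem str_mul {W : X.Opens} (r : Γ(X, W)) (p : Pair hL m W) :
    (show Pair hL m W from ((str hL m).app (op W)).hom r) * p = ((r * p.1, r • p.2) : Pair hL m W) :=
  Pair.ext (hL := hL) (m := m)
    (by
      show r * p.1 + b m W 0 p.2 = r * p.1
      rw [← zero_smul Γ(X, W) (0 : Γ(L, W)), b_smul_left]; ring)
    (by
      show r • p.2 + p.1 • (0 : Γ(L, W)) = r • p.2
      rw [smul_zero, add_zero])

theorem isQC_presh : RelSpec.IsQC (presh hL m) (str hL m) := by
  have hLq := QCoh.isQCoh_of_isFinLocFree (PullPush.isFinLocFree_of_isInvertible hL)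
  have hOq : Coh.IsQCoh (Coh.structureModule X) := QCoh.isQCoh_structureModule
  intro U hU r
  have hUc := hU.isCompact
  have hUq := hU.isQuasiSeparated
  let D := X.basicOpen r
  let ρ : Pair hL m U →+* Pair hL m D := res hL m (X.basicOpen_le r)
  let ρO := (X.presheaf.map (homOfLE (X.basicOpen_le r)).op).hom
  letI := ((presh hL m).map (homOfLE (X.basicOpen_le r)).op).hom.toAlgebra
  let sr : Pair hL m U := ((str hL m).app (op U)).hom r
  have hpow : ∀ k, sr ^ k = (show Pair hL m U from ((str hL m).app (op U)).hom (r ^ k)) := fun k =>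
    (map_pow ((str hL m).app (op U)).hom r k).symm
  have hρ : ∀ s, ρ (show Pair hL m U from ((str hL m).app (op U)).hom s) =
      (show Pair hL m D from ((str hL m).app (op D)).hom (ρO s)) := fun s => Pair.ext (hL := hL) (m := m) rfl
    (map_zero (L.presheaf.map (homOfLE (X.basicOpen_le r)).op).hom)
  refine (isLocalization_iff _ _).mpr ⟨fun ⟨_, k, rfl⟩ => ?_, fun z => ?_, fun {x y} hxy => ?_⟩
  · show IsUnit (ρ (sr ^ k))
    rw [hpow, hρ, map_pow ρO r k]
    exact ((RingedSpace.isUnit_res_basicOpen X.toRingedSpace r).pow k).map ((str hL m).app (op D)).hom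
  · let z' : Pair hL m D := z
    obtain ⟨k, t, ht⟩ := QCoh.exists_pow_smul_eq_map_of_isQuasiSeparated hOq hUc hUq r (show Γ(Coh.structureModule X, D) from z'.1)
    obtain ⟨k', t', ht'⟩ := QCoh.exists_pow_smul_eq_map_of_isQuasiSeparated hLq hUc hUq r z'.2
    let T : Pair hL m U := ((show Γ(X, U) from r ^ k') * (show Γ(X, U) from t), r ^ k • t')
    refine ⟨(T, ⟨sr ^ (k + k'), k + k', rfl⟩), ?_⟩
    show z' * ρ (sr ^ (k + k')) = ρ T
    rw [hpow, hρ, mul_comm, str_mul]
    refine Pair.ext (hL := hL) (m := m) ?_ ?_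
    · show ρO (r ^ (k + k')) * z'.1 = ρO ((show Γ(X, U) from r ^ k') * (show Γ(X, U) from t))
      have e : ρO (show Γ(X, U) from t) = ρO r ^ k * z'.1 := ht
      rw [map_mul, e, map_pow, map_pow, pow_add]
      ring
    · show ρO (r ^ (k + k')) • z'.2 = L.presheaf.map (homOfLE (X.basicOpen_le r)).op (r ^ k • t')
      rw [Scheme.Modules.map_smul, ht', ← mul_smul, ← map_pow, ← map_mul, ← pow_add]
  · let x' : Pair hL m U := x
    let y' : Pair hL m U := y
    have hxy' : ρ x' = ρ y' := hxy
    obtain ⟨k, hk⟩ := QCoh.exists_pow_smul_eq_zero_of_isCompact hOq hUc r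
      (show Γ(Coh.structureModule X, U) from x'.1 - y'.1) (by
        show ρO (x'.1 - y'.1) = 0
        rw [map_sub]; exact sub_eq_zero.mpr (congrArg Prod.fst hxy'))
    obtain ⟨k', hk'⟩ := QCoh.exists_pow_smul_eq_zero_of_isCompact hLq hUc r (x'.2 - y'.2) (by
        rw [map_sub]; exact sub_eq_zero.mpr (congrArg Prod.snd hxy'))
    refine ⟨⟨sr ^ (k + k'), k + k', rfl⟩, ?_⟩
    show sr ^ (k + k') * x' = sr ^ (k + k') * y'
    rw [hpow, str_mul, str_mul]
    have hk2 : r ^ k * (x'.1 - y'.1) = 0 := hk
    refine Pair.ext (hL := hL) (m := m) ?_ ?_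
    · show r ^ (k + k') * x'.1 = r ^ (k + k') * y'.1
      rw [← sub_eq_zero, ← mul_sub, pow_add, mul_right_comm, hk2, zero_mul]
    · show r ^ (k + k') • x'.2 = r ^ (k + k') • y'.2
      rw [← sub_eq_zero, ← smul_sub, pow_add, mul_smul, hk', smul_zero]

/-- The algebra. -/
noncomputable def dblAlg : RelSpec.QCAlg X where
  presheaf := presh hL m
  isSheaf := isSheaf_presh hL m
  str := str hL m
  isQC := isQC_presh hL m

/-- The inclusion of the module. -/
noncomputable def incl : L ⟶ (dblAlg hL m).toModule :=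
  ⟨letI := (dblAlg hL m).moduleSect
   PresheafOfModules.homMk
    { app := fun W => AddCommGrpCat.ofHom (AddMonoidHom.mk' (fun l => ((0, l) : Pair hL m W.unop))
        fun l l' => Pair.ext (hL := hL) (m := m) (add_zero (0 : Γ(X, W.unop))).symm rfl)
      naturality := fun W W' i => by
        ext l
        exact Pair.ext (hL := hL) (m := m) (map_zero (X.presheaf.map i).hom).symm rfl }
    fun W r l => by
      show (show Pair hL m W.unop from ((0 : Γ(X, W.unop)), (show Γ(X, W.unop) from r) • (show Γ(L, W.unop) from l))) =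
        (show Pair hL m W.unop from ((str hL m).app (op W.unop)).hom r) * (show Pair hL m W.unop from ((0 : Γ(X, W.unop)), (show Γ(L, W.unop) from l)))
      rw [str_mul]
      exact Pair.ext (hL := hL) (m := m) (mul_zero _).symm rfl⟩

include hL in
theorem exists_dblAlg : ∃ (A : RelSpec.QCAlg X) (j : L ⟶ A.toModule), FinCov.IsDblAlg L m A j := by
  refine ⟨dblAlg hL m, incl hL m, fun W => ?_, fun W l l' => ?_⟩
  · have e : ∀ p : Γ(X, W) × L.val.obj (op W),
        ((dblAlg hL m).str.app (op W)).hom p.1 + FinCov.toSec (dblAlg hL m) (((incl hL m).val.app (op W)).hom p.2) =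
          (show Pair hL m W from p) := fun p => Pair.ext (hL := hL) (m := m) (add_zero p.1) (zero_add p.2)
    exact ⟨fun a c h => (e a).symm.trans (h.trans (e c)), fun z => ⟨z, e z⟩⟩
  · show (show Pair hL m W from ((0 : Γ(X, W)), (show Γ(L, W) from l))) * (show Pair hL m W from ((0 : Γ(X, W)), (show Γ(L, W) from l'))) =
      ((b m W l l', 0) : Pair hL m W)
    refine Pair.ext (hL := hL) (m := m) ?_ ?_
    · show (0 : Γ(X, W)) * 0 + b m W l l' = b m W l l'
      rw [mul_zero, zero_add]
    · show (0 : Γ(X, W)) • (show Γ(L, W) from l') + (0 : Γ(X, W)) • (show Γ(L, W) from l) = 0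
      rw [zero_smul, zero_smul, add_zero]

end Groth.Agent.H23.DblBuild
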