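import Groth.Agent.H23.DblOfTrace
import Groth.Agent.H23.CoverPush
import Groth.Agent.RelSpecX.AffHom
import Groth.Prelude.Def_SGA1

/-!
The involution of a double cover.
-/

set_option autoImplicit false

universe u

open CategoryTheory CategoryTheory.Limits AlgebraicGeometry TopologicalSpace Opposite

namespace Groth.Agent.H23.DblInvol

open FinTrace

/-- The identity behind multiplicativity of `tr - id`. -/
theorem trace_mul_two {R S : Type*} [CommRing R] [CommRing S] [Algebra R S] (b : Module.Basis (Fin 2) R S)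
    (h2 : IsUnit (2 : R)) (x y : S) :
    algebraMap R S (Algebra.trace R S (x * y)) =
      algebraMap R S (Algebra.trace R S x * Algebra.trace R S y) - algebraMap R S (Algebra.trace R S x) * y -
        algebraMap R S (Algebra.trace R S y) * x + 2 * (x * y) := by
  obtain ⟨v, hv⟩ := h2
  have hv' : (↑v⁻¹ : R) * 2 = 1 := by rw [← hv, Units.inv_mul]
  have htr : ∀ r : R, Algebra.trace R S (algebraMap R S r) = 2 * r := fun r => by
    rw [Algebra.trace_algebraMap_of_basis b r, Fintype.card_fin, two_nsmul, two_mul]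
  have hm : ∀ (r : R) (z : S), Algebra.trace R S (algebraMap R S r * z) = r * Algebra.trace R S z := fun r z => by
    rw [← Algebra.smul_def, map_smul, smul_eq_mul]
  obtain ⟨a, ha⟩ : ∃ a, a = (↑v⁻¹ : R) * Algebra.trace R S x := ⟨_, rfl⟩
  obtain ⟨c, hc⟩ : ∃ c, c = (↑v⁻¹ : R) * Algebra.trace R S y := ⟨_, rfl⟩
  have hax : Algebra.trace R S x = 2 * a := by rw [ha, ← mul_assoc, mul_comm (2 : R), hv', one_mul]
  have hcy : Algebra.trace R S y = 2 * c := by rw [hc, ← mul_assoc, mul_comm (2 : R), hv', one_mul]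
  have hx0 : Algebra.trace R S (x - algebraMap R S a) = 0 := by rw [map_sub, htr, hax, sub_self]
  have hy0 : Algebra.trace R S (y - algebraMap R S c) = 0 := by rw [map_sub, htr, hcy, sub_self]
  obtain ⟨p, hp⟩ := DblOfTrace.exists_sq_eq b _ hx0
  obtain ⟨q, hq⟩ := DblOfTrace.exists_sq_eq b _ hy0
  obtain ⟨t, ht⟩ := DblOfTrace.exists_sq_eq b ((x - algebraMap R S a) + (y - algebraMap R S c)) (by rw [map_add, hx0, hy0, add_zero])
  have h1 : algebraMap R S ↑v⁻¹ * 2 = 1 := by
    rw [← map_ofNat (algebraMap R S) 2, ← map_mul, hv', map_one]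
  obtain ⟨r, hr⟩ : ∃ r, r = (↑v⁻¹ : R) * (t - p - q) := ⟨_, rfl⟩
  have hxy : (x - algebraMap R S a) * (y - algebraMap R S c) = algebraMap R S r := by
    rw [hr, map_mul, map_sub, map_sub, ← hp, ← hq, ← ht]
    linear_combination (-((x - algebraMap R S a) * (y - algebraMap R S c))) * h1
  have hsplit : x * y = algebraMap R S a * y + algebraMap R S c * x - algebraMap R S (a * c) + algebraMap R S r := by
    rw [← hxy, map_mul]; ring
  have htxy : Algebra.trace R S (x * y) = 2 * (a * c) + 2 * r := by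
    rw [hsplit, map_add, map_sub, map_add, hm, hm, htr, htr, hax, hcy]; ring
  rw [htxy, hax, hcy, hsplit]
  simp only [map_add, map_mul, map_ofNat]
  ring

variable {X : Scheme.{u}} {A : RelSpec.QCAlg X}

/-- `tr - id`. -/
noncomputable def sigmaFun (hA : FlatMod.IsFinLocFree A.toModule) (W : X.Opens) (a : A.presheaf.obj (op W)) :
    A.presheaf.obj (op W) :=
  (A.str.app (op W)).hom (trGlue hA W a) - a

theorem sigmaFun_res (hA : FlatMod.IsFinLocFree A.toModule) {W' W : X.Opens} (h : W' ≤ W)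
    (a : A.presheaf.obj (op W)) :
    A.presheaf.map (homOfLE h).op (sigmaFun hA W a) = sigmaFun hA W' (A.presheaf.map (homOfLE h).op a) := by
  rw [sigmaFun, sigmaFun, map_sub, str_res, trGlue_res]

theorem trGlue_str (hA : FlatMod.IsFinLocFreeOfRank 2 A.toModule) (W : X.Opens) (r : Γ(X, W)) :
    trGlue (DblAlg.isFinLocFree_of_rank hA) W ((A.str.app (op W)).hom r) = 2 * r := by
  have hA' := DblAlg.isFinLocFree_of_rank hA
  choose U hU e using id hA
  choose s hs using fun x => Frame.exists_frame (e x).some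
  refine X.sheaf.eq_of_locally_eq' (fun x : X => U x ⊓ W) W (fun x => homOfLE inf_le_right)
    (fun x hx => Opens.mem_iSup.mpr ⟨x, hU x, hx⟩) _ _ fun x => ?_
  show X.presheaf.map (homOfLE inf_le_right).op _ = X.presheaf.map (homOfLE inf_le_right).op _
  rw [← trGlue_res, str_res, DblAlg.trGlue_small hA' ⟨2, U x, s x, hs x, inf_le_left⟩,
    trW_algebraMap A (hs x) inf_le_left, map_mul, map_ofNat, two_nsmul, two_mul]

theorem sigmaFun_mul (hA : FlatMod.IsFinLocFreeOfRank 2 A.toModule) (h2 : IsUnit (2 : Γ(X, ⊤))) (W : X.Opens)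
    (a b : A.presheaf.obj (op W)) :
    sigmaFun (DblAlg.isFinLocFree_of_rank hA) W (a * b) =
      sigmaFun (DblAlg.isFinLocFree_of_rank hA) W a * sigmaFun (DblAlg.isFinLocFree_of_rank hA) W b := by
  have hA' := DblAlg.isFinLocFree_of_rank hA
  choose U hU e using id hA
  choose s hs using fun x => Frame.exists_frame (e x).some
  refine TopCat.Sheaf.eq_of_locally_eq' (⟨A.presheaf, A.isSheaf⟩ : TopCat.Sheaf CommRingCat.{u} X.carrier)
    (fun x : X => U x ⊓ W) W (fun x => homOfLE inf_le_right)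
    (fun x hx => Opens.mem_iSup.mpr ⟨x, hU x, hx⟩) _ _ fun x => ?_
  show A.presheaf.map (homOfLE inf_le_right).op _ = A.presheaf.map (homOfLE inf_le_right).op _
  rw [map_mul, sigmaFun_res, sigmaFun_res, sigmaFun_res, map_mul]
  have hsm : Small A (U x ⊓ W) := ⟨2, U x, s x, hs x, inf_le_left⟩
  simp only [sigmaFun, DblAlg.trGlue_small hA' hsm]
  letI := alg A (U x ⊓ W)
  have h2' : IsUnit (2 : Γ(X, U x ⊓ W)) := by
    simpa only [map_ofNat] using h2.map (X.presheaf.map (homOfLE (le_top : U x ⊓ W ≤ ⊤)).op).hom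
  have key := trace_mul_two (basisA A (hs x) (U x ⊓ W) inf_le_left) h2'
    (A.presheaf.map (homOfLE (inf_le_right : U x ⊓ W ≤ W)).op a) (A.presheaf.map (homOfLE (inf_le_right : U x ⊓ W ≤ W)).op b)
  rw [map_mul (algebraMap _ _)] at key
  show algebraMap Γ(X, U x ⊓ W) _ (Algebra.trace _ _ _) - _ =
    (algebraMap Γ(X, U x ⊓ W) _ (Algebra.trace _ _ _) - _) * (algebraMap Γ(X, U x ⊓ W) _ (Algebra.trace _ _ _) - _)
  linear_combination key

theorem sigmaFun_str (hA : FlatMod.IsFinLocFreeOfRank 2 A.toModule) (W : X.Opens) (r : Γ(X, W)) :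
    sigmaFun (DblAlg.isFinLocFree_of_rank hA) W ((A.str.app (op W)).hom r) = (A.str.app (op W)).hom r := by
  rw [sigmaFun, trGlue_str hA W r, map_mul, map_ofNat, two_mul, add_sub_cancel_right]

theorem sigmaFun_add (hA : FlatMod.IsFinLocFree A.toModule) (W : X.Opens) (a b : A.presheaf.obj (op W)) :
    sigmaFun hA W (a + b) = sigmaFun hA W a + sigmaFun hA W b := by
  rw [sigmaFun, sigmaFun, sigmaFun, trGlue_add, map_add]; abel

/-- The involution as a map of presheaves of rings. -/
noncomputable def sigma (hA : FlatMod.IsFinLocFreeOfRank 2 A.toModule) (h2 : IsUnit (2 : Γ(X, ⊤))) :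
    A.presheaf ⟶ A.presheaf where
  app W := CommRingCat.ofHom (RingHom.mk'
    { toFun := sigmaFun (DblAlg.isFinLocFree_of_rank hA) W.unop
      map_one' := by
        have := sigmaFun_str hA W.unop 1
        rwa [map_one] at this
      map_mul' := sigmaFun_mul hA h2 W.unop } (sigmaFun_add _ W.unop))
  naturality W W' i := by
    ext a
    exact (sigmaFun_res (DblAlg.isFinLocFree_of_rank hA) i.unop.le a).symm

theorem sigma_app (hA : FlatMod.IsFinLocFreeOfRank 2 A.toModule) (h2 : IsUnit (2 : Γ(X, ⊤))) (W : X.Opens)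
    (a : A.presheaf.obj (op W)) :
    (sigma hA h2).app (op W) a = sigmaFun (DblAlg.isFinLocFree_of_rank hA) W a := rfl

theorem sigmaFun_sigmaFun (hA : FlatMod.IsFinLocFreeOfRank 2 A.toModule) (W : X.Opens) (a : A.presheaf.obj (op W)) :
    sigmaFun (DblAlg.isFinLocFree_of_rank hA) W (sigmaFun (DblAlg.isFinLocFree_of_rank hA) W a) = a := by
  have hA' := DblAlg.isFinLocFree_of_rank hA
  have h := trGlue_str hA W (trGlue hA' W a)
  have e : trGlue hA' W (sigmaFun hA' W a) = trGlue hA' W a := by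
    have hs := trGlue_add hA' W (sigmaFun hA' W a) a
    rw [sigmaFun, sub_add_cancel, h] at hs
    rw [sigmaFun]
    linear_combination -hs
  rw [sigmaFun, e, sigmaFun, sub_sub_cancel]

theorem str_injective (hA : FlatMod.IsFinLocFreeOfRank 2 A.toModule) (h2 : IsUnit (2 : Γ(X, ⊤))) (W : X.Opens) :
    Function.Injective (A.str.app (op W)).hom := by
  rw [injective_iff_map_eq_zero]
  intro r hr
  have h := trGlue_str hA W r
  rw [hr] at h
  have h0 : trGlue (DblAlg.isFinLocFree_of_rank hA) W 0 = 0 := by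
    have := trGlue_add (DblAlg.isFinLocFree_of_rank hA) W 0 0
    rw [add_zero] at this
    linear_combination -this
  rw [h0] at h
  have h2' : IsUnit (2 : Γ(X, W)) := by
    simpa only [map_ofNat] using h2.map (X.presheaf.map (homOfLE (le_top : W ≤ ⊤)).op).hom
  exact (h2'.mul_right_eq_zero).1 h.symm

theorem fixed_iff (hA : FlatMod.IsFinLocFreeOfRank 2 A.toModule) (h2 : IsUnit (2 : Γ(X, ⊤))) (W : X.Opens)
    (a : A.presheaf.obj (op W)) :
    a ∈ Set.range (A.str.app (op W)).hom ↔ sigmaFun (DblAlg.isFinLocFree_of_rank hA) W a = a := by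
  refine ⟨?_, fun h => ?_⟩
  · rintro ⟨r, rfl⟩
    exact sigmaFun_str hA W r
  · have h2' : IsUnit (2 : Γ(X, W)) := by
      simpa only [map_ofNat] using h2.map (X.presheaf.map (homOfLE (le_top : W ≤ ⊤)).op).hom
    obtain ⟨v, hv⟩ := h2'
    refine ⟨↑v⁻¹ * trGlue (DblAlg.isFinLocFree_of_rank hA) W a, ?_⟩
    rw [sigmaFun, sub_eq_iff_eq_add] at h
    rw [map_mul, h, ← two_mul, ← mul_assoc, ← map_ofNat (A.str.app (op W)).hom 2, ← map_mul, ← hv, Units.inv_mul,
      map_one, one_mul]

theorem result {X Y : Scheme.{u}} (f : X ⟶ Y)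
    [IsFinite f] [Flat f] [LocallyOfFinitePresentation f] (hrk : ∀ y : Y, f.finrank y = 2)
    (h2 : IsUnit (2 : Γ(Y, ⊤))) :
    ∃ σ : Aut X, σ.hom ≫ f = f ∧ σ * σ = 1 ∧ SGA1.IsQuot (Subgroup.zpowers σ).subtype f := by
  have hc : FinCov.IsCover f 2 := ⟨⟨inferInstance, inferInstance, inferInstance⟩, hrk⟩
  let A := RelSpec.QCAlg.directImage f
  have hA : FlatMod.IsFinLocFreeOfRank 2 A.toModule := CoverPush.isFinLocFreeOfRank_push_of_isCover f hc
  let ω : AffAlg.algHoms f f := ⟨sigma hA h2, by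
    ext W r
    exact sigmaFun_str hA W r⟩
  let s := RelSpecX.ofAlgHom f f ω
  have hs : s ≫ f = f := RelSpecX.ofAlgHom_comp f f ω
  have hss : s ≫ s = 𝟙 X := by
    refine RelSpecX.algHom_injective f f (by rw [Category.assoc, hs, hs]) (Category.id_comp f) fun U => ?_
    rw [RelSpecX.algHom_comp f f f s hs s hs, RelSpecX.algHom_id, RelSpecX.algHom_ofAlgHom]
    ext a
    exact sigmaFun_sigmaFun hA U.1 a
  let σ : Aut X := ⟨s, s, hss, hss⟩
  have hσ : σ * σ = 1 := Iso.ext hss
  have hcases : ∀ g : Subgroup.zpowers σ, (g : Aut X) = 1 ∨ (g : Aut X) = σ := by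
    rintro ⟨g, n, rfl⟩
    obtain ⟨m, rfl⟩ | ⟨m, rfl⟩ := Int.even_or_odd n
    · exact Or.inl (by show σ ^ (m + m) = 1; rw [← two_mul, zpow_mul, zpow_two, hσ, one_zpow])
    · exact Or.inr (by show σ ^ (2 * m + 1) = σ; rw [zpow_add, zpow_one, zpow_mul, zpow_two, hσ, one_zpow, one_mul])
  have hinv : ∀ g : Subgroup.zpowers σ, ((Subgroup.zpowers σ).subtype g).hom ≫ f = f := fun g => by
    rcases hcases g with h | h <;> rw [Subgroup.subtype_apply, h]
    · exact Category.id_comp f
    · exact hs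
  refine ⟨σ, hs, hσ, ⟨inferInstance, hinv, fun U => str_injective hA h2 U, fun U a => ?_⟩⟩
  show a ∈ Set.range (A.str.app (op U)).hom ↔ _
  refine (fixed_iff hA h2 U a).trans ?_
  have key : ∀ e, (s.appLE (f ⁻¹ᵁ U) (f ⁻¹ᵁ U) e).hom a = sigmaFun (DblAlg.isFinLocFree_of_rank hA) U a := fun e => by
    have := RelSpecX.algHom_app f f s hs U
    rw [RelSpecX.algHom_ofAlgHom] at this
    rw [← this]; rfl
  constructor
  · intro h g
    rcases hcases g with hg | hg <;> simp only [Subgroup.subtype_apply, hg]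
    · show ((𝟙 X : X ⟶ X).appLE _ _ _).hom a = a
      have := RelSpecX.algHom_app f f (𝟙 X) (Category.id_comp f) U
      rw [RelSpecX.algHom_id] at this
      rw [← this]; rfl
    · exact (key _).trans h
  · intro h
    have := h ⟨σ, Subgroup.mem_zpowers σ⟩
    exact (key _).symm.trans this

end Groth.Agent.H23.DblInvol
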