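import Groth.Agent.H23.TraceSplit
import Groth.Agent.H23.TensorDesc

/-!
A rank two algebra is attached to the kernel of its trace.
-/

universe u

open CategoryTheory CategoryTheory.Limits AlgebraicGeometry TopologicalSpace Opposite

namespace Groth.Agent.H23.DblOfTrace

open FinTrace

theorem exists_sq_eq {R S : Type*} [CommRing R] [CommRing S] [Algebra R S] (b : Module.Basis (Fin 2) R S) (x : S)
    (hx : Algebra.trace R S x = 0) : ∃ r, x * x = algebraMap R S r := by
  rw [Algebra.trace_eq_matrix_trace b, Matrix.trace_fin_two] at hx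
  let M := Algebra.leftMulMatrix b x
  refine ⟨-M.det, Algebra.leftMulMatrix_injective b ?_⟩
  rw [map_mul, AlgHom.commutes]
  ext i j
  fin_cases i <;> fin_cases j <;>
    simp [Matrix.mul_apply, Fin.sum_univ_two, Matrix.det_fin_two, Matrix.algebraMap_matrix_apply, M]
  · linear_combination (Algebra.leftMulMatrix b x 0 0) * hx
  · linear_combination (Algebra.leftMulMatrix b x 0 1) * hx
  · linear_combination (Algebra.leftMulMatrix b x 1 0) * hx
  · linear_combination (Algebra.leftMulMatrix b x 1 1) * hx

variable {X : Scheme.{u}} {A : RelSpec.QCAlg X}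

theorem exists_mul_eq_small {U : X.Opens} {s : Fin 2 → A.presheaf.obj (op U)} (hs : IsFrameA A s) {V : X.Opens}
    (hV : V ≤ U) (h2 : IsUnit (2 : Γ(X, V))) (x y : A.presheaf.obj (op V)) (hx : trW A V x = 0) (hy : trW A V y = 0) :
    ∃ r, x * y = (A.str.app (op V)).hom r := by
  letI := alg A V
  let b := basisA A hs V hV
  obtain ⟨p, hp⟩ := exists_sq_eq b x hx
  obtain ⟨q, hq⟩ := exists_sq_eq b y hy
  obtain ⟨t, ht⟩ := exists_sq_eq b (x + y) (by
    show trW A V (x + y) = 0
    rw [trW_add, hx, hy, add_zero])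
  obtain ⟨v, hv⟩ := h2
  refine ⟨↑v⁻¹ * (t - p - q), ?_⟩
  show _ = algebraMap Γ(X, V) _ _
  rw [map_mul, map_sub, map_sub, ← hp, ← hq, ← ht]
  have h1 : algebraMap Γ(X, V) (A.presheaf.obj (op V)) ↑v⁻¹ * 2 = 1 := by
    rw [← map_ofNat (algebraMap Γ(X, V) (A.presheaf.obj (op V))) 2, ← map_mul, ← hv, Units.inv_mul, map_one]
  linear_combination (-(x * y)) * h1

theorem exists_dblAlg (hA : FlatMod.IsFinLocFreeOfRank 2 A.toModule)
    (τ : A.toModule ⟶ Coh.structureModule X) (hτ : FinCov.IsTrace A τ) (h2 : IsUnit (2 : Γ(X, ⊤))) :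
    ∃ m : CohB1.tensorMod (kernel τ) (kernel τ) ⟶ Coh.structureModule X,
      FinCov.IsDblAlg (kernel τ) m A (kernel.ι τ) := by
  classical
  have hA' := DblAlg.isFinLocFree_of_rank hA
  obtain ⟨σ, hσ, -⟩ := TraceSplit.exists_section hA hτ (show IsUnit ((2 : ℕ) : Γ(X, ⊤)) by rwa [Nat.cast_ofNat])
  obtain rfl : τ = trHom hA' := isTrace_app hτ hA'
  have h2W : ∀ W : X.Opens, IsUnit (2 : Γ(X, W)) := fun W => by
    have := h2.map (X.presheaf.map (homOfLE (le_top : W ≤ ⊤)).op).hom
    rwa [map_ofNat] at this
  choose half hhalf using fun W => (h2W W).exists_left_inv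
  have half_res : ∀ {W' W : X.Opens} (h : W' ≤ W), X.presheaf.map (homOfLE h).op (half W) = half W' := by
    intro W' W h
    have e : X.presheaf.map (homOfLE h).op (half W) * 2 = 1 := by
      rw [← map_ofNat (X.presheaf.map (homOfLE h).op).hom 2, ← map_mul, hhalf, map_one]
    exact (h2W W').mul_left_injective (e.trans (hhalf W').symm)
  choose U hU e using hA
  choose s hs using fun x => Frame.exists_frame (e x).some
  have hsmall : ∀ (W : X.Opens) x, Small A (U x ⊓ W) := fun W x => ⟨2, U x, s x, hs x, inf_le_left⟩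
  have htrs : ∀ (W : X.Opens) (r : Γ(X, W)), trGlue hA' W ((A.str.app (op W)).hom r) = 2 * r := fun W r => by
    refine X.sheaf.eq_of_locally_eq' (fun x : X => U x ⊓ W) W (fun x => homOfLE inf_le_right)
      (fun x hx => Opens.mem_iSup.mpr ⟨x, hU x, hx⟩) _ _ fun x => ?_
    show X.presheaf.map (homOfLE inf_le_right).op _ = X.presheaf.map (homOfLE inf_le_right).op _
    rw [← trGlue_res, str_res, DblAlg.trGlue_small hA' (hsmall W x), map_mul, map_ofNat,
      trW_algebraMap A (hs x) inf_le_left, nsmul_eq_mul, Nat.cast_ofNat]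
  let J (W : X.Opens) (l : Γ(kernel (trHom hA'), W)) : A.presheaf.obj (op W) := DblAlg.jS (kernel.ι (trHom hA')) W l
  have hJ0 : ∀ W (l : Γ(kernel (trHom hA'), W)), trGlue hA' W (J W l) = 0 := fun W l => by
    have h : (trHom hA').app W ((kernel.ι (trHom hA')).app W l) = 0 := congr($(congrArg (fun φ => Scheme.Modules.Hom.app φ W) (kernel.condition (trHom hA'))) l)
    exact h
  have hmul : ∀ W (l l' : Γ(kernel (trHom hA'), W)),
      J W l * J W l' = (A.str.app (op W)).hom (half W * trGlue hA' W (J W l * J W l')) := fun W l l' => by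
    refine TopCat.Sheaf.eq_of_locally_eq' (⟨A.presheaf, A.isSheaf⟩ : TopCat.Sheaf CommRingCat.{u} X)
      (fun x : X => U x ⊓ W) W (fun x => homOfLE inf_le_right)
      (fun x hx => Opens.mem_iSup.mpr ⟨x, hU x, hx⟩) _ _ fun x => ?_
    show A.presheaf.map (homOfLE inf_le_right).op _ = A.presheaf.map (homOfLE inf_le_right).op _
    have hz : ∀ l : Γ(kernel (trHom hA'), W), trW A (U x ⊓ W) (A.presheaf.map (homOfLE inf_le_right).op (J W l)) = 0 :=
      fun l => by rw [← DblAlg.trGlue_small hA' (hsmall W x), trGlue_res, hJ0, map_zero]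
    obtain ⟨r, hr⟩ := exists_mul_eq_small (hs x) inf_le_left (h2W _) _ _ (hz l) (hz l')
    have e1 : X.presheaf.map (homOfLE (inf_le_right : U x ⊓ W ≤ W)).op (half W * trGlue hA' W (J W l * J W l')) =
        half (U x ⊓ W) * trGlue hA' (U x ⊓ W) (A.presheaf.map (homOfLE inf_le_right).op (J W l * J W l')) := by
      rw [map_mul, half_res, trGlue_res]
    rw [str_res, e1, map_mul (A.presheaf.map (homOfLE (inf_le_right : U x ⊓ W ≤ W)).op).hom, hr, htrs, ← mul_assoc,
      hhalf, one_mul]
  let β : TensorDesc.Bilin (kernel (trHom hA')) (kernel (trHom hA')) (Coh.structureModule X) :=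
    { b := fun W l l' => show Γ(X, W) from half W * trGlue hA' W (J W l * J W l')
      add_left := fun W l l' k => by
        show half W * trGlue hA' W (J W (l + l') * J W k) = half W * _ + half W * _
        rw [show J W (l + l') = J W l + J W l' from map_add ((kernel.ι (trHom hA')).app W).hom l l', add_mul, trGlue_add, mul_add]
      smul_left := fun W r l k => by
        show half W * trGlue hA' W (J W (r • l) * J W k) = r * (half W * _)
        rw [show J W (r • l) = (A.str.app (op W)).hom r * J W l from DblAlg.jS_smul W r l, mul_assoc, trGlue_str_mul,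
          mul_left_comm]
      add_right := fun W k l l' => by
        show half W * trGlue hA' W (J W k * J W (l + l')) = half W * _ + half W * _
        rw [show J W (l + l') = J W l + J W l' from map_add ((kernel.ι (trHom hA')).app W).hom l l', mul_add, trGlue_add, mul_add]
      smul_right := fun W r k l => by
        show half W * trGlue hA' W (J W k * J W (r • l)) = r * (half W * _)
        rw [show J W (r • l) = (A.str.app (op W)).hom r * J W l from DblAlg.jS_smul W r l, mul_left_comm (J W k),
          trGlue_str_mul, mul_left_comm]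
      res := fun {W W'} h l k => by
        show X.presheaf.map (homOfLE h).op (half W * _) = _
        rw [map_mul, half_res, ← trGlue_res, map_mul, DblAlg.jS_res, DblAlg.jS_res] }
  refine ⟨TensorDesc.desc β, fun W => ⟨?_, ?_⟩, fun W l l' => ?_⟩
  · rintro ⟨r, l⟩ ⟨r', l'⟩ h
    change (A.str.app (op W)).hom r + J W l = (A.str.app (op W)).hom r' + J W l' at h
    have hr := congrArg (trGlue hA' W) h
    rw [trGlue_add, trGlue_add, hJ0, hJ0, htrs, htrs, add_zero, add_zero] at hr
    have hr' := (h2W W).mul_right_injective hr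
    subst hr'
    exact Prod.ext rfl (TraceSplit.kernel_ι_injective (trHom hA') W (add_left_cancel (G := A.presheaf.obj (op W)) h))
  · intro a
    let r : Γ(X, W) := half W * trGlue hA' W a
    have h0 : trGlue hA' W (a - (A.str.app (op W)).hom r) = 0 := by
      have h := trGlue_add hA' W (a - (A.str.app (op W)).hom r) ((A.str.app (op W)).hom r)
      rw [sub_add_cancel, htrs] at h
      have e : 2 * r = trGlue hA' W a := by rw [← mul_assoc, mul_comm 2, hhalf, one_mul]
      rw [e] at h
      exact add_eq_right.mp h.symm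
    obtain ⟨l, hl⟩ := TraceSplit.exists_eq_kernel_ι (trHom hA') σ hσ W (a - (A.str.app (op W)).hom r) h0
    refine ⟨(r, l), ?_⟩
    show (A.str.app (op W)).hom r + J W l = a
    rw [show J W l = a - (A.str.app (op W)).hom r from hl, add_sub_cancel]
  · rw [TensorDesc.desc_tmul]
    exact hmul W l l'

end Groth.Agent.H23.DblOfTrace
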