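import Mathlib.RingTheory.Flat.Basic
import Mathlib.RingTheory.Flat.Localization
import Mathlib.Algebra.MvPolynomial.Eval
import Mathlib.RingTheory.Ideal.Quotient.Operations
import Mathlib.RingTheory.Localization.AtPrime.Basic

/-! The equation of the deformation to the normal bundle of a divisor. -/

set_option autoImplicit false

universe u

open MvPolynomial

namespace Groth.Agent.H23.DefAlg

variable {A : Type u} [CommRing A] (a : A)

/-- The equation `t x + a`. -/
noncomputable def eqn : MvPolynomial (Fin 2) A := X 0 * X 1 + C a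

/-- The monomial with exponents `(i, j)`. -/
noncomputable def mon (i j : ℕ) : Fin 2 →₀ ℕ := Finsupp.single 0 i + Finsupp.single 1 j

theorem mon_apply_zero (i j : ℕ) : mon i j 0 = i := by simp [mon]

theorem mon_apply_one (i j : ℕ) : mon i j 1 = j := by simp [mon]

theorem X_mul_X : (X 0 * X 1 : MvPolynomial (Fin 2) A) = monomial (mon 1 1) 1 := by
  rw [X, X, monomial_mul, one_mul]
  rfl

/-- The normal form of a monomial. -/
noncomputable def nfMon (m : Fin 2 →₀ ℕ) : ℤ →₀ A :=
  Finsupp.single ((m 0 : ℤ) - (m 1 : ℤ)) ((-a) ^ min (m 0) (m 1))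

/-- The normal form. -/
noncomputable def nf : MvPolynomial (Fin 2) A →ₗ[A] (ℤ →₀ A) :=
  (MvPolynomial.basisMonomials (Fin 2) A).constr A (nfMon a)

theorem nf_monomial (m : Fin 2 →₀ ℕ) (c : A) : nf a (monomial m c) = c • nfMon a m := by
  rw [show (monomial m c : MvPolynomial (Fin 2) A) = c • monomial m 1 by rw [smul_monomial, smul_eq_mul, mul_one],
    map_smul, show (monomial m (1 : A) : MvPolynomial (Fin 2) A) = basisMonomials (Fin 2) A m from rfl, nf,
    Module.Basis.constr_basis]

theorem nf_mul_eqn (g : MvPolynomial (Fin 2) A) : nf a (g * eqn a) = 0 := by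
  induction g using MvPolynomial.induction_on' with
  | monomial m c =>
    rw [eqn, mul_add, X_mul_X, monomial_mul, mul_one, mul_comm (monomial m c), C_mul_monomial, map_add, nf_monomial,
      nf_monomial, nfMon, nfMon, Finsupp.add_apply, Finsupp.add_apply, mon_apply_zero, mon_apply_one,
      Finsupp.smul_single, Finsupp.smul_single,
      show ((m 0 + 1 : ℕ) : ℤ) - ((m 1 + 1 : ℕ) : ℤ) = (m 0 : ℤ) - (m 1 : ℤ) by push_cast; ring,
      ← Finsupp.single_add, Nat.add_min_add_right, pow_succ]
    simp only [smul_eq_mul]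
    rw [show c * ((-a) ^ min (m 0) (m 1) * -a) + a * c * (-a) ^ min (m 0) (m 1) = 0 by ring, Finsupp.single_zero]
  | add p q hp hq => rw [add_mul, map_add, hp, hq, add_zero]

/-- The monomial of a normal form. -/
noncomputable def sect : (ℤ →₀ A) →ₗ[A] MvPolynomial (Fin 2) A :=
  Finsupp.linearCombination A fun n : ℤ => monomial (mon n.toNat (-n).toNat) (1 : A)

theorem nf_sect (x : ℤ →₀ A) : nf a (sect x) = x := by
  induction x using Finsupp.induction_linear with
  | zero => simp
  | add p q hp hq => rw [map_add, map_add, hp, hq]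
  | single n c =>
    rw [sect, Finsupp.linearCombination_single, map_smul, nf_monomial, one_smul, nfMon, mon_apply_zero, mon_apply_one,
      show min n.toNat (-n).toNat = 0 by omega, pow_zero, Finsupp.smul_single, smul_eq_mul, mul_one,
      show (n.toNat : ℤ) - ((-n).toNat : ℤ) = n by omega]

theorem sub_sect_nf_mem (g : MvPolynomial (Fin 2) A) : g - sect (nf a g) ∈ Ideal.span {eqn a} := by
  induction g using MvPolynomial.induction_on' with
  | monomial m c =>
    let k := min (m 0) (m 1)
    let n : ℤ := (m 0 : ℤ) - (m 1 : ℤ)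
    have hm : (monomial m c : MvPolynomial (Fin 2) A) = monomial (mon n.toNat (-n).toNat) c * (X 0 * X 1) ^ k := by
      rw [X_mul_X, monomial_pow, one_pow, monomial_mul, mul_one]
      refine congrArg (fun e => monomial e c) (Finsupp.ext fun l => ?_)
      fin_cases l <;> simp [mon, n, k] <;> omega
    rw [nf_monomial, map_smul, nfMon, sect, Finsupp.linearCombination_single, smul_smul, smul_monomial, smul_eq_mul,
      mul_one, show ((monomial (mon n.toNat (-n).toNat)) (c * (-a) ^ k) : MvPolynomial (Fin 2) A) =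
        monomial (mon n.toNat (-n).toNat) c * (C (-a)) ^ k by rw [← C_pow, mul_comm _ (C _), C_mul_monomial, mul_comm],
      hm, ← mul_sub]
    refine Ideal.mul_mem_left _ _ (Ideal.mem_span_singleton.2 (dvd_trans ?_ (sub_dvd_pow_sub_pow _ _ _)))
    rw [eqn, map_neg, sub_neg_eq_add]
  | add p q hp hq =>
    rw [map_add, map_add, add_sub_add_comm]
    exact Ideal.add_mem _ hp hq

theorem flat_quotient_eqn : Module.Flat A (MvPolynomial (Fin 2) A ⧸ Ideal.span {eqn a}) := by
  have hle : (Ideal.span {eqn a}).restrictScalars A ≤ LinearMap.ker (nf a) := fun g hg => by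
    obtain ⟨q, rfl⟩ := Ideal.mem_span_singleton'.1 hg
    exact nf_mul_eqn a q
  let F := ((Ideal.span {eqn a}).restrictScalars A).liftQ (nf a) hle
  let e : ((MvPolynomial (Fin 2) A) ⧸ (Ideal.span {eqn a}).restrictScalars A) ≃ₗ[A] (ℤ →₀ A) :=
    LinearEquiv.ofLinearMap F ((Submodule.mkQ _).comp sect) (LinearMap.ext fun x => nf_sect a x)
      (Submodule.linearMap_qext _ (LinearMap.ext fun g =>
        ((Submodule.Quotient.eq _).2 (sub_sect_nf_mem a g)).symm))
  exact Module.Flat.of_linearEquiv ((Submodule.Quotient.restrictScalarsEquiv A (Ideal.span {eqn a})).symm.trans e)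

theorem eqn_regular {g : MvPolynomial (Fin 2) A} (h : g * eqn a = 0) : g = 0 := by
  classical
  by_contra hg
  obtain ⟨m, hm, hmax⟩ := g.support.exists_max_image (fun m : Fin 2 →₀ ℕ => m 0) (support_nonempty.2 hg)
  have h0 := congrArg (coeff (m + mon 1 1)) h
  rw [coeff_zero, eqn, mul_add, coeff_add, X_mul_X, coeff_mul_monomial, mul_one, mul_comm g (C a), coeff_C_mul] at h0
  have h1 : coeff (m + mon 1 1) g = 0 := by
    by_contra hne
    have := hmax _ (mem_support_iff.2 hne)
    simp [mon_apply_zero] at this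
  rw [h1, mul_zero, add_zero] at h0
  exact mem_support_iff.1 hm h0

theorem eqn_ne_zero [Nontrivial A] : eqn a ≠ 0 := fun h =>
  one_ne_zero (eqn_regular a (g := 1) (by rw [h, mul_zero]))

theorem X_regular {σ : Type} {i : σ} {g : MvPolynomial σ A} (h : g * X i = 0) : g = 0 := by
  ext m
  have h0 := congrArg (coeff (m + Finsupp.single i 1)) h
  rwa [coeff_zero, coeff_mul_X] at h0

end Groth.Agent.H23.DefAlg
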