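import Groth.Agent.H23.DefKey

/-! Base change of the deformation space. -/

set_option autoImplicit false
set_option linter.style.haveILetI false
set_option backward.isDefEq.respectTransparency false
set_option backward.isDefEq.respectTransparency.types false

universe u

open CategoryTheory CategoryTheory.Limits AlgebraicGeometry TopologicalSpace Opposite

noncomputable section

namespace Groth.Agent.H23.DefBundle.Data

open Groth.Agent

variable {W D D₁ W₁ : Scheme.{u}} {i : D ⟶ W} [IsClosedImmersion i] (S : Data i) {g : W₁ ⟶ W} {q : D₁ ⟶ D}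
  {i₁ : D₁ ⟶ W₁} (sq : IsPullback q i₁ i g)

/-- The comparison of the bundles of a base change. -/
def bcN {L : W.Modules} (eN : (Scheme.Modules.pullback S.ρ).obj L ≅ S.N) :
    (Scheme.Modules.pullback (S.bc sq).ρ).obj ((Scheme.Modules.pullback g).obj L) ≅ (S.bc sq).N :=
  (Scheme.Modules.pullbackComp (pullback.snd S.ρ g) g).app L ≪≫
    (Scheme.Modules.pullbackCongr (pullback.condition (f := S.ρ) (g := g)).symm).app L ≪≫
    ((Scheme.Modules.pullbackComp (pullback.fst S.ρ g) S.ρ).app L).symm ≪≫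
    (Scheme.Modules.pullback (pullback.fst S.ρ g)).mapIso eN

/-- The deformation space of the base change is the base change of the deformation space. -/
theorem exists_bcM : ∃ fM : (S.bc sq).M ⟶ S.M,
    IsPullback fM (S.bc sq).jM S.jM (pullback.fst S.ρ g) := by
  have h := (IsPullback.of_hasPullback S.jM (pullback.fst S.ρ g))
  have hz : Cyc.IsZeroSchemeOf (pullback.snd S.jM (pullback.fst S.ρ g)) (S.bc sq).N (S.bc sq).e :=
    GysinSq.isZeroSchemeOf_pb h.flip S.hN S.hM
  haveI : IsClosedImmersion (S.bc sq).jM := (S.bc sq).closedM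
  obtain ⟨a, ha⟩ := SecZero.exists_iso (i := pullback.snd S.jM (pullback.fst S.ρ g)) (i' := (S.bc sq).jM)
    (S.bc sq).hN hz (S.bc sq).hM
  refine ⟨a.hom ≫ pullback.fst S.jM (pullback.fst S.ρ g), IsPullback.of_iso_pullback ⟨?_⟩ a rfl ha⟩
  rw [Category.assoc, pullback.condition, ← Category.assoc, ha]

/-- The map of deformation spaces. -/
def fM : (S.bc sq).M ⟶ S.M := (S.exists_bcM sq).choose

theorem sqM₀ : IsPullback (S.fM sq) (S.bc sq).jM S.jM (pullback.fst S.ρ g) := (S.exists_bcM sq).choose_spec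

theorem sqM : IsPullback (S.fM sq) ((S.bc sq).jM ≫ (S.bc sq).ρ) (S.jM ≫ S.ρ) g :=
  (S.sqM₀ sq).paste_vert (IsPullback.of_hasPullback S.ρ g)

/-- The map of special fibres. -/
def fD : (S.bc sq).D' ⟶ S.D' :=
  pullback.lift (pullback.fst (S.bc sq).jM (S.bc sq).jV ≫ S.fM sq)
    (pullback.snd (S.bc sq).jM (S.bc sq).jV ≫ pullback.fst S.jV (pullback.fst S.ρ g)) (by
    rw [Category.assoc, (S.sqM₀ sq).w, ← Category.assoc, pullback.condition, Category.assoc, Category.assoc,
      pullback.condition]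
    rfl)

theorem fD_fst : S.fD sq ≫ pullback.fst S.jM S.jV = pullback.fst (S.bc sq).jM (S.bc sq).jV ≫ S.fM sq :=
  pullback.lift_fst _ _ _

theorem fD_snd : S.fD sq ≫ pullback.snd S.jM S.jV =
    pullback.snd (S.bc sq).jM (S.bc sq).jV ≫ pullback.fst S.jV (pullback.fst S.ρ g) :=
  pullback.lift_snd _ _ _

theorem sqD₀ : IsPullback (S.fD sq) (pullback.fst (S.bc sq).jM (S.bc sq).jV) (pullback.fst S.jM S.jV) (S.fM sq) := by
  have h1 : IsPullback (pullback.snd (S.bc sq).jM (S.bc sq).jV ≫ pullback.fst S.jV (pullback.fst S.ρ g))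
      (pullback.fst (S.bc sq).jM (S.bc sq).jV) S.jV (S.fM sq ≫ S.jM) := by
    rw [(S.sqM₀ sq).w]
    exact (IsPullback.of_hasPullback (S.bc sq).jM (S.bc sq).jV).flip.paste_horiz
      (IsPullback.of_hasPullback S.jV (pullback.fst S.ρ g))
  exact IsPullback.of_right (by rw [S.fD_snd sq]; exact h1) (S.fD_fst sq)
    (IsPullback.of_hasPullback S.jM S.jV).flip

variable [IsClosedImmersion i₁]

theorem fD_p : S.fD sq ≫ S.p = (S.bc sq).p ≫ q := by
  rw [← cancel_mono i, Category.assoc, Category.assoc, ← S.w, sq.w, ← Category.assoc (S.bc sq).p,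
    ← (S.bc sq).w, ← Category.assoc (S.fD sq), S.fD_fst sq, Category.assoc, Category.assoc, (S.sqM sq).w]

theorem sqD : IsPullback (S.fD sq) (S.bc sq).p S.p q := by
  refine IsPullback.of_bot ?_ (S.fD_p sq) sq
  rw [← (S.bc sq).w, ← S.w]
  exact (S.sqD₀ sq).paste_vert (S.sqM sq)

end Groth.Agent.H23.DefBundle.Data
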