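import Groth.Agent.H23.DefGeom
import Groth.Agent.H23.GysinGysin
import Groth.Agent.H23.SelfInt
import Groth.Agent.H23.CapFlat
import Groth.Agent.FibDim.RelDim

/-! Specialisation to the normal bundle in the deformation data of a divisor. -/

set_option autoImplicit false
set_option linter.style.haveILetI false
set_option backward.isDefEq.respectTransparency false
set_option backward.isDefEq.respectTransparency.types false

universe u

open CategoryTheory CategoryTheory.Limits AlgebraicGeometry TopologicalSpace Opposite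

noncomputable section

namespace Groth.Agent.H23.DefBundle

open Groth.Agent Groth.Agent.AModX RatSec

/-- A global function cutting out a chart equation has regular germs. -/
theorem injective_smul_germ_fn {Q W : Scheme.{u}} {ρ : Q ⟶ W} {n : ℕ} (c : Chart ρ (Fin n)) {T : Γ(Q, ⊤)}
    {f : MvPolynomial (Fin n) Γ(W, c.U)} (hT : resR (le_top : c.O ≤ ⊤) T = c.ψ f)
    (hf : ∀ g, g * f = 0 → g = 0) {x : Q} (hx : x ∈ c.O) :
    Function.Injective fun a : Q.presheaf.stalk x =>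
      a • (Coh.structureModule Q).presheaf.germ ⊤ x trivial (show Γ(Coh.structureModule Q, ⊤) from T) := by
  refine SecZero.injective_smul_germ (InvX.isInvertible_structureModule) (InvX.isFrame_one c.O) hx (a := c.ψ f) ?_
    fun r hr => c.eq_zero_germ hx hf r hr
  show resR (le_top : c.O ≤ ⊤) T = c.ψ f * 1
  rw [mul_one, hT]

namespace Data

variable {W D : Scheme.{u}} {i : D ⟶ W} (S : Data i)

theorem exists_chartQ (x : S.Q) : ∃ c : Chart S.ρ (Fin 2), x ∈ c.O := by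
  obtain ⟨c, a, b, hx, -⟩ := S.chartQ x
  exact ⟨c, hx⟩

theorem exists_chartV (x : S.V) : ∃ c : Chart (S.jV ≫ S.ρ) (Fin 1), x ∈ c.O := by
  obtain ⟨c, b, hx, -⟩ := S.chartV x
  exact ⟨c, hx⟩

instance lftρ : LocallyOfFiniteType S.ρ := lft_of_charts S.exists_chartQ

instance flatρ : Flat S.ρ := flat_of_charts S.exists_chartQ

instance lftπ : LocallyOfFiniteType (S.jV ≫ S.ρ) := lft_of_charts S.exists_chartV

instance flatπ : Flat (S.jV ≫ S.ρ) := flat_of_charts S.exists_chartV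

theorem hasRelDim_ρ : Cyc.HasRelDim S.ρ 2 := (CycLib.hasRelDim_iff S.ρ).2 fun x hx => by
  obtain ⟨c, hc⟩ := S.exists_chartQ x
  exact (c.rd_eq hc).2 hx

theorem hasRelDim_π : Cyc.HasRelDim (S.jV ≫ S.ρ) 1 := (CycLib.hasRelDim_iff (S.jV ≫ S.ρ)).2 fun x hx => by
  obtain ⟨c, hc⟩ := S.exists_chartV x
  exact (c.rd_eq hc).2 hx

/-- The deformation space. -/
def M : Scheme.{u} := (SecZero.exists_zeroScheme S.hN S.e).choose

/-- Its embedding. -/
def jM : S.M ⟶ S.Q := (SecZero.exists_zeroScheme S.hN S.e).choose_spec.choose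

instance closedM : IsClosedImmersion S.jM := (SecZero.exists_zeroScheme S.hN S.e).choose_spec.choose_spec.1

theorem hM : Cyc.IsZeroSchemeOf S.jM S.N S.e := (SecZero.exists_zeroScheme S.hN S.e).choose_spec.choose_spec.2

theorem cutBy (z : S.M) : CutBy S.ρ S.jM 2 z := by
  obtain ⟨c, a, b, hz, hb, -, he⟩ := S.chartQ (S.jM z)
  refine cutBy_of_zeroScheme S.hN S.hM c hb he hz (DefAlg.flat_quotient_eqn a) fun P hP hmem => ?_
  haveI : Nontrivial (Γ(W, c.U) ⧸ P) := Ideal.Quotient.nontrivial_iff.2 hP.ne_top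
  refine DefAlg.eqn_ne_zero (Ideal.Quotient.mk P a) ?_
  have h : MvPolynomial.map (Ideal.Quotient.mk P) (DefAlg.eqn a) = 0 := by
    rw [← RingHom.mem_ker, MvPolynomial.ker_map, Ideal.mk_ker]
    exact hmem
  simpa [DefAlg.eqn] using h

instance flat_q : Flat (S.jM ≫ S.ρ) := flat_of_cutBy S.jM S.cutBy

theorem hasRelDim_q [IsLocallyNoetherian W] {δ : W → ℤ} (hW : Cyc.IsSetup W δ) :
    Cyc.HasRelDim (S.jM ≫ S.ρ) 1 :=
  hasRelDim_of_cutBy hW S.jM S.cutBy

theorem injective_e (x : S.Q) :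
    Function.Injective fun a : S.Q.presheaf.stalk x => a • S.N.presheaf.germ ⊤ x trivial S.e := by
  obtain ⟨c, a, b, hx, hb, -, he⟩ := S.chartQ x
  exact SecZero.injective_smul_germ S.hN hb hx he fun r hr =>
    c.eq_zero_germ hx (fun g => DefAlg.eqn_regular a) r hr

theorem injective_T (x : S.Q) : Function.Injective fun a : S.Q.presheaf.stalk x =>
    a • (Coh.structureModule S.Q).presheaf.germ ⊤ x trivial (show Γ(Coh.structureModule S.Q, ⊤) from S.T) := by
  obtain ⟨c, a, b, hx, -, hT, -⟩ := S.chartQ x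
  exact injective_smul_germ_fn c hT (fun g => DefAlg.X_regular) hx

theorem injective_z (x : S.V) : Function.Injective fun a : S.V.presheaf.stalk x =>
    a • ((Scheme.Modules.pullback S.jV).obj S.N).presheaf.germ ⊤ x trivial (pbs S.jV S.z) := by
  obtain ⟨c, b, hx, hb, hz⟩ := S.chartV x
  exact SecZero.injective_smul_germ (PicClLib.isInvertible_pullback _ S.hN) hb hx hz fun r hr =>
    c.eq_zero_germ hx (fun g => DefAlg.X_regular) r hr

/-- The special fibre. -/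
abbrev D' : Scheme.{u} := pullback S.jM S.jV

/-- The function cutting out the special fibre. -/
def s' : (Coh.structureModule S.M).presheaf.obj (op (⊤ : S.M.Opens)) := S.jM.appTop S.T

theorem hs' : Cyc.IsZeroSchemeOf (pullback.fst S.jM S.jV) (Coh.structureModule S.M) S.s' :=
  zero_structure S.jM S.T (GysinSq.isZeroSchemeOf_pb (IsPullback.of_hasPullback S.jM S.jV)
    (InvX.isInvertible_structureModule (X := S.Q)) S.hV)

theorem hsnd : Cyc.IsZeroSchemeOf (pullback.snd S.jM S.jV) ((Scheme.Modules.pullback S.jV).obj S.N) (pbs S.jV S.e) :=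
  GysinSq.isZeroSchemeOf_pb (IsPullback.of_hasPullback S.jM S.jV).flip S.hN S.hM

variable (δ : W → ℤ)

/-- The dimension function of the ambient space. -/
def δQ (x : S.Q) : ℤ := δ (S.ρ x) + FibDim.rd S.ρ x

/-- The dimension function of the deformation space. -/
def δM (x : S.M) : ℤ := S.δQ δ (S.jM x)

/-- The dimension function of the special fibre. -/
def δD' (x : S.D') : ℤ := S.δM δ (pullback.fst S.jM S.jV x)

theorem δD'_eq (x : S.D') : S.δD' δ x = S.δQ δ (S.jV (pullback.snd S.jM S.jV x)) := by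
  show S.δQ δ (S.jM (pullback.fst S.jM S.jV x)) = _
  rw [← Scheme.Hom.comp_apply, pullback.condition, Scheme.Hom.comp_apply]

theorem compat_q : Cyc.DeltaCompat (S.jM ≫ S.ρ) (S.δM δ) δ :=
  Bivar.deltaCompat_comp S.jM S.ρ _ _ _ (GysinLib.deltaCompat_closedImmersion S.jM (S.δQ δ))
    (ChowDesc.deltaCompat_rd S.ρ δ)

theorem compat_π : Cyc.DeltaCompat (S.jV ≫ S.ρ) (fun v => S.δQ δ (S.jV v)) δ :=
  Bivar.deltaCompat_comp S.jV S.ρ _ _ _ (GysinLib.deltaCompat_closedImmersion S.jV (S.δQ δ))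
    (ChowDesc.deltaCompat_rd S.ρ δ)

variable {δ}

theorem setupQ (hW : Cyc.IsSetup W δ) : Cyc.IsSetup S.Q (S.δQ δ) :=
  SetupLFT.isSetup S.ρ hW (ChowDesc.deltaCompat_rd S.ρ δ)

theorem setupM (hW : Cyc.IsSetup W δ) : Cyc.IsSetup S.M (S.δM δ) :=
  SetupLFT.isSetup S.jM (S.setupQ hW) (GysinLib.deltaCompat_closedImmersion S.jM (S.δQ δ))

theorem setupV (hW : Cyc.IsSetup W δ) : Cyc.IsSetup S.V fun v => S.δQ δ (S.jV v) :=
  SetupLFT.isSetup S.jV (S.setupQ hW) (GysinLib.deltaCompat_closedImmersion S.jV (S.δQ δ))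

section Special

variable [IsClosedImmersion i]

theorem exists_p : ∃ p : S.D' ⟶ D, IsPullback (pullback.snd S.jM S.jV) p (S.jV ≫ S.ρ) i := by
  obtain ⟨a, ha⟩ := SecZero.exists_iso (PicClLib.isInvertible_pullback _ S.hN) S.hD S.hsnd
  refine ⟨a.hom ≫ pullback.snd (S.jV ≫ S.ρ) i, ?_⟩
  refine IsPullback.of_iso_pullback ⟨?_⟩ a ha rfl
  rw [← ha, Category.assoc, pullback.condition, Category.assoc]

/-- The projection of the special fibre. -/
def p : S.D' ⟶ D := S.exists_p.choose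

theorem sqp : IsPullback (pullback.snd S.jM S.jV) S.p (S.jV ≫ S.ρ) i := S.exists_p.choose_spec

theorem w : pullback.fst S.jM S.jV ≫ S.jM ≫ S.ρ = S.p ≫ i := by
  rw [← S.sqp.w, ← Category.assoc, pullback.condition, Category.assoc]

instance lft_p : LocallyOfFiniteType S.p :=
  MorphismProperty.of_isPullback (P := @LocallyOfFiniteType) S.sqp inferInstance

instance flat_p : Flat S.p := MorphismProperty.of_isPullback (P := @Flat) S.sqp inferInstance

instance qc_p : QuasiCompact S.p := MorphismProperty.of_isPullback (P := @QuasiCompact) S.sqp inferInstance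

/-- Specialisation: `t^* q^* α = p^* i^* α`. -/
theorem key (hW : Cyc.IsSetup W δ) {L : W.Modules} (hL : PicF.IsInvertible L) {s : Γ(L, ⊤)}
    (hi : Cyc.IsZeroSchemeOf i L s) (eN : (Scheme.Modules.pullback S.ρ).obj L ≅ S.N) {k : ℤ}
    (α : AlgebraicCycle W ℤ) (hα : α ∈ Cyc.Zk W δ (k + 1)) {w : (ξ : W) → Cyc.secFibre L ξ} (hw : ∀ ξ, w ξ ≠ 0)
    {w' : (ξ : S.M) → Cyc.secFibre (Coh.structureModule S.M) ξ} (hw' : ∀ ξ, w' ξ ≠ 0)
    {ζ₁ ζ₂ : AlgebraicCycle S.D' ℤ}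
    (h₁ : ⇑ζ₁ = Cyc.pullFun S.p (S.δD' δ) (fun d => δ (i d)) 1
      (fun d => Cyc.c1CapFun δ L ⇑α (Cyc.gysinChoice L s w) (i d)))
    (h₂ : ∀ d', ζ₂ d' = Cyc.c1CapFun (S.δM δ) (Coh.structureModule S.M)
      (Cyc.pullFun (S.jM ≫ S.ρ) (S.δM δ) δ 1 ⇑α) (Cyc.gysinChoice (Coh.structureModule S.M) S.s' w')
      (pullback.fst S.jM S.jV d')) : Cyc.RatEquiv (S.δD' δ) (k + 1) ζ₁ ζ₂ := by
  classical
  haveI := hW.1
  haveI := (S.setupQ hW).1
  haveI := (S.setupM hW).1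
  haveI := (S.setupV hW).1
  have hdQ := (S.setupQ hW).2.2
  have hdV := (S.setupV hW).2.2
  let δV : S.V → ℤ := fun v => S.δQ δ (S.jV v)
  have hcρ : FlatShift.HasShift S.ρ (S.δQ δ) δ (((1 : ℕ) : ℤ) + 1) := by
    rw [show (((1 : ℕ) : ℤ) + 1) = ((2 : ℕ) : ℤ) by norm_num]
    exact FlatShift.hasShift_of_hasRelDim S.ρ S.hasRelDim_ρ (ChowDesc.deltaCompat_rd S.ρ δ)
  let αQ : AlgebraicCycle S.Q ℤ :=
    { toFun := Cyc.pullFun S.ρ (S.δQ δ) δ (((1 : ℕ) : ℤ) + 1) ⇑α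
      supportWithinDomain' := fun _ _ => trivial
      supportLocallyFiniteWithinDomain' := fun z _ => C1Pull.locFin_pullFun hcρ hdQ (GysinLib.locFin α) z }
  have hαQ : αQ ∈ Cyc.Zk S.Q (S.δQ δ) (k + 1 + 2) := fun z hz => by
    show Cyc.pullFun S.ρ (S.δQ δ) δ _ ⇑α z = 0
    rw [Cyc.pullFun]
    split_ifs with h
    · rw [hα (S.ρ z) (fun h' => hz (by push_cast at h; omega)), zero_mul]
    · rfl
  have hle : ∀ x, S.δQ δ x ≤ δ (S.ρ x) + ((1 + 1 : ℕ) : ℤ) :=
    fun x => FlatShift.le_of_hasRelDim S.ρ S.hasRelDim_ρ (ChowDesc.deltaCompat_rd S.ρ δ) x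
  have hα' : ∀ y, δ y ≠ k + 1 → α y = 0 := fun y hy => hα y hy
  obtain ⟨wN, hwN⟩ := exists_sections (X := S.Q) S.hN
  obtain ⟨wT, hwT⟩ := exists_sections (X := S.Q) (InvX.isInvertible_structureModule (X := S.Q))
  have hγ : Cyc.pullFun (S.jM ≫ S.ρ) (S.δM δ) δ 1 ⇑α = fun d =>
      Cyc.c1CapFun (S.δQ δ) S.N ⇑αQ (Cyc.gysinChoice S.N S.e wN) (S.jM d) := funext fun d =>
    (CapFlat.c1CapFun_pull_gysin (δY := δ) hdQ hW.2.2 S.ρ hle S.hN S.injective_e S.jM S.hM
      (fun d => FlatShift.le_of_hasRelDim (S.jM ≫ S.ρ) (S.hasRelDim_q hW) (S.compat_q δ) d) hα' wN d).symm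
  have hγ' : Cyc.pullFun (S.jV ≫ S.ρ) δV δ 1 ⇑α = fun d => Cyc.c1CapFun (S.δQ δ) (Coh.structureModule S.Q) ⇑αQ
      (Cyc.gysinChoice (Coh.structureModule S.Q) S.T wT) (S.jV d) := funext fun d =>
    (CapFlat.c1CapFun_pull_gysin (δY := δ) hdQ hW.2.2 S.ρ hle (InvX.isInvertible_structureModule (X := S.Q))
      S.injective_T S.jV S.hV
      (fun d => FlatShift.le_of_hasRelDim (S.jV ≫ S.ρ) S.hasRelDim_π (S.compat_π δ) d) hα' wT d).symm
  let eU := (SeesawX.unitIso S.jM).symm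
  let σ' := eU.hom.app ⊤ S.s'
  have hσ' : Cyc.IsZeroSchemeOf (pullback.fst S.jM S.jV) _ σ' := RatSec.isZeroSchemeOf_mapIso eU S.hs'
  let eL : (Scheme.Modules.pullback (S.jV ≫ S.ρ)).obj L ≅ (Scheme.Modules.pullback S.jV).obj S.N :=
    ((Scheme.Modules.pullbackComp S.jV S.ρ).app L).symm ≪≫ (Scheme.Modules.pullback S.jV).mapIso eN
  let σ₀ := eL.inv.app ⊤ (pbs S.jV S.e)
  have hσ₀ : Cyc.IsZeroSchemeOf (pullback.snd S.jM S.jV) _ σ₀ := RatSec.isZeroSchemeOf_mapIso eL.symm S.hsnd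
  have hLV := PicClLib.isInvertible_pullback (S.jV ≫ S.ρ) hL
  have hNV := PicClLib.isInvertible_pullback S.jV S.hN
  have hOM := InvX.isInvertible_structureModule (X := S.M)
  have hO' := PicClLib.isInvertible_pullback S.jM (InvX.isInvertible_structureModule (X := S.Q))
  obtain ⟨v, hv⟩ := exists_sections (X := S.V) hLV
  have hcπ : FlatShift.HasShift (S.jV ≫ S.ρ) δV δ 1 :=
    FlatShift.hasShift_of_hasRelDim (S.jV ≫ S.ρ) S.hasRelDim_π (S.compat_π δ)
  let αV : AlgebraicCycle S.V ℤ :=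
    { toFun := Cyc.pullFun (S.jV ≫ S.ρ) δV δ 1 ⇑α
      supportWithinDomain' := fun _ _ => trivial
      supportLocallyFiniteWithinDomain' := fun z _ => C1Pull.locFin_pullFun hcπ hdV (GysinLib.locFin α) z }
  let ζV := GysinLib.gysinCycle hLV hdV (pullback.snd S.jM S.jV) σ₀ αV hv
  have hδ : (fun z => δV (pullback.snd S.jM S.jV z)) = S.δD' δ := funext fun z => (S.δD'_eq δ z).symm
  have h3 : Cyc.RatEquiv (fun z => δV (pullback.snd S.jM S.jV z)) (k + 1) ζV ζ₁ :=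
    GysinSq.ratEquiv_gysin_pull S.sqp hcπ hW.2.2 hdV hL hi hσ₀ α hα hw hv (fun z => rfl)
      (by rw [hδ]; exact h₁)
  have h4 : Cyc.RatEquiv (S.δD' δ) (k + 1) ζ₂ ζV := by
    refine GysinLib.gysin_gysin hdQ S.hN (InvX.isInvertible_structureModule (X := S.Q)) S.hM S.hV hσ'
      (σ := eL.hom.app ⊤ σ₀) (RatSec.isZeroSchemeOf_mapIso eL hσ₀) αQ hαQ hwN hwT
      (w₁ := fun ξ => mapSec eU ξ (w' ξ)) (mapSec_ne_zero eU hw') (w₂ := fun ξ => mapSec eL ξ (v ξ))
      (mapSec_ne_zero eL hv) hγ hγ' (fun z => ?_) fun z => ?_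
    · rw [h₂ z, show Cyc.gysinChoice _ σ' (fun ξ => mapSec eU ξ (w' ξ)) =
          fun ξ => mapSec eU ξ (Cyc.gysinChoice _ S.s' w' ξ) from
          funext fun ξ => (mapSec_gysinChoice eU S.s' w' ξ).symm,
        show (fun d => S.δQ δ (S.jM d)) = S.δM δ from rfl,
        c1CapFun_mapSec eU hOM hO' (S.setupM hW).2.2 _ (GysinLib.gysinChoice_ne_zero S.s' hw')]
    · rw [show Cyc.gysinChoice _ (eL.hom.app ⊤ σ₀) (fun ξ => mapSec eL ξ (v ξ)) =
          fun ξ => mapSec eL ξ (Cyc.gysinChoice _ σ₀ v ξ) from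
          funext fun ξ => (mapSec_gysinChoice eL σ₀ v ξ).symm,
        c1CapFun_mapSec eL hLV hNV hdV _ (GysinLib.gysinChoice_ne_zero σ₀ hv)]
      rfl
  have hdD' : Cyc.IsDimFun S.D' (S.δD' δ) := CycLib.isDimFun_closedImmersion (pullback.fst S.jM S.jV) (S.setupM hW).2.2
  haveI : IsLocallyNoetherian S.D' := LocallyOfFiniteType.isLocallyNoetherian (pullback.fst S.jM S.jV)
  exact RatOn.symm hdD' (RatOn.trans hdD' h4 (hδ ▸ h3))

end Special

/-- Flat pull-back to the bundle is injective on classes. -/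
theorem pullπ_injective (hW : Cyc.IsSetup W δ) {k : ℤ} {β : AlgebraicCycle W ℤ} (hβ : β ∈ Cyc.Zk W δ k)
    {β' : AlgebraicCycle S.V ℤ}
    (hβ' : ⇑β' = Cyc.pullFun (S.jV ≫ S.ρ) (fun v => S.δQ δ (S.jV v)) δ 1 ⇑β)
    (h : Cyc.RatEquivZero (fun v => S.δQ δ (S.jV v)) (k + 1) β') : Cyc.RatEquivZero δ k β := by
  haveI := hW.1
  haveI := (S.setupV hW).1
  have hdV := (S.setupV hW).2.2
  let δV : S.V → ℤ := fun v => S.δQ δ (S.jV v)
  have hL := PicClLib.isInvertible_pullback S.jV S.hN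
  obtain ⟨v, hv⟩ := exists_sections (X := S.V) hL
  haveI : Flat (S.o ≫ S.jV ≫ S.ρ) := by rw [S.ho]; infer_instance
  have hπo : ∀ d, (S.jV ≫ S.ρ) (S.o d) = d := fun d => by
    rw [← Scheme.Hom.comp_apply, S.ho]; rfl
  have hδo : (fun d => δV (S.o d)) = δ := funext fun d => by
    have h1 := CycLib.deltaCompat_eq (S.jV ≫ S.ρ) (S.compat_π δ) (S.o d)
    have h2 := CycLib.rd_comp S.o (S.jV ≫ S.ρ) d
    have h3 : FibDim.rd (S.o ≫ S.jV ≫ S.ρ) d = 0 := by
      rw [S.ho]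
      exact CycLib.rd_eq_zero_of_finite _ _ (RingHom.Finite.of_surjective _
        (CycLib.residueFieldMap_bijective (𝟙 W) d).2)
    rw [h3] at h2
    show S.δQ δ (S.jV (S.o d)) = δ d
    rw [h1, hπo]
    omega
  have hg : ∀ d, Cyc.c1CapFun δV ((Scheme.Modules.pullback S.jV).obj S.N) ⇑β'
      (Cyc.gysinChoice _ (pbs S.jV S.z) v) (S.o d) = β d := fun d => by
    obtain ⟨k', rfl⟩ : ∃ k', k = k' + 1 := ⟨k - 1, by ring⟩
    have := CapFlat.c1CapFun_pull_gysin (δY := δ) (r := 0) hdV hW.2.2 (S.jV ≫ S.ρ)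
      (fun x => FlatShift.le_of_hasRelDim (S.jV ≫ S.ρ) S.hasRelDim_π (S.compat_π δ) x) hL S.injective_z S.o S.ho0
      (fun d => by
        rw [hπo]
        show δV (S.o d) ≤ δ d + ((0 : ℕ) : ℤ)
        rw [show δV (S.o d) = δ d from congrFun hδo d]
        simp) (k := k') (α := ⇑β) (fun y hy => hβ y hy) v d
    simp only [Nat.cast_zero, zero_add] at this
    rw [hβ', this, Cyc.pullFun, show S.δQ δ (S.jV (S.o d)) = δ d from congrFun hδo d]
    have e : ∀ (f : W ⟶ W), f = 𝟙 W → (if δ d = δ (f d) + 0 then β (f d) *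
        ((Module.length (W.presheaf.stalk d) (W.presheaf.stalk d ⧸
          Ideal.map (f.stalkMap d).hom (IsLocalRing.maximalIdeal (W.presheaf.stalk (f d))))).toNat : ℤ) else 0) = β d := by
      rintro _ rfl
      rw [Scheme.Hom.stalkMap_id]
      show (if δ d = δ d + 0 then β d * ((Module.length (W.presheaf.stalk d) (W.presheaf.stalk d ⧸
        Ideal.map (RingHom.id _) (IsLocalRing.maximalIdeal (W.presheaf.stalk d)))).toNat : ℤ) else 0) = β d
      rw [if_pos (add_zero _).symm, Ideal.map_id]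
      haveI : IsSimpleModule (W.presheaf.stalk d) (W.presheaf.stalk d ⧸ IsLocalRing.maximalIdeal (W.presheaf.stalk d)) :=
        isSimpleModule_iff_isCoatom.2 (IsLocalRing.maximalIdeal.isMaximal _).out
      rw [Module.length_eq_one]
      simp
    exact e _ S.ho
  have h1 := SelfInt.gysin_congr (β' := (0 : AlgebraicCycle S.V ℤ)) hL hdV S.ho0 hδo.symm hv
    (k := k + 1) (β := β') (ζ := β) (ζ' := 0) (by show Cyc.RatEquivZero δV (k + 1) (β' - 0); rwa [sub_zero])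
    (fun d => (hg d).symm) fun d => by
      show (0 : ℤ) = ∑ᶠ ξ, (0 : ℤ) * _
      simp
  simpa [Cyc.RatEquiv] using h1

variable [IsClosedImmersion i]

theorem compat_p : Cyc.DeltaCompat S.p (S.δD' δ) fun d => δ (i d) := fun x => by
  haveI : LocallyOfFiniteType (S.p ≫ i) := inferInstance
  refine ⟨FibDim.rd S.p x, (FibDim.rd_eq_rdeg S.p x).symm, ?_⟩
  have h : Cyc.DeltaCompat (S.p ≫ i) (S.δD' δ) δ := by
    rw [← S.w]
    exact Bivar.deltaCompat_comp (pullback.fst S.jM S.jV) (S.jM ≫ S.ρ) _ _ _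
      (GysinLib.deltaCompat_closedImmersion (pullback.fst S.jM S.jV) (S.δM δ)) (S.compat_q δ)
  rw [CycLib.deltaCompat_eq _ h x, CycLib.rd_comp, CycLib.rd_eq_zero_of_finite i (S.p x)
    (RingHom.Finite.of_surjective _ (CycLib.residueFieldMap_bijective i (S.p x)).2), zero_add]
  rfl

theorem hasRelDim_p : Cyc.HasRelDim S.p 1 := FibDim.hasRelDim_baseChange S.sqp S.hasRelDim_π

omit [IsClosedImmersion i] in
theorem setupD' (hW : Cyc.IsSetup W δ) : Cyc.IsSetup S.D' (S.δD' δ) :=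
  SetupLFT.isSetup (pullback.fst S.jM S.jV) (S.setupM hW)
    (GysinLib.deltaCompat_closedImmersion (pullback.fst S.jM S.jV) (S.δM δ))

/-- Flat pull-back to the special fibre is injective on classes. -/
theorem pullp_injective (hW : Cyc.IsSetup W δ) {k : ℤ} {β : AlgebraicCycle D ℤ}
    (hβ : β ∈ Cyc.Zk D (fun d => δ (i d)) k) {β' : AlgebraicCycle S.D' ℤ}
    (hβ' : ⇑β' = Cyc.pullFun S.p (S.δD' δ) (fun d => δ (i d)) 1 ⇑β)
    (h : Cyc.RatEquivZero (S.δD' δ) (k + 1) β') : Cyc.RatEquivZero (fun d => δ (i d)) k β := by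
  have sq : IsPullback (𝟙 D) (𝟙 D) i i := IsKernelPair.id_of_mono i
  let S₀ := S.bc sq
  let π₀ := S₀.jV ≫ S₀.ρ
  let δi : D → ℤ := fun d => δ (i d)
  have hDs : Cyc.IsSetup D δi := SetupLFT.isSetup i hW (GysinLib.deltaCompat_closedImmersion i δ)
  have sq₀ : IsPullback (pullback.fst S.jV (pullback.fst S.ρ i)) π₀ (S.jV ≫ S.ρ) i := S.sqV i
  let φ : S₀.V ≅ S.D' := sq₀.isoIsPullback _ _ S.sqp
  have hφ : φ.hom ≫ S.p = π₀ := sq₀.isoIsPullback_hom_snd _ _ S.sqp
  haveI := hW.1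
  haveI := (S.setupD' hW).1
  haveI := (S₀.setupV hDs).1
  have hc : Cyc.DeltaCompat π₀ (fun v => S.δD' δ (φ.hom v)) δi := by
    rw [← hφ]
    exact Bivar.deltaCompat_comp φ.hom S.p _ _ _ (GysinLib.deltaCompat_closedImmersion φ.hom (S.δD' δ)) S.compat_p
  have hδ : (fun v => S₀.δQ δi (S₀.jV v)) = fun v => S.δD' δ (φ.hom v) :=
    ChowDesc.deltaCompat_unique π₀ (S₀.compat_π δi) hc
  let β₀ := CycLib.restrictCycle φ.hom φ.hom.homeomorph.injective β'
  refine S₀.pullπ_injective hDs hβ (β' := β₀) (funext fun v => ?_) ?_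
  · show β' (φ.hom v) = _
    rw [hβ', hδ]
    have e : ∀ (f : S₀.V ⟶ D), φ.hom ≫ S.p = f →
        Cyc.pullFun S.p (S.δD' δ) δi 1 ⇑β (φ.hom v) = Cyc.pullFun f (fun v => S.δD' δ (φ.hom v)) δi 1 ⇑β v := by
      rintro _ rfl
      simp only [Cyc.pullFun]
      show (if _ then _ * ((FiniteFibreSum.fibreLen S.p (φ.hom v)).toNat : ℤ) else 0) =
        (if _ then _ * ((FiniteFibreSum.fibreLen (φ.hom ≫ S.p) v).toNat : ℤ) else 0)
      rw [GysinSq.fibreLen_iso_comp]
      rfl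
    exact e _ hφ
  · rw [hδ]
    have hφi : ∀ z, φ.hom (φ.inv z) = z := fun z => by
      rw [← Scheme.Hom.comp_apply, φ.inv_hom_id]; rfl
    have hδ' : Cyc.DeltaCompat φ.inv (S.δD' δ) fun v => S.δD' δ (φ.hom v) := by
      have := GysinLib.deltaCompat_closedImmersion φ.inv (fun v => S.δD' δ (φ.hom v))
      simpa only [hφi] using this
    have hV : Cyc.IsSetup S₀.V fun v => S.δD' δ (φ.hom v) := hδ ▸ S₀.setupV hDs
    convert CycLib.ratEquivZero_map φ.inv (S.setupD' hW) hV hδ' h using 1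
    refine Function.locallyFinsuppWithin.ext fun v => ?_
    obtain ⟨z, rfl⟩ := φ.inv.homeomorph.surjective v
    show β' (φ.hom (φ.inv z)) = AlgebraicCycle.map φ.inv _ _ β' (φ.inv z)
    rw [hφi]
    have key : ∀ (δ₁ : S.D' → ℤ) (δ₂ : S₀.V → ℤ), δ₁ = (fun z => δ₂ (φ.inv z)) →
        AlgebraicCycle.map φ.inv δ₁ δ₂ β' (φ.inv z) = β' z := by
      rintro _ δ₂ rfl
      exact CycLib.map_preimmersion_apply _ _ _ _
    exact (key _ _ (funext fun z => by rw [hφi])).symm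

end Data

end Groth.Agent.H23.DefBundle
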