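import Groth.Agent.H23.DefLine
import Groth.Agent.H23.DefKey
import Groth.Agent.H23.ProjBd.ZeroSection
import Groth.Agent.DivX.MeroMod

/-! Existence of the deformation data of a divisor. -/

set_option autoImplicit false
set_option linter.style.haveILetI false
set_option backward.isDefEq.respectTransparency false
set_option backward.isDefEq.respectTransparency.types false

universe u

open CategoryTheory CategoryTheory.Limits AlgebraicGeometry TopologicalSpace Opposite

noncomputable section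

namespace Groth.Agent.H23.DefBundle

open Groth.Agent Groth.Agent.AModX RatSec

/-- A bundle with a tautological section vanishing on a section. -/
structure Bundle (W : Scheme.{u}) (L : W.Modules) where
  /-- the bundle -/
  V : Scheme.{u}
  /-- its projection -/
  π : V ⟶ W
  qc : QuasiCompact π
  sep : IsSeparated π
  /-- the zero section -/
  o : W ⟶ V
  closedo : IsClosedImmersion o
  ho : o ≫ π = 𝟙 W
  /-- the tautological section -/
  z : Γ((Scheme.Modules.pullback π).obj L, ⊤)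
  ho0 : Cyc.IsZeroSchemeOf o _ z
  chart : ∀ v : V, ∃ (c : Chart π (Fin 1)) (b : Γ(L, c.U)), v ∈ c.O ∧ InvX.IsFrame b ∧
    res _ (le_top : c.O ≤ ⊤) z = c.ψ (MvPolynomial.X 0) • QCoh.pullSec π L c.le b

theorem exists_bundle {W : Scheme.{u}} [IsLocallyNoetherian W] {L : W.Modules} (hL : PicF.IsInvertible L) :
    Nonempty (Bundle W L) := by
  have hL1 : FlatMod.IsFinLocFreeOfRank 1 L := InvEnd.isFinLocFreeOfRank_one hL
  have hcomp : FlatMod.IsFinLocFreeOfRank (1 + 1) (ProjBd.Hyper.comp L) := fun x => by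
    obtain ⟨V, hxV, ⟨i⟩⟩ := hL1 x
    obtain ⟨b, hb⟩ := Frame.exists_frame i
    exact ⟨V, hxV, Frame.exists_iso_of_frame _ (ProjBd.Hyper.isFrame_consFrame hb)⟩
  obtain ⟨P, p, O1, q, hP⟩ := H28.PBMake.exists_of_rank hcomp
  haveI := ProjBd.isProper_of_projBundle hP hcomp
  haveI : IsLocallyNoetherian P := LocallyOfFiniteType.isLocallyNoetherian p
  haveI : Epi (ProjBd.ZeroSection.quot L) := by
    haveI : Epi ((Scheme.Modules.pullback (𝟙 W)).map (biprod.snd : ProjBd.Hyper.comp L ⟶ L)) :=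
      Grass.epi_pullback_map _ _
    exact epi_comp _ _
  obtain ⟨o, ⟨ho, e₀, he₀⟩, -⟩ := hP.univ W (𝟙 W) L hL1 (ProjBd.ZeroSection.quot L) inferInstance
  haveI : IsClosedImmersion o := by
    haveI : IsClosedImmersion (o ≫ p) := by rw [ho]; infer_instance
    exact IsClosedImmersion.of_comp o p
  have hσ := ProjBd.ZeroSection.pullSec_σ o ho e₀ he₀
  let σ := ProjBd.ZeroSection.σ q
  have hz : Cyc.IsZeroSchemeOf o O1 σ := ProjBd.ZeroSection.exists_zeroScheme hP ho hσ hL1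
  have hO1 := ProjBd.isInvertible_of_projBundle hP
  have hfr : ∀ y : W, ∃ (U : W.Opens) (_ : IsAffineOpen U) (b : Γ(L, U)), y ∈ U ∧ InvX.IsFrame b ∧
      Frame.IsFrame L fun _ : Fin 1 => b := fun y => by
    obtain ⟨V, hyV, ⟨i⟩⟩ := hL1 y
    obtain ⟨b₀, hb₀⟩ := Frame.exists_frame i
    obtain ⟨_, ⟨U, hU, rfl⟩, hyU, hUV⟩ := W.isBasis_affineOpens.exists_subset_of_mem_open hyV V.isOpen
    have hb := hb₀.res hUV
    refine ⟨U, hU, res L hUV (b₀ 0), hyU, fun O hO => ?_, ?_⟩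
    · have h := hb O hO
      have hc : ∀ c : Fin 1 → Γ(W, O), Frame.comb L (fun l => res L hUV (b₀ l)) O hO c =
          c 0 • res L hO (res L hUV (b₀ 0)) := fun c => by simp [Frame.comb]; rfl
      refine ⟨fun a a' he => ?_, fun x => ?_⟩
      · refine congrFun (h.1 (a₁ := fun _ => a) (a₂ := fun _ => a') ?_) 0
        exact (hc _).trans (he.trans (hc fun _ => a').symm)
      · obtain ⟨c, rfl⟩ := h.2 x
        exact ⟨c 0, (hc c).symm⟩
    · rw [show (fun _ : Fin 1 => res L hUV (b₀ 0)) = fun l => res L hUV (b₀ l) from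
        funext fun l => by rw [Fin.fin_one_eq_zero l]]
      exact hb
  choose U hU bL hyU hbL hbF using hfr
  let c := fun y => ProjBd.coordsOfFrame hP (hU y) _ (ProjBd.Hyper.isFrame_consFrame (hbF y))
  let V : P.Opens := ⨆ y, (c y).W 1
  haveI : QuasiCompact V.ι := inferInstance
  have hoV : Set.range o ⊆ Set.range V.ι := by
    rintro _ ⟨y, rfl⟩
    rw [Scheme.Opens.range_ι]
    have hp : p (o y) = y := by rw [← Scheme.Hom.comp_apply, ho]; rfl
    obtain ⟨l, hl⟩ := (c y).cover (o y) (show p (o y) ∈ U y by rw [hp]; exact hyU y)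
    fin_cases l
    · have hl' : o y ∈ (c y).W 0 := hl
      rw [show (c y).W 0 = ProjBd.Hyper.W₀ q ⊓ p ⁻¹ᵁ U y from ProjBd.Hyper.locus_zero q _] at hl'
      exact absurd hl'.1 (ProjBd.ZeroSection.not_mem_W₀ hσ y)
    · exact Opens.mem_iSup.2 ⟨y, hl⟩
  let o' := IsOpenImmersion.lift V.ι o hoV
  have ho' : o' ≫ V.ι = o := IsOpenImmersion.lift_fac _ _ _
  haveI : IsClosedImmersion o' := by
    haveI : IsClosedImmersion (o' ≫ V.ι) := by rw [ho']; infer_instance
    exact IsClosedImmersion.of_comp o' V.ι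
  let φ : (Scheme.Modules.pullback V.ι).obj ((Scheme.Modules.pullback p).obj L) ⟶ (Scheme.Modules.pullback V.ι).obj O1 :=
    (Scheme.Modules.pullback V.ι).map ((Scheme.Modules.pullback p).map biprod.inr ≫ q)
  have hW1 : ∀ y, V.ι ⁻¹ᵁ (c y).W 1 ≤ V.ι ⁻¹ᵁ (p ⁻¹ᵁ U y) := fun y => V.ι.preimage_mono ((c y).le 1)
  have hφ : ∀ y, φ.app _ (QCoh.pullSec V.ι _ (hW1 y) (InvX.pullElt p (bL y))) =
      QCoh.pullSec V.ι O1 le_rfl (res O1 ((c y).le 1) ((c y).s 1)) := fun y => by
    rw [PBlow.pullSec_restr]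
    refine (ExistEasy.pullSec_natural V.ι _ (hW1 y) (InvX.pullElt p (bL y))).trans ?_
    refine congrArg (QCoh.pullSec V.ι O1 (hW1 y)) ?_
    show q.app _ (((Scheme.Modules.pullback p).map biprod.inr).app _ (InvX.pullElt p (bL y))) = _
    show _ = q.app _ (InvX.pullElt p ((biprod.inr : L ⟶ ProjBd.Hyper.comp L).app (U y) (bL y)))
    refine congrArg (fun x => q.app (p ⁻¹ᵁ U y) x) ?_
    exact (congrArg (fun f => Scheme.Modules.Hom.app f (U y) (bL y))
      ((Scheme.Modules.pullbackPushforwardAdjunction p).unit.naturality (biprod.inr : L ⟶ ProjBd.Hyper.comp L))).symm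
  have hcov : ∀ v : (↑V : Scheme.{u}), ∃ y, v ∈ V.ι ⁻¹ᵁ (c y).W 1 := fun v => by
    have h : v.1 ∈ V := v.2
    obtain ⟨y, hy⟩ := Opens.mem_iSup.1 h
    exact ⟨y, hy⟩
  have hfrb : ∀ y, InvX.IsFrame (QCoh.pullSec V.ι _ (hW1 y) (InvX.pullElt p (bL y))) := fun y =>
    PBlow.isFrame_pullSec (g := V.ι) (hW1 y) (InvX.isFrame_pullElt p (hbL y))
  haveI : IsIso φ := DivX.isIso_of_frames φ fun v => by
    obtain ⟨y, hy⟩ := hcov v
    refine ⟨_, hy, _, hfrb y, ?_⟩
    rw [hφ y]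
    exact PBlow.isFrame_pullSec (g := V.ι) le_rfl ((c y).frame 1)
  let e₁ : (Scheme.Modules.pullback (V.ι ≫ p)).obj L ≅ (Scheme.Modules.pullback V.ι).obj O1 :=
    ((Scheme.Modules.pullbackComp V.ι p).app L).symm ≪≫ asIso φ
  have hsq : IsPullback o' (𝟙 W) V.ι o := IsOpenImmersion.isPullback_lift_id o V.ι hoV
  refine ⟨{
    V := ↑V
    π := V.ι ≫ p
    qc := inferInstance
    sep := inferInstance
    o := o'
    closedo := inferInstance
    ho := by rw [← Category.assoc, ho', ho]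
    z := e₁.inv.app ⊤ (pbs V.ι σ)
    ho0 := isZeroSchemeOf_mapIso e₁.symm (GysinSq.isZeroSchemeOf_pb hsq hO1 hz)
    chart := fun v => ?_ }⟩
  obtain ⟨y, hy⟩ := hcov v
  let O := V.ι ⁻¹ᵁ (c y).W 1
  have hWV : (c y).W 1 ≤ V := le_iSup (fun y => (c y).W 1) y
  haveI := Scheme.Hom.isIso_app V.ι ((c y).W 1) (by rw [Scheme.Opens.opensRange_ι]; exact hWV)
  let cV : Chart (V.ι ≫ p) (Fin 1) :=
    { U := U y
      hU := hU y
      O := O
      hO := ((c y).affine 1).preimage_of_isOpenImmersion (f := V.ι) (by rw [Scheme.Opens.opensRange_ι]; exact hWV)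
      le := hW1 y
      ψ := (V.ι.app ((c y).W 1)).hom.comp ((c y).ψ 1)
      bij := (ConcreteCategory.bijective_of_isIso (V.ι.app ((c y).W 1))).comp ((c y).bij 1)
      ψ_C := fun a => by
        show V.ι.app _ ((c y).ψ 1 (MvPolynomial.C a)) = _
        rw [(c y).ψ_C, Scheme.Hom.app_eq_appLE]
        show (p.appLE (U y) ((c y).W 1) _ ≫ V.ι.appLE _ _ _) a = _
        rw [Scheme.Hom.appLE_comp_appLE] }
  refine ⟨cV, bL y, hy, hbL y, ?_⟩
  have hinj : Function.Injective (e₁.hom.app O) := fun a b hab => by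
    have := congrArg (e₁.inv.app O) hab
    have hid : ∀ x, e₁.inv.app O (e₁.hom.app O x) = x := fun x =>
      congrArg (fun f => Scheme.Modules.Hom.app f O x) e₁.hom_inv_id
    rwa [hid, hid] at this
  refine hinj ?_
  rw [Scheme.Modules.Hom.app_smul, app_res]
  rw [show e₁.hom.app ⊤ (e₁.inv.app ⊤ (pbs V.ι σ)) = pbs V.ι σ from
    congrArg (fun f => Scheme.Modules.Hom.app f ⊤ (pbs V.ι σ)) e₁.inv_hom_id]
  have hb1 : e₁.hom.app O (QCoh.pullSec (V.ι ≫ p) L cV.le (bL y)) =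
      QCoh.pullSec V.ι O1 le_rfl (res O1 ((c y).le 1) ((c y).s 1)) := by
    rw [← hφ y]
    refine congrArg (φ.app O) ?_
    refine (congrArg (((Scheme.Modules.pullbackComp V.ι p).inv.app L).app O)
      (ExistEasy.pullSec_comp V.ι p L (le_rfl : p ⁻¹ᵁ U y ≤ p ⁻¹ᵁ U y) (hW1 y) (bL y)).symm).trans ?_
    exact (congrArg (fun f => Scheme.Modules.Hom.app f O _) ((Scheme.Modules.pullbackComp V.ι p).app L).hom_inv_id).trans
      (congrArg (QCoh.pullSec V.ι _ (hW1 y)) (res_self _))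
  rw [hb1]
  have hs0 : res O1 (le_top : (c y).W 1 ≤ ⊤) σ =
      (c y).ψ 1 (MvPolynomial.X 0) • res O1 ((c y).le 1) ((c y).s 1) := by
    rw [(c y).ψ_X 1 0, show (c y).s ((1 : Fin 2).succAbove 0) = res O1 (p.preimage_mono le_top) σ from
      ProjBd.Hyper.sig_one q, res_res]
    rfl
  refine (res_pbs V.ι σ (le_rfl : O ≤ V.ι ⁻¹ᵁ (c y).W 1) hs0).trans ?_
  rw [show cV.ψ (MvPolynomial.X 0) = V.ι.app _ ((c y).ψ 1 (MvPolynomial.X 0)) from rfl, Scheme.Hom.app_eq_appLE]

/-- The deformation data of a divisor exist. -/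
theorem exists_data {W D : Scheme.{u}} [IsLocallyNoetherian W] {L : W.Modules} (hL : PicF.IsInvertible L)
    {s : Γ(L, ⊤)} {i : D ⟶ W} [IsClosedImmersion i] (hi : Cyc.IsZeroSchemeOf i L s) :
    ∃ S : Data i, Nonempty ((Scheme.Modules.pullback S.ρ).obj L ≅ S.N) := by
  obtain ⟨B⟩ := exists_bundle hL
  haveI := B.qc
  haveI := B.sep
  haveI := B.closedo
  let M := (Scheme.Modules.pullback B.π).obj L
  have hM : PicF.IsInvertible M := PicClLib.isInvertible_pullback _ hL
  have hN : PicF.IsInvertible ((Scheme.Modules.pullback (pr B.V)).obj M) := PicClLib.isInvertible_pullback _ hM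
  let z := pbs (pr B.V) B.z
  let w := pbs (pr B.V) (pbs B.π s)
  let e := time B.V • z + w
  have hπ : zeroSec B.V ≫ pr B.V ≫ B.π = B.π := by rw [← Category.assoc, zeroSec_pr, Category.id_comp]
  refine ⟨{
    Q := Line B.V
    ρ := pr B.V ≫ B.π
    V := B.V
    jV := zeroSec B.V
    closedV := inferInstance
    qcρ := inferInstance
    o := B.o
    closedo := inferInstance
    N := (Scheme.Modules.pullback (pr B.V)).obj M
    hN := hN
    z := z
    e := e
    T := time B.V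
    ho := by rw [hπ, B.ho]
    hV := isZeroSchemeOf_zeroSec B.V
    ho0 := ?_
    hD := ?_
    chartQ := fun x => ?_
    chartV := fun v => ?_ }, ⟨((Scheme.Modules.pullbackComp (pr B.V) B.π).app L).symm⟩⟩
  · refine (zero_comp (zeroSec B.V) (pr B.V) B.z).2 ?_
    have sq : IsPullback B.o (𝟙 W) (zeroSec B.V ≫ pr B.V) B.o := by
      rw [zeroSec_pr]
      exact IsPullback.of_vert_isIso ⟨by simp⟩
    exact GysinSq.isZeroSchemeOf_pb sq hM B.ho0
  · have he : pbs (zeroSec B.V) e = pbs (zeroSec B.V) w := by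
      have h1 : pbs (zeroSec B.V) (time B.V • z) = 0 := by
        rw [pbs_eq, QCoh.pullSec_smul]
        rw [show (zeroSec B.V).appLE ⊤ ⊤ le_rfl (time B.V) = 0 from
          (congr($(Scheme.Hom.app_eq_appLE (zeroSec B.V)).hom (time B.V))).symm.trans (zeroSec_time B.V), zero_smul]
      rw [show pbs (zeroSec B.V) e = pbs (zeroSec B.V) (time B.V • z) + pbs (zeroSec B.V) w from by
        rw [pbs_eq, pbs_eq, pbs_eq]; exact QCoh.pullSec_add _ _ _ _ _, h1, zero_add]
    have key : ∀ (f : B.V ⟶ W), f = B.π → Cyc.IsZeroSchemeOf (pullback.fst f i) _ (pbs (zeroSec B.V) w) := by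
      rintro _ rfl
      refine (zero_comp (zeroSec B.V) (pr B.V) (pbs B.π s)).2 ?_
      have sq : IsPullback (pullback.fst B.π i) (𝟙 _) (zeroSec B.V ≫ pr B.V) (pullback.fst B.π i) := by
        rw [zeroSec_pr]
        exact IsPullback.of_vert_isIso ⟨by simp⟩
      exact GysinSq.isZeroSchemeOf_pb sq hM
        (GysinSq.isZeroSchemeOf_pb (IsPullback.of_hasPullback B.π i) hL hi)
    exact he ▸ key _ hπ
  · obtain ⟨c, b, hv, hb, hz⟩ := B.chart (pr B.V x)
    obtain ⟨a, ha⟩ := hb.exists_coord le_rfl (res L (le_top : c.U ≤ ⊤) s)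
    rw [res_self] at ha
    let bQ : Γ((Scheme.Modules.pullback (pr B.V)).obj M, (pairChart B.V c).O) :=
      QCoh.pullSec (pr B.V) M (le_rfl : pr B.V ⁻¹ᵁ c.O ≤ _) (QCoh.pullSec B.π L c.le b)
    refine ⟨pairChart B.V c, a, bQ, hv, PBlow.isFrame_pullSec _ le_rfl (PBlow.isFrame_pullSec _ c.le hb),
      (pairChart_X0 B.V c).symm, ?_⟩
    have hzQ : res ((Scheme.Modules.pullback (pr B.V)).obj M) (le_top : (pairChart B.V c).O ≤ ⊤) z = (pairChart B.V c).ψ (MvPolynomial.X 1) • bQ :=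
      (res_pbs (pr B.V) B.z le_rfl hz).trans (congrArg (fun r : Γ(Line B.V, (pairChart B.V c).O) => r • bQ) (pairChart_X1 B.V c).symm)
    have hwQ : res ((Scheme.Modules.pullback (pr B.V)).obj M) (le_top : (pairChart B.V c).O ≤ ⊤) w = (pairChart B.V c).ψ (MvPolynomial.C a) • bQ := by
      refine (res_pbs (pr B.V) (pbs B.π s) le_rfl (res_pbs B.π s c.le ha)).trans (congrArg (fun r : Γ(Line B.V, (pairChart B.V c).O) => r • bQ) ?_)
      rw [(pairChart B.V c).ψ_C]
      show (B.π.appLE c.U c.O c.le ≫ (pr B.V).appLE c.O _ _) a = _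
      rw [Scheme.Hom.appLE_comp_appLE]
      rfl
    show res ((Scheme.Modules.pullback (pr B.V)).obj M) (le_top : (pairChart B.V c).O ≤ ⊤) (time B.V • z + w) = (pairChart B.V c).ψ (DefAlg.eqn a) • bQ
    rw [map_add, res_smul, hzQ, hwQ, DefAlg.eqn, map_add, map_mul, add_smul, mul_smul, pairChart_X0]
    rfl
  · obtain ⟨c, b, hv, hb, hz⟩ := B.chart v
    have hrange : c.O ≤ zeroSec B.V ⁻¹ᵁ (pr B.V ⁻¹ᵁ c.O) := fun x hx => by
      show (zeroSec B.V ≫ pr B.V) x ∈ c.O
      rwa [zeroSec_pr]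
    let c' : Chart (zeroSec B.V ≫ pr B.V ≫ B.π) (Fin 1) :=
      { U := c.U
        hU := c.hU
        O := c.O
        hO := c.hO
        le := by rw [hπ]; exact c.le
        ψ := c.ψ
        bij := c.bij
        ψ_C := fun r => by rw [c.ψ_C]; simp only [hπ] }
    refine ⟨c',
      QCoh.pullSec (zeroSec B.V) _ hrange (QCoh.pullSec (pr B.V) M le_rfl (QCoh.pullSec B.π L c.le b)), hv,
      PBlow.isFrame_pullSec _ hrange (PBlow.isFrame_pullSec _ le_rfl (PBlow.isFrame_pullSec _ c.le hb)), ?_⟩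
    refine (res_pbs (zeroSec B.V) z hrange (res_pbs (pr B.V) B.z le_rfl hz)).trans (congrArg (· • _) ?_)
    show ((pr B.V).appLE c.O _ _ ≫ (zeroSec B.V).appLE _ c.O hrange) (c.ψ (MvPolynomial.X 0)) = _
    rw [Scheme.Hom.appLE_comp_appLE]
    simp only [zeroSec_pr]
    simp [Scheme.Hom.appLE]
    exact congr($(B.V.presheaf.map_id _) _)

end Groth.Agent.H23.DefBundle
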