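import Groth.Agent.H23.SecZero
import Groth.Agent.H23.DefAlg
import Groth.Agent.H23.ProjBd.BaseChange
import Groth.Agent.H23.SecIso
import Groth.Agent.SeesawX.Unit

/-! Charts of a deformation of a divisor to its normal bundle, and their base change. -/

set_option autoImplicit false
set_option linter.style.haveILetI false
set_option backward.isDefEq.respectTransparency false
set_option backward.isDefEq.respectTransparency.types false

universe u

open CategoryTheory CategoryTheory.Limits AlgebraicGeometry TopologicalSpace Opposite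

noncomputable section

namespace Groth.Agent.H23.DefBundle

open Groth.Agent Groth.Agent.AModX

variable {W Q : Scheme.{u}}

/-- An affine open with polynomial coordinates over an affine open of the base. -/
structure Chart (ρ : Q ⟶ W) (σ : Type) where
  /-- the open of the base -/
  U : W.Opens
  hU : IsAffineOpen U
  /-- the open of the source -/
  O : Q.Opens
  hO : IsAffineOpen O
  le : O ≤ ρ ⁻¹ᵁ U
  /-- the coordinates -/
  ψ : MvPolynomial σ Γ(W, U) →+* Γ(Q, O)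
  bij : Function.Bijective ψ
  ψ_C : ∀ r, ψ (MvPolynomial.C r) = ρ.appLE U O le r

namespace Chart

variable {T Q' : Scheme.{u}} {g : T ⟶ W} {ρ : Q ⟶ W} {ρ' : Q' ⟶ T} {g' : Q' ⟶ Q} (sq : IsPullback g' ρ' ρ g)
  {σ : Type} (c : Chart ρ σ) (U' : T.Opens) (hU' : IsAffineOpen U') (hle : U' ≤ g ⁻¹ᵁ c.U)

/-- The base change of a chart. -/
def bc : Chart ρ' σ where
  U := U'
  hU := hU'
  O := g' ⁻¹ᵁ c.O ⊓ ρ' ⁻¹ᵁ U'
  hO := by
    haveI : IsAffine _ := c.hO
    haveI : IsAffine _ := c.hU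
    haveI : IsAffine _ := hU'
    exact .of_isIso (Scheme.Hom.isPullback_resLE sq hle c.le rfl).isoPullback.hom
  le := inf_le_right
  ψ := MvPolynomial.eval₂Hom (ρ'.appLE U' (g' ⁻¹ᵁ c.O ⊓ ρ' ⁻¹ᵁ U') inf_le_right).hom
    fun i => g'.appLE c.O (g' ⁻¹ᵁ c.O ⊓ ρ' ⁻¹ᵁ U') inf_le_left (c.ψ (MvPolynomial.X i))
  bij := ProjBd.bijective_eval₂Hom_of_isPushout
    ((isIso_pushoutSection_iff sq hle c.le rfl).1
      (isIso_pushoutSection_of_isAffineOpen sq hle c.le rfl c.hU hU' c.hO))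
    c.ψ c.bij c.ψ_C
  ψ_C r := MvPolynomial.eval₂Hom_C _ _ r

theorem bc_map (P : MvPolynomial σ Γ(W, c.U)) :
    (c.bc sq U' hU' hle).ψ (P.map (g.appLE c.U U' hle).hom) =
      g'.appLE c.O (c.bc sq U' hU' hle).O inf_le_left (c.ψ P) := by
  refine RingHom.congr_fun (MvPolynomial.ringHom_ext
    (f := (c.bc sq U' hU' hle).ψ.comp (MvPolynomial.map (g.appLE c.U U' hle).hom))
    (g := (g'.appLE c.O (c.bc sq U' hU' hle).O inf_le_left).hom.comp c.ψ) (fun r => ?_) fun i => ?_) P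
  · show (c.bc sq U' hU' hle).ψ (MvPolynomial.map _ (MvPolynomial.C r)) =
      g'.appLE c.O (c.bc sq U' hU' hle).O inf_le_left (c.ψ (MvPolynomial.C r))
    rw [MvPolynomial.map_C, Chart.ψ_C, Chart.ψ_C]
    show (g.appLE c.U U' hle ≫ ρ'.appLE U' _ _) r = (ρ.appLE c.U c.O c.le ≫ g'.appLE c.O _ _) r
    rw [Scheme.Hom.appLE_comp_appLE, Scheme.Hom.appLE_comp_appLE]
    simp only [sq.w]
  · show (c.bc sq U' hU' hle).ψ (MvPolynomial.map _ (MvPolynomial.X i)) = _
    rw [MvPolynomial.map_X]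
    exact MvPolynomial.eval₂Hom_X' _ _ i

theorem bc_X (i : σ) : (c.bc sq U' hU' hle).ψ (MvPolynomial.X i) =
    g'.appLE c.O (c.bc sq U' hU' hle).O inf_le_left (c.ψ (MvPolynomial.X i)) :=
  MvPolynomial.eval₂Hom_X' _ _ i

include sq in
theorem exists_bc {q : Q'} (hq : g' q ∈ c.O) :
    ∃ (U' : T.Opens) (hU' : IsAffineOpen U') (hle : U' ≤ g ⁻¹ᵁ c.U), q ∈ (c.bc sq U' hU' hle).O := by
  obtain ⟨U', hU', hq', hle⟩ := exists_isAffineOpen_mem_and_subset (x := ρ' q) (U := g ⁻¹ᵁ c.U)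
    (show (ρ' ≫ g) q ∈ c.U by rw [← sq.w]; exact c.le hq)
  exact ⟨U', hU', hle, hq, hq'⟩

end Chart

/-- The pull-back of a global section. -/
abbrev pbs {X Y : Scheme.{u}} (f : X ⟶ Y) {M : Y.Modules} (s : Γ(M, ⊤)) :
    Γ((Scheme.Modules.pullback f).obj M, ⊤) :=
  KFlatLib.pb f (M := M) (U := ⊤) s

theorem pbs_eq {X Y : Scheme.{u}} (f : X ⟶ Y) {M : Y.Modules} (s : Γ(M, ⊤)) :
    pbs f s = QCoh.pullSec f M (le_rfl : (⊤ : X.Opens) ≤ f ⁻¹ᵁ ⊤) s :=
  (QCoh.map_id' (M := (Scheme.Modules.pullback f).obj M) _ _).symm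

theorem res_pbs {X Y : Scheme.{u}} (f : X ⟶ Y) {M : Y.Modules} (s : Γ(M, ⊤)) {O : Y.Opens} {O' : X.Opens}
    (h : O' ≤ f ⁻¹ᵁ O) {r : Γ(Y, O)} {b : Γ(M, O)} (he : res M (le_top : O ≤ ⊤) s = r • b) :
    res _ (le_top : O' ≤ ⊤) (pbs f s) = f.appLE O O' h r • QCoh.pullSec f M h b := by
  rw [pbs_eq, PBlow.res_pullSec, ← QCoh.pullSec_smul, ← he, PBlow.pullSec_restr]

theorem hom_app_pullSec_comp {X Y Z : Scheme.{u}} (f : X ⟶ Y) (g : Y ⟶ Z) {G : Z.Modules} (x : Γ(G, ⊤)) :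
    ((Scheme.Modules.pullbackComp f g).hom.app G).app ⊤ (pbs f (pbs g x)) = pbs (f ≫ g) x := by
  rw [pbs_eq g, pbs_eq f, pbs_eq (f ≫ g)]
  exact ExistEasy.pullSec_comp f g G (le_rfl : (⊤ : Y.Opens) ≤ g ⁻¹ᵁ ⊤) (le_rfl : (⊤ : X.Opens) ≤ f ⁻¹ᵁ ⊤) x

theorem zero_comp {X Y Z E : Scheme.{u}} (f : X ⟶ Y) (g : Y ⟶ Z) {G : Z.Modules} (x : Γ(G, ⊤)) {j : E ⟶ X} :
    Cyc.IsZeroSchemeOf j _ (pbs f (pbs g x)) ↔ Cyc.IsZeroSchemeOf j _ (pbs (f ≫ g) x) := by
  let e := (Scheme.Modules.pullbackComp f g).app G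
  constructor
  · intro h
    have h' := RatSec.isZeroSchemeOf_mapIso e h
    rwa [show e.hom.app ⊤ (pbs f (pbs g x)) = pbs (f ≫ g) x from hom_app_pullSec_comp f g x] at h'
  · intro h
    have h' := RatSec.isZeroSchemeOf_mapIso e.symm h
    rwa [← hom_app_pullSec_comp f g x, show e.symm.hom.app ⊤ (((Scheme.Modules.pullbackComp f g).hom.app G).app ⊤
      (pbs f (pbs g x))) = pbs f (pbs g x) from congrArg (fun φ => Scheme.Modules.Hom.app φ ⊤ (pbs f (pbs g x))) e.hom_inv_id] at h'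

theorem zero_congr {X Y Y' Z E : Scheme.{u}} {f : X ⟶ Y} {g : Y ⟶ Z} {f' : X ⟶ Y'} {g' : Y' ⟶ Z}
    (w : f ≫ g = f' ≫ g') {G : Z.Modules} (x : Γ(G, ⊤)) {j : E ⟶ X}
    (h : Cyc.IsZeroSchemeOf j _ (pbs f (pbs g x))) : Cyc.IsZeroSchemeOf j _ (pbs f' (pbs g' x)) := by
  rw [zero_comp] at h ⊢
  exact w ▸ h

/-- The deformation data of a closed subscheme to its normal bundle. -/
structure Data {D : Scheme.{u}} (i : D ⟶ W) where
  /-- the ambient space -/
  Q : Scheme.{u}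
  /-- its structure morphism -/
  ρ : Q ⟶ W
  /-- the bundle -/
  V : Scheme.{u}
  /-- its inclusion at time zero -/
  jV : V ⟶ Q
  closedV : IsClosedImmersion jV
  qcρ : QuasiCompact ρ
  /-- the zero section -/
  o : W ⟶ V
  closedo : IsClosedImmersion o
  /-- the line bundle -/
  N : Q.Modules
  hN : PicF.IsInvertible N
  /-- the tautological section -/
  z : Γ(N, ⊤)
  /-- the equation -/
  e : Γ(N, ⊤)
  /-- the time -/
  T : Γ(Q, ⊤)
  ho : o ≫ jV ≫ ρ = 𝟙 W
  hV : Cyc.IsZeroSchemeOf jV (Coh.structureModule Q) T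
  ho0 : Cyc.IsZeroSchemeOf o _ (pbs jV z)
  hD : Cyc.IsZeroSchemeOf (pullback.fst (jV ≫ ρ) i) _ (pbs jV e)
  chartQ : ∀ q : Q, ∃ (c : Chart ρ (Fin 2)) (a : Γ(W, c.U)) (b : Γ(N, c.O)), q ∈ c.O ∧ InvX.IsFrame b ∧
    resR (le_top : c.O ≤ ⊤) T = c.ψ (MvPolynomial.X 0) ∧ res N (le_top : c.O ≤ ⊤) e = c.ψ (DefAlg.eqn a) • b
  chartV : ∀ v : V, ∃ (c : Chart (jV ≫ ρ) (Fin 1)) (b : Γ((Scheme.Modules.pullback jV).obj N, c.O)),
    v ∈ c.O ∧ InvX.IsFrame b ∧
      res _ (le_top : c.O ≤ ⊤) (pbs jV z) = c.ψ (MvPolynomial.X 0) • b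

attribute [instance] Data.closedV Data.closedo Data.qcρ

theorem resR_appTop {X Y : Scheme.{u}} (f : X ⟶ Y) {O : Y.Opens} {O' : X.Opens} (h : O' ≤ f ⁻¹ᵁ O) (T : Γ(Y, ⊤)) :
    f.appLE O O' h (resR (le_top : O ≤ ⊤) T) = resR (le_top : O' ≤ ⊤) (f.appTop T) := by
  show (Y.presheaf.map _ ≫ f.appLE O O' h) T = (f.appTop ≫ X.presheaf.map _) T
  rw [Scheme.Hom.map_appLE, Scheme.Hom.appTop, Scheme.Hom.appLE]

theorem zero_structure {X Y E : Scheme.{u}} (f : X ⟶ Y) (T : Γ(Y, ⊤)) {j : E ⟶ X}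
    (h : Cyc.IsZeroSchemeOf j _ (pbs f (M := Coh.structureModule Y) T)) :
    Cyc.IsZeroSchemeOf j (Coh.structureModule X) (f.appTop T) := by
  have h' := RatSec.isZeroSchemeOf_mapIso (SeesawX.unitIso f) h
  let one : Γ(Coh.structureModule Y, ⊤) := (1 : Γ(Y, ⊤))
  have e : (SeesawX.unitIso f).hom.app ⊤ (pbs f (M := Coh.structureModule Y) T) =
      (show Γ(Coh.structureModule X, ⊤) from f.appTop T) := by
    rw [show pbs f (M := Coh.structureModule Y) T =
        f.appLE ⊤ ⊤ le_rfl T • QCoh.pullSec f (Coh.structureModule Y) (le_rfl : (⊤ : X.Opens) ≤ f ⁻¹ᵁ ⊤) one by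
      rw [pbs_eq, ← QCoh.pullSec_smul]
      exact congrArg _ (mul_one (T : Γ(Y, ⊤))).symm,
      Scheme.Modules.Hom.app_smul, SeesawX.unitIso_pullSec_one]
    show f.appLE ⊤ ⊤ le_rfl T * 1 = f.appTop T
    rw [mul_one]
    exact congr($(Scheme.Hom.app_eq_appLE f).hom T).symm
  rwa [e] at h'

namespace Data

variable {D D' T' : Scheme.{u}} {i : D ⟶ W} (S : Data i) {g : T' ⟶ W} {q : D' ⟶ D} {i' : D' ⟶ T'}
  (sqD : IsPullback q i' i g)

/-- The ambient space of the base change. -/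
abbrev bcQ (g : T' ⟶ W) : Scheme.{u} := pullback S.ρ g

/-- The bundle of the base change. -/
abbrev bcV (g : T' ⟶ W) : Scheme.{u} := pullback S.jV (pullback.fst S.ρ g)

theorem sqV (g : T' ⟶ W) : IsPullback (pullback.fst S.jV (pullback.fst S.ρ g))
    (pullback.snd S.jV (pullback.fst S.ρ g) ≫ pullback.snd S.ρ g) (S.jV ≫ S.ρ) g :=
  (IsPullback.of_hasPullback _ _).paste_vert (IsPullback.of_hasPullback _ _)

/-- The zero section of the base change. -/
def bco (g : T' ⟶ W) : T' ⟶ S.bcV g :=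
  (S.sqV g).lift (g ≫ S.o) (𝟙 T') (by rw [Category.assoc, S.ho, Category.comp_id, Category.id_comp])

theorem bco_fst (g : T' ⟶ W) : S.bco g ≫ pullback.fst S.jV (pullback.fst S.ρ g) = g ≫ S.o :=
  (S.sqV g).lift_fst _ _ _

theorem bco_snd (g : T' ⟶ W) :
    S.bco g ≫ pullback.snd S.jV (pullback.fst S.ρ g) ≫ pullback.snd S.ρ g = 𝟙 T' :=
  (S.sqV g).lift_snd _ _ _

theorem sqo (g : T' ⟶ W) : IsPullback (S.bco g) g (pullback.fst S.jV (pullback.fst S.ρ g)) S.o :=
  (IsPullback.of_bot (by rw [S.bco_snd, S.ho]; exact IsPullback.of_vert_isIso ⟨by simp⟩) (S.bco_fst g).symm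
    (S.sqV g)).flip

/-- The base change of the data. -/
def bc [IsClosedImmersion i] : Data i' where
  Q := S.bcQ g
  ρ := pullback.snd S.ρ g
  V := S.bcV g
  jV := pullback.snd S.jV (pullback.fst S.ρ g)
  closedV := haveI := S.closedV; inferInstance
  qcρ := haveI := S.qcρ; inferInstance
  o := S.bco g
  closedo := haveI := S.closedo; MorphismProperty.of_isPullback (P := @IsClosedImmersion) (S.sqo g).flip inferInstance
  N := (Scheme.Modules.pullback (pullback.fst S.ρ g)).obj S.N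
  hN := PicClLib.isInvertible_pullback _ S.hN
  z := pbs (pullback.fst S.ρ g) S.z
  e := pbs (pullback.fst S.ρ g) S.e
  T := (pullback.fst S.ρ g).appTop S.T
  ho := S.bco_snd g
  hV := zero_structure _ S.T (GysinSq.isZeroSchemeOf_pb (IsPullback.of_hasPullback S.jV (pullback.fst S.ρ g)).flip
    (InvX.isInvertible_structureModule (X := S.Q)) S.hV)
  ho0 := zero_congr (pullback.condition (f := S.jV) (g := pullback.fst S.ρ g)) S.z
    (GysinSq.isZeroSchemeOf_pb (S.sqo g) (PicClLib.isInvertible_pullback _ S.hN) S.ho0)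
  hD := by
    refine zero_congr (pullback.condition (f := S.jV) (g := pullback.fst S.ρ g)) S.e ?_
    let ρV' := pullback.snd S.jV (pullback.fst S.ρ g) ≫ pullback.snd S.ρ g
    let l : pullback ρV' i' ⟶ pullback (S.jV ≫ S.ρ) i := pullback.lift
      (pullback.fst ρV' i' ≫ pullback.fst S.jV (pullback.fst S.ρ g)) (pullback.snd ρV' i' ≫ q)
      (by rw [Category.assoc, (S.sqV g).w, ← Category.assoc, pullback.condition, Category.assoc, Category.assoc, sqD.w])
    have houter : IsPullback (pullback.snd ρV' i' ≫ q) (pullback.fst ρV' i') i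
        (pullback.fst S.jV (pullback.fst S.ρ g) ≫ S.jV ≫ S.ρ) := by
      rw [(S.sqV g).w]
      exact (IsPullback.of_hasPullback ρV' i').flip.paste_horiz sqD
    have h3 : IsPullback (pullback.fst ρV' i') l (pullback.fst S.jV (pullback.fst S.ρ g))
        (pullback.fst (S.jV ≫ S.ρ) i) :=
      (IsPullback.of_right (by rw [pullback.lift_snd]; exact houter) (pullback.lift_fst _ _ _)
        (IsPullback.of_hasPullback _ _).flip).flip
    exact GysinSq.isZeroSchemeOf_pb h3 (PicClLib.isInvertible_pullback _ S.hN) S.hD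
  chartQ x := by
    obtain ⟨c, a, b, hx, hb, hT, he⟩ := S.chartQ (pullback.fst S.ρ g x)
    obtain ⟨U', hU', hle, hx'⟩ := c.exists_bc (IsPullback.of_hasPullback S.ρ g) hx
    refine ⟨c.bc (IsPullback.of_hasPullback S.ρ g) U' hU' hle, g.appLE c.U U' hle a, _, hx',
      PBlow.isFrame_pullSec _ inf_le_left hb, ?_, ?_⟩
    · rw [Chart.bc_X, ← hT]
      exact (resR_appTop (pullback.fst S.ρ g) inf_le_left S.T).symm
    · refine (res_pbs (pullback.fst S.ρ g) S.e inf_le_left he).trans (congrArg (· • _) ?_)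
      refine (Chart.bc_map (IsPullback.of_hasPullback S.ρ g) c U' hU' hle _).symm.trans (congrArg _ ?_)
      simp [DefAlg.eqn]
      rfl
  chartV x := by
    obtain ⟨c, b, hx, hb, hz⟩ := S.chartV (pullback.fst S.jV (pullback.fst S.ρ g) x)
    obtain ⟨U', hU', hle, hx'⟩ := c.exists_bc (S.sqV g) hx
    let e := (Scheme.Modules.pullbackComp (pullback.fst S.jV (pullback.fst S.ρ g)) S.jV).app S.N ≪≫
      (Scheme.Modules.pullbackCongr (pullback.condition (f := S.jV) (g := pullback.fst S.ρ g))).app S.N ≪≫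
      ((Scheme.Modules.pullbackComp (pullback.snd S.jV (pullback.fst S.ρ g)) (pullback.fst S.ρ g)).app S.N).symm
    refine ⟨c.bc (S.sqV g) U' hU' hle, e.hom.app _ (QCoh.pullSec _ _ inf_le_left b), hx',
      (PBlow.isFrame_pullSec _ inf_le_left hb).map_iso e, ?_⟩
    have h1 := res_pbs (pullback.fst S.jV (pullback.fst S.ρ g)) (pbs S.jV S.z)
      (inf_le_left : (c.bc (S.sqV g) U' hU' hle).O ≤ _) hz
    refine Eq.trans ?_ (Scheme.Modules.Hom.app_smul e.hom _ _)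
    refine Eq.trans ?_ (congrArg _ (h1.trans (congrArg (fun r => r • QCoh.pullSec _ _ _ b) (Chart.bc_X (S.sqV g) c U' hU' hle 0).symm)))
    refine Eq.trans ?_ (app_res e.hom _ _).symm
    refine congrArg _ ?_
    have hc : ∀ {f f' : S.bcV g ⟶ S.Q} (w : f = f'),
        ((Scheme.Modules.pullbackCongr w).app S.N).hom.app ⊤ (pbs f S.z) = pbs f' S.z := by
      rintro f _ rfl
      simp [Scheme.Modules.pullbackCongr]
    refine Eq.trans ?_ (congrArg (fun u => ((Scheme.Modules.pullbackComp (pullback.snd S.jV (pullback.fst S.ρ g))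
      (pullback.fst S.ρ g)).app S.N).inv.app ⊤ u)
      ((hc (pullback.condition (f := S.jV) (g := pullback.fst S.ρ g))).symm.trans
        (congrArg _ (hom_app_pullSec_comp (pullback.fst S.jV (pullback.fst S.ρ g)) S.jV S.z).symm)))
    rw [← hom_app_pullSec_comp (pullback.snd S.jV (pullback.fst S.ρ g)) (pullback.fst S.ρ g) S.z]
    exact (congrArg (fun φ => Scheme.Modules.Hom.app φ ⊤ _)
      ((Scheme.Modules.pullbackComp (pullback.snd S.jV (pullback.fst S.ρ g)) (pullback.fst S.ρ g)).app S.N).hom_inv_id).symm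

end Data

end Groth.Agent.H23.DefBundle
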