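import Groth.Agent.H23.DefData
import Groth.Agent.H23.HomotopyFibre
import Groth.Agent.H23.FlatShift
import Groth.Agent.H23.SetupLFT
import Groth.Agent.H23.ChowDesc
import Groth.Agent.FibDim.AffineSpaceFibre
import Groth.Agent.Synt29.Standard
import Mathlib.RingTheory.Ideal.KrullsHeightTheorem

/-! Flatness and relative dimension of hypersurfaces in polynomial charts. -/

set_option autoImplicit false
set_option linter.style.haveILetI false
set_option backward.isDefEq.respectTransparency false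
set_option backward.isDefEq.respectTransparency.types false

universe u

open CategoryTheory CategoryTheory.Limits AlgebraicGeometry TopologicalSpace Opposite IsLocalRing

noncomputable section

namespace Groth.Agent.H23.DefBundle

open Groth.Agent Groth.Agent.AModX RatSec

variable {W Q : Scheme.{u}} {ρ : Q ⟶ W} {n : ℕ}

theorem Chart.exists_iso (c : Chart ρ (Fin n)) :
    ∃ e : (↑c.O : Scheme.{u}) ≅ 𝔸(ULift.{u} (Fin n); (↑c.U : Scheme.{u})),
      e.hom ≫ (𝔸(ULift.{u} (Fin n); (↑c.U : Scheme.{u})) ↘ (↑c.U : Scheme.{u})) ≫ c.U.ι = c.O.ι ≫ ρ := by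
  let R := Γ(W, c.U)
  let em : MvPolynomial (ULift.{u} (Fin n)) R →+* Γ(Q, c.O) :=
    c.ψ.comp (MvPolynomial.renameEquiv R Equiv.ulift).toRingEquiv.toRingHom
  have hem : Function.Bijective em := c.bij.comp (MvPolynomial.renameEquiv R Equiv.ulift).bijective
  have hC : ∀ r, em (MvPolynomial.C r) = ρ.appLE c.U c.O c.le r := fun r => by
    rw [show em (MvPolynomial.C r) = c.ψ (MvPolynomial.rename Equiv.ulift (MvPolynomial.C r)) from rfl,
      MvPolynomial.rename_C, c.ψ_C]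
  let a : CommRingCat.of (MvPolynomial (ULift.{u} (Fin n)) R) ≅ Γ(Q, c.O) := (RingEquiv.ofBijective em hem).toCommRingCatIso
  haveI : IsIso (AffineSpace.map (ULift.{u} (Fin n)) c.hU.isoSpec.inv) :=
    ⟨AffineSpace.map (ULift.{u} (Fin n)) c.hU.isoSpec.hom, by rw [← AffineSpace.map_comp, Iso.inv_hom_id, AffineSpace.map_id],
      by rw [← AffineSpace.map_comp, Iso.hom_inv_id, AffineSpace.map_id]⟩
  refine ⟨c.hO.isoSpec ≪≫ (Scheme.Spec.mapIso a.op) ≪≫ (AffineSpace.SpecIso (ULift.{u} (Fin n)) R).symm ≪≫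
    asIso (AffineSpace.map (ULift.{u} (Fin n)) c.hU.isoSpec.inv), ?_⟩
  simp only [Iso.trans_hom, Category.assoc, Iso.symm_hom, asIso_hom, AffineSpace.map_over_assoc,
    AffineSpace.SpecIso_inv_over_assoc, Functor.mapIso_hom, Scheme.Spec_map, Iso.op_hom, Quiver.Hom.unop_op]
  rw [IsAffineOpen.isoSpec_inv_ι, ← Spec.map_comp_assoc,
    show CommRingCat.ofHom (MvPolynomial.C : R →+* MvPolynomial (ULift.{u} (Fin n)) R) ≫ a.hom = ρ.appLE c.U c.O c.le from
      CommRingCat.hom_ext (RingHom.ext hC),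
    IsAffineOpen.SpecMap_appLE_fromSpec ρ c.hU c.hO c.le, IsAffineOpen.isoSpec_hom_fromSpec_assoc]

theorem lft_of_charts (hcov : ∀ q : Q, ∃ c : Chart ρ (Fin n), q ∈ c.O) : LocallyOfFiniteType ρ := by
  choose c hc using hcov
  refine IsZariskiLocalAtSource.of_iSup_eq_top (fun q => (c q).O)
    (eq_top_iff.2 fun q _ => Opens.mem_iSup.2 ⟨q, hc q⟩) fun q => ?_
  obtain ⟨e, he⟩ := (c q).exists_iso
  rw [← he]
  infer_instance

theorem flat_of_charts (hcov : ∀ q : Q, ∃ c : Chart ρ (Fin n), q ∈ c.O) : Flat ρ := by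
  choose c hc using hcov
  refine IsZariskiLocalAtSource.of_iSup_eq_top (fun q => (c q).O)
    (eq_top_iff.2 fun q _ => Opens.mem_iSup.2 ⟨q, hc q⟩) fun q => ?_
  obtain ⟨e, he⟩ := (c q).exists_iso
  rw [← he]
  infer_instance

namespace Chart

variable (c : Chart ρ (Fin n))

theorem rd_eq [LocallyOfFiniteType ρ] {x : Q} (hx : x ∈ c.O) :
    FibDim.rd ρ x ≤ n ∧ (FibDim.FibMax ρ x → FibDim.rd ρ x = n) := by
  obtain ⟨e, he⟩ := c.exists_iso
  let x' : (↑c.O : Scheme.{u}) := ⟨x, hx⟩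
  let a := (𝔸(ULift.{u} (Fin n); (↑c.U : Scheme.{u})) ↘ (↑c.U : Scheme.{u}))
  have h2 : FibDim.rd ρ x = FibDim.rd (e.hom ≫ a) x' :=
    Synt29.rd_comp_openImmersion ρ (e.hom ≫ a) c.O.ι c.U.ι (by rw [Category.assoc, he]) x'
  rw [h2, Homotopy.rd_iso_comp]
  refine ⟨FibDim.rd_affineSpace_le n _, fun hmax => FibDim.rd_affineSpace_fibMax n ((Homotopy.fibMax_iso_comp e a x').1 ?_)⟩
  have hc : ∀ w, ρ (c.O.ι w) = c.U.ι ((e.hom ≫ a) w) := fun w => by
    rw [← Scheme.Hom.comp_apply, ← Scheme.Hom.comp_apply, Category.assoc, he]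
  exact (FlatShift.fibMax_iff _ x').2 fun w hw hs => c.O.ι.isOpenEmbedding.injective
    ((FlatShift.fibMax_iff ρ x).1 hmax _ (by rw [hc, hw, ← hc]; rfl) (hs.map c.O.ι.continuous))

/-- The prime of a point. -/
def pr {x : Q} (hx : x ∈ c.O) : Ideal (MvPolynomial (Fin n) Γ(W, c.U)) :=
  (c.hO.primeIdealOf ⟨x, hx⟩).asIdeal.comap c.ψ

instance {x : Q} (hx : x ∈ c.O) : (c.pr hx).IsPrime := Ideal.IsPrime.comap _

theorem pr_comap_C {x : Q} (hx : x ∈ c.O) :
    (c.pr hx).comap MvPolynomial.C = (c.hU.primeIdealOf ⟨ρ x, c.le hx⟩).asIdeal := by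
  rw [pr, Ideal.comap_comap, show c.ψ.comp MvPolynomial.C = (ρ.appLE c.U c.O c.le).hom from RingHom.ext c.ψ_C,
    ← IsAffineOpen.comap_primeIdealOf_appLE c.U c.hU c.O c.hO c.le hx]
  rfl

theorem exists_point (P : Ideal (MvPolynomial (Fin n) Γ(W, c.U))) [P.IsPrime] :
    ∃ (z : Q) (hz : z ∈ c.O), c.pr hz = P := by
  let e := RingEquiv.ofBijective c.ψ c.bij
  obtain ⟨z, hz, h⟩ := ProjBd.exists_point_of_prime c.hO ⟨P.comap e.symm.toRingHom, inferInstance⟩
  refine ⟨z, hz, ?_⟩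
  rw [pr, h]
  ext f
  show e.symm (c.ψ f) ∈ P ↔ f ∈ P
  rw [show c.ψ f = e f from rfl, RingEquiv.symm_apply_apply]

theorem specializes_iff {z w : Q} (hz : z ∈ c.O) (hw : w ∈ c.O) : z ⤳ w ↔ c.pr hz ≤ c.pr hw := by
  rw [ProjBd.specializes_iff_prime c.hO hz hw]
  refine ⟨fun h => Ideal.comap_mono h, fun h f hf => ?_⟩
  obtain ⟨g, rfl⟩ := c.bij.2 f
  exact h hf

theorem eq_of_pr_eq {z w : Q} (hz : z ∈ c.O) (hw : w ∈ c.O) (h : c.pr hz = c.pr hw) : z = w :=
  (((c.specializes_iff hz hw).2 h.le).antisymm ((c.specializes_iff hw hz).2 h.ge)).eq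

theorem mem_pr_of_ker {Z : Scheme.{u}} (j : Z ⟶ Q) (z : Z) (hz : j z ∈ c.O) {f : MvPolynomial (Fin n) Γ(W, c.U)}
    (h : Q.presheaf.germ c.O (j z) hz (c.ψ f) ∈ RingHom.ker (j.stalkMap z).hom) : f ∈ c.pr hz := by
  show c.ψ f ∈ (c.hO.primeIdealOf ⟨j z, hz⟩).asIdeal
  by_contra hn
  have hu := ((Q.mem_basicOpen _ _ hz).1 ((ProjBd.mem_basicOpen_iff c.hO hz _).2 hn)).map (j.stalkMap z).hom
  rw [RingHom.mem_ker.1 h] at hu
  exact not_isUnit_zero hu

theorem eq_zero_germ {x : Q} (hx : x ∈ c.O) {f : MvPolynomial (Fin n) Γ(W, c.U)} (hf : ∀ g, g * f = 0 → g = 0)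
    (r : Q.presheaf.stalk x) (h : r * Q.presheaf.germ c.O x hx (c.ψ f) = 0) : r = 0 := by
  have hnz : c.ψ f ∈ nonZeroDivisors Γ(Q, c.O) := mem_nonZeroDivisors_iff_right.2 fun g hg => by
    obtain ⟨g, rfl⟩ := c.bij.2 g
    rw [hf g (c.bij.1 (by rw [map_mul, hg, map_zero])), map_zero]
  exact mem_nonZeroDivisors_iff_right.1 (CDivEq.germ_mem_nonZeroDivisors ⟨c.O, c.hO⟩ hx hnz) r h

end Chart

/-- A point of a scheme over a chart where the equation is the given polynomial. -/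
def CutBy (ρ : Q ⟶ W) {Z : Scheme.{u}} (j : Z ⟶ Q) (n : ℕ) (z : Z) : Prop :=
  ∃ (c : Chart ρ (Fin n)) (hz : j z ∈ c.O) (f : MvPolynomial (Fin n) Γ(W, c.U)),
    (∀ (z' : Z) (hz' : j z' ∈ c.O),
      RingHom.ker (j.stalkMap z').hom = Ideal.span {Q.presheaf.germ c.O (j z') hz' (c.ψ f)}) ∧
    (∀ (x : Q) (hx : x ∈ c.O), c.ψ f ∈ (c.hO.primeIdealOf ⟨x, hx⟩).asIdeal → x ∈ Set.range j) ∧
    Module.Flat Γ(W, c.U) (MvPolynomial (Fin n) Γ(W, c.U) ⧸ Ideal.span {f}) ∧
    ∀ P : Ideal Γ(W, c.U), P.IsPrime → f ∉ P.map MvPolynomial.C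

theorem cutBy_of_zeroScheme {Z : Scheme.{u}} {j : Z ⟶ Q} {N : Q.Modules} (hN : PicF.IsInvertible N) {s : Γ(N, ⊤)}
    (hj : Cyc.IsZeroSchemeOf j N s) (c : Chart ρ (Fin n)) {b : Γ(N, c.O)} (hb : InvX.IsFrame b)
    {f : MvPolynomial (Fin n) Γ(W, c.U)} (he : res N (le_top : c.O ≤ ⊤) s = c.ψ f • b) {z : Z} (hz : j z ∈ c.O)
    (hflat : Module.Flat Γ(W, c.U) (MvPolynomial (Fin n) Γ(W, c.U) ⧸ Ideal.span {f}))
    (hP : ∀ P : Ideal Γ(W, c.U), P.IsPrime → f ∉ P.map MvPolynomial.C) : CutBy ρ j n z := by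
  have hg : ∀ (x : Q) (hx : x ∈ c.O),
      N.presheaf.germ ⊤ x trivial s = Q.presheaf.germ c.O x hx (c.ψ f) • N.presheaf.germ c.O x hx b := fun x hx => by
    have h := congrArg (N.presheaf.germ c.O x hx) he
    erw [QCoh.germ_smul' N hx] at h
    rw [InvX.germ_res'] at h
    exact h
  refine ⟨c, hz, f, fun z' hz' => ?_, fun x hx hmem => hj.1.ge ?_, hflat, hP⟩
  · rw [SecZero.ker_eq hN hj z', SecZero.valIdeal_eq (isGen_germ hb _ hz') (hg _ hz')]
  · show cls N x _ = 0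
    rw [hg x hx, cls_smul, ← not_ne_iff, ← residue_ne_zero (isGen_germ hb x hx), not_ne_iff]
    refine (IsLocalRing.residue_eq_zero_iff (Q.presheaf.germ c.O x hx (c.ψ f))).2 ?_
    rw [mem_maximalIdeal, mem_nonunits_iff, ← Q.mem_basicOpen _ _ hx, ProjBd.mem_basicOpen_iff c.hO hx, not_not]
    exact hmem

theorem flat_of_cutBy {Z : Scheme.{u}} (j : Z ⟶ Q) [IsClosedImmersion j] (h : ∀ z, CutBy ρ j n z) :
    Flat (j ≫ ρ) := by
  refine Flat.of_stalkMap _ fun z => ?_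
  obtain ⟨c, hz, f, hker, -, hflat, -⟩ := h z
  let R := Γ(W, c.U)
  let B := MvPolynomial (Fin n) R
  let w := ρ (j z)
  have hw : w ∈ c.U := c.le hz
  let φ : B →+* Z.presheaf.stalk z := (j.stalkMap z).hom.comp ((Q.presheaf.germ c.O (j z) hz).hom.comp c.ψ)
  let p : Ideal B := c.pr hz
  let Bf := B ⧸ Ideal.span {f}
  let ev : B →+* Q.presheaf.stalk (j z) := (Q.presheaf.germ c.O (j z) hz).hom.comp c.ψ
  letI algQ : Algebra B (Q.presheaf.stalk (j z)) := ev.toAlgebra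
  haveI : IsLocalization p.primeCompl (Q.presheaf.stalk (j z)) := by
    letI := Q.presheaf.algebra_section_stalk (U := c.O) ⟨j z, hz⟩
    haveI := c.hO.isLocalization_stalk ⟨j z, hz⟩
    have hev : ∀ g, (algebraMap B (Q.presheaf.stalk (j z))) g = algebraMap Γ(Q, c.O) _ (c.ψ g) := fun g => rfl
    constructor
    refine ⟨fun ⟨g, hg⟩ => ?_, fun o => ?_, fun {g g'} he => ?_⟩
    · rw [hev]
      exact IsLocalization.map_units _ (⟨c.ψ g, hg⟩ : (c.hO.primeIdealOf ⟨j z, hz⟩).asIdeal.primeCompl)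
    · obtain ⟨⟨a, m⟩, hm⟩ := IsLocalization.surj (c.hO.primeIdealOf ⟨j z, hz⟩).asIdeal.primeCompl o
      obtain ⟨a, rfl⟩ := c.bij.2 a
      obtain ⟨m', hm'⟩ := c.bij.2 m.1
      exact ⟨(a, ⟨m', by show c.ψ m' ∉ (c.hO.primeIdealOf ⟨j z, hz⟩).asIdeal; rw [hm']; exact m.2⟩), by rw [hev, hev]; exact (congrArg (fun u => o * algebraMap _ _ u) hm').trans hm⟩
    · rw [hev, hev] at he
      obtain ⟨m, hm⟩ := IsLocalization.exists_of_eq (M := (c.hO.primeIdealOf ⟨j z, hz⟩).asIdeal.primeCompl) he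
      obtain ⟨m', hm'⟩ := c.bij.2 m.1
      exact ⟨⟨m', by show c.ψ m' ∉ (c.hO.primeIdealOf ⟨j z, hz⟩).asIdeal; rw [hm']; exact m.2⟩, c.bij.1 (by rw [map_mul, map_mul, hm', hm])⟩
  have hkerφ : Ideal.span {f} ≤ RingHom.ker φ := (Ideal.span_singleton_le_iff_mem _).2 (by
    show (j.stalkMap z).hom (ev f) = 0
    rw [← RingHom.mem_ker, hker z hz]
    exact Ideal.mem_span_singleton_self _)
  letI : Algebra Bf (Z.presheaf.stalk z) := (Ideal.Quotient.lift (Ideal.span {f}) φ hkerφ).toAlgebra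
  have halg : ∀ g, algebraMap Bf (Z.presheaf.stalk z) (Ideal.Quotient.mk _ g) = (j.stalkMap z).hom (ev g) :=
    fun g => rfl
  haveI : IsLocalization (p.primeCompl.map (Ideal.Quotient.mk (Ideal.span {f}))) (Z.presheaf.stalk z) := by
    constructor
    refine ⟨?_, fun o => ?_, fun {g g'} he => ?_⟩
    · rintro ⟨_, g, hg, rfl⟩
      rw [halg]
      exact (IsLocalization.map_units (Q.presheaf.stalk (j z)) (⟨g, hg⟩ : p.primeCompl)).map _
    · obtain ⟨o, rfl⟩ := j.stalkMap_surjective z o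
      obtain ⟨⟨g, m⟩, hm⟩ := IsLocalization.surj p.primeCompl o
      refine ⟨(Ideal.Quotient.mk _ g, ⟨_, m.1, m.2, rfl⟩), ?_⟩
      rw [halg, halg]
      exact (map_mul _ _ _).symm.trans (congrArg _ hm)
    · obtain ⟨g, rfl⟩ := Ideal.Quotient.mk_surjective g
      obtain ⟨g', rfl⟩ := Ideal.Quotient.mk_surjective g'
      rw [halg, halg, ← sub_eq_zero, ← map_sub, ← RingHom.mem_ker, hker z hz, ← map_sub] at he
      rw [show ({Q.presheaf.germ c.O (j z) hz (c.ψ f)} : Set (Q.presheaf.stalk (j z))) = ev '' {f} from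
        (Set.image_singleton (f := ⇑ev) (a := f)).symm, ← Ideal.map_span] at he
      obtain ⟨m, hm, hmem⟩ :=
        (IsLocalization.algebraMap_mem_map_algebraMap_iff p.primeCompl (Q.presheaf.stalk (j z)) _ (g - g')).1 he
      refine ⟨⟨_, m, hm, rfl⟩, ?_⟩
      show Ideal.Quotient.mk _ m * Ideal.Quotient.mk _ g = Ideal.Quotient.mk _ m * Ideal.Quotient.mk _ g'
      rw [← map_mul, ← map_mul]
      exact (Submodule.Quotient.eq _).2 (by rw [← mul_sub]; exact hmem)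
  haveI : Module.Flat Bf (Z.presheaf.stalk z) :=
    IsLocalization.flat _ (p.primeCompl.map (Ideal.Quotient.mk (Ideal.span {f})))
  letI : Algebra R (Z.presheaf.stalk z) := ((algebraMap Bf (Z.presheaf.stalk z)).comp (algebraMap R Bf)).toAlgebra
  haveI : IsScalarTower R Bf (Z.presheaf.stalk z) := ⟨fun r x y => by
    obtain ⟨x, rfl⟩ := Ideal.Quotient.mk_surjective x
    show algebraMap Bf (Z.presheaf.stalk z) (Ideal.Quotient.mk _ (r • x)) * y =
      algebraMap R (Z.presheaf.stalk z) r * (algebraMap Bf (Z.presheaf.stalk z) (Ideal.Quotient.mk _ x) * y)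
    rw [MvPolynomial.smul_eq_C_mul, map_mul, map_mul, mul_assoc]
    rfl⟩
  haveI : Module.Flat R Bf := hflat
  haveI hflatR : Module.Flat R (Z.presheaf.stalk z) := Module.Flat.trans R Bf (Z.presheaf.stalk z)
  letI := W.presheaf.algebra_section_stalk (U := c.U) ⟨w, hw⟩
  haveI := c.hU.isLocalization_stalk ⟨w, hw⟩
  have key : ((ρ.stalkMap (j z)) ≫ (j.stalkMap z)).hom.Flat := by
    letI : Algebra (W.presheaf.stalk w) (Z.presheaf.stalk z) := ((ρ.stalkMap (j z)) ≫ (j.stalkMap z)).hom.toAlgebra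
    haveI : IsScalarTower R (W.presheaf.stalk w) (Z.presheaf.stalk z) := IsScalarTower.of_algebraMap_eq' (RingHom.ext fun r => by
      show (j.stalkMap z).hom (ev (MvPolynomial.C r)) = (j.stalkMap z).hom ((ρ.stalkMap (j z)).hom _)
      refine congrArg (j.stalkMap z).hom ?_
      show Q.presheaf.germ c.O (j z) hz (c.ψ (MvPolynomial.C r)) = _
      rw [c.ψ_C]
      refine (Q.presheaf.germ_res_apply _ _ _ _).trans ?_
      exact (Scheme.Hom.germ_stalkMap_apply ρ c.U (j z) hw r).symm)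
    exact (Module.flat_iff_of_isLocalization (W.presheaf.stalk w)
      (c.hU.primeIdealOf ⟨w, hw⟩).asIdeal.primeCompl (Z.presheaf.stalk z)).2 hflatR
  rw [← Scheme.Hom.stalkMap_comp] at key
  exact key

theorem hasRelDim_of_cutBy [LocallyOfFiniteType ρ] [IsLocallyNoetherian W] {δ : W → ℤ} (hW : Cyc.IsSetup W δ)
    {Z : Scheme.{u}} (j : Z ⟶ Q) [IsClosedImmersion j] {m : ℕ} (h : ∀ z, CutBy ρ j (m + 1) z) :
    Cyc.HasRelDim (j ≫ ρ) m := by
  haveI : LocallyOfFiniteType (j ≫ ρ) := inferInstance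
  refine (CycLib.hasRelDim_iff (j ≫ ρ)).2 fun z hmax => ?_
  obtain ⟨c, hz, f, hker, hrange, -, hP⟩ := h z
  let δQ : Q → ℤ := fun y => δ (ρ y) + FibDim.rd ρ y
  have hdQ : Cyc.IsDimFun Q δQ := (SetupLFT.isSetup ρ hW (ChowDesc.deltaCompat_rd ρ δ)).2.2
  haveI : IsNoetherianRing Γ(W, c.U) := IsLocallyNoetherian.component_noetherian ⟨c.U, c.hU⟩
  let q := (c.hU.primeIdealOf ⟨ρ (j z), c.le hz⟩).asIdeal
  let J : Ideal (MvPolynomial (Fin (m + 1)) Γ(W, c.U)) := q.map MvPolynomial.C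
  haveI : J.IsPrime := by
    show (q.map MvPolynomial.C).IsPrime
    rw [show q.map MvPolynomial.C = RingHom.ker (MvPolynomial.map (σ := Fin (m + 1)) (Ideal.Quotient.mk q)) by
      rw [MvPolynomial.ker_map, Ideal.mk_ker]]
    exact RingHom.ker_isPrime _
  obtain ⟨ξ, hξ, hξJ⟩ := c.exists_point J
  have hfz : f ∈ c.pr hz := c.mem_pr_of_ker j z hz (by rw [hker z hz]; exact Ideal.mem_span_singleton_self _)
  have hJz : J ≤ c.pr hz := Ideal.map_le_iff_le_comap.2 (c.pr_comap_C hz).ge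
  have hsp : ξ ⤳ j z := (c.specializes_iff hξ hz).2 (hξJ ▸ hJz)
  have hne : ξ ≠ j z := fun e => hP q inferInstance (by
    have : c.pr hz = J := by
      subst e
      exact hξJ
    rw [this] at hfz
    exact hfz)
  have hρξ : ρ ξ = ρ (j z) := by
    refine ((ProjBd.specializes_iff_prime c.hU (c.le hξ) (c.le hz)).2 ?_ |>.antisymm
      ((ProjBd.specializes_iff_prime c.hU (c.le hz) (c.le hξ)).2 ?_)).eq
    · rw [← c.pr_comap_C hξ, ← c.pr_comap_C hz, hξJ]
      exact Ideal.comap_mono hJz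
    · rw [← c.pr_comap_C hξ, hξJ]
      exact Ideal.le_comap_map
  have hξmax : FibDim.FibMax ρ ξ := (FlatShift.fibMax_iff ρ ξ).2 fun η he hs => by
    have hη : η ∈ c.O := hs.mem_open c.O.2 hξ
    refine c.eq_of_pr_eq hη hξ (le_antisymm ((c.specializes_iff hη hξ).1 hs) ?_)
    rw [hξJ]
    refine Ideal.map_le_iff_le_comap.2 ?_
    have h3 := c.pr_comap_C hη
    simp only [he, hρξ] at h3
    exact h3.ge
  have hrd := (c.rd_eq hξ).2 hξmax
  have himm : ∀ η : Q, ξ ⤳ η → η ⤳ j z → η = ξ ∨ η = j z := by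
    intro η h1 h2
    have hη : η ∈ c.O := h2.mem_open c.O.2 hz
    have hle1 := (c.specializes_iff hξ hη).1 h1
    have hle2 := (c.specializes_iff hη hz).1 h2
    rw [hξJ] at hle1
    by_cases heq : c.pr hη = J
    · exact Or.inl (c.eq_of_pr_eq hη hξ (heq.trans hξJ.symm))
    right
    refine c.eq_of_pr_eq hη hz (le_antisymm hle2 ?_)
    by_contra hlt
    have hmk : RingHom.ker (Ideal.Quotient.mk J) = J := Ideal.mk_ker
    haveI := (inferInstance : J.IsPrime)
    let Pη := (c.pr hη).map (Ideal.Quotient.mk J)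
    let Pz := (c.pr hz).map (Ideal.Quotient.mk J)
    haveI hPη : Pη.IsPrime := Ideal.map_isPrime_of_surjective Ideal.Quotient.mk_surjective (by rw [hmk]; exact hle1)
    haveI hPz : Pz.IsPrime := Ideal.map_isPrime_of_surjective Ideal.Quotient.mk_surjective (by rw [hmk]; exact hJz)
    have hmin : Pz ∈ (Ideal.span {Ideal.Quotient.mk J f}).minimalPrimes := by
      refine ⟨⟨hPz, (Ideal.span_singleton_le_iff_mem _).2 (Ideal.mem_map_of_mem _ hfz)⟩, fun P ⟨hPp, hfP⟩ hle => ?_⟩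
      obtain ⟨η', hη', hpr⟩ := c.exists_point (P.comap (Ideal.Quotient.mk J))
      have hfη : f ∈ c.pr hη' := hpr.symm ▸ hfP (Ideal.mem_span_singleton_self _)
      obtain ⟨z', hz'r⟩ := hrange η' hη' hfη
      have hle' : c.pr hη' ≤ c.pr hz := by
        rw [hpr]
        refine (Ideal.comap_mono hle).trans ?_
        rw [Ideal.comap_map_of_surjective' _ Ideal.Quotient.mk_surjective, hmk, sup_eq_left.2 hJz]
      have hJη' : J ≤ c.pr hη' := by
        rw [hpr]
        exact hmk.ge.trans (Ideal.comap_mono bot_le)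
      have hs : η' ⤳ j z := (c.specializes_iff hη' hz).2 hle'
      have hρ : ρ η' = ρ (j z) := by
        refine ((hs.map ρ.continuous).antisymm ((ProjBd.specializes_iff_prime c.hU (c.le hz) (c.le hη')).2 ?_)).eq
        rw [← c.pr_comap_C hη']
        exact Ideal.le_comap_map.trans (Ideal.comap_mono hJη')
      have hzz : z' = z := (FlatShift.fibMax_iff _ z).1 hmax z' (by
        show ρ (j z') = ρ (j z)
        rw [hz'r, hρ]) (j.isClosedEmbedding.isEmbedding.isInducing.specializes_iff.1 (hz'r.symm ▸ hs))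
      subst hzz
      have hpz : c.pr hη' = c.pr hz := by simp only [← hz'r]
      show (c.pr hz).map (Ideal.Quotient.mk J) ≤ P
      rw [← hpz, hpr]
      exact Ideal.map_comap_le
    have hht : Pz.height ≤ 1 := Ideal.height_le_one_of_isPrincipal_of_mem_minimalPrimes _ _ hmin
    have hlt' : Pη < Pz := by
      refine lt_of_le_of_ne (Ideal.map_mono hle2) fun e => hlt ?_
      have := congrArg (Ideal.comap (Ideal.Quotient.mk J)) e
      rw [Ideal.comap_map_of_surjective' _ Ideal.Quotient.mk_surjective,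
        Ideal.comap_map_of_surjective' _ Ideal.Quotient.mk_surjective, hmk, sup_eq_left.2 hle1,
        sup_eq_left.2 hJz] at this
      exact this.ge
    have hbot : Pη ≠ ⊥ := fun e => heq (le_antisymm (fun g hg => by
      rw [← hmk, RingHom.mem_ker, ← Ideal.mem_bot, ← e]
      exact Ideal.mem_map_of_mem _ hg) hle1)
    have h3 := Ideal.height_strict_mono_of_isPrime hlt'
    have h4 : (0 : ℕ∞) < Pη.height := by
      refine lt_of_le_of_lt zero_le (Ideal.height_strict_mono_of_isPrime (I := (⊥ : Ideal _)) (bot_lt_iff_ne_bot.2 hbot))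
    exact absurd hht (not_le.2 (lt_of_le_of_lt ((ENat.add_one_le_iff (by simp)).2 h4) h3))
  obtain ⟨hlt, himm'⟩ := hdQ ξ (j z) hsp hne
  have h5 := himm' himm
  simp only [δQ, hρξ] at h5
  have h6 : FibDim.rd ρ (j z) = m := by omega
  rw [CycLib.rd_comp, CycLib.rd_eq_zero_of_finite j z
    (RingHom.Finite.of_surjective _ (CycLib.residueFieldMap_bijective j z).2), add_zero]
  exact h6

end Groth.Agent.H23.DefBundle
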