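import Groth.Agent.H23.DefGeom
import Groth.Agent.H28.KRRPush
import Mathlib.AlgebraicGeometry.AffineSpace

/-! The affine line over a scheme in charts, and its zero section. -/

set_option autoImplicit false
set_option linter.style.haveILetI false
set_option backward.isDefEq.respectTransparency false
set_option backward.isDefEq.respectTransparency.types false

universe u

open CategoryTheory CategoryTheory.Limits AlgebraicGeometry TopologicalSpace Opposite

noncomputable section

namespace Groth.Agent.H23.DefBundle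

open Groth.Agent Groth.Agent.AModX RatSec

theorem sub_C_mem {A : Type u} [CommRing A] (f : MvPolynomial (Fin 1) A) :
    f - MvPolynomial.C (MvPolynomial.constantCoeff f) ∈ Ideal.span {(MvPolynomial.X 0 : MvPolynomial (Fin 1) A)} := by
  induction f using MvPolynomial.induction_on with
  | C a => simp
  | add f g hf hg =>
    rw [map_add, map_add, add_sub_add_comm]
    exact Ideal.add_mem _ hf hg
  | mul_X f i _ =>
    obtain rfl : i = 0 := Fin.fin_one_eq_zero i
    rw [map_mul, MvPolynomial.constantCoeff_X, mul_zero, map_zero, sub_zero]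
    exact Ideal.mul_mem_left _ _ (Ideal.mem_span_singleton_self _)

/-- The index of the line. -/
abbrev LineIdx : Type u := ULift.{u} (Fin 1)

variable (V : Scheme.{u})

/-- The line over a scheme. -/
abbrev Line : Scheme.{u} := 𝔸(LineIdx.{u}; V)

/-- Its projection. -/
abbrev pr : Line V ⟶ V := 𝔸(LineIdx.{u}; V) ↘ V

/-- Its coordinate. -/
abbrev time : Γ(Line V, ⊤) := AffineSpace.coord V ⟨0⟩

/-- The zero section. -/
abbrev zeroSec : V ⟶ Line V := AffineSpace.homOfVector (𝟙 V) fun _ => 0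

theorem bijective_eval₂Hom [IsAffine V] :
    Function.Bijective (MvPolynomial.eval₂Hom ((pr V).appTop).hom fun _ : Fin 1 => time V) := by
  have h1 : Function.Bijective (MvPolynomial.eval₂Hom ((pr V).appTop).hom (AffineSpace.coord V)) := by
    have h : IsIso (AffineSpace.isoOfIsAffine LineIdx.{u} V).hom.appTop := inferInstance
    rw [AffineSpace.isoOfIsAffine_hom_appTop] at h
    have h2 := (ConcreteCategory.isIso_iff_bijective _).1 h
    exact (Function.Bijective.of_comp_iff
      (MvPolynomial.eval₂Hom ((pr V).appTop).hom (AffineSpace.coord V))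
      (ConcreteCategory.bijective_of_isIso
        (Scheme.ΓSpecIso (CommRingCat.of (MvPolynomial LineIdx.{u} Γ(V, ⊤)))).hom)).1 h2
  have e : MvPolynomial.eval₂Hom ((pr V).appTop).hom (fun _ : Fin 1 => time V) =
      (MvPolynomial.eval₂Hom ((pr V).appTop).hom (AffineSpace.coord V)).comp
        (MvPolynomial.renameEquiv Γ(V, ⊤) Equiv.ulift.symm).toRingEquiv.toRingHom :=
    MvPolynomial.ringHom_ext (fun r => by simp) fun k => by
      obtain rfl : k = 0 := Fin.fin_one_eq_zero k
      simp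
  rw [e]
  exact h1.comp (MvPolynomial.renameEquiv Γ(V, ⊤) Equiv.ulift.symm).bijective

/-- The chart of the line over an affine open. -/
def lineChart (U : V.Opens) (hU : IsAffineOpen U) : Chart (pr V) (Fin 1) where
  U := U
  hU := hU
  O := pr V ⁻¹ᵁ U
  hO := hU.preimage _
  le := le_rfl
  ψ := MvPolynomial.eval₂Hom ((pr V).appLE U (pr V ⁻¹ᵁ U) le_rfl).hom
    fun _ => resR (le_top : pr V ⁻¹ᵁ U ≤ ⊤) (time V)
  bij := by
    haveI : IsAffine (↑U : Scheme.{u}) := hU
    let m := AffineSpace.map LineIdx.{u} U.ι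
    have sq := AffineSpace.isPullback_map (n := LineIdx.{u}) U.ι
    haveI : IsOpenImmersion m := MorphismProperty.of_isPullback (P := @IsOpenImmersion) sq.flip inferInstance
    have hr : pr V ⁻¹ᵁ U ≤ m.opensRange := fun x hx => by
      show x ∈ Set.range m
      show x ∈ Set.range (AffineSpace.map LineIdx.{u} U.ι)
      rw [← sq.isoPullback_hom_fst, Scheme.Hom.comp_base, TopCat.coe_comp,
        Set.range_comp, (Scheme.Hom.surjective sq.isoPullback.hom).range_eq, Set.image_univ, Scheme.Pullback.range_fst,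
        Scheme.Opens.range_ι]
      exact hx
    haveI := Scheme.Hom.isIso_app m (pr V ⁻¹ᵁ U) hr
    have htop : (⊤ : (Line (↑U : Scheme.{u})).Opens) = m ⁻¹ᵁ (pr V ⁻¹ᵁ U) := eq_comm.1 <| top_unique fun x _ => by
      show (m ≫ pr V) x ∈ U
      rw [sq.w]
      exact ((𝔸(LineIdx.{u}; (↑U : Scheme.{u})) ↘ (↑U : Scheme.{u})) x).2
    let j := m.appLE (pr V ⁻¹ᵁ U) ⊤ htop.le
    have hj : Function.Bijective j := by
      have e : j = m.app (pr V ⁻¹ᵁ U) ≫ (Line (↑U : Scheme.{u})).presheaf.map (eqToHom htop).op := rfl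
      rw [e]
      exact ConcreteCategory.bijective_of_isIso _
    refine (Function.Bijective.of_comp_iff' hj _).1 ?_
    let e := U.topIso
    have he : Function.Bijective (MvPolynomial.map (σ := Fin 1) e.inv.hom) :=
      ⟨MvPolynomial.map_injective _ (ConcreteCategory.bijective_of_isIso e.inv).1,
        MvPolynomial.map_surjective _ (ConcreteCategory.bijective_of_isIso e.inv).2⟩
    have key : j.hom.comp (MvPolynomial.eval₂Hom ((pr V).appLE U (pr V ⁻¹ᵁ U) le_rfl).hom
        fun _ : Fin 1 => resR (le_top : pr V ⁻¹ᵁ U ≤ ⊤) (time V)) =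
        (MvPolynomial.eval₂Hom ((pr (↑U : Scheme.{u})).appTop).hom fun _ => time (↑U : Scheme.{u})).comp
          (MvPolynomial.map (σ := Fin 1) e.inv.hom) := by
      refine MvPolynomial.ringHom_ext (fun r => ?_) fun k => ?_
      · rw [RingHom.comp_apply, RingHom.comp_apply, MvPolynomial.map_C, MvPolynomial.eval₂Hom_C,
          MvPolynomial.eval₂Hom_C]
        have hw : ∀ (f : Line (↑U : Scheme.{u}) ⟶ V), f = pr (↑U : Scheme.{u}) ≫ U.ι → ∀ hle,
            f.appLE U ⊤ hle = e.inv ≫ (pr (↑U : Scheme.{u})).appTop := by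
          rintro _ rfl hle
          rw [← Scheme.Hom.appLE_comp_appLE _ _ U ⊤ ⊤ (by simp) le_rfl]
          refine congrArg₂ (· ≫ ·) ?_ ?_
          · simp [e, Scheme.Hom.appLE, ← Functor.map_comp]; rfl
          · simp [Scheme.Hom.appTop, Scheme.Hom.appLE]
        show ((pr V).appLE U _ _ ≫ m.appLE _ ⊤ _) r = (e.inv ≫ (pr (↑U : Scheme.{u})).appTop) r
        rw [Scheme.Hom.appLE_comp_appLE]
        exact congrArg (fun f => f.hom r) (hw _ sq.w _)
      · rw [RingHom.comp_apply, RingHom.comp_apply, MvPolynomial.map_X, MvPolynomial.eval₂Hom_X',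
          MvPolynomial.eval₂Hom_X']
        show (m.appLE (pr V ⁻¹ᵁ U) ⊤ htop.le) (resR _ (time V)) = _
        rw [resR_appTop, AffineSpace.map_appTop_coord]
        exact congr($((Line (↑U : Scheme.{u})).presheaf.map_id _) (time (↑U : Scheme.{u})))
    have h := (bijective_eval₂Hom (↑U : Scheme.{u})).comp he
    rw [← RingHom.coe_comp, ← key, RingHom.coe_comp] at h
    exact h
  ψ_C r := MvPolynomial.eval₂Hom_C _ _ r

theorem lineChart_X (U : V.Opens) (hU : IsAffineOpen U) :
    (lineChart V U hU).ψ (MvPolynomial.X 0) = resR (le_top : pr V ⁻¹ᵁ U ≤ ⊤) (time V) :=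
  MvPolynomial.eval₂Hom_X' _ _ _

theorem zeroSec_pr : zeroSec V ≫ pr V = 𝟙 V := AffineSpace.homOfVector_over _ _

theorem zeroSec_time : (zeroSec V).appTop (time V) = 0 := AffineSpace.homOfVector_appTop_coord _ _ _

instance closed_zeroSec : IsClosedImmersion (zeroSec V) := by
  haveI : IsClosedImmersion (zeroSec V ≫ pr V) := by rw [zeroSec_pr]; infer_instance
  exact IsClosedImmersion.of_comp (zeroSec V) (pr V)

theorem isZeroSchemeOf_zeroSec :
    Cyc.IsZeroSchemeOf (zeroSec V) (Coh.structureModule (Line V)) (time V) := by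
  let s := zeroSec V
  let T : Γ(Coh.structureModule (Line V), ⊤) := time V
  have hsp : ∀ v, pr V (s v) = v := fun v => by
    rw [← Scheme.Hom.comp_apply, zeroSec_pr]; rfl
  have hg : ∀ (c : Chart (pr V) (Fin 1)) (_ : c.ψ (MvPolynomial.X 0) = resR (le_top : c.O ≤ ⊤) (time V))
      (x : Line V) (hx : x ∈ c.O),
      (Coh.structureModule (Line V)).presheaf.germ ⊤ x trivial T =
        (Line V).presheaf.germ c.O x hx (c.ψ (MvPolynomial.X 0)) •
          (Coh.structureModule (Line V)).presheaf.germ c.O x hx (show Γ(Coh.structureModule (Line V), c.O) from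
            (1 : Γ(Line V, c.O))) := fun c hX x hx => by
    rw [← QCoh.germ_smul']
    refine (InvX.germ_res' (M := Coh.structureModule (Line V)) (le_top : c.O ≤ ⊤) hx T).symm.trans (congrArg _ ?_)
    show resR (le_top : c.O ≤ ⊤) (time V) = c.ψ (MvPolynomial.X 0) * 1
    rw [mul_one, hX]
  have hchart : ∀ v, ∃ c : Chart (pr V) (Fin 1), v ∈ c.U ∧ c.O = pr V ⁻¹ᵁ c.U ∧
      c.ψ (MvPolynomial.X 0) = resR (le_top : c.O ≤ ⊤) (time V) := fun v => by
    obtain ⟨U, hU, hv, -⟩ := exists_isAffineOpen_mem_and_subset (x := v) (U := ⊤) trivial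
    exact ⟨lineChart V U hU, hv, rfl, lineChart_X V U hU⟩
  have hker : ∀ (c : Chart (pr V) (Fin 1)), c.O = pr V ⁻¹ᵁ c.U →
      c.ψ (MvPolynomial.X 0) = resR (le_top : c.O ≤ ⊤) (time V) →
      RingHom.ker (s.app c.O).hom = Ideal.span {c.ψ (MvPolynomial.X 0)} := by
    intro c hO hX
    have hU : c.U = s ⁻¹ᵁ c.O := by
      rw [hO, ← Scheme.Hom.comp_preimage, zeroSec_pr]
      rfl
    let φ : Γ(Line V, c.O) →+* Γ(V, c.U) := (s.appLE c.O c.U hU.le).hom
    have hφC : ∀ a, φ (c.ψ (MvPolynomial.C a)) = a := fun a => by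
      rw [c.ψ_C]
      show ((pr V).appLE c.U c.O c.le ≫ s.appLE c.O c.U hU.le) a = a
      rw [Scheme.Hom.appLE_comp_appLE]
      simp only [show s ≫ pr V = 𝟙 V from zeroSec_pr V]
      simp [Scheme.Hom.appLE]
      exact congr($(V.presheaf.map_id _) a)
    have hφX : φ (c.ψ (MvPolynomial.X 0)) = 0 := by
      rw [hX]
      show s.appLE c.O c.U hU.le (resR _ (time V)) = 0
      rw [resR_appTop, zeroSec_time, map_zero]
    have hφ : ∀ f, φ (c.ψ f) = MvPolynomial.constantCoeff f := RingHom.congr_fun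
      (MvPolynomial.ringHom_ext (f := φ.comp c.ψ) (g := MvPolynomial.constantCoeff)
        (fun a => by rw [MvPolynomial.constantCoeff_C]; exact hφC a)
        fun i => by rw [Fin.fin_one_eq_zero i, MvPolynomial.constantCoeff_X]; exact hφX)
    have hk : RingHom.ker φ = Ideal.span {c.ψ (MvPolynomial.X 0)} := by
      refine le_antisymm (fun g hg => ?_) ((Ideal.span_singleton_le_iff_mem _).2 hφX)
      obtain ⟨f, rfl⟩ := c.bij.2 g
      have hf := sub_C_mem f
      rw [show MvPolynomial.constantCoeff f = 0 from (hφ f).symm.trans hg, map_zero, sub_zero] at hf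
      have := Ideal.mem_map_of_mem c.ψ hf
      rwa [Ideal.map_span, Set.image_singleton] at this
    have e : ∀ (U : V.Opens) (hU : U = s ⁻¹ᵁ c.O),
        RingHom.ker (s.app c.O).hom = RingHom.ker (s.appLE c.O U hU.le).hom := fun U hU => by
      subst hU
      rw [Scheme.Hom.app_eq_appLE]
    exact (e c.U hU).trans hk
  refine ⟨Set.ext fun x => ⟨?_, fun hx => ?_⟩, fun v => ?_⟩
  · rintro ⟨v, rfl⟩
    obtain ⟨c, hv, hO, hX⟩ := hchart v
    have hsv : s v ∈ c.O := by rw [hO]; show pr V (s v) ∈ c.U; rwa [hsp]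
    show cls _ _ _ = 0
    rw [hg c hX _ hsv, cls_smul, ← not_ne_iff, ← residue_ne_zero (isGen_germ (InvX.isFrame_one c.O) _ hsv),
      not_ne_iff]
    refine (IsLocalRing.residue_eq_zero_iff _).2 fun hu => ?_
    have h0 := hu.map (s.stalkMap v).hom
    rw [show (s.stalkMap v).hom ((Line V).presheaf.germ c.O (s v) hsv (c.ψ (MvPolynomial.X 0))) = 0 by
      refine (Scheme.Hom.germ_stalkMap_apply s c.O v hsv _).trans ?_
      rw [show (s.app c.O) (c.ψ (MvPolynomial.X 0)) = 0 from
        RingHom.mem_ker.1 ((hker c hO hX).ge (Ideal.mem_span_singleton_self _)), map_zero]] at h0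
    exact not_isUnit_zero h0
  · obtain ⟨c, hv, hO, hX⟩ := hchart (pr V x)
    have hxO : x ∈ c.O := by rw [hO]; exact hv
    have hsO : s (pr V x) ∈ c.O := by rw [hO]; show pr V (s (pr V x)) ∈ c.U; rwa [hsp]
    refine ⟨pr V x, c.eq_of_pr_eq hsO hxO ?_⟩
    have hXmem : (MvPolynomial.X 0 : MvPolynomial (Fin 1) Γ(V, c.U)) ∈ c.pr hxO := by
      show c.ψ (MvPolynomial.X 0) ∈ (c.hO.primeIdealOf ⟨x, hxO⟩).asIdeal
      by_contra hn
      have hu := ((Line V).mem_basicOpen _ _ hxO).1 ((ProjBd.mem_basicOpen_iff c.hO hxO _).2 hn)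
      have h0 : cls (Coh.structureModule (Line V)) x _ = 0 := hx
      rw [hg c hX x hxO, cls_smul, ← not_ne_iff, ← residue_ne_zero (isGen_germ (InvX.isFrame_one c.O) _ hxO),
        not_ne_iff] at h0
      exact (IsLocalRing.residue_eq_zero_iff _).1 h0 hu
    have hXs : (MvPolynomial.X 0 : MvPolynomial (Fin 1) Γ(V, c.U)) ∈ c.pr hsO := by
      refine c.mem_pr_of_ker s (pr V x) hsO ?_
      rw [RingHom.mem_ker]
      refine (Scheme.Hom.germ_stalkMap_apply s c.O (pr V x) hsO _).trans ?_
      rw [show (s.app c.O) (c.ψ (MvPolynomial.X 0)) = 0 from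
        RingHom.mem_ker.1 ((hker c hO hX).ge (Ideal.mem_span_singleton_self _)), map_zero]
    have hmem : ∀ {z : Line V} (hz : z ∈ c.O), MvPolynomial.X 0 ∈ c.pr hz → ∀ f,
        f ∈ c.pr hz ↔ MvPolynomial.constantCoeff f ∈ (c.pr hz).comap MvPolynomial.C := fun {z} hz h f => by
      have hsub := (Ideal.span_singleton_le_iff_mem _).2 h (sub_C_mem f)
      exact ⟨fun hf => by simpa using Ideal.sub_mem _ hf hsub, fun hf => by simpa using Ideal.add_mem _ hsub hf⟩
    ext f
    rw [hmem hsO hXs, hmem hxO hXmem, c.pr_comap_C, c.pr_comap_C]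
    simp only [hsp]
  · obtain ⟨c, hv, hO, hX⟩ := hchart v
    have hsv : s v ∈ c.O := by rw [hO]; show pr V (s v) ∈ c.U; rwa [hsp]
    refine ⟨_, _, (isGen_germ (InvX.isFrame_one c.O) _ hsv).1, hg c hX _ hsv, ?_⟩
    rw [H28.KRRPush.ker_stalkMap s v c.hO hsv, Scheme.Hom.ker_apply]
    show Ideal.map _ (RingHom.ker (s.app c.O).hom) = _
    rw [hker c hO hX, Ideal.map_span, Set.image_singleton]

variable {W : Scheme.{u}} {π : V ⟶ W}

/-- The splitting of two variables. -/
def split (R : Type u) [CommRing R] :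
    MvPolynomial (Fin 2) R ≃ₐ[R] MvPolynomial (Fin 1) (MvPolynomial (Fin 1) R) :=
  (MvPolynomial.renameEquiv R (finSumFinEquiv (m := 1) (n := 1)).symm).trans
    (MvPolynomial.sumAlgEquiv R (Fin 1) (Fin 1))

theorem split_X0 (R : Type u) [CommRing R] : split R (MvPolynomial.X 0) = MvPolynomial.X 0 := by
  simp [split, show finSumFinEquiv.symm (0 : Fin 2) = (Sum.inl 0 : Fin 1 ⊕ Fin 1) from rfl]

theorem split_X1 (R : Type u) [CommRing R] : split R (MvPolynomial.X 1) = MvPolynomial.C (MvPolynomial.X 0) := by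
  simp [split, show finSumFinEquiv.symm (1 : Fin 2) = (Sum.inr 0 : Fin 1 ⊕ Fin 1) from rfl]

/-- A chart of the line over a chart of rank one. -/
def pairChart (c : Chart π (Fin 1)) : Chart (pr V ≫ π) (Fin 2) where
  U := c.U
  hU := c.hU
  O := pr V ⁻¹ᵁ c.O
  hO := c.hO.preimage _
  le := (pr V).preimage_mono c.le
  ψ := ((lineChart V c.O c.hO).ψ.comp (MvPolynomial.map c.ψ)).comp (split Γ(W, c.U)).toRingEquiv.toRingHom
  bij := ((lineChart V c.O c.hO).bij.comp
    ⟨MvPolynomial.map_injective _ c.bij.1, MvPolynomial.map_surjective _ c.bij.2⟩).comp (split Γ(W, c.U)).bijective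
  ψ_C a := by
    show (lineChart V c.O c.hO).ψ (MvPolynomial.map c.ψ (split Γ(W, c.U) (MvPolynomial.C a))) = _
    rw [show split Γ(W, c.U) (MvPolynomial.C a) = MvPolynomial.C (MvPolynomial.C a) from by simp [split],
      MvPolynomial.map_C]
    refine ((lineChart V c.O c.hO).ψ_C (c.ψ (MvPolynomial.C a))).trans ?_
    rw [c.ψ_C]
    show (π.appLE c.U c.O c.le ≫ (pr V).appLE c.O _ _) a = _
    rw [Scheme.Hom.appLE_comp_appLE]
    rfl

theorem pairChart_X0 (c : Chart π (Fin 1)) :
    (pairChart V c).ψ (MvPolynomial.X 0) = resR (le_top : pr V ⁻¹ᵁ c.O ≤ ⊤) (time V) := by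
  show (lineChart V c.O c.hO).ψ (MvPolynomial.map c.ψ (split Γ(W, c.U) (MvPolynomial.X 0))) = _
  rw [split_X0, MvPolynomial.map_X]
  exact lineChart_X V c.O c.hO

theorem pairChart_X1 (c : Chart π (Fin 1)) :
    (pairChart V c).ψ (MvPolynomial.X 1) = (pr V).appLE c.O (pr V ⁻¹ᵁ c.O) le_rfl (c.ψ (MvPolynomial.X 0)) := by
  show (lineChart V c.O c.hO).ψ (MvPolynomial.map c.ψ (split Γ(W, c.U) (MvPolynomial.X 1))) = _
  rw [split_X1, MvPolynomial.map_C]
  exact (lineChart V c.O c.hO).ψ_C _

end Groth.Agent.H23.DefBundle
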