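import Mathlib.RingTheory.AlgebraicIndependent.AlgebraicClosure
import Mathlib.RingTheory.AlgebraicIndependent.TranscendenceBasis
import Mathlib.RingTheory.TensorProduct.Basic
import Mathlib.RingTheory.Ideal.MinimalPrime.Noetherian
import Mathlib.RingTheory.FiniteType
import Mathlib.RingTheory.Polynomial.Basic
import Mathlib.FieldTheory.IsAlgClosed.AlgebraicClosure
import Mathlib.AlgebraicGeometry.Pullbacks
import Mathlib.AlgebraicGeometry.Morphisms.FiniteType

/-! Algebraic points avoiding a nowhere dense subset of a scalar extension. -/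

set_option autoImplicit false
set_option linter.style.haveILetI false

universe u

open scoped TensorProduct
open CategoryTheory CategoryTheory.Limits AlgebraicGeometry

noncomputable section

namespace Groth.Agent.H23.DenseAlgPts

section Algebra

variable {k K A : Type u} [Field k] [Field K] [Algebra k K] [CommRing A] [Algebra k A]

/-- Polynomials in the transcendental elements, inside the scalar extension. -/
def polyMap {ι : Type u} (T : ι → K) : MvPolynomial ι A →ₐ[A] A ⊗[k] K :=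
  MvPolynomial.aeval fun i => (1 : A) ⊗ₜ[k] T i

theorem polyMap_map {ι : Type u} (T : ι → K) (m : MvPolynomial ι k) :
    polyMap (A := A) T (MvPolynomial.map (algebraMap k A) m) = 1 ⊗ₜ[k] MvPolynomial.aeval T m := by
  rw [polyMap, MvPolynomial.aeval_map_algebraMap]
  exact (MvPolynomial.comp_aeval_apply T (Algebra.TensorProduct.includeRight : K →ₐ[k] A ⊗[k] K) m).symm

/-- An ideal missing all minimal primes contains a polynomial with a coefficient off a given minimal prime. -/
theorem exists_poly {ι : Type u} (T : ι → K) (hT : IsTranscendenceBasis k T) (J : Ideal (A ⊗[k] K))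
    (hJ : ∀ Q : Ideal (A ⊗[k] K), Q.IsPrime → (∀ Q' : Ideal (A ⊗[k] K), Q'.IsPrime → Q' ≤ Q → Q' = Q) → ¬ J ≤ Q)
    (p : Ideal A) [p.IsPrime] (hp : ∀ p' : Ideal A, p'.IsPrime → p' ≤ p → p' = p) :
    ∃ (g : MvPolynomial ι A) (m : ι →₀ ℕ), g.coeff m ∉ p ∧ polyMap T g ∈ J := by
  by_contra hne
  simp only [not_exists, not_and] at hne
  let pC : Ideal (MvPolynomial ι A) := RingHom.ker (MvPolynomial.map (σ := ι) (Ideal.Quotient.mk p))
  haveI : pC.IsPrime := RingHom.ker_isPrime _
  have hmem : ∀ g, g ∈ pC ↔ ∀ m, g.coeff m ∈ p := fun g => by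
    rw [RingHom.mem_ker, MvPolynomial.ext_iff]
    simp only [MvPolynomial.coeff_map, MvPolynomial.coeff_zero, Ideal.Quotient.eq_zero_iff_mem]
  let S : Submonoid (A ⊗[k] K) := Submonoid.map (polyMap (A := A) T).toRingHom.toMonoidHom pC.primeCompl
  have hdis : Disjoint (J : Set (A ⊗[k] K)) S := by
    rw [Set.disjoint_left]
    rintro b hb ⟨g, hg, rfl⟩
    refine hg ((hmem g).2 fun m => ?_)
    by_contra hm
    exact hne g m hm hb
  obtain ⟨Q, hQ, hJQ, hQS⟩ := Ideal.exists_le_prime_disjoint J S hdis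
  refine hJ Q hQ (fun Q' hQ' hle => le_antisymm hle fun b hb => ?_) hJQ
  have hQC : Q.comap (polyMap (A := A) T).toRingHom ≤ pC := fun g hg => by
    by_contra hg'
    exact Set.disjoint_left.1 hQS hg ⟨g, hg', rfl⟩
  have hq' : Q'.comap (polyMap (A := A) T).toRingHom = pC := by
    refine le_antisymm ((Ideal.comap_mono hle).trans hQC) fun g hg => ?_
    haveI := hQ'
    have hcon : (Q'.comap (polyMap (A := A) T).toRingHom).comap (MvPolynomial.C : A →+* MvPolynomial ι A) = p := by
      refine hp _ inferInstance fun a ha => ?_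
      have h1 := (hmem _).1 (((Ideal.comap_mono hle).trans hQC) ha) 0
      rwa [MvPolynomial.coeff_zero_C] at h1
    rw [g.as_sum]
    refine Ideal.sum_mem _ fun m _ => ?_
    rw [← mul_one (g.coeff m), ← MvPolynomial.C_mul_monomial]
    exact Ideal.mul_mem_right _ _ (Ideal.mem_comap.1 (hcon.ge ((hmem g).1 hg m)))
  haveI := hQ'
  let ψ : MvPolynomial ι A →+* (A ⊗[k] K) ⧸ Q' := (Ideal.Quotient.mk Q').comp (polyMap (A := A) T).toRingHom
  let R := ψ.range
  have hker : ∀ g, ψ g = 0 ↔ g ∈ pC := fun g => by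
    rw [← hq', Ideal.mem_comap]
    exact Ideal.Quotient.eq_zero_iff_mem
  let Ad := Algebra.adjoin k (Set.range T)
  let θ : Ad →+* R :=
    ((Ideal.Quotient.mk Q').comp
      ((Algebra.TensorProduct.includeRight : K →ₐ[k] A ⊗[k] K).toRingHom.comp Ad.val.toRingHom)).codRestrict R
      fun e => by
        obtain ⟨m, hm⟩ := (Algebra.adjoin_range_eq_range_aeval k T).le e.2
        refine ⟨MvPolynomial.map (algebraMap k A) m, ?_⟩
        show Ideal.Quotient.mk Q' (polyMap (A := A) T _) = _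
        rw [polyMap_map]
        exact congrArg (fun y : K => Ideal.Quotient.mk Q' ((1 : A) ⊗ₜ[k] y)) hm
  have hθ : Function.Injective θ := by
    refine (injective_iff_map_eq_zero θ).2 fun e he => ?_
    obtain ⟨m, hm⟩ := (Algebra.adjoin_range_eq_range_aeval k T).le e.2
    have h0 : ψ (MvPolynomial.map (algebraMap k A) m) = 0 := by
      show Ideal.Quotient.mk Q' (polyMap (A := A) T _) = 0
      rw [polyMap_map]
      exact (congrArg (fun y : K => Ideal.Quotient.mk Q' ((1 : A) ⊗ₜ[k] y)) hm).trans (congrArg Subtype.val he)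
    have h1 := (hmem _).1 ((hker _).1 h0)
    have : m = 0 := MvPolynomial.ext _ _ fun d => by
      by_contra hd
      rw [MvPolynomial.coeff_zero] at hd
      refine Ideal.IsPrime.ne_top ‹p.IsPrime› (p.eq_top_of_isUnit_mem ?_ ((isUnit_iff_ne_zero.2 hd).map (algebraMap k A)))
      have h2 := h1 d
      rwa [MvPolynomial.coeff_map] at h2
    refine Subtype.ext ?_
    show (e : K) = 0
    rw [← hm, this]
    exact map_zero _
  have halg : ∀ x, IsAlgebraic R (Ideal.Quotient.mk Q' x) := by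
    intro x
    induction x using TensorProduct.induction_on with
    | zero => rw [map_zero]; exact isAlgebraic_zero
    | add x y hx hy => rw [map_add]; exact hx.add hy
    | tmul a c =>
      have hac : a ⊗ₜ[k] c = (a ⊗ₜ[k] (1 : K)) * ((1 : A) ⊗ₜ[k] c) := by
        rw [Algebra.TensorProduct.tmul_mul_tmul, mul_one, one_mul]
      rw [hac, map_mul]
      refine IsAlgebraic.mul ?_ ?_
      · have h := isAlgebraic_algebraMap (R := R) (A := (A ⊗[k] K) ⧸ Q')
          (⟨ψ (MvPolynomial.C a), MvPolynomial.C a, rfl⟩ : R)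
        convert h using 1
        · rfl
        show Ideal.Quotient.mk Q' _ = Ideal.Quotient.mk Q' (polyMap (A := A) T (MvPolynomial.C a))
        rw [polyMap, MvPolynomial.aeval_C]
        rfl
      · exact IsAlgebraic.ringHom_of_comp_eq θ
          ((Ideal.Quotient.mk Q').comp (Algebra.TensorProduct.includeRight : K →ₐ[k] A ⊗[k] K).toRingHom)
          (hT.isAlgebraic.isAlgebraic c) hθ rfl
  by_contra hb'
  have hb0 : Ideal.Quotient.mk Q' b ≠ 0 := fun e => hb' (Ideal.Quotient.eq_zero_iff_mem.1 e)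
  obtain ⟨⟨_, m, rfl⟩, hr0, hdvd⟩ := (halg b).exists_nonzero_dvd (mem_nonZeroDivisors_of_ne_zero hb0)
  refine hr0 (Subtype.ext ((hker m).2 (hQC (Ideal.mem_comap.2 ?_))))
  obtain ⟨w, hw⟩ := hdvd
  obtain ⟨w, rfl⟩ := Ideal.Quotient.mk_surjective w
  have h2 : (polyMap (A := A) T) m - b * w ∈ Q' := Ideal.Quotient.eq.1 (hw.trans (map_mul _ b w).symm)
  exact (Q.sub_mem_iff_left (Q.mul_mem_right w hb)).1 (hle h2)

/-- The algebraic points over a suitable open avoid the bad set. -/
theorem exists_open [Algebra.FiniteType k A] [Nontrivial A] (J : Ideal (A ⊗[k] K))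
    (hJ : ∀ Q : Ideal (A ⊗[k] K), Q.IsPrime → (∀ Q' : Ideal (A ⊗[k] K), Q'.IsPrime → Q' ≤ Q → Q' = Q) → ¬ J ≤ Q) :
    ∃ a : A, ¬ IsNilpotent a ∧ ∀ (kb Ω : Type u) [Field kb] [Algebra k kb] [IsAlgClosure k kb] [Field Ω]
      [Algebra k Ω] [Algebra kb Ω] [Algebra K Ω] [IsScalarTower k kb Ω] [IsScalarTower k K Ω] (x : A →ₐ[k] kb),
      x a ≠ 0 → ∃ b ∈ J, Algebra.TensorProduct.lift ((IsScalarTower.toAlgHom k kb Ω).comp x)
        (IsScalarTower.toAlgHom k K Ω) (fun _ _ => Commute.all _ _) b ≠ 0 := by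
  obtain ⟨ι, T, hT⟩ := exists_isTranscendenceBasis' k K
  obtain ⟨p, hp⟩ := Ideal.nonempty_minimalPrimes (I := (⊥ : Ideal A)) bot_ne_top
  haveI := hp.1.1
  obtain ⟨g, m, hm, hg⟩ := exists_poly T hT J hJ p fun p' hp' hle => le_antisymm hle (hp.2 ⟨hp', bot_le⟩ hle)
  refine ⟨g.coeff m, fun hn => hm (by obtain ⟨n, hn⟩ := hn; exact (hp.1.1.mem_of_pow_mem n (hn ▸ p.zero_mem))),
    fun kb Ω _ _ _ _ _ _ _ _ _ x hx => ⟨_, hg, fun h0 => hx ?_⟩⟩
  have hind : AlgebraicIndependent k (fun i => algebraMap K Ω (T i)) :=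
    hT.1.map' (f := IsScalarTower.toAlgHom k K Ω) (algebraMap K Ω).injective
  have hind' := hind.extendScalars kb
  have gen : ∀ g' : MvPolynomial ι A,
      MvPolynomial.aeval (fun i => algebraMap K Ω (T i)) (MvPolynomial.map x.toRingHom g') =
        Algebra.TensorProduct.lift ((IsScalarTower.toAlgHom k kb Ω).comp x)
          (IsScalarTower.toAlgHom k K Ω) (fun _ _ => Commute.all _ _) (polyMap T g') := by
    intro g'
    induction g' using MvPolynomial.induction_on with
    | C a =>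
      simp [polyMap]
    | add P Q hP hQ =>
      simp only [map_add, hP, hQ]
    | mul_X P i hP =>
      simp only [map_mul, MvPolynomial.map_X, MvPolynomial.aeval_X, hP]
      simp [polyMap]
  have key : MvPolynomial.aeval (fun i => algebraMap K Ω (T i)) (MvPolynomial.map x.toRingHom g) = 0 :=
    (gen g).trans h0
  have h1 := hind'.eq_zero_of_aeval_eq_zero _ key
  rw [← MvPolynomial.coeff_zero (R := kb) m, ← h1, MvPolynomial.coeff_map]
  rfl

end Algebra

section Chart

variable {k K : Type u} [Field k] [Field K] [Algebra k K] {X : Scheme.{u}} (f : X ⟶ Spec (CommRingCat.of k))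

/-- On an affine open there is a non-empty open all of whose algebraic points avoid the bad set. -/
theorem exists_open_chart [LocallyOfFiniteType f]
    (U' : (pullback f (Spec.map (CommRingCat.ofHom (algebraMap k K)))).Opens)
    (hU' : Dense (U' : Set ↥(pullback f (Spec.map (CommRingCat.ofHom (algebraMap k K))))))
    {V : X.Opens} (hV : IsAffineOpen V) (hne : (V : Set X).Nonempty) :
    ∃ W : X.Opens, W ≤ V ∧ (W : Set X).Nonempty ∧
      ∀ (kb Ω : Type u) [Field kb] [Algebra k kb] [IsAlgClosure k kb]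
        [Field Ω] [Algebra k Ω] [Algebra kb Ω] [Algebra K Ω] [IsScalarTower k kb Ω] [IsScalarTower k K Ω]
        (x : Spec (CommRingCat.of kb) ⟶ X),
        x ≫ f = Spec.map (CommRingCat.ofHom (algebraMap k kb)) →
        (∀ t : ↥(Spec (CommRingCat.of kb)), x.base t ∈ W) →
        ∀ (y : Spec (CommRingCat.of Ω) ⟶ pullback f (Spec.map (CommRingCat.ofHom (algebraMap k K)))),
          y ≫ pullback.fst f (Spec.map (CommRingCat.ofHom (algebraMap k K))) =
              Spec.map (CommRingCat.ofHom (algebraMap kb Ω)) ≫ x →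
          y ≫ pullback.snd f (Spec.map (CommRingCat.ofHom (algebraMap k K))) =
              Spec.map (CommRingCat.ofHom (algebraMap K Ω)) →
          ∀ t : ↥(Spec (CommRingCat.of Ω)), y.base t ∈ U' := by
  let j : Spec Γ(X, V) ⟶ X := hV.fromSpec
  let φ : CommRingCat.of k ⟶ Γ(X, V) := Spec.preimage (j ≫ f)
  letI : Algebra k Γ(X, V) := φ.hom.toAlgebra
  have hj : Spec.map (CommRingCat.ofHom (algebraMap k Γ(X, V))) = j ≫ f := Spec.map_preimage _
  haveI : LocallyOfFiniteType (Spec.map φ) := by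
    rw [Spec.map_preimage]
    infer_instance
  haveI : Algebra.FiniteType k Γ(X, V) := by
    have h1 : φ.hom.FiniteType := (HasRingHomProperty.Spec_iff (P := @LocallyOfFiniteType)).1 ‹_›
    exact h1
  haveI : Nontrivial Γ(X, V) := by
    obtain ⟨v, hv⟩ := hne
    haveI : Nonempty (Spec Γ(X, V)) := ⟨hV.primeIdealOf ⟨v, hv⟩⟩
    exact PrimeSpectrum.nonempty_iff_nontrivial.1 ‹_›
  let B := Γ(X, V) ⊗[k] K
  haveI : IsNoetherianRing B := by
    haveI : IsNoetherianRing (K ⊗[k] Γ(X, V)) := Algebra.FiniteType.isNoetherianRing K _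
    exact isNoetherianRing_of_ringEquiv _ (Algebra.TensorProduct.comm k K Γ(X, V)).toRingEquiv
  let P := pullback f (Spec.map (CommRingCat.ofHom (algebraMap k K)))
  let e₀ := pullback.map (Spec.map (CommRingCat.ofHom (algebraMap k Γ(X, V))))
    (Spec.map (CommRingCat.ofHom (algebraMap k K))) f (Spec.map (CommRingCat.ofHom (algebraMap k K))) j (𝟙 _) (𝟙 _)
    (by rw [hj, Category.comp_id]) (by rw [Category.comp_id, Category.id_comp])
  let ι : Spec (CommRingCat.of B) ⟶ P := (pullbackSpecIso k Γ(X, V) K).inv ≫ e₀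
  haveI : IsOpenImmersion e₀ := inferInstance
  haveI : IsOpenImmersion ι := inferInstance
  let Zc : Set (PrimeSpectrum B) := ι.base ⁻¹' (U' : Set P)ᶜ
  have hZc : IsClosed Zc := U'.2.isClosed_compl.preimage ι.continuous
  let J : Ideal B := PrimeSpectrum.vanishingIdeal Zc
  have hzero : PrimeSpectrum.zeroLocus (J : Set B) = Zc := by
    rw [PrimeSpectrum.zeroLocus_vanishingIdeal_eq_closure, hZc.closure_eq]
  have hdense : Dense (ι.base ⁻¹' (U' : Set P)) := hU'.preimage ι.isOpenEmbedding.isOpenMap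
  have hJ : ∀ Q : Ideal B, Q.IsPrime → (∀ Q' : Ideal B, Q'.IsPrime → Q' ≤ Q → Q' = Q) → ¬ J ≤ Q := by
    classical
    intro Q hQ hmin hle
    let s := ((Ideal.finite_minimalPrimes_of_isNoetherianRing B ⊥).toFinset).erase Q
    have hns : ¬ s.inf id ≤ Q := fun h => by
      obtain ⟨q, hq, hqQ⟩ := hQ.inf_le'.1 h
      obtain ⟨hne', hq'⟩ := Finset.mem_erase.1 hq
      rw [Set.Finite.mem_toFinset] at hq'
      exact hne' (hmin q hq'.1.1 hqQ)
    obtain ⟨b, hb, hbQ⟩ := SetLike.not_le_iff_exists.1 hns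
    obtain ⟨q, hqU, hqb⟩ : ∃ q : PrimeSpectrum B, q ∈ ι.base ⁻¹' (U' : Set P) ∧
        q ∈ (PrimeSpectrum.basicOpen b : Set (PrimeSpectrum B)) :=
      hdense.exists_mem_open (PrimeSpectrum.basicOpen b).2
        (show (PrimeSpectrum.basicOpen b : Set (PrimeSpectrum B)).Nonempty from ⟨⟨Q, hQ⟩, hbQ⟩)
    obtain ⟨q₀, hq₀, hq₀le⟩ := Ideal.exists_minimalPrimes_le (bot_le : ⊥ ≤ q.asIdeal)
    by_cases e : q₀ = Q
    · subst e
      have : q ∈ Zc := hzero ▸ (hle.trans hq₀le : J ≤ q.asIdeal)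
      exact this hqU
    · have h1 : b ∈ q₀ := Finset.inf_le (f := id) (Finset.mem_erase.2 ⟨e, (Set.Finite.mem_toFinset _).2 hq₀⟩) hb
      exact hqb (hq₀le h1)
  obtain ⟨a, ha, key⟩ := exists_open (K := K) (A := Γ(X, V)) J hJ
  refine ⟨X.basicOpen a, X.basicOpen_le a, ?_, ?_⟩
  · obtain ⟨q, hq⟩ : (PrimeSpectrum.basicOpen a : Set (PrimeSpectrum Γ(X, V))).Nonempty := by
      rw [Set.nonempty_iff_ne_empty]
      intro e
      exact ha ((PrimeSpectrum.basicOpen_eq_bot_iff a).1 (TopologicalSpace.Opens.ext e))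
    refine ⟨j.base q, ?_⟩
    rwa [← hV.fromSpec_preimage_basicOpen] at hq
  intro kb Ω _ _ _ _ _ _ _ _ _ x hx hxW y hy₁ hy₂ t
  have hrange : Set.range x.base ⊆ Set.range j.base := by
    rintro _ ⟨t', rfl⟩
    rw [hV.range_fromSpec]
    exact X.basicOpen_le a (hxW t')
  let x₀ : Spec (CommRingCat.of kb) ⟶ Spec Γ(X, V) := IsOpenImmersion.lift j x hrange
  have hx₀ : x₀ ≫ j = x := IsOpenImmersion.lift_fac _ _ _
  let xh : Γ(X, V) ⟶ CommRingCat.of kb := Spec.preimage x₀
  have hxh : φ ≫ xh = CommRingCat.ofHom (algebraMap k kb) := Spec.map_injective (by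
    rw [Spec.map_comp, Spec.map_preimage, Spec.map_preimage, ← Category.assoc, hx₀, hx])
  let xa : Γ(X, V) →ₐ[k] kb :=
    { xh.hom with commutes' := fun c => congrArg (fun h : CommRingCat.of k ⟶ CommRingCat.of kb => h.hom c) hxh }
  have hxa : xa a ≠ 0 := by
    have h1 : x₀.base (IsLocalRing.closedPoint kb) ∈ j ⁻¹ᵁ X.basicOpen a := by
      show (x₀ ≫ j).base _ ∈ X.basicOpen a
      rw [hx₀]
      exact hxW _
    rw [hV.fromSpec_preimage_basicOpen, ← Spec.map_preimage x₀] at h1
    intro e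
    refine h1 ?_
    show xa a ∈ IsLocalRing.maximalIdeal kb
    rw [e]
    exact zero_mem _
  obtain ⟨b, hbJ, hb⟩ := key kb Ω xa hxa
  let ψ : B →ₐ[k] Ω := Algebra.TensorProduct.lift ((IsScalarTower.toAlgHom k kb Ω).comp xa)
    (IsScalarTower.toAlgHom k K Ω) (fun _ _ => Commute.all _ _)
  have hy : y = Spec.map (CommRingCat.ofHom ψ.toRingHom) ≫ ι := by
    refine pullback.hom_ext ?_ ?_
    · rw [hy₁, Category.assoc, Category.assoc, pullback.lift_fst, pullbackSpecIso_inv_fst_assoc, ← hx₀,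
        ← Spec.map_preimage x₀, ← Spec.map_comp_assoc, ← Spec.map_comp_assoc]
      congr 2
      ext c
      show algebraMap kb Ω (xa c) = ψ (c ⊗ₜ[k] (1 : K))
      refine Eq.trans ?_ (Algebra.TensorProduct.lift_tmul _ _ _ c (1 : K)).symm
      rw [map_one, mul_one]
      rfl
    · rw [hy₂, Category.assoc, Category.assoc, pullback.lift_snd, Category.comp_id, pullbackSpecIso_inv_snd,
        ← Spec.map_comp]
      congr 1
      ext c
      show algebraMap K Ω c = ψ ((1 : Γ(X, V)) ⊗ₜ[k] c)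
      refine Eq.trans ?_ (Algebra.TensorProduct.lift_tmul _ _ _ (1 : Γ(X, V)) c).symm
      rw [map_one, one_mul]
      rfl
  rw [hy, Scheme.Hom.comp_apply]
  by_contra hU
  have hq : (Spec.map (CommRingCat.ofHom ψ.toRingHom)).base t ∈ Zc := hU
  rw [← hzero] at hq
  have h2 : ψ b ∈ (t : PrimeSpectrum Ω).asIdeal := hq hbJ
  rw [((Ideal.eq_bot_or_top (t : PrimeSpectrum Ω).asIdeal).resolve_right (t : PrimeSpectrum Ω).2.ne_top),
    Ideal.mem_bot] at h2
  exact hb h2

end Chart

end Groth.Agent.H23.DenseAlgPts
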