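import Groth.Agent.RefX.ExtSect
import Groth.Agent.RefX.ClassGroup
import Groth.Agent.RefX.Divisor
import Groth.Agent.CDiv6.Factorial
import Groth.Agent.ParaFX.Closed
import Groth.Agent.QCoh.LocFree
import Groth.Agent.QCoh.Support

/-!
# Local principality of cycles of codimension one on normal integral schemes
-/

universe u

set_option backward.isDefEq.respectTransparency false
set_option backward.isDefEq.respectTransparency.types false
set_option linter.style.haveILetI false

open CategoryTheory AlgebraicGeometry TopologicalSpace Opposite IsLocalRing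

namespace Groth.Agent.H23.PrincipalAt

open Groth.Agent Groth.Agent.RefX

variable {X : Scheme.{u}} [IsIntegral X] [IsLocallyNoetherian X]

/-- The cycle is the divisor of a rational function on the generizations of the point. -/
def PrincipalAt (D : X → ℤ) (x : X) : Prop :=
  ∃ f : X.functionField, f ≠ 0 ∧
    ∀ z : X, Order.coheight z = 1 → z ⤳ x → D z = Scheme.ord f z

/-- Local finiteness of a cycle of codimension one. -/
def LocFin (D : X → ℤ) : Prop :=
  ∀ V : X.Opens, IsAffineOpen V → {z : X | z ∈ V ∧ Order.coheight z = 1 ∧ D z ≠ 0}.Finite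

omit [IsIntegral X] [IsLocallyNoetherian X] in
theorem LocFin.of_nhds {D : X → ℤ}
    (h : ∀ x : X, ∃ W : X.Opens, x ∈ W ∧ {z : X | z ∈ W ∧ D z ≠ 0}.Finite) : LocFin D := by
  intro V hV
  choose W hxW hW using h
  obtain ⟨t, ht⟩ := hV.isCompact.elim_finite_subcover (fun x => (W x : Set X)) (fun x => (W x).isOpen)
    fun x _ => Set.mem_iUnion.2 ⟨x, hxW x⟩
  refine (t.finite_toSet.biUnion fun x _ => hW x).subset ?_
  rintro z ⟨hzV, -, hz⟩
  obtain ⟨x, hx, hzx⟩ := Set.mem_iUnion₂.1 (ht hzV)
  exact Set.mem_iUnion₂.2 ⟨x, hx, hzx, hz⟩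

theorem ord_one (z : X) : Scheme.ord (1 : X.functionField) z = 0 := by
  have h := Scheme.ord_mul (x := z) (one_ne_zero (α := X.functionField)) one_ne_zero
  rw [mul_one] at h
  omega

theorem ord_inv {f : X.functionField} (hf : f ≠ 0) (z : X) :
    Scheme.ord f⁻¹ z = -Scheme.ord f z := by
  have h := Scheme.ord_mul (x := z) (inv_ne_zero hf) hf
  rw [inv_mul_cancel₀ hf, ord_one] at h
  omega

/-- The orders of a rational function are locally finite. -/
theorem locFin_ord {f : X.functionField} (hf : f ≠ 0) : LocFin (fun z => Scheme.ord f z) := by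
  intro V hV
  let W : X.Opens := ⟨{y | CDiv6.Reg y f} ∩ {y | CDiv6.Reg y f⁻¹},
    (CDiv6.isOpen_reg f).inter (CDiv6.isOpen_reg f⁻¹)⟩
  refine (finite_coheight_one_notMem hV (W := W)
    ⟨CDiv6.reg_genericPoint _, CDiv6.reg_genericPoint _⟩).subset ?_
  rintro z ⟨hzV, hz1, hz⟩
  refine ⟨hzV, hz1, fun hzW => hz ?_⟩
  have h1 := CDiv6.reg_ord_nonneg hf hzW.1
  have h2 := CDiv6.reg_ord_nonneg (inv_ne_zero hf) hzW.2
  rw [ord_inv hf] at h2
  simp only
  omega

theorem exists_pos_nhd {D : X → ℤ} (hD : LocFin D) {f : X.functionField} (hf : f ≠ 0) {x : X}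
    (h : ∀ z : X, Order.coheight z = 1 → z ⤳ x → D z = Scheme.ord f z) :
    ∃ W : X.Opens, x ∈ W ∧ ∀ z ∈ W, Order.coheight z = 1 → D z = Scheme.ord f z := by
  obtain ⟨_, ⟨V, hV, rfl⟩, hxV, -⟩ :=
    X.isBasis_affineOpens.exists_subset_of_mem_open (Set.mem_univ x) isOpen_univ
  replace hV : IsAffineOpen V := hV
  have hfin : {z : X | z ∈ V ∧ Order.coheight z = 1 ∧ D z ≠ Scheme.ord f z}.Finite := by
    refine ((hD V hV).union (locFin_ord hf V hV)).subset ?_
    rintro z ⟨hzV, hz1, hz⟩
    by_cases h0 : D z = 0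
    · exact Or.inr ⟨hzV, hz1, fun h1 => hz (h0.trans h1.symm)⟩
    · exact Or.inl ⟨hzV, hz1, h0⟩
  refine ⟨⟨(V : Set X) \ ⋃ z ∈ {z : X | z ∈ V ∧ Order.coheight z = 1 ∧ D z ≠ Scheme.ord f z},
      closure {z}, V.isOpen.sdiff (hfin.isClosed_biUnion fun _ _ => isClosed_closure)⟩, ⟨hxV, ?_⟩, ?_⟩
  · intro hmem
    obtain ⟨z, hz, hzx⟩ := Set.mem_iUnion₂.1 hmem
    exact hz.2.2 (h z hz.2.1 (specializes_iff_mem_closure.2 hzx))
  · rintro z ⟨hzV, hzn⟩ hz1
    by_contra hc
    exact hzn (Set.mem_iUnion₂.2 ⟨z, ⟨hzV, hz1, hc⟩, subset_closure rfl⟩)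

variable (hX : Pi1.IsNormalScheme X) {F : X.Modules}

/-- A frame of the module near a point makes its divisor principal there. -/
theorem of_frame {v : F.presheaf.stalk (genericPoint X)} (hv : v ≠ 0) {D : X → ℤ}
    (hD : ∀ z : X, Order.coheight z = 1 →
      Cyc.secOrdAt F (genericPoint X) z (specializes_genericPoint z) (clsη F v) = D z)
    {U : X.Opens} {e : Γ(F, U)} (he : InvX.IsFrame e) (hη : genericPoint X ∈ U) :
    ∃ f : X.functionField, f ≠ 0 ∧
      ∀ z ∈ U, Order.coheight z = 1 → D z = Scheme.ord f z := by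
  obtain ⟨φ, rfl⟩ := exists_coord_generic he hη v
  have hφ : (show X.functionField from φ) ≠ 0 := fun h => hv (by rw [show φ = 0 from h, zero_smul])
  exact ⟨_, hφ, fun z hz hz1 => (hD z hz1).symm.trans (secOrd_frame he hz hz1 hφ)⟩

theorem of_frame_at {v : F.presheaf.stalk (genericPoint X)} (hv : v ≠ 0) {D : X → ℤ}
    (hD : ∀ z : X, Order.coheight z = 1 →
      Cyc.secOrdAt F (genericPoint X) z (specializes_genericPoint z) (clsη F v) = D z)
    {x : X} {U : X.Opens} (hx : x ∈ U) {e : Γ(F, U)} (he : InvX.IsFrame e) : PrincipalAt D x := by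
  obtain ⟨f, hf, h⟩ := of_frame hv hD he ((specializes_genericPoint x).mem_open U.2 hx)
  exact ⟨f, hf, fun z hz hzx => h z (hzx.mem_open U.2 hx) hz⟩

include hX in
/-- Where the divisor of a rational section is principal, the module has a frame. -/
theorem exists_frame (hF : RefHull.IsRef1 F) {v : F.presheaf.stalk (genericPoint X)} (hv : v ≠ 0)
    {D : X → ℤ}
    (hD : ∀ z : X, Order.coheight z = 1 →
      Cyc.secOrdAt F (genericPoint X) z (specializes_genericPoint z) (clsη F v) = D z)
    (hfin : LocFin D) {x : X} (h : PrincipalAt D x) :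
    ∃ (U : X.Opens) (_ : x ∈ U) (e : Γ(F, U)), InvX.IsFrame e := by
  obtain ⟨f, hf, hfz⟩ := h
  obtain ⟨W, hxW, hW⟩ := exists_pos_nhd hfin hf hfz
  have hη : genericPoint X ∈ W := (specializes_genericPoint x).mem_open W.2 hxW
  have hfr := hasFrames_of_isRef1 hX hF
  have htf : ∀ y : X, Module.IsTorsionFree (X.presheaf.stalk y) (F.presheaf.stalk y) := fun y =>
    torsionFree_of_reflexive ((isReflexive_iff hF.1).1 hF.2.1 y)
  obtain ⟨w, hwdef⟩ : ∃ w, w = (show X.presheaf.stalk (genericPoint X) from f⁻¹) • v := ⟨_, rfl⟩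
  have hw : w ≠ 0 := fun h0 => by
    rcases smul_eq_zero_generic (hwdef.symm.trans h0) with h1 | h1
    · exact inv_ne_zero hf h1
    · exact hv h1
  have hord : ∀ z ∈ W, Order.coheight z = 1 →
      Cyc.secOrdAt F (genericPoint X) z (specializes_genericPoint z) (clsη F w) = 0 := fun z hz hz1 => by
    rw [hwdef, secOrd_smul hfr hz1 (inv_ne_zero hf) hv, hD z hz1, hW z hz hz1, ord_inv hf]
    ring
  obtain ⟨t, ht⟩ := exists_section_of_mem_range hX hF.1 hF.2.1 hη (v := w) fun z hz hz1 =>
    (secOrd_nonneg_iff hX hfr hz1 hw).1 (hord z hz hz1).ge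
  refine ⟨W, hxW, t, InvX.isFrame_of_germ fun y hy => ?_⟩
  have hty : spM F (specializes_genericPoint y) (F.presheaf.germ W y hy t) = w := by
    rw [spM_germ]; exact ht
  have hinj : ∀ m : F.presheaf.stalk y, spM F (specializes_genericPoint y) m = 0 → m = 0 := fun m hm => by
    obtain ⟨V, hV, m, rfl⟩ := TopCat.Presheaf.exists_germ_eq F.presheaf m
    rw [spM_germ] at hm
    rw [germ_eq_zero_of_generic hF.1 htf m _ hm, map_zero]
  constructor
  · intro a b hab
    have h1 := congrArg (spM F (specializes_genericPoint y)) hab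
    simp only [spM_smul, hty] at h1
    exact IsFractionRing.injective (X.presheaf.stalk y) X.functionField
      ((bijective_smul_of_ne_zero hfr hw).1 h1)
  · intro m
    obtain ⟨a, ha⟩ := (bijective_smul_of_ne_zero hfr hw).2 (spM F (specializes_genericPoint y) m)
    simp only at ha
    by_cases ha0 : (show X.functionField from a) = 0
    · refine ⟨0, ?_⟩
      show (0 : X.presheaf.stalk y) • _ = m
      rw [zero_smul, hinj m (by rw [← ha, show a = 0 from ha0, zero_smul])]
    have haw : a • w ≠ 0 := fun h0 => by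
      rcases smul_eq_zero_generic h0 with h1 | h1
      · exact ha0 h1
      · exact hw h1
    obtain ⟨b, hb⟩ : CDiv6.Reg y (show X.functionField from a) := by
      refine CDiv6.reg_of_forall_ord_nonneg hX ha0 fun z hz hz1 => ?_
      have hmem : a • w ∈ Set.range (spM F (specializes_genericPoint z)) := by
        obtain ⟨V, hV, m', rfl⟩ := TopCat.Presheaf.exists_germ_eq F.presheaf m
        refine ⟨F.presheaf.germ V z (hz.mem_open V.2 hV) m', ?_⟩
        rw [ha, spM_germ, spM_germ]
      have h1 := (secOrd_nonneg_iff hX hfr hz1 haw).2 hmem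
      have h2 := secOrd_smul hfr hz1 ha0 hw
      have h3 := hord z (hz.mem_open W.2 hy) hz1
      have h4 := h1.trans h2.le
      rw [h3, add_zero] at h4
      exact h4
    refine ⟨b, ?_⟩
    have h5 : spM F (specializes_genericPoint y) (b • F.presheaf.germ W y hy t - m) = 0 := by
      rw [map_sub, spM_smul, hty, sub_eq_zero, ← ha]
      congr 1
    exact sub_eq_zero.1 (hinj _ h5)

include hX in
theorem isInvertible_of_principal (hF : RefHull.IsRef1 F) {v : F.presheaf.stalk (genericPoint X)}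
    (hv : v ≠ 0) {D : X → ℤ}
    (hD : ∀ z : X, Order.coheight z = 1 →
      Cyc.secOrdAt F (genericPoint X) z (specializes_genericPoint z) (clsη F v) = D z)
    (hfin : LocFin D) (h : ∀ x, PrincipalAt D x) : PicF.IsInvertible F :=
  InvX.isInvertible_of_frames fun x => exists_frame hX hF hv hD hfin (h x)

include hX in
/-- Every locally finite cycle of codimension one which is principal everywhere is the divisor of a
rational section of an invertible module. -/
theorem exists_invertible (D : X → ℤ) (hfin : LocFin D) (h : ∀ x, PrincipalAt D x) :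
    ∃ (L : X.Modules) (_ : PicF.IsInvertible L) (v : L.presheaf.stalk (genericPoint X)), v ≠ 0 ∧
      ∀ z : X, Order.coheight z = 1 →
        Cyc.secOrdAt L (genericPoint X) z (specializes_genericPoint z) (clsη L v) = D z := by
  obtain ⟨F, hF, v, hv, hD⟩ := exists_ref1_of_orders hX D hfin
  exact ⟨F, isInvertible_of_principal hX hF hv hD hfin h, v, hv, hD⟩

theorem of_invertible {L : X.Modules} (hL : PicF.IsInvertible L)
    {v : L.presheaf.stalk (genericPoint X)} (hv : v ≠ 0) {D : X → ℤ}
    (hD : ∀ z : X, Order.coheight z = 1 →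
      Cyc.secOrdAt L (genericPoint X) z (specializes_genericPoint z) (clsη L v) = D z) (x : X) :
    PrincipalAt D x := by
  obtain ⟨U, hx, e, he⟩ := InvX.exists_frame hL x
  exact of_frame_at hv hD hx he

/-- Invertible modules are reflexive of rank one. -/
theorem isRef1_of_invertible {L : X.Modules} (hL : PicF.IsInvertible L) : RefHull.IsRef1 L := by
  have hc : Coh.IsCoh L := QCoh.isCoh_iff_isFP.2 (QCoh.isFP_of_isFinLocFree fun x => by
    obtain ⟨U, hx, ⟨e⟩⟩ := hL x
    exact ⟨U, 1, hx, ⟨e ≪≫ (Limits.coproductUniqueIso fun _ : Fin 1 => Coh.structureModule (U : Scheme.{u})).symm⟩⟩)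
  refine ⟨hc, (isReflexive_iff hc).2 fun x => ?_, ?_⟩
  · obtain ⟨U, hx, e, he⟩ := InvX.exists_frame hL x
    show Module.IsReflexive _ _
    exact Module.equiv (LinearEquiv.ofBijective
      (LinearMap.toSpanSingleton (X.presheaf.stalk x) _ (L.presheaf.germ U x hx e)) (he.germ_bijective hx))
  · exact ⟨⊤, dense_univ, ParaFX.isInvertible_restrict _ hL⟩

include hX in
/-- An invertible module with a rational section of principal divisor is trivial. -/
theorem nonempty_iso_of_principal {L : X.Modules} (hL : PicF.IsInvertible L)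
    {v : L.presheaf.stalk (genericPoint X)} (hv : v ≠ 0) {f : X.functionField} (hf : f ≠ 0)
    (h : ∀ z : X, Order.coheight z = 1 →
      Cyc.secOrdAt L (genericPoint X) z (specializes_genericPoint z) (clsη L v) = Scheme.ord f z) :
    Nonempty (L ≅ Coh.structureModule X) := by
  obtain ⟨w, hw, hw0⟩ := isDivOf_unit (X := X)
  refine nonempty_iso_of_orders hX (isRef1_of_invertible hL) isRef1_unit hv hw hf fun z hz => ?_
  rw [h z hz, hw0 z hz]
  simp

theorem PrincipalAt.zero (x : X) : PrincipalAt (fun _ => 0) x :=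
  ⟨1, one_ne_zero, fun z _ _ => (ord_one z).symm⟩

theorem PrincipalAt.add {D E : X → ℤ} {x : X} (h : PrincipalAt D x) (h' : PrincipalAt E x) :
    PrincipalAt (D + E) x := by
  obtain ⟨f, hf, hD⟩ := h
  obtain ⟨g, hg, hE⟩ := h'
  exact ⟨f * g, mul_ne_zero hf hg, fun z hz hzx => by
    rw [Pi.add_apply, hD z hz hzx, hE z hz hzx, Scheme.ord_mul hf hg]⟩

theorem PrincipalAt.neg {D : X → ℤ} {x : X} (h : PrincipalAt D x) : PrincipalAt (-D) x := by
  obtain ⟨f, hf, hD⟩ := h
  exact ⟨f⁻¹, inv_ne_zero hf, fun z hz hzx => by rw [Pi.neg_apply, hD z hz hzx, ord_inv hf]⟩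

theorem PrincipalAt.congr {D E : X → ℤ} {x : X} (h : PrincipalAt D x)
    (he : ∀ z : X, Order.coheight z = 1 → z ⤳ x → E z = D z) : PrincipalAt E x := by
  obtain ⟨f, hf, hD⟩ := h
  exact ⟨f, hf, fun z hz hzx => (he z hz hzx).trans (hD z hz hzx)⟩

open Classical in
/-- The prime cycle of a point of codimension one. -/
noncomputable def single (z₀ : X) : X → ℤ := fun z => if z = z₀ then 1 else 0

omit [IsIntegral X] [IsLocallyNoetherian X] in
theorem locFin_single (z₀ : X) : LocFin (single z₀) := fun V _ =>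
  (Set.finite_singleton z₀).subset fun z ⟨_, _, hz⟩ => by
    by_contra hne
    exact hz (if_neg hne)

open Classical in
/-- Finitely supported combinations of principal prime cycles are principal. -/
theorem of_single {D : X → ℤ} {x : X} (hfin : LocFin D)
    (h : ∀ z : X, Order.coheight z = 1 → z ⤳ x → PrincipalAt (single z) x) : PrincipalAt D x := by
  obtain ⟨_, ⟨V, hV, rfl⟩, hxV, -⟩ :=
    X.isBasis_affineOpens.exists_subset_of_mem_open (Set.mem_univ x) isOpen_univ
  have hS : {z : X | Order.coheight z = 1 ∧ z ⤳ x ∧ D z ≠ 0}.Finite :=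
    (hfin V hV).subset fun z ⟨h1, h2, h3⟩ => ⟨h2.mem_open V.2 hxV, h1, h3⟩
  suffices H : ∀ T : Finset X, (∀ z ∈ T, Order.coheight z = 1 ∧ z ⤳ x) →
      PrincipalAt (fun z => if z ∈ T then D z else 0) x by
    refine (H hS.toFinset fun z hz => ⟨(hS.mem_toFinset.1 hz).1, (hS.mem_toFinset.1 hz).2.1⟩).congr
      fun z hz hzx => ?_
    simp only [Set.Finite.mem_toFinset, Set.mem_setOf_eq, hz, hzx, true_and]
    split_ifs with h0
    · rfl
    · exact not_not.1 h0
  intro T
  induction T using Finset.induction with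
  | empty => intro _; simpa using PrincipalAt.zero x
  | insert a s ha ih =>
    intro hT
    obtain ⟨f, hf, hfa⟩ := h a (hT a (Finset.mem_insert_self _ _)).1 (hT a (Finset.mem_insert_self _ _)).2
    obtain ⟨g, hg, hgs⟩ := ih fun z hz => hT z (Finset.mem_insert_of_mem hz)
    refine ⟨f ^ (D a) * g, mul_ne_zero (zpow_ne_zero _ hf) hg, fun z hz hzx => ?_⟩
    have hpow : ∀ n : ℤ, Scheme.ord (f ^ n) z = n * Scheme.ord f z := by
      intro n
      induction n using Int.induction_on with
      | zero => simp [ord_one]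
      | succ i hi => rw [zpow_add_one₀ hf, Scheme.ord_mul (zpow_ne_zero _ hf) hf, hi]; ring
      | pred i hi =>
        rw [zpow_sub_one₀ hf, Scheme.ord_mul (zpow_ne_zero _ hf) (inv_ne_zero hf), hi, ord_inv hf]
        ring
    rw [Scheme.ord_mul (zpow_ne_zero _ hf) hg, ← hgs z hz hzx, hpow, ← hfa z hz hzx, single]
    by_cases hza : z = a
    · subst hza; simp [ha]
    · simp [hza]

include hX in
theorem principalAt_single_of_ufd (hU : ∀ x : X, UniqueFactorizationMonoid (X.presheaf.stalk x))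
    {z₀ : X} (h₀ : Order.coheight z₀ = 1) (x : X) : PrincipalAt (single z₀) x := by
  obtain ⟨U, f, hxU, hf⟩ := CDiv6.exists_local_equation hX hU z₀ h₀ x
  refine ⟨f, f.ne_zero, fun z hz hzx => ?_⟩
  obtain ⟨h1, h2⟩ := hf z (hzx.mem_open U.2 hxU) hz
  by_cases hzz : z = z₀
  · rw [h1 hzz, single, if_pos hzz]
  · rw [h2 hzz, single, if_neg hzz]

include hX in
theorem principalAt_of_ufd (hU : ∀ x : X, UniqueFactorizationMonoid (X.presheaf.stalk x))
    {D : X → ℤ} (hfin : LocFin D) (x : X) : PrincipalAt D x :=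
  of_single hfin fun _ hz _ => principalAt_single_of_ufd hX hU hz x

include hX in
theorem ufd_of_principalAt
    (h : ∀ z₀ : X, Order.coheight z₀ = 1 → ∀ x, PrincipalAt (single z₀) x) (x : X) :
    UniqueFactorizationMonoid (X.presheaf.stalk x) := by
  refine CDiv6.ufd_of_divisors hX (fun z₀ h₀ => ?_) x
  have hloc : ∀ x : X, ∃ (W : X.Opens) (f : CDiv.KUnits X), x ∈ W ∧
      ∀ z ∈ W, Order.coheight z = 1 → single z₀ z = Scheme.ord (f : X.functionField) z := fun x => by
    obtain ⟨f, hf, hfz⟩ := h z₀ h₀ x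
    obtain ⟨W, hxW, hW⟩ := exists_pos_nhd (locFin_single z₀) hf hfz
    exact ⟨W, Units.mk0 f hf, hxW, hW⟩
  choose U g hxU hg using hloc
  have hD : ∀ x z : X, z ∈ U x → CDiv.germOf X z (g z) = CDiv.germOf X z (g x) := by
    intro x z hz
    have : CDiv.germOf X z (g z / g x) = 1 := CDiv6.germOf_eq_one_of_ord hX _ fun y hy hy1 => by
      rw [CDiv6.ord_div_unit, ← hg z y (hy.mem_open (U z).isOpen (hxU z)) hy1,
        ← hg x y (hy.mem_open (U x).isOpen hz) hy1, sub_self]
    rwa [CDiv.germOf, QuotientGroup.mk_div, div_eq_one] at this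
  have heq : ∀ (y : X) (f : CDiv.KUnits X), CDiv.germOf X y (g y) = CDiv.germOf X y f →
      Scheme.ord (f : X.functionField) y = Scheme.ord (g y : X.functionField) y := by
    intro y f h
    have h1 : CDiv.germOf X y (g y / f) = 1 := by
      rw [CDiv.germOf, QuotientGroup.mk_div, div_eq_one]; exact h
    obtain ⟨r1, r2⟩ := (CDiv6.germOf_eq_one_iff y _).mp h1
    have h2 := CDiv6.reg_ord_nonneg (g y / f).ne_zero r1
    have h3 := CDiv6.reg_ord_nonneg ((g y / f)⁻¹).ne_zero r2
    rw [CDiv6.ord_unit_inv, CDiv6.ord_div_unit] at h3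
    rw [CDiv6.ord_div_unit] at h2
    omega
  refine ⟨⟨fun y => CDiv.germOf X y (g y), fun y => ⟨U y, g y, hxU y, fun z hz => hD y z hz⟩⟩,
    fun f hf => ?_, fun y hy hy1 f hf => ?_⟩
  · rw [heq z₀ f hf, ← hg z₀ z₀ (hxU z₀) h₀, single, if_pos rfl]
  · rw [heq y f hf, ← hg y y (hxU y) hy1, single, if_neg hy]

end Groth.Agent.H23.PrincipalAt
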