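import Groth.Agent.H23.WeilClass
import Groth.Agent.RefX.ClassGroup
import Groth.Agent.H28.KFilt
import Groth.Agent.Lib.DivisorExt
import Groth.Agent.H23.PrincipalAt
import Groth.Prelude.Def_KDet2

/-!
# The determinant homomorphism on reflexive modules of rank one
-/

set_option autoImplicit false
set_option linter.style.haveILetI false
set_option linter.unusedSectionVars false
set_option backward.isDefEq.respectTransparency false
set_option backward.isDefEq.respectTransparency.types false

universe u

open CategoryTheory CategoryTheory.Limits AlgebraicGeometry TopologicalSpace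

noncomputable section

namespace Groth.Agent.H23.DetHat

open Groth.Agent CodimOneRank WeilDet

variable {X : Scheme.{u}} [IsNoetherian X] [IsIntegral X] {F : X.Modules}

theorem genericPoint_notMem_closure {z : X} (hz : Dim1 z) :
    genericPoint X ∉ CohB1.support (Cyc.closureStructureSheaf z) := fun h =>
  ne_genericPoint_of_dim1 hz (MaxRank.isMax_iff.1 isMax_genericPoint z
    (specializes_iff_mem_closure.2 (KZ.CycleClass.support_closureStructureSheaf_subset z h)))

/-- A vector spanning the generic stalk, as a basis. -/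
def basisOf {v : F.presheaf.stalk (genericPoint X)}
    (hv : Function.Bijective fun a : X.presheaf.stalk (genericPoint X) => a • v) :
    Module.Basis (Fin 1) X.functionField (F.presheaf.stalk (genericPoint X)) :=
  (Module.Basis.singleton (Fin 1) X.functionField).map
    (LinearEquiv.ofBijective (LinearMap.toSpanSingleton X.functionField _ v) hv)

theorem basisOf_apply {v : F.presheaf.stalk (genericPoint X)}
    (hv : Function.Bijective fun a : X.presheaf.stalk (genericPoint X) => a • v) (i : Fin 1) : basisOf hv i = v := by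
  refine (Module.Basis.map_apply _ _ _).trans ?_
  show ((Module.Basis.singleton (Fin 1) X.functionField) i : X.functionField) • v = v
  rw [Module.Basis.singleton_apply, one_smul]

/-- In rank one the determinant invariant is the order of a section. -/
theorem D_eq_secOrd (hF : Coh.IsCoh F) (hf : RefX.HasFrames F) {v : F.presheaf.stalk (genericPoint X)} (hv0 : v ≠ 0)
    (hv : Function.Bijective fun a : X.presheaf.stalk (genericPoint X) => a • v) (x : P X) :
    D (basisOf hv) x = Cyc.secOrdAt F (genericPoint X) x.1 (RefX.specializes_genericPoint x.1) (RefX.clsη F v) := by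
  haveI := krullDimLE_of_dim1 x.2
  haveI : Fact (Coh.IsCoh F) := ⟨hF⟩
  have hx1 := coheight_of_dim1 x.2
  obtain ⟨U, hxU, e, he⟩ := hf x.1 hx1.le
  have hη : genericPoint X ∈ U := (RefX.specializes_genericPoint x.1).mem_open U.2 hxU
  obtain ⟨φ, hφ⟩ := RefX.exists_coord_generic he hη v
  have hφ0 : (show X.functionField from φ) ≠ 0 := fun h => hv0 (by rw [hφ, show φ = 0 from h, zero_smul])
  obtain ⟨a, b, hb, hab⟩ := IsFractionRing.div_surjective (A := X.presheaf.stalk x.1) (show X.functionField from φ)
  have hb0 : b ≠ 0 := nonZeroDivisors.ne_zero hb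
  have hB : algebraMap (X.presheaf.stalk x.1) X.functionField b ≠ 0 :=
    (map_ne_zero_iff _ (IsFractionRing.injective _ _)).2 hb0
  have ha0 : a ≠ 0 := fun h => hφ0 (by rw [← hab, h, map_zero, zero_div])
  let t := F.presheaf.germ U x.1 hxU e
  have hlift : LatDet.IsLift (sGen F x) (basisOf hv) b (fun _ : Fin 1 => a • t) := by
    refine ⟨hb0, fun i => ?_⟩
    rw [map_smul, basisOf_apply]
    show algebraMap (X.presheaf.stalk x.1) X.functionField a •
      RefX.spM F (RefX.specializes_genericPoint x.1) t = algebraMap (X.presheaf.stalk x.1) X.functionField b • v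
    rw [RefX.spM_germ, hφ, ← smul_assoc, smul_eq_mul, ← hab, mul_div_cancel₀ _ hB]
  have hcol : LatDet.colen (R := X.presheaf.stalk x.1) (fun _ : Fin 1 => a • t) = Ring.ord (X.presheaf.stalk x.1) a := by
    let E := LinearEquiv.ofBijective (LinearMap.toSpanSingleton (X.presheaf.stalk x.1) _ t) (he.germ_bijective hxU)
    rw [LatDet.colen, Ring.ord]
    refine (Submodule.Quotient.equiv _ _ E ?_).length_eq.symm
    rw [Set.range_const, Submodule.map_span, Set.image_singleton]
    rfl
  show LatDet.d (sGen F x) (basisOf hv) = _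
  rw [LatDet.d_eq (isGen hF x) _ hlift, LatDet.val, hcol, Fintype.card_fin, Nat.cast_one, one_mul,
    ← LatDet.ord_cast (K := X.functionField) ha0]
  have hsec : Cyc.secOrdAt F (genericPoint X) x.1 (RefX.specializes_genericPoint x.1) (RefX.clsη F v) =
      Scheme.ord (show X.functionField from φ) x.1 := by
    rw [hφ]; exact RefX.secOrd_frame he hxU hx1 hφ0
  rw [hsec, ← RefX.ordK_eq hx1 hφ0, ← ordFrac_eq_ordK x hφ0]
  have hmul := IntThLib.ordFrac_mul (A := X.presheaf.stalk x.1) hφ0 hB
  have hφb : (show X.functionField from φ) * algebraMap (X.presheaf.stalk x.1) X.functionField b =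
      algebraMap (X.presheaf.stalk x.1) X.functionField a := by
    rw [← hab, div_mul_cancel₀ _ hB]
  rw [hφb] at hmul
  simp only [LatDet.o]
  linarith

/-- The class of a module of rank one. -/
theorem clsD_of_isDivOf (hF : Coh.IsCoh F) (hf : RefX.HasFrames F) {Dv : X → ℤ} (hD : RefX.IsDivOf F Dv) :
    clsD F = QuotientAddGroup.mk (fun x : P X => Dv x.1) := by
  obtain ⟨v, hv, hv'⟩ := hD
  have hb := RefX.bijective_smul_of_ne_zero hf hv
  rw [clsD_eq hF (basisOf hb)]
  congr 1
  funext x
  rw [D_eq_secOrd hF hf hv hb x, hv' x.1 (coheight_of_dim1 x.2)]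

/-- Modules with the same class are isomorphic. -/
theorem nonempty_iso_of_mk (hX : Pi1.IsNormalScheme X) {G : X.Modules} (hF : RefHull.IsRef1 F) (hG : RefHull.IsRef1 G)
    {A B : X → ℤ} (hA : RefX.IsDivOf F A) (hB : RefX.IsDivOf G B)
    (h : (QuotientAddGroup.mk (fun x : P X => A x.1) : (P X → ℤ) ⧸ Pr X) = QuotientAddGroup.mk (fun x : P X => B x.1)) :
    Nonempty (F ≅ G) := by
  obtain ⟨v, hv, hv'⟩ := hA
  obtain ⟨w, hw, hw'⟩ := hB
  obtain ⟨f, hf, hfe⟩ := (QuotientAddGroup.eq_iff_sub_mem).1 h
  obtain ⟨φ, rfl⟩ : ∃ φ : X.functionField, X.residue (genericPoint X) φ = f :=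
    Ideal.Quotient.mk_surjective f
  have hφ : φ ≠ 0 := fun h0 => hf (by rw [h0]; exact map_zero _)
  refine RefX.nonempty_iso_of_orders hX hF hG hv hw hφ fun x hx => ?_
  have hd1 : Dim1 x := by
    show ringKrullDim _ = 1
    rw [ringKrullDim_stalk_eq_coheight, hx]
    rfl
  have h2 := congrFun hfe ⟨x, hd1⟩
  rw [hv' x hx, hw' x hx, ← RefX.ordK_eq hx hφ]
  have h3 : A x - B x = RefX.ordK x φ := h2
  linarith

/-- The ideal of a prime divisor has frames in codimension one. -/
theorem hasFrames_ptIdeal (hX : Pi1.IsNormalScheme X) {z : X} (hz : Dim1 z) :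
    Coh.IsCoh (ClSub.idealMod (IntMult.ptIdeal z)) ∧ RefX.HasFrames (ClSub.idealMod (IntMult.ptIdeal z)) ∧
      clsD (ClSub.idealMod (IntMult.ptIdeal z)) + clsD (Cyc.closureStructureSheaf z) = 0 := by
  classical
  let I := ClSub.idealMod (IntMult.ptIdeal z)
  have hS := DivisorExt.ideal_shortExact (IntMult.ptIdeal z)
  have hO : Coh.IsCoh (Coh.structureModule X) := QCoh.isCoh_structureModule'
  have hQ : Coh.IsCoh (Cyc.closureStructureSheaf z) := KZ.CycleClass.isCoh_closureStructureSheaf z
  have hI : Coh.IsCoh I := QCoh.isCoh_kernel hO hQ _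
  refine ⟨hI, ?_, ?_⟩
  · have hst := fun y => CycLib.stalk_shortExact hS hI.1 hO.1 hQ.1 y
    have htf : ∀ y : X, Module.IsTorsionFree (X.presheaf.stalk y) (I.presheaf.stalk y) := fun y => by
      haveI : Module.IsTorsionFree (X.presheaf.stalk y) ((Coh.structureModule X).presheaf.stalk y) :=
        RefX.torsionFree_of_reflexive ((RefX.isReflexive_iff hO).1 RefX.isRef1_unit.2.1 y)
      exact (hst y).1.moduleIsTorsionFree _ (fun a m => map_smul _ a m)
    have hsub : Subsingleton ((Cyc.closureStructureSheaf z).presheaf.stalk (genericPoint X)) :=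
      not_not.1 (genericPoint_notMem_closure hz)
    obtain ⟨hi, he, -⟩ := hst (genericPoint X)
    have hbij : Function.Bijective (CycLib.stalkLin (ClSub.idealModι (IntMult.ptIdeal z)) (genericPoint X)) :=
      ⟨hi, fun t => (he t).1 (@Subsingleton.elim _ hsub _ _)⟩
    let E := LinearEquiv.ofBijective _ hbij
    have hfr := InvX.isFrame_one (X := X) (⊤ : X.Opens)
    let w := E.symm ((Coh.structureModule X).presheaf.germ ⊤ (genericPoint X) trivial
      (show Γ(Coh.structureModule X, ⊤) from (1 : Γ(X, ⊤))))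
    have hw : Function.Bijective fun a : X.presheaf.stalk (genericPoint X) => a • w := by
      have := E.symm.bijective.comp (hfr.germ_bijective (x := genericPoint X) trivial)
      convert this using 1
      funext a
      exact (map_smul E.symm a _).symm
    intro x hx
    rcases lt_or_eq_of_le hx with h | h
    · have hxη : x = genericPoint X := by
        rw [ENat.lt_one_iff_eq_zero, Order.coheight_eq_zero] at h
        exact (Specializes.antisymm (h (RefX.specializes_genericPoint x)) (RefX.specializes_genericPoint x)).eq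
      subst hxη
      have hsp : RefX.spM I (RefX.specializes_genericPoint (genericPoint X)) w = w := by
        obtain ⟨V, hV, m, hm⟩ := TopCat.Presheaf.exists_germ_eq I.presheaf w
        rw [← hm, RefX.spM_germ]
      refine RefX.exists_frame_of_gen hI htf (t := w) (eq_top_iff.2 fun u _ => ?_) fun h0 => ?_
      · obtain ⟨a, ha⟩ := hw.2 u
        exact Submodule.mem_span_singleton.2 ⟨a, ha⟩
      · rw [hsp] at h0
        have h01 : (fun a : X.presheaf.stalk (genericPoint X) => a • w) 0 =
            (fun a : X.presheaf.stalk (genericPoint X) => a • w) 1 := by simp [h0]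
        exact zero_ne_one (α := X.functionField) (hw.1 h01)
    · obtain ⟨t, ht, ht0⟩ := RefX.exists_gen_dim_one hX hI htf hw h
      exact RefX.exists_frame_of_gen hI htf ht ht0
  · refine ((clsD_ses hS hI hO hQ).symm).trans ?_
    refine (clsD_of_isDivOf hO (RefX.hasFrames_of_invertible (PicLoc.isInvertible_structureModule X))
      RefX.isDivOf_unit).trans ?_
    exact QuotientAddGroup.mk_zero _

variable [RefFun.Law X] (dh : SGA6.Kcoh X →+ Additive (RefFun.Ref1Set X))

/-- Classes whose determinant is the module with that divisor. -/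
def Good (φ : SGA6.Kcoh X →+ (P X → ℤ) ⧸ Pr X) (c : SGA6.Kcoh X) : Prop :=
  ∃ (F : X.Modules) (hF : RefHull.IsRef1 F) (A : X → ℤ), RefX.IsDivOf F A ∧
    φ c = QuotientAddGroup.mk (fun x : P X => A x.1) ∧ dh c = Additive.ofMul (RefFun.cls F hF)

theorem cls_unit : Additive.ofMul (RefFun.cls (Coh.structureModule X) RefX.isRef1_unit) = 0 :=
  congrArg Additive.ofMul ((RefFun.cls_eq_one_iff _).2 ⟨Iso.refl _⟩)

/-- Every class has the determinant of the reflexive module with its divisor. -/
theorem good_all (hX : Pi1.IsNormalScheme X) (hdh : KDet.IsDetHat X dh)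
    {φ : SGA6.Kcoh X →+ (P X → ℤ) ⧸ Pr X} (hφ : ∀ F : X.Modules, Coh.IsCoh F → φ (KDet.clc X F) = clsD F)
    (c : SGA6.Kcoh X) : Good dh φ c := by
  classical
  have htens : ∀ {F G : X.Modules} (hF : RefHull.IsRef1 F) (hG : RefHull.IsRef1 G)
      (hFG : RefHull.IsRef1 (RefHull.ddual (CohB1.tensorMod F G))),
      RefFun.cls F hF * RefFun.cls G hG = RefFun.cls _ hFG := fun hF hG hFG =>
    Subtype.ext ((RefFun.cls_mul_cls_val hF hG).trans rfl)
  let T : AddSubgroup (SGA6.Kcoh X) :=
    { carrier := setOf (Good dh φ)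
      zero_mem' := ⟨_, RefX.isRef1_unit, 0, RefX.isDivOf_unit, by rw [map_zero]; exact (QuotientAddGroup.mk_zero _).symm,
        by rw [map_zero, cls_unit]⟩
      add_mem' := by
        rintro a b ⟨F, hF, A, hA, hφa, hda⟩ ⟨G, hG, B, hB, hφb, hdb⟩
        obtain ⟨h1, h2⟩ := RefX.IsDivOf.tensor hX hF hG hA hB
        refine ⟨_, h1, A + B, h2, ?_, ?_⟩
        · rw [map_add, hφa, hφb, ← QuotientAddGroup.mk_add]; rfl
        · rw [map_add, hda, hdb, ← ofMul_mul, htens hF hG h1]
      neg_mem' := by
        rintro a ⟨F, hF, A, hA, hφa, hda⟩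
        obtain ⟨h1, h2⟩ := RefX.IsDivOf.dual hX hF hA
        obtain ⟨h3, h4⟩ := RefX.IsDivOf.tensor hX hF h1 hA h2
        rw [add_neg_cancel] at h4
        refine ⟨_, h1, -A, h2, ?_, ?_⟩
        · rw [map_neg, hφa, ← QuotientAddGroup.mk_neg]; rfl
        · rw [map_neg, hda, ← ofMul_inv, inv_eq_of_mul_eq_one_right (b := RefFun.cls _ h1) ?_]
          rw [htens hF h1 h3, ← Additive.ofMul.injective.eq_iff]
          exact (congrArg Additive.ofMul (Subtype.ext
            (RefX.cl_eq_of_isDivOf hX h3 RefX.isRef1_unit h4 RefX.isDivOf_unit))).trans cls_unit }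
  have hgen : ∀ ξ : X, KDet.clc X (Cyc.closureStructureSheaf ξ) ∈ T := by
    intro ξ
    rcases eq_or_ne ξ (genericPoint X) with rfl | hne
    · have h1 := KZ.CycleClass.clSub_push_structure (𝟙 X)
      have h2 : KDet.clc X (Cyc.closureStructureSheaf (genericPoint X)) = KDet.clc X (Coh.structureModule X) :=
        h1.symm.trans (KZ.clSub_iso _ ((Scheme.Modules.pushforwardId X).app _) (QCoh.isCoh_push_structure (𝟙 X))
          QCoh.isCoh_structureModule' (isZero_zero _) KZ.isCoh_zero)
      rw [h2]
      refine ⟨_, RefX.isRef1_unit, 0, RefX.isDivOf_unit, ?_, by rw [hdh.map_structureSheaf, cls_unit]⟩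
      exact (hφ _ QCoh.isCoh_structureModule').trans (clsD_of_isDivOf QCoh.isCoh_structureModule'
        (RefX.hasFrames_of_invertible (PicLoc.isInvertible_structureModule X)) RefX.isDivOf_unit)
    have hm := not_isMax_of_ne hne
    rcases two_le_or hm with h2 | h2
    · obtain ⟨hI, hIf, hsum⟩ := hasFrames_ptIdeal hX h2
      obtain ⟨A, hA⟩ := RefX.exists_isDivOf hIf
      have hR := RefX.isRef1_dual hI hIf
      obtain ⟨v, hv, hv'⟩ := hA
      obtain ⟨w, hw, hw'⟩ := RefX.exists_dual_section hI hIf hv
      refine ⟨_, hR, -A, ⟨w, hw, fun x hx => by rw [hw' x hx, hv' x hx]; rfl⟩, ?_, hdh.map_primeDivisor ξ h2 hR⟩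
      rw [hφ _ (KZ.CycleClass.isCoh_closureStructureSheaf ξ), eq_neg_of_add_eq_zero_right hsum,
        clsD_of_isDivOf hI hIf ⟨v, hv, hv'⟩, ← QuotientAddGroup.mk_neg]
      rfl
    · have hmem : ∀ y ∈ CohB1.support (Cyc.closureStructureSheaf ξ),
          (2 : WithBot ℕ∞) ≤ ringKrullDim (X.presheaf.stalk y) := fun y hy =>
        h2.trans (H28.KFilt.dim_le_of_specializes (specializes_iff_mem_closure.2
          (KZ.CycleClass.support_closureStructureSheaf_subset ξ hy)))
      refine ⟨_, RefX.isRef1_unit, 0, RefX.isDivOf_unit, ?_, ?_⟩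
      · rw [hφ _ (KZ.CycleClass.isCoh_closureStructureSheaf ξ),
          WeilClass.clsD_small (KZ.CycleClass.isCoh_closureStructureSheaf ξ) hmem]
        exact (QuotientAddGroup.mk_zero _).symm
      · rw [cls_unit]
        exact hdh.map_coniv_two _ (AddSubgroup.subset_closure
          ⟨_, KZ.CycleClass.isCoh_closureStructureSheaf ξ, hmem, rfl⟩)
  obtain ⟨b, rfl⟩ := QuotientAddGroup.mk_surjective c
  show QuotientAddGroup.mk b ∈ T
  induction b using FreeAbelianGroup.induction_on with
  | zero => exact T.zero_mem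
  | of G =>
    have h : KDet.clc X G.1 ∈ T := H28.KFilt.mem_of_support T ⊤
      (fun {Z} i _ _ _ => Eq.mpr (congrArg (· ∈ T) (KZ.CycleClass.clSub_push_structure i)) (hgen _))
      G.1 G.2 (fun x _ => trivial)
    simpa only [KDet.clc, KZero.clSub, dif_pos G.2] using h
  | neg G h => exact T.neg_mem h
  | add x y hx hy => exact T.add_mem hx hy

/-- The determinant of a reflexive module of rank one is its class. -/
theorem detHat_ref1 (hX : Pi1.IsNormalScheme X) (hdh : KDet.IsDetHat X dh) (hF : RefHull.IsRef1 F) :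
    dh (KDet.clc X F) = Additive.ofMul (RefFun.cls F hF) := by
  obtain ⟨φ, hφ⟩ := exists_detHom (X := X)
  obtain ⟨G, hG, B, hB, hφG, hdG⟩ := good_all dh hX hdh hφ (KDet.clc X F)
  obtain ⟨A, hA⟩ := RefX.exists_isDivOf (RefX.hasFrames_of_isRef1 hX hF)
  rw [hφ F hF.1, clsD_of_isDivOf hF.1 (RefX.hasFrames_of_isRef1 hX hF) hA] at hφG
  rw [hdG]
  exact congrArg Additive.ofMul ((RefFun.cls_eq_cls_iff hG hF).2 (nonempty_iso_of_mk hX hG hF hB hA hφG.symm))

end Groth.Agent.H23.DetHat
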