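import Groth.Agent.H23.DetHat
import Groth.Agent.H23.GammaCap.Fil
import Groth.Agent.H28.PBCohPush

/-!
# The determinant of a twist by a line bundle
-/

set_option autoImplicit false
set_option linter.style.haveILetI false
set_option linter.unusedSectionVars false
set_option backward.isDefEq.respectTransparency false
set_option backward.isDefEq.respectTransparency.types false

universe u

open CategoryTheory CategoryTheory.Limits AlgebraicGeometry TopologicalSpace

noncomputable section

namespace Groth.Agent.H23.DetHat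

open Groth.Agent Groth.Agent.H28

variable {Y : Scheme.{u}} [IsNoetherian Y] [IsIntegral Y] [RefFun.Law Y]

/-- Inverse line bundles have opposite classes. -/
theorem cls_inverse (hY : Pi1.IsNormalScheme Y) {M M' : Y.Modules} (hMM' : ClSub.IsInverseOf M M')
    (hM : RefHull.IsRef1 M) (hM' : RefHull.IsRef1 M') :
    RefFun.cls M hM * RefFun.cls M' hM' = 1 := by
  obtain ⟨A, hA⟩ := RefX.exists_isDivOf (RefX.hasFrames_of_isRef1 hY hM)
  obtain ⟨B, hB⟩ := RefX.exists_isDivOf (RefX.hasFrames_of_isRef1 hY hM')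
  obtain ⟨h1, -⟩ := RefX.IsDivOf.tensor hY hM hM' hA hB
  have h2 : RefFun.cls M hM * RefFun.cls M' hM' = RefFun.cls _ h1 :=
    Subtype.ext ((RefFun.cls_mul_cls_val hM hM').trans rfl)
  obtain ⟨e⟩ := hMM'
  haveI : IsIso (RefHull.bidualMap (Coh.structureModule Y)) := RefX.isRef1_unit.2.1
  rw [h2]
  exact (RefFun.cls_eq_one_iff _).2 ⟨RefFun.ddualIso e ≪≫ (asIso (RefHull.bidualMap (Coh.structureModule Y))).symm⟩

/-- The rank at the generic point of a class supported off it. -/
theorem rk_of_notMem {rk : SGA6.Kcoh Y →+ ℤ}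
    (hrk : ∀ G' : Y.Modules, Coh.IsCoh G' → rk (KDet.clc Y G') =
      ((Module.length (Y.presheaf.stalk (genericPoint Y)) (G'.presheaf.stalk (genericPoint Y))).toNat : ℤ))
    {G : Y.Modules} (hG : Coh.IsCoh G) (h : genericPoint Y ∉ CohB1.support G) : rk (KDet.clc Y G) = 0 := by
  haveI : Subsingleton (G.presheaf.stalk (genericPoint Y)) := not_not.1 h
  rw [hrk G hG, Module.length_eq_zero]
  rfl

/-- The rank of the structure sheaf. -/
theorem rk_structure {rk : SGA6.Kcoh Y →+ ℤ}
    (hrk : ∀ G' : Y.Modules, Coh.IsCoh G' → rk (KDet.clc Y G') =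
      ((Module.length (Y.presheaf.stalk (genericPoint Y)) (G'.presheaf.stalk (genericPoint Y))).toNat : ℤ)) :
    rk (KDet.clc Y (Coh.structureModule Y)) = 1 := by
  rw [hrk _ QCoh.isCoh_structureModule']
  have hfr := InvX.isFrame_one (X := Y) (⊤ : Y.Opens)
  let E := LinearEquiv.ofBijective (LinearMap.toSpanSingleton (Y.presheaf.stalk (genericPoint Y)) _
    ((Coh.structureModule Y).presheaf.germ ⊤ (genericPoint Y) trivial
      (show Γ(Coh.structureModule Y, ⊤) from (1 : Γ(Y, ⊤))))) (hfr.germ_bijective (x := genericPoint Y) trivial)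
  rw [← E.length_eq]
  show ((Module.length Y.functionField Y.functionField).toNat : ℤ) = 1
  rw [Module.length_eq_one]
  rfl

/-- Twisting by a line bundle moves the determinant by the rank times the bundle. -/
theorem detHat_sub_twist (hY : Pi1.IsNormalScheme Y) (dh : SGA6.Kcoh Y →+ Additive (RefFun.Ref1Set Y))
    (hdh : KDet.IsDetHat Y dh) {M M' : Y.Modules} (hM' : PicF.IsInvertible M') (hMM' : ClSub.IsInverseOf M M')
    (hM1 : RefHull.IsRef1 M) {τ : SGA6.Kcoh Y →+ SGA6.Kcoh Y}
    (hτ : ∀ G : Y.Modules, Coh.IsCoh G → τ (KDet.clc Y G) = KDet.clc Y (CohB1.tensorMod M' G))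
    (rk : SGA6.Kcoh Y →+ ℤ)
    (hrk : ∀ G' : Y.Modules, Coh.IsCoh G' → rk (KDet.clc Y G') =
      ((Module.length (Y.presheaf.stalk (genericPoint Y)) (G'.presheaf.stalk (genericPoint Y))).toNat : ℤ))
    (c : SGA6.Kcoh Y) : dh (c - τ c) = rk c • Additive.ofMul (RefFun.cls M hM1) := by
  classical
  let L : SGA6.Kcoh Y →+ Additive (RefFun.Ref1Set Y) :=
    dh.comp (AddMonoidHom.id _ - τ) - (zmultiplesHom _ (Additive.ofMul (RefFun.cls M hM1))).comp rk
  suffices h : c ∈ L.ker by exact sub_eq_zero.1 h
  have hgen : ∀ {Z : Scheme.{u}} (i : Z ⟶ Y) [IsClosedImmersion i] [IsIntegral Z],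
      KDet.clc Y ((Coh.push i).obj (Coh.structureModule Z)) ∈ L.ker := by
    intro Z i _ _
    haveI : IsNoetherian Z := PushComp.isNoetherian_of_closed i
    set c₀ := KDet.clc Y ((Coh.push i).obj (Coh.structureModule Z)) with hc₀
    refine sub_eq_zero.2 ?_
    show dh (c₀ - τ c₀) = rk c₀ • Additive.ofMul (RefFun.cls M hM1)
    have hP : Coh.IsCoh ((Coh.push i).obj (Coh.structureModule Z)) := QCoh.isCoh_push_structure i
    by_cases hη : genericPoint Y ∈ Set.range i
    · have hi : i (genericPoint Z) = genericPoint Y := by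
        obtain ⟨z, hz⟩ := hη
        exact ((RefX.specializes_genericPoint _).antisymm
          (hz ▸ (genericPoint_specializes z).map i.continuous)).eq.symm
      have h2 : c₀ = KDet.clc Y (Coh.structureModule Y) := by
        refine (KZ.CycleClass.clSub_push_structure i).trans ?_
        rw [hi]
        exact (KZ.CycleClass.clSub_push_structure (𝟙 Y)).symm.trans
          (KZ.clSub_iso _ ((Scheme.Modules.pushforwardId Y).app _) (QCoh.isCoh_push_structure (𝟙 Y))
            QCoh.isCoh_structureModule' (isZero_zero _) KZ.isCoh_zero)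
      have hM'1 := H23.PrincipalAt.isRef1_of_invertible hM'
      obtain ⟨e⟩ := H23.PicMul.unit M'
      have he : KDet.clc Y (CohB1.tensorMod M' (Coh.structureModule Y)) = KDet.clc Y M' :=
        PBCohPush.clc_iso e (CurveTensor.isCoh_tensor (LineTwist.lf_invertible hM') QCoh.isCoh_structureModule') hM'1.1
      rw [h2, map_sub, hdh.map_structureSheaf, rk_structure hrk, one_smul, hτ _ QCoh.isCoh_structureModule',
        he,
        detHat_ref1 dh hY hdh hM'1, zero_sub, ← ofMul_inv,
        inv_eq_of_mul_eq_one_left (cls_inverse hY hMM' hM1 hM'1)]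
    · have hsupp : ∀ w ∈ CohB1.support ((Coh.push i).obj (Coh.structureModule Z)), w ∈ Set.range i :=
        fun w hw => QCoh.support_push_subset i QCoh.isCoh_structureModule'.1 hw
      rw [rk_of_notMem hrk hP fun h => hη (hsupp _ h), zero_smul]
      have h1 : c₀ ∈ GammaCap.Fil (Set.univ : Set Y) 1 := GammaCap.mem_fil hP fun w hw =>
        ⟨trivial, genericPoint Y, trivial, RefX.specializes_genericPoint w, fun e => hη (e ▸ hsupp w hw)⟩
      have h2 := GammaCap.sub_line_mem hM' hτ h1
      exact AddMonoidHom.mem_ker.1 (GammaCap.fil_le_comap dh ⊥ (fun G hG hw => hdh.map_coniv_two _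
        (AddSubgroup.subset_closure ⟨G, hG, fun w hw' => (hw w hw').le_dim, rfl⟩)) h2)
  have hcl : ∀ G : Y.Modules, Coh.IsCoh G → KDet.clc Y G ∈ L.ker := fun G hG =>
    KFilt.mem_of_support L.ker ⊤ (fun i _ _ _ => hgen i) G hG (fun x _ => trivial)
  obtain ⟨b, rfl⟩ := QuotientAddGroup.mk_surjective c
  induction b using FreeAbelianGroup.induction_on with
  | zero => exact L.ker.zero_mem
  | of G =>
    have h := hcl G.1 G.2
    simpa only [KDet.clc, KZero.clSub, dif_pos G.2] using h
  | neg G h => exact L.ker.neg_mem h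
  | add x y hx hy => exact L.ker.add_mem hx hy

end Groth.Agent.H23.DetHat
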