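import Groth.Agent.H23.CrossProd

/-!
# Intersection with the diagonal of an exterior product
-/

set_option autoImplicit false
set_option linter.style.haveILetI false
set_option backward.isDefEq.respectTransparency.types false

universe u

open AlgebraicGeometry CategoryTheory CategoryTheory.Limits IsLocalRing TopologicalSpace

namespace Groth.Agent.H23.DiagExt

open Groth.Agent

variable {K : Type u} [Field K] {X : Scheme.{u}} (f : X ⟶ Spec (CommRingCat.of K))

/-- The closed subscheme `closure x × closure y`. -/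
noncomputable abbrev iProd (x y : X) :=
  pullback.map ((IntMult.ptIdeal x).subschemeι ≫ f) ((IntMult.ptIdeal y).subschemeι ≫ f) f f
    (IntMult.ptIdeal x).subschemeι (IntMult.ptIdeal y).subschemeι (𝟙 _) (Category.comp_id _) (Category.comp_id _)

instance isClosedImmersion_iProd (x y : X) : IsClosedImmersion (iProd f x y) :=
  MorphismProperty.pullbackMap (P := @IsClosedImmersion) (i₁ := (IntMult.ptIdeal x).subschemeι)
    (i₂ := (IntMult.ptIdeal y).subschemeι) inferInstance inferInstance rfl rfl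

theorem stalkIdeal_of_eq {x a : X} (h : a = x) :
    IntMult.stalkIdeal (IntMult.ptIdeal x) a = maximalIdeal (X.presheaf.stalk a) := by
  subst h
  rw [PointPrime.stalkIdeal_ptIdeal (specializes_refl _), ZeroSec.primeOf_refl' _]

theorem range_iProd (x y : X) : Set.range (iProd f x y) =
    pullback.fst f f ⁻¹' closure {x} ∩ pullback.snd f f ⁻¹' closure {y} := by
  rw [iProd, Scheme.Pullback.range_map, SkyPoint.range_ptIdeal, SkyPoint.range_ptIdeal]

variable [LocallyOfFiniteType f] {δ : X → ℤ} {δ₂ : ↥(pullback f f) → ℤ} (hd : Cyc.IsDimFun X δ)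
  (hδ : Cyc.DeltaCompat f δ (fun _ => 0)) (h₂ : Cyc.DeltaCompat (pullback.fst f f ≫ f) δ₂ (fun _ => 0))

include hd hδ h₂ in
theorem delta_le (x y : X) (w : ↥(pullback f f))
    (h : Nontrivial (((Coh.push (iProd f x y)).obj (Coh.structureModule _)).presheaf.stalk w)) :
    x ⤳ pullback.fst f f w ∧ y ⤳ pullback.snd f f w ∧ δ₂ w ≤ δ x + δ y := by
  haveI : IsLocallyNoetherian X := LocallyOfFiniteType.isLocallyNoetherian f
  have hw : w ∈ Set.range (iProd f x y) := by
    by_contra hn
    exact not_subsingleton_iff_nontrivial.2 h (ClosedPushLen.subsingleton_stalk _ _ hn)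
  rw [range_iProd] at hw
  have h1 := specializes_iff_mem_closure.2 hw.1
  have h2 := specializes_iff_mem_closure.2 hw.2
  refine ⟨h1, h2, ?_⟩
  have := (CrossProd.delta_prod (pullback.fst f f) (pullback.snd f f) f f (IsPullback.of_hasPullback f f) hδ hδ h₂ w).1
  have := CycLib.delta_le hd h1
  have := CycLib.delta_le hd h2
  omega

include hd hδ h₂ in
/-- The cycle of a product of closures is the exterior product of the prime cycles. -/
theorem sheafFun_iProd (x y : X) :
    Cyc.sheafFun δ₂ (δ x + δ y) ((Coh.push (iProd f x y)).obj (Coh.structureModule _)) =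
      IntMult.extProd f f δ δ δ₂ (Set.indicator {x} 1) (Set.indicator {y} 1) := by
  classical
  haveI : IsLocallyNoetherian X := LocallyOfFiniteType.isLocallyNoetherian f
  funext w
  have hsum := (CrossProd.delta_prod (pullback.fst f f) (pullback.snd f f) f f (IsPullback.of_hasPullback f f)
    hδ hδ h₂ w).1
  rw [IntMult.extProd]
  by_cases hxy : pullback.fst f f w = x ∧ pullback.snd f f w = y
  · obtain ⟨h1, h2⟩ := hxy
    rw [Set.indicator_of_mem (show pullback.fst f f w ∈ ({x} : Set X) from h1),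
      Set.indicator_of_mem (show pullback.snd f f w ∈ ({y} : Set X) from h2), Cyc.sheafFun,
      show δ (pullback.fst f f w) = δ x from congrArg δ h1, show δ (pullback.snd f f w) = δ y from congrArg δ h2]
    split_ifs with hc
    swap
    · rfl
    obtain ⟨v, rfl⟩ : w ∈ Set.range (iProd f x y) := by
      rw [range_iProd]
      exact ⟨show pullback.fst f f w ∈ closure ({x} : Set X) from subset_closure h1,
        show pullback.snd f f w ∈ closure ({y} : Set X) from subset_closure h2⟩
    obtain ⟨e⟩ := SpClosed.nonempty_quotEquiv (iProd f x y) v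
    rw [e.length_eq, ← DiagMult.stalkIdeal_ker, DiagMult.ker_map, DiagMult.stalkIdeal_sup,
      DiagGeom.stalkIdeal_comap, DiagGeom.stalkIdeal_comap, stalkIdeal_of_eq h1, stalkIdeal_of_eq h2]
    simp
  · have h0 : Set.indicator {x} (1 : X → ℤ) (pullback.fst f f w) *
        Set.indicator {y} (1 : X → ℤ) (pullback.snd f f w) = 0 := by
      rcases not_and_or.1 hxy with h | h
      · rw [Set.indicator_of_notMem (fun h' => h (Set.mem_singleton_iff.1 h')), zero_mul]
      · rw [Set.indicator_of_notMem (fun h' => h (Set.mem_singleton_iff.1 h')), mul_zero]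
    rw [h0, zero_mul, ite_self]
    by_contra hne
    obtain ⟨hw, hnt⟩ := CycleClassK.nontrivial_of_sheafFun hne
    obtain ⟨h1, h2, -⟩ := delta_le f hd hδ h₂ x y w hnt
    have a := CycLib.delta_le hd h1
    have b := CycLib.delta_le hd h2
    exact hxy ⟨(CycLib.eq_of_delta_le hd h1 (by omega)).symm, (CycLib.eq_of_delta_le hd h2 (by omega)).symm⟩

variable [IsAlgClosed K] [Smooth f] [IsSeparated f] [IsIntegral X] [IsIntegral (pullback f f)]
  (hd₂ : Cyc.IsDimFun _ δ₂) {n : ℤ} (hn : δ (genericPoint X) = n)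

include hd hδ h₂ hd₂ hn in
/-- Intersection with the diagonal. -/
theorem interProd_diag {α β : X → ℤ} (hα : CycleClassK.LFPts (Function.support α))
    (hβ : CycleClassK.LFPts (Function.support β)) (hprop : IntMult.IntersectProperly δ n α β) :
    IntMult.IntersectProperly δ₂ (n + n) (Set.indicator {pullback.diagonal f (genericPoint X)} 1)
        (IntMult.extProd f f δ δ δ₂ α β) ∧
      (∀ ξ, IntMult.interProd δ₂ (n + n) (Set.indicator {pullback.diagonal f (genericPoint X)} 1)
        (IntMult.extProd f f δ δ δ₂ α β) (pullback.diagonal f ξ) = IntMult.interProd δ n α β ξ) ∧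
      ∀ w, w ∉ Set.range (pullback.diagonal f) →
        IntMult.interProd δ₂ (n + n) (Set.indicator {pullback.diagonal f (genericPoint X)} 1)
          (IntMult.extProd f f δ δ δ₂ α β) w = 0 := by
  classical
  haveI : IsLocallyNoetherian X := LocallyOfFiniteType.isLocallyNoetherian f
  haveI : IsLocallyNoetherian (pullback f f) := LocallyOfFiniteType.isLocallyNoetherian (pullback.fst f f ≫ f)
  set Δ := pullback.diagonal f with hΔdef
  set p := pullback.fst f f
  set q := pullback.snd f f
  have hΔ : δ = fun x => δ₂ (Δ x) :=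
    GraphFlat.delta_graph Δ f (p ≫ f) (by rw [← Category.assoc, pullback.diagonal_fst, Category.id_comp]) hδ h₂
  have hpΔ : ∀ ξ, p (Δ ξ) = ξ := DiagGeom.eq_point p Δ (pullback.diagonal_fst f)
  have hqΔ : ∀ ξ, q (Δ ξ) = ξ := DiagGeom.eq_point q Δ (pullback.diagonal_snd f)
  have hn2 : δ₂ (genericPoint ↥(pullback f f)) = n + n := by
    rw [CrossProd.delta_generic p q f f (IsPullback.of_hasPullback f f) hδ hδ h₂, hn]
  set F := (Coh.push Δ).obj (Coh.structureModule X) with hF
  have hFc : Coh.IsCoh F := SpClosed.isCoh_push Δ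
  have hFrange : ∀ w, Nontrivial (F.presheaf.stalk w) → w ∈ Set.range Δ := fun w h => by
    by_contra hw
    exact not_subsingleton_iff_nontrivial.2 h (ClosedPushLen.subsingleton_stalk Δ _ hw)
  have hFdim : ∀ w, Nontrivial (F.presheaf.stalk w) → δ₂ w ≤ n := fun w h => by
    obtain ⟨x, rfl⟩ := hFrange w h
    rw [← hn, ← show δ x = δ₂ (Δ x) from congrFun hΔ x]
    exact CycLib.delta_le hd (genericPoint_specializes x)
  have hind : Cyc.sheafFun δ₂ n F = Set.indicator {Δ (genericPoint X)} (1 : ↥(pullback f f) → ℤ) :=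
    GraphFlat.sheafFun_graph Δ hd hΔ hn
  have hne : ∀ w, IntMult.extProd f f δ δ δ₂ α β w ≠ 0 →
      α (p w) ≠ 0 ∧ β (q w) ≠ 0 ∧ δ₂ w = δ (p w) + δ (q w) := fun w h => by
    rw [IntMult.extProd] at h
    split_ifs at h with hw
    · exact ⟨left_ne_zero_of_mul (left_ne_zero_of_mul h), right_ne_zero_of_mul (left_ne_zero_of_mul h), hw⟩
    · exact absurd rfl h
  refine ⟨fun a b w ha hb h1 h2 => ?_, ?_⟩
  · obtain rfl : a = Δ (genericPoint X) := Set.mem_singleton_iff.1 (Set.mem_of_indicator_ne_zero ha)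
    obtain ⟨ξ, rfl⟩ : w ∈ Set.range Δ := h1.mem_closed Δ.isClosedEmbedding.isClosed_range ⟨_, rfl⟩
    obtain ⟨h3, h4, h5⟩ := hne b hb
    have h6 := hprop (p b) (q b) ξ h3 h4 (hpΔ ξ ▸ h2.map p.continuous) (hqΔ ξ ▸ h2.map q.continuous)
    have h7 : δ ξ = δ₂ (Δ ξ) := congrFun hΔ ξ
    have h8 : δ (genericPoint X) = δ₂ (Δ (genericPoint X)) := congrFun hΔ _
    omega
  have hexp : ∀ ζ, IntMult.interProd δ₂ (n + n) (Set.indicator {Δ (genericPoint X)} 1)
      (IntMult.extProd f f δ δ δ₂ α β) ζ = ∑ x ∈ (InterBilin.finite_gen hα (p ζ)).toFinset,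
        ∑ y ∈ (InterBilin.finite_gen hβ (q ζ)).toFinset, α x * β y *
          (if δ₂ ζ = δ x + δ y - n then IntMult.chi ((pullback f f).presheaf.stalk ζ) (F.presheaf.stalk ζ)
            (((Coh.push (iProd f x y)).obj (Coh.structureModule _)).presheaf.stalk ζ) else 0) := by
    intro ζ
    have hS := InterBilin.finite_gen hα (p ζ)
    have hT := InterBilin.finite_gen hβ (q ζ)
    rw [← hind]
    have e := InterBilin.interProd_expand (δ := δ₂) (n := n + n) ζ ({()} : Finset Unit)
      (hS.toFinset ×ˢ hT.toFinset) (fun _ => 1) (fun a => α a.1 * β a.2) (fun _ => Cyc.sheafFun δ₂ n F)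
      (fun a => IntMult.extProd f f δ δ δ₂ (Set.indicator {a.1} 1) (Set.indicator {a.2} 1))
      (Cyc.sheafFun δ₂ n F) (IntMult.extProd f f δ δ δ₂ α β) (fun w _ => by simp)
      (fun w hw => by
        simp only [IntMult.extProd]
        split_ifs with hh
        · rw [InterBilin.eq_sum_indicator (p ζ) hS (hw.map p.continuous),
            InterBilin.eq_sum_indicator (q ζ) hT (hw.map q.continuous), Finset.sum_mul_sum, Finset.sum_mul,
            Finset.sum_product]
          refine Finset.sum_congr rfl fun x _ => ?_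
          rw [Finset.sum_mul]
          exact Finset.sum_congr rfl fun y _ => by ring
        · simp)
      (fun _ _ => CycleClassK.lfPts_sheafFun hd₂ ⟨hFc, hFdim⟩)
      (fun a _ => by
        rw [← sheafFun_iProd f hd hδ h₂]
        exact CycleClassK.lfPts_sheafFun hd₂ ⟨SpClosed.isCoh_push _, fun w h => (delta_le f hd hδ h₂ _ _ w h).2.2⟩)
    rw [e, Finset.sum_singleton, Finset.sum_product]
    refine Finset.sum_congr rfl fun x hx => Finset.sum_congr rfl fun y hy => ?_
    rw [Set.Finite.mem_toFinset] at hx hy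
    rw [one_mul, ← sheafFun_iProd f hd hδ h₂, InterSheaf.interProd_sheafFun (p ≫ f) hd₂ h₂ hn2 hFc
      (SpClosed.isCoh_push _) hFdim (fun w h => (delta_le f hd hδ h₂ _ _ w h).2.2) (fun w h1 h2 => ?_) ζ,
      show n + (δ x + δ y) - (n + n) = δ x + δ y - n by ring]
    obtain ⟨ξ, rfl⟩ := hFrange w h1
    obtain ⟨a1, a2, -⟩ := delta_le f hd hδ h₂ x y _ h2
    have := hprop x y ξ hx.1 hy.1 (hpΔ ξ ▸ a1) (hqΔ ξ ▸ a2)
    have h7 : δ ξ = δ₂ (Δ ξ) := congrFun hΔ ξ
    dsimp only at this h7 ⊢
    omega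
  refine ⟨fun ξ => ?_, fun w hw => ?_⟩
  swap
  · haveI : Subsingleton (F.presheaf.stalk w) := ClosedPushLen.subsingleton_stalk Δ _ hw
    rw [hexp]
    refine Finset.sum_eq_zero fun x _ => Finset.sum_eq_zero fun y _ => ?_
    rw [ChiAdd.chi_eq_zero_of_subsingleton]
    simp
  have hS := InterBilin.finite_gen hα ξ
  have hT := InterBilin.finite_gen hβ ξ
  have hSe : (InterBilin.finite_gen hα (p (Δ ξ))).toFinset = hS.toFinset := by ext; simp [hpΔ]
  have hTe : (InterBilin.finite_gen hβ (q (Δ ξ))).toFinset = hT.toFinset := by ext; simp [hqΔ]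
  have hlf : ∀ x : X, CycleClassK.LFPts (Function.support (Set.indicator {x} (1 : X → ℤ))) := fun x =>
    InterBilin.sheafFun_closure hd x ▸ CycleClassK.lfPts_sheafFun hd ⟨SkyPoint.isCoh_closure x, fun w h =>
      CycLib.delta_le hd (SkyPoint.specializes_of_nontrivial_closure h)⟩
  rw [hexp, hSe, hTe, InterBilin.interProd_expand (δ := δ) (n := n) ξ hS.toFinset hT.toFinset α β
    (fun x => Set.indicator {x} 1) (fun y => Set.indicator {y} 1) α β
    (fun w hw => InterBilin.eq_sum_indicator ξ hS hw) (fun w hw => InterBilin.eq_sum_indicator ξ hT hw)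
    (fun x _ => hlf x) (fun y _ => hlf y)]
  refine Finset.sum_congr rfl fun x hx => Finset.sum_congr rfl fun y hy => congrArg (α x * β y * ·) ?_
  rw [Set.Finite.mem_toFinset] at hx hy
  rw [← show δ ξ = δ₂ (Δ ξ) from congrFun hΔ ξ]
  split_ifs with hc
  · rw [IntMult.interProd, finsum_eq_single _ (⟨(x, y), hx.2, hy.2, hc.symm⟩ :
        {p : X × X // p.1 ⤳ ξ ∧ p.2 ⤳ ξ ∧ δ p.1 + δ p.2 - n = δ ξ}) fun a ha => ?_]
    · obtain ⟨m, hm⟩ : ∃ m : ℕ, topologicalKrullDim X = m :=
        ⟨_, VarDim.topologicalKrullDim_eq_deg_genericPoint f⟩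
      simp only [Set.indicator_of_mem (Set.mem_singleton x), Set.indicator_of_mem (Set.mem_singleton y),
        Pi.one_apply, one_mul]
      rw [DiagMult.mult_eq f _ _ hm (PointPrime.mem_support_ptIdeal hx.2), IntMult.mult]
      obtain ⟨eF⟩ := SpClosed.nonempty_quotEquiv Δ ξ
      obtain ⟨v, hv⟩ : Δ ξ ∈ Set.range (iProd f x y) := by
        rw [range_iProd]
        exact ⟨show p (Δ ξ) ∈ _ by rw [hpΔ]; exact specializes_iff_mem_closure.1 hx.2,
          show q (Δ ξ) ∈ _ by rw [hqΔ]; exact specializes_iff_mem_closure.1 hy.2⟩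
      have hH : Nonempty (((Coh.push (iProd f x y)).obj (Coh.structureModule _)).presheaf.stalk (Δ ξ) ≃ₗ[(pullback f f).presheaf.stalk (Δ ξ)]
          (pullback f f).presheaf.stalk (Δ ξ) ⧸ IntMult.stalkIdeal (iProd f x y).ker (Δ ξ)) := by
        rw [← hv]
        obtain ⟨e⟩ := SpClosed.nonempty_quotEquiv (iProd f x y) v
        exact ⟨e.trans (Submodule.quotEquivOfEq _ _ (DiagMult.stalkIdeal_ker (iProd f x y) v).symm)⟩
      obtain ⟨eH⟩ := hH
      exact InterPull.chi_congr_both (eF.trans (Submodule.quotEquivOfEq _ _ (DiagMult.stalkIdeal_ker Δ ξ).symm)) eH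
    · obtain ⟨⟨a, b⟩, h⟩ := a
      by_cases h1 : a = x
      · by_cases h2 : b = y
        · exact absurd (by subst h1 h2; rfl) ha
        · simp only [Set.indicator_of_notMem (fun h => h2 (Set.mem_singleton_iff.1 h)), mul_zero, zero_mul]
      · simp only [Set.indicator_of_notMem (fun h => h1 (Set.mem_singleton_iff.1 h)), zero_mul]
  · rw [IntMult.interProd, finsum_eq_zero_of_forall_eq_zero fun a => ?_]
    obtain ⟨⟨a, b⟩, h⟩ := a
    by_cases h1 : a = x
    · by_cases h2 : b = y
      · exact absurd (by subst h1 h2; exact h.2.2.symm) hc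
      · simp only [Set.indicator_of_notMem (fun h => h2 (Set.mem_singleton_iff.1 h)), mul_zero, zero_mul]
    · simp only [Set.indicator_of_notMem (fun h => h1 (Set.mem_singleton_iff.1 h)), zero_mul]

end Groth.Agent.H23.DiagExt
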