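import Groth.Agent.H23.DiagDim
import Groth.Agent.H23.DiagReg
import Groth.Agent.ModPairLib.Basic
import Groth.Agent.AlgStLib.OnePointSt

/-!
# The diagonal of a smooth variety at a point: retraction, sections, flatness
-/

set_option autoImplicit false
set_option linter.style.haveILetI false
set_option backward.isDefEq.respectTransparency.types false

universe u

open AlgebraicGeometry CategoryTheory CategoryTheory.Limits IsLocalRing

namespace Groth.Agent.H23.DiagGeom

open Groth.Agent

variable {X Y : Scheme.{u}}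

theorem stalkIdeal_congr (I : X.IdealSheafData) {x y : X} (h : x = y) :
    (IntMult.stalkIdeal I x).map (X.presheaf.stalkCongr (.of_eq h)).hom.hom = IntMult.stalkIdeal I y := by
  subst h
  have e : (X.presheaf.stalkCongr (.of_eq (rfl : x = x))).hom = 𝟙 (X.presheaf.stalk x) :=
    TopCat.Presheaf.stalkSpecializes_refl _ _
  rw [e]
  exact Ideal.map_id _

/-- The stalk of a pulled back ideal sheaf. -/
theorem stalkIdeal_comap (I : Y.IdealSheafData) (q : X ⟶ Y) (x : X) :
    IntMult.stalkIdeal (I.comap q) x = (IntMult.stalkIdeal I (q x)).map (q.stalkMap x).hom := by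
  obtain ⟨_, ⟨U, hU, rfl⟩, hxU, -⟩ :=
    Y.isBasis_affineOpens.exists_subset_of_mem_open (Set.mem_univ (q x)) isOpen_univ
  obtain ⟨_, ⟨V, hV, rfl⟩, hxV, hle⟩ :=
    X.isBasis_affineOpens.exists_subset_of_mem_open (a := x) (u := q ⁻¹ᵁ U) hxU (q ⁻¹ᵁ U).isOpen
  rw [MultCM.stalkIdeal_eq _ ⟨V, hV⟩ hxV, MultCM.stalkIdeal_eq _ ⟨U, hU⟩ hxU,
    ModPairLib.ideal_comap I q ⟨U, hU⟩ ⟨V, hV⟩ hle, Ideal.map_map, Ideal.map_map]
  congr 1
  rw [← CommRingCat.hom_comp, ← CommRingCat.hom_comp]
  congr 1
  rw [Scheme.Hom.appLE, Category.assoc, TopCat.Presheaf.germ_res', ← Scheme.Hom.germ_stalkMap]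

section Section

variable {P : Scheme.{u}} (q : P ⟶ X) (s : X ⟶ P) (h : s ≫ q = 𝟙 X) (ξ : X)

include h in
theorem eq_point : q (s ξ) = ξ := by
  rw [← Scheme.Hom.comp_apply, h]
  rfl

/-- The map of local rings of a morphism with a section. -/
noncomputable def sec : X.presheaf.stalk ξ →+* P.presheaf.stalk (s ξ) :=
  ((X.presheaf.stalkCongr (.of_eq (eq_point q s h ξ).symm)).hom ≫ q.stalkMap (s ξ)).hom

theorem retr_sec (a : X.presheaf.stalk ξ) : (s.stalkMap ξ).hom (sec q s h ξ a) = a := by
  have key : (X.presheaf.stalkCongr (.of_eq (eq_point q s h ξ).symm)).hom ≫ q.stalkMap (s ξ) ≫ s.stalkMap ξ =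
      𝟙 _ := by
    rw [← Scheme.Hom.stalkMap_comp, Scheme.Hom.stalkMap_congr_hom (s ≫ q) (𝟙 X) h ξ, Scheme.Hom.stalkMap_id]
    refine (congrArg (_ ≫ ·) (Category.comp_id _)).trans ?_
    simp only [TopCat.Presheaf.stalkCongr_hom]
    exact (TopCat.Presheaf.stalkSpecializes_comp _ _ _).trans (TopCat.Presheaf.stalkSpecializes_refl _ _)
  exact ConcreteCategory.congr_hom key a

instance isLocalHom_sec : IsLocalHom (sec q s h ξ) := by
  have : IsLocalHom ((X.presheaf.stalkCongr (.of_eq (eq_point q s h ξ).symm)).hom ≫ q.stalkMap (s ξ)).hom :=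
    RingHom.isLocalHom_comp (q.stalkMap (s ξ)).hom
      (X.presheaf.stalkCongr (.of_eq (eq_point q s h ξ).symm)).hom.hom
  exact this

theorem flat_sec [Flat q] : (sec q s h ξ).Flat :=
  RingHom.Flat.comp
    (RingHom.Flat.of_bijective (ConcreteCategory.bijective_of_isIso
      (X.presheaf.stalkCongr (.of_eq (eq_point q s h ξ).symm)).hom))
    (Flat.stalkMap q (s ξ))

theorem map_sec_stalkIdeal (I : X.IdealSheafData) :
    (IntMult.stalkIdeal I ξ).map (sec q s h ξ) = IntMult.stalkIdeal (I.comap q) (s ξ) := by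
  rw [stalkIdeal_comap, ← stalkIdeal_congr I (eq_point q s h ξ).symm, Ideal.map_map]
  rfl

end Section

variable {K : Type u} [Field K] (f : X ⟶ Spec (CommRingCat.of K))

/-- The first section at a point of the diagonal. -/
noncomputable abbrev sec₁ (ξ : X) :
    X.presheaf.stalk ξ →+* (pullback f f).presheaf.stalk (pullback.diagonal f ξ) :=
  sec (pullback.fst f f) (pullback.diagonal f) (pullback.diagonal_fst f) ξ

/-- The second section at a point of the diagonal. -/
noncomputable abbrev sec₂ (ξ : X) :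
    X.presheaf.stalk ξ →+* (pullback f f).presheaf.stalk (pullback.diagonal f ξ) :=
  sec (pullback.snd f f) (pullback.diagonal f) (pullback.diagonal_snd f) ξ

/-- `V × X` is flat over `X` by the second projection. -/
theorem flat_quot_sec₂ (I : X.IdealSheafData) (ξ : X) (hξ : ξ ∈ I.support) :
    ((Ideal.Quotient.mk ((IntMult.stalkIdeal I ξ).map (sec₁ f ξ))).comp (sec₂ f ξ)).Flat := by
  set J := I.comap (pullback.fst f f) with hJ
  have hmem : pullback.diagonal f ξ ∈ J.support := by
    rw [hJ, Scheme.IdealSheafData.support_comap]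
    show pullback.fst f f (pullback.diagonal f ξ) ∈ I.support
    rwa [eq_point (pullback.fst f f) (pullback.diagonal f) (pullback.diagonal_fst f)]
  obtain ⟨d, hd⟩ : pullback.diagonal f ξ ∈ Set.range J.subschemeι := by rw [J.range_subschemeι]; exact hmem
  let ι := J.subschemeι
  haveI : Flat (ι ≫ pullback.snd f f) := by
    have h1 := IsPullback.of_hasPullback (pullback.fst f f) I.subschemeι
    have h2 : IsPullback (pullback.snd (pullback.fst f f) I.subschemeι)
        (pullback.fst (pullback.fst f f) I.subschemeι ≫ pullback.snd f f) (I.subschemeι ≫ f) f :=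
      h1.flip.paste_vert (IsPullback.of_hasPullback f f)
    haveI : Flat (I.subschemeι ≫ f) := AlgStLib.OnePt.flat_of_field _
    haveI : Flat (pullback.fst (pullback.fst f f) I.subschemeι ≫ pullback.snd f f) :=
      MorphismProperty.of_isPullback h2 (inferInstance : Flat (I.subschemeι ≫ f))
    rw [show ι = (I.comapIso (pullback.fst f f)).hom ≫ pullback.fst (pullback.fst f f) I.subschemeι from
      (I.comapIso_hom_fst _).symm, Category.assoc]
    infer_instance
  let e₀ := ((pullback f f).presheaf.stalkCongr (.of_eq hd.symm)).hom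
  let ψ : (pullback f f).presheaf.stalk (pullback.diagonal f ξ) →+* J.subscheme.presheaf.stalk d :=
    (e₀ ≫ ι.stalkMap d).hom
  have hψs : Function.Surjective ψ :=
    (ι.stalkMap_surjective d).comp (ConcreteCategory.bijective_of_isIso e₀).2
  have hψk : RingHom.ker ψ = (IntMult.stalkIdeal I ξ).map (sec₁ f ξ) := by
    rw [map_sec_stalkIdeal, ← hJ]
    show RingHom.ker ((ι.stalkMap d).hom.comp e₀.hom) = _
    rw [← RingHom.comap_ker, MultCM.ker_stalkMap_subschemeι, ← stalkIdeal_congr J hd.symm]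
    exact Ideal.comap_map_of_bijective _ (ConcreteCategory.bijective_of_isIso e₀)
  let e : ((pullback f f).presheaf.stalk (pullback.diagonal f ξ) ⧸ (IntMult.stalkIdeal I ξ).map (sec₁ f ξ)) ≃+*
      J.subscheme.presheaf.stalk d :=
    (Ideal.quotEquivOfEq hψk.symm).trans (RingHom.quotientKerEquivOfSurjective hψs)
  have he : (Ideal.Quotient.mk ((IntMult.stalkIdeal I ξ).map (sec₁ f ξ))).comp (sec₂ f ξ) =
      e.symm.toRingHom.comp (ψ.comp (sec₂ f ξ)) := by
    refine RingHom.ext fun x => e.injective ?_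
    show _ = e (e.symm _)
    rw [e.apply_symm_apply]
    rfl
  rw [he]
  refine RingHom.Flat.comp ?_ (RingHom.Flat.of_bijective e.symm.bijective)
  have h3 : ψ.comp (sec₂ f ξ) =
      ((X.presheaf.stalkCongr (.of_eq (eq_point (pullback.snd f f) (pullback.diagonal f)
        (pullback.diagonal_snd f) ξ).symm)).hom ≫
        (X.presheaf.stalkCongr (.of_eq (congrArg (pullback.snd f f) hd.symm))).hom ≫
        (ι ≫ pullback.snd f f).stalkMap d).hom := by
    show ((((X.presheaf.stalkCongr _).hom ≫ (pullback.snd f f).stalkMap _) ≫ (e₀ ≫ ι.stalkMap d))).hom = _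
    congr 1
    rw [Scheme.Hom.stalkMap_comp]
    simp only [Category.assoc]
    congr 1
    simp only [← Category.assoc]
    congr 1
    exact Scheme.Hom.stalkMap_congr_point (pullback.snd f f) _ _ hd.symm
  rw [h3]
  refine RingHom.Flat.comp (RingHom.Flat.of_bijective (ConcreteCategory.bijective_of_isIso _))
    (RingHom.Flat.comp (RingHom.Flat.of_bijective (ConcreteCategory.bijective_of_isIso _)) ?_)
  exact Flat.stalkMap (ι ≫ pullback.snd f f) d

/-- A regular sequence cutting out the diagonal at a point. -/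
theorem exists_seq [IsAlgClosed K] [Smooth f] [IsSeparated f] [IsIntegral X] {n : ℕ}
    (hn : topologicalKrullDim X = n) (ξ : X) :
    ∃ l : List ((pullback f f).presheaf.stalk (pullback.diagonal f ξ)), l.length = n ∧
      RingTheory.Sequence.IsRegular ((pullback f f).presheaf.stalk (pullback.diagonal f ξ)) l ∧
      Ideal.ofList l = RingHom.ker ((pullback.diagonal f).stalkMap ξ).hom := by
  obtain ⟨-, h⟩ := DiagReg.isRegularImmersion f hn
  obtain ⟨U, hU, hcl, rs, hlen, hrs, hker⟩ := h ξ
  haveI := hcl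
  haveI : IsLocallyNoetherian (pullback f f) := LocallyOfFiniteType.isLocallyNoetherian (pullback.fst f f ≫ f)
  obtain ⟨l, hll, hl, hlk⟩ := DiagReg.exists_stalk_seq (pullback.diagonal f) U ξ hU rs hrs.toIsWeaklyRegular hker
  exact ⟨l, hll.trans hlen, hl, hlk.symm⟩

/-- Positivity of intersection multiplicities. -/
theorem mult_pos [IsAlgClosed K] [Smooth f] [IsSeparated f] [IsIntegral X] (IV IW : X.IdealSheafData)
    [IsIntegral IV.subscheme] [IsIntegral IW.subscheme] {n r s : ℕ} (hn : topologicalKrullDim X = n)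
    (hr : topologicalKrullDim IV.support = r) (hs : topologicalKrullDim IW.support = s)
    (hprop : IntMult.ProperInt (IV.support : Set X) (IW.support : Set X) n r s) {ξ : X}
    (hξV : ξ ∈ IV.support) (hξW : ξ ∈ IW.support)
    (hmax : ∀ ξ' : X, ξ' ∈ IV.support → ξ' ∈ IW.support → ξ' ⤳ ξ → ξ' = ξ) :
    0 < IntMult.mult IV IW ξ := by
  haveI : IsLocallyNoetherian X := LocallyOfFiniteType.isLocallyNoetherian f
  haveI : IsLocallyNoetherian (pullback f f) := LocallyOfFiniteType.isLocallyNoetherian (pullback.fst f f ≫ f)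
  obtain ⟨d, a, b, hd, ha, hb, hab, T, hT⟩ := MultCM.proper_data f IV IW hn hr hs hprop hξV hξW hmax
  obtain ⟨l, -, hl, hlk⟩ := exists_seq f hn ξ
  exact DiagDim.chi_pos ((pullback.diagonal f).stalkMap ξ).hom (sec₁ f ξ) (sec₂ f ξ)
    (retr_sec _ _ _ ξ) (retr_sec _ _ _ ξ) (flat_sec _ _ _ ξ) l hl hlk _ _
    (MultCM.isPrime_stalkIdeal IW hξW).ne_top (MultCM.isPrime_stalkIdeal IV hξV).ne_top
    (flat_quot_sec₂ f IW ξ hξW) hd ha hb hab hT

end Groth.Agent.H23.DiagGeom
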