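import Groth.Agent.H23.RestrKoszul
import Groth.Agent.H23.MultKoszul
import Mathlib.CategoryTheory.Monoidal.Tor

/-!
# Reduction to the diagonal in local algebra

`R` is an extension of `A` by two maps with a common retraction `δ` whose kernel is generated by a regular
sequence.
-/

set_option autoImplicit false
set_option linter.style.haveILetI false

universe u

open CategoryTheory CategoryTheory.Limits
open scoped TensorProduct

namespace Groth.Agent.H23.DiagReduction

open Groth.Agent.H23.RestrKoszul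

local notation "K(" fs ", " M ")" => CohIII.koszulCx M fs

variable {A R : Type u} [CommRing A] [CommRing R]

theorem nonempty_koszulCx_congr {M M' : ModuleCat.{u} R} (e : M ≅ M') : ∀ l : List R,
    Nonempty (K(l, M) ≅ K(l, M'))
  | [] => ⟨(HomologicalComplex.single (ModuleCat.{u} R) (ComplexShape.up ℤ) 0).mapIso e⟩
  | f :: l => by
    obtain ⟨e'⟩ := nonempty_koszulCx_congr e l
    exact ⟨GrLib8.KChi.coneIso _ _ e' (by simp [Linear.smul_comp, Linear.comp_smul])⟩

/-- Euler characteristics agree when the lengths do. -/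
theorem chi_eq_of_length [IsLocalRing R] (M N : Type u) [AddCommGroup M] [Module A M] [AddCommGroup N] [Module A N]
    (B : ModuleCat.{u} R) (l : List R)
    (h : ∀ n : ℕ, Module.length A (DRing.Tor A n M N) = Module.length R (K(l, B).homology (-n : ℤ))) :
    IntMult.chi A M N = GrLib8.KChi.chi B l := by
  rw [GrLib8.KChi.chi, IntMult.chi]
  set G : ℤ → ℤ := fun i => GrLib8.KChi.sgn i * GrLib8.KChi.len R (GrLib8.KChi.H B l i) with hG
  have h1 : ∀ n : ℕ, (-1 : ℤ) ^ n * ((Module.length A (DRing.Tor A n M N)).toNat : ℤ) = G (-(n : ℤ)) := fun n => by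
    simp [hG, GrLib8.KChi.len, GrLib8.KChi.sgn, h n, Int.negOnePow_def]
  have h2 : ∀ i : ℤ, 0 < i → G i = 0 := fun i hi => by
    simp only [hG]
    rw [GrLib8.KChi.len_H_eq_zero B l (Or.inl hi), mul_zero]
  rw [finsum_congr h1]
  have h3 : Function.support G ⊆ Set.range fun n : ℕ => -(n : ℤ) := fun i hi => by
    refine ⟨i.natAbs, ?_⟩
    have : i ≤ 0 := not_lt.1 fun h => hi (h2 i h)
    show -(i.natAbs : ℤ) = i
    omega
  rw [← finsum_mem_range (f := G) (g := fun n : ℕ => -(n : ℤ)) fun a b h => by simpa using h]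
  rw [← finsum_mem_univ G]
  exact finsum_mem_inter_support_eq' G _ _ fun i hi => iff_of_true (h3 hi) (Set.mem_univ i)

/-- Lengths over the base and over the extension of a module killed by the kernel of a retraction. -/
theorem length_res [Algebra A R] (δ : R →+* A) (hδ : ∀ a, δ (algebraMap A R a) = a) (H : ModuleCat.{u} R)
    (hann : ∀ r ∈ RingHom.ker δ, ∀ x : H, r • x = 0) :
    Module.length A ((res A R).obj H) = Module.length R H := by
  letI : Module A H := Module.compHom H (algebraMap A R)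
  haveI : IsScalarTower A R H := IsScalarTower.of_algebraMap_smul fun _ _ => rfl
  show Module.length A H = _
  let o : Submodule R H ≃o Submodule A H :=
    { toFun := fun p => p.restrictScalars A
      invFun := fun q =>
        { q.toAddSubmonoid with
          smul_mem' := fun r x hx => by
            have h0 := hann (r - algebraMap A R (δ r))
              (by rw [RingHom.mem_ker, map_sub, hδ, sub_self]) x
            rw [sub_smul, sub_eq_zero, algebraMap_smul] at h0
            rw [h0]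
            exact q.smul_mem _ hx }
      left_inv := fun p => rfl
      right_inv := fun q => rfl
      map_rel_iff' := Iff.rfl }
  exact WithBot.coe_injective (by
    rw [Module.coe_length, Module.coe_length, Order.krullDim_eq_of_orderIso o])

/-- Tensoring two cyclic modules. -/
noncomputable def quotTensorQuotEquiv (I J : Ideal R) : (R ⧸ I) ⊗[R] (R ⧸ J) ≃ₗ[R] R ⧸ (I ⊔ J) :=
  (TensorProduct.quotTensorEquivQuotSMul (R ⧸ J) I).trans
    ((KoszulTor.quotSMulEquiv J I).trans (Submodule.quotEquivOfEq _ _ (sup_comm J I)))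

/-- Restricting the scalars of a module that already has them. -/
noncomputable def resEquiv [Algebra A R] (H : Type u) [AddCommGroup H] [Module R H] [Module A H]
    [IsScalarTower A R H] : ((res A R).obj (ModuleCat.of R H) : Type u) ≃ₗ[A] H where
  toFun z := z
  invFun z := z
  left_inv _ := rfl
  right_inv _ := rfl
  map_add' _ _ := rfl
  map_smul' c z := by
    let z' : H := z
    exact algebraMap_smul R c z'

variable [IsLocalRing R] (δ : R →+* A)

/-- The zeroth Koszul cohomology of a quotient by an ideal, restricted along a section. -/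
theorem nonempty_H_zero_iso [Algebra A R] (hδ : ∀ a, δ (algebraMap A R a) = a) (l : List R)
    (hl : Ideal.ofList l = RingHom.ker δ) (J : Ideal R) (a : Ideal A) (ha : J.map δ = a) :
    Nonempty ((res A R).obj (K(l, ModuleCat.of R (R ⧸ J)).homology 0) ≅ ModuleCat.of A (A ⧸ a)) := by
  obtain ⟨e⟩ := Koszul15.nonempty_top_equiv l (ModuleCat.of R (R ⧸ J))
  let e₁ : K(l, ModuleCat.of R (R ⧸ J)).homology 0 ≃ₗ[R] R ⧸ (J ⊔ RingHom.ker δ) :=
    e.trans ((KoszulTor.quotSMulEquiv J (Ideal.ofList l)).trans (Submodule.quotEquivOfEq _ _ (by rw [hl])))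
  have hs : Function.Surjective δ := fun x => ⟨_, hδ x⟩
  let ψ : R →ₗ[A] A ⧸ a :=
    { toFun := fun r => Ideal.Quotient.mk a (δ r)
      map_add' := fun x y => by simp
      map_smul' := fun c r => by
        rw [Algebra.smul_def, map_mul, hδ]
        rfl }
  have hψ : LinearMap.ker ψ = (J ⊔ RingHom.ker δ).restrictScalars A := by
    ext r
    rw [LinearMap.mem_ker, Submodule.restrictScalars_mem]
    show Ideal.Quotient.mk a (δ r) = 0 ↔ _
    rw [Ideal.Quotient.eq_zero_iff_mem, ← ha, ← Ideal.mem_comap, Ideal.comap_map_of_surjective δ hs]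
    rfl
  let e₂ : (R ⧸ (J ⊔ RingHom.ker δ)) ≃ₗ[A] A ⧸ a :=
    (Submodule.Quotient.restrictScalarsEquiv A (J ⊔ RingHom.ker δ)).symm.trans
      ((Submodule.quotEquivOfEq _ _ hψ.symm).trans
        (ψ.quotKerEquivOfSurjective (Ideal.Quotient.mk_surjective.comp hs)))
  exact ⟨(res A R).mapIso e₁.toModuleIso ≪≫ ((resEquiv _).trans e₂).toModuleIso⟩

/-- `Tor` over the base is Koszul cohomology over the extension. -/
theorem nonempty_tor_iso [Algebra A R] (hδ : ∀ a, δ (algebraMap A R a) = a) (l : List R)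
    (hl : Ideal.ofList l = RingHom.ker δ) (J : Ideal R) [Module.Flat A (R ⧸ J)]
    (hex : ∀ i : ℤ, i ≠ 0 → IsZero (K(l, ModuleCat.of R (R ⧸ J)).homology i))
    (a b : Ideal A) (ha : J.map δ = a) (n : ℕ) :
    Nonempty (((Tor (ModuleCat.{u} A) n).obj (ModuleCat.of A (A ⧸ a))).obj (ModuleCat.of A (A ⧸ b)) ≅
      (res A R).obj (K(l, ModuleCat.of R (R ⧸ (J ⊔ b.map (algebraMap A R)))).homology (-n : ℤ))) := by
  let B := ModuleCat.of R (R ⧸ J)
  haveI : Module.Flat A ((res A R).obj B) := by
    exact Module.Flat.of_linearEquiv (resEquiv (R ⧸ J))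
  obtain ⟨e⟩ := nonempty_H_zero_iso δ hδ l hl J a ha
  obtain ⟨e₁⟩ := RestrKoszul.nonempty_tor_iso l B hex e (ModuleCat.of A (A ⧸ b)) n
  let i₁ : MonoidalCategoryStruct.tensorObj B (ext A R (A ⧸ b)) ≅ ModuleCat.of R (R ⧸ (J ⊔ b.map (algebraMap A R))) :=
    ((TensorProduct.congr (LinearEquiv.refl R (R ⧸ J)) (Ideal.qoutMapEquivTensorQout R (I := b)).symm).trans
      (quotTensorQuotEquiv J _)).toModuleIso
  obtain ⟨e₂⟩ := nonempty_koszulCx_congr i₁ l
  exact ⟨e₁ ≪≫ (res A R).mapIso (HomologicalComplex.homologyMapIso e₂ _)⟩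

/-- A sequence generating the kernel of a retraction is Koszul regular on fibres. -/
theorem isZero_H_of_flat [Algebra A R] [Module.Flat A R] (hδ : ∀ a, δ (algebraMap A R a) = a) (l : List R)
    (hreg : RingTheory.Sequence.IsWeaklyRegular R l) (hl : Ideal.ofList l = RingHom.ker δ) (a : Ideal A)
    (i : ℤ) (hi : i ≠ 0) :
    IsZero (K(l, ModuleCat.of R (R ⧸ a.map (algebraMap A R))).homology i) := by
  by_cases h : 0 < i
  · exact GrLib8.KChi.isZero_H _ _ (Or.inl h)
  obtain ⟨m, rfl⟩ : ∃ m : ℕ, i = -((m + 1 : ℕ) : ℤ) := ⟨(-i - 1).toNat, by omega⟩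
  haveI : Module.Flat A (R ⧸ (⊥ : Ideal R)) :=
    Module.Flat.of_linearEquiv ((Submodule.quotEquivOfEqBot (⊥ : Ideal R) rfl).restrictScalars A)
  have hex : ∀ i : ℤ, i ≠ 0 → IsZero (K(l, ModuleCat.of R (R ⧸ (⊥ : Ideal R))).homology i) := fun i hi => by
    obtain ⟨e⟩ := nonempty_koszulCx_congr
      (Submodule.quotEquivOfEqBot (⊥ : Ideal R) rfl).toModuleIso l
    have := (Groth.Agent.S15821.result R l hreg).1 i hi
    exact this.of_iso (HomologicalComplex.homologyMapIso
      (e ≪≫ eqToIso (Groth.Agent.Synt29.koszul_eq l).symm) i)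
  obtain ⟨e⟩ := nonempty_tor_iso δ hδ l hl ⊥ hex ⊥ a (Ideal.map_bot) (m + 1)
  have hzero : IsZero (((Tor (ModuleCat.{u} A) (m + 1)).obj (ModuleCat.of A (A ⧸ a))).obj
      (ModuleCat.of A (A ⧸ (⊥ : Ideal A)))) := by
    haveI : Module.Projective A (A ⧸ (⊥ : Ideal A)) :=
      Module.Projective.of_equiv (Submodule.quotEquivOfEqBot (⊥ : Ideal A) rfl).symm
    haveI : CategoryTheory.Projective (ModuleCat.of A (A ⧸ (⊥ : Ideal A))) :=
      (IsProjective.iff_projective _).1 ‹_›
    exact CategoryTheory.isZero_Tor_succ_of_projective _ _ _ m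
  have h1 := (hzero.of_iso (H9Misc.TorBalance.torSymm _ _ _)).of_iso e.symm
  haveI := ModuleCat.subsingleton_of_isZero h1
  obtain ⟨e'⟩ := nonempty_koszulCx_congr
    (Submodule.quotEquivOfEq _ _ (bot_sup_eq (a.map (algebraMap A R)))).toModuleIso l
  haveI : Subsingleton (K(l, ModuleCat.of R (R ⧸ (⊥ ⊔ a.map (algebraMap A R)))).homology (-((m + 1 : ℕ) : ℤ))) :=
    ‹_›
  exact (ModuleCat.isZero_of_subsingleton _).of_iso (HomologicalComplex.homologyMapIso e' _).symm

omit [IsLocalRing R] in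
theorem smul_eq_zero_of_ker {B : ModuleCat.{u} R} (l : List R) (hl : Ideal.ofList l = RingHom.ker δ) (i : ℤ)
    (r : R) (hr : r ∈ RingHom.ker δ) (x : K(l, B).homology i) : r • x = 0 :=
  GrLib8.KChi.smul_H_eq_zero B l (Submodule.mem_sup_right (hl ▸ hr)) i x

/-- The reduction to the diagonal. -/
theorem chi_eq (p₁ p₂ : A →+* R) (hp₁ : ∀ a, δ (p₁ a) = a) (hp₂ : ∀ a, δ (p₂ a) = a) (hflat₁ : p₁.Flat)
    (l : List R) (hreg : RingTheory.Sequence.IsWeaklyRegular R l) (hl : Ideal.ofList l = RingHom.ker δ)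
    (a b : Ideal A) (hflat₂ : ((Ideal.Quotient.mk (a.map p₁)).comp p₂).Flat) :
    IntMult.chi A (A ⧸ a) (A ⧸ b) = GrLib8.KChi.chi (ModuleCat.of R (R ⧸ (a.map p₁ ⊔ b.map p₂))) l := by
  have hex : ∀ i : ℤ, i ≠ 0 → IsZero (K(l, ModuleCat.of R (R ⧸ a.map p₁)).homology i) := by
    letI : Algebra A R := p₁.toAlgebra
    haveI : Module.Flat A R := hflat₁
    exact isZero_H_of_flat δ hp₁ l hreg hl a
  letI : Algebra A R := p₂.toAlgebra
  haveI : Module.Flat A (R ⧸ a.map p₁) := by
    have h := hflat₂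
    rwa [show (Ideal.Quotient.mk (a.map p₁)).comp p₂ = algebraMap A (R ⧸ a.map p₁) from rfl,
      RingHom.flat_algebraMap_iff] at h
  have ha : (a.map p₁).map δ = a := by
    rw [Ideal.map_map, show δ.comp p₁ = RingHom.id A from RingHom.ext hp₁, Ideal.map_id]
  refine chi_eq_of_length _ _ _ l fun n => ?_
  obtain ⟨e⟩ := nonempty_tor_iso δ hp₂ l hl (a.map p₁) hex a b ha n
  exact e.toLinearEquiv.length_eq.trans (length_res δ hp₂ _ (smul_eq_zero_of_ker δ l hl _))

end Groth.Agent.H23.DiagReduction
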