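import Groth.Agent.VarDim.IrredFibres
import Groth.Agent.VarDim.Top
import Groth.Agent.VarDim.Local
import Mathlib.AlgebraicGeometry.Noetherian

/-!
The dimension of a set-theoretic image bounds codimensions upstairs.
-/

universe u

open CategoryTheory AlgebraicGeometry TopologicalSpace Topology

namespace Groth.Agent.H23.DimImage

variable {k : Type u} [Field k] {S X : Scheme.{u}}

/-- The closure of an image point contributes its whole dimension to the image. -/
theorem deg_le_dim_range (q : X ⟶ Spec (CommRingCat.of k)) [LocallyOfFiniteType q] [QuasiCompact q]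
    (f : S ⟶ X) [LocallyOfFiniteType f] [QuasiCompact f] (s : S) :
    ((VarDim.deg q (f s) : ℕ∞) : WithBot ℕ∞) ≤ topologicalKrullDim (Set.range f.base) := by
  have : IsLocallyNoetherian X := LocallyOfFiniteType.isLocallyNoetherian q
  have : CompactSpace X := QuasiCompact.compactSpace_of_compactSpace q
  have : IsNoetherian X := { }
  have hlfp : LocallyOfFinitePresentation f := LocallyOfFinitePresentation.iff_locallyOfFiniteType.2 ‹_›
  set Y₀ : Set X := closure {f s} with hY₀
  let c : ↥Y₀ → X := Subtype.val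
  have hc : IsClosedEmbedding c := isClosed_closure.isClosedEmbedding_subtypeVal
  have hR : IsConstructible (Set.range f.base) := by
    rw [← Set.image_univ]; exact f.isConstructible_image IsConstructible.univ
  have hR' : IsConstructible (c ⁻¹' Set.range f.base) :=
    hR.preimage_of_isClosedEmbedding hc (NoetherianSpace.isCompact _)
  have hn := (VarDim.mem_nhds_of_isConstructible (η := (⟨f s, subset_closure rfl⟩ : ↥Y₀))
    (fun x => (subtype_specializes_iff _ _).2 (specializes_iff_mem_closure.2 x.2)) hR').1 ⟨s, rfl⟩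
  obtain ⟨V, hVR, hV, hsV⟩ := mem_nhds_iff.1 hn
  obtain ⟨U₀, hU₀, rfl⟩ := isOpen_induced_iff.1 hV
  let U : X.Opens := ⟨U₀, hU₀⟩
  let y : U.toScheme := ⟨f s, hsV⟩
  have hsub : ∀ z : ↥(closure ({y} : Set U.toScheme)), U.ι z.1 ∈ Set.range f.base := fun z => by
    have h : U.ι y ⤳ U.ι z.1 := (specializes_iff_mem_closure.2 z.2).map U.ι.continuous
    exact hVR (show (⟨U.ι z.1, specializes_iff_mem_closure.1 h⟩ : ↥Y₀) ∈ _ from z.1.2)
  let φ : ↥(closure ({y} : Set U.toScheme)) → ↥(Set.range f.base) := fun z => ⟨U.ι z.1, hsub z⟩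
  have hφ : IsInducing φ :=
    (IsInducing.subtypeVal.of_comp_iff).1 (U.ι.isOpenEmbedding.isInducing.comp IsInducing.subtypeVal)
  refine le_trans (le_of_eq ?_) hφ.topologicalKrullDim_le
  rw [VarDim.topologicalKrullDim_closure_singleton (U.ι ≫ q) y, VarDim.deg_comp q U.ι y]
  rfl

/-- A closed subset whose local codimensions exceed the dimension of the image has empty preimage. -/
theorem preimage_eq_empty (pS : S ⟶ Spec (CommRingCat.of k)) (q : X ⟶ Spec (CommRingCat.of k))
    [LocallyOfFiniteType pS] [QuasiCompact pS] [LocallyOfFiniteType q] [QuasiCompact q] [QuasiSeparated q]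
    (f : S ⟶ X) (hf : f ≫ q = pS) (Z : Set X)
    (h : ∀ s : S, f.base s ∈ Z →
      topologicalKrullDim (Set.range f.base) + 1 ≤ ringKrullDim (S.presheaf.stalk s)) :
    f.base ⁻¹' Z = ∅ := by
  subst hf
  have : LocallyOfFiniteType f := locallyOfFiniteType_of_comp f q
  have : QuasiCompact f := QuasiCompact.of_comp f q
  have : CompactSpace S := QuasiCompact.compactSpace_of_compactSpace (f ≫ q)
  by_contra hne
  obtain ⟨s₀, hs₀⟩ := Set.nonempty_iff_ne_empty.2 hne
  have : Nonempty S := ⟨s₀⟩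
  obtain ⟨η₀, -, hb, -⟩ := VarDim.exists_deg_eq_topologicalKrullDim (f ≫ q)
  have hfin : (VarDim.deg (f ≫ q) '' (f.base ⁻¹' Z)).Finite :=
    (Set.finite_Iic _).subset (by rintro _ ⟨s, -, rfl⟩; exact hb s)
  obtain ⟨N, ⟨s, hs, hNs⟩, hN⟩ := hfin.exists_maximal ⟨_, s₀, hs₀, rfl⟩
  have hmax : ∀ x ∈ f.base ⁻¹' Z, VarDim.deg (f ≫ q) x ≤ VarDim.deg (f ≫ q) s := fun x hx => by
    rcases le_total (VarDim.deg (f ≫ q) x) N with h' | h'
    · exact hNs ▸ h'
    · exact hNs ▸ hN ⟨x, hx, rfl⟩ h'
  obtain ⟨b, hbdim, ⟨η, hη, hηd⟩, -⟩ := VarDim.exists_deg_add_stalk (f ≫ q) s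
  obtain ⟨x', -, hx's, hfx, hle⟩ := VarDim.exists_fdeg_ge f q hη
  have hx' : x' = s := VarDim.eq_of_specializes_of_deg_le (f ≫ q) hx's
    (hmax x' (show f x' ∈ Z from hfx ▸ hs))
  rw [hx'] at hle
  have e1 := VarDim.deg_comp_eq f q η
  have e2 := VarDim.deg_comp_eq f q s
  have h1 : b ≤ VarDim.deg q (f η) := by omega
  have h2 := h s hs
  rw [hbdim] at h2
  have h3 : (((b + 1 : ℕ) : ℕ∞) : WithBot ℕ∞) ≤ ((b : ℕ∞) : WithBot ℕ∞) := by
    refine le_trans ?_ h2
    push_cast
    gcongr
    exact le_trans (by exact_mod_cast h1) (deg_le_dim_range q f η)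
  have h4 : b + 1 ≤ b := by exact_mod_cast h3
  omega

end Groth.Agent.H23.DimImage
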