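import Groth.Agent.H23.DivPullKey
import Groth.Agent.CycLib.Div

/-! Flat pull-back of principal divisors. -/

set_option autoImplicit false
set_option linter.style.haveILetI false

universe u

open AlgebraicGeometry CategoryTheory IsLocalRing

namespace Groth.Agent.H23.DivPull

open Groth.Agent CDiv6 FiniteFibreSum FlatShift

variable {X X' : Scheme.{u}}

/-- The image of a rational function on the closure of `ξ` in the residue field of a point over `ξ`. -/
noncomputable def pullRes (p : X' ⟶ X) {ξ : X} {z : X'} (hz : p z = ξ) (g : X.residueField ξ) :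
    X'.residueField z :=
  p.residueFieldMap z ((X.residueFieldCongr hz.symm).hom g)

theorem pullRes_rfl (p : X' ⟶ X) {z : X'} (g : X.residueField (p z)) :
    pullRes p rfl g = p.residueFieldMap z g := by
  simp [pullRes]

theorem pullRes_specMap (p : X' ⟶ X) {x' z : X'} (hz : z ⤳ x') {ξ : X} (hzξ : p z = ξ) (h : ξ ⤳ p x')
    (a : X.presheaf.stalk (p x')) :
    pullRes p hzξ (Cyc.specMap (p x') ξ h a) = Cyc.specMap x' z hz ((p.stalkMap x').hom a) := by
  subst hzξ
  rw [pullRes_rfl]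
  exact (CycLib.specMap_naturality p hz a).symm

/-- The summand at `z`. -/
noncomputable def term (p : X' ⟶ X) (δ' : X' → ℤ) {ξ : X} (g : X.residueField ξ) (x' z : X') : ℤ :=
  haveI := Classical.propDecidable (p z = ξ)
  if hz : p z = ξ then ((fibreLen p z).toNat : ℤ) * Cyc.divFun δ' z (pullRes p hz g) x' else 0

theorem specMap_ne_zero_iff {x ξ : X} (h : ξ ⤳ x) (a : X.presheaf.stalk x) :
    Cyc.specMap x ξ h a ≠ 0 ↔ a ∉ (primeOf h).asIdeal := by
  rw [← CycLib.ker_specMap h, RingHom.mem_ker]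

theorem exists_frac {x ξ : X} (h : ξ ⤳ x) {g : X.residueField ξ} (hg : g ≠ 0) :
    ∃ a b : X.presheaf.stalk x, a ∉ (primeOf h).asIdeal ∧ b ∉ (primeOf h).asIdeal ∧
      g = Cyc.specMap x ξ h a / Cyc.specMap x ξ h b := by
  obtain ⟨a, b, hb, e⟩ := IsFractionRing.div_surjective (A := Cyc.LocQuot x ξ h) g
  obtain ⟨a, rfl⟩ := Ideal.Quotient.mk_surjective a
  obtain ⟨b, rfl⟩ := Ideal.Quotient.mk_surjective b
  rw [CycLib.algebraMap_locQuot_mk, CycLib.algebraMap_locQuot_mk] at e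
  have hb0 : Cyc.specMap x ξ h b ≠ 0 := fun h0 => nonZeroDivisors.ne_zero hb (Ideal.Quotient.eq_zero_iff_mem.2 h0)
  have ha0 : Cyc.specMap x ξ h a ≠ 0 := fun h0 => hg (by rw [← e, h0, zero_div])
  exact ⟨a, b, (specMap_ne_zero_iff h a).1 ha0, (specMap_ne_zero_iff h b).1 hb0, e.symm⟩

theorem pullFun_divFun (p : X' ⟶ X) [Flat p] [IsLocallyNoetherian X] [IsLocallyNoetherian X'] {δ : X → ℤ}
    {δ' : X' → ℤ} {c : ℤ} (hc : HasShift p δ' δ c) (hd : Cyc.IsDimFun X δ) (hd' : Cyc.IsDimFun X' δ') {ξ : X}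
    {g : X.residueField ξ} (hg : g ≠ 0) (x' : X') :
    Cyc.pullFun p δ' δ c (Cyc.divFun δ ξ g) x' =
      ∑ᶠ z ∈ {z : X' | p z = ξ ∧ FibDim.FibMax p z}, term p δ' g x' z := by
  classical
  have hgδ : ∀ z, p z = ξ → FibDim.FibMax p z → δ' z = δ ξ + c := fun z h1 h2 => by rw [hc.eq_of_fibMax h2, h1]
  have hterm0 : ∀ (z : X'), p z = ξ → FibDim.FibMax p z → ¬ (z ⤳ x' ∧ δ' x' + 1 = δ ξ + c) →
      term p δ' g x' z = 0 := fun z h1 h2 h3 => by
    rw [term, dif_pos h1, Cyc.divFun, dif_neg (by rw [hgδ z h1 h2]; exact h3), mul_zero]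
  by_cases hmain : ξ ⤳ p x' ∧ δ' x' + 1 = δ ξ + c
  swap
  · rw [finsum_mem_eq_zero_of_forall_eq_zero (s := {z : X' | p z = ξ ∧ FibDim.FibMax p z}) fun z hz => hterm0 z hz.1 hz.2 fun h =>
      hmain ⟨hz.1 ▸ h.1.map p.continuous, h.2⟩]
    simp only [Cyc.pullFun, Cyc.divFun]
    split_ifs with h1 h2
    · exact absurd ⟨h2.1, by omega⟩ hmain
    · simp
    · rfl
  obtain ⟨h, hx'⟩ := hmain
  obtain ⟨a, b, ha, hb, hab⟩ := exists_frac h hg
  have hzprime : ∀ {z : X'} (hz : z ⤳ x'), p z = ξ → ∀ t, t ∉ (primeOf h).asIdeal →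
      Cyc.specMap x' z hz ((p.stalkMap x').hom t) ≠ 0 := fun {z} hz hzξ t ht => by
    rw [← pullRes_specMap p hz hzξ h]
    exact (map_ne_zero _).2 ((map_ne_zero _).2 ((specMap_ne_zero_iff h t).2 ht))
  have htermz : ∀ z, p z = ξ → FibDim.FibMax p z → ∀ hz : z ⤳ x', term p δ' g x' z =
      ((fibreLen p z).toNat : ℤ) * (Cyc.ordAt x' z hz (Cyc.specMap x' z hz ((p.stalkMap x').hom a)) -
        Cyc.ordAt x' z hz (Cyc.specMap x' z hz ((p.stalkMap x').hom b))) := fun z h1 h2 hz => by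
    have hd1 : δ' x' + 1 = δ' z := by rw [hgδ z h1 h2, hx']
    have hmap : pullRes p h1 g = Cyc.specMap x' z hz ((p.stalkMap x').hom a) /
        Cyc.specMap x' z hz ((p.stalkMap x').hom b) := by
      rw [← pullRes_specMap p hz h1 h, ← pullRes_specMap p hz h1 h, hab]
      simp only [pullRes, map_div₀]
    rw [term, dif_pos h1, CycLib.divFun_eq δ' _ hz hd1, hmap, div_eq_mul_inv,
      CycLib.ordAt_mul hd' hz hd1 (hzprime hz h1 a ha) (inv_ne_zero (hzprime hz h1 b hb)),
      CycLib.ordAt_inv hd' hz hd1 (hzprime hz h1 b hb)]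
    ring
  by_cases hx : δ' x' = δ (p x') + c
  · have hxξ : δ (p x') + 1 = δ ξ := by omega
    obtain ⟨s, hs, ea⟩ := ord_pull p hc hd hd' h hxξ hx a ha
    obtain ⟨s', hs', eb⟩ := ord_pull p hc hd hd' h hxξ hx b hb
    obtain rfl : s' = s := Finset.ext fun z => (hs' z).trans (hs z).symm
    have hlen : fibreLen p x' ≠ ⊤ := fibreLen_ne_top p (hc.fibMax_of_ge hd' hx.ge)
    have conv : ∀ t : X.presheaf.stalk (p x'), t ∉ (primeOf h).asIdeal →
        (Ring.ord (Cyc.LocQuot (p x') ξ h) (Ideal.Quotient.mk _ t) * fibreLen p x' =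
          ∑ z ∈ s', fibreLen p z * (if hz : z ⤳ x' then
            Ring.ord (Cyc.LocQuot x' z hz) (Ideal.Quotient.mk _ ((p.stalkMap x').hom t)) else 0)) →
        Cyc.ordAt (p x') ξ h (Cyc.specMap (p x') ξ h t) * ((fibreLen p x').toNat : ℤ) =
          ∑ z ∈ s', if hz : z ⤳ x' then ((fibreLen p z).toNat : ℤ) *
            Cyc.ordAt x' z hz (Cyc.specMap x' z hz ((p.stalkMap x').hom t)) else 0 := by
      intro t ht e
      have hne : Ideal.Quotient.mk _ t ≠ (0 : Cyc.LocQuot (p x') ξ h) := fun h0 =>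
        (specMap_ne_zero_iff h t).2 ht (Ideal.Quotient.eq_zero_iff_mem.1 h0)
      rw [← CycLib.algebraMap_locQuot_mk h t, CycLib.ordAt_algebraMap hd h hxξ hne]
      have e' := congrArg ENat.toNat e
      rw [ENat.toNat_mul, ENat.toNat_sum] at e'
      · rw [← Nat.cast_mul, e', Nat.cast_sum]
        refine Finset.sum_congr rfl fun z hz => ?_
        obtain ⟨hz1, hz2, hz3⟩ := (hs' z).1 hz
        rw [dif_pos hz1, dif_pos hz1, ENat.toNat_mul, Nat.cast_mul, ← CycLib.algebraMap_locQuot_mk hz1,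
          CycLib.ordAt_algebraMap hd' hz1 (by rw [hgδ z hz2 hz3, hx']) fun h0 =>
            hzprime hz1 hz2 t ht (Ideal.Quotient.eq_zero_iff_mem.1 h0)]
      · intro z hz
        obtain ⟨hz1, hz2, hz3⟩ := (hs' z).1 hz
        rw [dif_pos hz1]
        haveI := CycLib.krullDimLE_locQuot hd' hz1 (show δ' x' + 1 = δ' z by rw [hgδ z hz2 hz3, hx'])
        exact WithTop.mul_ne_top (fibreLen_ne_top p hz3) (Ring.ord_ne_top (mem_nonZeroDivisors_of_ne_zero
          fun h0 => hzprime hz1 hz2 t ht (Ideal.Quotient.eq_zero_iff_mem.1 h0)))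
    have ka := conv a ha ea
    have kb := conv b hb eb
    rw [finsum_mem_inter_support_eq' (term p δ' g x') {z : X' | p z = ξ ∧ FibDim.FibMax p z} (↑s' : Set X') ?_,
      finsum_mem_coe_finset]
    · have hne1 := (specMap_ne_zero_iff h a).2 ha
      have hne2 := (specMap_ne_zero_iff h b).2 hb
      simp only [Cyc.pullFun]
      rw [if_pos hx, CycLib.divFun_eq δ g h hxξ, hab, div_eq_mul_inv,
        CycLib.ordAt_mul hd h hxξ hne1 (inv_ne_zero hne2), CycLib.ordAt_inv hd h hxξ hne2, add_mul, neg_mul]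
      rw [show (Module.length (X'.presheaf.stalk x') (X'.presheaf.stalk x' ⧸ Ideal.map (p.stalkMap x').hom
        (IsLocalRing.maximalIdeal (X.presheaf.stalk (p x'))))).toNat = (fibreLen p x').toNat from rfl, ka, kb,
        ← sub_eq_add_neg, ← Finset.sum_sub_distrib]
      refine Finset.sum_congr rfl fun z hz => ?_
      obtain ⟨hz1, hz2, hz3⟩ := (hs' z).1 hz
      refine Eq.trans ?_ (((htermz z hz2 hz3 hz1).symm.trans (congrArg (fun g => term p δ' g x' z) (hab.trans (div_eq_mul_inv _ _)))))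
      rw [dif_pos hz1, dif_pos hz1]
      ring
    · intro z hz
      refine ⟨fun hz' => (hs' z).2 ⟨?_, hz'.1, hz'.2⟩, fun hz' => ⟨((hs' z).1 hz').2.1, ((hs' z).1 hz').2.2⟩⟩
      by_contra hn
      exact hz (hterm0 z hz'.1 hz'.2 fun h' => hn h'.1)
  · have hle := hc.le hd' x'
    have hle2 := CycLib.delta_le hd h
    have hξ : ξ = p x' := CycLib.eq_of_delta_le hd h (by omega)
    simp only [Cyc.pullFun, if_neg hx]
    symm
    refine finsum_mem_eq_zero_of_forall_eq_zero fun z hz => ?_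
    by_cases hzx : z ⤳ x'
    · rw [htermz z hz.1 hz.2 hzx]
      have hu : ∀ t, t ∉ (primeOf h).asIdeal → Cyc.ordAt x' z hzx (Cyc.specMap x' z hzx ((p.stalkMap x').hom t)) = 0 :=
        fun t ht => CycLib.ordAt_eq_zero_of_isUnit hd' hzx (by rw [hgδ z hz.1 hz.2, hx']) (IsUnit.map _ (by
          subst hξ
          rw [primeOf_refl] at ht
          by_contra hu
          exact ht hu))
      rw [hu a ha, hu b hb]
      ring
    · exact hterm0 z hz.1 hz.2 fun h' => hzx h'.1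

end Groth.Agent.H23.DivPull
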