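import Groth.Agent.H23.StalkPrimes
import Groth.Agent.H23.FlatPushPull
import Groth.Agent.CycLib.DivMap
import Groth.Agent.CycLib.EulerDim1
import Groth.Agent.LC.GorFlat
import Groth.Agent.IntThLib.Dim1

/-! The order of a function after flat pull-back. -/

set_option autoImplicit false
set_option linter.style.haveILetI false

universe u

open AlgebraicGeometry CategoryTheory IsLocalRing

namespace Groth.Agent.H23.DivPull

open Groth.Agent CDiv6 StalkPrimes FiniteFibreSum FlatShift

variable {X X' : Scheme.{u}}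

/-- The points over `ξ` specialising to `x'` that are maximal in their fibre. -/
def Gens (p : X' ⟶ X) (x' : X') (ξ : X) : Set X' :=
  {z | z ⤳ x' ∧ p z = ξ ∧ FibDim.FibMax p z}

theorem primeOf_refl (x : X) : (primeOf (specializes_refl x)).asIdeal = maximalIdeal (X.presheaf.stalk x) := by
  ext g
  rw [mem_primeOf, TopCat.Presheaf.stalkSpecializes_refl]
  exact Iff.rfl

theorem fibreLen_localized (p : X' ⟶ X) {x' z : X'} (hz : z ⤳ x') :
    fibreLen p z = Module.length (X'.presheaf.stalk z) (X'.presheaf.stalk z ⧸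
      ((primeOf (hz.map p.continuous)).asIdeal.map (p.stalkMap x').hom).map (X'.presheaf.stalkSpecializes hz).hom) := by
  have hloc := isLocalization_primeOf (hz.map p.continuous)
  letI := (X.presheaf.stalkSpecializes (hz.map p.continuous)).hom.toAlgebra
  have hm : IsLocalRing.maximalIdeal (X.presheaf.stalk (p z)) =
      (primeOf (hz.map p.continuous)).asIdeal.map (X.presheaf.stalkSpecializes (hz.map p.continuous)).hom :=
    (IsLocalization.AtPrime.map_eq_maximalIdeal (primeOf (hz.map p.continuous)).asIdeal _).symm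
  rw [fibreLen, hm, Ideal.map_map, Ideal.map_map, ← CommRingCat.hom_comp, ← CommRingCat.hom_comp,
    Scheme.Hom.stalkSpecializes_stalkMap p z x' hz]

open Classical in
theorem ord_pull (p : X' ⟶ X) [Flat p] [IsLocallyNoetherian X] [IsLocallyNoetherian X'] {δ : X → ℤ} {δ' : X' → ℤ}
    {c : ℤ} (hc : HasShift p δ' δ c) (hd : Cyc.IsDimFun X δ) (hd' : Cyc.IsDimFun X' δ') {ξ : X} {x' : X'}
    (h : ξ ⤳ p x') (hx : δ (p x') + 1 = δ ξ) (hx' : δ' x' = δ (p x') + c) (a : X.presheaf.stalk (p x'))
    (ha : a ∉ (primeOf h).asIdeal) :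
    ∃ s : Finset X', (∀ z, z ∈ s ↔ z ∈ Gens p x' ξ) ∧
      Ring.ord (Cyc.LocQuot (p x') ξ h) (Ideal.Quotient.mk _ a) * fibreLen p x' =
        ∑ z ∈ s, fibreLen p z * (if hz : z ⤳ x' then
          Ring.ord (Cyc.LocQuot x' z hz) (Ideal.Quotient.mk _ ((p.stalkMap x').hom a)) else 0) := by
  classical
  set 𝔭 := (primeOf h).asIdeal with h𝔭
  letI : Algebra (X.presheaf.stalk (p x')) (X'.presheaf.stalk x') := (p.stalkMap x').hom.toAlgebra
  haveI : IsLocalHom (algebraMap (X.presheaf.stalk (p x')) (X'.presheaf.stalk x')) :=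
    inferInstanceAs <| IsLocalHom (p.stalkMap x').hom
  haveI : Module.Flat (X.presheaf.stalk (p x')) (X'.presheaf.stalk x') := Flat.stalkMap p x'
  set I := 𝔭.map (algebraMap (X.presheaf.stalk (p x')) (X'.presheaf.stalk x')) with hIdef
  let B := X'.presheaf.stalk x' ⧸ I
  let A := X.presheaf.stalk (p x') ⧸ 𝔭
  haveI hflat : Module.Flat A B := LC.exists_quotientMap_flat 𝔭
  have hIle : I ≤ maximalIdeal (X'.presheaf.stalk x') :=
    (Ideal.map_mono (le_maximalIdeal (primeOf h).2.ne_top)).trans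
      (Ideal.map_le_iff_le_comap.2 fun t ht hu => ht (isUnit_of_map_unit (p.stalkMap x').hom t hu))
  haveI : Nontrivial B := Ideal.Quotient.nontrivial_iff.2 fun e =>
    (maximalIdeal.isMaximal _).ne_top (top_le_iff.1 (e ▸ hIle))
  haveI : IsLocalRing B := IsLocalRing.of_surjective' (Ideal.Quotient.mk I) Ideal.Quotient.mk_surjective
  haveI : IsLocalRing A := IsLocalRing.of_surjective' (Ideal.Quotient.mk 𝔭) Ideal.Quotient.mk_surjective
  haveI : IsLocalHom (algebraMap A B) := ⟨fun t ht => by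
    obtain ⟨t, rfl⟩ := Ideal.Quotient.mk_surjective t
    by_contra hu
    have hmem : t ∈ maximalIdeal (X.presheaf.stalk (p x')) := fun hut => hu (hut.map _)
    have h2 : (p.stalkMap x').hom t ∈ maximalIdeal (X'.presheaf.stalk x') :=
      fun hut => hmem (isUnit_of_map_unit _ _ hut)
    have hB : Ideal.Quotient.mk I ((p.stalkMap x').hom t) ∈ nonunits B := fun hut => by
      obtain ⟨w, hw⟩ := Ideal.Quotient.mk_surjective (↑hut.unit⁻¹ : B)
      have h1 : Ideal.Quotient.mk I ((p.stalkMap x').hom t * w) = 1 := by rw [map_mul, hw, IsUnit.mul_val_inv]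
      rw [← map_one (Ideal.Quotient.mk I), Ideal.Quotient.eq] at h1
      exact (maximalIdeal.isMaximal _).ne_top ((Ideal.eq_top_iff_one _).2
        ((sub_sub_cancel ((p.stalkMap x').hom t * w) 1) ▸ sub_mem (Ideal.mul_mem_right w _ h2) (hIle h1)))
    exact hB ht⟩
  -- points of the primes
  have hIiff : ∀ {z : X'} (hz : z ⤳ x'), I ≤ (primeOf hz).asIdeal ↔ ξ ⤳ p z := fun hz => map_le_iff p hz h
  have hbound : ∀ {z : X'}, ξ ⤳ p z → δ' z ≤ δ' x' + 1 := fun {z} hz => by
    have h1 := hc.le hd' z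
    have h2 := CycLib.delta_le hd hz
    omega
  have hgen : ∀ {z : X'}, z ⤳ x' → ξ ⤳ p z → ∃ w ∈ Gens p x' ξ, w ⤳ z := fun {z} hz hzξ => by
    obtain ⟨w, hw, rfl⟩ := CycLib.exists_generization p hzξ
    obtain ⟨v, hv, hpv, hmax⟩ := exists_fibMax_gen p w
    exact ⟨v, ⟨hv.trans (hw.trans hz), hpv, hmax⟩, hv.trans hw⟩
  have hgδ : ∀ {z : X'}, z ∈ Gens p x' ξ → δ' z = δ' x' + 1 := fun {z} hz => by
    rw [hc.eq_of_fibMax hz.2.2, hz.2.1]; omega
  have hIQ : ∀ {z : X'} (hz : z ∈ Gens p x' ξ), I ≤ (primeOf hz.1).asIdeal := fun hz =>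
    (hIiff hz.1).2 (specializes_of_eq hz.2.1.symm)
  -- the minimal primes of `B`
  have hprime : ∀ {z : X'} (hz : z ∈ Gens p x' ξ), ((primeOf hz.1).asIdeal.map (Ideal.Quotient.mk I)).IsPrime :=
    fun hz => Ideal.map_isPrime_of_surjective Ideal.Quotient.mk_surjective (by rw [Ideal.mk_ker]; exact hIQ hz)
  have hcm : ∀ {z : X'} (hz : z ∈ Gens p x' ξ),
      ((primeOf hz.1).asIdeal.map (Ideal.Quotient.mk I)).comap (Ideal.Quotient.mk I) = (primeOf hz.1).asIdeal :=
    fun hz => by
      rw [Ideal.comap_map_of_surjective _ Ideal.Quotient.mk_surjective, ← RingHom.ker_eq_comap_bot, Ideal.mk_ker,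
        sup_eq_left.2 (hIQ hz)]
  have hpt : ∀ (q : Ideal B) [q.IsPrime], ∃ (z : X') (hz : z ⤳ x'),
      (primeOf hz).asIdeal = q.comap (Ideal.Quotient.mk I) ∧ ξ ⤳ p z := fun q _ => by
    obtain ⟨z, hz, e⟩ := exists_point (q.comap (Ideal.Quotient.mk I))
    refine ⟨z, hz, e, (hIiff hz).1 ?_⟩
    rw [e]
    exact (Ideal.mk_ker (I := I)).ge.trans (Ideal.comap_mono bot_le)
  have hsurjmap : ∀ (q : Ideal B), (q.comap (Ideal.Quotient.mk I)).map (Ideal.Quotient.mk I) = q := fun q =>
    Ideal.map_comap_of_surjective _ Ideal.Quotient.mk_surjective q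
  have hmin : ∀ q : Ideal B, q ∈ minimalPrimes B ↔
      ∃ (z : X') (hz : z ∈ Gens p x' ξ), (primeOf hz.1).asIdeal.map (Ideal.Quotient.mk I) = q := by
    refine fun q => ⟨fun hq => ?_, ?_⟩
    · haveI := hq.1.1
      obtain ⟨z, hz, e, hzξ⟩ := hpt q
      obtain ⟨w, hw, hwz⟩ := hgen hz hzξ
      refine ⟨w, hw, le_antisymm ?_ (hq.2 ⟨hprime hw, bot_le⟩ ?_)⟩ <;>
      · rw [← hsurjmap q, ← e]
        exact Ideal.map_mono ((primeOf_le_iff hz hw.1).2 hwz)
    · rintro ⟨z, hz, rfl⟩
      refine ⟨⟨hprime hz, bot_le⟩, fun q hq hle => ?_⟩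
      haveI := hq.1
      obtain ⟨w, hw, e, hwξ⟩ := hpt q
      have hwz : w ⤳ z := (primeOf_le_iff hz.1 hw).1 (e ▸ (Ideal.comap_mono hle).trans (hcm hz).le)
      have hwz' : w = z := CycLib.eq_of_delta_le hd' hwz ((hbound hwξ).trans (hgδ hz).ge)
      subst hwz'
      rw [← hsurjmap q, ← e]
  obtain ⟨g0, hg0, -⟩ := hgen specializes_rfl h
  have hdim : ringKrullDim B = 1 := by
    refine le_antisymm ?_ ?_
    · refine (Order.krullDimLE_iff 1 _).1 (Ring.krullDimLE_one_iff.2 fun q hq => ?_)
      haveI := hq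
      obtain ⟨z, hz, e, hzξ⟩ := hpt q
      obtain ⟨w, hw, hwz⟩ := hgen hz hzξ
      rcases eq_or_ne w z with rfl | hne
      · exact Or.inl ((hmin q).2 ⟨w, hw, by rw [← hsurjmap q, ← e]⟩)
      · right
        have h1 := CycLib.delta_lt hd' hwz hne
        have h2 := hgδ hw
        have hzx : z = x' := CycLib.eq_of_delta_le hd' hz (by omega)
        subst hzx
        have : q.comap (Ideal.Quotient.mk I) = maximalIdeal _ := by
          rw [← e]
          exact primeOf_refl _
        rw [← hsurjmap q, this]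
        exact (Ideal.map_eq_top_or_isMaximal_of_surjective (Ideal.Quotient.mk I) Ideal.Quotient.mk_surjective
          (maximalIdeal.isMaximal _)).resolve_left fun e' => hq.ne_top (by rw [← hsurjmap q, this, e'])
    · haveI := hprime hg0
      have hlt : (⟨_, hprime hg0⟩ : PrimeSpectrum B) < closedPoint B := by
        refine lt_of_le_of_ne (le_maximalIdeal (hprime hg0).ne_top) fun e => ?_
        have e' : (primeOf hg0.1).asIdeal.map (Ideal.Quotient.mk I) = maximalIdeal B :=
          congrArg PrimeSpectrum.asIdeal e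
        have hmax : ((maximalIdeal B).comap (Ideal.Quotient.mk I)) = maximalIdeal (X'.presheaf.stalk x') := by
          haveI := Ideal.comap_isMaximal_of_surjective (Ideal.Quotient.mk I) Ideal.Quotient.mk_surjective
            (K := maximalIdeal B)
          exact IsLocalRing.eq_maximalIdeal inferInstance
        have hx0 : g0 = x' := primeOf_inj hg0.1 (specializes_refl x')
          (by rw [← hcm hg0, e', hmax, primeOf_refl])
        have h2 := hgδ hg0
        rw [hx0] at h2
        omega
      have := Order.LTSeries.length_le_krullDim ((RelSeries.singleton _ (⟨_, hprime hg0⟩ : PrimeSpectrum B)).snoc _ hlt)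
      simpa [ringKrullDim] using this
  set ab := Ideal.Quotient.mk I ((p.stalkMap x').hom a) with habdef
  have hamin : ∀ q ∈ minimalPrimes B, ab ∉ q := fun q hq hmem => by
    obtain ⟨z, hz, rfl⟩ := (hmin q).1 hq
    have h1 : a ∈ (primeOf (hz.1.map p.continuous)).asIdeal := by
      rw [← comap_primeOf p hz.1, ← hcm hz]; exact hmem
    refine ha ?_
    have h2 := (primeOf_le_iff h (hz.1.map p.continuous)).2 (specializes_of_eq hz.2.1)
    exact h2 h1
  have hanz : Ideal.Quotient.mk 𝔭 a ≠ 0 := fun e => ha (Ideal.Quotient.eq_zero_iff_mem.1 e)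
  haveI : IsNoetherianRing B := inferInstance
  have key := IntThLib.length_quot_smul_eq hdim B ab hamin
  have hinj : Function.Injective (LinearMap.lsmul B B ab) := by
    have h1 := Module.Flat.isSMulRegular_of_isRegular (M := B) (IsRegular.of_ne_zero hanz)
    intro u v huv
    refine h1 ?_
    simp only [LinearMap.lsmul_apply, smul_eq_mul] at huv
    show Ideal.Quotient.mk 𝔭 a • u = Ideal.Quotient.mk 𝔭 a • v
    rw [Algebra.smul_def, Algebra.smul_def]
    exact huv
  rw [LinearMap.ker_eq_bot.2 hinj, Module.length_eq_zero (R := B) (M := (⊥ : Submodule B B)), zero_add] at key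
  have hfin : (Gens p x' ξ).Finite := by
    have hf := minimalPrimes.finite_of_isNoetherianRing B
    let φ : Gens p x' ξ → Ideal B := fun z => (primeOf z.2.1).asIdeal.map (Ideal.Quotient.mk I)
    have hφ : Function.Injective φ := fun z w e => Subtype.ext (primeOf_inj z.2.1 w.2.1 (by
      rw [← hcm z.2, ← hcm w.2]; exact congrArg _ e))
    haveI := (Set.Finite.subset hf (show Set.range φ ⊆ _ by rintro _ ⟨z, rfl⟩; exact (hmin _).2 ⟨z.1, z.2, rfl⟩)).to_subtype
    exact Set.finite_coe_iff.1 (Finite.of_injective (fun z => (⟨φ z, Set.mem_range_self z⟩ : Set.range φ))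
      fun z w e => hφ (congrArg Subtype.val e))
  refine ⟨hfin.toFinset, fun z => hfin.mem_toFinset, ?_⟩
  -- left hand side
  have hL : Module.length B (B ⧸ LinearMap.range (LinearMap.lsmul B B ab)) =
      Ring.ord (Cyc.LocQuot (p x') ξ h) (Ideal.Quotient.mk _ a) * fibreLen p x' := by
    have hbc := IsLocalRing.length_baseChange A B (A ⧸ Ideal.span {Ideal.Quotient.mk 𝔭 a})
    rw [← (Algebra.TensorProduct.quotIdealMapEquivTensorQuot B
      (Ideal.span {Ideal.Quotient.mk 𝔭 a})).toLinearEquiv.length_eq] at hbc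
    have e1 : LinearMap.range (LinearMap.lsmul B B ab) =
        (Ideal.span {Ideal.Quotient.mk 𝔭 a}).map (algebraMap A B) := by
      ext u
      rw [Ideal.map_span, Set.image_singleton, LinearMap.mem_range, Ideal.mem_span_singleton']
      exact exists_congr fun v => by rw [LinearMap.lsmul_apply, smul_eq_mul, mul_comm]; rfl
    rw [(Submodule.quotEquivOfEq _ _ e1).length_eq]
    refine hbc.trans (congrArg₂ (· * ·) ?_ ?_)
    · rw [← CycLib.ord_ringEquiv (Ideal.quotEquivOfEq (CycLib.ker_specMap h)), Ideal.quotEquivOfEq_mk]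
      rfl
    · rw [fibreLen]
      have e2 : (maximalIdeal A).map (algebraMap A B) =
          ((maximalIdeal (X.presheaf.stalk (p x'))).map (p.stalkMap x').hom).map (Ideal.Quotient.mk I) := by
        have hmA : maximalIdeal A = (maximalIdeal (X.presheaf.stalk (p x'))).map (Ideal.Quotient.mk 𝔭) := by
          refine (IsLocalRing.eq_maximalIdeal ?_).symm
          exact (Ideal.map_eq_top_or_isMaximal_of_surjective (Ideal.Quotient.mk 𝔭) Ideal.Quotient.mk_surjective
            (maximalIdeal.isMaximal _)).resolve_left fun e' => (maximalIdeal.isMaximal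
              (X.presheaf.stalk (p x'))).ne_top (by
              have := congrArg (Ideal.comap (Ideal.Quotient.mk 𝔭)) e'
              rwa [Ideal.comap_map_of_surjective _ Ideal.Quotient.mk_surjective, ← RingHom.ker_eq_comap_bot,
                Ideal.mk_ker, sup_eq_left.2 (le_maximalIdeal (primeOf h).2.ne_top), Ideal.comap_top] at this)
        rw [hmA, Ideal.map_map, Ideal.map_map]
        rfl
      rw [(Submodule.quotEquivOfEq _ _ e2).length_eq,
        ← Module.length_eq_of_surjective (S := X'.presheaf.stalk x') (R := B) Ideal.Quotient.mk_surjective]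
      exact (DoubleQuot.quotQuotEquivQuotOfLEₐ (X'.presheaf.stalk x') (Ideal.map_mono
        (le_maximalIdeal (primeOf h).2.ne_top))).toLinearEquiv.length_eq
  rw [← hL, key]
  let P : X' → PrimeSpectrum B := fun z =>
    if hz : z ∈ Gens p x' ξ then ⟨_, hprime hz⟩ else closedPoint B
  have hP : ∀ {z : X'} (hz : z ∈ Gens p x' ξ), (P z).asIdeal = (primeOf hz.1).asIdeal.map (Ideal.Quotient.mk I) :=
    fun hz => by simp only [P, dif_pos hz]
  rw [finsum_cond_eq_sum_of_cond_iff (t := hfin.toFinset.image P) _ (fun {q} _ => by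
    rw [hmin, Finset.mem_image]
    constructor
    · rintro ⟨z, hz, e⟩
      exact ⟨z, hfin.mem_toFinset.2 hz, PrimeSpectrum.ext ((hP hz).trans e)⟩
    · rintro ⟨z, hz, rfl⟩
      exact ⟨z, hfin.mem_toFinset.1 hz, (hP (hfin.mem_toFinset.1 hz)).symm⟩),
    Finset.sum_image fun z hz w hw e => by
      have hz' := hfin.mem_toFinset.1 hz
      have hw' := hfin.mem_toFinset.1 hw
      refine primeOf_inj hz'.1 hw'.1 ?_
      rw [← hcm hz', ← hcm hw', ← hP hz', ← hP hw', e]]
  refine Finset.sum_congr rfl fun z hz => ?_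
  have hz' := hfin.mem_toFinset.1 hz
  rw [dif_pos hz'.1]
  refine congrArg₂ (· * ·) ?_ ?_
  · haveI := isLocalization_primeOf hz'.1
    letI := (X'.presheaf.stalkSpecializes hz'.1).hom.toAlgebra
    rw [fibreLen_localized p hz'.1, length_localized_quot (S := X'.presheaf.stalk z) I (primeOf hz'.1).asIdeal
      (hIQ hz') (P z).asIdeal (hP hz')]
    have e3 : (primeOf (hz'.1.map p.continuous)).asIdeal = 𝔭 :=
      le_antisymm ((primeOf_le_iff h (hz'.1.map p.continuous)).2 (specializes_of_eq hz'.2.1))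
        ((primeOf_le_iff (hz'.1.map p.continuous) h).2 (specializes_of_eq hz'.2.1.symm))
    rw [e3]
    rfl
  · rw [← CycLib.ord_eq_length]
    let e : (B ⧸ (P z).asIdeal) ≃+* Cyc.LocQuot x' z hz'.1 :=
      ((Ideal.quotEquivOfEq (hP hz')).trans (DoubleQuot.quotQuotEquivQuotOfLE (hIQ hz'))).trans
        (Ideal.quotEquivOfEq (CycLib.ker_specMap hz'.1).symm)
    rw [← CycLib.ord_ringEquiv e]
    rfl

end Groth.Agent.H23.DivPull
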