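import Groth.Agent.SmoothCot.Scheme
import Groth.Agent.GenSmooth5.Basic
import Groth.Agent.H23.StalkPrimes
import Groth.Agent.RegLoc6.Basic
import Groth.Agent.FibDim.BaseField
import Mathlib.AlgebraicGeometry.Morphisms.Flat
import Mathlib.RingTheory.Flat.FaithfullyFlat.Algebra

/-! Dominance and surjectivity of the differential at a regular point. -/

set_option autoImplicit false
set_option linter.style.haveILetI false
set_option backward.isDefEq.respectTransparency false
set_option backward.isDefEq.respectTransparency.types false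

universe u

open CategoryTheory CategoryTheory.Limits AlgebraicGeometry TopologicalSpace IsLocalRing

namespace Groth.Agent.H23.DomCot

open Groth.Agent CDiv6 SmoothCot

/-- An injective cotangent map into a regular local ring forces regularity of the source. -/
theorem isRegularLocalRing_of_injective {A B : Type u} [CommRing A] [CommRing B] [IsLocalRing A] [IsNoetherianRing A]
    [IsRegularLocalRing B] [Algebra A B] [IsLocalHom (algebraMap A B)]
    (hres : Function.Surjective (IsLocalRing.ResidueField.map (algebraMap A B)))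
    (hinj : Function.Injective (cotMap (algebraMap A B))) : IsRegularLocalRing A := by
  classical
  set φ := algebraMap A B with hφ
  obtain ⟨dA, hcA⟩ : ∃ n : ℕ, Module.finrank (ResidueField A) (CotangentSpace A) = n := ⟨_, rfl⟩
  obtain ⟨dB, hB⟩ : ∃ n : ℕ, ringKrullDim B = n := ⟨_, ((isRegularLocalRing_iff B).1 inferInstance).symm⟩
  have hcB : Module.finrank (ResidueField B) (CotangentSpace B) = dB := by
    exact_mod_cast ((IsRegularLocalRing.iff_finrank_cotangentSpace B).1 inferInstance).trans hB
  let b := Module.finBasisOfFinrankEq (ResidueField A) (CotangentSpace A) hcA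
  choose x hx using fun i => (maximalIdeal A).toCotangent_surjective (b i)
  let v : Fin dA → CotangentSpace B := fun i => cotMap φ (b i)
  have hv : LinearIndependent (ResidueField B) v := by
    rw [Fintype.linearIndependent_iff]
    intro g hg
    choose c hc using fun i => hres (g i)
    choose a ha using fun i => IsLocalRing.residue_surjective (c i)
    have hga : ∀ i, g i = residue B (φ (a i)) := fun i => by
      rw [← hc, ← ha, IsLocalRing.ResidueField.map_residue]
    have h0 : cotMap φ (∑ i, residue A (a i) • b i) = 0 := by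
      rw [map_sum, ← hg]
      exact Finset.sum_congr rfl fun i _ => by rw [cotMap_smul, hga]
    have h1 := Fintype.linearIndependent_iff.1 b.linearIndependent _ (hinj (h0.trans (map_zero _).symm))
    intro i
    rw [← hc i, ← ha i, h1 i, map_zero]
  have hI : (maximalIdeal A).map φ = Ideal.span (Set.range fun i => φ (x i).1) := by
    refine map_maximalIdeal_eq_span φ x ?_
    simp only [hx]
    exact b.span_eq
  set W := Submodule.span (ResidueField B) (Set.range v) with hW
  have hWr : Module.finrank (ResidueField B) W = dA := by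
    rw [hW, finrank_span_eq_card hv, Fintype.card_fin]
  have hle : dA ≤ dB := hcB ▸ (by simpa using hv.fintype_card_le_finrank)
  obtain ⟨C, hC⟩ := W.exists_isCompl
  have hCr : Module.finrank (ResidueField B) C = dB - dA := by
    have := Submodule.finrank_add_eq_of_isCompl hC
    rw [hWr, hcB] at this
    omega
  let c := Module.finBasisOfFinrankEq (ResidueField B) C hCr
  choose w hw using fun j => (maximalIdeal B).toCotangent_surjective (c j : CotangentSpace B)
  let y : Fin dA → maximalIdeal B := fun i => ⟨φ (x i).1, le_comap φ (x i).2⟩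
  have hspan : Submodule.span B (Set.range y ∪ Set.range w) = ⊤ := by
    rw [← CotangentSpace.span_image_eq_top_iff, Set.image_union, ← Set.range_comp, ← Set.range_comp,
      Submodule.span_union]
    have e1 : (maximalIdeal B).toCotangent ∘ y = v := funext fun i => by
      change _ = cotMap φ (b i)
      rw [← hx i]
      rfl
    have e2 : (maximalIdeal B).toCotangent ∘ w = C.subtype ∘ c := funext hw
    rw [e1, e2, Set.range_comp, Submodule.span_image, c.span_eq, Submodule.map_top,
      Submodule.range_subtype, ← hW]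
    exact hC.sup_eq_top
  set I := (maximalIdeal A).map φ with hIdef
  have hIm : I ≤ maximalIdeal B := IsLocalRing.map_maximalIdeal_le φ
  have hmB : maximalIdeal B = I ⊔ Ideal.span (Set.range fun j => (w j).1) := by
    have h := congrArg (Submodule.map (maximalIdeal B).subtype) hspan
    rw [Submodule.map_top, Submodule.range_subtype, Submodule.map_span, Set.image_union,
      ← Set.range_comp, ← Set.range_comp, Submodule.span_union] at h
    rw [hI]
    exact h.symm
  haveI : Nontrivial (B ⧸ I) := Ideal.Quotient.nontrivial_iff.2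
    fun h => (maximalIdeal.isMaximal B).ne_top (top_le_iff.1 (h ▸ hIm))
  haveI : IsLocalRing (B ⧸ I) := IsLocalRing.of_surjective' _ Ideal.Quotient.mk_surjective
  have hqm : maximalIdeal (B ⧸ I) = Ideal.span (Set.range fun j => Ideal.Quotient.mk I (w j).1) := by
    rw [← IsLocalRing.map_maximalIdeal_of_surjective _ Ideal.Quotient.mk_surjective,
      congrArg (Ideal.map (Ideal.Quotient.mk I)) hmB, Ideal.map_sup,
      Ideal.map_quotient_self, bot_sup_eq, Ideal.map_span, ← Set.range_comp]
    rfl
  have hs : (maximalIdeal (B ⧸ I)).spanFinrank ≤ dB - dA := by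
    rw [hqm]
    refine (Submodule.spanFinrank_span_le_ncard_of_finite (Set.finite_range _)).trans ?_
    rw [← Nat.card_coe_set_eq]
    exact (Finite.card_range_le _).trans_eq (Nat.card_fin _)
  have h2 : ringKrullDim B ≤ ringKrullDim A + ringKrullDim (B ⧸ I) := FlatLoc6.ringKrullDim_le_add_fibre
  have h1 : ringKrullDim (B ⧸ I) ≤ ((dB - dA : ℕ) : WithBot ℕ∞) :=
    (ringKrullDim_le_spanFinrank_maximalIdeal (B ⧸ I)).trans (by exact_mod_cast hs)
  obtain ⟨a, ha⟩ := LC.exists_supportDim_eq_nat (R := A) A
  rw [Module.supportDim_self_eq_ringKrullDim] at ha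
  rw [hB, ha] at h2
  have h3 : dB ≤ a + (dB - dA) := by exact_mod_cast h2.trans (add_le_add le_rfl h1)
  have hsp : (maximalIdeal A).spanFinrank = dA := by
    rw [spanFinrank_maximalIdeal_eq_finrank_cotangentSpace, hcA]
  exact IsRegularLocalRing.of_spanFinrank_maximalIdeal_le A (by rw [ha, hsp]; exact_mod_cast (by omega : dA ≤ a))

variable {k : Type u} [Field k] [IsAlgClosed k] {X Y : Scheme.{u}}
  (qX : X ⟶ Spec (CommRingCat.of k)) (qY : Y ⟶ Spec (CommRingCat.of k)) (f : X ⟶ Y)

theorem isDominant_of_injective (hf : f ≫ qY = qX) [LocallyOfFiniteType qX] [LocallyOfFiniteType qY] [IsIntegral Y]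
    {P : X} (hP : IsClosed ({P} : Set X)) (hreg : IsRegularLocalRing (X.presheaf.stalk P))
    (hinj : Function.Injective (cotMap (f.stalkMap P).hom)) : IsDominant f := by
  haveI : IsLocallyNoetherian Y := LocallyOfFiniteType.isLocallyNoetherian qY
  letI := (f.stalkMap P).hom.toAlgebra
  haveI : IsLocalHom (algebraMap (Y.presheaf.stalk (f P)) (X.presheaf.stalk P)) :=
    inferInstanceAs (IsLocalHom (f.stalkMap P).hom)
  have hres := residueFieldMap_surjective qX qY f hf hP
  haveI := isRegularLocalRing_of_injective (A := Y.presheaf.stalk (f P)) (B := X.presheaf.stalk P) hres hinj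
  obtain ⟨hflat, -, -⟩ := flat_and_regular_of_injective (A := Y.presheaf.stalk (f P)) (B := X.presheaf.stalk P)
    hres hinj
  haveI := hflat
  haveI : Module.FaithfullyFlat (Y.presheaf.stalk (f P)) (X.presheaf.stalk P) :=
    Module.FaithfullyFlat.of_flat_of_isLocalHom
  have hinj' : Function.Injective (f.stalkMap P).hom :=
    FaithfulSMul.algebraMap_injective (Y.presheaf.stalk (f P)) (X.presheaf.stalk P)
  haveI := RegLoc6.isDomain_of_isRegularLocalRing (X.presheaf.stalk P)
  haveI : (⊥ : Ideal (X.presheaf.stalk P)).IsPrime := Ideal.isPrime_bot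
  obtain ⟨z, hz, hz'⟩ := StalkPrimes.exists_point (X := X) (⊥ : Ideal (X.presheaf.stalk P))
  have hzero : (primeOf (hz.map f.continuous)).asIdeal = ⊥ := by
    rw [← StalkPrimes.comap_primeOf f hz, hz', ← RingHom.ker_eq_comap_bot]
    exact (RingHom.injective_iff_ker_eq_bot _).1 hinj'
  have hη : f z = genericPoint Y := by
    refine ((genericPoint_specializes (f z)).antisymm ((StalkPrimes.primeOf_le_iff (genericPoint_specializes (f P))
      (hz.map f.continuous)).1 ?_)).eq.symm
    rw [hzero]
    exact bot_le
  refine ⟨dense_iff_closure_eq.2 (Set.eq_univ_of_univ_subset ?_)⟩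
  rw [← (genericPoint_spec Y).def]
  exact closure_mono (Set.singleton_subset_iff.2 ⟨z, hη⟩)

theorem exists_point_of_isDominant [CharZero k] (hf : f ≫ qY = qX) [LocallyOfFiniteType qX] [QuasiCompact qX]
    [LocallyOfFiniteType qY] [AlgebraicGeometry.IsReduced X] [IsIntegral Y] [QuasiCompact f] [IsDominant f] :
    ∃ P : X, IsClosed ({P} : Set X) ∧ IsRegularLocalRing (X.presheaf.stalk P) ∧
      Function.Injective (cotMap (f.stalkMap P).hom) := by
  haveI : IsLocallyNoetherian X := LocallyOfFiniteType.isLocallyNoetherian qX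
  haveI : IsLocallyNoetherian Y := LocallyOfFiniteType.isLocallyNoetherian qY
  haveI : CompactSpace X := QuasiCompact.compactSpace_of_compactSpace qX
  haveI : IsNoetherian X := ⟨⟩
  haveI : LocallyOfFiniteType (f ≫ qY) := hf ▸ inferInstance
  haveI : LocallyOfFiniteType f := locallyOfFiniteType_of_comp f qY
  haveI : LocallyOfFinitePresentation f := LocallyOfFinitePresentation.iff_locallyOfFiniteType.2 ‹_›
  haveI : LocallyOfFinitePresentation qX := LocallyOfFinitePresentation.iff_locallyOfFiniteType.2 inferInstance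
  haveI : JacobsonSpace X := LocallyOfFiniteType.jacobsonSpace qX
  -- a maximal point over the generic point
  obtain ⟨ξ, Z, hZ, hξ, hξη⟩ : ∃ ξ Z, Z ∈ irreducibleComponents X ∧ IsGenericPoint ξ Z ∧ f ξ = genericPoint Y := by
    have hcl : genericPoint Y ∈ closure (⋃ Z ∈ irreducibleComponents X, f '' Z) := by
      rw [← Set.image_iUnion₂, ← Set.sUnion_eq_biUnion, sUnion_irreducibleComponents, Set.image_univ]
      exact f.denseRange _
    rw [(NoetherianSpace.finite_irreducibleComponents).closure_biUnion] at hcl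
    obtain ⟨Z, hZ, hη⟩ := Set.mem_iUnion₂.1 hcl
    obtain ⟨ξ, hξ⟩ := QuasiSober.sober hZ.1 (isClosed_of_mem_irreducibleComponents Z hZ)
    refine ⟨ξ, Z, hZ, hξ, ?_⟩
    rw [(hξ.image f.continuous).def.symm] at hη
    exact ((specializes_iff_mem_closure.2 hη).antisymm (genericPoint_specializes _)).eq
  obtain ⟨V₀, hV₀, hV₀ne, hV₀Z⟩ := NoetherianSpace.exists_isOpen_nonempty_subset_irreducibleComponent Z hZ
  let V : X.Opens := ⟨V₀, hV₀⟩
  have hξV : ξ ∈ V := by
    obtain ⟨y, hy⟩ := hV₀ne
    exact (hξ.specializes (hV₀Z hy)).mem_open hV₀ hy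
  haveI : Nonempty ↥(V : Scheme.{u}) := ⟨⟨ξ, hξV⟩⟩
  haveI : IrreducibleSpace ↥(V : Scheme.{u}) := by
    have h : IsIrreducible (V₀ : Set X) := ⟨hV₀ne, fun a b ha hb hna hnb => by
      obtain ⟨ya, hya, hya'⟩ := hna
      obtain ⟨yb, hyb, hyb'⟩ := hnb
      exact ⟨ξ, hξV, (hξ.specializes (hV₀Z hya)).mem_open ha hya', (hξ.specializes (hV₀Z hyb)).mem_open hb hyb'⟩⟩
    exact Subtype.irreducibleSpace h
  haveI : IsIntegral (V : Scheme.{u}) := isIntegral_of_irreducibleSpace_of_isReduced _
  have hgen : V.ι (genericPoint ↥(V : Scheme.{u})) = ξ := by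
    have h1 : (genericPoint ↥(V : Scheme.{u})) ⤳ ⟨ξ, hξV⟩ := genericPoint_specializes _
    have h2 := h1.map V.ι.continuous
    have h3 : ξ ⤳ V.ι (genericPoint ↥(V : Scheme.{u})) :=
      hξ.specializes (hV₀Z (genericPoint ↥(V : Scheme.{u})).2)
    exact (h2.antisymm h3).eq
  haveI : CharZero Y.functionField := charZero_of_injective_ringHom (R := k)
    (f := ((Scheme.ΓSpecIso (CommRingCat.of k)).inv ≫ qY.appTop ≫
      Y.presheaf.germ ⊤ (genericPoint Y) trivial).hom) (RingHom.injective _)
  haveI : CharZero (Spec (CommRingCat.of k)).functionField := charZero_of_injective_ringHom (R := k)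
    (f := ((Scheme.ΓSpecIso (CommRingCat.of k)).inv ≫
      (Spec (CommRingCat.of k)).presheaf.germ ⊤ (genericPoint _) trivial).hom) (RingHom.injective _)
  have h1 : ξ ∈ f.smoothLocus := by
    have h := GenSmooth5.genericPoint_mem_smoothLocus (V.ι ≫ f) (by rw [Scheme.Hom.comp_apply, hgen, hξη])
    rw [← Scheme.Hom.preimage_smoothLocus_eq] at h
    exact hgen ▸ h
  have h2 : ξ ∈ qX.smoothLocus := by
    have h := GenSmooth5.genericPoint_mem_smoothLocus (V.ι ≫ qX)
      (@Subsingleton.elim _ (FibDim.subsingleton_spec_field k) _ _)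
    rw [← Scheme.Hom.preimage_smoothLocus_eq] at h
    exact hgen ▸ h
  obtain ⟨P, ⟨hP1, hP2⟩, hPc⟩ := nonempty_inter_closedPoints
    (Z := (f.smoothLocus : Set X) ∩ qX.smoothLocus) ⟨ξ, h1, h2⟩
    (f.smoothLocus.2.inter qX.smoothLocus.2).isLocallyClosed
  refine ⟨P, hPc, SmoothReg.isRegularLocalRing_stalk_of_mem_smoothLocus qX hP2, ?_⟩
  haveI : LocallyOfFinitePresentation (f.fiberToSpecResidueField (f.base P)) :=
    MorphismProperty.pullback_snd _ _ inferInstance
  obtain ⟨hflat, hfib⟩ := (S2156.result f P).1 hP1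
  letI := (f.stalkMap P).hom.toAlgebra
  haveI : IsLocalHom (algebraMap (Y.presheaf.stalk (f P)) (X.presheaf.stalk P)) :=
    inferInstanceAs (IsLocalHom (f.stalkMap P).hom)
  haveI : Module.Flat (Y.presheaf.stalk (f P)) (X.presheaf.stalk P) := hflat
  haveI := SmoothReg.isRegularLocalRing_stalk_of_mem_smoothLocus (k := Y.residueField (f P))
    (f.fiberToSpecResidueField (f P)) hfib
  obtain ⟨e⟩ := TransFib6.exists_fiberStalkEquiv f P
  haveI : IsRegularLocalRing (X.presheaf.stalk P ⧸ (maximalIdeal (Y.presheaf.stalk (f P))).map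
      (algebraMap (Y.presheaf.stalk (f P)) (X.presheaf.stalk P))) :=
    IsRegularLocalRing.of_ringEquiv e.symm
  exact injective_of_flat_regular (A := Y.presheaf.stalk (f P)) (B := X.presheaf.stalk P)

theorem injective_cotMap_iff {A B : Type u} [CommRing A] [CommRing B] [IsLocalRing A] [IsLocalRing B] (φ : A →+* B)
    [IsLocalHom φ] :
    Function.Injective (cotMap φ) ↔ ∀ a ∈ maximalIdeal A, φ a ∈ maximalIdeal B ^ 2 → a ∈ maximalIdeal A ^ 2 := by
  constructor
  · intro h a ha hφ
    have h0 : cotMap φ ((maximalIdeal A).toCotangent ⟨a, ha⟩) = 0 :=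
      (Ideal.toCotangent_eq_zero _ _).2 hφ
    exact (Ideal.toCotangent_eq_zero _ _).1 (h (h0.trans (map_zero _).symm))
  · intro h
    rw [injective_iff_map_eq_zero]
    intro z hz
    obtain ⟨⟨a, ha⟩, rfl⟩ := (maximalIdeal A).toCotangent_surjective z
    exact (Ideal.toCotangent_eq_zero _ _).2 (h a ha ((Ideal.toCotangent_eq_zero _ _).1 hz))

end Groth.Agent.H23.DomCot
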