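import Groth.Prelude.Def_Magnet3
import Groth.Prelude.Def_ActBC

/-!
Equivariant families after base change.
-/

universe u

open CategoryTheory CategoryTheory.Limits MonoidalCategory CartesianMonoidalCategory MonObj AlgebraicGeometry Opposite

namespace Groth.Agent.H23.EqvBC

open Magnet

variable {S : Scheme.{u}} (T : Over S) (T'' : Over T.left) {A B X : Over S} [MonObj A]


/-- The comparison map `(B_T ⊗ T'') → B ⊗ T''` over `S`. -/
noncomputable def e (B : Over S) : (Over.map T.hom).obj (Red.bc T.hom B ⊗ T'') ⟶ B ⊗ (Over.map T.hom).obj T'' :=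
  lift (((Over.mapPullbackAdj T.hom).homEquiv _ _).symm (fst (Red.bc T.hom B) T'')) ((Over.map T.hom).map (snd (Red.bc T.hom B) T''))

theorem map_comp_e {W : Over T.left} (k : W ⟶ Red.bc T.hom B ⊗ T'') :
    (Over.map T.hom).map k ≫ e T T'' B =
      lift (((Over.mapPullbackAdj T.hom).homEquiv _ _).symm (k ≫ fst _ _)) ((Over.map T.hom).map (k ≫ snd _ _)) := by
  rw [e, comp_lift, Adjunction.homEquiv_naturality_left_symm, Functor.map_comp]

instance : IsIso (e T T'' B) := by
  let U := (Over.map T.hom).obj T''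
  let W : Over T.left := Over.mk ((snd B U).left ≫ T''.hom)
  let io : (Over.map T.hom).obj W ≅ B ⊗ U :=
    Over.isoMk (Iso.refl _) (by
      show 𝟙 _ ≫ (B ⊗ U).hom = _
      rw [Category.id_comp, ← Over.w (snd B U)]
      exact (Category.assoc _ _ _).symm)
  let k : W ⟶ Red.bc T.hom B ⊗ T'' :=
    lift ((Over.mapPullbackAdj T.hom).homEquiv _ _ (io.hom ≫ fst B U)) (Over.homMk (snd B U).left rfl : W ⟶ T'')
  have h1 : (io.inv ≫ (Over.map T.hom).map k) ≫ e T T'' B = 𝟙 _ := by
    rw [Category.assoc, map_comp_e, Iso.inv_comp_eq, Category.comp_id]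
    apply CartesianMonoidalCategory.hom_ext
    · rw [lift_fst]
      simp only [k, lift_fst, Equiv.symm_apply_apply]
      rfl
    · rw [lift_snd]
      simp only [k, lift_snd]
      ext
      simp [io, U]
  let k' : Red.bc T.hom B ⊗ T'' ⟶ W := Over.homMk (e T T'' B ≫ io.inv).left (by
    show (e T T'' B ≫ io.inv).left ≫ (snd B U).left ≫ T''.hom = _
    have h3 : (e T T'' B ≫ io.inv).left ≫ (snd B U).left = ((snd (Red.bc T.hom B) T'')).left := by
      have : (e T T'' B ≫ io.inv) ≫ io.hom ≫ snd B U = (Over.map T.hom).map (snd (Red.bc T.hom B) T'') := by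
        simp [e, U]
      have hi : (io.hom ≫ snd B U).left = (snd B U).left := Category.id_comp _
      have := congrArg Over.Hom.left this
      rw [Over.comp_left, hi] at this
      exact this
    rw [← Category.assoc, h3, Over.w])
  have hk : (Over.map T.hom).map k' = e T T'' B ≫ io.inv := Over.OverMorphism.ext rfl
  have h2 : k' ≫ k = 𝟙 _ := by
    apply CartesianMonoidalCategory.hom_ext
    · rw [Category.assoc, Category.id_comp]
      apply ((Over.mapPullbackAdj T.hom).homEquiv _ _).symm.injective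
      rw [Adjunction.homEquiv_naturality_left_symm, hk]
      simp [k, e, U]
    · rw [Category.assoc, Category.id_comp]
      have hh : (Over.map T.hom).map (k' ≫ k ≫ snd _ _) = (Over.map T.hom).map (snd (Red.bc T.hom B) T'') := by
        rw [Functor.map_comp, hk]
        have : (Over.map T.hom).map (k ≫ snd _ _) = io.hom ≫ snd B U := by
          ext
          simp [k, io, U]
        rw [this]
        simp [e, U]
      exact Over.OverMorphism.ext (congrArg Over.Hom.left hh :)
  refine ⟨io.inv ≫ (Over.map T.hom).map k, ?_, h1⟩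
  rw [← Category.assoc, ← hk, ← Functor.map_comp, h2]
  exact (Over.map T.hom).map_id _

variable (ρ : MonAct A B) (a : MonAct A X)

theorem he_lift_comp (φ : B ⊗ (Over.map T.hom).obj T'' ⟶ X) {W : Over T.left} (b : (Over.map T.hom).obj W ⟶ B)
    (t : W ⟶ T'') :
    lift ((Over.mapPullbackAdj T.hom).homEquiv _ _ b) t ≫ (Over.mapPullbackAdj T.hom).homEquiv _ _ (e T T'' B ≫ φ) = (Over.mapPullbackAdj T.hom).homEquiv _ _ (lift b ((Over.map T.hom).map t) ≫ φ) := by
  rw [← Adjunction.homEquiv_naturality_left, ← Category.assoc, map_comp_e, lift_fst, lift_snd, Equiv.symm_apply_apply]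

theorem mem_iff (φ : B ⊗ (Over.map T.hom).obj T'' ⟶ X) :
    MonAct.IsEquivariant ((ρ.bc T.hom).prod (MonAct.trivial (Red.bc T.hom A) T'')) (a.bc T.hom)
        ((Over.mapPullbackAdj T.hom).homEquiv _ _ (e T T'' B ≫ φ)) ↔
      MonAct.IsEquivariant (ρ.prod (MonAct.trivial A ((Over.map T.hom).obj T''))) a φ := by
  rw [MonAct.mem_eqvHom_iff, MonAct.mem_eqvHom_iff]
  constructor
  · intro h T' g b t
    let W : Over T.left := Over.mk (t.left ≫ T''.hom)
    let io : (Over.map T.hom).obj W ≅ T' := Over.isoMk (Iso.refl _) (by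
      show 𝟙 _ ≫ T'.hom = _
      rw [Category.id_comp, ← Over.w t]
      exact (Category.assoc _ _ _).symm)
    let t' : W ⟶ T'' := Over.homMk t.left rfl
    have ht : (Over.map T.hom).map t' = io.hom ≫ t := by ext; simp [io, t']
    have h1 := h W ((Over.mapPullbackAdj T.hom).homEquiv _ _ (io.hom ≫ g)) ((Over.mapPullbackAdj T.hom).homEquiv _ _ (io.hom ≫ b)) t'
    rw [MonAct.lift_homEquiv_bc_act, he_lift_comp, he_lift_comp, MonAct.lift_homEquiv_bc_act, ht,
      ← comp_lift, Category.assoc, ← comp_lift, Category.assoc, ← comp_lift, Category.assoc,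
      ← comp_lift, Category.assoc] at h1
    have h2 := ((Over.mapPullbackAdj T.hom).homEquiv _ _).injective h1
    rw [cancel_epi] at h2
    exact h2
  · intro h W g' b' t
    obtain ⟨g, rfl⟩ := ((Over.mapPullbackAdj T.hom).homEquiv W A).surjective g'
    obtain ⟨b, rfl⟩ := ((Over.mapPullbackAdj T.hom).homEquiv W B).surjective b'
    rw [MonAct.lift_homEquiv_bc_act, he_lift_comp, he_lift_comp, MonAct.lift_homEquiv_bc_act, h _ g b _]

/-- The bijection of families. -/
noncomputable def equiv :
    (MonAct.eqvHom ρ a).obj (op ((Over.map T.hom).obj T'')) ≃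
      (MonAct.eqvHom (ρ.bc T.hom) (a.bc T.hom)).obj (op T'') :=
  Equiv.subtypeEquiv ((asIso (e T T'' B)).symm.homFromEquiv.trans ((Over.mapPullbackAdj T.hom).homEquiv _ _)) fun φ => by
    refine (mem_iff T T'' ρ a φ).symm.trans ?_
    rfl

theorem e_left_fst (B : Over S) : (e T T'' B).left ≫ (fst B ((Over.map T.hom).obj T'')).left =
    (fst (Red.bc T.hom B) T'').left ≫ pullback.fst B.hom T.hom := by
  rw [← Over.comp_left, e, lift_fst]
  simp [Adjunction.homEquiv_counit]

set_option maxHeartbeats 400000 in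
theorem compat (φ : (MonAct.eqvHom ρ a).obj (op ((Over.map T.hom).obj T''))) :
    (eqvHomEquivBc T'' (ρ.bc T.hom) (a.bc T.hom) (equiv T T'' ρ a φ)).1 ≫ (ActBC.bcCompIso T''.hom T.hom X rfl).hom =
      (ActBC.bcCompIso T''.hom T.hom B rfl).hom ≫ (eqvHomEquivBc ((Over.map T.hom).obj T'') ρ a φ).1 := by
  ext
  apply pullback.hom_ext
  · simp only [Over.comp_left, Category.assoc, eqvHomEquivBc_apply_coe, ActBC.bcCompIso_hom_left_fst]
    refine ((Category.assoc _ _ _).symm.trans (congrArg (· ≫ pullback.fst X.hom T.hom)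
      (toBc_left_fst T'' (equiv T T'' ρ a φ).1))).trans ?_
    refine Eq.trans ?_ (congrArg ((ActBC.bcCompIso T''.hom T.hom B rfl).hom.left ≫ ·)
      (toBc_left_fst ((Over.map T.hom).obj T'') φ.1)).symm
    have h1 : (equiv T T'' ρ a φ).1 = (Over.mapPullbackAdj T.hom).homEquiv _ _ (e T T'' B ≫ φ.1) := rfl
    rw [h1]
    have h2 : ((Over.mapPullbackAdj T.hom).homEquiv _ _ (e T T'' B ≫ φ.1)).left ≫ pullback.fst X.hom T.hom = (e T T'' B ≫ φ.1).left := by
      have hg : ∀ {W : Over T.left} (g : W ⟶ Red.bc T.hom X),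
          g.left ≫ pullback.fst X.hom T.hom = (((Over.mapPullbackAdj T.hom).homEquiv _ _).symm g).left := fun g => by
        simp [Adjunction.homEquiv_counit]
      rw [hg, Equiv.symm_apply_apply]
    refine h2.trans ?_
    rw [Over.comp_left]
    refine congrArg (· ≫ φ.1.left) ?_
    apply pullback.hom_ext
    · exact (e_left_fst T T'' B).trans (ActBC.bcCompIso_hom_left_fst T''.hom T.hom B rfl).symm
    · refine Eq.trans ?_ (ActBC.bcCompIso_hom_left_snd T''.hom T.hom B rfl).symm
      exact congrArg Over.Hom.left (lift_snd _ _)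
  · exact (Over.w _).trans (Over.w _).symm

end Groth.Agent.H23.EqvBC
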