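import Groth.Prelude.Def_Magnet
import Mathlib.CategoryTheory.Limits.Types.Pullbacks
import Mathlib.CategoryTheory.Limits.Shapes.Pullback.IsPullback.Basic

/-! When the functor of equivariant maps into a subobject is cut out by the value at a point. -/

universe v₁ u₁

open CategoryTheory CategoryTheory.Limits MonoidalCategory CartesianMonoidalCategory MonObj Opposite

namespace Groth.Agent.H23.EqvPullback

open Magnet

variable {C : Type u₁} [Category.{v₁} C] [CartesianMonoidalCategory C] {A B X Z : C} [MonObj A]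

theorem orbit {ρ : MonAct A B} {a : MonAct A X} (e : 𝟙_ C ⟶ B) (π : A ⟶ B)
    (hπ : ∀ (T : C) (g : T ⟶ A), lift g (toUnit T ≫ e) ≫ ρ.act = g ≫ π) {T : C} (φ : B ⊗ T ⟶ X)
    (hφ : MonAct.IsEquivariant (ρ.prod (MonAct.trivial A T)) a φ) :
    (π ▷ T) ≫ φ = (A ◁ (lift (toUnit T ≫ e) (𝟙 T) ≫ φ)) ≫ a.act := by
  apply hom_ext_lift₂
  intro T' g t
  have h := (MonAct.mem_eqvHom_iff φ).mp hφ T' g (toUnit T' ≫ e) t
  rw [hπ] at h
  rw [lift_whiskerRight_assoc, h, lift_whiskerLeft_assoc, comp_lift_assoc, Category.comp_id,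
    ← Category.assoc t, comp_toUnit]

theorem isPullback_postcomp (ρ : MonAct A B) {aZ : MonAct A Z} {aX : MonAct A X} (j : Z ⟶ X) [Mono j]
    (hj : MonAct.IsEquivariant aZ aX j) (e : 𝟙_ C ⟶ B) (π : A ⟶ B)
    (hπ : ∀ (T : C) (g : T ⟶ A), lift g (toUnit T ≫ e) ≫ ρ.act = g ≫ π)
    (hext : ∀ (T : C) (h : B ⊗ T ⟶ X) (g : A ⊗ T ⟶ Z), g ≫ j = (π ▷ T) ≫ h → ∃ h' : B ⊗ T ⟶ Z, h' ≫ j = h) :
    IsPullback (MonAct.eqvHom.postcomp ρ j hj) (MonAct.eqvHom.evalAt ρ aZ e) (MonAct.eqvHom.evalAt ρ aX e)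
      (yoneda.map j) := by
  refine IsPullback.of_forall_isPullback_app fun T => ?_
  rw [Types.isPullback_iff]
  refine ⟨?_, fun φ ψ h => Subtype.ext ?_, fun φ z hz => ?_⟩
  · ext φ
    exact (Category.assoc _ _ _).symm
  · exact (cancel_mono j).mp (congrArg Subtype.val h.1)
  · have hz' : lift (toUnit (unop T) ≫ e) (𝟙 (unop T)) ≫ φ.1 = z ≫ j := hz
    obtain ⟨h', hh'⟩ := hext (unop T) φ.1 ((A ◁ z) ≫ aZ.act) (by
      rw [orbit e π hπ φ.1 φ.2, hz', Category.assoc, hj, MonoidalCategory.whiskerLeft_comp, Category.assoc])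
    have heq : MonAct.IsEquivariant (ρ.prod (MonAct.trivial A (unop T))) aZ h' := by
      unfold MonAct.IsEquivariant
      rw [← cancel_mono j, Category.assoc, hh', φ.2, Category.assoc, hj, ← MonoidalCategory.whiskerLeft_comp_assoc, hh']
    refine ⟨⟨h', heq⟩, Subtype.ext hh', (cancel_mono j).mp ?_⟩
    show (lift (toUnit (unop T) ≫ e) (𝟙 (unop T)) ≫ h') ≫ j = z ≫ j
    rw [Category.assoc, hh', hz']

end Groth.Agent.H23.EqvPullback
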