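import Groth.Agent.H23.ExtCapAux
import Groth.Agent.H23.FlatPushPull
import Groth.Agent.H23.CrossProd
import Groth.Agent.FibDim.RelDim

/-! An operational class capped with an exterior product, pushed to the second factor. -/

set_option autoImplicit false
set_option linter.style.haveILetI false
set_option backward.isDefEq.respectTransparency false
set_option backward.isDefEq.respectTransparency.types false

universe u

open CategoryTheory CategoryTheory.Limits AlgebraicGeometry IsLocalRing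

noncomputable section

namespace Groth.Agent.H23.ExtCap

open Groth.Agent

variable {K : Type u} [Field K] {X Y P : Scheme.{u}} {pX : X ⟶ Spec (.of K)} {pY : Y ⟶ Spec (.of K)}
  [IsProper pX] [LocallyOfFiniteType pY] {q₁ : P ⟶ X} {q₂ : P ⟶ Y} (hP : IsPullback q₁ q₂ pX pY)
  {δX : X → ℤ} {δY : Y → ℤ} {δP : P → ℤ} (hX : Cyc.IsSetup X δX) (hY : Cyc.IsSetup Y δY) (hPδ : Cyc.IsSetup P δP)
  (hδX : Cyc.DeltaCompat pX δX (fun _ => 0)) (hδY : Cyc.DeltaCompat pY δY (fun _ => 0))
  (hδP : Cyc.DeltaCompat q₁ δP δX)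

/-- The exterior product function. -/
def cross (q₁ : P ⟶ X) (q₂ : P ⟶ Y) (δX : X → ℤ) (δY : Y → ℤ) (δP : P → ℤ) (u : X → ℤ) (v : Y → ℤ) (t : P) : ℤ :=
  if δP t = δX (q₁ t) + δY (q₂ t) then
    u (q₁ t) * v (q₂ t) *
      ((Module.length (P.presheaf.stalk t) (P.presheaf.stalk t ⧸
        (Ideal.map (q₁.stalkMap t).hom (IsLocalRing.maximalIdeal (X.presheaf.stalk (q₁ t))) ⊔
          Ideal.map (q₂.stalkMap t).hom (IsLocalRing.maximalIdeal (Y.presheaf.stalk (q₂ t)))))).toNat : ℤ)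
  else 0

include hP in
omit [IsProper pX] in
theorem lft_fst : LocallyOfFiniteType q₁ := MorphismProperty.of_isPullback hP.flip ‹LocallyOfFiniteType pY›

include hP in
omit [LocallyOfFiniteType pY] in
theorem isProper_snd : IsProper q₂ := MorphismProperty.of_isPullback hP ‹IsProper pX›

/-- The product as a test scheme. -/
abbrev sP : Bivar.OSq X δX := ⟨P, q₁, lft_fst hP, δP, hδP⟩

include hP hδX hδY hδP in
theorem deltaCompat_snd : Cyc.DeltaCompat q₂ δP δY := by
  haveI := lft_fst hP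
  haveI := isProper_snd hP
  have e : δP = fun t => δY (q₂ t) + FibDim.rd q₂ t := funext fun t => by
    rw [CycLib.deltaCompat_eq (q₁ ≫ pX) (Bivar.deltaCompat_comp q₁ pX δP δX _ hδP hδX) t,
      CycLib.deltaCompat_eq pY hδY, zero_add, zero_add,
      show FibDim.rd (q₁ ≫ pX) t = FibDim.rd (q₂ ≫ pY) t from
        congrArg (fun φ : P ⟶ Spec (.of K) => FibDim.rd φ t) hP.w, FibDim.rd_comp q₂ pY]
    push_cast
    rfl
  rw [e]
  exact ChowDesc.deltaCompat_rd q₂ δY

include hP hX hY hPδ hδX hδY hδP in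
/-- Effective cycles on the second factor. -/
theorem cap_nonneg {p : ℤ} (c : Bivar.OpCl p X δX) {a : ℤ} {r : ℕ} {u : AlgebraicCycle X ℤ}
    (hu : u ∈ Cyc.Zk X δX a) {β : AlgebraicCycle X ℤ} (hβ : β ∈ Cyc.Zk X δX (a - p))
    (hcβ : c.cap a (ChowOps.cl u hu) = ChowOps.cl β hβ) {v : AlgebraicCycle Y ℤ} (hv : v ∈ Cyc.Zk Y δY (r : ℤ))
    (hv0 : ∀ y, 0 ≤ v y) {ζ : AlgebraicCycle P ℤ} (hζm : ζ ∈ Cyc.Zk P δP (a + r))
    (hζ : ∀ t, ζ t = cross q₁ q₂ δX δY δP ⇑u ⇑v t) :
    ∃ H : ChowOps.deg pX δX β • v ∈ Cyc.Zk Y δY (a + r - p),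
      (haveI := isProper_snd hP
       PushClass.mapCH q₂ hPδ hY (deltaCompat_snd hP hδX hδY hδP) (a + r - p))
          (c.op (sP hP hδP) (a + r) (ChowOps.cl ζ hζm)) = ChowOps.cl (ChowOps.deg pX δX β • v) H := by
  classical
  haveI := isProper_snd hP
  haveI := lft_fst hP
  haveI := hX.1
  haveI := hY.1
  haveI := hPδ.1
  haveI : Subsingleton ↥(Spec (CommRingCat.of K)) := FibDim.subsingleton_spec_field K
  -- the pieces
  let J : Type u := Σ η : ↥Y, Fin (v η).toNat
  have hJ : ∀ j : J, v j.1 ≠ 0 := fun j e => by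
    have h : (v j.1).toNat ≠ 0 := (Fin.pos j.2).ne'
    exact h (by rw [e]; rfl)
  have hJr : ∀ j : J, δY j.1 = r := fun j => by_contra fun h => hJ j (hv _ h)
  choose W hWint i hic hiη hir using fun j : J => CycLib.exists_closure_point (j.1 : Y)
  haveI : ∀ j, IsClosedImmersion (i j) := hic
  haveI : ∀ j, IsIntegral (W j) := hWint
  have hlf : LocallyFinite fun j : J => Set.range (i j) := fun x => by
    obtain ⟨U, hU, hxU, -⟩ := exists_isAffineOpen_mem_and_subset (x := x) (U := ⊤) trivial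
    refine ⟨U, U.2.mem_nhds hxU, ((CycLib.finite_support_inter_affine v hU).biUnion
      fun η _ => Set.finite_range (Sigma.mk (β := fun η : ↥Y => Fin (v η).toNat) η)).subset fun j hj => ?_⟩
    obtain ⟨y, hy, hyU⟩ := hj
    replace hy : y ∈ Set.range (i j) := hy
    rw [hir] at hy
    exact Set.mem_biUnion (x := j.1) ⟨(specializes_iff_mem_closure.2 hy).mem_open U.2 hyU, hJ j⟩ ⟨j.2, rfl⟩
  let Z : Scheme.{u} := ∐ W
  let h : Z ⟶ Y := Sigma.desc i
  haveI : IsProper h := PiecesProper.isProper_desc i hlf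
  have hι : ∀ j y, h (Sigma.ι W j y) = i j y := fun j y => by
    show (Sigma.ι W j ≫ h) y = _
    rw [Sigma.ι_desc]
  have hle : ∀ j y, δY (i j y) ≤ r ∧ (δY (i j y) = r → y = genericPoint (W j)) := fun j y => by
    have hs : (j.1 : Y) ⤳ i j y := specializes_iff_mem_closure.2 (hir j ▸ Set.mem_range_self y)
    refine ⟨hJr j ▸ CycLib.delta_le hY.2.2 hs, fun e => (i j).isEmbedding.injective ?_⟩
    rw [hiη, CycLib.eq_of_delta_le hY.2.2 hs (le_of_eq ((hJr j).trans e.symm))]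
  have hsurh : ∀ z, Function.Surjective (h.residueFieldMap z).hom := fun z => by
    obtain ⟨j, y, rfl⟩ := PiecesProper.exists_eq z
    intro b
    have hb : Function.Bijective ((Sigma.ι W j ≫ h).residueFieldMap y).hom := by
      rw [Sigma.ι_desc]
      exact CycLib.residueFieldMap_bijective (i j) _
    rw [Scheme.residueFieldMap_comp] at hb
    obtain ⟨z, hz⟩ := hb.2 ((Sigma.ι W j).residueFieldMap _ b)
    exact ⟨z, ((Sigma.ι W j).residueFieldMap _).hom.injective hz⟩
  let δZ : Z → ℤ := fun z => δY (h z)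
  have hδh : Cyc.DeltaCompat h δZ δY := by
    have e : δZ = fun z => δY (h z) + FibDim.rd h z := funext fun z => by
      rw [CycLib.rd_eq_zero_of_finite h z (RingHom.Finite.of_surjective _ (hsurh z)), Nat.cast_zero, add_zero]
    rw [e]
    exact ChowDesc.deltaCompat_rd h δY
  let pZ : Z ⟶ Spec (.of K) := h ≫ pY
  haveI : LocallyOfFiniteType pZ := inferInstance
  have hδZ : Cyc.DeltaCompat pZ δZ (fun _ => 0) := Bivar.deltaCompat_comp h pY δZ δY _ hδh hδY
  have hrelZ : Cyc.HasRelDim pZ r := (CycLib.hasRelDim_iff pZ).2 fun z hz => by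
    obtain ⟨j, y, rfl⟩ := PiecesProper.exists_eq z
    have e : Sigma.ι W j (genericPoint (W j)) = Sigma.ι W j y := (FlatShift.fibMax_iff _ _).1 hz _
      (Subsingleton.elim _ _) ((genericPoint_specializes y).map (Sigma.ι W j).continuous)
    have h2 := CycLib.deltaCompat_eq pZ hδZ (Sigma.ι W j y)
    have h3 : δZ (Sigma.ι W j y) = r := by
      show δY (h (Sigma.ι W j y)) = r
      rw [← e, hι, hiη, hJr]
    rw [h3, zero_add] at h2
    exact_mod_cast h2.symm
  haveI : Flat pZ := AlgStLib.OnePt.flat_of_field _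
  have hZs : Cyc.IsSetup Z δZ := SetupLFT.isSetup h hY hδh
  haveI := hZs.1
  -- the pull back
  let WX : Scheme.{u} := pullback pX pZ
  let pr : WX ⟶ X := pullback.fst pX pZ
  let prZ : WX ⟶ Z := pullback.snd pX pZ
  let δW : WX → ℤ := fun w => δX (pr w) + FibDim.rd pr w
  let g : WX ⟶ P := hP.lift pr (prZ ≫ h) (by rw [Category.assoc]; exact pullback.condition)
  have hg₁ : g ≫ q₁ = pr := hP.lift_fst _ _ _
  have hg₂ : g ≫ q₂ = prZ ≫ h := hP.lift_snd _ _ _
  have sqg : IsPullback g prZ q₂ h := IsPullback.of_right (h₁₂ := q₁) (h₂₂ := pY)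
    (by rw [hg₁]; exact IsPullback.of_hasPullback pX pZ) hg₂ hP
  haveI : IsProper g := MorphismProperty.of_isPullback sqg.flip ‹IsProper h›
  haveI : IsProper prZ := MorphismProperty.of_isPullback (IsPullback.of_hasPullback pX pZ) ‹IsProper pX›
  let tW : Bivar.OSq X δX := ⟨WX, pr, inferInstance, δW, ChowDesc.deltaCompat_rd pr δX⟩
  have hWs : Cyc.IsSetup WX δW := ChowDesc.isSetup_osq hX tW
  haveI := hWs.1
  have hδg : Cyc.DeltaCompat g δW δP := ChowDesc.deltaCompat_hom (s := sP hP hδP) (t := tW) g hg₁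
  have hrel : Cyc.HasRelDim pr r := FibDim.hasRelDim_baseChange (IsPullback.of_hasPullback pX pZ).flip hrelZ
  have hshift : FlatShift.HasShift pr δW δX r :=
    FlatShift.hasShift_of_hasRelDim pr hrel (ChowDesc.deltaCompat_rd pr δX)
  let φ : ∀ j, (pullback q₂ (i j) : Scheme.{u}) ⟶ P := fun j => pullback.fst q₂ (i j)
  let o : ∀ j, (pullback q₂ (i j) : Scheme.{u}) ⟶ WX := fun j =>
    sqg.lift (φ j) (pullback.snd q₂ (i j) ≫ Sigma.ι W j)
      (by rw [Category.assoc, Sigma.ι_desc]; exact pullback.condition)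
  have ho₁ : ∀ j, o j ≫ g = φ j := fun j => sqg.lift_fst _ _ _
  have ho₂ : ∀ j, o j ≫ prZ = pullback.snd q₂ (i j) ≫ Sigma.ι W j := fun j => sqg.lift_snd _ _ _
  have sqo : ∀ j, IsPullback (pullback.snd q₂ (i j)) (o j) (Sigma.ι W j) prZ := fun j =>
    IsPullback.of_bot (v₂₁ := g) (v₂₂ := h)
      (by rw [ho₁, Sigma.ι_desc]; exact (IsPullback.of_hasPullback q₂ (i j)).flip) (ho₂ j).symm sqg.flip
  haveI : ∀ j, IsOpenImmersion (o j) := fun j =>
    MorphismProperty.of_isPullback (sqo j) (inferInstance : IsOpenImmersion (Sigma.ι W j))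
  have hcov : ∀ w : WX, ∃ j w', o j w' = w := fun w => by
    obtain ⟨j, y, hy⟩ := PiecesProper.exists_eq (prZ w)
    obtain ⟨z₀, -, hz₀⟩ := Scheme.Pullback.exists_preimage_pullback (f := Sigma.ι W j) (g := prZ) y w hy
    refine ⟨j, (sqo j).isoPullback.inv z₀, ?_⟩
    show ((sqo j).isoPullback.inv ≫ o j) z₀ = w
    rw [(sqo j).isoPullback_inv_snd, hz₀]
  have hog : ∀ j w, g (o j w) = φ j w := fun j w => congrArg (fun e : _ ⟶ P => e w) (ho₁ j)
  have hgpr : ∀ w, pr w = q₁ (g w) := fun w => congrArg (fun e : WX ⟶ X => e w) hg₁.symm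
  have hφ₂ : ∀ j w, q₂ (φ j w) = i j (pullback.snd q₂ (i j) w) := fun j w => GysinPb.apply_fst_eq q₂ (i j) w
  have hsurg : ∀ w, Function.Surjective (g.residueFieldMap w).hom := fun w => by
    obtain ⟨j, w', rfl⟩ := hcov w
    intro b
    have hb : Function.Bijective ((o j ≫ g).residueFieldMap w').hom := by
      rw [ho₁]
      exact CycLib.residueFieldMap_bijective (φ j) _
    rw [Scheme.residueFieldMap_comp] at hb
    obtain ⟨z, hz⟩ := hb.2 ((o j).residueFieldMap _ b)
    exact ⟨z, ((o j).residueFieldMap _).hom.injective hz⟩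
  have hδWg : ∀ w, δW w = δP (g w) := fun w => CycLib.delta_eq_of_surjective g hδg (hsurg w)
  have hcoef : ∀ w, (AlgebraicCycle.mapCoeff g δW δP w : ℤ) = 1 := fun w => by
    rw [AlgebraicCycle.mapCoeff, if_pos (hδWg w), CycLib.residueDegree_of_surjective g (hsurg w), Nat.cast_one]
  have hprod : ∀ t, δP t ≤ δX (q₁ t) + δY (q₂ t) := fun t =>
    (CrossProd.delta_prod q₁ q₂ pX pY hP hδX hδY (Bivar.deltaCompat_comp q₁ pX δP δX _ hδP hδX) t).1
  let α₁ : AlgebraicCycle tW.Y ℤ := FlatClass.pullCycle hshift hWs.2.2 u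
  have hα₁ : α₁ ∈ Cyc.Zk tW.Y tW.δ (a + r) := FlatClass.pullCycle_mem hshift hWs.2.2 hu rfl
  have hmapα : AlgebraicCycle.map g δW δP α₁ = ζ := by
    refine Function.locallyFinsuppWithin.ext fun t => ?_
    rw [CycLib.map_apply', hζ]
    simp only [hcoef, mul_one]
    set L := ((Module.length (P.presheaf.stalk t) (P.presheaf.stalk t ⧸
      (Ideal.map (q₁.stalkMap t).hom (IsLocalRing.maximalIdeal (X.presheaf.stalk (q₁ t))) ⊔
        Ideal.map (q₂.stalkMap t).hom (IsLocalRing.maximalIdeal (Y.presheaf.stalk (q₂ t)))))).toNat : ℤ) with hL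
    have key : ∀ j w', φ j w' = t → α₁ (o j w') ≠ 0 →
        (j.1 : Y) = q₂ t ∧ δP t = δX (q₁ t) + δY (q₂ t) ∧ α₁ (o j w') = u (q₁ t) * L := by
      intro j w' et hne
      subst et
      change Cyc.pullFun pr δW δX (r : ℤ) ⇑u (o j w') ≠ 0 at hne
      rw [Cyc.pullFun] at hne
      split_ifs at hne with hd
      swap
      · exact absurd rfl hne
      have hd' : δP (φ j w') = δX (q₁ (φ j w')) + r := by rw [← hog, ← hδWg, ← hgpr, hd]
      obtain ⟨hl, hgen⟩ := hle j (pullback.snd q₂ (i j) w')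
      have h5 := hprod (φ j w')
      rw [hφ₂] at h5
      have hr' : δY (i j (pullback.snd q₂ (i j) w')) = r := by omega
      have hw := hgen hr'
      refine ⟨by rw [hφ₂, hw, hiη], by rw [hd', hφ₂, hr'], ?_⟩
      show Cyc.pullFun pr δW δX (r : ℤ) ⇑u (o j w') = _
      rw [Cyc.pullFun, if_pos hd]
      refine congrArg₂ (fun (m : ℤ) (n : ℕ∞) => m * (n.toNat : ℤ)) (by rw [hgpr, hog]) ?_
      show FiniteFibreSum.fibreLen pr (o j w') = _
      rw [← fibreLen_open, fibreLen_congr (g := φ j ≫ q₁) (by rw [← hg₁, ← Category.assoc, ho₁]),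
        fibreLen_fst q₁ q₂ (i j) w' hw]
    by_cases hmain : δP t = δX (q₁ t) + δY (q₂ t) ∧ u (q₁ t) * v (q₂ t) ≠ 0
    swap
    · have h0 : cross q₁ q₂ δX δY δP ⇑u ⇑v t = 0 := by
        rw [cross]
        split_ifs with hc
        · rw [not_ne_iff.1 (fun e => hmain ⟨hc, e⟩), zero_mul]
        · rfl
      rw [h0]
      refine finsum_mem_eq_zero_of_forall_eq_zero fun w hw => ?_
      obtain ⟨j, w', rfl⟩ := hcov w
      by_contra hne
      obtain ⟨hη, hd, e⟩ := key j w' ((hog j w').symm.trans hw) hne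
      exact hmain ⟨hd, mul_ne_zero (left_ne_zero_of_mul (e ▸ hne)) (hη ▸ hJ j)⟩
    obtain ⟨hd, huv⟩ := hmain
    have hvr : δY (q₂ t) = r := by_contra fun h' => huv (by rw [hv _ h', mul_zero])
    have hpre : ∀ k : Fin (v (q₂ t)).toNat, ∃ w' : (pullback q₂ (i ⟨q₂ t, k⟩) : Scheme.{u}), φ _ w' = t := fun k => by
      obtain ⟨w', hw', -⟩ := Scheme.Pullback.exists_preimage_pullback (f := q₂) (g := i ⟨q₂ t, k⟩) t
        (genericPoint _) (hiη ⟨q₂ t, k⟩).symm
      exact ⟨w', hw'⟩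
    choose wp hwp using hpre
    let pt : Fin (v (q₂ t)).toNat → WX := fun k => o ⟨q₂ t, k⟩ (wp k)
    have hpt_inj : Function.Injective pt := fun k k' e => by
      have e2 : prZ (pt k) = prZ (pt k') := congrArg prZ e
      have e3 : ∀ j w', prZ (o j w') = Sigma.ι W j (pullback.snd q₂ (i j) w') := fun j w' =>
        congrArg (fun e : _ ⟶ Z => e w') (ho₂ j)
      simp only [pt, e3] at e2
      obtain ⟨ej, -⟩ := Sigma.mk.inj_iff.1 ((sigmaι_eq_iff _ _ _ _ _).1 e2)
      exact eq_of_heq (Sigma.mk.inj_iff.1 ej).2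
    have hval : ∀ k, α₁ (pt k) = u (q₁ t) * L := fun k => by
      show Cyc.pullFun pr δW δX (r : ℤ) ⇑u (pt k) = _
      have h1 : pr (pt k) = q₁ t := by rw [hgpr, hog, hwp]
      have hd' : δW (pt k) = δX (pr (pt k)) + r := by rw [hδWg, hog, hwp, hd, h1, hvr]
      rw [Cyc.pullFun, if_pos hd']
      have hsnd : pullback.snd q₂ (i ⟨q₂ t, k⟩) (wp k) = genericPoint (W ⟨q₂ t, k⟩) :=
        (i _).isEmbedding.injective (by rw [← hφ₂, hwp, hiη])
      have e := fibreLen_fst q₁ q₂ (i ⟨q₂ t, k⟩) (wp k) hsnd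
      rw [← fibreLen_congr (f := o ⟨q₂ t, k⟩ ≫ pr) (by rw [← hg₁, ← Category.assoc, ho₁]), fibreLen_open] at e
      refine congrArg₂ (fun (m : ℤ) (n : ℕ∞) => m * (n.toNat : ℤ)) (congrArg (⇑u) h1) (e.trans ?_)
      have hh : ∀ s, s = t → Module.length (P.presheaf.stalk s) (P.presheaf.stalk s ⧸
          ((maximalIdeal (X.presheaf.stalk (q₁ s))).map (q₁.stalkMap s).hom ⊔
            (maximalIdeal (Y.presheaf.stalk (q₂ s))).map (q₂.stalkMap s).hom)) =
          Module.length (P.presheaf.stalk t) (P.presheaf.stalk t ⧸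
          ((maximalIdeal (X.presheaf.stalk (q₁ t))).map (q₁.stalkMap t).hom ⊔
            (maximalIdeal (Y.presheaf.stalk (q₂ t))).map (q₂.stalkMap t).hom)) := by
        rintro _ rfl; rfl
      exact hh _ (hwp k)
    rw [finsum_mem_eq_sum_of_inter_support_eq _ (t := Finset.univ.image pt) ?_, Finset.sum_image hpt_inj.injOn]
    · rw [Finset.sum_congr rfl fun k _ => hval k]
      simp only [Finset.sum_const, Finset.card_univ, Fintype.card_fin, nsmul_eq_mul]
      rw [cross, if_pos hd, ← hL]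
      rw [Int.natCast_toNat_eq_self.2 (hv0 _)]
      ring
    ext w
    simp only [Set.mem_inter_iff, Set.mem_preimage, Set.mem_singleton_iff, Function.mem_support, Finset.coe_image,
      Finset.coe_univ, Set.image_univ, Set.mem_range]
    constructor
    swap
    · rintro ⟨⟨k, hk⟩, hne⟩
      exact ⟨by rw [← hk, hog, hwp], hne⟩
    rintro ⟨hw, hne⟩
    refine ⟨?_, hne⟩
    obtain ⟨j, w', rfl⟩ := hcov w
    have et : φ j w' = t := (hog j w').symm.trans hw
    obtain ⟨hη, -, -⟩ := key j w' et hne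
    obtain ⟨η, k⟩ := j
    dsimp only at hη
    subst hη
    refine ⟨k, congrArg (o _) ((φ _).isEmbedding.injective (by rw [hwp, et]))⟩
  -- the compatibilities
  obtain ⟨β₀, hβ₀, ec0, hnext⟩ := c.pull (Bivar.OSq.self X δX) tW pr r hrel (Category.comp_id pr) a u hu
  obtain ⟨β₁, hβ₁, eβ₁, ec1⟩ := hnext α₁ rfl hα₁
  obtain ⟨β₂, hβ₂, ec2, ec3⟩ := c.push (sP hP hδP) tW g hg₁ (a + r) α₁ hα₁
  have hD : ChowOps.deg pX δX β₀ = ChowOps.deg pX δX β := deg_congr pX hX hδX (ec0.symm.trans hcβ)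
  have hδprZ : Cyc.DeltaCompat prZ δW δZ := by
    have e : δW = fun w => δZ (prZ w) + FibDim.rd prZ w := funext fun w => by
      rw [CycLib.deltaCompat_eq (pr ≫ pX)
          (Bivar.deltaCompat_comp pr pX δW δX _ (ChowDesc.deltaCompat_rd pr δX) hδX) w,
        CycLib.deltaCompat_eq pZ hδZ, zero_add, zero_add,
        show FibDim.rd (pr ≫ pX) w = FibDim.rd (prZ ≫ pZ) w from
          congrArg (fun e : WX ⟶ Spec (.of K) => FibDim.rd e w) pullback.condition, FibDim.rd_comp prZ pZ]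
      push_cast
      rfl
    rw [e]
    exact ChowDesc.deltaCompat_rd prZ δZ
  have hbc := FlatShift.map_pullFun_baseChange (IsPullback.of_hasPullback pX pZ)
    (FlatShift.hasShift_of_hasRelDim pZ hrelZ hδZ) hZs.2.2 hδX hδprZ β₀ β₁ eβ₁
  have hfin : AlgebraicCycle.map q₂ δP δY (AlgebraicCycle.map g δW δP β₁) = ChowOps.deg pX δX β • v := by
    rw [CycLib.map_map g q₂ hδg (deltaCompat_snd hP hδX hδY hδP), CycLib.map_congr hg₂,
      ← CycLib.map_map prZ h hδprZ hδh]
    refine Function.locallyFinsuppWithin.ext fun y => ?_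
    rw [CycLib.map_apply']
    have hterm : ∀ z, AlgebraicCycle.map prZ δW δZ β₁ z * (AlgebraicCycle.mapCoeff h δZ δY z : ℤ) =
        if δY (h z) = r then ChowOps.deg pX δX β else 0 := fun z => by
      rw [← congrFun hbc z, AlgebraicCycle.mapCoeff, if_pos rfl,
        CycLib.residueDegree_of_surjective h (hsurh z), Nat.cast_one, mul_one, Cyc.pullFun]
      split_ifs with h1 h2 h2
      · obtain ⟨j, y', rfl⟩ := PiecesProper.exists_eq z
        obtain rfl := (hle j y').2 (by rwa [← hι])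
        rw [show AlgebraicCycle.map pX δX (fun _ => (0 : ℤ)) β₀ (pZ (Sigma.ι W j (genericPoint (W j)))) =
          ChowOps.deg pX δX β₀ from congrArg _ (Subsingleton.elim _ _)]
        rw [hD]
        have hf : IsField (Z.presheaf.stalk (Sigma.ι W j (genericPoint (W j)))) :=
          MulEquiv.isField (Field.toIsField (W j).functionField)
            (asIso ((Sigma.ι W j).stalkMap (genericPoint (W j)))).commRingCatIsoToRingEquiv.toMulEquiv
        have h4 : FiniteFibreSum.fibreLen pZ (Sigma.ι W j (genericPoint (W j))) = 1 := fibreLen_of_isField _ _ hf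
        unfold FiniteFibreSum.fibreLen at h4
        rw [h4]
        simp
      · exact absurd (by change δY (h z) = (0 : ℤ) + r at h1; omega) h2
      · exact absurd (by change δY (h z) = (0 : ℤ) + r; omega) h1
      · rfl
    simp only [hterm]
    show _ = ChowOps.deg pX δX β * v y
    by_cases hy : v y = 0
    · rw [hy, mul_zero]
      refine finsum_mem_eq_zero_of_forall_eq_zero fun z hz => if_neg fun h1 => ?_
      obtain ⟨j, y', rfl⟩ := PiecesProper.exists_eq z
      obtain rfl := (hle j y').2 (by rwa [← hι])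
      exact hJ j (by rw [← hiη j, ← hι, show h (Sigma.ι W j (genericPoint (W j))) = y from hz]; exact hy)
    let pt : Fin (v y).toNat → Z := fun k => Sigma.ι W ⟨y, k⟩ (genericPoint _)
    have hpt : ∀ k, h (pt k) = y := fun k => (hι _ _).trans (hiη _)
    have hpt_inj : Function.Injective pt := fun k k' e => by
      obtain ⟨ej, -⟩ := Sigma.mk.inj_iff.1 ((sigmaι_eq_iff _ _ _ _ _).1 e)
      exact eq_of_heq (Sigma.mk.inj_iff.1 ej).2
    have hyr : δY y = r := by_contra fun h' => hy (hv _ h')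
    rw [finsum_mem_eq_sum_of_inter_support_eq _ (t := Finset.univ.image pt) ?_, Finset.sum_image hpt_inj.injOn]
    · simp only [hpt, hyr, if_true, Finset.sum_const, Finset.card_univ, Fintype.card_fin, nsmul_eq_mul]
      rw [Int.natCast_toNat_eq_self.2 (hv0 _)]
      ring
    ext z
    simp only [Set.mem_inter_iff, Set.mem_preimage, Set.mem_singleton_iff, Function.mem_support, Finset.coe_image,
      Finset.coe_univ, Set.image_univ, Set.mem_range]
    constructor
    swap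
    · rintro ⟨⟨k, hk⟩, hne⟩
      exact ⟨by rw [← hk]; exact hpt k, hne⟩
    rintro ⟨hz, hne⟩
    refine ⟨?_, hne⟩
    obtain ⟨j, y', rfl⟩ := PiecesProper.exists_eq z
    have h1 : δY (h (Sigma.ι W j y')) = r := by_contra fun h' => hne (if_neg h')
    obtain rfl := (hle j y').2 (by rwa [← hι])
    obtain ⟨η, k⟩ := j
    have : η = y := ((hiη ⟨η, k⟩).symm.trans (hι _ _).symm).trans hz
    subst this
    exact ⟨k, rfl⟩
  have H : ChowOps.deg pX δX β • v ∈ Cyc.Zk Y δY (a + r - p) :=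
    hfin ▸ Bivar.cycMap_mem_Zk q₂ δP δY _ (Bivar.cycMap_mem_Zk g δW δP _ hβ₁)
  refine ⟨H, ?_⟩
  rw [← Bivar.cl_congr hmapα (Bivar.cycMap_mem_Zk g δW δP _ hα₁) hζm, ec3,
    ← PushClass.mapCH_cl g hWs hPδ hδg hβ₂, ← ec2, ec1, PushClass.mapCH_cl g hWs hPδ hδg hβ₁,
    PushClass.mapCH_cl q₂ hPδ hY]
  exact Bivar.cl_congr hfin _ _

omit [IsProper pX] [LocallyOfFiniteType pY] in
/-- The exterior product vanishes where a larger one does. -/
theorem cross_eq_zero {u : X → ℤ} {v v' : Y → ℤ} (hv : ∀ y, v y = 0 → v' y = 0) {t : P}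
    (h : cross q₁ q₂ δX δY δP u v t = 0) : cross q₁ q₂ δX δY δP u v' t = 0 := by
  rw [cross] at h ⊢
  split_ifs at h ⊢ with hc
  · rcases mul_eq_zero.1 h with h1 | h1
    · rcases mul_eq_zero.1 h1 with h2 | h2
      · rw [h2, zero_mul, zero_mul]
      · rw [hv _ h2, mul_zero, zero_mul]
    · rw [h1, mul_zero]
  · rfl

omit [IsProper pX] [LocallyOfFiniteType pY] in
theorem cross_sub {u : X → ℤ} {v v' : Y → ℤ} (t : P) :
    cross q₁ q₂ δX δY δP u (fun y => v y - v' y) t =
      cross q₁ q₂ δX δY δP u v t - cross q₁ q₂ δX δY δP u v' t := by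
  simp only [cross]
  split_ifs <;> ring

include hP hX hY hPδ hδX hδY hδP in
/-- An operational class capped with an exterior product, pushed to the second factor. -/
theorem cap_cross {p m : ℤ} (c : Bivar.OpCl p X δX) {a : ℤ} {u : AlgebraicCycle X ℤ}
    (hu : u ∈ Cyc.Zk X δX a) {β : AlgebraicCycle X ℤ} (hβ : β ∈ Cyc.Zk X δX (a - p))
    (hcβ : c.cap a (ChowOps.cl u hu) = ChowOps.cl β hβ) {v : AlgebraicCycle Y ℤ} (hv : v ∈ Cyc.Zk Y δY (m - a))
    {ζ : AlgebraicCycle P ℤ} (hζm : ζ ∈ Cyc.Zk P δP m)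
    (hζ : ∀ t, ζ t = cross q₁ q₂ δX δY δP ⇑u ⇑v t) :
    ∃ H : ChowOps.deg pX δX β • v ∈ Cyc.Zk Y δY (m - p),
      (haveI := isProper_snd hP
       PushClass.mapCH q₂ hPδ hY (deltaCompat_snd hP hδX hδY hδP) (m - p))
          (c.op (sP hP hδP) m (ChowOps.cl ζ hζm)) = ChowOps.cl (ChowOps.deg pX δX β • v) H := by
  haveI := isProper_snd hP
  by_cases hv0 : ∀ y, v y = 0
  · have e1 : ChowOps.deg pX δX β • v = 0 := by
      ext y
      show ChowOps.deg pX δX β * v y = 0
      rw [hv0, mul_zero]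
    have e2 : ζ = 0 := by
      ext t
      rw [hζ]
      simp only [cross, hv0, mul_zero, zero_mul, ite_self]
      rfl
    refine ⟨e1 ▸ (ChowOps.zk Y δY (m - p)).zero_mem, ?_⟩
    rw [Bivar.cl_congr e2 hζm ((ChowOps.zk P δP m).zero_mem), Bivar.cl_zero, map_zero, map_zero]
    exact (Bivar.cl_zero.symm.trans (Bivar.cl_congr e1.symm ((ChowOps.zk Y δY (m - p)).zero_mem) _))
  obtain ⟨y, hy⟩ := not_forall.1 hv0
  have hy' : δY y = m - a := by_contra fun h => hy (hv y h)
  obtain ⟨r, hr⟩ : ∃ r : ℕ, (r : ℤ) = m - a := ⟨FibDim.rd pY y, by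
    rw [← hy', CycLib.deltaCompat_eq pY hδY y, zero_add]⟩
  obtain rfl : m = a + r := by omega
  rw [show a + (r : ℤ) - a = r by ring] at hv
  let vp := subCycle v (fun y => max (v y) 0) fun y h => by simp [h]
  let vn := subCycle v (fun y => max (-v y) 0) fun y h => by simp [h]
  let ζp := subCycle ζ (cross q₁ q₂ δX δY δP ⇑u ⇑vp) fun t h =>
    cross_eq_zero (v := ⇑v) (fun y h => by simp [vp, h]) ((hζ t).symm.trans h)
  let ζn := subCycle ζ (cross q₁ q₂ δX δY δP ⇑u ⇑vn) fun t h =>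
    cross_eq_zero (v := ⇑v) (fun y h => by simp [vn, h]) ((hζ t).symm.trans h)
  have hζp : ζp ∈ Cyc.Zk P δP (a + r) := subCycle_mem ζ _ _ hζm
  have hζn : ζn ∈ Cyc.Zk P δP (a + r) := subCycle_mem ζ _ _ hζm
  have evv : (fun y => vp y - vn y) = ⇑v := funext fun y => by
    show max (v y) 0 - max (-v y) 0 = v y
    omega
  obtain ⟨Hp, ep⟩ := cap_nonneg hP hX hY hPδ hδX hδY hδP c hu hβ hcβ (v := vp) (subCycle_mem v _ _ hv)
    (fun y => le_max_right _ _) hζp fun _ => rfl
  obtain ⟨Hn, en⟩ := cap_nonneg hP hX hY hPδ hδX hδY hδP c hu hβ hcβ (v := vn) (subCycle_mem v _ _ hv)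
    (fun y => le_max_right _ _) hζn fun _ => rfl
  have ez : ζ = ζp - ζn := by
    ext t
    show ζ t = cross q₁ q₂ δX δY δP ⇑u ⇑vp t - cross q₁ q₂ δX δY δP ⇑u ⇑vn t
    rw [← cross_sub, evv, hζ]
  have ev : ChowOps.deg pX δX β • v = ChowOps.deg pX δX β • vp - ChowOps.deg pX δX β • vn := by
    ext y
    show ChowOps.deg pX δX β * v y = ChowOps.deg pX δX β * vp y - ChowOps.deg pX δX β * vn y
    rw [← congrFun evv y]
    ring
  have H : ChowOps.deg pX δX β • v ∈ Cyc.Zk Y δY (a + r - p) :=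
    ev ▸ (ChowOps.zk Y δY (a + r - p)).sub_mem Hp Hn
  refine ⟨H, ?_⟩
  have hsub : ∀ {T : Scheme.{u}} {δ : T → ℤ} {k : ℤ} {x a b : AlgebraicCycle T ℤ} (hx : x ∈ Cyc.Zk T δ k)
      (ha : a ∈ Cyc.Zk T δ k) (hb : b ∈ Cyc.Zk T δ k), x = a - b →
      ChowOps.cl x hx = ChowOps.cl a ha - ChowOps.cl b hb := by
    rintro T δ k _ a b hx ha hb rfl
    exact map_sub (ChowOps.clHom T δ k) ⟨a, ha⟩ ⟨b, hb⟩
  rw [hsub hζm hζp hζn ez, map_sub, map_sub, ep, en, ← hsub H Hp Hn ev]

end Groth.Agent.H23.ExtCap
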