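import Groth.Agent.H23.RatEquivPull
import Groth.Agent.H23.FlatClass
import Groth.Agent.H23.GraphPull
import Groth.Agent.H23.CrossProd
import Groth.Agent.H23.ClEq
import Groth.Agent.H23.SetupLFT
import Groth.Agent.H23.GysinLib
import Groth.Agent.CycLib.P1Div
import Groth.Agent.CycLib.DivPushAll

/-!
# Exterior products preserve rational equivalence to zero
-/

set_option autoImplicit false
set_option linter.style.haveILetI false
set_option backward.isDefEq.respectTransparency.types false

universe u

open AlgebraicGeometry CategoryTheory CategoryTheory.Limits IsLocalRing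

namespace Groth.Agent.H23.RatExtProd

open Groth.Agent

/-- Length of a quotient of a quotient ring. -/
theorem length_quot_map {R S : Type u} [CommRing R] [CommRing S] (f : R →+* S) (hf : Function.Surjective f)
    (J : Ideal R) : Module.length S (S ⧸ J.map f) = Module.length R (R ⧸ J ⊔ RingHom.ker f) := by
  letI := f.toAlgebra
  rw [← Module.length_eq_of_surjective (S := R) (R := S) (M := S ⧸ J.map f) hf]
  let g : R →ₗ[R] S ⧸ J.map f := (Ideal.Quotient.mkₐ R (J.map f)).toLinearMap.comp (Algebra.linearMap R S)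
  have hg : Function.Surjective g := fun z => by
    obtain ⟨y, rfl⟩ := Ideal.Quotient.mk_surjective z
    obtain ⟨x, rfl⟩ := hf y
    exact ⟨x, rfl⟩
  have hk : LinearMap.ker g = J ⊔ RingHom.ker f := by
    rw [RingHom.ker_eq_comap_bot, ← Ideal.comap_map_of_surjective f hf J]
    ext x
    exact Ideal.Quotient.eq_zero_iff_mem
  exact ((Submodule.quotEquivOfEq _ _ hk.symm).trans (g.quotKerEquivOfSurjective hg)).length_eq.symm

variable {K : Type u} [Field K] {X Y W : Scheme.{u}} {p : W ⟶ X} {q : W ⟶ Y} {gX : X ⟶ Spec (CommRingCat.of K)}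
  {gY : Y ⟶ Spec (CommRingCat.of K)} (h : IsPullback p q gX gY) [LocallyOfFiniteType gX] [LocallyOfFiniteType gY]
  [QuasiCompact gY] [IsSeparated gY] {δX : X → ℤ} {δY : Y → ℤ} {δ : W → ℤ} (hδX : Cyc.DeltaCompat gX δX (fun _ => 0))
  (hδY : Cyc.DeltaCompat gY δY (fun _ => 0)) (hδ : Cyc.DeltaCompat (p ≫ gX) δ (fun _ => 0))

include h hδX hδY hδ in
/-- The exterior product of a cycle rationally equivalent to zero with any cycle is rationally equivalent to zero. -/
theorem ratEquivZero {r s : ℤ} {α : AlgebraicCycle X ℤ} (h0 : Cyc.RatEquivZero δX r α) (β : AlgebraicCycle Y ℤ)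
    (hβ : β ∈ Cyc.Zk Y δY s) (γ : AlgebraicCycle W ℤ)
    (hγ : ∀ z, γ z = if δ z = δX (p z) + δY (q z) then α (p z) * β (q z) *
      ((Module.length (W.presheaf.stalk z) (W.presheaf.stalk z ⧸
        ((maximalIdeal (X.presheaf.stalk (p z))).map (p.stalkMap z).hom ⊔
          (maximalIdeal (Y.presheaf.stalk (q z))).map (q.stalkMap z).hom))).toNat : ℤ) else 0) :
    Cyc.RatEquivZero δ (r + s) γ := by
  classical
  have hS := CycLib.isSetup_spec_field K
  haveI : LocallyOfFiniteType p := MorphismProperty.of_isPullback h.flip ‹LocallyOfFiniteType gY›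
  have hXs := SetupLFT.isSetup gX hS hδX
  have hYs := SetupLFT.isSetup gY hS hδY
  have hWs := SetupLFT.isSetup (p ≫ gX) hS hδ
  haveI := hXs.1
  haveI := hYs.1
  haveI := hWs.1
  haveI : CompactSpace Y := QuasiCompact.compactSpace_of_compactSpace gY
  have hTfin : (Function.support ⇑β).Finite := by
    have := β.locallyFiniteSupport.finite_inter_support_of_isCompact (isCompact_univ (X := Y))
    rwa [Set.univ_inter] at this
  have hβs : ∀ y, β y ≠ 0 → δY y = s := fun y hy => by_contra fun hne => hy (hβ y hne)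
  have main : ∀ η, δY η = s → ∃ Q : AlgebraicCycle W ℤ, Cyc.RatEquivZero δ (r + s) Q ∧ ∀ z,
      Q z = if q z = η ∧ δ z = δX (p z) + δY (q z) then α (p z) *
        ((Module.length (W.presheaf.stalk z) (W.presheaf.stalk z ⧸
          ((maximalIdeal (X.presheaf.stalk (p z))).map (p.stalkMap z).hom ⊔
            (maximalIdeal (Y.presheaf.stalk (q z))).map (q.stalkMap z).hom))).toNat : ℤ) else 0 := by
    intro η hη
    let i := (IntMult.ptIdeal η).subschemeι
    haveI : IsIntegral (IntMult.ptIdeal η).subscheme := QCoh.isIntegral_closure_point η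
    let φ := pullback.fst q i
    have hq' : IsPullback (φ ≫ p) (pullback.snd q i) gX (i ≫ gY) :=
      (IsPullback.of_hasPullback q i).paste_horiz h
    haveI : Flat (i ≫ gY) := inferInstance
    haveI : Flat (φ ≫ p) := MorphismProperty.of_isPullback hq'.flip ‹Flat (i ≫ gY)›
    haveI : LocallyOfFiniteType (φ ≫ p) := inferInstance
    have hr0 : ∀ v, η ⤳ i v := fun v => specializes_iff_mem_closure.2
      (SkyPoint.range_ptIdeal η ▸ Set.mem_range_self v)
    have hgen : i (genericPoint _) = η := by
      obtain ⟨v, hv⟩ := (SkyPoint.range_ptIdeal η).ge (subset_closure rfl)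
      exact (((genericPoint_specializes v).map i.continuous).trans (specializes_of_eq hv)).antisymm (hr0 _) |>.eq
    have hrel0 : Cyc.HasRelDim (i ≫ gY) s.toNat := (CycLib.hasRelDim_iff (i ≫ gY)).2 fun v hv => by
      haveI : Subsingleton ↥(Spec (CommRingCat.of K)) := FibDim.subsingleton_spec_field K
      obtain rfl : genericPoint _ = v :=
        (FlatShift.fibMax_iff _ v).1 hv _ (Subsingleton.elim _ _) (genericPoint_specializes v)
      have e := CycLib.deltaCompat_eq gY hδY η
      rw [FibDim.rd_comp, FibDim.rd_eq_zero_of_quasiFinite i, hgen]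
      omega
    have hs0 : 0 ≤ s := by
      have e := CycLib.deltaCompat_eq gY hδY η
      omega
    have hrel := FibDim.hasRelDim_baseChange hq'.flip hrel0
    let δ' : ↥(pullback q i) → ℤ := fun w => δ (φ w)
    have hφ := GysinLib.deltaCompat_closedImmersion φ δ
    have hW's := SetupLFT.isSetup φ hWs hφ
    haveI := hW's.1
    have hcomp : Cyc.DeltaCompat (φ ≫ p) δ' δX := by
      have e : δ' = fun w => δX ((φ ≫ p) w) + (FibDim.rd (φ ≫ p) w : ℤ) := funext fun w => by
        show δ (φ w) = _
        rw [CycLib.deltaCompat_eq _ hδ, CycLib.deltaCompat_eq gX hδX, FibDim.rd_comp p gX,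
          FibDim.rd_comp φ p, FibDim.rd_eq_zero_of_quasiFinite φ, Scheme.Hom.comp_apply]
        push_cast
        ring
      rw [e]
      exact ChowDesc.deltaCompat_rd (φ ≫ p) δX
    have hshift : FlatShift.HasShift (φ ≫ p) δ' δX s := by
      have := FlatShift.hasShift_of_hasRelDim (φ ≫ p) hrel hcomp
      rwa [Int.toNat_of_nonneg hs0] at this
    let P := FlatClass.pullCycle hshift hW's.2.2 α
    have hP0 : Cyc.RatEquivZero δ' (r + s) P := DivPull.ratEquivZero_pull _ hshift hXs.2.2 hW's.2.2 h0 P rfl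
    refine ⟨AlgebraicCycle.map φ δ' δ P, CycLib.ratEquivZero_map φ hW's hWs hφ hP0, fun z => ?_⟩
    rw [CycLib.map_apply']
    by_cases hz : z ∈ Set.range φ
    swap
    · rw [if_neg, finsum_mem_eq_zero_of_forall_eq_zero (s := φ ⁻¹' {z}) fun w hw => absurd ⟨w, hw⟩ hz]
      rintro ⟨hqz, -⟩
      refine hz ?_
      obtain ⟨w, hw, -⟩ := Scheme.Pullback.exists_preimage_pullback (f := q) (g := i) z (genericPoint _)
        (hqz.trans hgen.symm)
      exact ⟨w, hw⟩
    obtain ⟨w, rfl⟩ := hz
    rw [show φ ⁻¹' {φ w} = {w} from Set.ext fun u => ⟨fun hu => φ.isEmbedding.injective hu, fun hu => congrArg _ hu⟩,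
      finsum_mem_singleton, AlgebraicCycle.mapCoeff, if_pos rfl, CycLib.residueDegree_preimmersion, Nat.cast_one,
      mul_one]
    show Cyc.pullFun (φ ≫ p) δ' δX s ⇑α w = _
    have hqw : q (φ w) = i (pullback.snd q i w) := GysinPb.apply_fst_eq q i w
    have hle := (CrossProd.delta_prod p q gX gY h hδX hδY hδ (φ w)).1
    by_cases hv : q (φ w) = η
    swap
    · rw [if_neg fun h' => hv h'.1, Cyc.pullFun, if_neg]
      intro hd
      have h2 := CycLib.delta_lt hYs.2.2 (hqw ▸ hr0 _) (Ne.symm hv)
      change δ (φ w) = δX (p (φ w)) + s at hd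
      omega
    rw [Cyc.pullFun]
    show (if δ (φ w) = δX (p (φ w)) + s then α (p (φ w)) * _ else 0) = _
    rw [show δY (q (φ w)) = s by rw [hv, hη]]
    by_cases hd : δ (φ w) = δX (p (φ w)) + s
    swap
    · rw [if_neg hd, if_neg fun h' => hd h'.2]
    rw [if_pos hd, if_pos ⟨hv, hd⟩]
    refine congrArg (fun n : ℕ∞ => α (p (φ w)) * (n.toNat : ℤ)) ?_
    rw [Scheme.Hom.stalkMap_comp]
    show Module.length _ (_ ⧸ Ideal.map ((φ.stalkMap w).hom.comp (p.stalkMap (φ w)).hom)
      (maximalIdeal (X.presheaf.stalk (p (φ w))))) = _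
    refine (Submodule.quotEquivOfEq _ _ (Ideal.map_map (p.stalkMap (φ w)).hom (φ.stalkMap w).hom).symm).length_eq.trans ?_
    refine (length_quot_map (φ.stalkMap w).hom (φ.stalkMap_surjective w) _).trans ?_
    refine (Submodule.quotEquivOfEq _ _ (congrArg₂ _ rfl ?_)).length_eq
    have hkeri : RingHom.ker (i.stalkMap (pullback.snd q i w)).hom =
        maximalIdeal (Y.presheaf.stalk (i (pullback.snd q i w))) := by
      refine IsLocalRing.eq_maximalIdeal ?_
      have e : pullback.snd q i w = genericPoint _ := i.isEmbedding.injective ((hqw.symm.trans hv).trans hgen.symm)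
      have hfield : IsField ((IntMult.ptIdeal η).subscheme.presheaf.stalk (pullback.snd q i w)) := by
        rw [e]
        exact Field.toIsField (IntMult.ptIdeal η).subscheme.functionField
      letI := hfield.toField
      exact RingHom.ker_isMaximal_of_surjective _ (i.stalkMap_surjective _)
    rw [GysinPb.ker_stalkMap_fst, hkeri, GysinPb.baseMap, CommRingCat.hom_comp, ← Ideal.map_map]
    haveI : IsIso (Y.presheaf.stalkSpecializes (specializes_of_eq (GysinPb.apply_fst_eq q i w))) :=
      ⟨Y.presheaf.stalkSpecializes (specializes_of_eq (GysinPb.apply_fst_eq q i w).symm), by simp, by simp⟩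
    rw [GraphPull.map_maximalIdeal_of_isIso]
  choose Q hQ0 hQ using main
  let T := hTfin.toFinset
  have hT : ∀ η ∈ T, δY η = s := fun η hη => hβs η (hTfin.mem_toFinset.1 hη)
  have hrank : ∀ (η : Y) (hη : δY η = s), Q η hη ∈ Cyc.Zk W δ (r + s) := fun η hη z hz => by
    by_contra hne
    rw [hQ] at hne
    split_ifs at hne with hc
    · have hα : α (p z) ≠ 0 := left_ne_zero_of_mul hne
      refine hz ?_
      obtain ⟨ι, ξ, g, hξ, hg, -, hsum⟩ := h0
      rw [hsum] at hα
      obtain ⟨j, hj⟩ := not_forall.1 (mt finsum_eq_zero_of_forall_eq_zero hα)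
      have hd1 : δX (p z) + 1 = δX (ξ j) := by_contra fun hh => hj (CycLib.divFun_eq_zero_of_delta δX _ hh)
      have := hξ j
      rw [hc.2, hc.1, hη]
      omega
    · exact hne rfl
  have hmem : (∑ η ∈ T.attach, β η.1 • (⟨Q η.1 (hT η.1 η.2), hrank _ _⟩ : ↥(ChowOps.zk W δ (r + s)))) ∈
      ChowOps.ratTriv W δ (r + s) := by
    refine AddSubgroup.sum_mem _ fun η _ => ?_
    refine AddSubgroup.zsmul_mem _ ?_ _
    exact AddSubgroup.subset_closure (hQ0 η.1 (hT η.1 η.2))
  have hz := ClEq.ratEquivZero_of_mem hWs.2.2 hmem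
  convert hz using 1
  refine DFunLike.coe_injective (funext fun z => ?_)
  rw [AddSubgroup.val_finsetSum, Function.locallyFinsuppWithin.coe_sum, Finset.sum_apply]
  simp only [AddSubgroup.coe_zsmul, Function.locallyFinsuppWithin.coe_zsmul, Pi.smul_apply, smul_eq_mul, hQ]
  rw [hγ, Finset.sum_attach T fun η => β η * if q z = η ∧ δ z = δX (p z) + δY (q z) then α (p z) *
    ((Module.length (W.presheaf.stalk z) (W.presheaf.stalk z ⧸
      ((maximalIdeal (X.presheaf.stalk (p z))).map (p.stalkMap z).hom ⊔
        (maximalIdeal (Y.presheaf.stalk (q z))).map (q.stalkMap z).hom))).toNat : ℤ) else 0]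
  rw [Finset.sum_eq_single (q z) (fun η _ hne => by rw [if_neg fun h' => hne h'.1.symm, mul_zero]) fun hn => by
    rw [show β (q z) = 0 from not_not.1 fun hne => hn (hTfin.mem_toFinset.2 hne), zero_mul]]
  simp only [true_and]
  split_ifs <;> ring

end Groth.Agent.H23.RatExtProd
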