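import Groth.Agent.H23.PiecesProper
import Groth.Agent.H23.PushClass
import Groth.Agent.H23.RatExtProd
import Groth.Agent.CycLib.Envelope
import Groth.Agent.CycLib.CurveDeg

/-! Preliminaries for the cap product of an operational class with an exterior product. -/

set_option autoImplicit false
set_option linter.style.haveILetI false
set_option backward.isDefEq.respectTransparency false
set_option backward.isDefEq.respectTransparency.types false

universe u

open CategoryTheory CategoryTheory.Limits AlgebraicGeometry IsLocalRing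

noncomputable section

namespace Groth.Agent.H23.ExtCap

open Groth.Agent

section Classes

variable {T : Scheme.{u}} {δ : T → ℤ} {k : ℤ}

/-- The class of a finite sum. -/
theorem cl_sum {ι : Type} (s : Finset ι) (F : ι → AlgebraicCycle T ℤ) (hF : ∀ i, F i ∈ Cyc.Zk T δ k)
    (H : (∑ i ∈ s, F i) ∈ Cyc.Zk T δ k) :
    ChowOps.cl (∑ i ∈ s, F i) H = ∑ i ∈ s, ChowOps.cl (F i) (hF i) := by
  have e : (⟨∑ i ∈ s, F i, H⟩ : ↥(ChowOps.zk T δ k)) = ∑ i ∈ s, (⟨F i, hF i⟩ : ↥(ChowOps.zk T δ k)) :=
    Subtype.ext (by rw [AddSubmonoidClass.coe_finsetSum])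
  show ChowOps.clHom T δ k _ = _
  rw [e, map_sum]
  rfl

/-- The class of a multiple. -/
theorem cl_zsmul (n : ℤ) (α : AlgebraicCycle T ℤ) (hα : α ∈ Cyc.Zk T δ k) (H : n • α ∈ Cyc.Zk T δ k) :
    ChowOps.cl (n • α) H = n • ChowOps.cl α hα := by
  show ChowOps.clHom T δ k _ = n • ChowOps.clHom T δ k _
  rw [← map_zsmul]
  rfl

/-- A multiple of a cycle is a cycle. -/
theorem zsmul_mem (n : ℤ) {α : AlgebraicCycle T ℤ} (hα : α ∈ Cyc.Zk T δ k) : n • α ∈ Cyc.Zk T δ k :=
  (ChowOps.zk T δ k).zsmul_mem hα n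

/-- A function vanishing wherever a cycle does is a cycle. -/
def subCycle (α : AlgebraicCycle T ℤ) (F : T → ℤ) (h : ∀ x, α x = 0 → F x = 0) : AlgebraicCycle T ℤ where
  toFun := F
  supportWithinDomain' := fun _ _ => trivial
  supportLocallyFiniteWithinDomain' := fun z hz => by
    obtain ⟨U, hU, hfin⟩ := α.supportLocallyFiniteWithinDomain' z hz
    exact ⟨U, hU, hfin.subset fun x hx => ⟨hx.1, fun e => hx.2 (h x e)⟩⟩

@[simp] theorem subCycle_apply (α : AlgebraicCycle T ℤ) (F : T → ℤ) (h : ∀ x, α x = 0 → F x = 0) (x : T) :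
    subCycle α F h x = F x := rfl

theorem subCycle_mem (α : AlgebraicCycle T ℤ) (F : T → ℤ) (h : ∀ x, α x = 0 → F x = 0)
    (hα : α ∈ Cyc.Zk T δ k) : subCycle α F h ∈ Cyc.Zk T δ k := fun x hx => h x (hα x hx)

theorem map_id' (α : AlgebraicCycle T ℤ) : AlgebraicCycle.map (𝟙 T) δ δ α = α := by
  ext y
  exact CycLib.map_preimmersion_apply (𝟙 T) δ α y

end Classes

section Degree

variable {K : Type u} [Field K]

/-- There are no relations on a point. -/
theorem eq_zero_of_ratEquivZero_point {l : ℤ} {α : AlgebraicCycle (Spec (CommRingCat.of K)) ℤ}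
    (h : Cyc.RatEquivZero (fun _ => (0 : ℤ)) l α) (x : Spec (CommRingCat.of K)) : α x = 0 := by
  obtain ⟨ι, ξ, g, hξ, hg, -, hsum⟩ := h
  rw [hsum]
  exact finsum_eq_zero_of_forall_eq_zero fun i => CycLib.divFun_eq_zero_of_delta _ (g i) (by simp)

variable {X : Scheme.{u}} (p : X ⟶ Spec (CommRingCat.of K)) [IsProper p] {δ : X → ℤ} (hX : Cyc.IsSetup X δ)
  (hδ : Cyc.DeltaCompat p δ (fun _ => 0))

include hX hδ in
/-- The degree only depends on the class. -/
theorem deg_congr {k : ℤ} {α β : AlgebraicCycle X ℤ} {hα : α ∈ Cyc.Zk X δ k} {hβ : β ∈ Cyc.Zk X δ k}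
    (h : ChowOps.cl α hα = ChowOps.cl β hβ) : ChowOps.deg p δ α = ChowOps.deg p δ β := by
  haveI := hX.1
  have h0 := CycLib.ratEquivZero_map p hX (CycLib.isSetup_spec_field K) hδ (ClEq.ratEquiv_of_cl_eq hX.2.2 h)
  have h1 := eq_zero_of_ratEquivZero_point h0 (closedPoint K)
  rw [CycLib.map_sub'] at h1
  exact sub_eq_zero.1 h1

omit hX hδ in
/-- Cycles of non-zero dimension have degree zero. -/
theorem deg_eq_zero {k : ℤ} (hk : k ≠ 0) {α : AlgebraicCycle X ℤ} (hα : α ∈ Cyc.Zk X δ k) :
    ChowOps.deg p δ α = 0 := by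
  show AlgebraicCycle.map p δ _ α (closedPoint K) = 0
  exact Bivar.cycMap_mem_Zk p δ (fun _ => (0 : ℤ)) k hα _ (Ne.symm hk)

omit hX hδ in
theorem deg_zero : ChowOps.deg p δ (0 : AlgebraicCycle X ℤ) = 0 := by
  show AlgebraicCycle.map p δ _ (0 : AlgebraicCycle X ℤ) (closedPoint K) = 0
  rw [Bivar.cycMap_zero]
  rfl

end Degree

section Length

/-- The length of a fibre does not depend on how the map is written. -/
theorem fibreLen_congr {A B : Scheme.{u}} {f g : A ⟶ B} (h : f = g) (a : A) :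
    FiniteFibreSum.fibreLen f a = FiniteFibreSum.fibreLen g a := by
  subst h
  rfl

/-- Fibre lengths are local on the source. -/
theorem fibreLen_open {A B C : Scheme.{u}} (o : A ⟶ B) [IsOpenImmersion o] (f : B ⟶ C) (a : A) :
    FiniteFibreSum.fibreLen (o ≫ f) a = FiniteFibreSum.fibreLen f (o a) := by
  unfold FiniteFibreSum.fibreLen
  rw [Scheme.Hom.stalkMap_comp]
  exact GysinSq.length_map_comp _ (ConcreteCategory.bijective_of_isIso (o.stalkMap a)) _ _

variable {X Y P V : Scheme.{u}} (q₁ : P ⟶ X) (q₂ : P ⟶ Y) (i : V ⟶ Y) [IsClosedImmersion i] [IsIntegral V]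

/-- The length of the exterior product over the generic point of a closed integral subscheme. -/
theorem fibreLen_fst (w : (pullback q₂ i : Scheme.{u})) (hw : pullback.snd q₂ i w = genericPoint V) :
    FiniteFibreSum.fibreLen (pullback.fst q₂ i ≫ q₁) w =
      Module.length (P.presheaf.stalk (pullback.fst q₂ i w)) (P.presheaf.stalk (pullback.fst q₂ i w) ⧸
        ((maximalIdeal (X.presheaf.stalk (q₁ (pullback.fst q₂ i w)))).map
            (q₁.stalkMap (pullback.fst q₂ i w)).hom ⊔
          (maximalIdeal (Y.presheaf.stalk (q₂ (pullback.fst q₂ i w)))).map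
            (q₂.stalkMap (pullback.fst q₂ i w)).hom)) := by
  set φ := pullback.fst q₂ i
  unfold FiniteFibreSum.fibreLen
  rw [Scheme.Hom.stalkMap_comp]
  show Module.length _ (_ ⧸ Ideal.map ((φ.stalkMap w).hom.comp (q₁.stalkMap (φ w)).hom)
    (maximalIdeal (X.presheaf.stalk (q₁ (φ w))))) = _
  refine (Submodule.quotEquivOfEq _ _ (Ideal.map_map (q₁.stalkMap (φ w)).hom (φ.stalkMap w).hom).symm).length_eq.trans ?_
  refine (RatExtProd.length_quot_map (φ.stalkMap w).hom (φ.stalkMap_surjective w) _).trans ?_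
  refine (Submodule.quotEquivOfEq _ _ (congrArg₂ _ rfl ?_)).length_eq
  have hkeri : RingHom.ker (i.stalkMap (pullback.snd q₂ i w)).hom =
      maximalIdeal (Y.presheaf.stalk (i (pullback.snd q₂ i w))) := by
    refine IsLocalRing.eq_maximalIdeal ?_
    have hfield : IsField (V.presheaf.stalk (pullback.snd q₂ i w)) := by
      rw [hw]
      exact Field.toIsField V.functionField
    letI := hfield.toField
    exact RingHom.ker_isMaximal_of_surjective _ (i.stalkMap_surjective _)
  rw [GysinPb.ker_stalkMap_fst, hkeri, GysinPb.baseMap, CommRingCat.hom_comp, ← Ideal.map_map]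
  haveI : IsIso (Y.presheaf.stalkSpecializes (specializes_of_eq (GysinPb.apply_fst_eq q₂ i w))) :=
    ⟨Y.presheaf.stalkSpecializes (specializes_of_eq (GysinPb.apply_fst_eq q₂ i w).symm), by simp, by simp⟩
  rw [GraphPull.map_maximalIdeal_of_isIso]

/-- A field stalk has fibre length one. -/
theorem fibreLen_of_isField {A B : Scheme.{u}} (f : A ⟶ B) (a : A) (h : IsField (A.presheaf.stalk a)) :
    FiniteFibreSum.fibreLen f a = 1 := by
  unfold FiniteFibreSum.fibreLen
  haveI : IsLocalHom (f.stalkMap a).hom := inferInstance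
  have hle : (maximalIdeal (B.presheaf.stalk (f a))).map (f.stalkMap a).hom ≤ maximalIdeal (A.presheaf.stalk a) :=
    ((local_hom_TFAE (f.stalkMap a).hom).out 0 2).1 ‹IsLocalHom (f.stalkMap a).hom›
  rw [isField_iff_maximalIdeal_eq.1 h, le_bot_iff] at hle
  rw [(Submodule.quotEquivOfEqBot _ hle).length_eq, Module.length_eq_one_iff]
  letI := h.toField
  infer_instance

end Length

end Groth.Agent.H23.ExtCap
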