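import Groth.Agent.H23.FibSegre
import Groth.Agent.H23.GammaCap.Main

/-!
# The `γ`-filtration shortens chains over a point
-/

set_option autoImplicit false
set_option linter.style.haveILetI false
set_option linter.unusedSectionVars false
set_option backward.isDefEq.respectTransparency false
set_option backward.isDefEq.respectTransparency.types false

universe v u

open CategoryTheory CategoryTheory.Limits AlgebraicGeometry TopologicalSpace LambdaRing

noncomputable section

namespace Groth.Agent.H23.FibOp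

open Groth.Agent Groth.Agent.H28 Groth.Agent.H23.FibSmall Groth.Agent.H23.GammaCap

variable {X Y : Scheme.{u}} [IsNoetherian X] [ConnectedSpace X] {π : X ⟶ Y} [LocallyOfFiniteType π] [QuasiCompact π]
  [QuasiSeparated π] {y : Y}
  (hAF : ∀ T : Finset X, (∀ t ∈ T, π t = y) → ∃ W : X.Opens, IsAffineOpen W ∧ (T : Set X) ⊆ W)
  {K : Type v} [CommRing K] [LambdaOps K] {P : PosStructure K} {φ : SGA6.Kvb X →+ K}
  (μ : K →+ SGA6.Kcoh X →+ SGA6.Kcoh X)

include hAF

set_option maxHeartbeats 1000000 in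
/-- The `γ`-operations on a bundle minus its rank. -/
theorem gamma_bundle_mem (hK : KRR.IsModel X K P φ) (hμ : KDet.IsCap φ μ) {A : X.Modules} {r : ℕ}
    (hA : FlatMod.IsFinLocFreeOfRank r A) (j : ℕ) : gamma j (φ (KRR.cl X A) - (r : K)) ∈ Op π y μ j := by
  have hAl := KvbModel.lf_of_rank hA
  rcases Nat.eq_zero_or_pos r with rfl | hr
  · have h0 : φ (KRR.cl X A) = 0 :=
      (congrArg φ (KZ.clSub_isZero _ (PBAtlas.isZero_of_frames fun x => KvbModel.frameAt_of_rank hA x))).trans (map_zero φ)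
    rw [h0, Nat.cast_zero, sub_zero]
    rcases Nat.eq_zero_or_pos j with rfl | hj
    · exact op_zero hK hμ _
    · rw [Lambda.gamma_zero_right (by omega)]; exact zero_mem _
  obtain ⟨n, rfl⟩ : ∃ n, r = n + 1 := ⟨r - 1, by omega⟩
  set z := φ (KRR.cl X A) - ((n + 1 : ℕ) : K) with hz
  have hbig : ∀ l, n + 1 < l → gamma l z = 0 := fun l hl =>
    PBFil.gamma_sub_eq_zero (P := P) (Or.inr ⟨(hK.mem_pos_iff _).2 ⟨n + 1, A, hr, hA, rfl⟩, hK.aug_cl _ _ hA⟩) hl
  suffices H : ∀ q l, gamma l z ∈ Op π y μ (min l q) by simpa using H j j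
  intro q
  induction q with
  | zero => intro l; exact op_anti (by simp) (op_zero hK hμ _)
  | succ q ihq =>
    intro l
    rcases Nat.lt_or_ge q l with hlq | hlq
    swap
    · rw [show min l (q + 1) = min l q by omega]; exact ihq l
    rw [show min l (q + 1) = q + 1 by omega]
    intro e c hc
    refine ff_le_comap (μ (gamma l z)) _ (fun G hG hGs => ?_) hc
    refine KFilt.mem_of_support ((FF π y e).comap (μ (gamma l z))) ⟨_, QCoh.isClosed_support_of_isFT hG.1 hG.2⟩
      (fun {Z} i hi hZ hr => ?_) G hG subset_rfl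
    show μ (gamma l z) (KDet.clc X ((Coh.push i).obj (Coh.structureModule Z))) ∈ FF π y e
    haveI := hi; haveI := hZ
    haveI : IsNoetherian Z := PushComp.isNoetherian_of_closed i
    haveI := KFlatLib.hasInjectiveResolutions_modules (X := Z)
    obtain ⟨KC, _, _, PC, φC, hKC⟩ := KvbModel.exists_isModel (X := Z)
    obtain ⟨pi, hpi, -⟩ := PullVB.existsUnique_isPull i φC φ hK.bijective
    have hAZ := LineTwist.rank_pull i hA
    have hAZl := KvbModel.lf_of_rank hAZ
    haveI hiso := DualFlatPull.isIso_toHull (PushLocFree.isCoh_of_isFinLocFree hAZl)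
    have hEr : FlatMod.IsFinLocFreeOfRank (n + 1) (RefHull.dual ((Scheme.Modules.pullback i).obj A)) :=
      Chern.rank_of_iso (@asIso _ _ _ _ _ hiso) (Chern.rank_dual hAZ)
    have hAFZ : ∀ T : Finset Z, (∀ t ∈ T, (i ≫ π) t = y) → ∃ W : Z.Opens, IsAffineOpen W ∧ (T : Set Z) ⊆ W := by
      classical
      intro T hT
      obtain ⟨W, hW, hTW⟩ := hAF (T.image i) fun t ht => by
        obtain ⟨t', ht', rfl⟩ := Finset.mem_image.1 ht
        exact hT t' ht'
      exact ⟨i ⁻¹ᵁ W, hW.preimage i, fun t ht => hTW (Finset.mem_image_of_mem i ht)⟩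
    have hZs : Small ((i ≫ π) ⁻¹' {y}) (e + (q + 1)) :=
      (hGs.preimage i i.isClosedEmbedding.injective π).mono
        (fun w hw => show w ∈ i ⁻¹' CohB1.support G ∩ (i ≫ π) ⁻¹' {y} from ⟨hr ⟨w, rfl⟩, hw⟩) le_rfl
    obtain ⟨s, hsrel, hs1, hsF⟩ := FibOp.exists_segre (g := i ≫ π) hAFZ hZs hEr hKC
    obtain ⟨edd⟩ := nonempty_ddual hAZl
    let pr := KvbPull.ringHom hKC hK hpi
    have hzZ : φC (KRR.cl Z (RefHull.dual (RefHull.dual ((Scheme.Modules.pullback i).obj A)))) - ((n + 1 : ℕ) : KC) =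
        pr z := by
      rw [hz, map_sub, map_natCast]
      refine congrArg (· - _) ?_
      exact ((hpi A hAl).trans (congrArg φC (KvbLam.cl_iso edd hAZl))).symm
    rw [hzZ] at hsrel
    obtain ⟨θ, hθ⟩ := exists_pushClosed i
    let eC := AddEquiv.ofBijective φC hKC.bijective
    let ψ : KC →+ SGA6.Kcoh X := θ.comp ((KFilt.δ Z).comp eC.symm.toAddMonoidHom)
    have hψ : ∀ F : Z.Modules, FlatMod.IsFinLocFree F → ψ (φC (KRR.cl Z F)) = KDet.clc X ((Coh.push i).obj F) :=
      fun F hF => by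
      show θ (KFilt.δ Z (eC.symm (φC (KRR.cl Z F)))) = _
      rw [show eC.symm (φC (KRR.cl Z F)) = _ from eC.symm_apply_apply _, KFilt.δ_cl hF]
      exact hθ F (PushLocFree.isCoh_of_isFinLocFree hF)
    have hproj : ∀ (x : K) (y : KC), ψ (pr x * y) = μ x (ψ y) := by
      intro x y
      obtain ⟨A₁, A₂, hA₁, hA₂, rfl⟩ := KvbPull.exists_cl hK x
      obtain ⟨B₁, B₂, hB₁, hB₂, rfl⟩ := KvbPull.exists_cl hKC y
      suffices key : ∀ (E : X.Modules), FlatMod.IsFinLocFree E → ∀ (F : Z.Modules), FlatMod.IsFinLocFree F →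
          ψ (pr (φ (KRR.cl X E)) * φC (KRR.cl Z F)) = μ (φ (KRR.cl X E)) (ψ (φC (KRR.cl Z F))) by
        have a := key A₁ hA₁ B₁ hB₁
        have b := key A₁ hA₁ B₂ hB₂
        have c := key A₂ hA₂ B₁ hB₁
        have d := key A₂ hA₂ B₂ hB₂
        simp only [map_sub, sub_mul, mul_sub, AddMonoidHom.sub_apply]
        erw [a, b, c, d]
      intro E hE F hF
      have hFc := PushLocFree.isCoh_of_isFinLocFree hF
      have hlf := KFlatLib.isFinLocFree_tensor (KvbPull.lf_pull i hE) hF
      rw [show pr (φ (KRR.cl X E)) = φC (KRR.cl Z ((Scheme.Modules.pullback i).obj E)) from hpi E hE,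
        hKC.map_mul _ _ (KvbPull.lf_pull i hE) hF, hψ _ hlf, hψ F hF,
        hμ.map_cl E _ hE (QCoh.isCoh_push i hFc)]
      obtain ⟨e⟩ := nonempty_push_pull_tensor i hE F
      have h₁ : Coh.IsCoh ((Coh.push i).obj ((DCoh.tensorBi.obj ((Scheme.Modules.pullback i).obj E)).obj F)) :=
        QCoh.isCoh_push i (PushLocFree.isCoh_of_isFinLocFree hlf)
      exact PBCohPush.clc_iso e.symm h₁ (RefX.isCoh_of_iso e.symm h₁)
    have hψF : ∀ i', ψ (φC (s (n + i'))) ∈ FF π y (e + (q + 1) - i') := fun i' => by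
      show θ (KFilt.δ Z (eC.symm (φC (s (n + i'))))) ∈ _
      rw [show eC.symm (φC (s (n + i'))) = _ from eC.symm_apply_apply _]
      refine ff_le_comap θ _ (fun M hM hwM => ?_) (hsF i')
      rw [hθ M hM]
      refine mem_ff (QCoh.isCoh_push i hM) ?_
      exact (hwM.image i π i.isClosedMap (QCoh.isClosed_support_of_isFT hM.1 hM.2)).mono
        (Set.inter_subset_inter_left _ (GammaCap.support_push_proper i hM)) le_rfl
    have hψ1 : ψ 1 = KDet.clc X ((Coh.push i).obj (Coh.structureModule Z)) := by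
      rw [← hKC.map_one]; exact hψ _ KvbLam.lf_O
    rw [← hψ1]
    suffices key : ∀ t l, q < l → n + 1 < l + t → μ (gamma l z) (ψ 1) ∈ FF π y e from
      key (n + 2) l hlq (by omega)
    intro t
    induction t with
    | zero => intro l _ hl; rw [hbig l (by omega), map_zero, AddMonoidHom.zero_apply]; exact zero_mem _
    | succ t iht =>
      intro l hlq hlt
      rcases Nat.lt_or_ge (n + 1) l with hln | hln
      · rw [hbig l hln, map_zero, AddMonoidHom.zero_apply]; exact zero_mem _
      have h := congrArg ψ (hsrel (l - 1))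
      rw [map_zero, map_sum, ← Finset.add_sum_erase _ _
        (Finset.mem_range.2 (show n + 1 - l < n + 2 by omega))] at h
      simp only [← PBFil.map_gamma (f := pr) (KvbPull.map_lam hKC hK hpi), hproj] at h
      rw [show n + 1 - (n + 1 - l) = l by omega, hs1 _ (by omega)] at h
      rw [eq_neg_of_add_eq_zero_left h]
      refine neg_mem (sum_mem fun k hk => ?_)
      obtain ⟨hkne, hk⟩ := Finset.mem_erase.1 hk
      rw [Finset.mem_range] at hk
      rcases Nat.lt_or_ge (n + 1 - k) l with hjl | hjl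
      · obtain ⟨i', hi'⟩ : ∃ i', l - 1 + k = n + i' := ⟨l - 1 + k - n, by omega⟩
        rw [hi']
        exact ihq (n + 1 - k) e _ (ff_mono (by omega) (hψF i'))
      · rw [hs1 _ (by omega)]
        exact iht _ (by omega) (by omega)

theorem gamma_neg_mem (hK : KRR.IsModel X K P φ) (hμ : KDet.IsCap φ μ) {x : K}
    (h : ∀ j, gamma j x ∈ Op π y μ j) (j : ℕ) : gamma j (-x) ∈ Op π y μ j := by
  induction j using Nat.strong_induction_on with
  | _ j ih =>
    rcases Nat.eq_zero_or_pos j with rfl | hj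
    · exact op_zero hK hμ _
    have h0 := Lambda.gamma_add j x (-x)
    rw [add_neg_cancel, Lambda.gamma_zero_right (by omega), Finset.sum_range_succ', Nat.sub_zero, Lambda.gamma_zero,
      one_mul] at h0
    rw [eq_neg_of_add_eq_zero_right h0.symm]
    refine neg_mem (sum_mem fun i hi => ?_)
    rw [Finset.mem_range] at hi
    exact op_anti (by omega) (op_mul hμ (h (i + 1)) (ih (j - (i + 1)) (by omega)))

/-- `γ^j` of an element of rank zero lowers supports by `j`. -/
theorem gamma_mem_op (hK : KRR.IsModel X K P φ) (hμ : KDet.IsCap φ μ) {x : K} (hx : P.aug x = 0) (j : ℕ) :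
    gamma j x ∈ Op π y μ j := by
  obtain ⟨A, B, hA, hB, rfl⟩ := KvbPull.exists_cl hK x
  obtain ⟨a, ha⟩ := KvbModel.exists_rank hA
  obtain ⟨b, hb⟩ := KvbModel.exists_rank hB
  have hab : a = b := by
    rw [map_sub, hK.aug_cl a A ha, hK.aug_cl b B hb, sub_eq_zero] at hx
    exact_mod_cast hx
  subst hab
  rw [show φ (KRR.cl X A) - φ (KRR.cl X B) = (φ (KRR.cl X A) - (a : K)) + -(φ (KRR.cl X B) - (a : K)) by ring,
    Lambda.gamma_add]
  refine sum_mem fun i hi => ?_
  rw [Finset.mem_range] at hi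
  exact op_anti (by omega) (op_mul hμ (gamma_bundle_mem hAF μ hK hμ ha i)
    (gamma_neg_mem hAF μ hK hμ (gamma_bundle_mem hAF μ hK hμ hb) (j - i)))

/-- `F^p K^•` lowers supports by `p`. -/
theorem gammaFiltration_le_op (hK : KRR.IsModel X K P φ) (hμ : KDet.IsCap φ μ) (p : ℕ) {x : K}
    (hx : x ∈ gammaFiltration P p) : x ∈ Op π y μ p := by
  rcases eq_or_ne p 0 with rfl | hp
  · exact op_zero hK hμ x
  rw [Lambda.gammaFiltration_of_ne_zero P hp] at hx
  refine (AddSubgroup.closure_le _).2 ?_ hx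
  rintro _ ⟨l, hl, hsum, rfl⟩
  refine op_anti hsum ?_
  clear hsum hx
  induction l with
  | nil => exact op_zero hK hμ _
  | cons a l ih =>
    simp only [List.map_cons, List.prod_cons, List.sum_cons]
    rw [add_comm]
    exact op_mul hμ (gamma_mem_op hAF μ hK hμ (hl a List.mem_cons_self) a.1)
      (ih fun b hb => hl b (List.mem_cons_of_mem _ hb))

end Groth.Agent.H23.FibOp
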