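import Groth.Agent.CohGlobGrowth.Main
import Groth.Agent.AmpleVan.RelVanish
import Groth.Agent.InvX.GenLocusPull
import Groth.Agent.S10869

/-!
# Sections of all large powers generating at finitely many given points
-/

set_option autoImplicit false
set_option linter.style.haveILetI false
set_option linter.unusedSectionVars false
set_option backward.isDefEq.respectTransparency false
set_option backward.isDefEq.respectTransparency.types false
set_option maxHeartbeats 1000000

universe u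

open CategoryTheory CategoryTheory.Limits AlgebraicGeometry TopologicalSpace Opposite

noncomputable section

namespace Groth.Agent.H23.LocAvoid

open Groth.Agent Groth.Agent.H23 Groth.Agent.CohGlobGrowth
open scoped Groth.Agent.H23.PicMul

variable {X : Scheme.{u}} {L : X.Modules}

/-- Every large power of a globally generated invertible module has a section generating at finitely
many given points. -/
theorem exists_all_large (hL : PicF.IsInvertible L) (hg : Curv2.IsGloballyGenerated L) (Z : Finset X) :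
    ∃ D : ℕ, 0 < D ∧ ∀ n : ℕ, D ≤ n → ∃ s : Γ(CohB1.tensorPow L n, ⊤), (Z : Set X) ⊆ TrivBasic.locus s := by
  classical
  induction Z using Finset.strongInductionOn with
  | _ Z IH =>
    by_cases hne : Z.Nonempty
    swap
    · exact ⟨1, Nat.one_pos, fun n _ => ⟨0, by rw [Finset.not_nonempty_iff_eq_empty.1 hne]; simp⟩⟩
    obtain ⟨z, hz⟩ := hne
    obtain ⟨D₀, hD₀, hs₀⟩ := IH (Z.erase z) (Finset.erase_ssubset hz)
    by_cases hall : ∀ w ∈ Z.erase z, ∃ m : ℕ, 0 < m ∧ ∃ t : Γ(CohB1.tensorPow L m, ⊤),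
        z ∈ TrivBasic.locus t ∧ w ∉ TrivBasic.locus t
    swap
    · push_neg at hall
      obtain ⟨w, hw, hno⟩ := hall
      obtain ⟨D, hD, hs⟩ := IH (Z.erase w) (Finset.erase_ssubset (Finset.mem_of_mem_erase hw))
      refine ⟨D, hD, fun n hn => ?_⟩
      obtain ⟨t, ht⟩ := hs n hn
      refine ⟨t, fun x hx => ?_⟩
      have hzt : z ∈ TrivBasic.locus t := ht (Finset.mem_erase.2 ⟨(Finset.ne_of_mem_erase hw).symm, hz⟩)
      by_cases hxw : x = w
      · exact hxw ▸ hno n (hD.trans_le hn) t hzt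
      · exact ht (Finset.mem_erase.2 ⟨hxw, hx⟩)
    obtain ⟨b, hb, t, hzt, ht⟩ := exists_sep hL hg z (Z.erase z) hall
    obtain ⟨ℓ, hℓ⟩ := GenLocusGG.exists_mem_locus hL hg z
    refine ⟨D₀ + b + 1, by omega, fun n hn => ?_⟩
    obtain ⟨s, hs⟩ := hs₀ n (by omega)
    by_cases hzs : z ∈ TrivBasic.locus s
    · refine ⟨s, fun x hx => ?_⟩
      by_cases hxz : x = z
      · exact hxz ▸ hzs
      · exact hs (Finset.mem_erase.2 ⟨hxz, hx⟩)
    obtain ⟨k, rfl⟩ : ∃ k, n = b + (k + 1) := ⟨n - b - 1, by omega⟩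
    obtain ⟨t', ht'⟩ := AmpleX.exists_locus_cl (N := CohB1.tensorPow L (b + (k + 1)))
      (show PicF.cl (CohB1.tensorMod (CohB1.tensorPow L b) (CohB1.tensorPow L (k + 1))) = _ by
        rw [PicMul.cl_tensor, PicMul.cl_tensorPow, PicMul.cl_tensorPow, PicMul.cl_tensorPow, ← pow_add])
      (InvX.tmul t (AmpleX.powElt ℓ (k + 1)))
    rw [AmpleX.locus_tmul (InvX.isInvertible_tensorPow hL _) (InvX.isInvertible_tensorPow hL _),
      AmpleX.locus_powElt hL] at ht'
    have hzt' : z ∈ TrivBasic.locus t' := by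
      rw [loc_eq, ht']
      exact ⟨loc_eq t ▸ hzt, loc_eq ℓ ▸ hℓ⟩
    refine ⟨s + t', fun x hx => ?_⟩
    have hinv := InvX.isInvertible_tensorPow hL (b + (k + 1))
    by_cases hxz : x = z
    · subst hxz
      rw [add_comm s t']
      exact mem_locus_add hinv t' s hzt' hzs
    · have hxe : x ∈ Z.erase z := Finset.mem_erase.2 ⟨hxz, hx⟩
      refine mem_locus_add hinv s t' (hs hxe) fun h => ht x hxe ?_
      rw [loc_eq] at h ⊢
      rw [ht'] at h
      exact h.1

/-- Every large power of a relatively generated invertible module has a frame around finitely many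
points lying over an affine open. -/
theorem exists_frame_pow {Y : Scheme.{u}} (π : X ⟶ Y) [QuasiCompact π] [QuasiSeparated π]
    (hL : PicF.IsInvertible L) (hqL : Coh.IsQCoh L)
    (hgen : Epi ((Scheme.Modules.pullbackPushforwardAdjunction π).counit.app L)) {V : Y.Opens}
    (hV : IsAffineOpen V) (Z : Finset X) (hZ : ∀ z ∈ Z, π z ∈ V) :
    ∃ D : ℕ, ∀ n : ℕ, D ≤ n → ∃ (U : X.Opens) (e : Γ(CohB1.tensorPow L n, U)),
      InvX.IsFrame e ∧ (Z : Set X) ⊆ U := by
  classical
  let j := (π ⁻¹ᵁ V).ι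
  have hgg : Curv2.IsGloballyGenerated (L.restrict j) := (S10869.result π L hqL).2.1 hgen V hV
  have hLj : PicF.IsInvertible (L.restrict j) := ParaFX.isInvertible_restrict _ hL
  let Z' : Finset (π ⁻¹ᵁ V : Scheme.{u}) := Z.attach.image fun z => (⟨z.1, hZ z.1 z.2⟩ : (π ⁻¹ᵁ V))
  obtain ⟨D, -, hs⟩ := exists_all_large hLj hgg Z'
  refine ⟨D, fun n hn => ?_⟩
  obtain ⟨s, hsZ⟩ := hs n hn
  let r := Scheme.Modules.restrictFunctorIsoPullback j
  obtain ⟨e₀⟩ := AmpleVan.RelVanish.pullback_tensorPow j L n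
  obtain ⟨e₁⟩ := AmpleVan.RelVanish.tensorPow_congr (r.app L).symm n
  let e : (CohB1.tensorPow L n).restrict j ≅ CohB1.tensorPow (L.restrict j) n := r.app _ ≪≫ e₀ ≪≫ e₁
  let W := TrivBasic.locus s
  have hf := (TrivBasic.isFrame_res_of_le_locus (le_refl W)).map_iso e.symm
  refine ⟨j ''ᵁ W, _, (AmpleX.isFrame_restrict_iff (M := CohB1.tensorPow L n) j _).1 hf, fun z hz => ?_⟩
  exact ⟨⟨z, hZ z hz⟩, hsZ (Finset.mem_image.2 ⟨⟨z, hz⟩, Finset.mem_attach _ _, rfl⟩), rfl⟩

end Groth.Agent.H23.LocAvoid
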