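import Groth.Agent.H23.FibOp
import Groth.Agent.H23.LocAvoid
import Groth.Agent.H28.LineTwist

/-!
# Inverse line elements shorten the chains over a point
-/

set_option autoImplicit false
set_option linter.style.haveILetI false
set_option linter.unusedSectionVars false
set_option backward.isDefEq.respectTransparency false
set_option backward.isDefEq.respectTransparency.types false

universe v u

open CategoryTheory CategoryTheory.Limits AlgebraicGeometry TopologicalSpace LambdaRing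

noncomputable section

namespace Groth.Agent.H23.FibOp

open Groth.Agent Groth.Agent.H28

variable {X Y : Scheme.{u}} [IsNoetherian X] {π : X ⟶ Y} [LocallyOfFiniteType π] [QuasiCompact π] [QuasiSeparated π]
  {y : Y} {K : Type v} [CommRing K] [LambdaOps K] {P : PosStructure K} {φ : SGA6.Kvb X →+ K}
  {μ : K →+ SGA6.Kcoh X →+ SGA6.Kcoh X}

/-- Two large powers with frames near the finite sets of the fibre give the line itself. -/
theorem one_sub_mem_of_pow (hK : KRR.IsModel X K P φ) (hμ : KDet.IsCap φ μ) {L : X.Modules} (hL : PicF.IsInvertible L)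
    (h : ∀ Zs : Finset X, (∀ z ∈ Zs, π z = y) → ∃ D : ℕ, ∀ n : ℕ, D ≤ n →
      ∃ (U : X.Opens) (e : Γ(CohB1.tensorPow L n, U)), InvX.IsFrame e ∧ (Zs : Set X) ⊆ U) :
    1 - φ (KRR.cl X L) ∈ Op π y μ 1 := by
  intro e c hc
  refine ff_le_comap (μ (1 - φ (KRR.cl X L))) _ (fun G hG hs => ?_) hc
  obtain ⟨Zs, hZ, hcut⟩ := FibSmall.exists_cut π (QCoh.isClosed_support_of_isFT hG.1 hG.2) y
  obtain ⟨D, hD⟩ := h Zs fun z hz => (hZ z hz).2
  have key : ∀ n, D ≤ n → ∀ G' : X.Modules, Coh.IsCoh G' → CohB1.support G' ⊆ CohB1.support G →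
      μ (1 - φ (KRR.cl X L) ^ n) (KDet.clc X G') ∈ FF π y e := fun n hn G' hG' hsub => by
    obtain ⟨U, s, hs', hZU⟩ := hD n hn
    have hLn := InvX.isInvertible_tensorPow hL n
    obtain ⟨J, I, a, b, d, hJ, hI, ha, hb, hd⟩ := Snapper.exists_link_frame hLn hs'
    let F := AmpleVan.tw G'
    have hsupp : ∀ A, CohB1.support (F.obj A) ⊆ CohB1.support G := fun A x hx =>
      hsub (CurveTensor.support_tensor_subset hx)
    have hcoh : ∀ {A}, Coh.IsCoh A → Coh.IsCoh (F.obj A) := fun hA => AmpleVan.isCoh_tensor hA hG'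
    have hsm : ∀ C' : Set X, IsClosed C' → C' ⊆ CohB1.support G → C' ⊆ (U : Set X)ᶜ →
        FibSmall.Small (C' ∩ π ⁻¹' {y}) e := fun C' h1 h2 h3 =>
      hcut C' h1 h2 (fun z hz hzC => h3 hzC (hZU hz)) e hs
    have e1 := sub_mem_of_isoOn hsm (hcoh hJ) (hcoh QCoh.isCoh_structureModule') (hsupp _) (hsupp _) _ (ha.tensor G')
    have e2 := sub_mem_of_isoOn hsm (hcoh hJ) (hcoh hI) (hsupp _) (hsupp _) _ (hb.tensor G')
    have e3 := sub_mem_of_isoOn hsm (hcoh (AmpleVan.isCoh_invertible hLn)) (hcoh hI) (hsupp _) (hsupp _) _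
      (hd.tensor G')
    have h0 : KDet.clc X (F.obj (Coh.structureModule X)) = KDet.clc X G' :=
      PBCohPush.clc_iso (CurveTensor.structureTensorIso G') (hcoh QCoh.isCoh_structureModule') hG'
    rw [map_sub, AddMonoidHom.sub_apply, hμ.one_smul, ← LineTwist.cl_tensorPow hK hL,
      show μ (φ (KvbLam.cl (CohB1.tensorPow L n))) (KDet.clc X G') = KDet.clc X (F.obj (CohB1.tensorPow L n)) from
        hμ.map_cl _ _ (LineTwist.lf_invertible hLn) hG', ← h0]
    have hm := sub_mem (sub_mem e2 e1) e3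
    simp only [sub_sub_sub_cancel_left, sub_sub_sub_cancel_right] at hm
    exact hm
  have hLl := LineTwist.lf_invertible hL
  have h2 := key D le_rfl _ (CurveTensor.isCoh_tensor hLl hG) CurveTensor.support_tensor_subset
  rw [← hμ.map_cl L G hLl hG, ← hμ.mul_smul] at h2
  rw [show 1 - φ (KRR.cl X L) = (1 - φ (KRR.cl X L) ^ (D + 1)) - (1 - φ (KRR.cl X L) ^ D) * φ (KRR.cl X L) by ring,
    map_sub, AddMonoidHom.sub_apply]
  exact sub_mem (key (D + 1) D.le_succ G hG subset_rfl) h2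

/-- The inverse of such a line. -/
theorem one_sub_inv_mem (hK : KRR.IsModel X K P φ) (hμ : KDet.IsCap φ μ) {L M : X.Modules}
    (hL : PicF.IsInvertible L) (hM : PicF.IsInvertible M) (hLM : ClSub.IsInverseOf L M)
    (h : 1 - φ (KRR.cl X L) ∈ Op π y μ 1) : 1 - φ (KRR.cl X M) ∈ Op π y μ 1 := by
  obtain ⟨e⟩ := hLM
  have hlm : φ (KRR.cl X L) * φ (KRR.cl X M) = 1 := by
    rw [hK.map_mul _ _ (LineTwist.lf_invertible hL) (LineTwist.lf_invertible hM), ← hK.map_one]
    exact congrArg φ (GenPush.cl_iso e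
      (KFlatLib.isFinLocFree_tensor (LineTwist.lf_invertible hL) (LineTwist.lf_invertible hM)) KvbLam.lf_O)
  rw [show 1 - φ (KRR.cl X M) = (-φ (KRR.cl X M)) * (1 - φ (KRR.cl X L)) by
    rw [neg_mul, mul_sub, mul_one, mul_comm, hlm, neg_sub]]
  exact mul_mem_op hK hμ _ h

/-- A relatively generated line shortens the chains by one. -/
theorem one_sub_mem_of_gen (hK : KRR.IsModel X K P φ) (hμ : KDet.IsCap φ μ) {L : X.Modules} (hL : PicF.IsInvertible L)
    (hgen : Epi ((Scheme.Modules.pullbackPushforwardAdjunction π).counit.app L)) :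
    1 - φ (KRR.cl X L) ∈ Op π y μ 1 := by
  obtain ⟨_, ⟨V, hV, rfl⟩, hyV, -⟩ :=
    Y.isBasis_affineOpens.exists_subset_of_mem_open (Set.mem_univ y) isOpen_univ
  exact one_sub_mem_of_pow hK hμ hL fun Zs hZ =>
    LocAvoid.exists_frame_pow π hL (CurveDeg.isCoh_of_isInvertible hL).1 hgen hV Zs fun z hz => by
      rw [hZ z hz]; exact hyV

end Groth.Agent.H23.FibOp
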