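import Groth.Agent.H23.FibSmall
import Groth.Agent.Snapper.IsoOn
import Groth.Agent.Lib.CurveTensor

/-!
# Operations lowering the dimension of the fibre over a point
-/

set_option autoImplicit false
set_option linter.style.haveILetI false
set_option linter.unusedSectionVars false
set_option backward.isDefEq.respectTransparency false
set_option backward.isDefEq.respectTransparency.types false

universe v u

open CategoryTheory CategoryTheory.Limits AlgebraicGeometry TopologicalSpace LambdaRing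

noncomputable section

namespace Groth.Agent.H23.FibOp

open Groth.Agent Groth.Agent.H28 Groth.Agent.H23.FibSmall

variable {X Y : Scheme.{u}} (π : X ⟶ Y) (y : Y)

/-- The classes of modules whose support has short chains over `y`. -/
def FF (e : ℕ) : AddSubgroup (SGA6.Kcoh X) :=
  AddSubgroup.closure {c | ∃ G : X.Modules, Coh.IsCoh G ∧ Small (CohB1.support G ∩ π ⁻¹' {y}) e ∧ c = KDet.clc X G}

variable {π y}

theorem mem_ff {e : ℕ} {G : X.Modules} (hG : Coh.IsCoh G) (h : Small (CohB1.support G ∩ π ⁻¹' {y}) e) :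
    KDet.clc X G ∈ FF π y e :=
  AddSubgroup.subset_closure ⟨G, hG, h, rfl⟩

theorem ff_le_comap {A : Type*} [AddCommGroup A] {e : ℕ} (θ : SGA6.Kcoh X →+ A) (T : AddSubgroup A)
    (h : ∀ G : X.Modules, Coh.IsCoh G → Small (CohB1.support G ∩ π ⁻¹' {y}) e → θ (KDet.clc X G) ∈ T)
    {c : SGA6.Kcoh X} (hc : c ∈ FF π y e) : θ c ∈ T :=
  (AddSubgroup.closure_le (T.comap θ)).2 (by rintro _ ⟨G, hG, hw, rfl⟩; exact h G hG hw) hc

theorem ff_mono {e e' : ℕ} (h : e ≤ e') : FF π y e ≤ FF π y e' :=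
  (AddSubgroup.closure_le _).2 (by
    rintro _ ⟨G, hG, hw, rfl⟩
    exact mem_ff hG (hw.mono subset_rfl h))

/-- Modules agreeing outside a set with short chains. -/
theorem sub_mem_of_isoOn [IsNoetherian X] {e : ℕ} {U : X.Opens} {C : Set X}
    (h : ∀ C' : Set X, IsClosed C' → C' ⊆ C → C' ⊆ (U : Set X)ᶜ → Small (C' ∩ π ⁻¹' {y}) e)
    {A B : X.Modules} (hA : Coh.IsCoh A) (hB : Coh.IsCoh B) (hAC : CohB1.support A ⊆ C)
    (hBC : CohB1.support B ⊆ C) (f : A ⟶ B) (hf : Snapper.IsoOn U f) :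
    KDet.clc X A - KDet.clc X B ∈ FF π y e := by
  have hK := QCoh.isCoh_kernel hA hB f
  have hC := QCoh.isCoh_cokernel hA.1 hB f
  have hI : Coh.IsCoh (Abelian.image f) :=
    QCoh.isCoh_of_epi (Abelian.factorThruImage f) hA (QCoh.isQCoh_kernel hB.1 hC.1 _)
  have h1 := KZ.clSub_ses (fun M : X.Modules => Coh.IsCoh M)
    (S := ShortComplex.mk (kernel.ι f) (Abelian.factorThruImage f)
      ((cancel_mono (Abelian.image.ι f)).1 (by rw [Category.assoc, Abelian.image.fac, kernel.condition, zero_comp])))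
    { exact := ShortComplex.exact_of_f_is_kernel _ (KernelFork.IsLimit.ofι' _ _ fun {T} t ht =>
        ⟨kernel.lift f t (by rw [← Abelian.image.fac f, reassoc_of% ht, zero_comp]), kernel.lift_ι _ _ _⟩)
      mono_f := inferInstance
      epi_g := inferInstance } hK hA hI
  have h2 := KZ.clSub_ses (fun M : X.Modules => Coh.IsCoh M)
    (S := ShortComplex.mk (Abelian.image.ι f) (cokernel.π f) (kernel.condition _))
    { exact := ShortComplex.exact_of_f_is_kernel _ (kernelIsKernel (cokernel.π f))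
      mono_f := inferInstance
      epi_g := inferInstance } hI hB hC
  have hd : KDet.clc X A - KDet.clc X B = KDet.clc X (kernel f) - KDet.clc X (cokernel f) := by
    rw [show KDet.clc X A = _ from h1, show KDet.clc X B = _ from h2]
    abel
  rw [hd]
  obtain ⟨hk, hc⟩ := Snapper.support_subset_compl hf
  exact sub_mem
    (mem_ff hK (h _ (QCoh.isClosed_support_of_isFT hK.1 hK.2)
      ((QCoh.mem_support_of_mono hK.1 hA.1 (kernel.ι f)).trans hAC) hk))
    (mem_ff hC (h _ (QCoh.isClosed_support_of_isFT hC.1 hC.2)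
      ((QCoh.support_of_epi hB.1 hC.1 (cokernel.π f)).trans hBC) hc))

variable {K : Type v} [CommRing K] (μ : K →+ SGA6.Kcoh X →+ SGA6.Kcoh X)

variable (π y) in
/-- The elements shortening the chains over `y` by `p`. -/
def Op (p : ℕ) : AddSubgroup K where
  carrier := setOf fun x => ∀ (e : ℕ), ∀ c ∈ FF π y (e + p), μ x c ∈ FF π y e
  zero_mem' := fun e c _ => by rw [map_zero, AddMonoidHom.zero_apply]; exact zero_mem _
  add_mem' := fun {x x'} hx hx' e c hc => by
    rw [map_add, AddMonoidHom.add_apply]; exact add_mem (hx e c hc) (hx' e c hc)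
  neg_mem' := fun {x} hx e c hc => by rw [map_neg, AddMonoidHom.neg_apply]; exact neg_mem (hx e c hc)

variable {μ}

theorem op_anti {p q : ℕ} (h : q ≤ p) : Op π y μ p ≤ Op π y μ q := fun _ hx e c hc =>
  hx e c (ff_mono (by omega) hc)

variable {φ : SGA6.Kvb X →+ K}

theorem op_mul (hμ : KDet.IsCap φ μ) {a b : K} {p q : ℕ} (ha : a ∈ Op π y μ p) (hb : b ∈ Op π y μ q) :
    a * b ∈ Op π y μ (q + p) := fun e c hc => by
  rw [hμ.mul_smul]
  refine ha e _ (hb (e + p) c ?_)
  rw [show e + p + q = e + (q + p) by omega]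
  exact hc

variable [LambdaOps K] {P : PosStructure K}

theorem op_zero (hK : KRR.IsModel X K P φ) (hμ : KDet.IsCap φ μ) (x : K) : x ∈ Op π y μ 0 := by
  obtain ⟨A, B, hA, hB, rfl⟩ := KvbPull.exists_cl hK x
  suffices key : ∀ E : X.Modules, FlatMod.IsFinLocFree E → φ (KRR.cl X E) ∈ Op π y μ 0 from
    sub_mem (key A hA) (key B hB)
  intro E hE e c hc
  refine ff_le_comap (μ (φ (KRR.cl X E))) _ (fun G hG hs => ?_) hc
  rw [hμ.map_cl E G hE hG]
  exact mem_ff (CurveTensor.isCoh_tensor hE hG)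
    (hs.mono (Set.inter_subset_inter_left _ CurveTensor.support_tensor_subset) le_rfl)

theorem mul_mem_op (hK : KRR.IsModel X K P φ) (hμ : KDet.IsCap φ μ) (a : K) {b : K} {p : ℕ}
    (hb : b ∈ Op π y μ p) : a * b ∈ Op π y μ p :=
  op_anti (by omega) (op_mul hμ (op_zero hK hμ a) hb)

theorem prod_mem_op (hK : KRR.IsModel X K P φ) (hμ : KDet.IsCap φ μ) {ι : Type*} (s : Finset ι) (f : ι → K)
    (h : ∀ i ∈ s, f i ∈ Op π y μ 1) : ∏ i ∈ s, f i ∈ Op π y μ s.card := by
  classical
  induction s using Finset.induction_on with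
  | empty => exact op_zero hK hμ _
  | insert a s ha ih =>
    rw [Finset.prod_insert ha, Finset.card_insert_of_notMem ha, mul_comm]
    exact op_anti (by omega) (op_mul hμ (ih fun i hi => h i (Finset.mem_insert_of_mem hi))
      (h a (Finset.mem_insert_self _ _)))

variable [IsNoetherian X] [LocallyOfFiniteType π] [QuasiCompact π]

/-- An invertible module with frames near every finite part of the fibre shortens chains by one. -/
theorem one_sub_mem_of_frames (hμ : KDet.IsCap φ μ) {L : X.Modules} (hL : PicF.IsInvertible L)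
    (h : ∀ Zs : Finset X, (∀ z ∈ Zs, π z = y) →
      ∃ (U : X.Opens) (e : Γ(L, U)), InvX.IsFrame e ∧ (Zs : Set X) ⊆ U) :
    1 - φ (KRR.cl X L) ∈ Op π y μ 1 := by
  intro e c hc
  refine ff_le_comap (μ (1 - φ (KRR.cl X L))) _ (fun G hG hs => ?_) hc
  obtain ⟨Zs, hZ, hcut⟩ := exists_cut π (QCoh.isClosed_support_of_isFT hG.1 hG.2) y
  obtain ⟨U, s, hs', hZU⟩ := h Zs fun z hz => (hZ z hz).2
  obtain ⟨J, I, a, b, d, hJ, hI, ha, hb, hd⟩ := Snapper.exists_link_frame hL hs'
  have hLc := AmpleVan.isCoh_invertible hL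
  let F := AmpleVan.tw G
  have hsupp : ∀ A, CohB1.support (F.obj A) ⊆ CohB1.support G := fun A x hx => CurveTensor.support_tensor_subset hx
  have hcoh : ∀ {A}, Coh.IsCoh A → Coh.IsCoh (F.obj A) := fun hA => AmpleVan.isCoh_tensor hA hG
  have hsm : ∀ C' : Set X, IsClosed C' → C' ⊆ CohB1.support G → C' ⊆ (U : Set X)ᶜ →
      Small (C' ∩ π ⁻¹' {y}) e := fun C' h1 h2 h3 =>
    hcut C' h1 h2 (fun z hz hzC => h3 hzC (hZU hz)) e hs
  have e1 := sub_mem_of_isoOn hsm (hcoh hJ) (hcoh QCoh.isCoh_structureModule') (hsupp _) (hsupp _) _ (ha.tensor G)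
  have e2 := sub_mem_of_isoOn hsm (hcoh hJ) (hcoh hI) (hsupp _) (hsupp _) _ (hb.tensor G)
  have e3 := sub_mem_of_isoOn hsm (hcoh hLc) (hcoh hI) (hsupp _) (hsupp _) _ (hd.tensor G)
  have h0 : KDet.clc X (F.obj (Coh.structureModule X)) = KDet.clc X G :=
    PBCohPush.clc_iso (CurveTensor.structureTensorIso G) (hcoh QCoh.isCoh_structureModule') hG
  rw [map_sub, AddMonoidHom.sub_apply, hμ.one_smul, hμ.map_cl L G (LineTwist.lf_invertible hL) hG, ← h0]
  have hm := sub_mem (sub_mem e2 e1) e3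
  simp only [sub_sub_sub_cancel_left, sub_sub_sub_cancel_right] at hm
  exact hm

end Groth.Agent.H23.FibOp
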