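import Groth.Agent.H23.FibLine
import Groth.Agent.H23.CapExists

/-!
# Segre classes of a bundle and the chains over a point
-/

set_option autoImplicit false
set_option linter.style.haveILetI false
set_option linter.unusedSectionVars false
set_option backward.isDefEq.respectTransparency false
set_option backward.isDefEq.respectTransparency.types false

universe v u

open CategoryTheory CategoryTheory.Limits AlgebraicGeometry TopologicalSpace

noncomputable section

namespace Groth.Agent.H23.FibOp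

open Groth.Agent Groth.Agent.H28 Groth.Agent.H23.FibSmall

variable {Z B Y : Scheme.{u}} [IsNoetherian Z] {g : Z ⟶ Y} {y : Y} {n : ℕ}

/-- Direct image keeps the chains short. -/
theorem push_ff [IsNoetherian B] {π : B ⟶ Z} [IsProper π] (D : PBPush.Data π n)
    {p : SGA6.Kcoh B →+ SGA6.Kcoh Z}
    (hp : ∀ F : B.Modules, PBCohPush.Def D 0 F →
      p (KDet.clc B F) = KDet.clc Z ((Scheme.Modules.pushforward π).obj F))
    {e : ℕ} {c : SGA6.Kcoh B} (hc : c ∈ FF (π ≫ g) y e) : p c ∈ FF g y e := by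
  have key : ∀ (j : ℕ) (G : B.Modules), PBCohPush.Def D j G →
      Small (CohB1.support G ∩ (π ≫ g) ⁻¹' {y}) e → p (KDet.clc B G) ∈ FF g y e := by
    intro j
    induction j with
    | zero =>
      intro G hG hw
      rw [hp G hG]
      refine mem_ff (PBCohPush.lf_push_def D hG) ?_
      exact (hw.image π g π.isClosedMap (QCoh.isClosed_support_of_isFT hG.1.1 hG.1.2)).mono
        (Set.inter_subset_inter_left _ (GammaCap.support_push_proper π hG.1)) le_rfl
    | succ j ih =>
      intro G hG hw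
      obtain ⟨f, q, w, hS⟩ := PBCohPush.exists_coresC D G
      have hM := PBCohPush.def_Mf D hG
      have hC := PBCohPush.def_Cf D hG
      have hsum : KDet.clc B (D.Mf.obj G) = KDet.clc B G + KDet.clc B (D.Cf.obj G) :=
        KZ.clSub_ses (fun M : B.Modules => Coh.IsCoh M) hS hG.1 hM.1 hC.1
      rw [show KDet.clc B G = KDet.clc B (D.Mf.obj G) - KDet.clc B (D.Cf.obj G) from eq_sub_of_add_eq hsum.symm,
        map_sub]
      exact sub_mem (ih _ hM (hw.mono (Set.inter_subset_inter_left _ CurveTensor.support_tensor_subset) le_rfl))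
        (ih _ hC (hw.mono (Set.inter_subset_inter_left _ CurveTensor.support_tensor_subset) le_rfl))
  refine ff_le_comap p _ (fun G hG hw => ?_) hc
  obtain ⟨j, hj⟩ := PBCohPush.exists_def D hG
  exact key j G hj hw

/-- A quotient of a pull-back is relatively generated. -/
theorem epi_counit {π : B ⟶ Z} {E : Z.Modules} {L : B.Modules} (q : (Scheme.Modules.pullback π).obj E ⟶ L) [Epi q] :
    Epi ((Scheme.Modules.pullbackPushforwardAdjunction π).counit.app L) := by
  let adj := Scheme.Modules.pullbackPushforwardAdjunction π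
  exact epi_of_epi_fac (f := (Scheme.Modules.pullback π).map (adj.homEquiv _ _ q)) (h := q)
    ((adj.homEquiv_counit _ _ _).symm.trans ((adj.homEquiv _ _).symm_apply_apply q))

variable [LocallyOfFiniteType g] [QuasiCompact g] [QuasiSeparated g]

/-- The Segre classes of a bundle on an integral scheme shorten the chains over a point when finite parts of
the fibre lie in affine opens. -/
theorem exists_segre [IsIntegral Z]
    (hAF : ∀ T : Finset Z, (∀ t ∈ T, g t = y) → ∃ W : Z.Opens, IsAffineOpen W ∧ (T : Set Z) ⊆ W)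
    {e : ℕ} (hZ : Small (g ⁻¹' {y}) e) {E : Z.Modules} (hE : FlatMod.IsFinLocFreeOfRank (n + 1) E)
    {K : Type v} [CommRing K] [LambdaRing.LambdaOps K] {P : LambdaRing.PosStructure K}
    {φ : SGA6.Kvb Z →+ K} (hK : KRR.IsModel Z K P φ) :
    ∃ s : ℕ → SGA6.Kvb Z,
      (∀ m, ∑ k ∈ Finset.range (n + 2),
        LambdaRing.gamma (n + 1 - k) (φ (KRR.cl Z (RefHull.dual E)) - ((n + 1 : ℕ) : K)) * φ (s (m + k)) = 0) ∧
      (∀ l, l ≤ n → φ (s l) = 1) ∧ ∀ i, KFilt.δ Z (s (n + i)) ∈ FF g y (e - i) := by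
  obtain ⟨B, π, O1, q, hPB⟩ := PBMake.exists_of_rank hE
  haveI := PBSplit.isNoetherian hPB hE
  haveI := PBSplit.connectedSpace hPB hE
  haveI := hPB.epi
  have h1 : PicF.IsInvertible O1 := PBCores.isInvertible_iff_rank.2 hPB.invertible
  have hOm : PicF.IsInvertible (Chern.dual O1) := PBCores.isInvertible_iff_rank.2 (Chern.rank_dual hPB.invertible)
  have hOOm : ClSub.IsInverseOf O1 (Chern.dual O1) := Chern.exists_dual_inverse h1
  have hinv : ClSub.IsInverseOf (Chern.dual O1) O1 := by
    obtain ⟨e⟩ := hOOm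
    obtain ⟨c⟩ := H23.PicMul.comm (Chern.dual O1) O1
    exact ⟨c ≪≫ e⟩
  have hOml := LineTwist.lf_invertible hOm
  obtain ⟨D, -, hD2⟩ := PBBasis.exists_data hPB hE (Chern.dual O1) hinv hOml
  haveI := PBCohPush.isProper D
  haveI : Flat π := GammaCap.flat_bundle hPB hE
  obtain ⟨KB, _, _, PB, φB, hKB⟩ := KvbModel.exists_isModel (X := B)
  obtain ⟨pb, hpb, -⟩ := PullVB.existsUnique_isPull π φB φ hK.bijective
  obtain ⟨-, hrel⟩ := AcyclicRes.PBDual.relation hE hPB hOm hOOm hKB hK hpb
  obtain ⟨pK, hpK⟩ := D.exists_pushHom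
  obtain ⟨pC, hpC⟩ := PBCohPush.exists_pushHom D
  obtain ⟨μB, hμB⟩ := CapExists.exists_cap hKB
  let eB := AddEquiv.ofBijective φB hKB.bijective
  set m := φB (KRR.cl B (Chern.dual O1)) with hm
  let gK : KB →+ K := φ.comp (pK.comp eB.symm.toAddMonoidHom)
  have hgB : ∀ y, gK (φB y) = φ (pK y) := fun y =>
    congrArg (fun z => φ (pK z)) (eB.symm_apply_apply y)
  have hgN : ∀ (a : ℕ) (N : Z.Modules), FlatMod.IsFinLocFree N →
      φB (KRR.cl B (PBBasis.gN D a N)) = m ^ a * pb (φ (KRR.cl Z N)) := fun a N hN => by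
    rw [hpb N hN, hm, ← LineTwist.cl_tensorPow hKB hOm a, hKB.map_mul _ _
      (LineTwist.lf_invertible (InvX.isInvertible_tensorPow hOm a)) (KvbPull.lf_pull π hN)]
    rw [show CohB1.tensorPow (Chern.dual O1) a = CohB1.tensorPow D.Oinv a by rw [hD2]]
    rfl
  have hbase : ∀ (a : ℕ) (x : K), a ≤ n → gK (m ^ a * pb x) = if a = 0 then x else 0 := fun a x ha => by
    obtain ⟨A, B', hA, hB', rfl⟩ := KvbPull.exists_cl hK x
    suffices key : ∀ N : Z.Modules, FlatMod.IsFinLocFree N →
        gK (m ^ a * pb (φ (KRR.cl Z N))) = if a = 0 then φ (KRR.cl Z N) else 0 by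
      have e1 := key A hA
      have e2 := key B' hB'
      simp only [map_sub, mul_sub]
      erw [e1, e2]
      split_ifs <;> simp
    intro N hN
    rw [← hgN a N hN, hgB, hpK _ (PBBasis.def_gN D ha hN)]
    split_ifs with h0
    · subst h0
      haveI := PBBasis.isIso_unit D hN
      exact congrArg φ (GenPush.cl_iso ((Scheme.Modules.pushforward π).mapIso (PBBasis.gN_zero D N).some ≪≫
        (asIso ((Scheme.Modules.pullbackPushforwardAdjunction π).unit.app N)).symm)
        (D.lf_push_def (PBBasis.def_gN D ha hN)) hN)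
    · exact (congrArg φ (KZ.clSub_isZero _
        (PBBasis.isZero_push_gN D (Nat.one_le_iff_ne_zero.2 h0) ha hN))).trans (map_zero φ)
  let T : AddSubgroup (SGA6.Kvb B) :=
    { carrier := {y | ∀ x, gK (φB y * pb x) = gK (φB y) * x}
      zero_mem' := fun x => by simp
      add_mem' := fun {a b} ha hb x => by simp only [map_add, add_mul, ha x, hb x]
      neg_mem' := fun {a} ha x => by simp only [map_neg, neg_mul, ha x] }
  have hT : T = ⊤ := PBBasis.eq_top D (S := T) fun a N ha hN x => by
    show gK (φB (KRR.cl B (PBBasis.gN D a N)) * pb x) = gK (φB (KRR.cl B (PBBasis.gN D a N))) * x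
    rw [hgN a N hN, mul_assoc, ← KvbPull.map_mul hKB hK hpb, hbase a _ ha, hbase a _ ha]
    split_ifs <;> simp
  have hproj : ∀ (z : KB) (x : K), gK (z * pb x) = gK z * x := fun z x => by
    obtain ⟨y, rfl⟩ := hKB.bijective.2 z
    exact (show y ∈ T from hT ▸ AddSubgroup.mem_top y) x
  have hline : 1 - m ∈ Op (π ≫ g) y μB 1 := by
    refine one_sub_inv_mem hKB hμB h1 hOm hOOm (one_sub_mem_of_pow hKB hμB h1 fun Zs hZs => ?_)
    classical
    obtain ⟨W, hW, hTW⟩ := hAF (Zs.image π) fun t ht => by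
      obtain ⟨z, hz, rfl⟩ := Finset.mem_image.1 ht
      exact hZs z hz
    exact LocAvoid.exists_frame_pow π h1 (CurveDeg.isCoh_of_isInvertible h1).1 (epi_counit q) hW Zs
      fun z hz => hTW (Finset.mem_image_of_mem π hz)
  refine ⟨fun l => pK (eB.symm ((1 - m) ^ l)), fun j => ?_, fun l hl => ?_, fun i => ?_⟩
  · have h := congrArg (fun z => gK ((1 - m) ^ j * z)) hrel
    simp only [Finset.mul_sum, map_sum, mul_zero, map_zero] at h
    rw [← Finset.sum_range_reflect] at h
    refine Eq.trans (Finset.sum_congr rfl fun k hk => ?_) h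
    rw [Finset.mem_range] at hk
    rw [← mul_assoc, hproj, ← pow_add, show n + 1 + 1 - 1 - k = n + 1 - k by omega,
      show n + 1 - (n + 1 - k) = k by omega, mul_comm]
    rfl
  · show gK ((1 - m) ^ l) = 1
    rw [sub_eq_neg_add, add_pow, map_sum, Finset.sum_eq_single 0]
    · have := hbase 0 1 (Nat.zero_le n)
      rw [KvbPull.map_one hKB hK hpb, if_pos rfl, pow_zero, mul_one] at this
      simpa using this
    · intro a ha ha0
      rw [Finset.mem_range] at ha
      have := hbase a 1 (by omega)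
      rw [KvbPull.map_one hKB hK hpb, if_neg ha0, mul_one] at this
      rw [one_pow, mul_one, neg_pow, show ((-1 : KB) ^ a * m ^ a * (l.choose a : KB)) =
        ((-1 : ℤ) ^ a * (l.choose a : ℤ)) • m ^ a by rw [zsmul_eq_mul]; push_cast; ring, map_zsmul, this, smul_zero]
    · simp
  have hsq : ∀ y : SGA6.Kvb B, KFilt.δ Z (pK y) = pC (KFilt.δ B y) := by
    let T' : AddSubgroup (SGA6.Kvb B) := ((KFilt.δ Z).comp pK - pC.comp (KFilt.δ B)).ker
    have hT' : T' = ⊤ := PBBasis.eq_top D (S := T') fun a N ha hN => sub_eq_zero.2 (by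
      have hd := PBBasis.def_gN D ha hN
      show KFilt.δ Z (pK (KRR.cl B _)) = pC (KFilt.δ B (KRR.cl B _))
      rw [hpK _ hd, KFilt.δ_cl (D.lf_push_def hd), KFilt.δ_cl hd.1]
      exact (hpC _ ⟨PushLocFree.isCoh_of_isFinLocFree hd.1, hd.2⟩).symm)
    exact fun y => sub_eq_zero.1 (show y ∈ T' from hT' ▸ AddSubgroup.mem_top y)
  have hδ : ∀ z : SGA6.Kvb B, KFilt.δ B z = μB (φB z) (KDet.clc B (Coh.structureModule B)) := fun z => by
    refine DFunLike.congr_fun (g := (μB.comp φB).flip (KDet.clc B (Coh.structureModule B)))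
      (KZ.K0sub_hom_ext _ fun F hF => ?_) z
    show KFilt.δ B (KRR.cl B F) = μB (φB (KRR.cl B F)) (KDet.clc B (Coh.structureModule B))
    rw [KFilt.δ_cl hF, hμB.map_cl F _ hF QCoh.isCoh_structureModule']
    obtain ⟨u⟩ := H23.PicMul.unit F
    exact PBCohPush.clc_iso u.symm (PushLocFree.isCoh_of_isFinLocFree hF)
      (CurveTensor.isCoh_tensor hF QCoh.isCoh_structureModule')
  show KFilt.δ Z (pK (eB.symm ((1 - m) ^ (n + i)))) ∈ _
  rw [hsq]
  refine push_ff D hpC ?_
  rw [hδ, show φB (eB.symm ((1 - m) ^ (n + i))) = (1 - m) ^ (n + i) from eB.apply_symm_apply _]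
  have hpow : (1 - m) ^ (n + i) ∈ Op (π ≫ g) y μB (n + i) := by
    have := prod_mem_op (π := π ≫ g) (y := y) hKB hμB (Finset.range (n + i)) (fun _ => 1 - m) fun _ _ => hline
    simpa using this
  refine hpow (e - i) _ (ff_mono (show e + n ≤ e - i + (n + i) by omega) ?_)
  exact mem_ff QCoh.isCoh_structureModule' ((Small.bundle hPB hE g hZ).mono Set.inter_subset_right le_rfl)

end Groth.Agent.H23.FibOp
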