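import Groth.Agent.H23.GammaCap.Bundle
import Groth.Agent.LocImmX.Glue
import Mathlib.AlgebraicGeometry.PullbackCarrier
import Mathlib.AlgebraicGeometry.Morphisms.Proper

/-!
# Sets with short chains of specialisations inside a fibre
-/

set_option autoImplicit false
set_option linter.style.haveILetI false
set_option linter.unusedSectionVars false
set_option backward.isDefEq.respectTransparency false
set_option backward.isDefEq.respectTransparency.types false

universe u

open CategoryTheory CategoryTheory.Limits AlgebraicGeometry TopologicalSpace Order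

noncomputable section

namespace Groth.Agent.H23.FibSmall

open Groth.Agent Groth.Agent.H28 Groth.Agent.H23.GammaCap

variable {X Y Z B : Scheme.{u}}

/-- No chain of `e` strict specialisations fits in `S`; for `e = 0` the set is empty. -/
def Small (S : Set X) (e : ℕ) : Prop := ∀ w : X, ¬ Deep S e w

theorem Small.mono {S S' : Set X} (h : S' ⊆ S) {e e' : ℕ} (he : e ≤ e') (hS : Small S e) : Small S' e' :=
  fun w hw => hS w ((hw.mono h).of_le he)

theorem small_zero_iff {S : Set X} : Small S 0 ↔ ∀ w, w ∉ S := Iff.rfl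

theorem exists_series {S : Set X} : ∀ {p : ℕ} {w : X} (_ : Deep S p w) (hw : w ∈ S),
    ∃ l : LTSeries (IrreducibleCloseds ↥S), l.length = p ∧ (l.head : Set ↥S) = closure {(⟨w, hw⟩ : ↥S)}
  | 0, w, _, hw => ⟨RelSeries.singleton _ ⟨closure {(⟨w, hw⟩ : ↥S)}, isIrreducible_singleton.closure, isClosed_closure⟩,
      rfl, rfl⟩
  | p + 1, w, ⟨_, v, hv, hs, hne⟩, hw => by
    obtain ⟨l, hl, hh⟩ := exists_series hv hv.mem
    let t : IrreducibleCloseds ↥S := ⟨closure {(⟨w, hw⟩ : ↥S)}, isIrreducible_singleton.closure, isClosed_closure⟩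
    have hs' : (⟨v, hv.mem⟩ : ↥S) ⤳ ⟨w, hw⟩ := (subtype_specializes_iff _ _).2 hs
    have hlt : t < l.head := by
      refine lt_of_le_of_ne ?_ fun he => ?_
      · show (t : Set ↥S) ⊆ l.head
        rw [hh]
        exact hs'.closure_subset
      · have h2 : (⟨v, hv.mem⟩ : ↥S) ∈ (t : Set ↥S) := by rw [he, hh]; exact subset_closure rfl
        exact hne ((Specializes.antisymm hs
          ((subtype_specializes_iff _ _).1 (specializes_iff_mem_closure.2 h2))).eq)
    exact ⟨l.cons t hlt, by simp [hl], by simp [t]⟩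

theorem small_of_dim {S : Set X} {d : ℕ} (h : topologicalKrullDim ↥S ≤ (d : WithBot ℕ∞)) : Small S (d + 1) := by
  intro w hw
  obtain ⟨l, hl, -⟩ := exists_series hw hw.mem
  have h1 : ((d + 1 : ℕ) : WithBot ℕ∞) ≤ topologicalKrullDim ↥S :=
    le_krullDim_iff.2 ⟨l, hl⟩
  have := h1.trans h
  norm_cast at this
  omega

/-- Chains in a closed image lift. -/
theorem exists_lift (f : B ⟶ Z) (g : Z ⟶ Y) (hf : IsClosedMap f) {C : Set B} (hC : IsClosed C) {y : Y} :
    ∀ {p : ℕ} {z : Z}, Deep (f '' C ∩ g ⁻¹' {y}) p z → ∃ b : B, f b = z ∧ Deep (C ∩ (f ≫ g) ⁻¹' {y}) p b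
  | 0, z, ⟨⟨b, hb, hbz⟩, hy⟩ => ⟨b, hbz, hb, by subst hbz; exact hy⟩
  | p + 1, z, ⟨⟨_, hy⟩, v, hv, hs, hne⟩ => by
    obtain ⟨a, ha, hda⟩ := exists_lift f g hf hC hv
    have hz : z ∈ f '' closure {a} :=
      hs.mem_closed (hf _ isClosed_closure) ⟨a, subset_closure rfl, ha⟩
    obtain ⟨b, hb, hbz⟩ := hz
    refine ⟨b, hbz, ⟨hC.closure_subset_iff.2 (Set.singleton_subset_iff.2 hda.mem.1) hb, ?_⟩, a, hda,
      specializes_iff_mem_closure.2 hb, fun h => hne (ha ▸ hbz ▸ congrArg f h)⟩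
    subst hbz
    exact hy

theorem Small.image (f : B ⟶ Z) (g : Z ⟶ Y) (hf : IsClosedMap f) {C : Set B} (hC : IsClosed C) {y : Y}
    {e : ℕ} (h : Small (C ∩ (f ≫ g) ⁻¹' {y}) e) : Small (f '' C ∩ g ⁻¹' {y}) e := fun _ hw => by
  obtain ⟨b, -, hb⟩ := exists_lift f g hf hC hw
  exact h b hb

theorem deep_preimage (i : Z ⟶ X) (S : Set X) :
    ∀ {p : ℕ} {z : Z}, Function.Injective i → Deep (i ⁻¹' S) p z → Deep S p (i z)
  | 0, _, _, h => h
  | _ + 1, _, hi, ⟨hw, v, hv, hs, hne⟩ =>
    ⟨hw, i v, deep_preimage i S hi hv, hs.map i.continuous, fun h => hne (hi h)⟩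

/-- Small sets pull back along closed immersions. -/
theorem Small.preimage (i : Z ⟶ X) (hi : Function.Injective i) (f : X ⟶ Y) {C : Set X} {y : Y} {e : ℕ}
    (h : Small (C ∩ f ⁻¹' {y}) e) : Small (i ⁻¹' C ∩ (i ≫ f) ⁻¹' {y}) e :=
  fun w hw => h (i w) (deep_preimage i _ hi hw)

/-- Along a map with fibres of dimension at most `n` the chains grow by at most `n`. -/
theorem Small.bundle [IsNoetherian B] [IsNoetherian Z] {π : B ⟶ Z} {n : ℕ} {E : Z.Modules} {O1 : B.Modules}
    {q : (Scheme.Modules.pullback π).obj E ⟶ O1} (hP : KRR.IsProjBundle π E O1 q)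
    (hE : FlatMod.IsFinLocFreeOfRank (n + 1) E) [IsProper π] (g : Z ⟶ Y) [LocallyOfFiniteType g] [QuasiCompact g] {y : Y} {e : ℕ}
    (h : Small (g ⁻¹' {y}) e) : Small ((π ≫ g) ⁻¹' {y}) (e + n) := by
  intro b hb
  let ι := g.fiberι y
  let fst := pullback.fst π ι
  let snd := pullback.snd π ι
  haveI : IsLocallyNoetherian (g.fiber y) := DimFormula.isLocallyNoetherian_fiber g y
  haveI : IsNoetherian (g.fiber y) := {}
  haveI : IsNoetherian (pullback π ι) := LocImmX.isNoetherian_of_finiteType snd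
  have hdim : ∀ z, topologicalKrullDim ↥(snd.fiber z) ≤ (n : WithBot ℕ∞) :=
    GammaCap.dim_fibre (ProjBd.isProjBundle_baseChange (IsPullback.of_hasPullback π ι) hP)
      (LineTwist.rank_pull ι hE)
  have hr : Set.range fst = (π ≫ g) ⁻¹' {y} := by
    rw [Scheme.Pullback.range_fst, Scheme.Hom.range_fiberι]
    rfl
  rw [← hr] at hb
  obtain ⟨b', -, hb'⟩ := hb.exists_map fst fst.isEmbedding.isInducing
  have := ((hb'.push snd hdim).map ι ι.isEmbedding.injective)
  rw [Scheme.Hom.range_fiberι] at this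
  exact h _ this

/-- The finitely many maximal points of a closed set in a fibre. -/
theorem exists_cut [IsNoetherian X] (f : X ⟶ Y) [LocallyOfFiniteType f] [QuasiCompact f] {C : Set X}
    (hC : IsClosed C) (y : Y) :
    ∃ Zs : Finset X, (∀ z ∈ Zs, z ∈ C ∧ f z = y) ∧ ∀ C' : Set X, IsClosed C' → C' ⊆ C → (∀ z ∈ Zs, z ∉ C') →
      ∀ e : ℕ, Small (C ∩ f ⁻¹' {y}) (e + 1) → Small (C' ∩ f ⁻¹' {y}) e := by
  classical
  let ι := f.fiberι y
  haveI : IsLocallyNoetherian (f.fiber y) := DimFormula.isLocallyNoetherian_fiber f y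
  haveI : IsNoetherian (f.fiber y) := {}
  let T : Set (f.fiber y) := ι ⁻¹' C
  have hT : IsClosed T := hC.preimage ι.continuous
  haveI : QuasiSober ↥T := hT.isClosedEmbedding_subtypeVal.quasiSober
  have hfin : (genericPoints ↥T).Finite := genericPoints.finite NoetherianSpace.finite_irreducibleComponents
  refine ⟨hfin.toFinset.image fun t => ι t.1, fun z hz => ?_, fun C' hC' hsub hdisj e he w hw => ?_⟩
  · obtain ⟨t, -, rfl⟩ := Finset.mem_image.1 hz
    refine ⟨t.2, ?_⟩
    have := Set.mem_range_self (f := ι) t.1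
    rw [Scheme.Hom.range_fiberι] at this
    exact this
  refine he w ?_
  rw [add_comm]
  refine Deep.trans (q := 1) (fun v hv => ?_) hw
  refine ⟨⟨hsub hv.1, hv.2⟩, ?_⟩
  obtain ⟨t, rfl⟩ : v ∈ Set.range ι := by rw [Scheme.Hom.range_fiberι]; exact hv.2
  let t' : ↥T := ⟨t, hsub hv.1⟩
  let γ := genericPoints.ofComponent (⟨irreducibleComponent t', irreducibleComponent_mem_irreducibleComponents t'⟩ :
    irreducibleComponents ↥T)
  have hγ : γ.1 ⤳ t' := (IsGenericPoint.specializes (isGenericPoint_closure) (by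
    have hg : genericPoints.component γ = ⟨irreducibleComponent t', irreducibleComponent_mem_irreducibleComponents t'⟩ :=
      genericPoints.component_ofComponent _
    rw [show closure {γ.1} = irreducibleComponent t' from congrArg Subtype.val hg]
    exact mem_irreducibleComponent))
  have hs : ι γ.1.1 ⤳ ι t := ((subtype_specializes_iff _ _).1 hγ).map ι.continuous
  have hmem : ι γ.1.1 ∈ C ∩ f ⁻¹' {y} := by
    refine ⟨γ.1.2, ?_⟩
    have := Set.mem_range_self (f := ι) γ.1.1
    rw [Scheme.Hom.range_fiberι] at this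
    exact this
  refine ⟨ι γ.1.1, hmem, hs, fun heq => hdisj _ (Finset.mem_image.2 ⟨γ.1, hfin.mem_toFinset.2 γ.2, rfl⟩) ?_⟩
  rw [heq]
  exact hv.1

end Groth.Agent.H23.FibSmall
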