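import Groth.Agent.H23.FiniteFibreSum

/-! The generic fibre of the closure of a point over a generic point of the base. -/

set_option autoImplicit false
set_option linter.style.haveILetI false
set_option backward.isDefEq.respectTransparency false

universe u

open CategoryTheory CategoryTheory.Limits AlgebraicGeometry TopologicalSpace

namespace Groth.Agent.H23.FibreClosure

open Groth.Agent

theorem eq_of_specializes_maximal {S : Scheme.{u}} {s t : S} (hs : closure {s} ∈ irreducibleComponents ↥S)
    (h : t ⤳ s) : t = s := by
  have h1 : closure {s} ⊆ closure {t} := closure_minimal (Set.singleton_subset_iff.2 h.mem_closure) isClosed_closure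
  have h2 := hs.eq_of_subset isIrreducible_singleton.closure h1
  exact ((specializes_iff_mem_closure.2 (h2.symm ▸ subset_closure rfl : t ∈ closure {s})).antisymm h).eq.symm

theorem surjective_closedPoint {S : Scheme.{u}} {s : S} (hs : closure {s} ∈ irreducibleComponents ↥S) :
    Surjective (Spec.map (S.residue s)) := by
  refine ⟨fun p => ?_⟩
  have hp : S.fromSpecStalk s p ⤳ s := by
    have : S.fromSpecStalk s p ∈ Set.range (S.fromSpecStalk s) := ⟨p, rfl⟩
    rwa [Scheme.range_fromSpecStalk] at this
  refine ⟨default, (S.fromSpecStalk s).isEmbedding.injective ?_⟩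
  rw [eq_of_specializes_maximal hs hp]
  have : S.fromSpecResidueField s default ∈ Set.range (S.fromSpecResidueField s) := ⟨_, rfl⟩
  rw [Scheme.range_fromSpecResidueField] at this
  exact this

theorem isReduced_fibre {Z S : Scheme.{u}} [IsReduced Z] (g : Z ⟶ S) {s : S}
    (hs : closure {s} ∈ irreducibleComponents ↥S) : IsReduced (pullback g (S.fromSpecResidueField s)) := by
  haveI : Flat (S.fromSpecStalk s) := GrpSchLib.flat_fromSpecStalk s
  haveI : IsPreimmersion (pullback.fst g (S.fromSpecStalk s)) := MorphismProperty.pullback_fst _ _ inferInstance
  haveI : Flat (pullback.fst g (S.fromSpecStalk s)) := MorphismProperty.pullback_fst _ _ inferInstance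
  haveI : ∀ t : ↥(pullback g (S.fromSpecStalk s)),
      _root_.IsReduced ((pullback g (S.fromSpecStalk s)).presheaf.stalk t) := fun t =>
    isReduced_of_injective
      (RingEquiv.ofBijective _ (H23.FiniteFibreSum.bijective_stalkMap (pullback.fst g (S.fromSpecStalk s)) t)).symm
      (RingEquiv.ofBijective _ (H23.FiniteFibreSum.bijective_stalkMap (pullback.fst g (S.fromSpecStalk s)) t)).symm.injective
  haveI : IsReduced (pullback g (S.fromSpecStalk s)) := isReduced_of_isReduced_stalk _
  have he : Spec.map (S.residue s) ≫ S.fromSpecStalk s = S.fromSpecResidueField s := rfl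
  let j : pullback g (S.fromSpecResidueField s) ⟶ pullback g (S.fromSpecStalk s) :=
    pullback.map _ _ _ _ (𝟙 Z) (Spec.map (S.residue s)) (𝟙 S) ((Category.comp_id _).trans (Category.id_comp _).symm)
      ((Category.comp_id _).trans he.symm)
  have sq : IsPullback j (pullback.snd g (S.fromSpecResidueField s)) (pullback.snd g (S.fromSpecStalk s))
      (Spec.map (S.residue s)) := by
    refine IsPullback.of_right ?_ (pullback.lift_snd _ _ _) (IsPullback.of_hasPullback g (S.fromSpecStalk s))
    rw [pullback.lift_fst, Category.comp_id, he]
    exact IsPullback.of_hasPullback g (S.fromSpecResidueField s)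
  haveI : IsClosedImmersion (Spec.map (S.residue s)) :=
    IsClosedImmersion.spec_of_surjective _ (S.residue_surjective s)
  haveI : IsClosedImmersion j := MorphismProperty.of_isPullback sq.flip inferInstance
  haveI := surjective_closedPoint hs
  haveI : Surjective j := MorphismProperty.of_isPullback sq.flip inferInstance
  haveI := isIso_of_isClosedImmersion_of_surjective j
  exact isReduced_of_isOpenImmersion j

theorem exists_point {X S : Scheme.{u}} (f : X ⟶ S) (z : X) :
    ∃ w : ↥(pullback f (S.fromSpecResidueField (f z))), pullback.fst f (S.fromSpecResidueField (f z)) w = z := by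
  have : z ∈ Set.range (pullback.fst f (S.fromSpecResidueField (f z))) := by
    rw [Scheme.Pullback.range_fst, Scheme.range_fromSpecResidueField]
    rfl
  exact this

end Groth.Agent.H23.FibreClosure
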