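import Groth.Agent.H23.StalkPrimes
import Groth.Agent.H23.SetupLFT
import Groth.Agent.CycLib.P1Div
import Groth.Prelude.Def_AlgEqCyc
import Mathlib.AlgebraicGeometry.AlgClosed.Basic
import Mathlib.RingTheory.Artinian.Ring
import Mathlib.RingTheory.FiniteLength

/-! A family with finite fibres whose general member vanishes is zero. -/

set_option autoImplicit false
set_option linter.style.haveILetI false

universe u

open AlgebraicGeometry CategoryTheory CategoryTheory.Limits IsLocalRing TopologicalSpace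

namespace Groth.Agent.H23.FibreVanish

open Groth.Agent CDiv6 StalkPrimes

theorem primeOf_eq_ker {P : Scheme.{u}} {v w : P} (h : w ⤳ v) :
    (primeOf h).asIdeal = RingHom.ker (Cyc.specMap v w h) := by
  ext r
  rw [mem_primeOf h r, RingHom.mem_ker]
  constructor
  · intro hr
    exact (IsLocalRing.residue_eq_zero_iff _).2 hr
  · intro hr
    exact (IsLocalRing.residue_eq_zero_iff _).1 hr

/-- The multiplicity at an isolated point of the fibre is positive. -/
theorem fibreMult_ne_zero {P C : Scheme.{u}} [IsLocallyNoetherian P] (g : P ⟶ C) {v w : P} (h : w ⤳ v)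
    (hiso : ∀ z : P, w ⤳ z → z ⤳ v → g z = g v → z = v) : AlgEqCyc.fibreMult g v w h ≠ 0 := by
  unfold AlgEqCyc.fibreMult
  set J : Ideal (Cyc.LocQuot v w h) := (maximalIdeal (C.presheaf.stalk (g v))).map
    ((Ideal.Quotient.mk (RingHom.ker (Cyc.specMap v w h))).comp (g.stalkMap v).hom) with hJ
  have hkerle : RingHom.ker (Cyc.specMap v w h) ≤ maximalIdeal (P.presheaf.stalk v) :=
    IsLocalRing.le_maximalIdeal (RingHom.ker_ne_top _)
  have hJ' : J ≠ ⊤ := by
    intro e
    have h1 : J ≤ (maximalIdeal (P.presheaf.stalk v)).map (Ideal.Quotient.mk (RingHom.ker (Cyc.specMap v w h))) := by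
      rw [hJ, ← Ideal.map_map]
      refine Ideal.map_mono (Ideal.map_le_iff_le_comap.2 fun a ha => ?_)
      rw [Ideal.mem_comap, mem_maximalIdeal, mem_nonunits_iff]
      intro hu
      exact (mem_maximalIdeal a).1 ha (IsUnit.of_map (g.stalkMap v).hom a hu)
    rw [e, top_le_iff] at h1
    have h2 := congrArg (Ideal.comap (Ideal.Quotient.mk (RingHom.ker (Cyc.specMap v w h)))) h1
    rw [Ideal.comap_map_of_surjective _ Ideal.Quotient.mk_surjective, ← RingHom.ker_eq_comap_bot, Ideal.mk_ker,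
      sup_eq_left.2 hkerle, Ideal.comap_top] at h2
    exact (maximalIdeal.isMaximal _).ne_top h2
  haveI : Nontrivial (Cyc.LocQuot v w h ⧸ J) := Ideal.Quotient.nontrivial_iff.2 hJ'
  haveI : Ring.KrullDimLE 0 (Cyc.LocQuot v w h ⧸ J) := Ring.krullDimLE_zero_iff.2 fun q hq => by
    let π := (Ideal.Quotient.mk J).comp (Ideal.Quotient.mk (RingHom.ker (Cyc.specMap v w h)))
    have hπ : Function.Surjective π := Ideal.Quotient.mk_surjective.comp Ideal.Quotient.mk_surjective
    haveI : (q.comap π).IsPrime := inferInstance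
    obtain ⟨z, hz, hzq⟩ := exists_point (X := P) (q.comap π)
    have h1 : w ⤳ z := by
      refine (primeOf_le_iff hz h).1 ?_
      rw [hzq, primeOf_eq_ker]
      intro r hr
      rw [Ideal.mem_comap]
      show Ideal.Quotient.mk J (Ideal.Quotient.mk _ r) ∈ q
      rw [Ideal.Quotient.eq_zero_iff_mem.2 hr, map_zero]
      exact q.zero_mem
    have h2 : g z = g v := by
      have h3 := comap_primeOf g hz
      refine (((hz.map g.continuous).antisymm ?_).eq)
      refine (primeOf_le_iff (hz.map g.continuous) specializes_rfl).1 ?_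
      refine le_trans (IsLocalRing.le_maximalIdeal (Ideal.IsPrime.ne_top inferInstance)) ?_
      rw [← h3, hzq]
      intro a ha
      rw [Ideal.mem_comap, Ideal.mem_comap]
      show Ideal.Quotient.mk J _ ∈ q
      have hmem : ((Ideal.Quotient.mk (RingHom.ker (Cyc.specMap v w h))).comp (g.stalkMap v).hom) a ∈ J :=
        Ideal.mem_map_of_mem _ ha
      exact (Ideal.Quotient.eq_zero_iff_mem.2 hmem : _ = _) ▸ q.zero_mem
    have h4 := hiso z h1 hz h2
    subst h4
    have hmax : q.comap π = maximalIdeal (P.presheaf.stalk z) := by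
      refine le_antisymm (IsLocalRing.le_maximalIdeal (Ideal.IsPrime.ne_top inferInstance)) fun r hr => ?_
      rw [← hzq, mem_primeOf hz r]
      have he : (P.presheaf.stalkSpecializes hz).hom r = r := by
        rw [TopCat.Presheaf.stalkSpecializes_refl]
        rfl
      rw [he]
      exact hr
    haveI : (q.comap π).IsMaximal := hmax ▸ maximalIdeal.isMaximal _
    have h5 := Ideal.map_eq_top_or_isMaximal_of_surjective π hπ ‹(q.comap π).IsMaximal›
    rw [Ideal.map_comap_of_surjective π hπ q] at h5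
    exact h5.resolve_left hq.ne_top
  haveI : IsArtinianRing (Cyc.LocQuot v w h ⧸ J) := isArtinianRing_iff_krullDimLE_zero.2 ‹_›
  have hlen : Module.length (P.presheaf.stalk v) (Cyc.LocQuot v w h ⧸ J) =
      Module.length (Cyc.LocQuot v w h ⧸ J) (Cyc.LocQuot v w h ⧸ J) :=
    Module.length_eq_of_surjective
      (show Function.Surjective (algebraMap (P.presheaf.stalk v) (Cyc.LocQuot v w h ⧸ J)) from
        Ideal.Quotient.mk_surjective.comp Ideal.Quotient.mk_surjective)
  intro e
  rcases ENat.toNat_eq_zero.1 e with h0 | htop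
  · exact (Module.length_pos (R := P.presheaf.stalk v) (M := Cyc.LocQuot v w h ⧸ J)).ne' h0
  · rw [hlen] at htop
    exact Module.length_ne_top (R := Cyc.LocQuot v w h ⧸ J) (M := Cyc.LocQuot v w h ⧸ J) htop

theorem mem_closedPoints_of_finite {T : Type*} [TopologicalSpace T] [T0Space T] [JacobsonSpace T] {F : Set T}
    (hc : IsClosed F) (hf : F.Finite) {z : T} (hz : z ∈ F) : z ∈ closedPoints T := by
  rw [mem_closedPoints_iff]
  refine isClosed_singleton_of_isLocallyClosed_singleton ?_
  have h1 : (closure {z} ∩ {z}ᶜ).Finite :=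
    (hf.subset (hc.closure_subset_iff.2 (Set.singleton_subset_iff.2 hz))).subset Set.inter_subset_left
  have e : ({z} : Set T) = closure {z} ∩ (⋃ y ∈ closure {z} ∩ {z}ᶜ, closure {y})ᶜ := by
    refine subset_antisymm ?_ ?_
    · rintro _ rfl
      refine ⟨subset_closure rfl, ?_⟩
      simp only [Set.mem_compl_iff, Set.mem_iUnion, not_exists]
      intro y ⟨hy, hyz⟩ h
      exact hyz ((specializes_iff_mem_closure.2 h).antisymm (specializes_iff_mem_closure.2 hy)).eq
    · rintro y ⟨hy, hy'⟩
      by_contra hne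
      exact hy' (Set.mem_biUnion ⟨hy, hne⟩ (subset_closure rfl))
  rw [e]
  exact isClosed_closure.isLocallyClosed.inter
    (h1.isClosed_biUnion fun y _ => isClosed_closure).isOpen_compl.isLocallyClosed

variable {k : Type u} [Field k] [IsAlgClosed k] {X W : Scheme.{u}}

/-- A cycle all of whose general fibre cycles vanish and whose components are finite over an open is zero. -/
theorem eq_zero (p : X ⟶ Spec (CommRingCat.of k)) (q : W ⟶ Spec (CommRingCat.of k)) [LocallyOfFiniteType p]
    [LocallyOfFiniteType q] [IrreducibleSpace W] {δ : ↥(pullback p q) → ℤ} {n : ℤ}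
    (hδ : Cyc.DeltaCompat (pullback.fst p q ≫ p) δ (fun _ => 0))
    (Γ : AlgebraicCycle (pullback p q) ℤ) (hΓ : ∀ ξ, Γ ξ ≠ 0 → δ ξ = n)
    (hvert : ∀ ξ, Γ ξ ≠ 0 → pullback.snd p q ξ = genericPoint W)
    (U : W.Opens) (hU : (U : Set W).Nonempty)
    (hfin : ∀ ξ, Γ ξ ≠ 0 → ∀ w ∈ U, (closure {ξ} ∩ pullback.snd p q ⁻¹' {w}).Finite)
    (hzero : ∀ (u : Spec (CommRingCat.of k) ⟶ W) (hu : u ≫ q = 𝟙 _),
      u (IsLocalRing.closedPoint k) ∈ U → ∀ x : X, AlgEqCyc.fibreFun p q Γ u hu x = 0) :
    Γ = 0 := by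
  by_contra hne
  obtain ⟨ξ₀, hξ₀⟩ : ∃ ξ, Γ ξ ≠ 0 := by
    by_contra h'
    simp only [not_exists, not_not] at h'
    exact hne (DFunLike.ext _ _ h')
  have hS : Cyc.IsSetup (pullback p q) δ :=
    SetupLFT.isSetup (pullback.fst p q ≫ p) (CycLib.isSetup_spec_field k) hδ
  haveI := hS.1
  obtain ⟨N, hN, hNfin⟩ := Γ.supportLocallyFiniteWithinDomain' ξ₀ trivial
  obtain ⟨N', hN'N, hN'o, hξN⟩ := mem_nhds_iff.1 hN
  let T : Set ↥(pullback p q) := (N' ∩ Function.support ⇑Γ) \ {ξ₀}
  have hT : T.Finite := (hNfin.subset (Set.inter_subset_inter_left _ hN'N)).sdiff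
  let O : Set ↥(pullback p q) := N' ∩ pullback.snd p q ⁻¹' (U : Set W) ∩ (⋃ t ∈ T, closure {t})ᶜ
  have hOo : IsOpen O :=
    ((hN'o.inter (U.2.preimage (pullback.snd p q).continuous)).inter
      (hT.isClosed_biUnion fun t _ => isClosed_closure).isOpen_compl)
  have hξO : ξ₀ ∈ O := by
    refine ⟨⟨hξN, ?_⟩, ?_⟩
    · show pullback.snd p q ξ₀ ∈ U
      rw [hvert ξ₀ hξ₀]
      exact ((genericPoint_spec W).mem_open_set_iff U.2).2 (by simpa using hU)
    · simp only [Set.mem_compl_iff, Set.mem_iUnion, not_exists]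
      intro t ht h
      have hs : t ⤳ ξ₀ := specializes_iff_mem_closure.2 h
      obtain ⟨⟨-, ht1⟩, ht2⟩ := ht
      have h2 := (hS.2.2 t ξ₀ hs ht2).1
      rw [hΓ t ht1, hΓ ξ₀ hξ₀] at h2
      exact lt_irrefl _ h2
  haveI : JacobsonSpace ↥(pullback p q) := LocallyOfFiniteType.jacobsonSpace (pullback.fst p q ≫ p)
  haveI : JacobsonSpace W := LocallyOfFiniteType.jacobsonSpace q
  obtain ⟨v, ⟨hvO, hvξ⟩, hvc⟩ :=
    nonempty_inter_closedPoints (Z := O ∩ closure {ξ₀}) ⟨ξ₀, hξO, subset_closure rfl⟩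
      (hOo.isLocallyClosed.inter isClosed_closure.isLocallyClosed)
  let P : Spec (CommRingCat.of k) ⟶ pullback p q := pointOfClosedPoint (pullback.fst p q ≫ p) v hvc
  have hP : P ≫ pullback.fst p q ≫ p = 𝟙 _ := pointOfClosedPoint_comp _ _ _
  have hPv : ∀ a, P a = v := pointOfClosedPoint_apply _ _ _
  let u := P ≫ pullback.snd p q
  have hu : u ≫ q = 𝟙 _ := by rw [Category.assoc, ← pullback.condition, hP]
  have huU : u (IsLocalRing.closedPoint k) ∈ U := by
    exact (congrArg (fun a => pullback.snd p q a ∈ U) (hPv (IsLocalRing.closedPoint k))).mpr hvO.1.2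
  let x := pullback.fst p q v
  have hsl : AlgEqCyc.slice p q u hu x = v := by
    have hxP : (P ≫ pullback.fst p q) (IsLocalRing.closedPoint k) = x :=
      congrArg (fun a => pullback.fst p q a) (hPv (IsLocalRing.closedPoint k))
    have h1 : (P ≫ pullback.fst p q) ≫ AlgEqCyc.slice p q u hu = P := by
      refine pullback.hom_ext ?_ ?_
      · rw [AlgEqCyc.slice, Category.assoc, pullback.lift_fst, Category.comp_id]
      · rw [AlgEqCyc.slice, Category.assoc, pullback.lift_snd, ← Category.assoc, Category.assoc P, hP,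
          Category.id_comp]
    rw [← hxP]
    show ((P ≫ pullback.fst p q) ≫ AlgEqCyc.slice p q u hu) (IsLocalRing.closedPoint k) = v
    rw [h1]
    exact hPv (IsLocalRing.closedPoint k)
  have h0 := hzero u hu huU x
  unfold AlgEqCyc.fibreFun at h0
  have hsp : ξ₀ ⤳ AlgEqCyc.slice p q u hu x := by rw [hsl]; exact specializes_iff_mem_closure.2 hvξ
  rw [finsum_eq_single _ (⟨ξ₀, hξ₀, hsp⟩ : {w : ↥(pullback p q) // Γ w ≠ 0 ∧ w ⤳ AlgEqCyc.slice p q u hu x})] at h0
  · rcases mul_eq_zero.1 h0 with h0 | h0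
    · exact hξ₀ h0
    · refine fibreMult_ne_zero (pullback.snd p q) hsp (fun z hz hzv hg => ?_) (by exact_mod_cast h0)
      have hmem : z ∈ closure {ξ₀} ∩ pullback.snd p q ⁻¹' {pullback.snd p q (AlgEqCyc.slice p q u hu x)} :=
        ⟨specializes_iff_mem_closure.1 hz, hg⟩
      have hF := hfin ξ₀ hξ₀ (pullback.snd p q (AlgEqCyc.slice p q u hu x)) (by rw [hsl]; exact hvO.1.2)
      have hclosed : IsClosed (closure {ξ₀} ∩ pullback.snd p q ⁻¹' {pullback.snd p q (AlgEqCyc.slice p q u hu x)}) := by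
        refine isClosed_closure.inter (IsClosed.preimage (pullback.snd p q).continuous ?_)
        rw [hsl]
        have := ((pointEquivClosedPoint q) ⟨u, hu⟩).2
        rw [mem_closedPoints_iff, pointEquivClosedPoint_apply_coe] at this
        exact (congrArg (fun a => IsClosed ({pullback.snd p q a} : Set W)) (hPv (IsLocalRing.closedPoint k))).mp this
      have hzc : z ∈ closedPoints ↥(pullback p q) :=
        mem_closedPoints_of_finite hclosed hF hmem
      exact (hzv.mem_closed (mem_closedPoints_iff.1 hzc) rfl : AlgEqCyc.slice p q u hu x ∈ ({z} : Set _)).symm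
  · rintro ⟨w, hw, hws⟩ hne'
    exfalso
    have hws' : w ⤳ v := hsl ▸ hws
    have hwN : w ∈ N' := hws'.mem_open hN'o hvO.1.1
    refine hvO.2 ?_
    exact Set.mem_biUnion ⟨⟨hwN, hw⟩, fun e => hne' (Subtype.ext e)⟩ (specializes_iff_mem_closure.1 hws')

end Groth.Agent.H23.FibreVanish
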