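import Groth.Agent.H23.Frame
import Groth.Prelude.Def_FinCov
import Mathlib.RingTheory.Localization.NormTrace

/-!
The trace of a finite locally free quasi-coherent algebra.
-/

universe u

open CategoryTheory CategoryTheory.Limits AlgebraicGeometry TopologicalSpace Opposite

namespace Groth.Agent.H23.FinTrace

/-- Traces commute with maps carrying a basis to a basis. -/
theorem trace_map {R R' S S' : Type*} [CommRing R] [CommRing R'] [CommRing S] [CommRing S']
    [Algebra R S] [Algebra R' S'] (ρ : R →+* R') (σ : S →+* S')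
    (hc : ∀ r, σ (algebraMap R S r) = algebraMap R' S' (ρ r)) {ι : Type*} [Fintype ι]
    (b : Module.Basis ι R S) (b' : Module.Basis ι R' S') (hb : ∀ i, b' i = σ (b i)) (a : S) :
    Algebra.trace R' S' (σ a) = ρ (Algebra.trace R S a) := by
  classical
  rw [Algebra.trace_eq_matrix_trace b', Algebra.trace_eq_matrix_trace b]
  simp only [Matrix.trace, Matrix.diag, map_sum, Algebra.leftMulMatrix_eq_repr_mul]
  refine Finset.sum_congr rfl fun i _ => ?_
  have h : σ a * b' i = ∑ j, ρ (b.repr (a * b i) j) • b' j := by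
    rw [hb, ← map_mul]
    conv_lhs => rw [← b.sum_repr (a * b i)]
    simp only [map_sum, Algebra.smul_def, map_mul, hc, hb]
  rw [h, b'.repr_sum_self]

variable {X : Scheme.{u}} (A : RelSpec.QCAlg X) {n : ℕ}

/-- The algebra of sections. -/
@[reducible] noncomputable def alg (W : X.Opens) : Algebra Γ(X, W) (A.presheaf.obj (op W)) :=
  (A.str.app (op W)).hom.toAlgebra

/-- The trace over an open. -/
noncomputable def trW (W : X.Opens) (a : A.presheaf.obj (op W)) : Γ(X, W) :=
  letI := alg A W
  Algebra.trace Γ(X, W) (A.presheaf.obj (op W)) a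

theorem trW_add (W : X.Opens) (a b : A.presheaf.obj (op W)) : trW A W (a + b) = trW A W a + trW A W b :=
  letI := alg A W
  map_add (Algebra.trace Γ(X, W) (A.presheaf.obj (op W))) a b

theorem trW_str_mul (W : X.Opens) (r : Γ(X, W)) (a : A.presheaf.obj (op W)) :
    trW A W ((A.str.app (op W)).hom r * a) = r * trW A W a :=
  letI := alg A W
  map_smul (Algebra.trace Γ(X, W) (A.presheaf.obj (op W))) r a

/-- The combination in the algebra. -/
noncomputable def combA {U : X.Opens} (s : Fin n → A.presheaf.obj (op U)) (W : X.Opens) (h : W ≤ U)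
    (c : Fin n → Γ(X, W)) : A.presheaf.obj (op W) :=
  ∑ i, (A.str.app (op W)).hom (c i) * A.presheaf.map (homOfLE h).op (s i)

/-- A frame of the algebra. -/
def IsFrameA {U : X.Opens} (s : Fin n → A.presheaf.obj (op U)) : Prop :=
  ∀ (W : X.Opens) (h : W ≤ U), Function.Bijective (combA A s W h)

theorem isFrameA_iff {U : X.Opens} (s : Fin n → A.presheaf.obj (op U)) :
    IsFrameA A s ↔ Frame.IsFrame A.toModule (U := U) s := Iff.rfl

/-- The basis on a smaller open given by a frame. -/
noncomputable def basisA {U : X.Opens} {s : Fin n → A.presheaf.obj (op U)} (hs : IsFrameA A s) (W : X.Opens)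
    (h : W ≤ U) : letI := alg A W; Module.Basis (Fin n) Γ(X, W) (A.presheaf.obj (op W)) :=
  letI := alg A W
  Module.Basis.ofEquivFun (LinearEquiv.ofBijective
    ({ toFun := combA A s W h
       map_add' := fun c d => by simp [combA, add_mul, Finset.sum_add_distrib]
       map_smul' := fun r c => by
        show combA A s W h (r • c) = (A.str.app (op W)).hom r * combA A s W h c
        simp [combA, Finset.mul_sum, mul_assoc] } : (Fin n → Γ(X, W)) →ₗ[Γ(X, W)] A.presheaf.obj (op W))
    (hs W h)).symm

theorem basisA_apply {U : X.Opens} {s : Fin n → A.presheaf.obj (op U)} (hs : IsFrameA A s) (W : X.Opens)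
    (h : W ≤ U) (i : Fin n) : basisA A hs W h i = A.presheaf.map (homOfLE h).op (s i) := by
  classical
  letI := alg A W
  rw [basisA, Module.Basis.coe_ofEquivFun]
  show combA A s W h (Pi.single i 1) = _
  rw [combA, Finset.sum_eq_single i]
  · simp
  · intro j _ hj; simp [hj]
  · intro hi; exact absurd (Finset.mem_univ i) hi

theorem str_res {W' W : X.Opens} (h : W' ≤ W) (r : Γ(X, W)) :
    A.presheaf.map (homOfLE h).op ((A.str.app (op W)).hom r) =
      (A.str.app (op W')).hom (X.presheaf.map (homOfLE h).op r) :=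
  (congr($(A.str.naturality (homOfLE h).op).hom r)).symm

theorem trW_res {U : X.Opens} {s : Fin n → A.presheaf.obj (op U)} (hs : IsFrameA A s) {W' W : X.Opens}
    (hW : W ≤ U) (h : W' ≤ W) (a : A.presheaf.obj (op W)) :
    trW A W' (A.presheaf.map (homOfLE h).op a) = X.presheaf.map (homOfLE h).op (trW A W a) := by
  letI := alg A W
  letI := alg A W'
  refine trace_map (X.presheaf.map (homOfLE h).op).hom (A.presheaf.map (homOfLE h).op).hom
    (fun r => str_res A h r) (basisA A hs W hW) (basisA A hs W' (h.trans hW)) (fun i => ?_) a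
  rw [basisA_apply, basisA_apply, ← ConcreteCategory.comp_apply, ← A.presheaf.map_comp]
  rfl

theorem trW_algebraMap {U : X.Opens} {s : Fin n → A.presheaf.obj (op U)} (hs : IsFrameA A s) {W : X.Opens}
    (hW : W ≤ U) (r : Γ(X, W)) : trW A W ((A.str.app (op W)).hom r) = n • r := by
  letI := alg A W
  exact (Algebra.trace_algebraMap_of_basis (basisA A hs W hW) r).trans (by rw [Fintype.card_fin])

/-- An open over which the algebra has a frame. -/
def Small (V : X.Opens) : Prop :=
  ∃ (n : ℕ) (U : X.Opens) (s : Fin n → A.presheaf.obj (op U)), IsFrameA A s ∧ V ≤ U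

variable {A}

theorem Small.res {V : X.Opens} (hV : Small A V) {V' : X.Opens} (h : V' ≤ V) (a : A.presheaf.obj (op V)) :
    trW A V' (A.presheaf.map (homOfLE h).op a) = X.presheaf.map (homOfLE h).op (trW A V a) := by
  obtain ⟨n, U, s, hs, hVU⟩ := hV
  exact trW_res A hs hVU h a

theorem Small.mono {V : X.Opens} (hV : Small A V) {V' : X.Opens} (h : V' ≤ V) : Small A V' := by
  obtain ⟨n, U, s, hs, hVU⟩ := hV
  exact ⟨n, U, s, hs, h.trans hVU⟩

theorem exists_small (hA : FlatMod.IsFinLocFree A.toModule) (x : X) : ∃ U : X.Opens, x ∈ U ∧ Small A U := by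
  obtain ⟨U, n, hx, ⟨e⟩⟩ := hA x
  obtain ⟨s, hs⟩ := Frame.exists_frame e
  exact ⟨U, hx, n, U, s, hs, le_rfl⟩

theorem free_finite {V : X.Opens} (hV : Small A V) :
    letI := alg A V
    Module.Free Γ(X, V) (A.presheaf.obj (op V)) ∧ Module.Finite Γ(X, V) (A.presheaf.obj (op V)) := by
  letI := alg A V
  obtain ⟨n, U, s, hs, hVU⟩ := hV
  exact ⟨Module.Free.of_basis (basisA A hs V hVU), Module.Finite.of_basis (basisA A hs V hVU)⟩

theorem res_res {W'' W' W : X.Opens} (h : W'' ≤ W') (h' : W' ≤ W) (a : A.presheaf.obj (op W)) :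
    A.presheaf.map (homOfLE h).op (A.presheaf.map (homOfLE h').op a) =
      A.presheaf.map (homOfLE (h.trans h')).op a := by
  rw [← ConcreteCategory.comp_apply, ← A.presheaf.map_comp]; rfl

theorem res_resO {W'' W' W : X.Opens} (h : W'' ≤ W') (h' : W' ≤ W) (a : Γ(X, W)) :
    X.presheaf.map (homOfLE h).op (X.presheaf.map (homOfLE h').op a) =
      X.presheaf.map (homOfLE (h.trans h')).op a := by
  rw [← ConcreteCategory.comp_apply, ← X.presheaf.map_comp]; rfl

variable (A)

/-- `v` is the trace of `a`. -/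
def IsTr (W : X.Opens) (a : A.presheaf.obj (op W)) (v : Γ(X, W)) : Prop :=
  ∀ (V : X.Opens) (h : V ≤ W), Small A V →
    X.presheaf.map (homOfLE h).op v = trW A V (A.presheaf.map (homOfLE h).op a)

variable {A}

theorem ext_small (hA : FlatMod.IsFinLocFree A.toModule) {W : X.Opens} {v w : Γ(X, W)}
    (h : ∀ (V : X.Opens) (hV : V ≤ W), Small A V →
      X.presheaf.map (homOfLE hV).op v = X.presheaf.map (homOfLE hV).op w) : v = w := by
  choose U hU hS using exists_small hA
  exact X.sheaf.eq_of_locally_eq' (fun x : X => U x ⊓ W) W (fun x => homOfLE inf_le_right)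
    (fun x hx => Opens.mem_iSup.mpr ⟨x, hU x, hx⟩) _ _ fun x => h _ inf_le_right ((hS x).mono inf_le_left)

theorem existsUnique_isTr (hA : FlatMod.IsFinLocFree A.toModule) (W : X.Opens) (a : A.presheaf.obj (op W)) :
    ∃! v, IsTr A W a v := by
  choose U hU hS using exists_small hA
  have hS' : ∀ x, Small A (U x ⊓ W) := fun x => (hS x).mono inf_le_left
  obtain ⟨v, hv, -⟩ := X.sheaf.existsUnique_gluing' (fun x : X => U x ⊓ W) W (fun x => homOfLE inf_le_right)
    (fun x hx => Opens.mem_iSup.mpr ⟨x, hU x, hx⟩)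
    (fun x => trW A (U x ⊓ W) (A.presheaf.map (homOfLE inf_le_right).op a)) (fun x y => by
      show X.presheaf.map (homOfLE inf_le_left).op (trW A _ _) = X.presheaf.map (homOfLE inf_le_right).op (trW A _ _)
      rw [← (hS' x).res, ← (hS' y).res, res_res, res_res])
  refine ⟨v, fun V h hV => ?_, fun w hw => ext_small hA fun V h hV => ?_⟩
  · refine X.sheaf.eq_of_locally_eq' (fun x : X => U x ⊓ V) V (fun x => homOfLE inf_le_right)
      (fun x hx => Opens.mem_iSup.mpr ⟨x, hU x, hx⟩) _ _ fun x => ?_
    show X.presheaf.map (homOfLE inf_le_right).op _ = X.presheaf.map (homOfLE inf_le_right).op _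
    have h1 : X.presheaf.map (homOfLE inf_le_right).op v = trW A (U x ⊓ W) (A.presheaf.map (homOfLE inf_le_right).op a) :=
      hv x
    have h2 := congrArg (X.presheaf.map (homOfLE (inf_le_inf_left (U x) h)).op) h1
    rw [← (hS' x).res, res_res, res_resO] at h2
    rw [← hV.res, res_res, res_resO]
    exact h2
  · refine (hw V h hV).trans ?_
    refine X.sheaf.eq_of_locally_eq' (fun x : X => U x ⊓ V) V (fun x => homOfLE inf_le_right)
      (fun x hx => Opens.mem_iSup.mpr ⟨x, hU x, hx⟩) _ _ fun x => ?_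
    show X.presheaf.map (homOfLE inf_le_right).op _ = X.presheaf.map (homOfLE inf_le_right).op _
    have h2 := congrArg (X.presheaf.map (homOfLE (inf_le_inf_left (U x) h)).op)
      (show X.presheaf.map (homOfLE inf_le_right).op v = trW A (U x ⊓ W) (A.presheaf.map (homOfLE inf_le_right).op a)
        from hv x)
    rw [← (hS' x).res, res_res, res_resO] at h2
    rw [← hV.res, res_res, res_resO]
    exact h2.symm

/-- The glued trace. -/
noncomputable def trGlue (hA : FlatMod.IsFinLocFree A.toModule) (W : X.Opens) (a : A.presheaf.obj (op W)) : Γ(X, W) :=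
  (existsUnique_isTr hA W a).exists.choose

theorem trGlue_spec (hA : FlatMod.IsFinLocFree A.toModule) (W : X.Opens) (a : A.presheaf.obj (op W)) :
    IsTr A W a (trGlue hA W a) :=
  (existsUnique_isTr hA W a).exists.choose_spec

theorem trGlue_eq (hA : FlatMod.IsFinLocFree A.toModule) {W : X.Opens} {a : A.presheaf.obj (op W)} {v : Γ(X, W)}
    (h : IsTr A W a v) : trGlue hA W a = v :=
  (existsUnique_isTr hA W a).unique (trGlue_spec hA W a) h

theorem trGlue_add (hA : FlatMod.IsFinLocFree A.toModule) (W : X.Opens) (a b : A.presheaf.obj (op W)) :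
    trGlue hA W (a + b) = trGlue hA W a + trGlue hA W b :=
  trGlue_eq hA fun V h hV => by
    rw [map_add, map_add, trW_add, trGlue_spec hA W a V h hV, trGlue_spec hA W b V h hV]

theorem trGlue_str_mul (hA : FlatMod.IsFinLocFree A.toModule) (W : X.Opens) (r : Γ(X, W))
    (a : A.presheaf.obj (op W)) :
    trGlue hA W ((A.str.app (op W)).hom r * a) = r * trGlue hA W a :=
  trGlue_eq hA fun V h hV => by
    rw [map_mul, map_mul, str_res, trW_str_mul, trGlue_spec hA W a V h hV]

theorem trGlue_res (hA : FlatMod.IsFinLocFree A.toModule) {W' W : X.Opens} (h : W' ≤ W)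
    (a : A.presheaf.obj (op W)) :
    trGlue hA W' (A.presheaf.map (homOfLE h).op a) = X.presheaf.map (homOfLE h).op (trGlue hA W a) :=
  trGlue_eq hA fun V hV hS => by
    rw [res_resO, res_res, trGlue_spec hA W a V (hV.trans h) hS]

/-- The trace as a map of modules. -/
noncomputable def trHom (hA : FlatMod.IsFinLocFree A.toModule) : A.toModule ⟶ Coh.structureModule X :=
  ⟨letI := A.moduleSect
   PresheafOfModules.homMk
    { app := fun W => AddCommGrpCat.ofHom (AddMonoidHom.mk' (trGlue hA W.unop) (trGlue_add hA W.unop))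
      naturality := fun W W' i => by
        ext a
        exact trGlue_res hA i.unop.le a }
    (fun W r a => trGlue_str_mul hA W.unop r a)⟩

theorem isTr_of_free {U : X.Opens} (hU : IsAffineOpen U) (hA : FlatMod.IsFinLocFree A.toModule)
    (hfree : letI := alg A U; Module.Free Γ(X, U) (A.presheaf.obj (op U)))
    (hfin : letI := alg A U; Module.Finite Γ(X, U) (A.presheaf.obj (op U))) (a : A.presheaf.obj (op U)) :
    trGlue hA U a = trW A U a := by
  letI := alg A U
  choose W hW hS using exists_small hA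
  have hr : ∀ x : U, ∃ r : Γ(X, U), X.basicOpen r ≤ W x.1 ∧ x.1 ∈ X.basicOpen r := fun x =>
    hU.exists_basicOpen_le ⟨x.1, hW x.1⟩ x.2
  choose r hle hmem using hr
  refine X.sheaf.eq_of_locally_eq' (fun x : U => X.basicOpen (r x)) U (fun x => homOfLE (X.basicOpen_le _))
    (fun x hx => Opens.mem_iSup.mpr ⟨⟨x, hx⟩, hmem ⟨x, hx⟩⟩) _ _ fun x => ?_
  refine (trGlue_spec hA U a _ (X.basicOpen_le _) ((hS x.1).mono (hle x))).trans ?_
  let D := X.basicOpen (r x)
  let ρ := (X.presheaf.map (homOfLE (X.basicOpen_le (r x))).op).hom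
  let σ := (A.presheaf.map (homOfLE (X.basicOpen_le (r x))).op).hom
  letI := alg A D
  letI : Algebra Γ(X, U) Γ(X, D) := ρ.toAlgebra
  letI : Algebra (A.presheaf.obj (op U)) (A.presheaf.obj (op D)) := σ.toAlgebra
  letI : Algebra Γ(X, U) (A.presheaf.obj (op D)) := ((A.str.app (op D)).hom.comp ρ).toAlgebra
  haveI : IsScalarTower Γ(X, U) Γ(X, D) (A.presheaf.obj (op D)) := IsScalarTower.of_algebraMap_eq fun _ => rfl
  haveI : IsScalarTower Γ(X, U) (A.presheaf.obj (op U)) (A.presheaf.obj (op D)) :=
    IsScalarTower.of_algebraMap_eq fun b => (str_res A (X.basicOpen_le (r x)) b).symm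
  haveI : IsLocalization (Submonoid.powers (r x)) Γ(X, D) := hU.isLocalization_basicOpen (r x)
  haveI : IsLocalization (Algebra.algebraMapSubmonoid (A.presheaf.obj (op U)) (Submonoid.powers (r x)))
      (A.presheaf.obj (op D)) := by
    rw [Algebra.algebraMapSubmonoid, Submonoid.map_powers]
    exact A.isQC U hU (r x)
  exact Algebra.trace_localization Γ(X, U) (Submonoid.powers (r x)) a

theorem existsUnique_isTrace (hA : FlatMod.IsFinLocFree A.toModule) :
    ∃! τ : A.toModule ⟶ Coh.structureModule X, FinCov.IsTrace A τ := by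
  refine ⟨trHom hA, fun U hU hfree hfin a => isTr_of_free hU hA hfree hfin a, fun τ hτ => ?_⟩
  refine Scheme.Modules.hom_ext _ _ fun W => ?_
  ext a
  refine Eq.symm (trGlue_eq hA (v := τ.app W a) fun V h hV => ?_)
  have hn := ConcreteCategory.congr_hom (τ.mapPresheaf.naturality (homOfLE h).op) a
  refine hn.symm.trans ?_
  have key : ∀ x : V, ∃ V' : X.Opens, x.1 ∈ V' ∧ IsAffineOpen V' ∧ V' ≤ V := fun x => by
    obtain ⟨_, ⟨V', hV', rfl⟩, hx, hle⟩ := X.isBasis_affineOpens.exists_subset_of_mem_open x.2 V.2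
    exact ⟨V', hx, hV', hle⟩
  choose V' hx hV' hle using key
  refine X.sheaf.eq_of_locally_eq' V' V (fun x => homOfLE (hle x))
    (fun y hy => Opens.mem_iSup.mpr ⟨⟨y, hy⟩, hx ⟨y, hy⟩⟩) _ _ fun x => ?_
  have hn2 := ConcreteCategory.congr_hom (τ.mapPresheaf.naturality (homOfLE (hle x)).op)
    (A.presheaf.map (homOfLE h).op a : A.toModule.presheaf.obj (op V))
  refine hn2.symm.trans ?_
  refine (hτ _ (hV' x) (free_finite (hV.mono (hle x))).1 (free_finite (hV.mono (hle x))).2 _).trans ?_
  exact hV.res (hle x) _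

theorem isTrace_app {τ : A.toModule ⟶ Coh.structureModule X} (hτ : FinCov.IsTrace A τ)
    (hA : FlatMod.IsFinLocFree A.toModule) : τ = trHom hA :=
  (existsUnique_isTrace hA).unique hτ (fun U hU hfree hfin a => isTr_of_free hU hA hfree hfin a)

end Groth.Agent.H23.FinTrace
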