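import Groth.Prelude.Def_FGA
import Groth.Agent.DimFormula.ClosedSub
import Mathlib.FieldTheory.Minpoly.IsIntegrallyClosed
import Mathlib.RingTheory.Ideal.GoingUp
import Mathlib.RingTheory.QuasiFinite.Basic
import Mathlib.RingTheory.Localization.Away.Basic
import Mathlib.AlgebraicGeometry.Morphisms.Finite
import Mathlib.RingTheory.IntegralClosure.IntegrallyClosed
import Groth.Agent.S2102

/-!
# Images of locally principal closed sets under finite maps to normal schemes

If `φ : T ⟶ Y` is finite near `y` and surjective, `T` and `Y` are integral and `Y` is normal, then a closed set of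
`Y` whose preimage is the support of an effective Cartier divisor is, near `y`, the zero set of one function.
-/

set_option autoImplicit false
set_option linter.style.haveILetI false
set_option backward.isDefEq.respectTransparency false
set_option backward.isDefEq.respectTransparency.types false

open CategoryTheory AlgebraicGeometry TopologicalSpace

universe u

namespace Groth.Agent.H23.FinitePushEq

section Ring

variable {R B : Type u} [CommRing R] [CommRing B] [IsDomain R] [IsIntegrallyClosed R] [IsDomain B]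
  [Algebra R B] [Algebra.IsIntegral R B] [Module.IsTorsionFree R B]

/-- The constant coefficient of the minimal polynomial cuts out the image of a zero set. -/
theorem exists_coeff {h : B} (hh : h ≠ 0) :
    ∃ g : R, g ≠ 0 ∧ ∀ q : Ideal R, q.IsPrime →
      (g ∈ q ↔ ∃ P : Ideal B, P.IsPrime ∧ P.comap (algebraMap R B) = q ∧ h ∈ P) := by
  classical
  have hi : IsIntegral R h := Algebra.IsIntegral.isIntegral h
  let m := minpoly R h
  refine ⟨m.coeff 0, ?_, fun q hq => ?_⟩
  · intro h0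
    obtain ⟨m', hm'⟩ := Polynomial.X_dvd_iff.2 h0
    have hirr := minpoly.irreducible hi
    have hu : IsUnit m' := (hirr.isUnit_or_isUnit hm').resolve_left Polynomial.not_isUnit_X
    have h2 := minpoly.aeval R h
    rw [show minpoly R h = Polynomial.X * m' from hm', map_mul, Polynomial.aeval_X] at h2
    exact hh ((mul_eq_zero.1 h2).resolve_right (hu.map (Polynomial.aeval h)).ne_zero)
  constructor
  · intro hg
    haveI := hq
    let S := Algebra.adjoin R ({h} : Set B)
    let e := minpoly.equivAdjoin hi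
    let ψ : AdjoinRoot m →+* R ⧸ q := AdjoinRoot.lift (Ideal.Quotient.mk q) 0 (by
      rw [Polynomial.eval₂_at_zero, Ideal.Quotient.eq_zero_iff_mem]
      exact hg)
    let P₀ : Ideal S := RingHom.ker (ψ.comp (e.symm : S →+* AdjoinRoot m))
    haveI : P₀.IsPrime := RingHom.ker_isPrime _
    haveI : Algebra.IsIntegral S B := Algebra.IsIntegral.tower_top R
    obtain ⟨P, -, hP, hP'⟩ := Ideal.exists_ideal_over_prime_of_isIntegral P₀ (⊥ : Ideal B)
      (by
        rw [← RingHom.ker_eq_comap_bot,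
          (RingHom.injective_iff_ker_eq_bot _).1 (Subtype.val_injective : Function.Injective (algebraMap S B))]
        exact bot_le)
    refine ⟨P, hP, ?_, ?_⟩
    · ext r
      rw [Ideal.mem_comap, IsScalarTower.algebraMap_apply R S B, ← Ideal.mem_comap, hP', RingHom.mem_ker,
        RingHom.comp_apply]
      rw [show (e.symm : S →+* AdjoinRoot m) (algebraMap R S r) = algebraMap R (AdjoinRoot m) r from e.symm.commutes r,
        AdjoinRoot.algebraMap_eq, AdjoinRoot.lift_of, Ideal.Quotient.eq_zero_iff_mem]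
    · have hroot : (⟨h, Algebra.subset_adjoin rfl⟩ : S) = e (AdjoinRoot.root m) := by
        rw [minpoly.coe_equivAdjoin]
        ext
        simp [AdjoinRoot.Minpoly.toAdjoin, m]
      have hmem : (⟨h, Algebra.subset_adjoin rfl⟩ : S) ∈ P₀ := by
        rw [RingHom.mem_ker, RingHom.comp_apply, hroot]
        show ψ (e.symm (e (AdjoinRoot.root m))) = 0
        rw [AlgEquiv.symm_apply_apply, AdjoinRoot.lift_root]
      rw [← hP'] at hmem
      exact hmem
  · rintro ⟨P, hP, rfl, hhP⟩
    rw [Ideal.mem_comap]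
    have h2 : Polynomial.aeval h m = 0 := minpoly.aeval R h
    rw [← Polynomial.X_mul_divX_add m, map_add, map_mul, Polynomial.aeval_X, Polynomial.aeval_C] at h2
    rw [eq_neg_of_add_eq_zero_right h2]
    exact P.neg_mem (P.mul_mem_right _ hhP)

omit [IsDomain B] in
/-- One element generating a locally principal ideal near finitely many incomparable primes. -/
theorem exists_generator (J : Ideal B) {ι : Type} [Fintype ι] (m : ι → Ideal B) (hm : ∀ i, (m i).IsPrime)
    (hinc : ∀ i j, m i ≤ m j → i = j)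
    (hJ : ∀ i, ∃ a ∈ J, ∀ x ∈ J, ∃ s ∉ m i, ∃ c, s * x = c * a) :
    ∃ h ∈ J, ∀ (i : ι) (P : Ideal B), P.IsPrime → P ≤ m i → h ∈ P → J ≤ P := by
  classical
  choose a ha hx using hJ
  have he : ∀ i, ∃ e : B, e ∉ m i ∧ ∀ l, l ≠ i → e ∈ m l := by
    intro i
    have hne : ∀ l ∈ Finset.univ.erase i, ∃ x ∈ m l, x ∉ m i := fun l hl => by
      by_contra hcon
      push Not at hcon
      exact Finset.ne_of_mem_erase hl (hinc l i hcon)
    choose x hxl hxi using hne
    refine ⟨∏ l ∈ (Finset.univ.erase i).attach, x l.1 l.2, fun hmem => ?_, fun l hl => ?_⟩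
    · obtain ⟨l, -, hl⟩ := ((hm i).prod_mem_iff).1 hmem
      exact hxi _ _ hl
    · exact Ideal.prod_mem _ (Finset.mem_attach _ ⟨l, Finset.mem_erase.2 ⟨hl, Finset.mem_univ l⟩⟩) (hxl l _)
  choose e he he' using he
  refine ⟨∑ j, e j * a j, Ideal.sum_mem _ fun j _ => J.mul_mem_left _ (ha j), fun i P hP hPm hmem => ?_⟩
  choose s hs c hc using fun j => hx i (a j) (ha j)
  let t := ∏ j ∈ Finset.univ.erase i, s j
  have ht : t ∉ m i := fun h => by
    obtain ⟨j, -, hj⟩ := ((hm i).prod_mem_iff).1 h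
    exact hs j hj
  -- multiply by the denominators
  let d := t * e i + ∑ j ∈ Finset.univ.erase i, e j * c j * ∏ l ∈ (Finset.univ.erase i).erase j, s l
  have hd : t * ∑ j, e j * a j = d * a i := by
    rw [← Finset.add_sum_erase _ _ (Finset.mem_univ i), mul_add, Finset.mul_sum, add_mul, mul_assoc,
      Finset.sum_mul]
    refine congrArg _ (Finset.sum_congr rfl fun j hj => ?_)
    rw [show t = s j * ∏ l ∈ (Finset.univ.erase i).erase j, s l from
      (Finset.mul_prod_erase _ s hj).symm]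
    linear_combination (e j * ∏ l ∈ (Finset.univ.erase i).erase j, s l) * hc j
  have hdm : d ∉ m i := fun h => by
    have h2 : ∑ j ∈ Finset.univ.erase i, e j * c j * ∏ l ∈ (Finset.univ.erase i).erase j, s l ∈ m i :=
      Ideal.sum_mem _ fun j hj => Ideal.mul_mem_right _ _ (Ideal.mul_mem_right _ _
        (he' j i (Finset.ne_of_mem_erase hj).symm))
    exact ((hm i).mem_or_mem ((Ideal.add_mem_iff_left _ h2).1 h)).elim ht (he i)
  have hai : a i ∈ P :=
    (hP.mem_or_mem (hd ▸ P.mul_mem_left t hmem)).resolve_left fun h => hdm (hPm h)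
  intro x hxJ
  obtain ⟨s', hs', c', hc'⟩ := hx i x hxJ
  exact (hP.mem_or_mem (hc' ▸ P.mul_mem_left c' hai)).resolve_left fun h => hs' (hPm h)

end Ring

section Scheme

variable {T Y : Scheme.{u}}

/-- Points of an affine open as prime ideals. -/
theorem mem_zeroLocus_iff_le {U : Y.Opens} (hU : IsAffineOpen U) (J : Ideal Γ(Y, U)) (z : U) :
    z.1 ∈ Y.zeroLocus (U := U) (J : Set Γ(Y, U)) ↔ J ≤ (hU.primeIdealOf z).asIdeal := by
  rw [Scheme.mem_zeroLocus_iff]
  refine forall₂_congr fun a _ => ?_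
  rw [← hU.fromSpec_primeIdealOf z, ← Scheme.Hom.mem_preimage hU.fromSpec, hU.fromSpec_preimage_basicOpen,
    PrimeSpectrum.mem_basicOpen, not_not]

theorem mem_basicOpen_iff {U : Y.Opens} (hU : IsAffineOpen U) (a : Γ(Y, U)) (z : U) :
    z.1 ∈ Y.basicOpen a ↔ a ∉ (hU.primeIdealOf z).asIdeal := by
  rw [← hU.fromSpec_primeIdealOf z, ← Scheme.Hom.mem_preimage hU.fromSpec, hU.fromSpec_preimage_basicOpen,
    PrimeSpectrum.mem_basicOpen]

theorem primeIdealOf_surjective {U : Y.Opens} (hU : IsAffineOpen U) (P : PrimeSpectrum Γ(Y, U)) :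
    ∃ z : U, hU.primeIdealOf z = P :=
  ⟨⟨hU.fromSpec P, hU.range_fromSpec.le ⟨P, rfl⟩⟩, hU.fromSpec.isOpenEmbedding.injective (by
    rw [hU.fromSpec_primeIdealOf])⟩

theorem primeIdealOf_le {U : Y.Opens} (hU : IsAffineOpen U) {z z' : U} (h : z.1 ⤳ z'.1) :
    (hU.primeIdealOf z).asIdeal ≤ (hU.primeIdealOf z').asIdeal := fun a ha => by
  by_contra hn
  exact (mem_basicOpen_iff hU a z).1 (h.mem_open (Y.basicOpen a).isOpen ((mem_basicOpen_iff hU a z').2 hn)) ha

theorem specializes_of_le {U : Y.Opens} (hU : IsAffineOpen U) {z z' : U}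
    (h : (hU.primeIdealOf z).asIdeal ≤ (hU.primeIdealOf z').asIdeal) : z.1 ⤳ z'.1 := by
  have := ((PrimeSpectrum.le_iff_specializes _ _).1 h).map hU.fromSpec.continuous
  rwa [hU.fromSpec_primeIdealOf, hU.fromSpec_primeIdealOf] at this

theorem comap_primeIdealOf (φ : T ⟶ Y) {U : Y.Opens} (hU : IsAffineOpen U) (hU' : IsAffineOpen (φ ⁻¹ᵁ U))
    (t : (φ ⁻¹ᵁ U : T.Opens)) :
    (hU'.primeIdealOf t).asIdeal.comap (φ.app U).hom = (hU.primeIdealOf ⟨φ t.1, t.2⟩).asIdeal := by
  ext a
  rw [Ideal.mem_comap, ← not_iff_not, ← mem_basicOpen_iff hU' _ t, ← mem_basicOpen_iff hU a]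
  rw [← Scheme.Hom.preimage_basicOpen]
  rfl

/-- The local equation on the base. -/
theorem exists_local_eq [IsIntegral T] [IsIntegral Y] (hY : Pi1.IsNormalScheme Y) (φ : T ⟶ Y) [Surjective φ]
    {U : Y.Opens} (hU : IsAffineOpen U) (hU' : IsAffineOpen (φ ⁻¹ᵁ U)) (hfin : (φ.app U).hom.Finite)
    (D : Set Y) (hgen : genericPoint Y ∉ D) (I : T.IdealSheafData) (hI : FGA.IsEffCartier I)
    (hIs : (I.support : Set T) = φ ⁻¹' D) (y : U) :
    ∃ g : Γ(Y, U), g ≠ 0 ∧ ∀ z : Y, z ⤳ y.1 → (z ∈ Y.basicOpen g ↔ z ∉ D) := by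
  classical
  have hdom : φ (genericPoint T) = genericPoint Y :=
    ((genericPoint_spec T).image φ.continuous).eq (by
      rw [Set.image_univ, φ.surjective.range_eq, closure_univ]
      exact genericPoint_spec Y)
  haveI : Nonempty U := ⟨y⟩
  obtain ⟨t₀, ht₀⟩ := φ.surjective y.1
  haveI : Nonempty (φ ⁻¹ᵁ U : T.Opens) := ⟨⟨t₀, show φ t₀ ∈ U from ht₀ ▸ y.2⟩⟩
  let R := Γ(Y, U)
  let B := Γ(T, φ ⁻¹ᵁ U)
  letI : Algebra R B := (φ.app U).hom.toAlgebra
  haveI : Module.Finite R B := hfin
  haveI : IsIntegrallyClosed R := by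
    haveI : IsIntegral (U : Scheme.{u}) := isIntegral_of_isOpenImmersion U.ι
    have hn : Pi1.IsNormalScheme (U : Scheme.{u}) := fun z => by
      obtain ⟨h1, h2⟩ := hY (U.ι z)
      let e := (asIso (U.ι.stalkMap z)).commRingCatIsoToRingEquiv
      haveI := MulEquiv.isDomain _ e.symm.toMulEquiv
      exact ⟨inferInstance, IsIntegrallyClosed.of_equiv e⟩
    haveI := S2102.result (U : Scheme.{u}) hn
    exact IsIntegrallyClosed.of_equiv U.topIso.commRingCatIsoToRingEquiv
  have hinj : Function.Injective (algebraMap R B) := by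
    rw [injective_iff_map_eq_zero]
    intro a ha
    by_contra hne
    have h1 : genericPoint Y ∈ Y.basicOpen a :=
      ((genericPoint_spec Y).mem_open_set_iff (Y.basicOpen a).isOpen).2 (by
        rw [Set.univ_inter, Set.nonempty_iff_ne_empty]
        exact fun h => hne (basicOpen_eq_bot_iff a |>.1 (TopologicalSpace.Opens.ext h)))
    have h2 : genericPoint T ∈ φ ⁻¹ᵁ Y.basicOpen a := show φ (genericPoint T) ∈ _ from hdom ▸ h1
    rw [Scheme.Hom.preimage_basicOpen, show (φ.app U) a = 0 from ha, Scheme.basicOpen_zero] at h2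
    exact h2
  haveI : Module.IsTorsionFree R B :=
    (Module.isTorsionFree_iff_algebraMap_injective ..).2 hinj
  haveI : FaithfulSMul R B := (faithfulSMul_iff_algebraMap_injective R B).2 hinj
  let W : T.affineOpens := ⟨φ ⁻¹ᵁ U, hU'⟩
  let J : Ideal B := I.ideal W
  let p := (hU.primeIdealOf y).asIdeal
  haveI : Algebra.IsIntegral R B := inferInstance
  let M := {m : Ideal B // m.IsPrime ∧ m.comap (algebraMap R B) = p}
  haveI : Finite M := by
    exact Set.Finite.to_subtype ((Algebra.QuasiFinite.finite_primesOver (S := B) p).subset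
      fun m hm => ⟨hm.1, ⟨hm.2.symm⟩⟩)
  haveI := Fintype.ofFinite M
  let ρ := Fintype.equivFin M
  let mm : Fin (Fintype.card M) → Ideal B := fun i => (ρ.symm i).1
  haveI hpmax' : ∀ i, (mm i).IsPrime := fun i => (ρ.symm i).2.1
  -- work after localising at `p`, as the maximal ideals there are the primes over `p`
  have hloc : ∀ i, ∃ a ∈ J, ∀ x ∈ J, ∃ s ∉ mm i, ∃ c, s * x = c * a := by
    intro i
    obtain ⟨t, ht⟩ := primeIdealOf_surjective hU' ⟨mm i, hpmax' i⟩
    obtain ⟨V, htV, a, -, hIV⟩ := hI t.1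
    obtain ⟨f, g', hfg, htf⟩ := exists_basicOpen_le_affine_inter hU' V.2 t.1 ⟨t.2, htV⟩
    have hf : f ∉ mm i := by
      have := (mem_basicOpen_iff hU' f t).1 htf
      rwa [ht] at this
    letI : Algebra B Γ(T, T.basicOpen f) := (T.presheaf.map (homOfLE (T.basicOpen_le f)).op).hom.toAlgebra
    haveI : IsLocalization.Away f Γ(T, T.basicOpen f) := hU'.isLocalization_basicOpen f
    let a' : Γ(T, T.basicOpen f) :=
      T.presheaf.map (homOfLE (show T.basicOpen f ≤ V.1 from hfg.trans_le (T.basicOpen_le g'))).op a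
    have hmap : J.map (algebraMap B Γ(T, T.basicOpen f)) = Ideal.span {a'} := by
      let F : T.affineOpens := ⟨T.basicOpen f, hU'.basicOpen f⟩
      rw [show J.map (algebraMap B Γ(T, T.basicOpen f)) = I.ideal F from
        I.map_ideal (U := F) (V := W) (T.basicOpen_le f),
        ← I.map_ideal (U := F) (V := V) (hfg.trans_le (T.basicOpen_le g')),
        hIV, Ideal.map_span, Set.image_singleton]
      rfl
    obtain ⟨⟨⟨a₀, ha₀⟩, ⟨_, k, rfl⟩⟩, hk⟩ :=
      (IsLocalization.mem_map_algebraMap_iff (Submonoid.powers f) _).1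
        (hmap.ge (Ideal.mem_span_singleton_self a'))
    refine ⟨a₀, ha₀, fun x hx => ?_⟩
    obtain ⟨b', hb'⟩ := Ideal.mem_span_singleton'.1 (hmap.le (Ideal.mem_map_of_mem _ hx))
    obtain ⟨⟨b, ⟨_, l, rfl⟩⟩, hb⟩ := IsLocalization.surj (Submonoid.powers f) b'
    have key : algebraMap B Γ(T, T.basicOpen f) (f ^ (l + k) * x) =
        algebraMap B Γ(T, T.basicOpen f) (b * a₀) := by
      simp only at hb hk
      rw [map_mul, map_mul, pow_add, map_mul, ← hb', ← hb, ← hk]
      ring
    obtain ⟨⟨_, r, rfl⟩, hr⟩ := (IsLocalization.eq_iff_exists (Submonoid.powers f) _).1 key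
    refine ⟨f ^ r * f ^ (l + k), fun h => ?_, f ^ r * b, ?_⟩
    · rw [← pow_add] at h
      exact hf ((hpmax' i).mem_of_pow_mem _ h)
    · calc f ^ r * f ^ (l + k) * x = f ^ r * (f ^ (l + k) * x) := by ring
        _ = f ^ r * (b * a₀) := hr
        _ = f ^ r * b * a₀ := by ring
  -- every prime over a prime inside `p` lies in one of them
  have hup : ∀ P : Ideal B, P.IsPrime → P.comap (algebraMap R B) ≤ p → ∃ i, P ≤ mm i := by
    intro P hP hle
    obtain ⟨Q, hQ, hQp, hQc⟩ := Ideal.exists_ideal_over_prime_of_isIntegral p P hle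
    exact ⟨ρ ⟨Q, hQp, hQc⟩, by simpa [mm] using hQ⟩
  obtain ⟨h, hhJ, hh⟩ := exists_generator J mm hpmax' (fun i j hij => ρ.symm.injective (Subtype.ext (by
    by_contra hne
    haveI := hpmax' i
    have hlt := Ideal.IsIntegral.comap_lt_comap (R := R) (lt_of_le_of_ne hij hne)
    rw [(ρ.symm i).2.2, (ρ.symm j).2.2] at hlt
    exact lt_irrefl _ hlt))) hloc
  have hsupp : ∀ t : (φ ⁻¹ᵁ U : T.Opens), J ≤ (hU'.primeIdealOf t).asIdeal ↔ φ t.1 ∈ D := fun t => by
    rw [← mem_zeroLocus_iff_le hU' J t, ← Scheme.IdealSheafData.mem_support_iff_of_mem (U := W) t.2]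
    exact Set.ext_iff.1 hIs t.1
  have hh0 : h ≠ 0 := by
    obtain ⟨i, hi⟩ : ∃ i, (⊥ : Ideal B) ≤ mm i := hup ⊥ Ideal.isPrime_bot (by
      rw [← RingHom.ker_eq_comap_bot, (RingHom.injective_iff_ker_eq_bot _).1 hinj]; exact bot_le)
    rintro rfl
    have hJ : J ≤ ⊥ := hh i ⊥ Ideal.isPrime_bot hi (Submodule.zero_mem _)
    obtain ⟨t, ht⟩ := primeIdealOf_surjective hU' ⟨⊥, Ideal.isPrime_bot⟩
    have hts : t.1 ⤳ genericPoint T := by
      obtain ⟨e, he⟩ : ∃ e : (φ ⁻¹ᵁ U : T.Opens), e.1 = genericPoint T :=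
        ⟨⟨genericPoint T, ((genericPoint_spec T).mem_open_set_iff (φ ⁻¹ᵁ U).isOpen).2
          ⟨t.1, trivial, t.2⟩⟩, rfl⟩
      rw [← he]
      exact specializes_of_le hU' (by rw [ht]; exact bot_le)
    have hDt : φ t.1 ∈ D := (hsupp t).1 (by rw [ht]; exact hJ)
    rw [(hts.antisymm ((genericPoint_spec T).specializes (Set.mem_univ _))).eq, hdom] at hDt
    exact hgen hDt
  obtain ⟨g, hg0, hg⟩ := exists_coeff (R := R) hh0
  refine ⟨g, hg0, fun z hz => ?_⟩
  let z' : U := ⟨z, hz.mem_open U.isOpen y.2⟩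
  rw [show z = z'.1 from rfl, mem_basicOpen_iff hU g z', hg _ (hU.primeIdealOf z').isPrime, not_iff_not]
  have hle : (hU.primeIdealOf z').asIdeal ≤ p := primeIdealOf_le hU hz
  constructor
  · rintro ⟨P, hP, hPq, hhP⟩
    obtain ⟨i, hi⟩ := hup P hP (hPq ▸ hle)
    obtain ⟨t, ht⟩ := primeIdealOf_surjective hU' ⟨P, hP⟩
    have hJP := hh i P hP hi hhP
    rw [show P = (hU'.primeIdealOf t).asIdeal from (congrArg PrimeSpectrum.asIdeal ht).symm] at hJP hPq
    have hzt : φ t.1 = z'.1 := by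
      have h2 : hU.primeIdealOf ⟨φ t.1, t.2⟩ = hU.primeIdealOf z' :=
        PrimeSpectrum.ext ((comap_primeIdealOf φ hU hU' t).symm.trans hPq)
      have h3 := congrArg hU.fromSpec h2
      rwa [hU.fromSpec_primeIdealOf, hU.fromSpec_primeIdealOf] at h3
    exact hzt ▸ (hsupp t).1 hJP
  · intro hzD
    obtain ⟨P, -, hP, hPq⟩ := Ideal.exists_ideal_over_prime_of_isIntegral (hU.primeIdealOf z').asIdeal
      (⊥ : Ideal B) (by
        rw [← RingHom.ker_eq_comap_bot, (RingHom.injective_iff_ker_eq_bot _).1 hinj]; exact bot_le)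
    refine ⟨P, hP, hPq, ?_⟩
    obtain ⟨t, ht⟩ := primeIdealOf_surjective hU' ⟨P, hP⟩
    have h2 : hU.primeIdealOf ⟨φ t.1, t.2⟩ = hU.primeIdealOf z' := by
      refine PrimeSpectrum.ext ((comap_primeIdealOf φ hU hU' t).symm.trans ?_)
      rw [congrArg PrimeSpectrum.asIdeal ht]
      exact hPq
    have h3 := congrArg hU.fromSpec h2
    rw [hU.fromSpec_primeIdealOf, hU.fromSpec_primeIdealOf] at h3
    have := (hsupp t).2 (show φ t.1 ∈ D by rw [show φ t.1 = z from h3]; exact hzD)
    rw [congrArg PrimeSpectrum.asIdeal ht] at this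
    exact this hhJ

end Scheme

end Groth.Agent.H23.FinitePushEq
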