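import Groth.Agent.PolLib.FlatTS

/-!
Symmetric tensors of a flat module commute with every base change.
-/

set_option autoImplicit false

universe u

open scoped TensorProduct

namespace Groth.Agent.H23.SymTenBC

open PolLib

variable {A : Type u} [CommRing A] {M : Type u} [AddCommGroup M] [Module A M] {d : ℕ}
variable {S : Type u} [CommRing S] [Algebra A S]

theorem exists_common {n n' : ℕ} (f : (Fin n → A) →ₗ[A] M) (f' : (Fin n' → A) →ₗ[A] M) :
    ∃ (F : (Fin (n + n') → A) →ₗ[A] M) (i₁ : (Fin n → A) →ₗ[A] (Fin (n + n') → A))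
      (i₂ : (Fin n' → A) →ₗ[A] (Fin (n + n') → A)), F.comp i₁ = f ∧ F.comp i₂ = f' := by
  refine ⟨(Pi.basisFun A (Fin (n + n'))).constr A
      (Fin.append (fun k => f (Pi.basisFun A _ k)) fun k => f' (Pi.basisFun A _ k)),
    (Pi.basisFun A (Fin n)).constr A fun k => Pi.basisFun A _ (Fin.castAdd n' k),
    (Pi.basisFun A (Fin n')).constr A fun k => Pi.basisFun A _ (Fin.natAdd n k),
    (Pi.basisFun A (Fin n)).ext fun k => ?_, (Pi.basisFun A (Fin n')).ext fun k => ?_⟩
  · simp only [LinearMap.comp_apply, Module.Basis.constr_basis, Fin.append_left]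
  · simp only [LinearMap.comp_apply, Module.Basis.constr_basis, Fin.append_right]

theorem exists_lift (z : S ⊗[A] ⨂[A]^d M) :
    ∃ (n : ℕ) (f : (Fin n → A) →ₗ[A] M) (t : S ⊗[A] ⨂[A]^d (Fin n → A)), (tp d f).lTensor S t = z := by
  induction z using TensorProduct.induction_on with
  | zero => exact ⟨0, 0, 0, map_zero _⟩
  | tmul s x =>
    induction x using PiTensorProduct.induction_on with
    | smul_tprod r x =>
      refine ⟨d, (Pi.basisFun A (Fin d)).constr A x,
        s ⊗ₜ[A] (r • PiTensorProduct.tprod A fun i => Pi.basisFun A (Fin d) i), ?_⟩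
      rw [LinearMap.lTensor_tmul, map_smul, tp_tprod]
      simp only [Module.Basis.constr_basis]
    | add u v hu hv =>
      obtain ⟨n, f, t, ht⟩ := hu
      obtain ⟨n', f', t', ht'⟩ := hv
      obtain ⟨F, i₁, i₂, h1, h2⟩ := exists_common f f'
      refine ⟨_, F, (tp d i₁).lTensor S t + (tp d i₂).lTensor S t', ?_⟩
      rw [map_add, ← LinearMap.lTensor_comp_apply, ← LinearMap.lTensor_comp_apply, ← tp_comp, ← tp_comp,
        h1, h2, ht, ht', TensorProduct.tmul_add]
  | add u v hu hv =>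
    obtain ⟨n, f, t, rfl⟩ := hu
    obtain ⟨n', f', t', rfl⟩ := hv
    obtain ⟨F, i₁, i₂, h1, h2⟩ := exists_common f f'
    refine ⟨_, F, (tp d i₁).lTensor S t + (tp d i₂).lTensor S t', ?_⟩
    rw [map_add, ← LinearMap.lTensor_comp_apply, ← LinearMap.lTensor_comp_apply, ← tp_comp, ← tp_comp, h1, h2]

theorem lTensor_reindex {F G : Type u} [AddCommGroup F] [Module A F] [AddCommGroup G] [Module A G]
    (f : F →ₗ[A] G) (σ : Equiv.Perm (Fin d)) (t : S ⊗[A] ⨂[A]^d F) :
    (tp d f).lTensor S ((PiTensorProduct.reindex A (fun _ : Fin d => F) σ).toLinearMap.lTensor S t) =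
      (PiTensorProduct.reindex A (fun _ : Fin d => G) σ).toLinearMap.lTensor S ((tp d f).lTensor S t) := by
  rw [← LinearMap.lTensor_comp_apply, ← LinearMap.lTensor_comp_apply]
  congr 2
  exact LinearMap.ext fun x => tp_reindex d f σ x

theorem exists_invariant_lift [Module.Flat A M] (z : S ⊗[A] ⨂[A]^d M)
    (hz : ∀ σ, (PiTensorProduct.reindex A (fun _ : Fin d => M) σ).toLinearMap.lTensor S z = z) :
    ∃ (n : ℕ) (g : (Fin n → A) →ₗ[A] M) (t : S ⊗[A] ⨂[A]^d (Fin n → A)),
      (∀ σ, (PiTensorProduct.reindex A (fun _ : Fin d => Fin n → A) σ).toLinearMap.lTensor S t = t) ∧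
        (tp d g).lTensor S t = z := by
  classical
  obtain ⟨n, f, t, rfl⟩ := exists_lift z
  suffices h : ∀ s : Finset (Equiv.Perm (Fin d)),
      ∃ (m : ℕ) (h : (Fin n → A) →ₗ[A] (Fin m → A)) (g : (Fin m → A) →ₗ[A] M),
        g.comp h = f ∧ ∀ σ ∈ s, (tp d h).lTensor S
          ((PiTensorProduct.reindex A (fun _ : Fin d => Fin n → A) σ).toLinearMap.lTensor S t - t) = 0 by
    obtain ⟨m, h, g, hg, hh⟩ := h Finset.univ
    refine ⟨m, g, (tp d h).lTensor S t, fun σ => ?_, by rw [← LinearMap.lTensor_comp_apply, ← tp_comp, hg]⟩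
    rw [← lTensor_reindex, ← sub_eq_zero, ← map_sub]
    exact hh σ (Finset.mem_univ σ)
  intro s
  induction s using Finset.induction_on with
  | empty => exact ⟨n, LinearMap.id, f, LinearMap.comp_id f, by simp⟩
  | insert σ s hσ ih =>
    obtain ⟨m₁, h₁, g₁, hg₁, hs⟩ := ih
    have h0 : (tp d g₁).lTensor S ((tp d h₁).lTensor S
        ((PiTensorProduct.reindex A (fun _ : Fin d => Fin n → A) σ).toLinearMap.lTensor S t - t)) = 0 := by
      rw [← LinearMap.lTensor_comp_apply, ← tp_comp, hg₁, map_sub, lTensor_reindex, hz, sub_self]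
    obtain ⟨m, h₂, g, hg, hh⟩ := kill d S m₁ g₁ _ h0
    refine ⟨m, h₂.comp h₁, g, by rw [← LinearMap.comp_assoc, hg, hg₁], fun τ hτ => ?_⟩
    rw [tp_comp, LinearMap.lTensor_comp_apply]
    rcases Finset.mem_insert.mp hτ with rfl | hτ
    · exact hh
    · rw [hs τ hτ, map_zero]

/-- The map on symmetric tensors of a linear map. -/
noncomputable def invMap {n : ℕ} (g : (Fin n → A) →ₗ[A] M) :
    SymTen.TS A (Fin n → A) d →ₗ[A] invSub A M d :=
  ((tp d g).comp (SymTen.TS A (Fin n → A) d).val.toLinearMap).codRestrict (invSub A M d) fun t =>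
    mem_invSub.mpr fun σ => by
      rw [LinearMap.comp_apply, ← tp_reindex]
      exact congrArg _ (t.2 σ)

theorem subtype_comp_invMap {n : ℕ} (g : (Fin n → A) →ₗ[A] M) :
    (invSub A M d).subtype.comp (invMap g) = (tp d g).comp (SymTen.TS A (Fin n → A) d).val.toLinearMap :=
  rfl

variable [Module.Flat A M]

theorem exists_eq_lTensor_of_invariant (z : S ⊗[A] ⨂[A]^d M)
    (hz : ∀ σ, (PiTensorProduct.reindex A (fun _ : Fin d => M) σ).toLinearMap.lTensor S z = z) :
    ∃ x : S ⊗[A] invSub A M d, (invSub A M d).subtype.lTensor S x = z := by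
  obtain ⟨n, g, t, ht, rfl⟩ := exists_invariant_lift z hz
  refine ⟨(invMap g).lTensor S ((retr (Pi.basisFun A (Fin n))).lTensor S t), ?_⟩
  rw [← LinearMap.lTensor_comp_apply, subtype_comp_invMap, LinearMap.lTensor_comp_apply]
  congr 1
  exact (lTensor_eq_bc _ _).trans (val_retr_of_invariant (Pi.basisFun A (Fin n)) S t ht)

theorem lTensor_subtype_injective :
    Function.Injective ((invSub A M d).subtype.lTensor S) := by
  classical
  rw [injective_iff_map_eq_zero]
  intro x hx
  obtain ⟨T, rfl⟩ := TensorProduct.exists_finset x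
  let e := T.equivFin
  obtain ⟨n, g, t, ht, hgt⟩ := exists_invariant_lift_family (fun a => (e.symm a).1.2.1)
    fun a σ => mem_invSub.mp (e.symm a).1.2.2 σ
  have hsum : ∀ {N : Type u} [AddCommGroup N] [Module A N] (F : S × invSub A M d → S ⊗[A] N),
      ∑ p ∈ T, F p = ∑ a, F (e.symm a).1 := fun F =>
    (Finset.sum_coe_sort T F).symm.trans (e.symm.sum_comp fun p : T => F p.1).symm
  have h0 : (tp d g).lTensor S (∑ a, (e.symm a).1.1 ⊗ₜ[A] t a) = 0 := by
    rw [← hx, map_sum, map_sum, hsum fun p => (invSub A M d).subtype.lTensor S (p.1 ⊗ₜ[A] p.2)]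
    exact Finset.sum_congr rfl fun a _ => by rw [LinearMap.lTensor_tmul, LinearMap.lTensor_tmul, hgt]; rfl
  obtain ⟨m, h, g', hg', hh⟩ := kill d S n g _ h0
  let t' : Fin T.card → SymTen.TS A (Fin m → A) d := fun a =>
    ⟨tp d h (t a), fun σ => by rw [← tp_reindex, ht]⟩
  have h1 : ∑ a, (e.symm a).1.1 ⊗ₜ[A] t' a = 0 := by
    refine retr_lTensor_injective (Pi.basisFun A (Fin m)) S ?_
    rw [← lTensor_eq_bc, ← lTensor_eq_bc, map_zero, map_sum]
    rw [map_sum] at hh
    exact hh
  have h2 := congrArg ((invMap g').lTensor S) h1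
  rw [map_zero, map_sum] at h2
  rw [hsum fun p => p.1 ⊗ₜ[A] p.2, ← h2]
  refine Finset.sum_congr rfl fun a _ => ?_
  rw [LinearMap.lTensor_tmul]
  congr 1
  refine Subtype.ext ?_
  show _ = tp d g' (tp d h (t a))
  rw [← LinearMap.comp_apply, ← tp_comp, hg', hgt]

end Groth.Agent.H23.SymTenBC
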