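import Groth.Agent.PolLib.FlatTS
import Groth.Agent.H23.SymTenBC
import Groth.Agent.FBaseLib.Reduced
import Mathlib.RingTheory.PiTensorProduct

/-!
Divided powers of flat algebras with geometrically reduced fibres have geometrically reduced fibres.
-/

set_option autoImplicit false

universe u

open scoped TensorProduct

namespace Groth.Agent.H23.GammaReduced

open PolLaw Groth.Agent.PolLib

theorem exists_split (A B : Type u) [CommRing A] [CommRing B] [Algebra A B] (d : ℕ) :
    ∃ (F : (⨂[A] _ : Fin (d + 1), B) →ₐ[A] B ⊗[A] (⨂[A] _ : Fin d, B))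
      (G : B ⊗[A] (⨂[A] _ : Fin d, B) →ₐ[A] (⨂[A] _ : Fin (d + 1), B)), G.comp F = AlgHom.id A _ := by
  classical
  let L : B →ₗ[A] MultilinearMap A (fun _ : Fin d => B) (B ⊗[A] (⨂[A] _ : Fin d, B)) :=
    { toFun := fun b => (TensorProduct.mk A B _ b).compMultilinearMap (PiTensorProduct.tprod A)
      map_add' := fun a b => by ext v; simp [TensorProduct.add_tmul]
      map_smul' := fun a b => by ext v; simp [TensorProduct.smul_tmul'] }
  let f : MultilinearMap A (fun _ : Fin (d + 1) => B) (B ⊗[A] (⨂[A] _ : Fin d, B)) := L.uncurryLeft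
  have hf : ∀ v, f v = v 0 ⊗ₜ[A] PiTensorProduct.tprod A (Fin.tail v) := fun v => rfl
  let g : MultilinearMap A (fun _ : Fin d => B) (⨂[A] _ : Fin (d + 1), B) :=
    (PiTensorProduct.tprod A : MultilinearMap A (fun _ : Fin (d + 1) => B) _).curryLeft 1
  have hg : ∀ w, g w = PiTensorProduct.tprod A (Fin.cons 1 w : Fin (d + 1) → B) := fun w => rfl
  let F := PiTensorProduct.liftAlgHom f
    (by rw [hf, Algebra.TensorProduct.one_def, PiTensorProduct.one_def]; rfl)
    (fun x y => by rw [hf, hf, hf, Algebra.TensorProduct.tmul_mul_tmul, PiTensorProduct.tprod_mul_tprod]; rfl)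
  let G' := PiTensorProduct.liftAlgHom g
    (by
      rw [hg, PiTensorProduct.one_def]
      exact congrArg _ (funext fun i => Fin.cases rfl (fun j => rfl) i))
    (fun x y => by
      rw [hg, hg, hg, PiTensorProduct.tprod_mul_tprod]
      exact congrArg _ (funext fun i => Fin.cases (one_mul (1 : B)).symm (fun j => rfl) i))
  let G := Algebra.TensorProduct.lift (PiTensorProduct.singleAlgHom (A := fun _ : Fin (d + 1) => B) 0) G'
    (fun _ _ => Commute.all _ _)
  refine ⟨F, G, AlgHom.ext fun z => ?_⟩
  induction z using PiTensorProduct.induction_on with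
  | smul_tprod r v =>
    rw [map_smul, map_smul]
    congr 1
    show G (F (PiTensorProduct.tprod A v)) = _
    have hF : F (PiTensorProduct.tprod A v) = v 0 ⊗ₜ[A] PiTensorProduct.tprod A (Fin.tail v) :=
      (PiTensorProduct.lift.tprod v).trans (hf v)
    have hG' : G' (PiTensorProduct.tprod A (Fin.tail v)) = PiTensorProduct.tprod A (Fin.cons 1 (Fin.tail v) : Fin (d + 1) → B) :=
      (PiTensorProduct.lift.tprod _).trans (hg _)
    rw [hF, Algebra.TensorProduct.lift_tmul, hG']
    refine (PiTensorProduct.tprod_mul_tprod (R := A) (A := fun _ : Fin (d + 1) => B) _ _).trans ?_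
    refine congrArg _ (funext fun i => ?_)
    refine Fin.cases ?_ (fun j => ?_) i
    · simp
    · simp [Fin.tail]
  | add a b ha hb => simp only [map_add, ha, hb]

theorem isReduced_tensor_pow {A B : Type u} [CommRing A] [CommRing B] [Algebra A B]
    (hred : ∀ (K : Type u) [Field K] [Algebra A K], IsReduced (K ⊗[A] B)) (K : Type u) [Field K] [Algebra A K] :
    ∀ d : ℕ, IsReduced (K ⊗[A] (⨂[A] _ : Fin d, B))
  | 0 => by
    have hsurj : Function.Surjective
        (Algebra.TensorProduct.includeLeft : K →ₐ[A] K ⊗[A] (⨂[A] _ : Fin 0, B)) := fun z => by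
      induction z using TensorProduct.induction_on with
      | zero => exact ⟨0, map_zero _⟩
      | tmul c p =>
        induction p using PiTensorProduct.induction_on generalizing c with
        | smul_tprod r v =>
          refine ⟨r • c, ?_⟩
          rw [Subsingleton.elim v 1, ← PiTensorProduct.one_def, TensorProduct.tmul_smul, TensorProduct.smul_tmul']
          rfl
        | add a b ha hb =>
          obtain ⟨x, hx⟩ := ha c
          obtain ⟨y, hy⟩ := hb c
          exact ⟨x + y, by rw [map_add, hx, hy, TensorProduct.tmul_add]⟩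
      | add a b ha hb =>
        obtain ⟨x, rfl⟩ := ha
        obtain ⟨y, rfl⟩ := hb
        exact ⟨x + y, map_add _ _ _⟩
    cases subsingleton_or_nontrivial (K ⊗[A] (⨂[A] _ : Fin 0, B))
    · exact ⟨fun x _ => Subsingleton.elim x 0⟩
    · refine ⟨fun x hx => ?_⟩
      obtain ⟨c, rfl⟩ := hsurj x
      obtain ⟨n, hn⟩ := hx
      let ι : K →+* K ⊗[A] (⨂[A] _ : Fin 0, B) := Algebra.TensorProduct.includeLeftRingHom
      have hc : c ^ n = 0 := RingHom.injective ι ((map_pow ι c n).trans (hn.trans (map_zero ι).symm))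
      rw [IsReduced.eq_zero c ⟨n, hc⟩, map_zero]
  | d + 1 => by
    haveI : IsReduced (K ⊗[A] (⨂[A] _ : Fin d, B)) := isReduced_tensor_pow hred K d
    let P := ⨂[A] _ : Fin d, B
    haveI : IsReduced ((K ⊗[A] P) ⊗[K] (K ⊗[A] B)) :=
      FBaseLib.isReduced_tensor_of_fields (K ⊗[A] B) (K ⊗[A] P) fun L _ _ => by
        letI : Algebra A L := ((algebraMap K L).comp (algebraMap A K)).toAlgebra
        haveI : IsScalarTower A K L := IsScalarTower.of_algebraMap_eq' rfl
        haveI := hred L
        exact isReduced_of_injective (Algebra.TensorProduct.cancelBaseChange A K L L B)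
          (Algebra.TensorProduct.cancelBaseChange A K L L B).injective
    haveI : IsReduced ((K ⊗[A] B) ⊗[K] (K ⊗[A] P)) :=
      isReduced_of_injective (Algebra.TensorProduct.comm K (K ⊗[A] B) (K ⊗[A] P))
        (Algebra.TensorProduct.comm K (K ⊗[A] B) (K ⊗[A] P)).injective
    haveI : IsReduced ((K ⊗[A] B) ⊗[A] P) :=
      isReduced_of_injective (Algebra.TensorProduct.cancelBaseChange A K K (K ⊗[A] B) P).symm
        (Algebra.TensorProduct.cancelBaseChange A K K (K ⊗[A] B) P).symm.injective
    haveI : IsReduced (K ⊗[A] (B ⊗[A] P)) :=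
      isReduced_of_injective (Algebra.TensorProduct.assoc A A A K B P).symm
        (Algebra.TensorProduct.assoc A A A K B P).symm.injective
    obtain ⟨F, G, hGF⟩ := exists_split A B d
    refine isReduced_of_injective (Algebra.TensorProduct.map (AlgHom.id A K) F) fun x y hxy => ?_
    have h := congrArg (Algebra.TensorProduct.map (AlgHom.id A K) G) hxy
    rw [← AlgHom.comp_apply, ← AlgHom.comp_apply, ← Algebra.TensorProduct.map_comp, AlgHom.comp_id, hGF,
      Algebra.TensorProduct.map_id] at h
    exact h

theorem isReduced_tensor_gammaD {A B C : Type u} [CommRing A] [CommRing B] [Algebra A B] [CommRing C]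
    [Algebra A C] {d : ℕ} (γ : MulLaw A B C d) (hγ : IsGammaD γ) [Module.Flat A B]
    (hred : ∀ (K : Type u) [Field K] [Algebra A K], IsReduced (K ⊗[A] B)) (K : Type u) [Field K] [Algebra A K] :
    IsReduced (K ⊗[A] C) := by
  obtain ⟨φ, hφ⟩ := exists_gammaD_tsMap γ hγ
  haveI := isReduced_tensor_pow hred K d
  refine isReduced_of_injective (Algebra.TensorProduct.map (AlgHom.id A K) ((SymTen.TS A B d).val.comp φ)) ?_
  have e : (SymTen.TS A B d).toSubmodule = invSub A B d := Submodule.ext fun z => mem_invSub.symm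
  let e' : C ≃ₗ[A] invSub A B d := (AlgEquiv.ofBijective φ ⟨phi_injective_of_flat γ φ hφ hγ,
    phi_surjective_of_flat γ φ hφ⟩).toLinearEquiv.trans (LinearEquiv.ofEq _ _ e)
  have hfac : ∀ z : K ⊗[A] C, Algebra.TensorProduct.map (AlgHom.id A K) ((SymTen.TS A B d).val.comp φ) z =
      (invSub A B d).subtype.lTensor K (e'.toLinearMap.lTensor K z) := fun z => by
    induction z using TensorProduct.induction_on with
    | zero => simp
    | tmul a b => rfl
    | add a b ha hb => simp only [map_add, ha, hb]
  intro x y hxy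
  rw [hfac, hfac] at hxy
  exact (LinearEquiv.lTensor K e').injective (SymTenBC.lTensor_subtype_injective hxy)

end Groth.Agent.H23.GammaReduced
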