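import Mathlib.NumberTheory.Multiplicity
import Mathlib.NumberTheory.Basic
import Mathlib.NumberTheory.LSeries.PrimesInAP
import Mathlib.RingTheory.ZMod.UnitsCyclic
import Mathlib.Data.Nat.Factorization.Basic
import Mathlib.FieldTheory.Finite.Basic
import Mathlib.Algebra.Order.BigOperators.Group.Finset

/-!
# The greatest common divisor of the products `∏ (ℓ^(2a) - 1)` over large primes `ℓ`
-/

open Finset

namespace Groth.Agent.H23.GcdProd

/-- The exponent of an odd prime `p`. -/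
def oddExp (g p : ℕ) : ℕ :=
  (2 * g) / (p - 1) + ∑ i ∈ Icc 1 ((2 * g) / (p - 1)), padicValNat p i

theorem padicValNat_finset_prod (p : ℕ) [Fact p.Prime] {ι : Type*} (s : Finset ι) (f : ι → ℕ)
    (hf : ∀ i ∈ s, f i ≠ 0) : padicValNat p (∏ i ∈ s, f i) = ∑ i ∈ s, padicValNat p (f i) := by
  classical
  induction s using Finset.induction_on with
  | empty => simp
  | insert a t ha ih =>
    rw [prod_insert ha, sum_insert ha, padicValNat.mul (hf a (mem_insert_self _ _))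
      (prod_ne_zero_iff.2 fun i hi => hf i (mem_insert_of_mem hi)),
      ih fun i hi => hf i (mem_insert_of_mem hi)]

theorem padicValNat_factorial_sum (p g : ℕ) [Fact p.Prime] :
    padicValNat p g.factorial = ∑ a ∈ Icc 1 g, padicValNat p a := by
  rw [← padicValNat_finset_prod p _ _ (fun a ha => by have := (mem_Icc.1 ha).1; omega),
    ← Finset.Ico_add_one_right_eq_Icc, Finset.prod_Ico_id_eq_factorial]

theorem one_lt_pow_two_mul {ℓ a : ℕ} (hℓ : 1 < ℓ) (ha : 1 ≤ a) : 1 < ℓ ^ (2 * a) :=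
  Nat.one_lt_pow (by omega) hℓ

theorem factor_ne_zero {ℓ g a : ℕ} (hℓ : 1 < ℓ) (ha : a ∈ Icc 1 g) : ℓ ^ (2 * a) - 1 ≠ 0 := by
  have := one_lt_pow_two_mul hℓ (mem_Icc.1 ha).1
  omega

theorem pow_sub_one_eq_sum (p g : ℕ) [Fact p.Prime] {ℓ : ℕ} (hℓ : 1 < ℓ) :
    padicValNat p (∏ a ∈ Icc 1 g, (ℓ ^ (2 * a) - 1)) =
      ∑ a ∈ Icc 1 g, padicValNat p (ℓ ^ (2 * a) - 1) :=
  padicValNat_finset_prod p _ _ fun _ ha => factor_ne_zero hℓ ha

section Odd

variable {p : ℕ} [hp : Fact p.Prime]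

theorem odd_step (hodd : Odd p) {ℓ : ℕ} (hℓ : 1 < ℓ) (hpℓ : ¬ p ∣ ℓ) {i : ℕ} (hi : i ≠ 0) :
    padicValNat p ((ℓ ^ (p - 1)) ^ i - 1) = padicValNat p (ℓ ^ (p - 1) - 1) + padicValNat p i ∧
      1 ≤ padicValNat p (ℓ ^ (p - 1) - 1) := by
  have h2 := hp.out.two_le
  have hx : 1 < ℓ ^ (p - 1) := Nat.one_lt_pow (by omega) hℓ
  have hd : p ∣ ℓ ^ (p - 1) - 1 := by
    rw [← Nat.modEq_iff_dvd' hx.le]
    exact (Nat.ModEq.pow_totient ((hp.out.coprime_iff_not_dvd.2 hpℓ).symm) |> fun h => by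
      rw [Nat.totient_prime hp.out] at h; exact h.symm)
  refine ⟨?_, one_le_padicValNat_of_dvd (by omega) hd⟩
  have := padicValNat.pow_sub_pow (y := 1) hodd hx hd
    (fun h => hpℓ (hp.out.dvd_of_dvd_pow h)) hi
  simpa using this

theorem exists_half (hodd : Odd p) : ∃ h, 0 < h ∧ p - 1 = 2 * h := by
  obtain ⟨h, hh⟩ := hodd
  have := hp.out.two_le
  exact ⟨h, by omega, by omega⟩

theorem sum_image (g h : ℕ) (hh : 0 < h) (F : ℕ → ℕ) :
    ∑ a ∈ (Icc 1 g).filter (h ∣ ·), F a = ∑ i ∈ Icc 1 (g / h), F (h * i) := by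
  symm
  refine sum_bij (fun i _ => h * i) (fun i hi => ?_) (fun i _ j _ hij => ?_) (fun a ha => ?_)
    (fun i _ => rfl)
  · simp only [mem_Icc, mem_filter] at hi ⊢
    refine ⟨⟨Nat.one_le_iff_ne_zero.2 (by simp; omega), ?_⟩, Dvd.intro i rfl⟩
    exact (Nat.mul_le_mul_left h hi.2).trans (Nat.mul_div_le g h)
  · exact Nat.eq_of_mul_eq_mul_left hh hij
  · simp only [mem_Icc, mem_filter] at ha ⊢
    obtain ⟨i, rfl⟩ := ha.2
    refine ⟨i, ⟨?_, ?_⟩, rfl⟩
    · exact Nat.one_le_iff_ne_zero.2 fun h0 => by simp [h0] at ha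
    · rw [Nat.le_div_iff_mul_le hh, mul_comm]; exact ha.1.2

theorem oddExp_eq (g : ℕ) {h : ℕ} (hh : p - 1 = 2 * h) :
    oddExp g p = ∑ i ∈ Icc 1 (g / h), (1 + padicValNat p i) := by
  rw [oddExp, hh, Nat.mul_div_mul_left _ _ two_pos, sum_add_distrib, sum_const, smul_eq_mul,
    mul_one, Nat.card_Icc, Nat.add_sub_cancel]

theorem le_odd (hodd : Odd p) (g : ℕ) {ℓ : ℕ} (hℓ : 1 < ℓ) (hpℓ : ¬ p ∣ ℓ) :
    oddExp g p ≤ padicValNat p (∏ a ∈ Icc 1 g, (ℓ ^ (2 * a) - 1)) := by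
  obtain ⟨h, hh0, hh⟩ := exists_half hodd
  rw [pow_sub_one_eq_sum p g hℓ, oddExp_eq g hh]
  refine le_trans ?_ (sum_le_sum_of_subset (filter_subset (h ∣ ·) _))
  rw [sum_image g h hh0 fun a => padicValNat p (ℓ ^ (2 * a) - 1)]
  refine sum_le_sum fun i hi => ?_
  have hi' := (mem_Icc.1 hi).1
  obtain ⟨h1, h2⟩ := odd_step hodd hℓ hpℓ (i := i) (by omega)
  rw [← mul_assoc, ← hh, pow_mul, h1]
  omega

theorem exists_prime_exact (hodd : Odd p) (g B : ℕ) :
    ∃ ℓ, ℓ.Prime ∧ B < ℓ ∧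
      padicValNat p (∏ a ∈ Icc 1 g, (ℓ ^ (2 * a) - 1)) ≤ oddExp g p := by
  obtain ⟨h, hh0, hh⟩ := exists_half hodd
  have hp2 : p ≠ 2 := fun e => by subst e; exact (Nat.not_odd_iff_even.2 even_two) hodd
  haveI : NeZero (p ^ 2) := ⟨pow_ne_zero _ hp.out.ne_zero⟩
  haveI := ZMod.isCyclic_units_of_prime_pow p hp.out hp2 2
  obtain ⟨u, hu⟩ := IsCyclic.exists_ofOrder_eq_natCard (α := (ZMod (p ^ 2))ˣ)
  have hord : orderOf u = p * (p - 1) := by
    rw [hu, Nat.card_eq_fintype_card, ZMod.card_units_eq_totient,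
      Nat.totient_prime_pow hp.out two_pos, show 2 - 1 = 1 from rfl, pow_one]
  obtain ⟨ℓ, hgt, hℓ, heq⟩ := Nat.forall_exists_prime_gt_and_eq_mod u.isUnit (max B p)
  have hℓp : ¬ p ∣ ℓ := fun hd => by
    have := (Nat.prime_dvd_prime_iff_eq hp.out hℓ).1 hd
    omega
  have hmod : ∀ m, ℓ ^ m ≡ 1 [MOD p ^ 2] → p * (p - 1) ∣ m := by
    intro m hm
    rw [← hord, orderOf_dvd_iff_pow_eq_one]
    apply Units.ext
    rw [Units.val_pow_eq_pow_val, ← heq, Units.val_one]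
    have := (ZMod.natCast_eq_natCast_iff _ _ _).2 hm
    simpa using this
  refine ⟨ℓ, hℓ, by omega, ?_⟩
  have hℓ1 : 1 < ℓ := hℓ.one_lt
  rw [pow_sub_one_eq_sum p g hℓ1, oddExp_eq g hh,
    ← sum_filter_add_sum_filter_not (Icc 1 g) (h ∣ ·)]
  have hzero : ∀ a ∈ (Icc 1 g).filter (fun a => ¬ h ∣ a), padicValNat p (ℓ ^ (2 * a) - 1) = 0 := by
    intro a ha
    refine padicValNat.eq_zero_of_not_dvd fun hd => (mem_filter.1 ha).2 ?_
    have h1 : p * (p - 1) ∣ 2 * a * p := by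
      refine hmod _ ((Nat.modEq_iff_dvd' (Nat.one_le_pow _ _ (by omega))).2 ?_).symm
      rw [pow_mul]
      have hc := dvd_sub_pow_of_dvd_sub (R := ℤ) (p := p) (a := ((ℓ ^ (2 * a) : ℕ) : ℤ)) (b := 1)
        (by have := Int.natCast_dvd_natCast.2 hd
            rwa [Nat.cast_sub (Nat.one_le_pow _ _ (by omega)), Nat.cast_one] at this) 1
      rw [one_pow, pow_one] at hc
      rw [← Int.natCast_dvd_natCast, Nat.cast_sub (Nat.one_le_pow _ _ (pow_pos (by omega) _))]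
      push_cast at hc ⊢
      simpa using hc
    rw [mul_comm (2 * a) p] at h1
    have h2 := (Nat.mul_dvd_mul_iff_left hp.out.pos).1 h1
    rw [hh] at h2
    exact (Nat.mul_dvd_mul_iff_left two_pos).1 h2
  rw [sum_eq_zero hzero, add_zero, sum_image g h hh0 fun a => padicValNat p (ℓ ^ (2 * a) - 1)]
  refine sum_le_sum fun i hi => ?_
  have hi' := (mem_Icc.1 hi).1
  obtain ⟨h1, -⟩ := odd_step hodd hℓ1 hℓp (i := i) (by omega)
  rw [← mul_assoc, ← hh, pow_mul, h1]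
  have : padicValNat p (ℓ ^ (p - 1) - 1) ≤ 1 := by
    by_contra hlt
    have hd : p ^ 2 ∣ ℓ ^ (p - 1) - 1 :=
      (pow_dvd_pow p (by omega)).trans (pow_padicValNat_dvd)
    have h3 := hmod _ ((Nat.modEq_iff_dvd' (Nat.one_le_pow _ _ (by omega))).2 hd).symm
    have h4 := Nat.le_of_dvd (by omega) h3
    have := hp.out.two_le
    nlinarith
  omega

end Odd

theorem le_two (g : ℕ) {ℓ : ℕ} (hℓ : 1 < ℓ) (h2 : ¬ 2 ∣ ℓ) :
    3 * g + padicValNat 2 g.factorial ≤ padicValNat 2 (∏ a ∈ Icc 1 g, (ℓ ^ (2 * a) - 1)) := by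
  rw [pow_sub_one_eq_sum 2 g hℓ, padicValNat_factorial_sum]
  have : 3 * g = ∑ _a ∈ Icc 1 g, 3 := by simp [mul_comm]
  rw [this, ← sum_add_distrib]
  refine sum_le_sum fun a ha => ?_
  have ha' := (mem_Icc.1 ha).1
  have := padicValNat.pow_two_sub_one_ge hℓ h2 (n := 2 * a) (by omega) (even_two_mul a)
  rw [padicValNat.mul two_ne_zero (by omega), padicValNat_self] at this
  omega

theorem exists_prime_exact_two (g B : ℕ) :
    ∃ ℓ, ℓ.Prime ∧ B < ℓ ∧
      padicValNat 2 (∏ a ∈ Icc 1 g, (ℓ ^ (2 * a) - 1)) ≤ 3 * g + padicValNat 2 g.factorial := by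
  have hu : IsUnit ((3 : ℕ) : ZMod 8) := (ZMod.isUnit_iff_coprime 3 8).2 (by norm_num)
  obtain ⟨ℓ, hgt, hℓ, heq⟩ := Nat.forall_exists_prime_gt_and_eq_mod hu B
  refine ⟨ℓ, hℓ, hgt, ?_⟩
  have h8 : ℓ % 8 = 3 := by
    have := (ZMod.natCast_eq_natCast_iff' ℓ 3 8).1 heq
    omega
  have hv1 : padicValNat 2 (ℓ + 1) ≤ 2 := by
    by_contra hlt
    have h : 2 ^ 3 ∣ ℓ + 1 := (pow_dvd_pow 2 (by omega)).trans pow_padicValNat_dvd
    omega
  have hv2 : padicValNat 2 (ℓ - 1) ≤ 1 := by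
    by_contra hlt
    have h : 2 ^ 2 ∣ ℓ - 1 := (pow_dvd_pow 2 (by omega)).trans pow_padicValNat_dvd
    omega
  rw [pow_sub_one_eq_sum 2 g hℓ.one_lt, padicValNat_factorial_sum]
  have : 3 * g = ∑ _a ∈ Icc 1 g, 3 := by simp [mul_comm]
  rw [this, ← sum_add_distrib]
  refine sum_le_sum fun a ha => ?_
  have ha' := (mem_Icc.1 ha).1
  have := padicValNat.pow_two_sub_one (x := ℓ) hℓ.one_lt (by omega) (n := 2 * a) (by omega)
    (even_two_mul a)
  rw [padicValNat.mul two_ne_zero (by omega), padicValNat_self] at this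
  omega

theorem main (g B d : ℕ) (hB : 2 * g + 1 ≤ B) :
    (∀ ℓ : ℕ, ℓ.Prime → B < ℓ → d ∣ ∏ a ∈ Icc 1 g, (ℓ ^ (2 * a) - 1)) ↔
      d ∣ 2 ^ (3 * g + padicValNat 2 g.factorial) *
        ∏ p ∈ (Icc 3 (2 * g + 1)).filter Nat.Prime,
          p ^ ((2 * g) / (p - 1) + ∑ i ∈ Icc 1 ((2 * g) / (p - 1)), padicValNat p i) := by
  change _ ↔ d ∣ 2 ^ _ * ∏ p ∈ (Icc 3 (2 * g + 1)).filter Nat.Prime, p ^ oddExp g p
  set S := (Icc 3 (2 * g + 1)).filter Nat.Prime with hS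
  set N := 2 ^ (3 * g + padicValNat 2 g.factorial) * ∏ p ∈ S, p ^ oddExp g p with hNdef
  have hS0 : ∀ p ∈ S, p ^ oddExp g p ≠ 0 := fun p hp => pow_ne_zero _ (mem_filter.1 hp).2.ne_zero
  have hN0 : N ≠ 0 := mul_ne_zero (by positivity) (prod_ne_zero_iff.2 hS0)
  have hvN : ∀ q : ℕ, q.Prime → padicValNat q N =
      if q = 2 then 3 * g + padicValNat 2 g.factorial else oddExp g q := by
    intro q hq
    haveI := Fact.mk hq
    rw [hNdef, padicValNat.mul (by positivity) (prod_ne_zero_iff.2 hS0),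
      padicValNat_finset_prod q S _ hS0]
    have hz : ∀ p ∈ S, p ≠ q → padicValNat q (p ^ oddExp g p) = 0 := fun p hp hne => by
      refine padicValNat.eq_zero_of_not_dvd fun h => hne ?_
      exact ((Nat.prime_dvd_prime_iff_eq hq (mem_filter.1 hp).2).1 (hq.dvd_of_dvd_pow h)).symm
    split_ifs with h2
    · subst h2
      rw [padicValNat.prime_pow, sum_eq_zero fun p hp => hz p hp ?_, add_zero]
      have := (mem_Icc.1 (mem_filter.1 hp).1).1
      omega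
    · have : padicValNat q (2 ^ (3 * g + padicValNat 2 g.factorial)) = 0 :=
        padicValNat.eq_zero_of_not_dvd fun h =>
          h2 ((Nat.prime_dvd_prime_iff_eq hq Nat.prime_two).1 (hq.dvd_of_dvd_pow h))
      rw [this, zero_add]
      by_cases hqS : q ∈ S
      · rw [sum_eq_single_of_mem q hqS fun p hp hne => hz p hp hne, padicValNat.prime_pow]
      · rw [sum_eq_zero fun p hp => hz p hp fun e => hqS (e ▸ hp)]
        have h3 : 2 * g + 1 < q := by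
          by_contra hlt
          have := hq.two_le
          exact hqS (mem_filter.2 ⟨mem_Icc.2 ⟨by omega, by omega⟩, hq⟩)
        rw [oddExp, Nat.div_eq_of_lt (by omega)]
        simp
  constructor
  · intro hd
    rw [Nat.dvd_iff_prime_pow_dvd_dvd]
    intro q k hq hk
    haveI := Fact.mk hq
    obtain ⟨ℓ, hℓ, hBℓ, hle⟩ : ∃ ℓ, ℓ.Prime ∧ B < ℓ ∧
        padicValNat q (∏ a ∈ Icc 1 g, (ℓ ^ (2 * a) - 1)) ≤ padicValNat q N := by
      rw [hvN q hq]
      split_ifs with h2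
      · subst h2; exact exists_prime_exact_two g B
      · exact exists_prime_exact (hq.odd_of_ne_two h2) g B
    have h1 : k ≤ padicValNat q (∏ a ∈ Icc 1 g, (ℓ ^ (2 * a) - 1)) :=
      (padicValNat_dvd_iff_le (prod_ne_zero_iff.2 fun a ha => factor_ne_zero hℓ.one_lt ha)).1
        (hk.trans (hd ℓ hℓ hBℓ))
    exact (padicValNat_dvd_iff_le hN0).2 (h1.trans hle)
  · intro hd ℓ hℓ hBℓ
    refine hd.trans ?_
    rw [Nat.dvd_iff_prime_pow_dvd_dvd]
    intro q k hq hk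
    haveI := Fact.mk hq
    refine (padicValNat_dvd_iff_le (prod_ne_zero_iff.2 fun a ha => factor_ne_zero hℓ.one_lt ha)).2 ?_
    have h1 := (padicValNat_dvd_iff_le hN0).1 hk
    rw [hvN q hq] at h1
    split_ifs at h1 with h2
    · subst h2
      by_cases hg : g = 0
      · subst hg; simp at h1 ⊢; omega
      refine h1.trans (le_two g hℓ.one_lt fun h => ?_)
      have := (Nat.prime_dvd_prime_iff_eq Nat.prime_two hℓ).1 h
      omega
    · by_cases hqℓ : q ∣ ℓ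
      · have := (Nat.prime_dvd_prime_iff_eq hq hℓ).1 hqℓ
        rw [oddExp, Nat.div_eq_of_lt (by omega)] at h1
        simp at h1
        omega
      · exact h1.trans (le_odd (hq.odd_of_ne_two h2) g hℓ.one_lt hqℓ)

end Groth.Agent.H23.GcdProd
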