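import Groth.Agent.H23.GenFibSec
import Groth.Agent.H23.CocycleMod
import Groth.Agent.InvX.GenLocusPull

/-!
An invertible module trivial on the generic fibres descends to a normal base.
-/

set_option autoImplicit false
set_option linter.unusedSectionVars false
set_option linter.style.haveILetI false
set_option backward.isDefEq.respectTransparency false

universe u

open CategoryTheory CategoryTheory.Limits AlgebraicGeometry TopologicalSpace Opposite

namespace Groth.Agent.H23.GenFibDescend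

open Groth.Agent AModX InvX GenFibStalk GenFibSec

variable {X Y : Scheme.{u}}

theorem isFrame_one' (Z : Scheme.{u}) : IsFrame (M := Coh.structureModule Z) (U := ⊤)
    (show Γ(Coh.structureModule Z, ⊤) from (1 : Γ(Z, ⊤))) := fun V h => by
  have : (fun r : Γ(Z, V) => r • AModX.res (Coh.structureModule Z) h
      (show Γ(Coh.structureModule Z, ⊤) from (1 : Γ(Z, ⊤)))) =
      fun r => (show Γ(Coh.structureModule Z, V) from r) := funext fun r => by
    show r * AModX.resR h 1 = r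
    rw [map_one, mul_one]
  rw [this]
  exact Function.bijective_id

theorem exists_frame_top {Z : Scheme.{u}} {N : Z.Modules} (h : Nonempty (N ≅ Coh.structureModule Z)) :
    ∃ t : Γ(N, ⊤), IsFrame t := by
  obtain ⟨e⟩ := h
  exact ⟨_, (isFrame_one' Z).map_iso e.symm⟩

theorem eq_of_pullback_eq (f : X ⟶ Y) [Flat f] [Surjective f] {W : Y.Opens} {a b : Γ(Y, W)}
    (h : ∀ x, f x ∈ W → ∃ (U : X.Opens) (e : U ≤ f ⁻¹ᵁ W), x ∈ U ∧ f.appLE W U e a = f.appLE W U e b) :
    a = b := by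
  refine TopCat.Presheaf.section_ext Y.sheaf W a b fun y hy => ?_
  obtain ⟨x, rfl⟩ := f.surjective y
  obtain ⟨U, e, hx, hab⟩ := h x hy
  letI := (f.stalkMap x).hom.toAlgebra
  haveI : Module.FaithfullyFlat (Y.presheaf.stalk (f x)) (X.presheaf.stalk x) :=
    RingHom.faithfullyFlat_algebraMap_iff.mp (FFDescent.faithfullyFlat_stalkMap f x)
  refine FaithfulSMul.algebraMap_injective (Y.presheaf.stalk (f x)) (X.presheaf.stalk x) ?_
  show (f.stalkMap x).hom ((Y.presheaf.germ W (f x) hy).hom a) =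
    (f.stalkMap x).hom ((Y.presheaf.germ W (f x) hy).hom b)
  have key : ∀ c : Γ(Y, W), (f.stalkMap x).hom ((Y.presheaf.germ W (f x) hy).hom c) =
      (X.presheaf.germ U x hx).hom (f.appLE W U e c) := fun c => by
    refine (ConcreteCategory.congr_hom (Scheme.Hom.germ_stalkMap f W x hy) c).trans ?_
    show (X.presheaf.germ _ x hy).hom ((f.app W).hom c) =
      (X.presheaf.germ U x hx).hom (resR e ((f.app W).hom c))
    rw [germ_resR]
  rw [key, key, hab]

theorem appLE_resR (f : X ⟶ Y) {W W' : Y.Opens} (hle : W' ≤ W) {U : X.Opens} (e : U ≤ f ⁻¹ᵁ W') (a : Γ(Y, W)) :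
    f.appLE W' U e (resR hle a) = f.appLE W U (e.trans (f.preimage_mono hle)) a :=
  ConcreteCategory.congr_hom (Scheme.Hom.map_appLE f e (homOfLE hle).op) a

theorem resR_appLE (f : X ⟶ Y) {W : Y.Opens} {U U' : X.Opens} (hle : U' ≤ U) (e : U ≤ f ⁻¹ᵁ W) (a : Γ(Y, W)) :
    resR hle (f.appLE W U e a) = f.appLE W U' (hle.trans e) a :=
  ConcreteCategory.congr_hom (Scheme.Hom.appLE_map f e (homOfLE hle).op) a

/-- The chosen constant and neighbourhood attached to a point of the base. -/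
structure Piece (f : X ⟶ Y) (L : X.Modules)
    (T : ∀ η : Y, (∀ z, z ⤳ η → z = η) → Γ((Scheme.Modules.pullback (f.fiberι η)).obj L, ⊤)) where
  /-- The maximal point. -/
  η : Y
  max : ∀ z, z ⤳ η → z = η
  /-- The constant. -/
  k : Y.residueField η
  k_ne : k ≠ 0
  /-- The neighbourhood. -/
  V : Y.Opens
  nb : Nb η V
  good : ∀ x, f x ∈ V → Good f (T η max) k x

variable {f : X ⟶ Y} {L : X.Modules}
  {T : ∀ η : Y, (∀ z, z ⤳ η → z = η) → Γ((Scheme.Modules.pullback (f.fiberι η)).obj L, ⊤)}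

/-- Transition function between two pieces. -/
def IsTr (P Q : Piece f L T) (W : Y.Opens) (a : Γ(Y, W)) : Prop :=
  ∀ (U : X.Opens) (e : U ≤ f ⁻¹ᵁ W) (s s' : Γ(L, U)), IsFrame s' → Rel f (T P.η P.max) P.k s →
    Rel f (T Q.η Q.max) Q.k s' → s = f.appLE W U e a • s'

variable [Flat f] [IsLocallyNoetherian Y]

theorem isTr_res {P Q : Piece f L T} {W W' : Y.Opens} {a : Γ(Y, W)} (h : IsTr P Q W a) (hle : W' ≤ W) :
    IsTr P Q W' (resR hle a) := fun U e s s' hs hr hr' => by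
  rw [appLE_resR]
  exact h U _ s s' hs hr hr'

theorem exists_pair (P Q : Piece f L T) {x : X} {W : Y.Opens} (hx : f x ∈ W) (hP : W ≤ P.V) (hQ : W ≤ Q.V) :
    ∃ (U : X.Opens) (_ : U ≤ f ⁻¹ᵁ W) (s s' : Γ(L, U)), x ∈ U ∧ IsFrame s ∧ IsFrame s' ∧
      Rel f (T P.η P.max) P.k s ∧ Rel f (T Q.η Q.max) Q.k s' := by
  obtain ⟨U, hxU, s, hs, hr⟩ := P.good x (hP hx)
  obtain ⟨U', hxU', s', hs', hr'⟩ := Q.good x (hQ hx)
  exact ⟨U ⊓ U' ⊓ f ⁻¹ᵁ W, inf_le_right, AModX.res L (inf_le_left.trans inf_le_left) s,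
    AModX.res L (inf_le_left.trans inf_le_right) s', ⟨⟨hxU, hxU'⟩, hx⟩, hs.res _, hs'.res _, hr.res f _ _,
    hr'.res f _ _⟩

variable [Surjective f]

theorem isTr_unique {P Q : Piece f L T} {W : Y.Opens} (hP : W ≤ P.V) (hQ : W ≤ Q.V) {a b : Γ(Y, W)}
    (ha : IsTr P Q W a) (hb : IsTr P Q W b) : a = b := by
  refine eq_of_pullback_eq f fun x hx => ?_
  obtain ⟨U, e, s, s', hxU, -, hs', hr, hr'⟩ := exists_pair P Q hx hP hQ
  refine ⟨U, e, hxU, hs'.coord_unique le_rfl ?_⟩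
  rw [res_self, ← ha U e s s' hs' hr hr', ← hb U e s s' hs' hr hr']

variable [IsLocallyNoetherian X]

theorem exists_local_aux (hY : Pi1.IsNormalScheme Y) (hL : PicF.IsInvertible L) (hT : ∀ η h, IsFrame (T η h))
    {η η' : Y} (hη : ∀ z, z ⤳ η → z = η) (hη' : ∀ z, z ⤳ η' → z = η') (he : η = η')
    (k : Y.residueField η) (k' : Y.residueField η') (hk : k ≠ 0) (hk' : k' ≠ 0) {x : X} {V : Y.Opens}
    (hV : IsAffineOpen V) (hxV : f x ∈ V) (hN : Nb η V) (h : Good f (T η hη) k x)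
    (h' : Good f (T η' hη') k' x) :
    ∃ (W : Y.Opens) (_ : f x ∈ W) (_ : W ≤ V) (a : Γ(Y, W)), IsUnit a ∧
      ∀ (U : X.Opens) (e : U ≤ f ⁻¹ᵁ W) (s s' : Γ(L, U)), IsFrame s' → Rel f (T η hη) k s →
        Rel f (T η' hη') k' s' → s = f.appLE W U e a • s' := by
  subst he
  obtain ⟨W, hxW, hNW, u, hu, rfl⟩ := eqv_of_good f (T η hη) hY hη (hT η hη) hV hxV hN hk' hk h' h
  refine ⟨W ⊓ V, ⟨hxW, hxV⟩, inf_le_right, resR inf_le_left u, hu.map _, fun U e s s' _ hr hr' => ?_⟩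
  rw [appLE_resR]
  refine pullElt_injective f hY hη hL hNW (U := U) (e.trans (f.preimage_mono inf_le_left)) ?_
  exact hr.trans (hr'.smul f (T η hη) hNW.1 (e.trans (f.preimage_mono inf_le_left)) u).symm

theorem exists_tr (hY : Pi1.IsNormalScheme Y) (hL : PicF.IsInvertible L) (hT : ∀ η h, IsFrame (T η h))
    (P Q : Piece f L T) : ∃ a : Γ(Y, P.V ⊓ Q.V), IsTr P Q (P.V ⊓ Q.V) a := by
  have hloc : ∀ y : {y : Y // y ∈ P.V ⊓ Q.V}, ∃ (W : Y.Opens) (_ : (y : Y) ∈ W) (_ : W ≤ P.V ⊓ Q.V)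
      (a : Γ(Y, W)), IsTr P Q W a := by
    rintro ⟨y, hyP, hyQ⟩
    obtain ⟨x, rfl⟩ := f.surjective y
    obtain ⟨V, hV, hxV, hle⟩ := exists_isAffineOpen_mem_and_subset (show f x ∈ P.V ⊓ Q.V from ⟨hyP, hyQ⟩)
    obtain ⟨W, hxW, hWV, a, -, ha⟩ := exists_local_aux hY hL hT P.max Q.max
      (max_unique hY P.max Q.max (P.nb.2 _ hyP) (Q.nb.2 _ hyQ)) P.k Q.k P.k_ne Q.k_ne hV hxV
      (P.nb.mono hxV fun z hz => (hle hz).1) (P.good x hyP) (Q.good x hyQ)
    exact ⟨W, hxW, fun z hz => hle (hWV hz), a, ha⟩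
  choose W hmem hW a ha using hloc
  obtain ⟨b, hb, -⟩ := existsUnique_glue (M := Coh.structureModule Y) (V := P.V ⊓ Q.V) W hW
    (fun p hp => ⟨⟨p, hp⟩, hmem ⟨p, hp⟩⟩) a fun i j =>
      isTr_unique (P := P) (Q := Q) ((inf_le_left.trans (hW i)).trans inf_le_left)
        ((inf_le_left.trans (hW i)).trans inf_le_right) (isTr_res (ha i) inf_le_left)
        (isTr_res (ha j) inf_le_right)
  refine ⟨b, fun U e s s' hs hr hr' => eq_of_locally _ _ fun p hp => ?_⟩
  let i : {y : Y // y ∈ P.V ⊓ Q.V} := ⟨f p, e hp⟩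
  refine ⟨U ⊓ f ⁻¹ᵁ W i, inf_le_left, ⟨hp, hmem i⟩, ?_⟩
  rw [res_smul, resR_appLE, ha i (U ⊓ f ⁻¹ᵁ W i) inf_le_right _ _ (hs.res inf_le_left) (hr.res f _ _)
    (hr'.res f _ _)]
  congr 1
  have hbi : resR (hW i) b = a i := hb i
  rw [← hbi, appLE_resR]

theorem isTr_trans {P Q R : Piece f L T} {W : Y.Opens} (hQ : W ≤ Q.V) (hR : W ≤ R.V) (hP : W ≤ P.V)
    {a b c : Γ(Y, W)} (ha : IsTr P Q W a) (hb : IsTr Q R W b) (hc : IsTr P R W c) : c = b * a := by
  refine eq_of_pullback_eq f fun x hx => ?_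
  obtain ⟨U₁, e₁, s, s', hxU₁, -, hs', hr, hr'⟩ := exists_pair P Q hx hP hQ
  obtain ⟨U₂, e₂, -, s'', hxU₂, -, hs'', -, hr''⟩ := exists_pair Q R hx hQ hR
  refine ⟨U₁ ⊓ U₂, inf_le_left.trans e₁, ⟨hxU₁, hxU₂⟩, (hs''.res inf_le_right).coord_unique le_rfl ?_⟩
  rw [res_self, map_mul,
    ← hc (U₁ ⊓ U₂) (inf_le_left.trans e₁) _ _ (hs''.res inf_le_right) (hr.res f _ inf_le_left) (hr''.res f _ inf_le_right),
    mul_comm, mul_smul,
    ← hb (U₁ ⊓ U₂) (inf_le_left.trans e₁) _ _ (hs''.res inf_le_right) (hr'.res f _ inf_le_left) (hr''.res f _ inf_le_right)]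
  exact ha (U₁ ⊓ U₂) _ _ _ (hs'.res inf_le_left) (hr.res f _ inf_le_left) (hr'.res f _ inf_le_left)

theorem isTr_self (hY : Pi1.IsNormalScheme Y) (hL : PicF.IsInvertible L) (P : Piece f L T) {W : Y.Opens}
    (hW : W ≤ P.V) : IsTr P P W 1 := fun U e s s' _ hr hr' => by
  rw [map_one, one_smul]
  exact pullElt_injective f hY P.max hL P.nb (U := U) (e.trans (f.preimage_mono hW)) (hr.trans hr'.symm)

/-- An invertible module trivial on the generic fibres comes from the normal base. -/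
theorem exists_descent (hf : QuasiCompact f ∨ IsOpenMap f) (hY : Pi1.IsNormalScheme Y)
    (hfib : ∀ y : Y, ringKrullDim (Y.presheaf.stalk y) = 1 → IsIntegral (f.fiber y))
    (hL : PicF.IsInvertible L)
    (htriv : ∀ η : Y, (∀ z, z ⤳ η → z = η) →
      Nonempty ((Scheme.Modules.pullback (f.fiberι η)).obj L ≅ Coh.structureModule (f.fiber η))) :
    ∃ M : Y.Modules, PicF.IsInvertible M ∧ Nonempty ((Scheme.Modules.pullback f).obj M ≅ L) := by
  choose T hT using fun η hη => exists_frame_top (htriv η hη)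
  have hpiece : ∀ y : Y, ∃ P : Piece f L T, y ∈ P.V := by
    intro y
    obtain ⟨η, hη, V, hV, hyV, hN⟩ := exists_nb hY y
    obtain ⟨k, V', hk, hyV', -, hN', hgood⟩ :=
      exists_good_nbhd f (T η hη) hfib hf hY hη hL (hT η hη) hV hyV hN
    exact ⟨⟨η, hη, k, hk, V', hN', hgood⟩, hyV'⟩
  choose P hP using hpiece
  choose a ha using fun i j => exists_tr hY hL hT (P i) (P j)
  have htr : ∀ (i j k : Y) (W : Y.Opens) (hi : W ≤ (P i).V) (hj : W ≤ (P j).V) (hk : W ≤ (P k).V),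
      resR (le_inf hi hk) (a i k) = resR (le_inf hj hk) (a j k) * resR (le_inf hi hj) (a i j) :=
    fun i j k W hi hj hk => isTr_trans hj hk hi (isTr_res (ha i j) _) (isTr_res (ha j k) _) (isTr_res (ha i k) _)
  have hunit : ∀ i j, IsUnit (a i j) := fun i j => by
    refine IsUnit.of_mul_eq_one (resR (le_inf inf_le_right inf_le_left) (a j i)) ?_
    have h1 := htr i j i ((P i).V ⊓ (P j).V) inf_le_left inf_le_right inf_le_left
    have h2 : resR (le_inf inf_le_left inf_le_left) (a i i) = (1 : Γ(Y, (P i).V ⊓ (P j).V)) :=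
      isTr_unique inf_le_left inf_le_left (isTr_res (ha i i) _) (isTr_self hY hL (P i) inf_le_left)
    rw [h2, resR_self] at h1
    rw [mul_comm]; exact h1.symm
  let t : CocycleMod.Cocycle (fun i => (P i).V) :=
    { g := fun i j => (hunit i j).unit
      trans := fun i j k W hi hj hk => htr i j k W hi hj hk }
  have hcov : iSup (fun i => (P i).V) = ⊤ :=
    eq_top_iff.2 fun y _ => Opens.mem_iSup.2 ⟨y, hP y⟩
  refine ⟨CocycleMod.mod t, CocycleMod.isInvertible t hcov, ?_⟩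
  let ι₀ := {p : Y × X // f p.2 ∈ (P p.1).V}
  choose U hxU s hs hr using fun c : ι₀ => (P c.1.1).good c.1.2 c.2
  let U' : ι₀ → X.Opens := fun c => U c ⊓ f ⁻¹ᵁ (P c.1.1).V
  have hcov' : ∀ x, ∃ c, x ∈ U' c := fun x => ⟨⟨(f x, x), hP (f x)⟩, hxU ⟨(f x, x), hP (f x)⟩, hP (f x)⟩
  let N := (Scheme.Modules.pullback f).obj (CocycleMod.mod t)
  let e : ∀ c, Γ(N, U' c) := fun c =>
    AModX.res N inf_le_right (pullElt f (CocycleMod.frame t c.1.1))
  let n : ∀ c, Γ(L, U' c) := fun c => AModX.res L inf_le_left (s c)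
  have he : ∀ c, IsFrame (e c) := fun c => (isFrame_pullElt f (CocycleMod.isFrame_frame t c.1.1)).res _
  have hn : ∀ c, IsFrame (n c) := fun c => (hs c).res _
  have key : ∀ (c d : ι₀) (W : X.Opens) (hc : W ≤ U' c) (hd : W ≤ U' d),
      ∃ φ : Γ(X, W), AModX.res N hd (e d) = φ • AModX.res N hc (e c) ∧
        AModX.res L hd (n d) = φ • AModX.res L hc (n c) := by
    intro c d W hc hd
    have hW : W ≤ f ⁻¹ᵁ ((P d.1.1).V ⊓ (P c.1.1).V) :=
      fun z hz => ⟨(hd hz).2, (hc hz).2⟩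
    refine ⟨f.appLE _ W hW (a d.1.1 c.1.1), ?_, ?_⟩
    · have h1 := congrArg (pullElt f) (CocycleMod.res_frame t d.1.1 c.1.1)
      have hres : ∀ {V V' : Y.Opens} (h : V' ≤ V) (m : Γ(CocycleMod.mod t, V)),
          pullElt f (AModX.res _ h m) = AModX.res N (f.preimage_mono h) (pullElt f m) := fun h m =>
        app_res ((Scheme.Modules.pullbackPushforwardAdjunction f).unit.app _) h m
      have hsmul : ∀ {V : Y.Opens} (r : Γ(Y, V)) (m : Γ(CocycleMod.mod t, V)),
          pullElt f (r • m) = f.app V r • pullElt f m := fun r m =>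
        Scheme.Modules.Hom.app_smul ((Scheme.Modules.pullbackPushforwardAdjunction f).unit.app _) r m
      rw [hres, hsmul, hres] at h1
      have h2 := congrArg (AModX.res N hW) h1
      rw [res_smul, res_res, res_res] at h2
      show AModX.res N hd (AModX.res N _ _) = _ • AModX.res N hc (AModX.res N _ _)
      rw [res_res, res_res, h2]
      rfl
    · exact ha d.1.1 c.1.1 W hW _ _ ((hn c).res hc) (((hr d).res f _ inf_le_left).res f _ hd)
        (((hr c).res f _ inf_le_left).res f _ hc)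
  have hc1 : ∀ (c d : ι₀) (W : X.Opens) (hc : W ≤ U' c) (hd : W ≤ U' d) (g : Γ(X, W)),
      AModX.res N hd (e d) = g • AModX.res N hc (e c) → AModX.res L hd (n d) = g • AModX.res L hc (n c) := by
    intro c d W hc hd g hg
    obtain ⟨φ, h1, h2⟩ := key c d W hc hd
    rw [h2, (he c).coord_unique hc (hg.symm.trans h1)]
  have hc2 : ∀ (c d : ι₀) (W : X.Opens) (hc : W ≤ U' c) (hd : W ≤ U' d) (g : Γ(X, W)),
      AModX.res L hd (n d) = g • AModX.res L hc (n c) → AModX.res N hd (e d) = g • AModX.res N hc (e c) := by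
    intro c d W hc hd g hg
    obtain ⟨φ, h1, h2⟩ := key c d W hc hd
    rw [h1, (hn c).coord_unique hc (hg.symm.trans h2)]
  exact ⟨{ hom := ofFrames hcov' he hc1
           inv := ofFrames hcov' hn hc2
           hom_inv_id := hom_ext_of_frames U' hcov' e he fun c => by
             show (ofFrames hcov' hn hc2).app (U' c) ((ofFrames hcov' he hc1).app (U' c) (e c)) = e c
             rw [ofFrames_app, ofFrames_app]
           inv_hom_id := hom_ext_of_frames U' hcov' n hn fun c => by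
             show (ofFrames hcov' he hc1).app (U' c) ((ofFrames hcov' hn hc2).app (U' c) (n c)) = n c
             rw [ofFrames_app, ofFrames_app] }⟩

end Groth.Agent.H23.GenFibDescend
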