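import Groth.Agent.H23.GenFibStalk
import Groth.Agent.H23.FinCondSch
import Groth.Agent.InvX.Pullback
import Groth.Agent.AModX.Res

/-!
Sections of an invertible module trivial on the generic fibre of a flat morphism to a normal scheme.
-/

set_option autoImplicit false
set_option linter.unusedSectionVars false
set_option linter.style.haveILetI false
set_option backward.isDefEq.respectTransparency false

universe u

open CategoryTheory CategoryTheory.Limits AlgebraicGeometry TopologicalSpace Opposite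

namespace Groth.Agent.H23.GenFibSec

open Groth.Agent AModX InvX GenFibStalk

variable {X Y : Scheme.{u}}

/-- An open neighbourhood of a point all of whose points are its specializations. -/
def Nb (η : Y) (V : Y.Opens) : Prop := η ∈ V ∧ ∀ y ∈ V, η ⤳ y

theorem Nb.mono {η : Y} {V W : Y.Opens} (h : Nb η V) {y : Y} (hy : y ∈ W) (hle : W ≤ V) : Nb η W :=
  ⟨(h.2 y (hle hy)).mem_open W.2 hy, fun z hz => h.2 z (hle hz)⟩

theorem exists_nb [IsLocallyNoetherian Y] (hY : Pi1.IsNormalScheme Y) (y : Y) :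
    ∃ η : Y, (∀ z, z ⤳ η → z = η) ∧ ∃ V : Y.Opens, IsAffineOpen V ∧ y ∈ V ∧ Nb η V := by
  haveI := (hY y).1
  obtain ⟨W, hyW, hW⟩ := FinCondSch.exists_integral_nhd y
  haveI : IrreducibleSpace ↥W.toScheme := inferInstance
  let η : Y := W.ι (genericPoint W.toScheme)
  have hgen : ∀ z ∈ W, η ⤳ z := fun z hz =>
    (genericPoint_specializes (α := W.toScheme) ⟨z, hz⟩).map W.ι.continuous
  have hηW : η ∈ W := by
    have h : η ∈ Set.range W.ι := ⟨_, rfl⟩
    rwa [Scheme.Opens.range_ι] at h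
  refine ⟨η, fun z hz => (hz.antisymm (hgen z (hz.mem_open W.2 hηW))).eq, ?_⟩
  obtain ⟨V, hV, hyV, hVW⟩ := exists_isAffineOpen_mem_and_subset hyW
  exact ⟨V, hV, hyV, Nb.mono ⟨hηW, hgen⟩ hyV hVW⟩

theorem max_unique (hY : Pi1.IsNormalScheme Y) {y η η' : Y} (hη : ∀ z, z ⤳ η → z = η)
    (hη' : ∀ z, z ⤳ η' → z = η') (h : η ⤳ y) (h' : η' ⤳ y) : η = η' := by
  have key : ∀ {z : Y} (hz : z ⤳ y), (∀ w, w ⤳ z → w = z) → (CDiv6.primeOf hz).asIdeal = ⊥ := by
    intro z hz hmax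
    refine le_bot_iff.1 fun a ha => Ideal.mem_bot.2 ?_
    by_contra h0
    exact (CDiv6.mem_primeOf hz a).1 ha (isUnit_of_max hY hmax (sp_ne_zero hY hz h0))
  exact StalkPrimes.primeOf_inj h h' ((key h hη).trans (key h' hη').symm)

theorem germ_resR {W V : X.Opens} (hle : W ≤ V) (x : X) (h : x ∈ W) (a : Γ(X, V)) :
    (X.presheaf.germ W x h).hom (resR hle a) = (X.presheaf.germ V x (hle h)).hom a :=
  TopCat.Presheaf.germ_res_apply X.presheaf (homOfLE hle) x h a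

/-- The value at the generic point. -/
noncomputable abbrev ev (η : Y) {V : Y.Opens} (h : η ∈ V) : Γ(Y, V) →+* Y.residueField η :=
  (Y.evaluation V η h).hom

theorem ev_res {η : Y} {V W : Y.Opens} (hle : W ≤ V) (h : η ∈ W) (a : Γ(Y, V)) :
    ev η h (resR hle a) = ev η (hle h) a := by
  show (Y.residue η).hom ((Y.presheaf.germ W η h).hom ((Y.presheaf.map (homOfLE hle).op).hom a)) =
    (Y.residue η).hom ((Y.presheaf.germ V η (hle h)).hom a)
  erw [TopCat.Presheaf.germ_res_apply]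

theorem germ_eq_zero_of_ev (hY : Pi1.IsNormalScheme Y) {η : Y} (hη : ∀ z, z ⤳ η → z = η) {V : Y.Opens}
    (h : η ∈ V) {a : Γ(Y, V)} (ha : ev η h a = 0) : (Y.presheaf.germ V η h).hom a = 0 := by
  by_contra h0
  exact ((isUnit_of_max hY hη h0).map (Y.residue η).hom).ne_zero ha

theorem eq_zero_of_ev (hY : Pi1.IsNormalScheme Y) {η : Y} (hη : ∀ z, z ⤳ η → z = η) {V : Y.Opens}
    (hV : Nb η V) {a : Γ(Y, V)} (ha : ev η hV.1 a = 0) : a = 0 := by
  refine TopCat.Presheaf.section_ext Y.sheaf V a 0 fun y hy => ?_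
  show (Y.presheaf.germ V y hy).hom a = (Y.presheaf.germ V y hy).hom 0
  rw [map_zero]
  by_contra h0
  refine sp_ne_zero hY (hV.2 y hy) h0 ?_
  have h1 : (Y.presheaf.stalkSpecializes (hV.2 y hy)).hom ((Y.presheaf.germ V y hy).hom a) =
      (Y.presheaf.germ V η hV.1).hom a :=
    ConcreteCategory.congr_hom (Y.presheaf.germ_stalkSpecializes hy (hV.2 y hy)) a
  rw [h1]
  exact germ_eq_zero_of_ev hY hη hV.1 ha

theorem ev_injective (hY : Pi1.IsNormalScheme Y) {η : Y} (hη : ∀ z, z ⤳ η → z = η) {V : Y.Opens}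
    (hV : Nb η V) : Function.Injective (ev η hV.1) :=
  (injective_iff_map_eq_zero _).2 fun _ h => eq_zero_of_ev hY hη hV h

theorem exists_frac {η : Y} {V : Y.Opens} (hV : IsAffineOpen V) (h : η ∈ V) (k : Y.residueField η) :
    ∃ a d : Γ(Y, V), ev η h d ≠ 0 ∧ k * ev η h d = ev η h a := by
  obtain ⟨g, rfl⟩ := IsLocalRing.residue_surjective k
  haveI := hV.isLocalization_stalk ⟨η, h⟩
  letI := TopCat.Presheaf.algebra_section_stalk Y.presheaf (⟨η, h⟩ : V)
  obtain ⟨⟨a, d⟩, had⟩ := IsLocalization.surj (hV.primeIdealOf ⟨η, h⟩).asIdeal.primeCompl g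
  refine ⟨a, d, (((IsLocalization.map_units (M := (hV.primeIdealOf ⟨η, h⟩).asIdeal.primeCompl)
    (Y.presheaf.stalk η) d)).map (Y.residue η).hom).ne_zero, ?_⟩
  exact ((map_mul (Y.residue η).hom g _).symm.trans (congrArg (Y.residue η).hom had) :)

variable (f : X ⟶ Y) {η : Y}

/-- The constants of the generic fibre. -/
noncomputable def cst (W : (f.fiber η).Opens) : Y.residueField η →+* Γ(f.fiber η, W) :=
  (resR le_top).comp ((Scheme.ΓSpecIso (Y.residueField η)).inv ≫ (f.fiberToSpecResidueField η).appTop).hom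

theorem cst_res {W W' : (f.fiber η).Opens} (h : W' ≤ W) (k : Y.residueField η) :
    resR h (cst f W k) = cst f W' k := resR_resR _ _ _

theorem fromSpecResidueField_appLE {V : Y.Opens} (h : η ∈ V)
    (e : ⊤ ≤ Y.fromSpecResidueField η ⁻¹ᵁ V) :
    (Y.fromSpecResidueField η).appLE V ⊤ e =
      Y.evaluation V η h ≫ (Scheme.ΓSpecIso (Y.residueField η)).inv := by
  have h1 : (Y.fromSpecResidueField η).appLE V ⊤ e =
      (Y.fromSpecStalk η).app V ≫ (Spec.map (Y.residue η)).appLE _ ⊤ e := by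
    rw [Scheme.Hom.app_eq_appLE, Scheme.Hom.appLE_comp_appLE]
    rfl
  rw [h1, Scheme.fromSpecStalk_app h, Category.assoc, Category.assoc, Scheme.Hom.map_appLE]
  show _ = (Y.presheaf.germ V η h ≫ Y.residue η) ≫ _
  rw [Category.assoc, Scheme.ΓSpecIso_inv_naturality]
  simp [Scheme.Hom.appTop, Scheme.Hom.app_eq_appLE]

theorem ι_appLE_f {V : Y.Opens} (h : η ∈ V) {U : X.Opens} (e : U ≤ f ⁻¹ᵁ V) (a : Γ(Y, V)) :
    (f.fiberι η).app U (f.appLE V U e a) = cst f (f.fiberι η ⁻¹ᵁ U) (ev η h a) := by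
  have e1 : (⊤ : (Spec (Y.residueField η)).Opens) ≤ Y.fromSpecResidueField η ⁻¹ᵁ V := fun z _ => by
    show Y.fromSpecResidueField η z ∈ V
    rwa [Scheme.fromSpecResidueField_apply]
  have key : f.appLE V U e ≫ (f.fiberι η).app U =
      (Y.fromSpecResidueField η).appLE V ⊤ e1 ≫
        (f.fiberToSpecResidueField η).appLE ⊤ (f.fiberι η ⁻¹ᵁ U) le_top := by
    simp only [Scheme.Hom.app_eq_appLE, Scheme.Hom.appLE_comp_appLE, Scheme.Hom.fiber_fac]
  rw [fromSpecResidueField_appLE h e1] at key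
  exact ConcreteCategory.congr_hom key a

variable [Flat f] [IsLocallyNoetherian Y]

theorem isPushout_affine {V : Y.Opens} (hV : IsAffineOpen V) (h : η ∈ V) {U : X.Opens} (hU : IsAffineOpen U)
    (e : U ≤ f ⁻¹ᵁ V) :
    ∃ e1 : (⊤ : (Spec (Y.residueField η)).Opens) ≤ Y.fromSpecResidueField η ⁻¹ᵁ V,
      IsPushout (f.appLE V U e) ((Y.fromSpecResidueField η).appLE V ⊤ e1)
        ((f.fiberι η).appLE U (f.fiberι η ⁻¹ᵁ U) le_rfl)
        ((f.fiberToSpecResidueField η).appLE ⊤ (f.fiberι η ⁻¹ᵁ U) le_top) := by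
  have e1 : (⊤ : (Spec (Y.residueField η)).Opens) ≤ Y.fromSpecResidueField η ⁻¹ᵁ V := fun z _ => by
    show Y.fromSpecResidueField η z ∈ V
    rwa [Scheme.fromSpecResidueField_apply]
  exact ⟨e1, (isIso_pushoutSection_iff (IsPullback.of_hasPullback f (Y.fromSpecResidueField η)) e1 e
    (UY := f.fiberι η ⁻¹ᵁ U) (inf_eq_left.2 (le_top : _ ≤ (⊤ : (f.fiber η).Opens))).symm).1
    (isIso_pushoutSection_of_isAffineOpen _ _ _ _ hV (isAffineOpen_top _) hU)⟩

theorem ι_injective_affine (hY : Pi1.IsNormalScheme Y) (hη : ∀ z, z ⤳ η → z = η) {V : Y.Opens}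
    (hV : IsAffineOpen V) (hN : Nb η V) {U : X.Opens} (hU : IsAffineOpen U) (e : U ≤ f ⁻¹ᵁ V) :
    Function.Injective ((f.fiberι η).app U) := by
  obtain ⟨e1, H⟩ := isPushout_affine f hV hN.1 hU e
  have hflat : (f.appLE V U e).hom.Flat := Scheme.Hom.flat_appLE f hV hU e
  have hinj : Function.Injective ((Y.fromSpecResidueField η).appLE V ⊤ e1).hom := by
    rw [fromSpecResidueField_appLE hN.1 e1]
    exact (ConcreteCategory.bijective_of_isIso (Scheme.ΓSpecIso (Y.residueField η)).inv).1.comp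
      (ev_injective hY hη hN)
  algebraize [(f.appLE V U e).hom, ((Y.fromSpecResidueField η).appLE V ⊤ e1).hom]
  let P := (CommRingCat.isPushout_tensorProduct Γ(Y, V) Γ(X, U)
    Γ(Spec (Y.residueField η), ⊤)).isoIsPushout _ _ H
  have h1 : Function.Injective
      ((Algebra.TensorProduct.includeLeft : Γ(X, U) →ₐ[Γ(X, U)] _).toRingHom :
        Γ(X, U) →+* TensorProduct Γ(Y, V) Γ(X, U) Γ(Spec (Y.residueField η), ⊤)) :=
    Algebra.TensorProduct.includeLeft_injective (S := Γ(X, U)) hinj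
  have h2 := (ConcreteCategory.bijective_of_isIso P.hom).1.comp h1
  have h3 := ConcreteCategory.congr_hom
    ((CommRingCat.isPushout_tensorProduct Γ(Y, V) Γ(X, U)
      Γ(Spec (Y.residueField η), ⊤)).inl_isoIsPushout_hom _ _ H)
  intro a b hab
  rw [Scheme.Hom.app_eq_appLE] at hab
  exact h2 ((h3 a).trans (hab.trans (h3 b).symm))

theorem exists_num {V : Y.Opens} (hV : IsAffineOpen V) (h : η ∈ V) {U : X.Opens}
    (hU : IsAffineOpen U) (e : U ≤ f ⁻¹ᵁ V) (φ : Γ(f.fiber η, f.fiberι η ⁻¹ᵁ U)) :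
    ∃ (d : Γ(Y, V)) (b : Γ(X, U)), ev η h d ≠ 0 ∧ φ * cst f _ (ev η h d) = (f.fiberι η).app U b := by
  obtain ⟨e1, H⟩ := isPushout_affine f hV h hU e
  have hmem : φ ∈ Subring.closure (Set.range ((f.fiberι η).appLE U (f.fiberι η ⁻¹ᵁ U) le_rfl) ∪
      Set.range ((f.fiberToSpecResidueField η).appLE ⊤ (f.fiberι η ⁻¹ᵁ U) le_top)) := by
    rw [CommRingCat.closure_range_union_range_eq_top_of_isPushout H]; trivial
  induction hmem using Subring.closure_induction with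
  | mem z hz =>
    rcases hz with ⟨b, rfl⟩ | ⟨k, rfl⟩
    · refine ⟨1, b, by simp, ?_⟩
      rw [Scheme.Hom.app_eq_appLE, map_one, map_one, mul_one]
    · obtain ⟨k', rfl⟩ : ∃ k', (Scheme.ΓSpecIso (Y.residueField η)).inv k' = k :=
        (ConcreteCategory.bijective_of_isIso (Scheme.ΓSpecIso (Y.residueField η)).inv).2 k
      obtain ⟨a, d, hd, hk⟩ := exists_frac hV h k'
      refine ⟨d, f.appLE V U e a, hd, ?_⟩
      rw [ι_appLE_f f h e, ← hk, map_mul]
      rfl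
  | zero => exact ⟨1, 0, by simp, by simp⟩
  | one => exact ⟨1, 1, by simp, by simp⟩
  | add x y _ _ hx hy =>
    obtain ⟨d, b, hd, hb⟩ := hx
    obtain ⟨d', b', hd', hb'⟩ := hy
    refine ⟨d * d', b * f.appLE V U e d' + b' * f.appLE V U e d, by simp [hd, hd'], ?_⟩
    rw [map_mul, map_mul, map_add, map_mul, map_mul, ι_appLE_f f h e, ι_appLE_f f h e, ← hb, ← hb']
    ring
  | neg x _ hx =>
    obtain ⟨d, b, hd, hb⟩ := hx
    exact ⟨d, -b, hd, by rw [map_neg, neg_mul, hb]⟩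
  | mul x y _ _ hx hy =>
    obtain ⟨d, b, hd, hb⟩ := hx
    obtain ⟨d', b', hd', hb'⟩ := hy
    refine ⟨d * d', b * b', by simp [hd, hd'], ?_⟩
    rw [map_mul, map_mul, map_mul, ← hb, ← hb']
    ring

theorem exists_affine_pair {V : Y.Opens} {U : X.Opens} {x : X} (hx : x ∈ U) (e : U ≤ f ⁻¹ᵁ V) :
    ∃ (V' : Y.Opens) (U' : X.Opens), IsAffineOpen V' ∧ IsAffineOpen U' ∧ f x ∈ V' ∧ x ∈ U' ∧ V' ≤ V ∧ U' ≤ U ∧
      U' ≤ f ⁻¹ᵁ V' := by
  obtain ⟨V', hV', hxV', hle⟩ := exists_isAffineOpen_mem_and_subset (show f x ∈ V from e hx)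
  obtain ⟨U', hU', hxU', hle'⟩ := exists_isAffineOpen_mem_and_subset (show x ∈ U ⊓ f ⁻¹ᵁ V' from ⟨hx, hxV'⟩)
  exact ⟨V', U', hV', hU', hxV', hxU', hle, fun z hz => (hle' hz).1, fun z hz => (hle' hz).2⟩

theorem ι_injective (hY : Pi1.IsNormalScheme Y) (hη : ∀ z, z ⤳ η → z = η) {V : Y.Opens} (hN : Nb η V)
    {U : X.Opens} (e : U ≤ f ⁻¹ᵁ V) : Function.Injective ((f.fiberι η).app U) := by
  refine (injective_iff_map_eq_zero _).2 fun b hb => eq_of_locally (M := Coh.structureModule X) b 0 fun p hp => ?_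
  obtain ⟨V', U', hV', hU', hpV', hpU', hle, hle', e'⟩ := exists_affine_pair f hp e
  refine ⟨U', hle', hpU', ?_⟩
  show resR hle' b = resR hle' 0
  rw [map_zero]
  refine ι_injective_affine f hY hη hV' (hN.mono hpV' hle) hU' e' ?_
  rw [map_zero, Scheme.Hom.app_eq_appLE]
  refine (ConcreteCategory.congr_hom (Scheme.Hom.map_appLE (f.fiberι η) le_rfl (homOfLE hle').op) b).trans ?_
  refine (ConcreteCategory.congr_hom (Scheme.Hom.appLE_map (f.fiberι η) (le_refl (f.fiberι η ⁻¹ᵁ U))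
    (homOfLE ((f.fiberι η).preimage_mono hle')).op) b).symm.trans ?_
  show resR _ ((f.fiberι η).appLE U _ le_rfl b) = 0
  rw [← Scheme.Hom.app_eq_appLE, hb, map_zero]

section Module

variable {L : X.Modules}

theorem pullElt_res {U U' : X.Opens} (h : U' ≤ U) (s : Γ(L, U)) :
    pullElt (f.fiberι η) (res L h s) =
      res _ ((f.fiberι η).preimage_mono h) (pullElt (f.fiberι η) s) :=
  app_res ((Scheme.Modules.pullbackPushforwardAdjunction (f.fiberι η)).unit.app L) h s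

theorem pullElt_smul {U : X.Opens} (c : Γ(X, U)) (s : Γ(L, U)) :
    pullElt (f.fiberι η) (c • s) = (f.fiberι η).app U c • pullElt (f.fiberι η) s :=
  Scheme.Modules.Hom.app_smul ((Scheme.Modules.pullbackPushforwardAdjunction (f.fiberι η)).unit.app L) c s

theorem pullElt_injective (hY : Pi1.IsNormalScheme Y) (hη : ∀ z, z ⤳ η → z = η) (hL : PicF.IsInvertible L)
    {V : Y.Opens} (hN : Nb η V) {U : X.Opens} (e : U ≤ f ⁻¹ᵁ V) {s s' : Γ(L, U)}
    (h : pullElt (f.fiberι η) s = pullElt (f.fiberι η) s') : s = s' := by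
  refine eq_of_locally _ _ fun p hp => ?_
  obtain ⟨U₀, hp₀, e₀, he₀⟩ := exists_frame hL p
  refine ⟨U ⊓ U₀, inf_le_left, ⟨hp, hp₀⟩, ?_⟩
  obtain ⟨c, hc⟩ := he₀.exists_coord inf_le_right (res L (inf_le_left : U ⊓ U₀ ≤ U) s)
  obtain ⟨c', hc'⟩ := he₀.exists_coord inf_le_right (res L (inf_le_left : U ⊓ U₀ ≤ U) s')
  rw [hc, hc']
  congr 1
  refine ι_injective f hY hη hN (inf_le_left.trans e) ?_
  refine (isFrame_pullElt (f.fiberι η) he₀).coord_unique
    ((f.fiberι η).preimage_mono (inf_le_right : U ⊓ U₀ ≤ U₀)) ?_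
  have h' := congrArg (res _ ((f.fiberι η).preimage_mono (inf_le_left : U ⊓ U₀ ≤ U))) h
  rw [← pullElt_res f (inf_le_left : U ⊓ U₀ ≤ U), ← pullElt_res f (inf_le_left : U ⊓ U₀ ≤ U), hc, hc', pullElt_smul,
    pullElt_smul, pullElt_res] at h'
  exact h'

variable (t : Γ((Scheme.Modules.pullback (f.fiberι η)).obj L, ⊤))

/-- The section restricts on the generic fibre to a constant times the trivialisation. -/
def Rel (k : Y.residueField η) {U : X.Opens} (s : Γ(L, U)) : Prop :=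
  pullElt (f.fiberι η) s = cst f (f.fiberι η ⁻¹ᵁ U) k •
    res ((Scheme.Modules.pullback (f.fiberι η)).obj L) (le_top : f.fiberι η ⁻¹ᵁ U ≤ ⊤) t

theorem Rel.res {k : Y.residueField η} {U U' : X.Opens} {s : Γ(L, U)} (h : Rel f t k s) (hle : U' ≤ U) :
    Rel f t k (AModX.res L hle s) := by
  rw [Rel, pullElt_res, h, res_smul, cst_res, res_res]

theorem Rel.smul {k : Y.residueField η} {U : X.Opens} {s : Γ(L, U)} (h : Rel f t k s) {V : Y.Opens}
    (hV : η ∈ V) (e : U ≤ f ⁻¹ᵁ V) (a : Γ(Y, V)) : Rel f t (k * ev η hV a) (f.appLE V U e a • s) := by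
  rw [Rel, pullElt_smul, h, ι_appLE_f f hV e, ← mul_smul, ← map_mul, mul_comm]

/-- Near the point the module has a frame which is a constant times the trivialisation. -/
def Good (k : Y.residueField η) (x : X) : Prop :=
  ∃ U : X.Opens, x ∈ U ∧ ∃ s : Γ(L, U), IsFrame s ∧ Rel f t k s

theorem Good.of_specializes {k : Y.residueField η} {x x' : X} (h : Good f t k x) (hs : x' ⤳ x) :
    Good f t k x' := by
  obtain ⟨U, hx, hU⟩ := h
  exact ⟨U, hs.mem_open U.2 hx, hU⟩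

/-- The two constants differ by a unit of the base near the point. -/
def Eqv (y : Y) (k k' : Y.residueField η) : Prop :=
  ∃ (V : Y.Opens) (_ : y ∈ V) (hN : Nb η V) (u : Γ(Y, V)), IsUnit u ∧ k' = k * ev η hN.1 u

theorem Good.of_eqv {k k' : Y.residueField η} {x : X} (h : Good f t k x) (he : Eqv (f x) k k') :
    Good f t k' x := by
  obtain ⟨U, hx, s, hs, hr⟩ := h
  obtain ⟨V, hy, hN, u, hu, rfl⟩ := he
  refine ⟨U ⊓ f ⁻¹ᵁ V, ⟨hx, hy⟩, f.appLE V (U ⊓ f ⁻¹ᵁ V) inf_le_right u • AModX.res L inf_le_left s,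
    (hs.res inf_le_left).isUnit_smul (hu.map _), (hr.res f t inf_le_left).smul f t hN.1 inf_le_right u⟩

theorem eqv_of_germ (hY : Pi1.IsNormalScheme Y) (hη : ∀ z, z ⤳ η → z = η) {y : Y} {V : Y.Opens} (hy : y ∈ V)
    (hN : Nb η V) {P Q : Γ(Y, V)} {k k' : Y.residueField η} (hk : k' * ev η hN.1 P = k * ev η hN.1 Q)
    (hP : ev η hN.1 P ≠ 0)
    (hass : Associated ((Y.presheaf.germ V y hy).hom P) ((Y.presheaf.germ V y hy).hom Q)) : Eqv y k k' := by
  obtain ⟨w, hw⟩ := hass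
  obtain ⟨W, hyW, u, hu⟩ := TopCat.Presheaf.exists_germ_eq Y.presheaf (w : Y.presheaf.stalk y)
  have hu' : (Y.presheaf.germ W y hyW).hom u = (w : Y.presheaf.stalk y) := hu
  have hyb : y ∈ Y.basicOpen u := (Y.mem_basicOpen u y hyW).2 (hu ▸ w.isUnit)
  have heq : (Y.presheaf.germ (V ⊓ Y.basicOpen u) y ⟨hy, hyb⟩).hom (resR inf_le_left P *
      resR (inf_le_right.trans (Y.basicOpen_le u)) u) =
      (Y.presheaf.germ (V ⊓ Y.basicOpen u) y ⟨hy, hyb⟩).hom (resR inf_le_left Q) := by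
    rw [map_mul]
    erw [TopCat.Presheaf.germ_res_apply, TopCat.Presheaf.germ_res_apply, TopCat.Presheaf.germ_res_apply]
    rw [hu', hw]
  have hyi : y ∈ V ⊓ Y.basicOpen u := ⟨hy, hyb⟩
  obtain ⟨T, hyT, i, i', hT⟩ := TopCat.Presheaf.germ_eq Y.presheaf y hyi hyi _ _ heq
  have hT' : resR i.le (resR inf_le_left P * resR (inf_le_right.trans (Y.basicOpen_le u)) u) =
      resR i.le (resR (inf_le_left : V ⊓ Y.basicOpen u ≤ V) Q) := hT
  have hTV : T ≤ V := i.le.trans inf_le_left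
  have hNT : Nb η T := hN.mono hyT hTV
  have hTb : T ≤ Y.basicOpen u := i.le.trans inf_le_right
  refine ⟨T, hyT, hNT, resR (hTb.trans (Y.basicOpen_le u)) u, isUnit_resR _ _ hTb, ?_⟩
  have h2 := congrArg (ev η hNT.1) hT'
  simp only [map_mul, resR_resR, ev_res] at h2
  rw [ev_res]
  refine mul_right_cancel₀ hP ?_
  rw [hk, ← h2]
  ring

theorem dvd_germ_of_eqv (hY : Pi1.IsNormalScheme Y) (hη : ∀ z, z ⤳ η → z = η) {y : Y} {V : Y.Opens} (hy : y ∈ V)
    (hN : Nb η V) {P Q : Γ(Y, V)} {k k' : Y.residueField η} (hk : k' * ev η hN.1 P = k * ev η hN.1 Q)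
    (hk0 : k ≠ 0) (he : Eqv y k k') :
    Associated ((Y.presheaf.germ V y hy).hom P) ((Y.presheaf.germ V y hy).hom Q) := by
  obtain ⟨W, hyW, hNW, u, hu, rfl⟩ := he
  have hNi : Nb η (V ⊓ W) := hN.mono (W := V ⊓ W) ⟨hy, hyW⟩ inf_le_left
  have h1 : resR (inf_le_left : V ⊓ W ≤ V) P * resR inf_le_right u = resR inf_le_left Q := by
    refine ev_injective hY hη hNi ?_
    rw [map_mul, ev_res, ev_res, ev_res]
    refine mul_left_cancel₀ hk0 ?_
    rw [← hk]
    ring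
  have h2 := congrArg (Y.presheaf.germ (V ⊓ W) y ⟨hy, hyW⟩).hom h1
  rw [map_mul] at h2
  erw [TopCat.Presheaf.germ_res_apply, TopCat.Presheaf.germ_res_apply, TopCat.Presheaf.germ_res_apply] at h2
  exact ⟨(hu.map (Y.presheaf.germ W y hyW).hom).unit, h2⟩

theorem exists_cross {V : Y.Opens} (hV : IsAffineOpen V) (h : η ∈ V) {k k' : Y.residueField η} (hk : k ≠ 0)
    (hk' : k' ≠ 0) :
    ∃ P Q : Γ(Y, V), ev η h P ≠ 0 ∧ ev η h Q ≠ 0 ∧ k' * ev η h P = k * ev η h Q := by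
  obtain ⟨a, d, hd, ha⟩ := exists_frac hV h k
  obtain ⟨a', d', hd', ha'⟩ := exists_frac hV h k'
  refine ⟨a * d', a' * d, ?_, ?_, ?_⟩
  · rw [map_mul, ← ha]; exact mul_ne_zero (mul_ne_zero hk hd) hd'
  · rw [map_mul, ← ha']; exact mul_ne_zero (mul_ne_zero hk' hd') hd
  · rw [map_mul, map_mul, ← ha, ← ha']; ring

theorem eqv_of_good (hY : Pi1.IsNormalScheme Y) (hη : ∀ z, z ⤳ η → z = η) (ht : IsFrame t) {x : X} {V : Y.Opens}
    (hV : IsAffineOpen V) (hxV : f x ∈ V) (hN : Nb η V) {k k' : Y.residueField η} (hk : k ≠ 0) (hk' : k' ≠ 0)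
    (h : Good f t k x) (h' : Good f t k' x) : Eqv (f x) k k' := by
  obtain ⟨U, hx, s, hs, hr⟩ := h
  obtain ⟨U', hx', s', hs', hr'⟩ := h'
  obtain ⟨P, Q, hP, -, hPQ⟩ := exists_cross hV hN.1 hk hk'
  refine eqv_of_germ hY hη hxV hN hPQ hP ?_
  let W : X.Opens := U ⊓ U' ⊓ f ⁻¹ᵁ V
  have hxW : x ∈ W := ⟨⟨hx, hx'⟩, hxV⟩
  have hWU : W ≤ U := inf_le_left.trans inf_le_left
  have hWU' : W ≤ U' := inf_le_left.trans inf_le_right
  obtain ⟨c, hc⟩ := hs.exists_coord hWU (AModX.res L hWU' s')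
  obtain ⟨c', hc'⟩ := hs'.exists_coord hWU' (AModX.res L hWU s)
  have hcu : IsUnit c := IsUnit.of_mul_eq_one c' ((hs'.coord_unique hWU' (r := c * c') (r' := 1)
    (by rw [mul_smul, ← hc', one_smul, ← hc])))
  have h1 : cst f _ k' = (f.fiberι η).app W c * cst f _ k := by
    refine ht.coord_unique le_top ?_
    rw [mul_smul, ← hr.res f t hWU, ← pullElt_smul, ← hc]
    exact (hr'.res f t hWU').symm
  have h2 : f.appLE V W inf_le_right Q = c * f.appLE V W inf_le_right P := by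
    refine ι_injective f hY hη hN (inf_le_right : W ≤ f ⁻¹ᵁ V) ?_
    rw [map_mul, ι_appLE_f f hN.1, ι_appLE_f f hN.1]
    have hcan : ((f.fiberι η).app W c * cst f _ (ev η hN.1 P)) * cst f _ k =
        cst f _ (ev η hN.1 Q) * cst f _ k := by
      rw [mul_right_comm, ← h1, ← map_mul, ← map_mul, hPQ, mul_comm k]
    exact ((((Ne.isUnit hk).map (cst f _)).mul_right_cancel hcan)).symm
  have h3 : (f.stalkMap x).hom ((Y.presheaf.germ V (f x) hxV).hom Q) =
      (X.presheaf.germ W x hxW).hom c * (f.stalkMap x).hom ((Y.presheaf.germ V (f x) hxV).hom P) := by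
    have key : ∀ a : Γ(Y, V), (f.stalkMap x).hom ((Y.presheaf.germ V (f x) hxV).hom a) =
        (X.presheaf.germ W x hxW).hom (f.appLE V W inf_le_right a) := fun a => by
      refine (ConcreteCategory.congr_hom (Scheme.Hom.germ_stalkMap f V x hxV) a).trans ?_
      show (X.presheaf.germ _ x hxV).hom ((f.app V).hom a) =
        (X.presheaf.germ W x hxW).hom ((X.presheaf.map (homOfLE inf_le_right).op).hom ((f.app V).hom a))
      erw [TopCat.Presheaf.germ_res_apply]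
    rw [key, key, h2, map_mul]
  haveI := (hY (f x)).1
  rw [← Ideal.span_singleton_eq_span_singleton, ← CartierFlatDesc.comap_map_stalkMap f x (Ideal.span {_}),
    ← CartierFlatDesc.comap_map_stalkMap f x (Ideal.span {(Y.presheaf.germ V (f x) hxV).hom Q}),
    Ideal.map_span, Set.image_singleton, Ideal.map_span, Set.image_singleton, h3,
    Ideal.span_singleton_mul_left_unit (hcu.map _)]

variable [IsLocallyNoetherian X]
  (hfib : ∀ y : Y, ringKrullDim (Y.presheaf.stalk y) = 1 → IsIntegral (f.fiber y))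
include hfib

theorem exists_good (hY : Pi1.IsNormalScheme Y) (hη : ∀ z, z ⤳ η → z = η) (hL : PicF.IsInvertible L)
    (ht : IsFrame t) {x : X} {V : Y.Opens}
    (hV : IsAffineOpen V) (hxV : f x ∈ V) (hN : Nb η V) : ∃ k, k ≠ 0 ∧ Good f t k x := by
  obtain ⟨U₀, hx₀, e₀, he₀⟩ := exists_frame hL x
  obtain ⟨U, hU, hxU, hle⟩ := exists_isAffineOpen_mem_and_subset (show x ∈ U₀ ⊓ f ⁻¹ᵁ V from ⟨hx₀, hxV⟩)
  have hle₀ : U ≤ U₀ := fun z hz => (hle hz).1
  have eV : U ≤ f ⁻¹ᵁ V := fun z hz => (hle hz).2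
  have hpe := isFrame_pullElt (f.fiberι η) (he₀.res hle₀)
  obtain ⟨φ, hφ⟩ := hpe.exists_coord le_rfl (res _ le_top t)
  obtain ⟨φ', hφ'⟩ := ht.exists_coord le_top (pullElt (f.fiberι η) (res L hle₀ e₀))
  rw [res_self] at hφ
  have hφ1 : φ * φ' = 1 := ht.coord_unique le_top (r := φ * φ') (r' := 1) (by
    rw [one_smul, mul_smul, ← hφ', ← hφ])
  obtain ⟨d, b, hd, hb⟩ := exists_num f hV hN.1 hU eV φ
  obtain ⟨d', b', hd', hb'⟩ := exists_num f hV hN.1 hU eV φ'
  have hbb : b * b' = f.appLE V U eV (d * d') := by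
    refine ι_injective f hY hη hN eV ?_
    rw [map_mul, ← hb, ← hb', ι_appLE_f f hN.1, map_mul, map_mul]
    linear_combination (cst f (f.fiberι η ⁻¹ᵁ U) (ev η hN.1 d) * cst f _ (ev η hN.1 d')) * hφ1
  have hdd : (Y.presheaf.germ V (f x) hxV).hom (d * d') ≠ 0 := by
    intro h0
    have h1 := ConcreteCategory.congr_hom (Y.presheaf.germ_stalkSpecializes hxV (hN.2 _ hxV)) (d * d')
    have h2 : ev η hN.1 (d * d') = 0 := by
      refine (congrArg (Y.residue η).hom (h1.symm.trans ?_)).trans (map_zero _)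
      show (Y.presheaf.stalkSpecializes (hN.2 _ hxV)).hom ((Y.presheaf.germ V (f x) hxV).hom (d * d')) = 0
      rw [h0, map_zero]
    rw [map_mul] at h2
    exact mul_ne_zero hd hd' h2
  have key : ∀ a : Γ(Y, V), (f.stalkMap x).hom ((Y.presheaf.germ V (f x) hxV).hom a) =
      (X.presheaf.germ U x hxU).hom (f.appLE V U eV a) := fun a => by
    refine (ConcreteCategory.congr_hom (Scheme.Hom.germ_stalkMap f V x hxV) a).trans ?_
    show (X.presheaf.germ _ x hxV).hom ((f.app V).hom a) =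
      (X.presheaf.germ U x hxU).hom ((X.presheaf.map (homOfLE eV).op).hom ((f.app V).hom a))
    erw [TopCat.Presheaf.germ_res_apply]
  obtain ⟨a₀, ha₀, hspan⟩ := exists_descend hY hfib x ((X.presheaf.germ U x hxU).hom b) hdd
    ⟨(X.presheaf.germ U x hxU).hom b', by rw [key, ← hbb, map_mul]⟩
  obtain ⟨W, hxW, a₁, ha₁⟩ := TopCat.Presheaf.exists_germ_eq Y.presheaf a₀
  have hNW : Nb η (V ⊓ W) := hN.mono (W := V ⊓ W) ⟨hxV, hxW⟩ inf_le_left
  have hwv : f x ∈ V ⊓ W := ⟨hxV, hxW⟩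
  let U₁ : X.Opens := U ⊓ f ⁻¹ᵁ (V ⊓ W)
  have hx₁ : x ∈ U₁ := ⟨hxU, hwv⟩
  have hga : (Y.presheaf.germ (V ⊓ W) (f x) hwv).hom (resR inf_le_right a₁) = a₀ := by
    erw [TopCat.Presheaf.germ_res_apply]; exact ha₁
  have hfa : (X.presheaf.germ U₁ x hx₁).hom (f.appLE (V ⊓ W) U₁ inf_le_right (resR inf_le_right a₁)) =
      (f.stalkMap x).hom a₀ := by
    conv_rhs => rw [← hga]
    refine Eq.trans ?_ (ConcreteCategory.congr_hom (Scheme.Hom.germ_stalkMap f (V ⊓ W) x hwv) _).symm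
    show (X.presheaf.germ U₁ x hx₁).hom ((X.presheaf.map (homOfLE _).op).hom ((f.app (V ⊓ W)).hom _)) =
      (X.presheaf.germ _ x _).hom ((f.app (V ⊓ W)).hom _)
    erw [TopCat.Presheaf.germ_res_apply]
  obtain ⟨v, hv⟩ := Ideal.mem_span_singleton.1 (hspan.le (Ideal.mem_span_singleton_self _))
  have hvu : IsUnit v := by
    obtain ⟨v', hv'⟩ := Ideal.mem_span_singleton.1 (hspan.ge (Ideal.mem_span_singleton_self _))
    refine IsUnit.of_mul_eq_one v' ((mul_cancel_left_mem_nonZeroDivisors (map_mem_nonZeroDivisors hY x ha₀)).1 ?_)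
    rw [← mul_assoc, ← hv, ← hv', mul_one]
  obtain ⟨U₂, hx₂, v₁, hv₁⟩ := TopCat.Presheaf.exists_germ_eq X.presheaf v
  have hxb : x ∈ X.basicOpen v₁ := (X.mem_basicOpen v₁ x hx₂).2 (hv₁ ▸ hvu)
  let U₃ : X.Opens := U₁ ⊓ X.basicOpen v₁
  have h31 : U₃ ≤ U₁ := inf_le_left
  have h32 : U₃ ≤ U₂ := inf_le_right.trans (X.basicOpen_le v₁)
  have hx₃ : x ∈ U₃ := ⟨hx₁, hxb⟩
  have hgerm : (X.presheaf.germ U₃ x hx₃).hom (resR (h31.trans inf_le_left) b) =
      (X.presheaf.germ U₃ x hx₃).hom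
        (resR h31 (f.appLE (V ⊓ W) U₁ inf_le_right (resR inf_le_right a₁)) * resR h32 v₁) := by
    rw [map_mul]
    rw [germ_resR _ _ hx₃, germ_resR _ _ hx₃, germ_resR _ _ hx₃, hfa]
    exact hv.trans (congrArg _ hv₁.symm)
  obtain ⟨T, hxT, i, i', hT⟩ := TopCat.Presheaf.germ_eq X.presheaf x hx₃ hx₃ _ _ hgerm
  have hTU : T ≤ U := i.le.trans (h31.trans inf_le_left)
  have hTW : T ≤ f ⁻¹ᵁ (V ⊓ W) := i.le.trans (h31.trans inf_le_right)
  have hT2 : T ≤ U₂ := i.le.trans h32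
  have hTb : IsUnit (resR hT2 v₁) := isUnit_resR _ _ (i.le.trans inf_le_right)
  have hT' : resR hTU b = f.appLE (V ⊓ W) T hTW (resR inf_le_right a₁) * resR hT2 v₁ := by
    have := (show resR i.le (resR (h31.trans inf_le_left) b) =
      resR i.le (resR h31 (f.appLE (V ⊓ W) U₁ inf_le_right (resR inf_le_right a₁)) * resR h32 v₁) from hT)
    rw [map_mul, resR_resR, resR_resR, resR_resR] at this
    rw [this]
    congr 1
    exact ConcreteCategory.congr_hom (Scheme.Hom.appLE_map f (inf_le_right : U₁ ≤ f ⁻¹ᵁ (V ⊓ W))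
      (homOfLE (i.le.trans h31)).op) (resR inf_le_right a₁)
  let α := ev η hNW.1 (resR inf_le_right a₁)
  have hα : α ≠ 0 := fun h0 => by
    refine ha₀ ?_
    rw [← hga, eq_zero_of_ev hY hη hNW h0, map_zero]
  refine ⟨ev η hN.1 d / α, div_ne_zero hd hα, T, hxT, resR hT2 v₁ • res L (hTU.trans hle₀) e₀,
    (he₀.res _).isUnit_smul hTb, ?_⟩
  have hφT : res _ le_top t = resR ((f.fiberι η).preimage_mono hTU) φ •
      pullElt (f.fiberι η) (res L (hTU.trans hle₀) e₀) := by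
    have := congrArg (res _ ((f.fiberι η).preimage_mono hTU)) hφ
    rw [res_smul, res_res, ← pullElt_res f hTU, res_res] at this
    exact this
  have hbT : (f.fiberι η).app T (resR hTU b) =
      resR ((f.fiberι η).preimage_mono hTU) ((f.fiberι η).app U b) :=
    ConcreteCategory.congr_hom ((f.fiberι η).naturality (homOfLE hTU).op) b
  rw [Rel, pullElt_smul, hφT, ← mul_smul]
  congr 1
  refine ((Ne.isUnit hα).map (cst f (f.fiberι η ⁻¹ᵁ T))).mul_right_cancel ?_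
  rw [← hb, map_mul, cst_res, hT', map_mul, ι_appLE_f f hNW.1] at hbT
  rw [mul_comm ((f.fiberι η).app T _) (cst f _ α), hbT, mul_comm (cst f _ (ev η hN.1 d / α)),
    mul_assoc, ← map_mul, div_mul_cancel₀ _ hα]

theorem eqv_of_same_image (hY : Pi1.IsNormalScheme Y) (hη : ∀ z, z ⤳ η → z = η) (ht : IsFrame t) {x₀ x : X}
    {V : Y.Opens} (hV : IsAffineOpen V) (hxV : f x ∈ V) (e : f x₀ = f x) (hN : Nb η V)
    {k k' : Y.residueField η} (hk : k ≠ 0) (hk' : k' ≠ 0) (h : Good f t k x₀) (h' : Good f t k' x) :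
    Eqv (f x) k k' := by
  obtain ⟨P, Q, hP, hQ, hPQ⟩ := exists_cross hV hN.1 hk hk'
  refine eqv_of_germ hY hη hxV hN hPQ hP ?_
  haveI := (hY (f x)).1
  have hne : ∀ a : Γ(Y, V), ev η hN.1 a ≠ 0 → (Y.presheaf.germ V (f x) hxV).hom a ≠ 0 := fun a ha h0 => by
    refine ha ?_
    have h1 := ConcreteCategory.congr_hom (Y.presheaf.germ_stalkSpecializes hxV (hN.2 _ hxV)) a
    refine (congrArg (Y.residue η).hom (h1.symm.trans ?_)).trans (map_zero _)
    show (Y.presheaf.stalkSpecializes (hN.2 _ hxV)).hom ((Y.presheaf.germ V (f x) hxV).hom a) = 0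
    rw [h0, map_zero]
  have hz : ∀ (z : Y) (hz : z ⤳ f x), ringKrullDim (Y.presheaf.stalk z) = 1 →
      Associated ((Y.presheaf.stalkSpecializes hz).hom ((Y.presheaf.germ V (f x) hxV).hom P))
        ((Y.presheaf.stalkSpecializes hz).hom ((Y.presheaf.germ V (f x) hxV).hom Q)) := by
    intro z hz hdim
    haveI := hfib z hdim
    let ξ := f.fiberι z (genericPoint (f.fiber z))
    have hξ : f ξ = z := FlatDvr.fiberι_apply_eq f _
    have hgen : ∀ p : X, z ⤳ f p → ξ ⤳ p := fun p hp => by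
      obtain ⟨p', hp', hzp⟩ := Flat.generalizingMap f (a := p) (b := z) hp
      obtain ⟨w, rfl⟩ : p' ∈ Set.range (f.fiberι z) := by
        rw [Scheme.Hom.range_fiberι]; exact hzp
      exact ((genericPoint_specializes w).map (f.fiberι z).continuous).trans hp'
    have hzV : z ∈ V := hz.mem_open V.2 hxV
    have he : Eqv (f ξ) k k' := eqv_of_good f t hY hη ht hV (hξ.symm ▸ hzV) hN hk hk'
      (h.of_specializes f t (hgen x₀ (e.symm ▸ hz))) (h'.of_specializes f t (hgen x hz))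
    rw [hξ] at he
    have h1 := dvd_germ_of_eqv hY hη hzV hN hPQ hk he
    have hsp : ∀ a : Γ(Y, V), (Y.presheaf.stalkSpecializes hz).hom ((Y.presheaf.germ V (f x) hxV).hom a) =
        (Y.presheaf.germ V z hzV).hom a := fun a =>
      ConcreteCategory.congr_hom (Y.presheaf.germ_stalkSpecializes hxV hz) a
    rwa [hsp, hsp]
  exact associated_of_dvd_dvd
    (span_le_of_height_one hY (hne P hP) fun z h1 h2 => (hz z h1 h2).dvd)
    (span_le_of_height_one hY (hne Q hQ) fun z h1 h2 => (hz z h1 h2).symm.dvd)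

/-- One constant works over a whole neighbourhood of a point of the base. -/
theorem exists_good_nbhd [Surjective f] (hf : QuasiCompact f ∨ IsOpenMap f) (hY : Pi1.IsNormalScheme Y)
    (hη : ∀ z, z ⤳ η → z = η) (hL : PicF.IsInvertible L) (ht : IsFrame t) {y : Y} {V : Y.Opens}
    (hV : IsAffineOpen V) (hyV : y ∈ V) (hN : Nb η V) :
    ∃ (k : Y.residueField η) (V' : Y.Opens), k ≠ 0 ∧ y ∈ V' ∧ V' ≤ V ∧ Nb η V' ∧
      ∀ x, f x ∈ V' → Good f t k x := by
  obtain ⟨x₀, rfl⟩ := f.surjective y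
  obtain ⟨k, hk, hgood⟩ := exists_good f t hfib hY hη hL ht hV hyV hN
  have hall : ∀ x x' : X, f x ∈ V → f x' = f x → Good f t k x → Good f t k x' := by
    intro x x' hxV e hx
    obtain ⟨k', hk', hg'⟩ := exists_good f t hfib hY hη hL ht hV (e.symm ▸ hxV) hN
    have hE := eqv_of_same_image f t hfib hY hη ht hV hxV e hN hk' hk hg' hx
    rw [← e] at hE
    exact hg'.of_eqv f t hE
  have hgood' : ∀ x, f x = f x₀ → Good f t k x := fun x hx => hall x₀ x hyV hx hgood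
  have hq : Topology.IsQuotientMap f := by
    rcases hf with h | h
    · exact Flat.isQuotientMap_of_surjective f
    · exact h.isQuotientMap f.continuous f.surjective
  let S : Set Y := {z | z ∈ V ∧ ∀ x, f x = z → Good f t k x}
  have hSopen : IsOpen S := by
    rw [← hq.isOpen_preimage, isOpen_iff_mem_nhds]
    rintro x ⟨hxV, hx⟩
    obtain ⟨U, hxU, s, hs, hr⟩ := hx x rfl
    refine Filter.mem_of_superset ((U.2.inter (f ⁻¹ᵁ V).2).mem_nhds ⟨hxU, hxV⟩) fun x' hx' => ?_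
    exact ⟨hx'.2, fun x'' e => hall x' x'' hx'.2 e ⟨U, hx'.1, s, hs, hr⟩⟩
  let V' : Y.Opens := ⟨S, hSopen⟩
  exact ⟨k, V', hk, ⟨hyV, hgood'⟩, fun z hz => hz.1, hN.mono (W := V') ⟨hyV, hgood'⟩ fun z hz => hz.1,
    fun x hx => hx.2 x rfl⟩

end Module

end Groth.Agent.H23.GenFibSec
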