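import Groth.Agent.H23.CartierFlatNormal

/-!
Elements of stalks of a flat morphism to a normal scheme which are invertible on the generic fibre.
-/

set_option autoImplicit false
set_option linter.unusedSectionVars false
set_option linter.style.haveILetI false

universe u

open CategoryTheory AlgebraicGeometry IsLocalRing

namespace Groth.Agent.H23.GenFibStalk

open Groth.Agent CDiv6 CartierFlatDesc CartierFlatDescAlg CartierFlatNormal

variable {X Y : Scheme.{u}}

theorem isUnit_of_max (hY : Pi1.IsNormalScheme Y) {η : Y} (hη : ∀ z, z ⤳ η → z = η)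
    {a : Y.presheaf.stalk η} (ha : a ≠ 0) : IsUnit a := by
  haveI := (hY η).1
  by_contra hu
  have h0 := (AssLib.dimZero_iff η).2 hη ⊥ Ideal.isPrime_bot
  exact ha (by
    have : a ∈ (⊥ : Ideal (Y.presheaf.stalk η)) := by rwa [h0, IsLocalRing.mem_maximalIdeal]
    exact this)

theorem sp_ne_zero (hY : Pi1.IsNormalScheme Y) {y z : Y} (h : z ⤳ y) {a : Y.presheaf.stalk y} (ha : a ≠ 0) :
    (Y.presheaf.stalkSpecializes h).hom a ≠ 0 := by
  haveI := (hY y).1
  letI := (Y.presheaf.stalkSpecializes h).hom.toAlgebra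
  haveI := StalkPrimes.isLocalization_primeOf h
  intro h0
  haveI := (primeOf h).2
  exact ha (IsLocalization.injective (Y.presheaf.stalk z)
    (Ideal.primeCompl_le_nonZeroDivisors (primeOf h).asIdeal) (h0.trans (map_zero _).symm))

theorem spec_bijective {y z : Y} (h : z ⤳ y) (e : z = y) :
    Function.Bijective (Y.presheaf.stalkSpecializes h).hom := by
  subst e
  rw [TopCat.Presheaf.stalkSpecializes_refl, CommRingCat.hom_id]
  exact Function.bijective_id

/-- A divisor of a power of a regular prime is associated with a power of it. -/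
theorem span_eq_pow_of_dvd {B : Type*} [CommRing B] {p : B} (hp : p ∈ nonZeroDivisors B)
    (hprime : (Ideal.span {p}).IsPrime) :
    ∀ (N : ℕ) (b : B), b ∣ p ^ N → ∃ k : ℕ, Ideal.span {b} = Ideal.span {p ^ k} := by
  intro N
  induction N with
  | zero =>
    intro b hb
    refine ⟨0, ?_⟩
    rw [pow_zero] at hb ⊢
    rw [Ideal.span_singleton_eq_top.2 (isUnit_of_dvd_one hb), Ideal.span_singleton_one]
  | succ n ih =>
    rintro b ⟨b', hb⟩
    have hmem : b * b' ∈ Ideal.span {p} := by
      rw [← hb, Ideal.mem_span_singleton]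
      exact dvd_pow_self p n.succ_ne_zero
    rcases hprime.mem_or_mem hmem with h | h
    · obtain ⟨b₁, rfl⟩ := Ideal.mem_span_singleton.1 h
      obtain ⟨k, hk⟩ := ih b₁ ⟨b', (mul_cancel_left_mem_nonZeroDivisors hp).1 (by rw [← pow_succ', hb, mul_assoc])⟩
      refine ⟨k + 1, ?_⟩
      rw [pow_succ', ← Ideal.span_singleton_mul_span_singleton, hk, Ideal.span_singleton_mul_span_singleton]
    · obtain ⟨b₁, rfl⟩ := Ideal.mem_span_singleton.1 h
      exact ih b ⟨b₁, (mul_cancel_left_mem_nonZeroDivisors hp).1 (by rw [← pow_succ', hb, mul_left_comm])⟩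

variable {f : X ⟶ Y} [Flat f] [IsLocallyNoetherian X] [IsLocallyNoetherian Y]

theorem map_mem_nonZeroDivisors (hY : Pi1.IsNormalScheme Y) (x : X) {c : Y.presheaf.stalk (f x)} (hc : c ≠ 0) :
    (f.stalkMap x).hom c ∈ nonZeroDivisors (X.presheaf.stalk x) := by
  haveI := (hY (f x)).1
  letI := (f.stalkMap x).hom.toAlgebra
  haveI : Module.Flat (Y.presheaf.stalk (f x)) (X.presheaf.stalk x) :=
    RingHom.flat_algebraMap_iff.mp (Flat.stalkMap f x)
  have h : IsSMulRegular (X.presheaf.stalk x) ((f.stalkMap x).hom c) :=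
    IsSMulRegular.of_flat (S := X.presheaf.stalk x) (fun a b hab => mul_left_cancel₀ hc hab)
  refine mem_nonZeroDivisors_iff_right.2 fun r hr => h ?_
  show (f.stalkMap x).hom c * r = (f.stalkMap x).hom c * 0
  rw [mul_zero, mul_comm, hr]

/-- Over a codimension one point with integral fibre, divisors of elements from the base come from the base. -/
theorem exists_map_eq_of_dim_one (hY : Pi1.IsNormalScheme Y)
    (hfib : ∀ y : Y, ringKrullDim (Y.presheaf.stalk y) = 1 → IsIntegral (f.fiber y))
    (x : X) (hd : ringKrullDim (Y.presheaf.stalk (f x)) = 1) (b : X.presheaf.stalk x)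
    {c : Y.presheaf.stalk (f x)} (hc : c ≠ 0) (hbc : b ∣ (f.stalkMap x).hom c) :
    ∃ I : Ideal (Y.presheaf.stalk (f x)), Ideal.span {b} = I.map (f.stalkMap x).hom := by
  obtain ⟨y, hy⟩ : ∃ y, f x = y := ⟨_, rfl⟩
  obtain ⟨w, rfl⟩ : x ∈ Set.range (f.fiberι y) := by
    rw [Scheme.Hom.range_fiberι]; exact hy
  haveI : IsIntegral (f.fiber y) := hfib y (hy ▸ hd)
  haveI := (hY (f (f.fiberι y w))).1
  haveI := (hY (f (f.fiberι y w))).2
  haveI := CDiv6.isDVR_of_dim_eq_one (Y.presheaf.stalk (f (f.fiberι y w))) hd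
  obtain ⟨π, hπ⟩ := IsDiscreteValuationRing.exists_irreducible (Y.presheaf.stalk (f (f.fiberι y w)))
  have hker : RingHom.ker ((f.fiberι y).stalkMap w).hom = Ideal.span {(f.stalkMap (f.fiberι y w)).hom π} := by
    rw [FlatDvr.ker_stalkMap_fiberι, hπ.maximalIdeal_eq, Ideal.map_span, Set.image_singleton]
  have hprime : (Ideal.span {(f.stalkMap (f.fiberι y w)).hom π}).IsPrime := by
    rw [← hker]; exact RingHom.ker_isPrime _
  obtain ⟨N, v, hv⟩ := IsDiscreteValuationRing.eq_unit_mul_pow_irreducible hc hπ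
  rw [hv, map_mul, map_pow] at hbc
  obtain ⟨k, hk⟩ := span_eq_pow_of_dvd (map_mem_nonZeroDivisors hY _ hπ.ne_zero) hprime N b
    ((v.isUnit.map _).dvd_mul_left.1 hbc)
  refine ⟨Ideal.span {π ^ k}, ?_⟩
  rw [hk, Ideal.map_span, Set.image_singleton, map_pow]

variable (f) in
/-- The elements of the base whose image at a generization lies in a principal ideal. -/
noncomputable def Ip {x x' : X} (h : x' ⤳ x) (b : X.presheaf.stalk x) : Ideal (Y.presheaf.stalk (f x)) :=
  (Ideal.span {(X.presheaf.stalkSpecializes h).hom b}).comap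
    ((X.presheaf.stalkSpecializes h).hom.comp (f.stalkMap x).hom)

theorem Ip_eq {x x' : X} (h : x' ⤳ x) (b : X.presheaf.stalk x) (I : Ideal (Y.presheaf.stalk (f x')))
    (hI : Ideal.span {(X.presheaf.stalkSpecializes h).hom b} = I.map (f.stalkMap x').hom) :
    Ip f h b = I.comap (Y.presheaf.stalkSpecializes (h.map f.continuous)).hom := by
  rw [Ip, hI, stalkMap_spec f h, ← Ideal.comap_comap, comap_map_stalkMap]

theorem Ip_eq_of_specializes {x x' ξ : X} (h : x' ⤳ x) (hξ : ξ ⤳ x') (e : f ξ = f x') (b : X.presheaf.stalk x)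
    (I : Ideal (Y.presheaf.stalk (f x')))
    (hI : Ideal.span {(X.presheaf.stalkSpecializes h).hom b} = I.map (f.stalkMap x').hom) :
    Ip f (hξ.trans h) b = Ip f h b := by
  have h1 : (X.presheaf.stalkSpecializes (hξ.trans h)).hom =
      (X.presheaf.stalkSpecializes hξ).hom.comp (X.presheaf.stalkSpecializes h).hom :=
    (CartierFlatDesc.spec_comp hξ h).symm
  have hI' : Ideal.span {(X.presheaf.stalkSpecializes (hξ.trans h)).hom b} =
      (I.map (Y.presheaf.stalkSpecializes (hξ.map f.continuous)).hom).map (f.stalkMap ξ).hom := by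
    have h2 := congrArg (Ideal.map (X.presheaf.stalkSpecializes hξ).hom) hI
    rw [Ideal.map_span, Set.image_singleton, Ideal.map_map, stalkMap_spec f hξ, ← Ideal.map_map] at h2
    rw [h1, RingHom.comp_apply]
    exact h2
  rw [Ip_eq _ b _ hI', Ip_eq h b I hI, ← CartierFlatDesc.spec_comp (hξ.map f.continuous) (h.map f.continuous),
    ← Ideal.comap_comap, Ideal.comap_map_of_bijective _ (spec_bijective (hξ.map f.continuous) e)]

/-- An element invertible on the generic fibre is a unit multiple of an element of the base. -/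
theorem exists_descend (hY : Pi1.IsNormalScheme Y)
    (hfib : ∀ y : Y, ringKrullDim (Y.presheaf.stalk y) = 1 → IsIntegral (f.fiber y))
    (x : X) (b : X.presheaf.stalk x) {c : Y.presheaf.stalk (f x)} (hc : c ≠ 0)
    (hbc : b ∣ (f.stalkMap x).hom c) :
    ∃ a : Y.presheaf.stalk (f x), a ≠ 0 ∧ Ideal.span {b} = Ideal.span {(f.stalkMap x).hom a} := by
  haveI := (hY (f x)).1
  have hb : b ∈ nonZeroDivisors (X.presheaf.stalk x) := by
    obtain ⟨d, hd⟩ := hbc
    exact (mul_mem_nonZeroDivisors.1 (hd ▸ map_mem_nonZeroDivisors hY x hc)).1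
  letI := (f.stalkMap x).hom.toAlgebra
  haveI : Module.Flat (Y.presheaf.stalk (f x)) (X.presheaf.stalk x) :=
    RingHom.flat_algebraMap_iff.mp (Flat.stalkMap f x)
  have hext : ((Ideal.span {b}).comap (f.stalkMap x).hom).map (f.stalkMap x).hom = Ideal.span {b} := by
    refine map_comap_eq (A := Y.presheaf.stalk (f x)) (Ideal.span {b}) fun P' hP' => ?_
    haveI : P'.IsPrime := IsAssociatedPrime.isPrime (AssociatedPrimes.mem_iff.1 hP')
    obtain ⟨x', hx', rfl⟩ := StalkPrimes.exists_point (X := X) P'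
    have hcx' : (Y.presheaf.stalkSpecializes (hx'.map f.continuous)).hom c ≠ 0 := sp_ne_zero hY _ hc
    have hdvd : ∀ {z : X} (h : z ⤳ x), (X.presheaf.stalkSpecializes h).hom b ∣
        (f.stalkMap z).hom ((Y.presheaf.stalkSpecializes (h.map f.continuous)).hom c) := by
      intro z h
      have := map_dvd (X.presheaf.stalkSpecializes h).hom hbc
      rwa [← RingHom.comp_apply, stalkMap_spec f h] at this
    have hd : ¬ (2 : ℕ∞) ≤ LocCoh.depth (Y.presheaf.stalk (f x')) (Y.presheaf.stalk (f x')) := fun h2 => by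
      letI := (X.presheaf.stalkSpecializes hx').hom.toAlgebra
      haveI := StalkPrimes.isLocalization_primeOf hx'
      refine depth_le_one_of_ass hb hP' (X.presheaf.stalk x') ?_
      letI := (f.stalkMap x').hom.toAlgebra
      haveI : Module.Flat (Y.presheaf.stalk (f x')) (X.presheaf.stalk x') :=
        RingHom.flat_algebraMap_iff.mp (Flat.stalkMap f x')
      haveI : IsLocalHom (algebraMap (Y.presheaf.stalk (f x')) (X.presheaf.stalk x')) :=
        inferInstanceAs (IsLocalHom (f.stalkMap x').hom)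
      exact two_le_depth_of_flat (A := Y.presheaf.stalk (f x')) h2
    have hbP : b ∈ (primeOf hx').asIdeal := by
      obtain ⟨-, w, hw⟩ := Alg6.mem_ass_iff.1 hP'
      refine (hw b).2 ?_
      obtain ⟨w, rfl⟩ := Ideal.Quotient.mk_surjective w
      rw [Algebra.smul_def, Ideal.Quotient.algebraMap_eq, ← map_mul, Ideal.Quotient.eq_zero_iff_mem]
      exact Ideal.mul_mem_right _ _ (Ideal.mem_span_singleton_self b)
    have hnmax : ¬ ∀ z, z ⤳ f x' → z = f x' := fun hmax =>
      (mem_primeOf hx' b).1 hbP (isUnit_of_dvd_unit (hdvd hx') ((isUnit_of_max hY hmax hcx').map _))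
    obtain ⟨_, hdvr, hdim⟩ := (depth_cases hY hd).resolve_left hnmax
    refine ⟨Ip f hx' b, fun P hP hle => ?_⟩
    obtain ⟨x'', hx'', rfl⟩ := StalkPrimes.exists_point (X := X) P
    have hy : f x'' ⤳ f x' := by
      refine (StalkPrimes.primeOf_le_iff (hx'.map f.continuous) (hx''.map f.continuous)).1 ?_
      rwa [← StalkPrimes.comap_primeOf, ← StalkPrimes.comap_primeOf]
    letI := (X.presheaf.stalkSpecializes hx'').hom.toAlgebra
    haveI := StalkPrimes.isLocalization_primeOf hx''
    have hiff := fun (K : Ideal (X.presheaf.stalk x)) (z : X.presheaf.stalk x) =>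
      IsLocalization.algebraMap_mem_map_algebraMap_iff (primeOf hx'').asIdeal.primeCompl
        (X.presheaf.stalk x'') K z
    have hspan : (Ideal.span {b}).map (X.presheaf.stalkSpecializes hx'').hom =
        Ideal.span {(X.presheaf.stalkSpecializes hx'').hom b} := by
      rw [Ideal.map_span, Set.image_singleton]
    have key : Ideal.span {(X.presheaf.stalkSpecializes hx'').hom b} =
        ((Ip f hx' b).map (f.stalkMap x).hom).map (X.presheaf.stalkSpecializes hx'').hom := by
      by_cases e : f x'' = f x'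
      · have hd' : ringKrullDim (Y.presheaf.stalk (f x'')) = 1 := by rw [e]; exact hdim
        obtain ⟨I, hI⟩ := exists_map_eq_of_dim_one hY hfib x'' hd' _ (sp_ne_zero hY _ hc) (hdvd hx'')
        obtain ⟨I₀, hI₀⟩ := exists_map_eq_of_dim_one hY hfib x' hdim _ hcx' (hdvd hx')
        haveI : IsIntegral (f.fiber (f x')) := hfib _ hdim
        have hgen : ∀ p, f p = f x' → f.fiberι (f x') (genericPoint (f.fiber (f x'))) ⤳ p := fun p hp => by
          obtain ⟨w, rfl⟩ : p ∈ Set.range (f.fiberι (f x')) := by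
            rw [Scheme.Hom.range_fiberι]; exact hp
          exact (genericPoint_specializes w).map (f.fiberι (f x')).continuous
        have heq : Ip f hx'' b = Ip f hx' b :=
          (Ip_eq_of_specializes hx'' (hgen x'' e) ((FlatDvr.fiberι_apply_eq f _).trans e.symm) b I hI).symm.trans
            (Ip_eq_of_specializes hx' (hgen x' rfl) (FlatDvr.fiberι_apply_eq f _) b I₀ hI₀)
        rw [← heq, Ip_eq hx'' b I hI, Ideal.map_map, stalkMap_spec f hx'', ← Ideal.map_map]
        letI := (Y.presheaf.stalkSpecializes (hx''.map f.continuous)).hom.toAlgebra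
        haveI := StalkPrimes.isLocalization_primeOf (hx''.map f.continuous)
        rw [hI]
        congr 1
        exact (IsLocalization.map_under (primeOf (hx''.map f.continuous)).asIdeal.primeCompl _ I).symm
      · haveI := hdvr
        have hmax : ∀ z, z ⤳ f x'' → z = f x'' := fun z hz => max_of_ne hy e hz
        have hcu : IsUnit ((f.stalkMap x'').hom ((Y.presheaf.stalkSpecializes (hx''.map f.continuous)).hom c)) :=
          (isUnit_of_max hY hmax (sp_ne_zero hY _ hc)).map _
        rw [Ideal.span_singleton_eq_top.2 (isUnit_of_dvd_unit (hdvd hx'') hcu)]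
        symm
        refine Ideal.eq_top_of_isUnit_mem _ ?_ hcu
        rw [← RingHom.comp_apply, ← stalkMap_spec f hx'', RingHom.comp_apply]
        refine Ideal.mem_map_of_mem _ (Ideal.mem_map_of_mem _ ?_)
        rw [Ip, Ideal.mem_comap, RingHom.comp_apply, Ideal.mem_span_singleton]
        exact map_dvd _ hbc
    refine ⟨fun a ha => ?_, fun z hz => ?_⟩
    · refine (hiff _ _).1 ?_
      have h1 := key.ge (Ideal.mem_map_of_mem _ (Ideal.mem_map_of_mem _ ha))
      rw [← hspan] at h1
      exact h1
    · refine (hiff _ _).1 ?_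
      have h1 : (X.presheaf.stalkSpecializes hx'').hom z ∈ (Ideal.span {b}).map (X.presheaf.stalkSpecializes hx'').hom :=
        Ideal.mem_map_of_mem _ hz
      rw [hspan, key] at h1
      exact h1
  haveI : Module.FaithfullyFlat (Y.presheaf.stalk (f x)) (X.presheaf.stalk x) :=
    RingHom.faithfullyFlat_algebraMap_iff.mp (FFDescent.faithfullyFlat_stalkMap f x)
  obtain ⟨a, ha, hIa⟩ := exists_span (A := Y.presheaf.stalk (f x)) _ hb hext
  refine ⟨a, nonZeroDivisors.ne_zero ha, ?_⟩
  rw [← hext, hIa, Ideal.map_span, Set.image_singleton]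

omit [IsLocallyNoetherian X] in
/-- On a normal scheme two principal ideals of a stalk agree if they agree in codimension one. -/
theorem span_le_of_height_one (hY : Pi1.IsNormalScheme Y) {y : Y} {a a' : Y.presheaf.stalk y} (ha : a ≠ 0)
    (h : ∀ (z : Y) (hz : z ⤳ y), ringKrullDim (Y.presheaf.stalk z) = 1 →
      (Y.presheaf.stalkSpecializes hz).hom a ∣ (Y.presheaf.stalkSpecializes hz).hom a') :
    a ∣ a' := by
  haveI := (hY y).1
  refine Ideal.mem_span_singleton.1 (mem_of_forall_ass _ _ fun P hP => ?_)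
  haveI : P.IsPrime := IsAssociatedPrime.isPrime (AssociatedPrimes.mem_iff.1 hP)
  obtain ⟨z, hz, rfl⟩ := StalkPrimes.exists_point (X := Y) P
  letI := (Y.presheaf.stalkSpecializes hz).hom.toAlgebra
  haveI := StalkPrimes.isLocalization_primeOf hz
  have hd := depth_le_one_of_ass (mem_nonZeroDivisors_iff_ne_zero.2 ha) hP (Y.presheaf.stalk z)
  have hnmax : ¬ ∀ w, w ⤳ z → w = z := fun hmax => by
    obtain ⟨-, w, hw⟩ := Alg6.mem_ass_iff.1 hP
    refine (mem_primeOf hz a).1 ((hw a).2 ?_) (isUnit_of_max hY hmax (sp_ne_zero hY hz ha))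
    obtain ⟨w, rfl⟩ := Ideal.Quotient.mk_surjective w
    rw [Algebra.smul_def, Ideal.Quotient.algebraMap_eq, ← map_mul, Ideal.Quotient.eq_zero_iff_mem]
    exact Ideal.mul_mem_right _ _ (Ideal.mem_span_singleton_self a)
  obtain ⟨_, -, hdim⟩ := (depth_cases hY hd).resolve_left hnmax
  obtain ⟨s, hs, hsa⟩ := (IsLocalization.algebraMap_mem_map_algebraMap_iff (primeOf hz).asIdeal.primeCompl
    (Y.presheaf.stalk z) (Ideal.span {a}) a').1 (by
      rw [Ideal.map_span, Set.image_singleton, Ideal.mem_span_singleton]; exact h z hz hdim)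
  exact ⟨s, hs, hsa⟩

end Groth.Agent.H23.GenFibStalk
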