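import Groth.Agent.S4999
import Mathlib.RingTheory.TensorProduct.Finite

/-!
# Polynomials killing the parameters of a small family
-/

set_option autoImplicit false
set_option linter.style.haveILetI false
set_option backward.isDefEq.respectTransparency false
set_option backward.isDefEq.respectTransparency.types false

universe u w

namespace Groth.Agent.H23.GenTranslate

open scoped TensorProduct

/-- `r` functions on a scheme finite over one of dimension less than `r` are algebraically dependent. -/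
theorem exists_ne_zero_map_eq_zero {k A R : Type u} [Field k] [CommRing A] [Algebra k A] [Algebra.FiniteType k A]
    [CommRing R] [Algebra k R] [Algebra A R] [IsScalarTower k A R] [Module.Finite A R] {r : ℕ}
    (hdim : ringKrullDim A < (r : WithBot ℕ∞)) (φ : MvPolynomial (Fin r) k →ₐ[k] R) :
    ∃ h : MvPolynomial (Fin r) k, h ≠ 0 ∧ φ h = 0 := by
  by_contra hne
  push Not at hne
  let S : Submonoid R := (nonZeroDivisors (MvPolynomial (Fin r) k)).map (φ : _ →* _)
  have hdisj : Disjoint ((⊥ : Ideal R) : Set R) (↑S : Set R) := by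
    rw [Set.disjoint_left]
    rintro _ h0 ⟨p, hp, rfl⟩
    exact hne p (nonZeroDivisors.ne_zero hp) h0
  obtain ⟨P, hP, -, hPS⟩ := Ideal.exists_le_prime_disjoint _ S hdisj
  haveI : Algebra.FiniteType k R := Algebra.FiniteType.trans (S := A) inferInstance inferInstance
  let Q : Ideal A := P.comap (algebraMap A R)
  haveI : Q.IsPrime := Ideal.comap_isPrime _ P
  haveI : P.LiesOver Q := ⟨rfl⟩
  haveI : Module.Finite (A ⧸ Q) (R ⧸ P) := Module.Finite.of_restrictScalars_finite A _ _
  haveI : Algebra.IsAlgebraic (A ⧸ Q) (R ⧸ P) := Algebra.IsIntegral.isAlgebraic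
  haveI : FaithfulSMul (A ⧸ Q) (R ⧸ P) :=
    (faithfulSMul_iff_algebraMap_injective _ _).2 Ideal.algebraMap_quotient_injective
  haveI : IsScalarTower k (A ⧸ Q) (R ⧸ P) := IsScalarTower.of_algebraMap_eq fun c => by
    show Ideal.Quotient.mk P (algebraMap k R c) = Ideal.Quotient.mk P (algebraMap A R (algebraMap k A c))
    rw [← IsScalarTower.algebraMap_apply]
  have hind : AlgebraicIndependent k fun i => Ideal.Quotient.mkₐ k P (φ (MvPolynomial.X i)) := by
    refine (injective_iff_map_eq_zero _).2 fun p hp => ?_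
    by_contra hp0
    have h1 : Ideal.Quotient.mkₐ k P (φ p) = 0 := by
      rw [show φ p = MvPolynomial.aeval (fun i => φ (MvPolynomial.X i)) p from
        AlgHom.congr_fun (MvPolynomial.aeval_unique φ) p, ← AlgHom.comp_apply, MvPolynomial.comp_aeval]
      exact hp
    exact Set.disjoint_left.1 hPS (show φ p ∈ (P : Set R) from Ideal.Quotient.eq_zero_iff_mem.1 h1)
      ⟨p, mem_nonZeroDivisors_of_ne_zero hp0, rfl⟩
  obtain ⟨n, h1, h2⟩ := VarDim.exists_dim_eq_trdeg k (A ⧸ Q)
  have h3 := hind.lift_cardinalMk_le_trdeg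
  rw [← trdeg_add_eq k (A ⧸ Q) (A := R ⧸ P), h2, trdeg_eq_zero, add_zero] at h3
  simp only [Cardinal.mk_fin, Cardinal.lift_natCast, Nat.cast_le] at h3
  have h4 : (n : WithBot ℕ∞) < (r : WithBot ℕ∞) :=
    h1 ▸ lt_of_le_of_lt (ringKrullDim_le_of_surjective (Ideal.Quotient.mk Q) Ideal.Quotient.mk_surjective) hdim
  have : n < r := by exact_mod_cast h4
  omega

/-- A family of dimension less than `r` translated by `g` avoids finitely many closed points for generic `g`. -/
theorem exists_param {k A κ : Type u} [Field k] [CommRing A] [Algebra k A] [Algebra.FiniteType k A] [CommRing κ]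
    [Algebra k κ] [Module.Finite k κ] {r : ℕ} (hdim : ringKrullDim A < (r : WithBot ℕ∞)) (x : Fin r → A)
    (c : Fin r → κ) (u : A) (N : ℕ) :
    ∃ h : MvPolynomial (Fin r) k, h ≠ 0 ∧ ∀ (L : Type w) [Field L] [Algebra k L] (ψA : A →ₐ[k] L) (ψκ : κ →ₐ[k] L)
      (g : Fin r → L) (t : L), ψA u * t = 1 → (∀ i, ψA (x i) = ψκ (c i) + t ^ N * g i) →
        MvPolynomial.aeval g h = 0 := by
  let φ : MvPolynomial (Fin r) k →ₐ[k] A ⊗[k] κ := MvPolynomial.aeval fun i =>
    ((Algebra.TensorProduct.includeLeft : A →ₐ[k] A ⊗[k] κ) (x i) -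
      (Algebra.TensorProduct.includeRight : κ →ₐ[k] A ⊗[k] κ) (c i)) *
        (Algebra.TensorProduct.includeLeft : A →ₐ[k] A ⊗[k] κ) u ^ N
  obtain ⟨h, hh, hφ⟩ := exists_ne_zero_map_eq_zero (R := A ⊗[k] κ) hdim φ
  refine ⟨h, hh, fun L _ _ ψA ψκ g t hut hx => ?_⟩
  let ψ : A ⊗[k] κ →ₐ[k] L := Algebra.TensorProduct.lift ψA ψκ fun _ _ => Commute.all _ _
  have hcomp : ψ.comp φ = MvPolynomial.aeval g := MvPolynomial.algHom_ext fun i => by
    simp only [AlgHom.comp_apply, φ, MvPolynomial.aeval_X, map_mul, map_sub, map_pow]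
    simp only [ψ, Algebra.TensorProduct.includeLeft_apply, Algebra.TensorProduct.includeRight_apply,
      Algebra.TensorProduct.lift_tmul, map_one, one_mul, mul_one]
    rw [hx i, add_sub_cancel_left, mul_right_comm, ← mul_pow, mul_comm t, hut, one_pow, one_mul]
  rw [← hcomp, AlgHom.comp_apply, hφ, map_zero]

/-- A family of dimension less than `r` translated by `g` avoids finitely many closed points for generic `g`; the time coordinate is
on the finite side. -/
theorem exists_param' {k A κ : Type u} [Field k] [CommRing A] [Algebra k A] [Algebra.FiniteType k A] [CommRing κ]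
    [Algebra k κ] [Module.Finite k κ] {r : ℕ} (hdim : ringKrullDim A < (r : WithBot ℕ∞)) (x : Fin r → A)
    (c : Fin r → κ) (u : κ) (N : ℕ) :
    ∃ h : MvPolynomial (Fin r) k, h ≠ 0 ∧ ∀ (L : Type w) [Field L] [Algebra k L] (ψA : A →ₐ[k] L) (ψκ : κ →ₐ[k] L)
      (g : Fin r → L) (t : L), ψκ u * t = 1 → (∀ i, ψA (x i) = ψκ (c i) + t ^ N * g i) →
        MvPolynomial.aeval g h = 0 := by
  let φ : MvPolynomial (Fin r) k →ₐ[k] A ⊗[k] κ := MvPolynomial.aeval fun i =>
    ((Algebra.TensorProduct.includeLeft : A →ₐ[k] A ⊗[k] κ) (x i) -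
      (Algebra.TensorProduct.includeRight : κ →ₐ[k] A ⊗[k] κ) (c i)) *
        (Algebra.TensorProduct.includeRight : κ →ₐ[k] A ⊗[k] κ) u ^ N
  obtain ⟨h, hh, hφ⟩ := exists_ne_zero_map_eq_zero (R := A ⊗[k] κ) hdim φ
  refine ⟨h, hh, fun L _ _ ψA ψκ g t hut hx => ?_⟩
  let ψ : A ⊗[k] κ →ₐ[k] L := Algebra.TensorProduct.lift ψA ψκ fun _ _ => Commute.all _ _
  have hcomp : ψ.comp φ = MvPolynomial.aeval g := MvPolynomial.algHom_ext fun i => by
    simp only [AlgHom.comp_apply, φ, MvPolynomial.aeval_X, map_mul, map_sub, map_pow]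
    simp only [ψ, Algebra.TensorProduct.includeLeft_apply, Algebra.TensorProduct.includeRight_apply,
      Algebra.TensorProduct.lift_tmul, map_one, one_mul, mul_one]
    rw [hx i, add_sub_cancel_left, mul_right_comm, ← mul_pow, mul_comm t, hut, one_pow, one_mul]
  rw [← hcomp, AlgHom.comp_apply, hφ, map_zero]

end Groth.Agent.H23.GenTranslate
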