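import Mathlib.RingTheory.Polynomial.IsIntegral
import Mathlib.RingTheory.AlgebraicIndependent.TranscendenceBasis
import Mathlib.FieldTheory.IntermediateField.Adjoin.Basic
import Mathlib.Algebra.Polynomial.Div
import Mathlib.FieldTheory.AlgebraicClosure
import Mathlib.RingTheory.AlgebraicIndependent.AlgebraicClosure
import Mathlib.RingTheory.AlgebraicIndependent.Adjoin

/-!
# A linear relation with generic coefficients cannot hold on a positive dimensional set

If `∑ c_α β_α + ∑_{a ≤ m} c_a u ^ a = 0` with coefficients `c` algebraically independent over `k`, where the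
`β_α` and `u` lie in a field `Kz` of transcendence degree at most `e` over `Ky`, and the transcendence degree of
`Kz` does not drop over a field `L ⊇ Ky` containing the coefficients, then `m < trdeg_k Ky`.
-/

set_option autoImplicit false
set_option linter.style.haveILetI false

open IntermediateField

universe u

namespace Groth.Agent.H23.GenericCoeff

/-- The coefficients of a polynomial taking an algebraic value at a transcendental point. -/
theorem isAlgebraic_coeff {F M Ω : Type u} [Field F] [Field M] [Field Ω] [Algebra F M] [Algebra M Ω]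
    [Algebra F Ω] [IsScalarTower F M Ω] {t : Ω} (ht : Transcendental M t) (Q : Polynomial M)
    (h : IsAlgebraic (Algebra.adjoin F {t}) (Polynomial.aeval t Q)) (i : ℕ) :
    IsAlgebraic F (Q.coeff i) := by
  classical
  letI : Algebra (Polynomial F) (Polynomial M) := (Polynomial.mapRingHom (algebraMap F M)).toAlgebra
  let ev : Polynomial M →+* Ω := (Polynomial.aeval t).toRingHom
  have hev : Function.Injective ev := (transcendental_iff_injective (R := M) (x := t)).1 ht
  -- the value is algebraic over the polynomial ring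
  have hQ : IsAlgebraic (Polynomial F) Q := by
    obtain ⟨G, hG0, hG⟩ := h
    let π : Polynomial F →ₐ[F] Algebra.adjoin F {t} :=
      (Polynomial.aeval t).codRestrict _ fun p => Polynomial.aeval_mem_adjoin_singleton F t
    have hπ : Function.Surjective π := by
      rintro ⟨x, hx⟩
      rw [Algebra.adjoin_singleton_eq_range_aeval] at hx
      obtain ⟨p, rfl⟩ := hx
      exact ⟨p, rfl⟩
    obtain ⟨G', rfl⟩ := Polynomial.map_surjective π.toRingHom hπ G
    refine ⟨G', fun h0 => hG0 (by rw [h0, Polynomial.map_zero]), hev ?_⟩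
    rw [map_zero, ← hG, Polynomial.aeval_def, Polynomial.hom_eval₂, Polynomial.aeval_def, Polynomial.eval₂_map]
    congr 1
    ext p : 1
    · ext a
      simp [ev, π, RingHom.algebraMap_toAlgebra, IsScalarTower.algebraMap_apply F M Ω]
    · simp [ev, π, RingHom.algebraMap_toAlgebra]
  obtain ⟨g, hg, hint⟩ := hQ.exists_integral_multiple
  -- pass to the algebraic closure of `F` in `M`
  let E := algebraicClosure F M
  have hgE : (g.map (algebraMap F E)).map (algebraMap E M) = g.map (algebraMap F M) := by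
    rw [Polynomial.map_map, ← IsScalarTower.algebraMap_eq]
  have hmem : ∀ j, (g • Q).coeff j ∈ E := fun j => by
    rw [mem_algebraicClosure_iff]
    exact ((Polynomial.isIntegral_iff_isIntegral_coeff.1 hint) j).isAlgebraic
  obtain ⟨P, hP⟩ : ∃ P : Polynomial E, P.map (algebraMap E M) = g • Q := by
    rw [← Polynomial.mem_lifts]
    rw [Polynomial.lifts_iff_coeff_lifts]
    exact fun j => ⟨⟨_, hmem j⟩, rfl⟩
  have hdiv : (P / g.map (algebraMap F E)).map (algebraMap E M) = Q := by
    rw [Polynomial.map_div, hP, hgE, Algebra.smul_def]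
    exact mul_div_cancel_left₀ Q (Polynomial.map_ne_zero hg)
  rw [← hdiv, Polynomial.coeff_map]
  exact (mem_algebraicClosure_iff.1 ((P / g.map (algebraMap F E)).coeff i).2)

variable {k Ω : Type u} [Field k] [Field Ω] [Algebra k Ω]

/-- Elements algebraic over an intermediate field generated by elements algebraic over a smaller one. -/
theorem isAlgebraic_trans {K : IntermediateField k Ω} {S : Set Ω} (hS : ∀ s ∈ S, IsAlgebraic K s) {x : Ω}
    (hx : IsAlgebraic (adjoin k S) x) : IsAlgebraic K x := by
  have hle : adjoin k S ≤ (algebraicClosure K Ω).restrictScalars k :=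
    adjoin_le_iff.2 fun s hs => mem_algebraicClosure_iff.2 (hS s hs)
  letI : Algebra (adjoin k S) (algebraicClosure K Ω) :=
    (IntermediateField.inclusion hle).toRingHom.toAlgebra
  haveI : IsScalarTower (adjoin k S) (algebraicClosure K Ω) Ω := IsScalarTower.of_algebraMap_eq fun _ => rfl
  exact (hx.tower_top (algebraicClosure K Ω)).restrictScalars K

theorem isAlgebraic_of_mem (K : IntermediateField k Ω) {x : Ω} (hx : x ∈ K) : IsAlgebraic K x :=
  isAlgebraic_algebraMap (⟨x, hx⟩ : K)

/-- The main counting statement. -/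
theorem lt_card {ι : Type u} [Fintype ι] {m e D : ℕ} (c : ι → Ω) (hc : AlgebraicIndependent k c)
    (idx : Fin (m + 1) → ι) (hidx : Function.Injective idx)
    (Ky Kz L : IntermediateField k Ω) (hyL : Ky ≤ L) (hcL : ∀ i, c i ∈ L)
    (hy : ∃ s : Finset Ω, s.card ≤ D ∧ (∀ x ∈ s, x ∈ Ky) ∧ ∀ x ∈ Ky, IsAlgebraic (adjoin k (s : Set Ω)) x)
    (u : Ω) (hu : u ∈ Kz)
    (hz : ∃ s : Finset Ω, s.card ≤ e ∧ u ∈ s ∧
      ∀ x ∈ Kz, IsAlgebraic (adjoin k ((Ky : Set Ω) ∪ s)) x)
    (hgen : ∀ x : Ω, IsAlgebraic (adjoin k (Set.range c ∪ Kz)) x)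
    (hrd : (e : Cardinal) ≤ Algebra.trdeg L Ω)
    (β : ι → Ω) (hβ : ∀ i, β i ∈ Kz) (hidxβ : ∀ a, β (idx a) = u ^ (a : ℕ))
    (hrel : ∑ i, c i * β i = 0) : m < D := by
  classical
  obtain ⟨sy, hsy, hsyK, hsyalg⟩ := hy
  obtain ⟨sz, hsz, husz, hszalg⟩ := hz
  let T' : Finset Ω := sz.erase u
  let S₀ : Set Ω := (sy : Set Ω) ∪ c '' (Set.range idx)ᶜ ∪ T'
  let F := adjoin k S₀
  let M := adjoin k ((L : Set Ω) ∪ T')
  have hFM : F ≤ M := by
    refine adjoin_le_iff.2 ?_
    rintro x ((hx | ⟨i, -, rfl⟩) | hx)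
    · exact subset_adjoin k _ (Or.inl (hyL (hsyK x hx)))
    · exact subset_adjoin k _ (Or.inl (hcL i))
    · exact subset_adjoin k _ (Or.inr hx)
  -- `u` is transcendental over `M`
  have htr : Transcendental M u := by
    intro hal
    have hcard : T'.card < e := lt_of_lt_of_le (Finset.card_erase_lt_of_mem husz) hsz
    have hall : ∀ x : Ω, IsAlgebraic M x := fun x => isAlgebraic_trans (fun y hy => ?_) (hgen x)
    · have hle : M ≤ (adjoin L (T' : Set Ω)).restrictScalars k := adjoin_le_iff.2 fun x hx => by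
        rcases hx with hx | hx
        · exact (adjoin L (T' : Set Ω)).algebraMap_mem (⟨x, hx⟩ : L)
        · exact subset_adjoin L _ hx
      letI : Algebra M (adjoin L (T' : Set Ω)) := (IntermediateField.inclusion hle).toRingHom.toAlgebra
      haveI : IsScalarTower M (adjoin L (T' : Set Ω)) Ω := IsScalarTower.of_algebraMap_eq fun _ => rfl
      haveI : Algebra.IsAlgebraic (Algebra.adjoin L (T' : Set Ω)) Ω :=
        ⟨fun x => IntermediateField.isAlgebraic_adjoin_iff.1 ((hall x).tower_top _)⟩
      have h := hrd.trans (Algebra.IsAlgebraic.trdeg_le_cardinalMk L (T' : Set Ω))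
      have h' : (e : Cardinal) ≤ T'.card := h.trans_eq (by simp)
      rw [Nat.cast_le] at h'
      omega
    rcases hy with ⟨i, rfl⟩ | hy
    · exact isAlgebraic_of_mem _ (subset_adjoin k _ (Or.inl (hcL i)))
    · refine isAlgebraic_trans (fun z hz => ?_) (hszalg y hy)
      rcases hz with hz | hz
      · exact isAlgebraic_of_mem _ (subset_adjoin k _ (Or.inl (hyL hz)))
      · by_cases hzu : z = u
        · exact hzu ▸ hal
        · exact isAlgebraic_of_mem _ (subset_adjoin k _ (Or.inr (Finset.mem_erase.2 ⟨hzu, hz⟩)))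
  -- the value is algebraic over `F(u)`
  letI : Algebra F M := (IntermediateField.inclusion hFM).toRingHom.toAlgebra
  haveI : IsScalarTower F M Ω := IsScalarTower.of_algebraMap_eq fun _ => rfl
  let Fu : IntermediateField k Ω := adjoin k (S₀ ∪ {u})
  have hKy : ∀ x ∈ Ky, IsAlgebraic Fu x := fun x hx =>
    isAlgebraic_trans (fun s hs => isAlgebraic_of_mem _ (subset_adjoin k _ (Or.inl (Or.inl (Or.inl hs)))))
      (hsyalg x hx)
  have hKz : ∀ x ∈ Kz, IsAlgebraic Fu x := fun x hx => isAlgebraic_trans (fun z hz => by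
    rcases hz with hz | hz
    · exact hKy z hz
    · by_cases hzu : z = u
      · exact isAlgebraic_of_mem _ (subset_adjoin k _ (Or.inr hzu))
      · exact isAlgebraic_of_mem _
          (subset_adjoin k _ (Or.inl (Or.inr (Finset.mem_erase.2 ⟨hzu, hz⟩))))) (hszalg x hx)
  let Q : Polynomial M :=
    ∑ a : Fin (m + 1), Polynomial.monomial (a : ℕ) (⟨c (idx a), subset_adjoin k _ (Or.inl (hcL _))⟩ : M)
  have hval : Polynomial.aeval u Q = ∑ a : Fin (m + 1), c (idx a) * β (idx a) := by
    simp only [Q, map_sum, Polynomial.aeval_monomial, hidxβ]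
    rfl
  have hval' : Polynomial.aeval u Q ∈ algebraicClosure Fu Ω := by
    rw [hval]
    have hsplit : ∑ a : Fin (m + 1), c (idx a) * β (idx a) =
        -∑ i ∈ (Finset.univ.map ⟨idx, hidx⟩)ᶜ, c i * β i := by
      rw [eq_neg_iff_add_eq_zero, ← hrel, ← Finset.sum_add_sum_compl (Finset.univ.map ⟨idx, hidx⟩),
        Finset.sum_map]
      rfl
    rw [hsplit]
    refine neg_mem (sum_mem fun i hi => mul_mem ?_ (mem_algebraicClosure_iff.2 (hKz _ (hβ i))))
    refine mem_algebraicClosure_iff.2 (isAlgebraic_of_mem _ (subset_adjoin k _ (Or.inl (Or.inl (Or.inr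
      ⟨i, ?_, rfl⟩)))))
    rintro ⟨a, rfl⟩
    exact Finset.mem_compl.1 hi (Finset.mem_map_of_mem _ (Finset.mem_univ a))
  have halg : IsAlgebraic (Algebra.adjoin F {u}) (Polynomial.aeval u Q) := by
    have hle : Fu ≤ (adjoin F {u}).restrictScalars k := adjoin_le_iff.2 fun x hx => by
      rcases hx with hx | hx
      · exact (adjoin F {u}).algebraMap_mem (⟨x, subset_adjoin k _ hx⟩ : F)
      · exact subset_adjoin F _ hx
    letI : Algebra Fu (adjoin F {u}) := (IntermediateField.inclusion hle).toRingHom.toAlgebra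
    haveI : IsScalarTower Fu (adjoin F {u}) Ω := IsScalarTower.of_algebraMap_eq fun _ => rfl
    have h1 : IsAlgebraic (adjoin F {u}) (Polynomial.aeval u Q) :=
      (mem_algebraicClosure_iff.1 hval').tower_top _
    exact (IntermediateField.isAlgebraic_adjoin_iff).1 h1
  -- so the distinguished coefficients are algebraic over `F`
  have hcoef : ∀ i, IsAlgebraic F (c i) := by
    intro i
    by_cases hi : i ∈ Set.range idx
    · obtain ⟨a, rfl⟩ := hi
      have h1 := isAlgebraic_coeff htr Q halg (a : ℕ)
      have h2 : Q.coeff (a : ℕ) = ⟨c (idx a), subset_adjoin k _ (Or.inl (hcL _))⟩ := by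
        simp only [Q, Polynomial.finsetSum_coeff, Polynomial.coeff_monomial, Fin.val_inj]
        rw [Finset.sum_ite_eq' Finset.univ a, if_pos (Finset.mem_univ a)]
      rw [h2] at h1
      exact h1.algebraMap
    · exact isAlgebraic_of_mem _ (subset_adjoin k _ (Or.inl (Or.inr ⟨i, hi, rfl⟩)))
  -- so `Ω` is algebraic over too few elements
  let S : Finset Ω := (sy ∪ (Finset.univ.map ⟨idx, hidx⟩)ᶜ.image c) ∪ sz
  let K := adjoin k (S : Set Ω)
  have hmS : ∀ {x}, x ∈ S → x ∈ K := fun h => subset_adjoin k _ h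
  have hc' : ∀ i, IsAlgebraic K (c i) := fun i => by
    refine isAlgebraic_trans (fun x hx => isAlgebraic_of_mem _ (hmS ?_)) (hcoef i)
    rcases hx with (hx | ⟨j, hj, rfl⟩) | hx
    · exact Finset.mem_union_left _ (Finset.mem_union_left _ hx)
    · refine Finset.mem_union_left _ (Finset.mem_union_right _ (Finset.mem_image_of_mem c
        (Finset.mem_compl.2 fun hmem => hj ?_)))
      obtain ⟨a, -, rfl⟩ := Finset.mem_map.1 hmem
      exact ⟨a, rfl⟩
    · exact Finset.mem_union_right _ (Finset.mem_erase.1 hx).2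
  have hKy' : ∀ x ∈ Ky, IsAlgebraic K x := fun x hx => isAlgebraic_trans
    (fun z hz => isAlgebraic_of_mem _ (hmS (Finset.mem_union_left _ (Finset.mem_union_left _ hz)))) (hsyalg x hx)
  have hKz' : ∀ x ∈ Kz, IsAlgebraic K x := fun x hx => isAlgebraic_trans (fun z hz => by
    rcases hz with hz | hz
    · exact hKy' z hz
    · exact isAlgebraic_of_mem _ (hmS (Finset.mem_union_right _ hz))) (hszalg x hx)
  haveI : Algebra.IsAlgebraic (Algebra.adjoin k (S : Set Ω)) Ω :=
    ⟨fun x => IntermediateField.isAlgebraic_adjoin_iff.1 (isAlgebraic_trans (fun z hz => by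
      rcases hz with ⟨i, rfl⟩ | hz
      · exact hc' i
      · exact hKz' z hz) (hgen x))⟩
  let cL : ι → L := fun i => ⟨c i, hcL i⟩
  have hcind : AlgebraicIndependent k cL := AlgebraicIndependent.of_comp L.val (by exact hc)
  have h1 : (Fintype.card ι : Cardinal) ≤ Algebra.trdeg k L := by
    simpa [Cardinal.mk_fintype] using hcind.lift_cardinalMk_le_trdeg
  have h2 : (Fintype.card ι : Cardinal) + e ≤ (S.card : Cardinal) := by
    refine (add_le_add h1 hrd).trans ?_
    rw [trdeg_add_eq]
    simpa using Algebra.IsAlgebraic.trdeg_le_cardinalMk k (S : Set Ω)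
  have h3 : Fintype.card ι + e ≤ S.card := by exact_mod_cast h2
  have h4 : ((Finset.univ.map ⟨idx, hidx⟩)ᶜ.image c).card ≤ Fintype.card ι - (m + 1) :=
    Finset.card_image_le.trans (by rw [Finset.card_compl, Finset.card_map, Finset.card_fin])
  have h5 : S.card ≤ D + (Fintype.card ι - (m + 1)) + e :=
    (Finset.card_union_le _ _).trans (add_le_add ((Finset.card_union_le _ _).trans (add_le_add hsy h4)) hsz)
  have h6 : m + 1 ≤ Fintype.card ι := by simpa using Fintype.card_le_of_injective idx hidx
  omega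

end Groth.Agent.H23.GenericCoeff
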