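import Groth.Agent.Approx.AmpleMerge
import Groth.Agent.AmpleX.Generated
import Groth.Agent.InvX.GenLocusPull
import Mathlib.AlgebraicGeometry.AffineSpace

/-!
# The universal homogeneous polynomial in given sections of an invertible module
-/

set_option autoImplicit false
set_option linter.style.haveILetI false
set_option backward.isDefEq.respectTransparency false
set_option backward.isDefEq.respectTransparency.types false

open CategoryTheory AlgebraicGeometry TopologicalSpace

universe u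

namespace Groth.Agent.H23.GenericCutSect

open Groth.Agent

variable {X : Scheme.{u}} {M : X.Modules}

/-- The generating locus of a multiple of a section. -/
theorem genLocus_smul_le (hM : PicF.IsInvertible M) (c : Γ(X, ⊤)) (t : Γ(M, ⊤)) :
    CohB1.genLocus M (InvX.ofSect (c • t)) = X.basicOpen c ⊓ CohB1.genLocus M (InvX.ofSect t) := by
  refine Opens.ext (Set.ext fun x => ?_)
  obtain ⟨U, hx, e, he⟩ := InvX.exists_frame hM x
  obtain ⟨g, hg⟩ := he.exists_coord le_rfl (AModX.res M (le_top : U ≤ ⊤) t)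
  rw [AModX.res_self] at hg
  have h1 : AModX.res M (le_top : U ≤ ⊤) (InvX.one (InvX.ofSect (c • t))) =
      (AModX.resR (le_top : U ≤ ⊤) c * g) • e := by
    rw [InvX.one_ofSect, AModX.res_smul, hg, mul_smul]
  have h2 : AModX.res M (le_top : U ≤ ⊤) (InvX.one (InvX.ofSect t)) = g • e := by rw [InvX.one_ofSect, hg]
  have e1 := congrArg (fun V : X.Opens => x ∈ V) (InvX.genLocus_inf _ he h1)
  have e2 := congrArg (fun V : X.Opens => x ∈ V) (InvX.genLocus_inf _ he h2)
  have e3 : x ∈ X.basicOpen (AModX.resR (le_top : U ≤ ⊤) c) ↔ x ∈ X.basicOpen c := by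
    rw [show AModX.resR (le_top : U ≤ ⊤) c = X.presheaf.map (homOfLE (le_top : U ≤ ⊤)).op c from rfl,
      Scheme.basicOpen_res]
    exact ⟨fun h => h.2, fun h => ⟨hx, h⟩⟩
  rw [Scheme.basicOpen_mul] at e1
  simp only [Opens.mem_inf, hx, and_true, eq_iff_iff] at e1 e2
  exact e1.trans (and_congr e3 e2.symm)

/-- The generating locus of the inverse image of a section. -/
theorem genLocus_pullElt {P : Scheme.{u}} (r : P ⟶ X) (hM : PicF.IsInvertible M)
    (t : Coh.structureModule X ⟶ M) :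
    CohB1.genLocus _ (InvX.ofSect (X := P) (InvX.pullElt r (InvX.one t))) = r ⁻¹ᵁ CohB1.genLocus M t := by
  refine Opens.ext (Set.ext fun z => ?_)
  obtain ⟨U, hx, e, he⟩ := InvX.exists_frame hM (r z)
  obtain ⟨g, hg⟩ := he.exists_coord le_rfl (AModX.res M (le_top : U ≤ ⊤) (InvX.one t))
  rw [AModX.res_self] at hg
  have h1 : AModX.res _ (le_top : r ⁻¹ᵁ U ≤ ⊤) (InvX.one (InvX.ofSect (X := P) (InvX.pullElt r (InvX.one t)))) =
      r.app U g • InvX.pullElt r e := by
    rw [InvX.one_ofSect]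
    refine (InvX.res_pullElt r (le_top : U ≤ ⊤) (InvX.one t)).trans ?_
    rw [hg, InvX.pullElt_smul]
  have e1 := congrArg (fun V : P.Opens => z ∈ V) (InvX.genLocus_inf _ (InvX.isFrame_pullElt r he) h1)
  have e2 := congrArg (fun V : X.Opens => r z ∈ V) (InvX.genLocus_inf t he hg)
  have hz : z ∈ r ⁻¹ᵁ U := hx
  rw [← Scheme.preimage_basicOpen] at e1
  simp only [Opens.mem_inf, hx, hz, and_true, eq_iff_iff] at e1 e2
  exact e1.trans e2.symm

variable [X.IsSeparated] {L : X.Modules}

/-- Local equations of the universal homogeneous polynomial of degree `m` in the sections `σ`. -/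
theorem exists_universal (hL : PicF.IsInvertible L) {κ : Type u} [Fintype κ]
    (σ : κ → (Coh.structureModule X ⟶ L)) (hσ : ∀ i, IsAffineOpen (CohB1.genLocus L (σ i)))
    (a : ∀ i, κ → Γ(X, CohB1.genLocus L (σ i)))
    (ha : ∀ i j, AModX.res L (le_top : CohB1.genLocus L (σ i) ≤ ⊤) (InvX.one (σ j)) =
      a i j • AModX.res L (le_top : CohB1.genLocus L (σ i) ≤ ⊤) (InvX.one (σ i)))
    (m : ℕ) (hm : 0 < m) :
    ∃ G : (𝔸(Fin m → κ; X)).Opens, IsAffineOpen G ∧
      ∀ i, G ⊓ (𝔸(Fin m → κ; X) ↘ X) ⁻¹ᵁ CohB1.genLocus L (σ i) =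
        (𝔸(Fin m → κ; X)).basicOpen (∑ w : Fin m → κ,
          (𝔸(Fin m → κ; X)).presheaf.map (homOfLE (le_top : (𝔸(Fin m → κ; X) ↘ X) ⁻¹ᵁ
              CohB1.genLocus L (σ i) ≤ ⊤)).op (AffineSpace.coord X w) *
            (𝔸(Fin m → κ; X) ↘ X).app (CohB1.genLocus L (σ i))
              (∏ l ∈ Finset.range m, if h : l < m then a i (w ⟨l, h⟩) else 1)) := by
  classical
  let P := 𝔸(Fin m → κ; X)
  let r := P ↘ X
  haveI : IsAffineHom r := MorphismProperty.pullback_fst (P := @IsAffineHom) _ _ inferInstance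
  let f : (Fin m → κ) → ℕ → (Coh.structureModule X ⟶ L) :=
    fun w l => σ (if h : l < m then w ⟨l, h⟩ else w ⟨0, hm⟩)
  let t : (Fin m → κ) → (Coh.structureModule X ⟶ CohB1.tensorPow L m) :=
    fun w => Approx.AmpleMerge.prodHom (f w) m
  let pt : (Fin m → κ) → Γ((Scheme.Modules.pullback r).obj (CohB1.tensorPow L m), ⊤) :=
    fun w => InvX.pullElt r (InvX.one (t w))
  let τ : (Fin m → κ) → (Coh.structureModule P ⟶ (Scheme.Modules.pullback r).obj (CohB1.tensorPow L m)) :=
    fun w => InvX.ofSect (AffineSpace.coord X w • pt w)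
  have hLm := InvX.isInvertible_tensorPow hL m
  have hMP := PicClLib.isInvertible_pullback r hLm
  haveI : P.IsSeparated := ⟨by rw [← Limits.terminal.comp_from r]; infer_instance⟩
  have hτa : ∀ w, IsAffineOpen (CohB1.genLocus _ (τ w)) := fun w => by
    have h0 : IsAffineOpen (CohB1.genLocus _ (t w)) := by
      have h1 := AmpleX.isAffineOpen_inf_genLocus hLm (hσ (w ⟨0, hm⟩)) (t w)
      rwa [inf_eq_right.2] at h1
      intro x hx
      have h2 := (Approx.AmpleMerge.mem_genLocus_prodHom hL (f w) x m).1 hx 0 hm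
      simpa only [f, dif_pos hm] using h2
    have h1 := AmpleX.isAffineOpen_inf_genLocus hMP (h0.preimage r) (τ w)
    rwa [inf_eq_right.2] at h1
    rw [genLocus_smul_le hMP, genLocus_pullElt r hLm]
    exact inf_le_right
  refine ⟨CohB1.genLocus _ (∑ w, τ w), (Approx.SectSum.genLocus_sum τ hMP hτa).2, fun i => ?_⟩
  have he := AmpleX.res_genLocus_frame (σ i)
  refine InvX.genLocus_inf _ (InvX.isFrame_pullElt r (AmpleX.isFrame_powElt he m)) ?_
  rw [AmpleX.one_sum, map_sum, Finset.sum_smul]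
  refine Finset.sum_congr rfl fun w _ => ?_
  rw [InvX.one_ofSect, AModX.res_smul, mul_smul, ← InvX.pullElt_smul]
  congr 1
  refine (InvX.res_pullElt r (le_top : CohB1.genLocus L (σ i) ≤ ⊤) _).trans (congrArg _ ?_)
  rw [Approx.AmpleMerge.one_prodHom (f w) _ (fun l => a i (if h : l < m then w ⟨l, h⟩ else w ⟨0, hm⟩))
    (fun l => ha i _)]
  congr 1
  refine Finset.prod_congr rfl fun l hl => ?_
  rw [dif_pos (Finset.mem_range.1 hl), dif_pos (Finset.mem_range.1 hl)]

end Groth.Agent.H23.GenericCutSect
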