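import Groth.Agent.H23.GenericCutField
import Groth.Agent.H23.GenericCutSect
import Groth.Agent.H23.AmpleCut
import Groth.Agent.H28.RegTwist
import Groth.Agent.S1639
import Mathlib.AlgebraicGeometry.Morphisms.Finite

/-!
# Cutting a proper family down by a generic hypersurface, after a finite base change
-/

set_option autoImplicit false
set_option linter.style.haveILetI false
set_option backward.isDefEq.respectTransparency false
set_option backward.isDefEq.respectTransparency.types false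

open CategoryTheory CategoryTheory.Limits AlgebraicGeometry TopologicalSpace

universe u

namespace Groth.Agent.H23.GenericCut

open Groth.Agent Groth.Agent.H23.GenericCutField

variable {k : Type u} [Field k]

theorem locallyOfFiniteType_map {n : Type u} {S T : Scheme.{u}} (f : S ⟶ T) [LocallyOfFiniteType f] :
    LocallyOfFiniteType (AffineSpace.map n f) :=
  MorphismProperty.of_isPullback (P := @LocallyOfFiniteType) (AffineSpace.isPullback_map f).flip inferInstance

theorem isProper_map {n : Type u} {S T : Scheme.{u}} (f : S ⟶ T) [IsProper f] :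
    IsProper (AffineSpace.map n f) :=
  MorphismProperty.of_isPullback (P := @IsProper) (AffineSpace.isPullback_map f).flip inferInstance

open IntermediateField in
/-- Over the generic point of the space of coefficients, a point of the hypersurface has small relative degree. -/
theorem rd_le_of_generic {X Y : Scheme.{u}} (f : X ⟶ Y) [IsProper f] [Y.IsSeparated]
    (sY : Y ⟶ Spec (CommRingCat.of k)) [LocallyOfFiniteType sY] {D : ℕ} (hD : ∀ y, FibDim.rd sY y ≤ D)
    (e : ℕ) (he : ∀ x, FibDim.rd f x ≤ e + 1)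
    {κ : Type u} [Fintype κ] (U : κ → X.Opens) (hU : ∀ i, IsAffineOpen (U i)) (hcov : ∀ x, ∃ i, x ∈ U i)
    (a : ∀ i, κ → Γ(X, U i)) (ha1 : ∀ i, a i i = 1) (hab : ∀ i j, U j ⊓ U i = X.basicOpen (a i j))
    (G : (𝔸(Fin (D + 1) → κ; X)).Opens)
    (hG : ∀ i, G ⊓ (𝔸(Fin (D + 1) → κ; X) ↘ X) ⁻¹ᵁ U i =
      (𝔸(Fin (D + 1) → κ; X)).basicOpen (∑ w : Fin (D + 1) → κ,
        (𝔸(Fin (D + 1) → κ; X)).presheaf.map (homOfLE (le_top :
            (𝔸(Fin (D + 1) → κ; X) ↘ X) ⁻¹ᵁ U i ≤ ⊤)).op (AffineSpace.coord X w) *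
          (𝔸(Fin (D + 1) → κ; X) ↘ X).app (U i)
            (∏ l ∈ Finset.range (D + 1), if h : l < D + 1 then a i (w ⟨l, h⟩) else 1)))
    (z : 𝔸(Fin (D + 1) → κ; X)) (hz : z ∉ G)
    (hgen : IsGenericPoint (AffineSpace.map (Fin (D + 1) → κ) (f ≫ sY) z)
      (⊤ : Set 𝔸(Fin (D + 1) → κ; Spec (CommRingCat.of k)))) :
    FibDim.rd (AffineSpace.map (Fin (D + 1) → κ) f) z ≤ e := by
  classical
  haveI := locallyOfFiniteType_map (n := Fin (D + 1) → κ) f
  by_contra hlt
  push Not at hlt
  let n := Fin (D + 1) → κ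
  let P := 𝔸(n; X)
  let r := P ↘ X
  let pr := AffineSpace.map n f
  let sX := f ≫ sY
  let x := r z
  let pA := AffineSpace.map n sX
  let sA := 𝔸(n; Spec (CommRingCat.of k)) ↘ Spec (CommRingCat.of k)
  have hx : FibDim.rd f x = e + 1 := le_antisymm (he x)
    ((Nat.succ_le_of_lt hlt).trans (FibDim.rd_baseChange_le (AffineSpace.isPullback_map f).flip z))
  -- a chart where some coordinate is transcendental over the image in the base
  obtain ⟨j, hj⟩ := hcov x
  obtain ⟨x', hxx', hfx', hx'j⟩ := AmpleCut.exists_notMem_affine f (U j) (hU j) (w := x) (by rw [hx]; omega)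
  obtain ⟨i, hi⟩ := hcov x'
  have hxi : x ∈ U i := hxx'.mem_open (U i).isOpen hi
  have hji : j ≠ i := fun h => hx'j (h ▸ hi)
  let u₀ : X.residueField x := X.evaluation (U i) x hxi (a i j)
  have htr := transcendental_evaluation f hxx' hfx'.symm hxi hi (a i j)
    ((hab i j).le ⟨hj, hxi⟩) (fun h => hx'j ((hab i j).ge h).1)
  -- the fields
  let Ω := P.residueField z
  letI : Algebra k Ω := (VarDim.resHom (r ≫ sX) z).toAlgebra
  letI : Algebra k (X.residueField x) := (VarDim.resHom sX x).toAlgebra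
  letI : Algebra k (Y.residueField (f x)) := (VarDim.resHom sY (f x)).toAlgebra
  let φ : X.residueField x →ₐ[k] Ω :=
    { (r.residueFieldMap z).hom with commutes' := fun c => residueFieldMap_resHom r sX z c }
  let ψ : Y.residueField (f x) →ₐ[k] X.residueField x :=
    { (f.residueFieldMap x).hom with commutes' := fun c => residueFieldMap_resHom f sY x c }
  have hpY : pr ≫ (𝔸(n; Y) ↘ Y) = r ≫ f := AffineSpace.map_over f
  have hpY' : pr ≫ (𝔸(n; Y) ↘ Y) ≫ sY = r ≫ sX := by rw [← Category.assoc, hpY, Category.assoc]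
  letI : Algebra k ((𝔸(n; Y)).residueField (pr z)) := (VarDim.resHom ((𝔸(n; Y) ↘ Y) ≫ sY) (pr z)).toAlgebra
  let θ : (𝔸(n; Y)).residueField (pr z) →ₐ[k] Ω :=
    { (pr.residueFieldMap z).hom with
      commutes' := fun c => by
        show pr.residueFieldMap z (VarDim.resHom ((𝔸(n; Y) ↘ Y) ≫ sY) (pr z) c) = VarDim.resHom (r ≫ sX) z c
        rw [residueFieldMap_resHom, hpY'] }
  letI : Algebra k ((𝔸(n; Spec (CommRingCat.of k))).residueField (pA z)) :=
    (VarDim.resHom sA (pA z)).toAlgebra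
  let α : (𝔸(n; Spec (CommRingCat.of k))).residueField (pA z) →ₐ[k] Ω :=
    { (pA.residueFieldMap z).hom with
      commutes' := fun c => by
        show pA.residueFieldMap z (VarDim.resHom sA (pA z) c) = VarDim.resHom (r ≫ sX) z c
        rw [residueFieldMap_resHom, AffineSpace.map_over] }
  let c : n → Ω := fun w => P.Γevaluation z (AffineSpace.coord X w)
  have hc : AlgebraicIndependent k c := by
    have h := (algebraicIndependent_coord (pA z) hgen).map' (f := α) α.toRingHom.injective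
    convert h using 1
    funext w
    show _ = pA.residueFieldMap z _
    rw [Scheme.Γevaluation_naturality_apply, AffineSpace.map_appTop_coord]
  let Kz : IntermediateField k Ω := φ.fieldRange
  let Ky : IntermediateField k Ω := (φ.comp ψ).fieldRange
  let L : IntermediateField k Ω := θ.fieldRange
  have hcL : ∀ w, c w ∈ L := fun w => ⟨(𝔸(n; Y)).Γevaluation (pr z) (AffineSpace.coord Y w), by
    show pr.residueFieldMap z _ = _
    rw [Scheme.Γevaluation_naturality_apply, AffineSpace.map_appTop_coord]⟩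
  have hyL : Ky ≤ L := by
    rintro _ ⟨b, rfl⟩
    show ((f.residueFieldMap x) ≫ r.residueFieldMap z) b ∈ L
    rw [← Scheme.residueFieldMap_comp, Scheme.Hom.residueFieldMap_congr hpY.symm z,
      Scheme.residueFieldMap_comp]
    exact ⟨_, rfl⟩
  have hy : ∃ s : Finset Ω, s.card ≤ D ∧ (∀ b ∈ s, b ∈ Ky) ∧ ∀ b ∈ Ky, IsAlgebraic (adjoin k (s : Set Ω)) b := by
    have hd : Algebra.trdeg k (Y.residueField (f x)) ≤ (D : Cardinal) :=
      calc Algebra.trdeg k (Y.residueField (f x)) = VarDim.tdeg sY (f x) := rfl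
        _ = (FibDim.rd sY (f x) : Cardinal) := (VarDim.tdeg_eq_rdeg sY _).trans (FibDim.rd_eq_rdeg sY _).symm
        _ ≤ (D : Cardinal) := Nat.cast_le.2 (hD _)
    obtain ⟨s, hs, hspan⟩ := exists_spanning' hd
    refine ⟨s.image (φ.comp ψ), Finset.card_image_le.trans hs, fun b hb => ?_, ?_⟩
    · obtain ⟨b, -, rfl⟩ := Finset.mem_image.1 hb
      exact ⟨b, rfl⟩
    · rintro _ ⟨b, rfl⟩
      refine isAlgebraic_map (φ.comp ψ) (le_of_eq ?_) (hspan b)
      rw [adjoin_map, Finset.coe_image]
  have hzs : ∃ s : Finset Ω, s.card ≤ e + 1 ∧ φ u₀ ∈ s ∧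
      ∀ b ∈ Kz, IsAlgebraic (adjoin k ((Ky : Set Ω) ∪ s)) b := by
    letI : Algebra (Y.residueField (f x)) (X.residueField x) := (f.residueFieldMap x).hom.toAlgebra
    have hd : Algebra.trdeg (Y.residueField (f x)) (X.residueField x) ≤ ((e + 1 : ℕ) : Cardinal) :=
      ((FibDim.rd_eq_rdeg f x).symm.trans (congrArg (Nat.cast (R := Cardinal)) hx)).le
    obtain ⟨s, hu, hs, hspan⟩ := exists_spanning htr hd
    refine ⟨s.image φ, Finset.card_image_le.trans hs, Finset.mem_image_of_mem φ hu, ?_⟩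
    rintro _ ⟨b, rfl⟩
    let E := IntermediateField.adjoin (Y.residueField (f x)) (s : Set (X.residueField x))
    let E' : IntermediateField k Ω := adjoin k ((Ky : Set Ω) ∪ ↑(s.image φ))
    have hle : E.toSubfield ≤ (E'.comap φ).toSubfield := by
      rw [IntermediateField.adjoin_toSubfield, Subfield.closure_le]
      rintro _ (⟨c, rfl⟩ | hc)
      · exact subset_adjoin k _ (Or.inl ⟨c, rfl⟩)
      · exact subset_adjoin k _ (Or.inr (Finset.mem_coe.2 (Finset.mem_image_of_mem φ hc)))
    let ρ : E →+* E' := (φ.toRingHom.comp E.val.toRingHom).codRestrict E' fun b => hle b.2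
    exact (hspan b).ringHom_of_comp_eq ρ φ.toRingHom ρ.injective (RingHom.ext fun _ => rfl)
  have hgen' : ∀ ω : Ω, IsAlgebraic (adjoin k (Set.range c ∪ Kz)) ω := fun ω =>
    GenericCoeff.isAlgebraic_of_mem _ (mem_of_generated (S := X) z (adjoin k (Set.range c ∪ Kz)).toSubfield
      (fun b => subset_adjoin k _ (Or.inr ⟨b, rfl⟩)) (fun w => subset_adjoin k _ (Or.inl ⟨w, rfl⟩)) ω)
  have hrd : ((e + 1 : ℕ) : Cardinal) ≤ Algebra.trdeg L Ω := by
    letI : Algebra ((𝔸(n; Y)).residueField (pr z)) Ω := θ.toRingHom.toAlgebra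
    let θ' : (𝔸(n; Y)).residueField (pr z) →+* L := θ.rangeRestrict.toRingHom
    letI : Algebra ((𝔸(n; Y)).residueField (pr z)) L := θ'.toAlgebra
    haveI : IsScalarTower ((𝔸(n; Y)).residueField (pr z)) L Ω := IsScalarTower.of_algebraMap_eq fun _ => rfl
    haveI : Algebra.IsAlgebraic ((𝔸(n; Y)).residueField (pr z)) L := ⟨fun b => by
      obtain ⟨b', hb'⟩ := b.2
      exact (Subtype.ext hb' : θ' b' = b) ▸ isAlgebraic_algebraMap b'⟩
    calc ((e + 1 : ℕ) : Cardinal) ≤ (FibDim.rd pr z : Cardinal) := Nat.cast_le.2 hlt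
      _ = Algebra.trdeg ((𝔸(n; Y)).residueField (pr z)) Ω := FibDim.rd_eq_rdeg pr z
      _ = Algebra.trdeg ((𝔸(n; Y)).residueField (pr z)) L + Algebra.trdeg L Ω := (trdeg_add_eq _ _).symm
      _ = Algebra.trdeg L Ω := by rw [trdeg_eq_zero, zero_add]
  -- the relation
  let ev : Γ(P, r ⁻¹ᵁ U i) →+* Ω := (P.evaluation (r ⁻¹ᵁ U i) z hxi).hom
  let β : n → Ω := fun w => φ (X.evaluation (U i) x hxi
    (∏ l ∈ Finset.range (D + 1), if h : l < D + 1 then a i (w ⟨l, h⟩) else 1))
  let idx : Fin (D + 1 + 1) → n := fun b l => if (l : ℕ) < b then j else i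
  have hidx : Function.Injective idx := fun b b' hbb => by
    refine Fin.ext (Nat.le_antisymm ?_ ?_)
    all_goals
      by_contra hc
      have hne := fun l => congrFun hbb l
      simp only [idx] at hne
    · have := hne ⟨b', by omega⟩
      simp only [lt_irrefl, if_false] at this
      rw [if_pos (show (b' : ℕ) < b by omega)] at this
      exact hji this
    · have := hne ⟨b, by omega⟩
      simp only [lt_irrefl, if_false] at this
      rw [if_pos (show (b : ℕ) < b' by omega)] at this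
      exact hji this.symm
  have hβ : ∀ b, β (idx b) = φ u₀ ^ (b : ℕ) := fun b => by
    rw [← map_pow, ← map_pow]
    refine congrArg φ (congrArg _ ?_)
    rw [Finset.prod_congr rfl (g := fun l => if l < (b : ℕ) then a i j else 1) fun l hl => ?_,
      Finset.prod_ite, Finset.prod_const_one, mul_one, Finset.prod_const]
    · congr 1
      rw [show (Finset.range (D + 1)).filter (· < (b : ℕ)) = Finset.range b from Finset.ext fun l => by
        simp only [Finset.mem_filter, Finset.mem_range]; omega, Finset.card_range]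
    · rw [dif_pos (Finset.mem_range.1 hl)]
      simp only [idx, apply_ite (a i), ha1]
  have hrel : ∑ w, c w * β w = 0 := by
    have h0 : ev _ = 0 :=
      (P.evaluation_eq_zero_iff_notMem_basicOpen z hxi _).2 fun h => hz ((hG i).ge h).1
    rw [map_sum] at h0
    rw [← h0]
    refine Finset.sum_congr rfl fun w _ => ?_
    rw [map_mul]
    congr 1
    · show P.residue z (P.presheaf.germ ⊤ z trivial (AffineSpace.coord X w)) =
        P.residue z (P.presheaf.germ (r ⁻¹ᵁ U i) z hxi _)
      rw [P.presheaf.germ_res_apply]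
    · exact Scheme.evaluation_naturality_apply r z hxi _
  exact absurd (GenericCoeff.lt_card c hc idx hidx Ky Kz L hyL hcL hy (φ u₀) ⟨u₀, rfl⟩ hzs hgen' hrd β
    (fun w => ⟨_, rfl⟩) hβ hrel) (by omega)

/-- A generic hypersurface over a finite extension drops the relative dimension by one. -/
theorem exists_step {X Y : Scheme.{u}} (f : X ⟶ Y) [IsProper f] (sY : Y ⟶ Spec (CommRingCat.of k))
    [IsProper sY] [IsIntegral Y] [CompactSpace X] {L : X.Modules} (hL : CohB1.IsAmple L)
    (e : ℕ) (he : ∀ x, FibDim.rd f x ≤ e + 1)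
    (hex : ∃ x, f x = genericPoint Y ∧ FibDim.rd f x = e + 1) :
    ∃ (T : Scheme.{u}) (g : T ⟶ X) (_ : IsFinite g), (∀ t, FibDim.rd (g ≫ f) t ≤ e) ∧
      ∃ t, (g ≫ f) t = genericPoint Y ∧ FibDim.rd (g ≫ f) t = e := by
  classical
  haveI := AmpleX.isSeparated_of_isAmple hL
  haveI : Y.IsSeparated := ⟨by rw [← terminal.comp_from sY]; infer_instance⟩
  let D := FibDim.rd sY (genericPoint Y)
  have hD : ∀ y, FibDim.rd sY y ≤ D := fun y => FibDim.rd_le_of_specializes sY
    ((genericPoint_spec Y).specializes (Set.mem_univ y))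
    (haveI := FibDim.subsingleton_spec_field k; Subsingleton.elim _ _)
  obtain ⟨d, -, κ, _, σ, hσ, -, hcov⟩ := AmpleX.exists_cover_genLocus hL
  have hfr := fun i => AmpleX.res_genLocus_frame (σ i)
  choose a ha using fun i j => (hfr i).exists_coord le_rfl
    (AModX.res _ (le_top : CohB1.genLocus _ (σ i) ≤ ⊤) (InvX.one (σ j)))
  simp only [AModX.res_self] at ha
  have ha1 : ∀ i, a i i = 1 := fun i => (hfr i).coord_unique le_rfl (by
    rw [one_smul]; simp only [AModX.res_self]; exact (ha i i).symm)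
  have hab : ∀ i j, CohB1.genLocus _ (σ j) ⊓ CohB1.genLocus _ (σ i) = X.basicOpen (a i j) := fun i j =>
    InvX.genLocus_inf _ (hfr i) (ha i j)
  obtain ⟨G, hGa, hG⟩ := GenericCutSect.exists_universal (InvX.isInvertible_tensorPow hL.1 d) σ hσ a ha
    (D + 1) D.succ_pos
  let n := Fin (D + 1) → κ
  let P := 𝔸(n; X)
  let pr : P ⟶ 𝔸(n; Y) := AffineSpace.map n f
  let A := 𝔸(n; Spec (CommRingCat.of k))
  let pA : P ⟶ A := AffineSpace.map n (f ≫ sY)
  let sA := A ↘ Spec (CommRingCat.of k)
  haveI : LocallyOfFiniteType sA := inferInstance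
  haveI := isProper_map (n := n) f
  haveI := isProper_map (n := n) (f ≫ sY)
  haveI : IsIntegral A := isIntegral_of_isOpenImmersion (AffineSpace.SpecIso n (CommRingCat.of k)).hom
  haveI : JacobsonSpace ↥A := LocallyOfFiniteType.jacobsonSpace sA
  -- the hypersurface and its bad points
  let Z : TopologicalSpace.Closeds P := G.compl
  let jZ := (Scheme.IdealSheafData.vanishingIdeal Z).subschemeι
  have hjZ : Set.range jZ = (G : Set P)ᶜ := DimFormula.range_vanishingIdeal Z
  let B : Set P := jZ '' {w | ((e + 1 : ℕ) : WithBot ℕ∞) ≤ FlatMor.fibreDimAt (jZ ≫ pr) w}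
  have hB : IsClosed (pA '' B) :=
    pA.isClosedMap _ (jZ.isClosedEmbedding.isClosedMap _ (FibDim.isClosed_le_fibreDimAt (jZ ≫ pr) (e + 1)))
  have hξ : genericPoint A ∉ pA '' B := by
    rintro ⟨_, ⟨w, hw, rfl⟩, hwξ⟩
    obtain ⟨v, -, hv, hvd, -⟩ := FibDim.exists_fibreDimAt_eq (jZ ≫ pr) w
    rw [Set.mem_setOf_eq, hvd] at hw
    have hw' : e + 1 ≤ FibDim.rd (jZ ≫ pr) v := by exact_mod_cast hw
    rw [DimFormula.rd_closedSub] at hw'
    have hpA : pA (jZ v) = pA (jZ w) := by
      have h := AffineSpace.map_comp (n := n) f sY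
      simp only [pA, h, Scheme.Hom.comp_apply] at hv ⊢
      exact congrArg _ hv
    have hle : FibDim.rd pr (jZ v) ≤ e := rd_le_of_generic f sY hD e he (fun i => CohB1.genLocus _ (σ i)) hσ hcov a ha1 hab G hG (jZ v)
      (show jZ v ∈ (G : Set P)ᶜ from hjZ ▸ Set.mem_range_self v)
      (by
        show IsGenericPoint (pA (jZ v)) _
        rw [hpA, hwξ]
        exact genericPoint_spec A)
    omega
  obtain ⟨c, hcB, hc⟩ := nonempty_inter_closedPoints (Z := (pA '' B)ᶜ) ⟨_, hξ⟩ hB.isOpen_compl.isLocallyClosed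
  have hc' : IsClosed ({c} : Set A) := hc
  haveI : IsClosedImmersion (A.fromSpecResidueField c) := isClosed_singleton_iff_isClosedImmersion.1 hc'
  haveI : IsFinite (A.fromSpecResidueField c ≫ sA) := by
    rw [isFinite_iff_locallyOfFiniteType_of_jacobsonSpace]
    infer_instance
  have hc0 : FibDim.rd sA c = 0 := by
    have h := FibDim.rd_comp (A.fromSpecResidueField c) sA (IsLocalRing.closedPoint _)
    rw [FibDim.rd_eq_zero_of_quasiFinite (A.fromSpecResidueField c ≫ sA),
      FibDim.rd_eq_zero_of_quasiFinite (A.fromSpecResidueField c), add_zero,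
      Scheme.fromSpecResidueField_apply] at h
    exact h.symm
  -- the slice
  let Q := pullback pA (A.fromSpecResidueField c)
  let qP : Q ⟶ P := pullback.fst _ _
  haveI : IsClosedImmersion qP := MorphismProperty.pullback_fst (P := @IsClosedImmersion) _ _ inferInstance
  let g0 : Q ⟶ X := qP ≫ (P ↘ X)
  have hpb : IsPullback g0 (pullback.snd pA (A.fromSpecResidueField c)) (f ≫ sY)
      (A.fromSpecResidueField c ≫ sA) :=
    ((IsPullback.of_hasPullback pA (A.fromSpecResidueField c)).paste_horiz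
      (AffineSpace.isPullback_map (n := n) (f ≫ sY)).flip)
  haveI : IsFinite g0 := MorphismProperty.of_isPullback (P := @IsFinite) hpb.flip inferInstance
  haveI : Surjective (A.fromSpecResidueField c ≫ sA) :=
    ⟨fun y => haveI := FibDim.subsingleton_spec_field k; ⟨IsLocalRing.closedPoint _, Subsingleton.elim _ _⟩⟩
  haveI : Surjective g0 := MorphismProperty.of_isPullback (P := @Surjective) hpb.flip inferInstance
  let Z' : TopologicalSpace.Closeds Q := (qP ⁻¹ᵁ G).compl
  let jT := (Scheme.IdealSheafData.vanishingIdeal Z').subschemeι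
  have hjT : Set.range jT = (qP ⁻¹' (G : Set P))ᶜ := DimFormula.range_vanishingIdeal Z'
  have hbound : ∀ t, FibDim.rd ((jT ≫ g0) ≫ f) t ≤ e := fun t => by
    have hfac : (jT ≫ g0) ≫ f = ((jT ≫ qP) ≫ pr) ≫ (𝔸(n; Y) ↘ Y) := by
      simp only [g0, pr, Category.assoc, AffineSpace.map_over]
      rfl
    rw [hfac, FibDim.rd_comp, FibDim.rd_comp, FibDim.rd_eq_zero_of_quasiFinite (jT ≫ qP), add_zero]
    have h1 : FibDim.rd (𝔸(n; Y) ↘ Y) (((jT ≫ qP) ≫ pr) t) = 0 := by
      refine Nat.eq_zero_of_le_zero ((FibDim.rd_baseChange_le (AffineSpace.isPullback_map (n := n) sY) _).trans ?_)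
      have : (AffineSpace.map n sY) (((jT ≫ qP) ≫ pr) t) = c := by
        rw [← Scheme.Hom.comp_apply, Category.assoc, ← AffineSpace.map_comp, Category.assoc,
          show qP ≫ AffineSpace.map n (f ≫ sY) = _ from pullback.condition, ← Category.assoc,
          Scheme.Hom.comp_apply, Scheme.fromSpecResidueField_apply]
      rw [this, hc0]
    rw [h1, zero_add]
    obtain ⟨w, hw⟩ : (jT ≫ qP) t ∈ Set.range jZ := by
      rw [hjZ]
      have : jT t ∈ Set.range jT := Set.mem_range_self t
      rw [hjT] at this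
      exact this
    rw [← hw, ← DimFormula.rd_closedSub]
    by_contra hlt
    refine hcB ⟨jZ w, ⟨w, ?_, rfl⟩, ?_⟩
    · refine le_trans ?_ (FibDim.rd_le_fibreDimAt (jZ ≫ pr) (specializes_refl w) rfl)
      exact_mod_cast (by omega : e + 1 ≤ FibDim.rd (jZ ≫ pr) w)
    · rw [hw, ← Scheme.Hom.comp_apply, Category.assoc, show qP ≫ pA = _ from pullback.condition, ← Category.assoc,
        Scheme.Hom.comp_apply, Scheme.fromSpecResidueField_apply]
  refine ⟨_, jT ≫ g0, inferInstance, hbound, ?_⟩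
  -- a point over the generic point
  obtain ⟨x₀, hx₀, hx₀e⟩ := hex
  obtain ⟨w, rfl⟩ := g0.surjective x₀
  let q0 := g0 ≫ f
  have hwe : FibDim.rd q0 w = e + 1 := by
    rw [show q0 = g0 ≫ f from rfl, FibDim.rd_comp, FibDim.rd_eq_zero_of_quasiFinite g0, add_zero, hx₀e]
  have hwG : w ∈ qP ⁻¹ᵁ G := by
    by_contra h
    obtain ⟨t, rfl⟩ : w ∈ Set.range jT := hjT ▸ h
    have h1 := hbound t
    rw [Category.assoc, FibDim.rd_comp, FibDim.rd_eq_zero_of_quasiFinite jT, add_zero] at h1
    change FibDim.rd q0 (jT t) ≤ e at h1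
    omega
  obtain ⟨z₁, hwz, hz₁, hz₁G⟩ := AmpleCut.exists_notMem_affine q0 (qP ⁻¹ᵁ G) (hGa.preimage qP) (w := w)
    (by rw [hwe]; omega)
  obtain ⟨i, hi⟩ := hcov (g0 z₁)
  let ι := q0.fiberι (q0 w)
  let g := qP.app _ (∑ v : n, P.presheaf.map (homOfLE (le_top : (P ↘ X) ⁻¹ᵁ CohB1.genLocus _ (σ i) ≤ ⊤)).op
    (AffineSpace.coord X v) * (P ↘ X).app _ (∏ l ∈ Finset.range (D + 1), if h : l < D + 1 then a i (v ⟨l, h⟩) else 1))
  have hUg : (qP ⁻¹ᵁ G) ⊓ g0 ⁻¹ᵁ CohB1.genLocus _ (σ i) = Q.basicOpen g := by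
    rw [← Scheme.preimage_basicOpen, ← hG i]
    rfl
  obtain ⟨z₁', rfl⟩ : z₁ ∈ Set.range ι := by rw [Scheme.Hom.range_fiberι]; exact hz₁
  haveI : LocallyOfFiniteType (Y := Spec (CommRingCat.of ↑(Y.residueField (q0 w))))
    (q0.fiberToSpecResidueField (q0 w)) := FibDim.locallyOfFiniteType_fiberToSpecResidueField' q0 _
  have hbo : ∀ b, b ∈ (q0.fiber (q0 w)).basicOpen (ι.app _ g) ↔
      ι b ∈ qP ⁻¹ᵁ G ∧ ι b ∈ g0 ⁻¹ᵁ CohB1.genLocus _ (σ i) := fun b => by
    rw [← Scheme.preimage_basicOpen, ← hUg]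
    rfl
  have hsp : q0.asFiber w ⤳ z₁' := ι.isEmbedding.isInducing.specializes_iff.1 (by
    rw [q0.fiberι_asFiber]; exact hwz)
  obtain ⟨ξ, -, hξU, hξg, hrd⟩ := AmpleCut.exists_rd_drop (q0.fiberToSpecResidueField (q0 w))
    (ι ⁻¹ᵁ g0 ⁻¹ᵁ CohB1.genLocus _ (σ i)) (ι.app _ g) hsp hi
    ((hbo _).2 (by rw [q0.fiberι_asFiber]; exact ⟨hwG, hwz.mem_open (g0 ⁻¹ᵁ CohB1.genLocus _ (σ i)).isOpen hi⟩))
    (fun h => hz₁G ((hbo _).1 h).1)
  rw [DimFormula.rd_fiberToSpec, DimFormula.rd_fiberToSpec, q0.fiberι_asFiber, hwe] at hrd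
  obtain ⟨t, ht⟩ : ι ξ ∈ Set.range jT := hjT ▸ fun h => hξg ((hbo _).2 ⟨h, hξU⟩)
  refine ⟨t, ?_, ?_⟩
  · rw [Category.assoc, Scheme.Hom.comp_apply, ht]
    exact (FibDim.fiber_apply_fiberι q0 ξ).trans hx₀
  · rw [Category.assoc, FibDim.rd_comp, FibDim.rd_eq_zero_of_quasiFinite jT, add_zero, ht]
    change FibDim.rd q0 (ι ξ) = e
    simp only [ι] at *
    omega

/-- A proper family of constant generic and maximal fibre dimension over a normal base makes it ample. -/
theorem exists_ample {Y : Scheme.{u}} (sY : Y ⟶ Spec (CommRingCat.of k)) [IsProper sY] [IsIntegral Y]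
    (hN : Pi1.IsNormalScheme Y) :
    ∀ (e : ℕ) {X : Scheme.{u}} (f : X ⟶ Y) [IsProper f], (∃ L : X.Modules, CohB1.IsAmple L) →
      (∀ x, FibDim.rd f x ≤ e) → (∃ x, f x = genericPoint Y ∧ FibDim.rd f x = e) →
      ∃ M : Y.Modules, CohB1.IsAmple M := by
  intro e
  induction e with
  | zero =>
    intro X f _ ⟨L, hL⟩ he ⟨x, hx, _⟩
    haveI : CompactSpace ↥Y := QuasiCompact.compactSpace_of_compactSpace sY
    haveI : LocallyQuasiFinite f := by
      refine LocallyQuasiFinite.of_finite_preimage_singleton f fun y => ?_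
      haveI : IsLocallyNoetherian (f.fiber y) := DimFormula.isLocallyNoetherian_fiber f y
      haveI : IsNoetherian (f.fiber y) := {}
      let F := f.fiber y
      have hclosed : ∀ b c : F, b ⤳ c → b = c := fun b c hbc => by
        by_contra hne
        have h1 := FibDim.rd_lt f (hbc.map (f.fiberι y).continuous)
          (fun h => hne ((f.fiberι y).isEmbedding.injective h))
          ((FibDim.fiber_apply_fiberι f b).trans (FibDim.fiber_apply_fiberι f c).symm)
        have := he (f.fiberι y b)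
        omega
      obtain ⟨𝒮, h𝒮f, h𝒮c, h𝒮i, hU⟩ :=
        NoetherianSpace.exists_finite_set_isClosed_irreducible (α := F) isClosed_univ
      have hF : Finite F := by
        refine Set.finite_univ_iff.1 (hU ▸ h𝒮f.sUnion fun C hC => ?_)
        refine Set.Subsingleton.finite fun b hb c hc => ?_
        have hgen := (h𝒮i C hC).isGenericPoint_genericPoint_closure
        rw [(h𝒮c C hC).closure_eq] at hgen
        exact (hclosed _ _ (hgen.specializes hb)).symm.trans (hclosed _ _ (hgen.specializes hc))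
      have := (f.fiberHomeo y).finite_iff.1 hF
      exact Set.toFinite _
    haveI : IsFinite f := .of_isProper_of_locallyQuasiFinite f
    haveI : Surjective f := ⟨fun b => (f.isClosedMap.specializingMap
      (show f x ⤳ b from hx ▸ (genericPoint_spec Y).specializes (Set.mem_univ b))).imp fun _ h => h.2⟩
    exact S1639.result f hN L hL
  | succ e ih =>
    intro X f _ ⟨L, hL⟩ he hex
    haveI : CompactSpace ↥Y := QuasiCompact.compactSpace_of_compactSpace sY
    haveI : CompactSpace ↥X := QuasiCompact.compactSpace_of_compactSpace f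
    obtain ⟨T, g, _, hb, ht⟩ := exists_step f sY hL e he hex
    haveI : CompactSpace ↥T := QuasiCompact.compactSpace_of_compactSpace g
    exact ih (g ≫ f) ⟨_, H28.RegTwist.isAmple_pull g hL⟩ hb ht

end Groth.Agent.H23.GenericCut
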