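import Groth.Agent.FibDim.Basic
import Groth.Agent.FibDim.AffineChart
import Groth.Agent.H23.GenericCoeff
import Mathlib.AlgebraicGeometry.AffineSpace

/-!
# Residue fields of points of affine spaces over schemes over a field
-/

set_option autoImplicit false
set_option linter.style.haveILetI false
set_option backward.isDefEq.respectTransparency false
set_option backward.isDefEq.respectTransparency.types false

open CategoryTheory CategoryTheory.Limits AlgebraicGeometry TopologicalSpace

universe u

namespace Groth.Agent.H23.GenericCutField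

open Groth.Agent

/-- An element vanishing at a specialization in the same fibre is transcendental over the field of the base. -/
theorem transcendental_of_nonunit {R A F K : Type u} [CommRing R] [IsLocalRing R] [CommRing A] [IsLocalRing A]
    [Field F] [Field K] [Algebra F K] (φ : R →+* A) (π : R →+* F) (hπ : Function.Surjective π) (ψ : A →+* K)
    (hcomm : ∀ r, ψ (φ r) = algebraMap F K (π r)) {v : A} (hv : ¬IsUnit v) (hv0 : ψ v ≠ 0) :
    Transcendental F (ψ v) := by
  intro hal
  obtain ⟨q, hq0, hq⟩ := hal.exists_nonzero_coeff_and_aeval_eq_zero (mem_nonZeroDivisors_of_ne_zero hv0)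
  obtain ⟨q', rfl⟩ := Polynomial.map_surjective π hπ q
  rw [Polynomial.coeff_map] at hq0
  have hu : IsUnit (q'.coeff 0) := by
    by_contra h
    have hm : RingHom.ker π ≤ IsLocalRing.maximalIdeal R :=
      IsLocalRing.le_maximalIdeal (RingHom.ker_ne_top π)
    haveI : (RingHom.ker π).IsMaximal := RingHom.ker_isMaximal_of_surjective π hπ
    exact hq0 (((Ideal.IsMaximal.eq_of_le ‹_› (IsLocalRing.maximalIdeal.isMaximal R).ne_top hm).ge h :))
  have hw : IsUnit (Polynomial.eval₂ φ v q') := by
    rw [← Polynomial.X_mul_divX_add q', Polynomial.eval₂_add, Polynomial.eval₂_mul, Polynomial.eval₂_X,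
      Polynomial.eval₂_C]
    by_contra h
    refine (IsLocalRing.maximalIdeal.isMaximal A).ne_top (Ideal.eq_top_of_isUnit_mem _ ?_ (hu.map φ))
    have h1 := Ideal.sub_mem _ (show _ ∈ IsLocalRing.maximalIdeal A from h)
      (Ideal.mul_mem_right (Polynomial.eval₂ φ v q'.divX) _ (show v ∈ IsLocalRing.maximalIdeal A from hv))
    rwa [add_sub_cancel_left] at h1
  refine (hw.map ψ).ne_zero ?_
  rw [Polynomial.hom_eval₂]
  rw [Polynomial.aeval_def, Polynomial.eval₂_map] at hq
  rwa [show ψ.comp φ = (algebraMap F K).comp π from RingHom.ext hcomm]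

theorem stalkSpecializes_surjective {Y : Scheme.{u}} {y y' : Y} (h : y ⤳ y') (he : y = y') :
    Function.Surjective (Y.presheaf.stalkSpecializes h) := by
  subst he
  rw [TopCat.Presheaf.stalkSpecializes_refl]
  exact fun x => ⟨x, rfl⟩

/-- A section vanishing at a specialization in the same fibre has transcendental value. -/
theorem transcendental_evaluation {X Y : Scheme.{u}} (f : X ⟶ Y) {x x' : X} (hsp : x ⤳ x') (hf : f x = f x')
    {U : X.Opens} (hxU : x ∈ U) (hx'U : x' ∈ U) (a : Γ(X, U)) (hx : x ∈ X.basicOpen a)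
    (hx' : x' ∉ X.basicOpen a) :
    letI := (f.residueFieldMap x).hom.toAlgebra
    Transcendental (Y.residueField (f x)) (X.evaluation U x hxU a) := by
  letI := (f.residueFieldMap x).hom.toAlgebra
  have hY : f x ⤳ f x' := hsp.map f.continuous
  let π := Y.presheaf.stalkSpecializes hY ≫ Y.residue (f x)
  have hπ : Function.Surjective π.hom :=
    (Y.residue_surjective _).comp (stalkSpecializes_surjective hY hf)
  let ψ := X.presheaf.stalkSpecializes hsp ≫ X.residue x
  have hval : ψ.hom (X.presheaf.germ U x' hx'U a) = X.evaluation U x hxU a := by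
    show X.residue x (X.presheaf.stalkSpecializes hsp (X.presheaf.germ U x' hx'U a)) = _
    rw [TopCat.Presheaf.germ_stalkSpecializes_apply]
    rfl
  rw [← hval]
  refine transcendental_of_nonunit (f.stalkMap x').hom π.hom hπ ψ.hom (fun r => ?_)
    (fun h => hx' ((X.mem_basicOpen a x' hx'U).2 h)) ?_
  · show X.residue x (X.presheaf.stalkSpecializes hsp (f.stalkMap x' r)) =
      f.residueFieldMap x (Y.residue (f x) (Y.presheaf.stalkSpecializes hY r))
    rw [← Scheme.Hom.stalkSpecializes_stalkMap_apply]
    exact congr($((Scheme.residue_residueFieldMap f x).symm) (Y.presheaf.stalkSpecializes hY r))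
  · rw [hval]
    exact (X.evaluation_ne_zero_iff_mem_basicOpen x hxU a).2 hx

variable {k : Type u} [Field k]

/-- Naturality of the structure map to residue fields. -/
theorem residueFieldMap_resHom {Z W : Scheme.{u}} (g : Z ⟶ W) (q : W ⟶ Spec (CommRingCat.of k)) (z : Z) (c : k) :
    g.residueFieldMap z (VarDim.resHom q (g z) c) = VarDim.resHom (g ≫ q) z c := by
  show g.residueFieldMap z (W.Γevaluation (g z) (VarDim.baseMap q c)) = Z.Γevaluation z (VarDim.baseMap (g ≫ q) c)
  rw [Scheme.Γevaluation_naturality_apply]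
  rfl

/-- The coordinates at the generic point of an affine space over a field are algebraically independent. -/
theorem algebraicIndependent_coord {ι : Type u} (a : 𝔸(ι; Spec (CommRingCat.of k)))
    (ha : IsGenericPoint a (⊤ : Set 𝔸(ι; Spec (CommRingCat.of k)))) :
    letI := (VarDim.resHom (𝔸(ι; Spec (CommRingCat.of k)) ↘ Spec (CommRingCat.of k)) a).toAlgebra
    AlgebraicIndependent k fun i => (𝔸(ι; Spec (CommRingCat.of k))).Γevaluation a (AffineSpace.coord _ i) := by
  let A := 𝔸(ι; Spec (CommRingCat.of k))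
  let sA := A ↘ Spec (CommRingCat.of k)
  letI := (VarDim.resHom sA a).toAlgebra
  letI : Algebra k Γ(A, ⊤) := (VarDim.baseMap sA).toAlgebra
  rw [algebraicIndependent_iff]
  intro p hp
  let s : Γ(A, ⊤) := MvPolynomial.aeval (AffineSpace.coord (Spec (CommRingCat.of k))) p
  let evA : Γ(A, ⊤) →ₐ[k] A.residueField a := { (A.Γevaluation a).hom with commutes' := fun _ => rfl }
  have h1 : A.Γevaluation a s = 0 := by
    rw [← hp]
    exact (DFunLike.congr_fun (MvPolynomial.comp_aeval (AffineSpace.coord (Spec (CommRingCat.of k))) evA) p)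
  have h2 : A.basicOpen s = ⊥ := by
    by_contra hne
    obtain ⟨b, hb⟩ := (TopologicalSpace.Opens.ne_bot_iff_nonempty _).1 hne
    exact (A.evaluation_eq_zero_iff_notMem_basicOpen (U := ⊤) a trivial s).1 h1
      ((ha.specializes (Set.mem_univ b)).mem_open (A.basicOpen s).isOpen hb)
  let e := (AffineSpace.SpecIso ι (CommRingCat.of k)).inv
  have h3 : e.appTop s = (Scheme.ΓSpecIso (CommRingCat.of (MvPolynomial ι k))).inv p := by
    refine DFunLike.congr_fun (f := (e.appTop.hom).comp (MvPolynomial.aeval
      (AffineSpace.coord (Spec (CommRingCat.of k)))).toRingHom)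
      (g := (Scheme.ΓSpecIso (CommRingCat.of (MvPolynomial ι k))).inv.hom) (MvPolynomial.ringHom_ext ?_ ?_) p
    · intro c
      simp only [AlgHom.toRingHom_eq_coe, RingHom.comp_apply, RingHom.coe_coe, MvPolynomial.aeval_C]
      show (e ≫ sA).appTop ((Scheme.ΓSpecIso (CommRingCat.of k)).inv c) = _
      rw [AffineSpace.SpecIso_inv_over]
      exact congr($((Scheme.ΓSpecIso_inv_naturality (CommRingCat.ofHom (MvPolynomial.C (σ := ι)))).symm) c)
    · intro i
      simp only [AlgHom.toRingHom_eq_coe, RingHom.comp_apply, RingHom.coe_coe, MvPolynomial.aeval_X]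
      exact AffineSpace.SpecIso_inv_appTop_coord _ i
  have h4 := congrArg (e ⁻¹ᵁ ·) h2
  simp only [Scheme.Hom.preimage_bot] at h4
  rw [Scheme.preimage_basicOpen_top, h3, basicOpen_eq_of_affine] at h4
  exact (PrimeSpectrum.basicOpen_eq_bot_iff p).1 h4 |>.eq_zero

/-- The residue field of a point of an affine space is generated by that of its image and the coordinates. -/
theorem mem_of_generated {n : Type u} {S : Scheme.{u}} (z : 𝔸(n; S)) (K : Subfield ((𝔸(n; S)).residueField z))
    (hS : ∀ a, (𝔸(n; S) ↘ S).residueFieldMap z a ∈ K)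
    (hc : ∀ i, (𝔸(n; S)).Γevaluation z (AffineSpace.coord S i) ∈ K) (ω : (𝔸(n; S)).residueField z) : ω ∈ K := by
  let P := 𝔸(n; S)
  let q := P ↘ S
  let incl : CommRingCat.of K ⟶ P.residueField z := CommRingCat.ofHom K.subtype
  let φ : S.residueField (q z) ⟶ CommRingCat.of K :=
    CommRingCat.ofHom ((q.residueFieldMap z).hom.codRestrict K hS)
  let h : Spec (CommRingCat.of K) ⟶ P := AffineSpace.homOfVector (Spec.map φ ≫ S.fromSpecResidueField (q z))
    fun i => (Scheme.ΓSpecIso (CommRingCat.of K)).inv ⟨_, hc i⟩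
  have key : Spec.map incl ≫ h = P.fromSpecResidueField z := by
    refine AffineSpace.hom_ext ?_ fun i => ?_
    · simp only [h, Category.assoc, AffineSpace.homOfVector_over, ← Spec.map_comp_assoc]
      rw [show φ ≫ incl = q.residueFieldMap z from rfl,
        Scheme.Hom.SpecMap_residueFieldMap_fromSpecResidueField]
    · rw [Scheme.Hom.comp_appTop, FibDim.fromSpecResidueField_appTop]
      simp only [CommRingCat.comp_apply, h, AffineSpace.homOfVector_appTop_coord]
      exact congr($((Scheme.ΓSpecIso_inv_naturality incl).symm) ⟨_, hc i⟩)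
  obtain ⟨⟨w, ψ⟩, hψ⟩ := (Scheme.SpecToEquivOfField (↥K) P).symm.surjective h
  change Spec.map ψ ≫ P.fromSpecResidueField w = h at hψ
  rw [← hψ] at key
  have hwz : w = z := by
    have := congr($key (IsLocalRing.closedPoint _))
    simpa only [Scheme.Hom.comp_apply, Scheme.fromSpecResidueField_apply] using this
  subst hwz
  have hid : ψ ≫ incl = 𝟙 _ := Spec.map_injective ((cancel_mono (P.fromSpecResidueField w)).1 (by
    rw [Spec.map_comp, Category.assoc, key, Spec.map_id, Category.id_comp]))
  have := congr($hid ω)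
  rw [show (𝟙 (P.residueField w) : P.residueField w ⟶ P.residueField w) ω = ω from rfl] at this
  rw [← this]
  exact (ψ ω).2

section Spanning

open IntermediateField

/-- Mapping algebraic elements over intermediate fields. -/
theorem isAlgebraic_map {A B : Type u} [Field A] [Field B] [Algebra k A] [Algebra k B]
    {E : IntermediateField k A} {E' : IntermediateField k B} (φ : A →ₐ[k] B) (h : E.map φ ≤ E') {a : A}
    (ha : IsAlgebraic E a) : IsAlgebraic E' (φ a) := by
  let ρ : E →+* E' := ((φ.comp E.val).toRingHom).codRestrict E' fun x => h ⟨x, x.2, rfl⟩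
  exact ha.ringHom_of_comp_eq ρ φ.toRingHom ρ.injective (RingHom.ext fun _ => rfl)

theorem exists_spanning_of_basis {A : Type u} [Field A] [Algebra k A] {t : Set A}
    (ht : IsTranscendenceBasis k ((↑) : t → A)) {D : ℕ} (hD : Algebra.trdeg k A ≤ (D : Cardinal)) :
    ∃ s : Finset A, (∀ x ∈ t, x ∈ s) ∧ s.card ≤ D ∧ ∀ x : A, IsAlgebraic (adjoin k (s : Set A)) x := by
  have hcard : Cardinal.mk t ≤ (D : Cardinal) := ht.cardinalMk_eq_trdeg ▸ hD
  have hfin : t.Finite := Cardinal.mk_lt_aleph0_iff.1 (hcard.trans_lt Cardinal.natCast_lt_aleph0)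
  haveI := hfin.fintype
  refine ⟨t.toFinset, fun x hx => Set.mem_toFinset.2 hx, ?_, fun x => ?_⟩
  · rw [Cardinal.mk_fintype, Nat.cast_le] at hcard
    rwa [Set.toFinset_card]
  · have h := ht.isAlgebraic
    rw [Subtype.range_coe] at h
    rw [Set.coe_toFinset, IntermediateField.isAlgebraic_adjoin_iff]
    exact h.isAlgebraic x

/-- A finite transcendence basis containing a given transcendental element. -/
theorem exists_spanning {A : Type u} [Field A] [Algebra k A] {u : A} (hu : Transcendental k u) {D : ℕ}
    (hD : Algebra.trdeg k A ≤ (D : Cardinal)) :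
    ∃ s : Finset A, u ∈ s ∧ s.card ≤ D ∧ ∀ x : A, IsAlgebraic (adjoin k (s : Set A)) x := by
  haveI : Algebra.IsAlgebraic (Algebra.adjoin k (Set.univ : Set A)) A := ⟨fun x =>
    isAlgebraic_algebraMap (⟨x, Algebra.subset_adjoin (Set.mem_univ x)⟩ : Algebra.adjoin k (Set.univ : Set A))⟩
  obtain ⟨t, hut, -, ht⟩ := exists_isTranscendenceBasis_between (R := k) ({u} : Set A) Set.univ
    (Set.subset_univ _) ((algebraicIndependent_unique_type_iff).2 hu)
  obtain ⟨s, hts, hs, hspan⟩ := exists_spanning_of_basis ht hD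
  exact ⟨s, hts u (hut rfl), hs, hspan⟩

theorem exists_spanning' {A : Type u} [Field A] [Algebra k A] {D : ℕ}
    (hD : Algebra.trdeg k A ≤ (D : Cardinal)) :
    ∃ s : Finset A, s.card ≤ D ∧ ∀ x : A, IsAlgebraic (adjoin k (s : Set A)) x := by
  obtain ⟨t, ht⟩ := exists_isTranscendenceBasis k A
  obtain ⟨s, -, hs, hspan⟩ := exists_spanning_of_basis ht hD
  exact ⟨s, hs, hspan⟩

end Spanning

end Groth.Agent.H23.GenericCutField
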