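import Groth.Agent.GenDiff29.Alg
import Mathlib.RingTheory.MvPolynomial.Basic
import Mathlib.LinearAlgebra.Dimension.StrongRankCondition
import Mathlib.RingTheory.Artinian.Module
import Mathlib.Algebra.MvPolynomial.Funext

/-!
# A generic linear combination of generators has finitely many critical points
-/

set_option autoImplicit false
set_option linter.style.haveILetI false
set_option backward.isDefEq.respectTransparency false
set_option backward.isDefEq.respectTransparency.types false

universe u

open MvPolynomial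

noncomputable section

namespace Groth.Agent.H23.GenericFun

variable {k : Type u} [Field k] {B : Type u} [CommRing B] [Algebra k B] {m N : ℕ} (t : Fin m → B)
  (a : Fin N → Fin m → B)

/-- The equations of the universal critical locus. -/
def critEqns (l : Fin N) : MvPolynomial (Fin m) B := ∑ j, C (a l j) * X j

/-- The universal critical locus. -/
def critIdeal : Ideal (MvPolynomial (Fin m) B) := Ideal.span (Set.range (critEqns a))

variable (ρ : (Fin N → B) →ₗ[B] Ω[B⁄k]) (hρ : ∀ j, ρ (fun l => a l j) = KaehlerDifferential.D k B (t j))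
  (hspan : Submodule.span B (Set.range fun j => KaehlerDifferential.D k B (t j)) = ⊤)

include hρ hspan in
/-- The residue fields of the universal critical locus have transcendence degree at most `m`. -/
theorem trdeg_le (K : Type u) [Field K] [Algebra k K] [Algebra.EssFiniteType k K]
    (φ : MvPolynomial (Fin m) B →ₐ[k] K) (hI : critIdeal a ≤ RingHom.ker φ)
    (hgen : ∀ z : K, ∃ p q, φ q ≠ 0 ∧ z * φ q = φ p) : Algebra.trdeg k K ≤ m := by
  classical
  let col : Fin m → (Fin N → K) := fun j l => φ (C (a l j))
  obtain ⟨σ, e, he, hsp, hli⟩ := exists_linearIndependent' K col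
  let g : Fin m → K := fun j => if j ∈ Set.range e then φ (C (t j)) else φ (X j)
  suffices h : Submodule.span K (KaehlerDifferential.D k K '' Set.range g) = ⊤ by
    refine (GenDiff29.trdeg_le_of_span k K _ h).trans ?_
    have h' := Cardinal.mk_range_le_lift (f := g)
    simpa using h'
  rw [← top_le_iff, ← KaehlerDifferential.span_range_derivation k K, Submodule.span_le]
  rintro _ ⟨z, rfl⟩
  let V := Submodule.span K (KaehlerDifferential.D k K '' Set.range g)
  let d : K → Ω[K⁄k] ⧸ V := fun z => Submodule.Quotient.mk (KaehlerDifferential.D k K z)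
  have d_mul : ∀ x y, d (x * y) = x • d y + y • d x := fun x y => by simp [d, Derivation.leibniz]
  have d_add : ∀ x y, d (x + y) = d x + d y := fun x y => by simp [d]
  have dg : ∀ j, d (g j) = 0 := fun j =>
    (Submodule.Quotient.mk_eq_zero _).2 (Submodule.subset_span ⟨g j, ⟨j, rfl⟩, rfl⟩)
  have dB : ∀ b : B, d (φ (C b)) = 0 := by
    letI : Algebra B K := ((φ : MvPolynomial (Fin m) B →+* K).comp C).toAlgebra
    haveI : IsScalarTower k B K := IsScalarTower.of_algebraMap_eq fun r => by
      show algebraMap k K r = φ (C (algebraMap k B r))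
      rw [show (C (algebraMap k B r) : MvPolynomial (Fin m) B) = algebraMap k _ r from rfl, AlgHom.commutes]
    let ℓ : Ω[B⁄k] →ₗ[B] (Ω[K⁄k] ⧸ V) := (Submodule.mkQ V).restrictScalars B ∘ₗ KaehlerDifferential.map k k B K
    have hℓ : ∀ b, ℓ (KaehlerDifferential.D k B b) = d (φ (C b)) := fun b => by
      show Submodule.Quotient.mk _ = _
      rw [KaehlerDifferential.map_D]
      rfl
    let ε : (Fin N → K) →ₗ[K] (Ω[K⁄k] ⧸ V) :=
      Fintype.linearCombination K fun l => ℓ (ρ (Pi.single l 1))
    have hε : ∀ j, ε (col j) = d (φ (C (t j))) := fun j => by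
      rw [← hℓ, ← hρ j, Fintype.linearCombination_apply]
      conv_rhs => rw [pi_eq_sum_univ (fun l => a l j), map_sum, map_sum]
      refine Finset.sum_congr rfl fun l _ => ?_
      rw [map_smul, map_smul, ← algebraMap_smul K (a l j)]
      congr 2
      exact congrArg ρ (funext fun l' => by simp [Pi.single_apply, eq_comm])
    have hker : ∀ j, d (φ (C (t j))) = 0 := fun j => by
      rw [← hε]
      have hle : Submodule.span K (Set.range (col ∘ e)) ≤ LinearMap.ker ε := Submodule.span_le.2 (by
        rintro _ ⟨i, rfl⟩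
        have h := dg (e i)
        simp only [g, if_pos (Set.mem_range_self i)] at h
        exact (hε (e i)).trans h)
      exact LinearMap.mem_ker.1 (hle (hsp.ge (Submodule.subset_span ⟨j, rfl⟩)))
    intro b
    rw [← hℓ]
    have : KaehlerDifferential.D k B b ∈ Submodule.span B (Set.range fun j => KaehlerDifferential.D k B (t j)) :=
      hspan ▸ trivial
    exact LinearMap.mem_ker.1 ((Submodule.span_le.2 (by rintro _ ⟨j, rfl⟩; exact (hℓ (t j)).trans (hker j))) this)
  have dX : ∀ j, d (φ (X j)) = 0 := by
    have hrel : ∀ l, ∑ j, col j l • d (φ (X j)) = 0 := fun l => by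
      have h0 : φ (critEqns a l) = 0 := hI (Ideal.subset_span ⟨l, rfl⟩)
      rw [critEqns, map_sum] at h0
      have h1 : d (∑ j, φ (C (a l j) * X j)) = 0 := by rw [h0]; simp [d]
      have h2 : d (∑ j, φ (C (a l j) * X j)) = ∑ j, d (φ (C (a l j) * X j)) := by
        simp only [d, map_sum]
        exact map_sum (Submodule.mkQ V) _ _
      rw [h2] at h1
      refine Eq.trans (Finset.sum_congr rfl fun j _ => ?_) h1
      rw [map_mul, d_mul, dB, smul_zero, add_zero]
    intro j
    by_cases hj : j ∈ Set.range e
    swap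
    · have h := dg j
      simp only [g, if_neg hj] at h
      exact h
    obtain ⟨i, rfl⟩ := hj
    obtain ⟨ψ, hψ⟩ := LinearMap.exists_extend ((Finsupp.lapply i).comp hli.repr)
    have hψe : ∀ i', ψ (col (e i')) = if i' = i then 1 else 0 := fun i' => by
      have h := LinearMap.congr_fun hψ ⟨col (e i'), Submodule.subset_span ⟨i', rfl⟩⟩
      simp only [LinearMap.comp_apply, Submodule.subtype_apply] at h
      rw [h, hli.repr_eq_single i' _ rfl, Finsupp.lapply_apply, Finsupp.single_apply]
    have hcomb : ∑ l, ψ (Pi.single l 1) • ∑ j, col j l • d (φ (X j)) = 0 := by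
      simp [hrel]
    simp only [Finset.smul_sum, smul_smul] at hcomb
    rw [Finset.sum_comm] at hcomb
    simp only [← Finset.sum_smul] at hcomb
    have hcol : ∀ j, ∑ l, ψ (Pi.single l 1) * col j l = ψ (col j) := fun j => by
      conv_rhs => rw [pi_eq_sum_univ (col j), map_sum]
      refine Finset.sum_congr rfl fun l _ => ?_
      rw [map_smul, smul_eq_mul, mul_comm]
      congr 2
      exact funext fun l' => by simp [Pi.single_apply, eq_comm]
    simp only [hcol] at hcomb
    rw [Finset.sum_eq_single (e i) (fun j _ hne => ?_) (by simp), hψe, if_pos rfl, one_smul] at hcomb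
    · exact hcomb
    · by_cases hje : j ∈ Set.range e
      · obtain ⟨i', rfl⟩ := hje
        rw [hψe, if_neg (fun h : i' = i => hne (congrArg e h)), zero_smul]
      · have h := dg j
        simp only [g, if_neg hje] at h
        rw [h, smul_zero]
  have dP : ∀ p, d (φ p) = 0 := fun p => by
    induction p using MvPolynomial.induction_on with
    | C b => exact dB b
    | add p q hp hq => rw [map_add, d_add, hp, hq, add_zero]
    | mul_X p j hp => rw [map_mul, d_mul, hp, dX, smul_zero, smul_zero, add_zero]
  obtain ⟨p, q, hq, hz⟩ := hgen z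
  refine (Submodule.Quotient.mk_eq_zero V).1 ?_
  have h := d_mul z (φ q)
  rw [hz, dP, dP, smul_zero, zero_add] at h
  exact (smul_eq_zero.1 h.symm).resolve_left hq

include hρ hspan in
/-- Functions on the universal critical locus are algebraic over the parameters. -/
theorem exists_relation [Algebra.FiniteType k B] (y : B) :
    ∃ p : MvPolynomial (Option (Fin m)) k, p ≠ 0 ∧
      MvPolynomial.aeval (R := k) (fun o => Ideal.Quotient.mk (critIdeal a) (o.elim (C y) X)) p = 0 := by
  by_contra hne
  push Not at hne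
  let Φ : MvPolynomial (Option (Fin m)) k →ₐ[k] MvPolynomial (Fin m) B ⧸ critIdeal a :=
    MvPolynomial.aeval (R := k) (fun o => Ideal.Quotient.mk (critIdeal a) (o.elim (C y) X))
  let S : Submonoid (MvPolynomial (Fin m) B ⧸ critIdeal a) :=
    (nonZeroDivisors (MvPolynomial (Option (Fin m)) k)).map (Φ : _ →* _)
  have hdisj : Disjoint ((⊥ : Ideal (MvPolynomial (Fin m) B ⧸ critIdeal a)) : Set _)
      (↑S : Set (MvPolynomial (Fin m) B ⧸ critIdeal a)) := by
    rw [Set.disjoint_left]
    rintro _ h0 ⟨p, hp, rfl⟩
    exact hne p (nonZeroDivisors.ne_zero hp) h0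
  obtain ⟨P, hP, -, hPS⟩ := Ideal.exists_le_prime_disjoint _ S hdisj
  let P' : Ideal (MvPolynomial (Fin m) B) := P.comap (Ideal.Quotient.mk (critIdeal a))
  haveI : P'.IsPrime := Ideal.comap_isPrime _ P
  let φ : MvPolynomial (Fin m) B →ₐ[k] P'.ResidueField := IsScalarTower.toAlgHom k _ _
  haveI : Algebra.FiniteType k (MvPolynomial (Fin m) B) := Algebra.FiniteType.trans (S := B) ‹_› inferInstance
  haveI : Algebra.EssFiniteType k P'.ResidueField := Algebra.EssFiniteType.comp k (MvPolynomial (Fin m) B) _
  have hker : RingHom.ker φ = P' := Ideal.ker_algebraMap_residueField P'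
  have hle : critIdeal a ≤ RingHom.ker φ := by
    rw [hker]
    intro z hz
    show Ideal.Quotient.mk (critIdeal a) z ∈ P
    rw [Ideal.Quotient.eq_zero_iff_mem.2 hz]
    exact zero_mem _
  have hle' := trdeg_le t a ρ hρ hspan P'.ResidueField φ hle fun z => by
    obtain ⟨⟨p, q⟩, hpq⟩ := IsLocalization.surj (nonZeroDivisors (MvPolynomial (Fin m) B ⧸ P')) z
    obtain ⟨p, rfl⟩ := Ideal.Quotient.mk_surjective p
    obtain ⟨q', hq'⟩ := Ideal.Quotient.mk_surjective (q : MvPolynomial (Fin m) B ⧸ P')
    refine ⟨p, q', fun h => ?_, ?_⟩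
    · refine nonZeroDivisors.ne_zero q.2 ?_
      rw [← hq', Ideal.Quotient.eq_zero_iff_mem, ← hker]
      exact h
    · rw [← hq'] at hpq
      exact hpq
  let v : Option (Fin m) → P'.ResidueField := fun o => φ (o.elim (C y) X)
  have hind : AlgebraicIndependent k v := by
    refine (injective_iff_map_eq_zero _).2 fun p hp => ?_
    by_contra hp0
    have hcomp : φ (MvPolynomial.aeval (R := k) (fun o : Option (Fin m) => (o.elim (C y) X : MvPolynomial (Fin m) B)) p) = 0 := by
      rw [← AlgHom.comp_apply, MvPolynomial.comp_aeval]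
      exact hp
    have hmem : MvPolynomial.aeval (R := k) (fun o : Option (Fin m) => (o.elim (C y) X : MvPolynomial (Fin m) B)) p ∈ P' :=
      hker ▸ hcomp
    refine Set.disjoint_left.1 hPS (show Φ p ∈ (P : Set _) from ?_) ⟨p, mem_nonZeroDivisors_of_ne_zero hp0, rfl⟩
    have h2 := (AlgHom.congr_fun (MvPolynomial.comp_aeval (Ideal.Quotient.mkₐ k (critIdeal a))
      (f := fun o : Option (Fin m) => (o.elim (C y) X : MvPolynomial (Fin m) B))) p)
    show Φ p ∈ P
    rw [show Φ p = _ from h2.symm]
    exact hmem
  have h3 := hind.lift_cardinalMk_le_trdeg.trans (Cardinal.lift_le.2 hle')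
  simp at h3

include hρ hspan in
/-- For generic parameters only finitely many critical points, all closed. -/
theorem exists_generic [Algebra.FiniteType k B] :
    ∃ h : MvPolynomial (Fin m) k, h ≠ 0 ∧ ∀ c : Fin m → k, MvPolynomial.eval c h ≠ 0 →
      {Q : PrimeSpectrum B | ∀ l, ∑ j, algebraMap k B (c j) * a l j ∈ Q.asIdeal}.Finite ∧
        ∀ Q : PrimeSpectrum B, (∀ l, ∑ j, algebraMap k B (c j) * a l j ∈ Q.asIdeal) → Q.asIdeal.IsMaximal := by
  classical
  obtain ⟨s, hs⟩ := (‹Algebra.FiniteType k B›).out
  choose p hp0 hp using fun y : s => exists_relation t a ρ hρ hspan (y : B)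
  let q : s → Polynomial (MvPolynomial (Fin m) k) := fun y => MvPolynomial.optionEquivLeft k (Fin m) (p y)
  have hq : ∀ y, q y ≠ 0 := fun y => (map_ne_zero_iff _ (AlgEquiv.injective _)).2 (hp0 y)
  refine ⟨∏ y, (q y).leadingCoeff, Finset.prod_ne_zero_iff.2 fun y _ => Polynomial.leadingCoeff_ne_zero.2 (hq y),
    fun c hc => ?_⟩
  let I₀ : Ideal B := Ideal.span (Set.range fun l => ∑ j, algebraMap k B (c j) * a l j)
  let C₀ := B ⧸ I₀
  let E : MvPolynomial (Fin m) B →ₐ[k] C₀ :=
    { eval₂Hom (Ideal.Quotient.mk I₀) (fun j => algebraMap k C₀ (c j)) with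
      commutes' := fun r => by
        show eval₂Hom (Ideal.Quotient.mk I₀) _ (C (algebraMap k B r)) = _
        rw [eval₂Hom_C]
        rfl }
  have hEI : critIdeal a ≤ RingHom.ker E := Ideal.span_le.2 (by
    rintro _ ⟨l, rfl⟩
    show eval₂Hom (Ideal.Quotient.mk I₀) (fun j => algebraMap k C₀ (c j)) (critEqns a l) = 0
    rw [critEqns, map_sum]
    simp only [map_mul, eval₂Hom_C, eval₂Hom_X']
    refine Eq.trans ?_ (Ideal.Quotient.eq_zero_iff_mem.2 (Ideal.subset_span ⟨l, rfl⟩) :
      Ideal.Quotient.mk I₀ (∑ j, algebraMap k B (c j) * a l j) = 0)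
    rw [map_sum]
    exact Finset.sum_congr rfl fun j _ => by rw [map_mul, mul_comm]; rfl)
  let E' : (MvPolynomial (Fin m) B ⧸ critIdeal a) →ₐ[k] C₀ := Ideal.Quotient.liftₐ _ E hEI
  have halg : ∀ y : s, IsIntegral k (Ideal.Quotient.mk I₀ (y : B)) := fun y => by
    refine isAlgebraic_iff_isIntegral.1 ⟨(q y).map (MvPolynomial.eval c), fun h0 => ?_, ?_⟩
    · refine hc (Finset.prod_eq_zero (Finset.mem_univ y) ?_ |> fun h => by rw [map_prod]; exact h)
      have := congrArg (fun r => Polynomial.coeff r (q y).natDegree) h0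
      simpa [Polynomial.coeff_map] using this
    · have h1 : ((Polynomial.aeval (Ideal.Quotient.mk I₀ (y : B))).comp
          (Polynomial.mapAlgHom (MvPolynomial.aeval c : MvPolynomial (Fin m) k →ₐ[k] k))).comp
            (MvPolynomial.optionEquivLeft k (Fin m)).toAlgHom =
          E'.comp (MvPolynomial.aeval (R := k) fun o => Ideal.Quotient.mk (critIdeal a) (o.elim (C (y : B)) X)) := by
        refine MvPolynomial.algHom_ext fun o => ?_
        cases o with
        | none =>
          show Polynomial.aeval _ (Polynomial.mapAlgHom _ (MvPolynomial.optionEquivLeft k (Fin m) (X none))) =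
            E' (MvPolynomial.aeval (R := k) _ (X none))
          rw [MvPolynomial.aeval_X, MvPolynomial.optionEquivLeft_X_none]
          show _ = E (C (y : B))
          simp [E]
          exact (eval₂Hom_C (Ideal.Quotient.mk I₀) _ (y : B)).symm
        | some j =>
          show Polynomial.aeval _ (Polynomial.mapAlgHom _ (MvPolynomial.optionEquivLeft k (Fin m) (X (some j)))) =
            E' (MvPolynomial.aeval (R := k) _ (X (some j)))
          rw [MvPolynomial.aeval_X, MvPolynomial.optionEquivLeft_X_some]
          show _ = E (X j)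
          simp [E]
          exact (eval₂Hom_X' (Ideal.Quotient.mk I₀) (fun j => algebraMap k C₀ (c j)) j).symm
      have h2 := AlgHom.congr_fun h1 (p y)
      exact h2.trans ((congrArg E' (hp y)).trans (map_zero E'))
  haveI : Module.Finite k C₀ := by
    haveI : Algebra.FiniteType k C₀ := inferInstance
    have hint : Algebra.IsIntegral k C₀ := ⟨fun z => by
      obtain ⟨b, rfl⟩ := Ideal.Quotient.mk_surjective z
      have hb : b ∈ Algebra.adjoin k (s : Set B) := hs ▸ trivial
      induction hb using Algebra.adjoin_induction with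
      | mem x hx => exact halg ⟨x, hx⟩
      | algebraMap r => exact isIntegral_algebraMap
      | add x y _ _ hx hy => rw [map_add]; exact hx.add hy
      | mul x y _ _ hx hy => rw [map_mul]; exact hx.mul hy⟩
    exact Algebra.IsIntegral.finite
  haveI : IsArtinianRing C₀ := IsArtinianRing.of_finite k C₀
  have hmem : ∀ Q : PrimeSpectrum B, (∀ l, ∑ j, algebraMap k B (c j) * a l j ∈ Q.asIdeal) →
      ∃ P : PrimeSpectrum C₀, PrimeSpectrum.comap (Ideal.Quotient.mk I₀) P = Q := fun Q hQ => by
    have hIQ : I₀ ≤ Q.asIdeal := Ideal.span_le.2 (by rintro _ ⟨l, rfl⟩; exact hQ l)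
    have : Q ∈ Set.range (PrimeSpectrum.comap (Ideal.Quotient.mk I₀)) := by
      rw [range_comap_of_surjective _ _ Ideal.Quotient.mk_surjective, Ideal.mk_ker]
      exact hIQ
    exact this
  refine ⟨(Set.finite_range (PrimeSpectrum.comap (Ideal.Quotient.mk I₀))).subset fun Q hQ => hmem Q hQ,
    fun Q hQ => ?_⟩
  obtain ⟨P, rfl⟩ := hmem Q hQ
  haveI : P.asIdeal.IsMaximal := IsArtinianRing.isMaximal_of_isPrime _
  exact Ideal.comap_isMaximal_of_surjective _ Ideal.Quotient.mk_surjective

end Groth.Agent.H23.GenericFun
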