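import Mathlib.RingTheory.Smooth.Locus
import Mathlib.RingTheory.Unramified.Field
import Mathlib.RingTheory.Kaehler.Polynomial
import Mathlib.RingTheory.Kaehler.JacobiZariski
import Mathlib.RingTheory.LocalRing.Module
import Mathlib.GroupTheory.CosetCover

/-!
# Functions which are smooth at given points
-/

set_option autoImplicit false
set_option linter.style.haveILetI false
set_option backward.isDefEq.respectTransparency false
set_option backward.isDefEq.respectTransparency.types false

universe u

open TensorProduct Polynomial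

namespace Groth.Agent.H23.SmoothFun

/-- Jacobian criterion: split injectivity on differentials. -/
theorem formallySmooth_of_split (R P A : Type u) [CommRing R] [CommRing P] [CommRing A] [Algebra R P] [Algebra R A]
    [Algebra P A] [IsScalarTower R P A] [Algebra.FormallySmooth R A] (σ : Ω[A⁄R] →ₗ[A] A ⊗[P] Ω[P⁄R])
    (hσ : σ ∘ₗ KaehlerDifferential.mapBaseChange R P A = LinearMap.id) : Algebra.FormallySmooth P A := by
  have hinj : Function.Injective (KaehlerDifferential.mapBaseChange R P A) :=
    Function.LeftInverse.injective fun z => LinearMap.congr_fun hσ z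
  refine ⟨?_, ⟨fun a b => ?_⟩⟩
  · let g := KaehlerDifferential.map R P A A
    have hg : Function.Surjective g := KaehlerDifferential.map_surjective R P A
    let φ : Ω[A⁄R] →ₗ[A] Ω[A⁄R] := LinearMap.id - KaehlerDifferential.mapBaseChange R P A ∘ₗ σ
    have hker : LinearMap.ker g ≤ LinearMap.ker φ := fun z hz => by
      obtain ⟨y, rfl⟩ := ((KaehlerDifferential.exact_mapBaseChange_map R P A) z).1 hz
      have := LinearMap.congr_fun hσ y
      rw [LinearMap.mem_ker]
      simp only [φ, LinearMap.sub_apply, LinearMap.id_apply, LinearMap.comp_apply] at this ⊢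
      rw [this, sub_self]
    let s : Ω[A⁄P] →ₗ[A] Ω[A⁄R] :=
      ((LinearMap.ker g).liftQ φ hker) ∘ₗ (g.quotKerEquivOfSurjective hg).symm.toLinearMap
    refine Module.Projective.of_split s g (LinearMap.ext fun y => ?_)
    obtain ⟨z, rfl⟩ := hg y
    have h1 : (g.quotKerEquivOfSurjective hg).symm (g z) = Submodule.Quotient.mk z := by
      rw [LinearEquiv.symm_apply_eq]; rfl
    simp only [s, LinearMap.comp_apply, LinearEquiv.coe_toLinearMap, h1, LinearMap.id_apply]
    show g (φ z) = g z
    simp only [φ, LinearMap.sub_apply, LinearMap.id_apply, LinearMap.comp_apply, map_sub]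
    rw [(KaehlerDifferential.exact_mapBaseChange_map R P A).apply_apply_eq_zero, sub_zero]
  · have hz : ∀ c : Algebra.H1Cotangent P A, c = 0 := fun c => by
      have h1 : Algebra.H1Cotangent.δ R P A c = 0 := hinj (by
        rw [map_zero]
        exact (Algebra.H1Cotangent.exact_δ_mapBaseChange R P A).apply_apply_eq_zero c)
      obtain ⟨d, rfl⟩ := (Algebra.H1Cotangent.exact_map_δ R P A c).1 h1
      haveI := Algebra.FormallySmooth.subsingleton_h1Cotangent (R := R) (A := A)
      rw [Subsingleton.elim d 0, map_zero]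
    rw [hz a, hz b]

/-- A function with nonvanishing differential on a formally smooth local algebra is a smooth coordinate. -/
theorem formallySmooth_poly (k L : Type u) [CommRing k] [CommRing L] [IsLocalRing L] [Algebra k L]
    [Algebra k[X] L] [IsScalarTower k k[X] L] [Algebra.FormallySmooth k L] [Module.Finite L Ω[L⁄k]]
    (ht : KaehlerDifferential.D k L (algebraMap k[X] L X) ∉
      (IsLocalRing.maximalIdeal L) • (⊤ : Submodule L Ω[L⁄k])) :
    Algebra.FormallySmooth k[X] L := by
  classical
  haveI : Module.Free L Ω[L⁄k] := Module.free_of_flat_of_isLocalRing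
  let b := Module.Free.chooseBasis L Ω[L⁄k]
  let ω := KaehlerDifferential.D k L (algebraMap k[X] L X)
  obtain ⟨i, hi⟩ : ∃ i, IsUnit (b.repr ω i) := by
    by_contra h
    push Not at h
    refine ht ?_
    show ω ∈ _
    rw [← b.linearCombination_repr ω, Finsupp.linearCombination_apply]
    exact Submodule.sum_mem _ fun i _ => Submodule.smul_mem_smul ((IsLocalRing.mem_maximalIdeal _).2 (h i)) trivial
  let ψ : Ω[L⁄k] →ₗ[L] L := (↑hi.unit⁻¹ : L) • b.coord i
  have hψ : ψ ω = 1 := by
    show (↑hi.unit⁻¹ : L) • b.repr ω i = 1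
    rw [smul_eq_mul]
    exact hi.val_inv_mul
  let one' : L ⊗[k[X]] Ω[k[X]⁄k] := 1 ⊗ₜ KaehlerDifferential.D k k[X] X
  refine formallySmooth_of_split k k[X] L (ψ.smulRight one') (LinearMap.ext fun z => ?_)
  induction z with
  | zero => simp
  | add x y hx hy => rw [map_add, map_add, hx, hy]
  | tmul l w =>
    obtain ⟨p, rfl⟩ := (KaehlerDifferential.polynomialEquiv k).symm.surjective w
    rw [KaehlerDifferential.polynomialEquiv_symm, LinearMap.comp_apply, KaehlerDifferential.mapBaseChange_tmul,
      LinearMap.id_apply,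
      show KaehlerDifferential.map k k k[X] L (p • KaehlerDifferential.D k k[X] X) = algebraMap k[X] L p • ω by
        rw [map_smul, KaehlerDifferential.map_D, algebraMap_smul],
      map_smul, LinearMap.smulRight_apply, map_smul, hψ, TensorProduct.tmul_smul]
    simp only [one', smul_eq_mul, mul_one, TensorProduct.smul_tmul', Algebra.smul_def, Algebra.algebraMap_self,
      RingHom.id_apply, mul_comm l]

section Choice

variable {k A : Type u} [Field k] [CommRing A] [Algebra k A] [Algebra.FiniteType k A]

theorem kaehler_ne_bot (q : Ideal A) [q.IsPrime] (hq : ¬ q.IsMaximal) :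
    ¬ Subsingleton Ω[Localization.AtPrime q⁄k] := fun h => by
  haveI : Algebra.FormallyUnramified k (Localization.AtPrime q) := ⟨h⟩
  haveI : Algebra.EssFiniteType k (Localization.AtPrime q) := Algebra.EssFiniteType.comp k A _
  haveI := Algebra.FormallyUnramified.finite_of_free k (Localization.AtPrime q)
  let φ : A →ₐ[k] q.ResidueField := IsScalarTower.toAlgHom k A q.ResidueField
  haveI : Module.Finite k q.ResidueField :=
    Module.Finite.trans (Localization.AtPrime q) q.ResidueField
  haveI : Module.Finite k (A ⧸ RingHom.ker φ) :=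
    Module.Finite.of_injective (Ideal.kerLiftAlg φ).toLinearMap (RingHom.kerLift_injective φ.toRingHom)
  have hker : RingHom.ker φ = q := Ideal.ker_algebraMap_residueField q
  haveI : (RingHom.ker φ).IsPrime := by rw [hker]; infer_instance
  haveI : IsDomain (A ⧸ RingHom.ker φ) := Ideal.Quotient.isDomain _
  have hfld : IsField (A ⧸ RingHom.ker φ) :=
    isField_of_isIntegral_of_isField' (Field.toIsField k)
  exact hq (hker ▸ Ideal.Quotient.maximal_of_isField _ hfld)

/-- The differential of `a * u`, modulo the maximal ideal. -/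
noncomputable def dLin (u : A) (q : Ideal A) [q.IsPrime] :
    A →ₗ[k] (Ω[Localization.AtPrime q⁄k] ⧸
      (IsLocalRing.maximalIdeal (Localization.AtPrime q) •
      (⊤ : Submodule (Localization.AtPrime q) Ω[Localization.AtPrime q⁄k]))) :=
  ((Submodule.mkQ (IsLocalRing.maximalIdeal (Localization.AtPrime q) •
      (⊤ : Submodule (Localization.AtPrime q) Ω[Localization.AtPrime q⁄k]))).restrictScalars k) ∘ₗ (KaehlerDifferential.D k (Localization.AtPrime q)).toLinearMap ∘ₗ
    (IsScalarTower.toAlgHom k A (Localization.AtPrime q)).toLinearMap ∘ₗ LinearMap.mulRight k u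

theorem dLin_apply (u : A) (q : Ideal A) [q.IsPrime] (a : A) :
    dLin (k := k) u q a = Submodule.Quotient.mk
      (KaehlerDifferential.D k (Localization.AtPrime q) (algebraMap A _ (a * u))) := rfl

theorem dLin_ne_zero (u : A) (q : Ideal A) [q.IsPrime] (hq : ¬ q.IsMaximal) (hu : u ∉ q) :
    LinearMap.ker (dLin (k := k) u q) ≠ ⊤ := by
  intro htop
  let L := Localization.AtPrime q
  let N : Submodule L Ω[L⁄k] := IsLocalRing.maximalIdeal L • ⊤
  let D' : L → Ω[L⁄k] ⧸ N := fun x => Submodule.Quotient.mk (KaehlerDifferential.D k L x)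
  have hmul : ∀ x y : L, D' (x * y) = x • D' y + y • D' x := fun x y => by
    simp [D', Derivation.leibniz]
  have h : ∀ a : A, D' (algebraMap A L (a * u)) = 0 := fun a =>
    LinearMap.mem_ker.1 (htop.ge (trivial : a ∈ (⊤ : Submodule k A)))
  have hu' : IsUnit (algebraMap A L u) := (IsLocalization.AtPrime.isUnit_to_map_iff L q u).2 hu
  have h1 : D' (algebraMap A L u) = 0 := by simpa using h 1
  have hA : ∀ a, D' (algebraMap A L a) = 0 := fun a => by
    have h2 := h a
    rw [map_mul, hmul, h1, smul_zero, zero_add] at h2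
    exact (IsUnit.smul_eq_zero hu').1 h2
  have hL : ∀ x, D' x = 0 := fun x => by
    obtain ⟨⟨a, s⟩, rfl⟩ := IsLocalization.mk'_surjective q.primeCompl x
    have hs : IsUnit (algebraMap A L (s : A)) := IsLocalization.map_units L s
    refine (IsUnit.smul_eq_zero hs).1 ?_
    have h3 := hmul (algebraMap A L (s : A)) (IsLocalization.mk' L a s)
    rw [IsLocalization.mk'_spec', hA, hA, smul_zero, add_zero] at h3
    exact h3.symm
  have hN : (⊤ : Submodule L Ω[L⁄k]) ≤ N := by
    rw [← KaehlerDifferential.span_range_derivation, Submodule.span_le]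
    rintro _ ⟨x, rfl⟩
    exact (Submodule.Quotient.mk_eq_zero N).1 (hL x)
  haveI : Algebra.EssFiniteType k L := Algebra.EssFiniteType.comp k A L
  have hbot : (⊤ : Submodule L Ω[L⁄k]) = ⊥ :=
    Submodule.eq_bot_of_le_smul_of_le_jacobson_bot (IsLocalRing.maximalIdeal L) _ Module.Finite.fg_top hN
      (IsLocalRing.jacobson_eq_maximalIdeal ⊥ bot_ne_top).ge
  exact kaehler_ne_bot (k := k) q hq (
    ⟨fun a b => by
      have ha : a ∈ (⊥ : Submodule L Ω[L⁄k]) := hbot ▸ trivial
      have hb : b ∈ (⊥ : Submodule L Ω[L⁄k]) := hbot ▸ trivial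
      rw [Submodule.mem_bot] at ha hb
      rw [ha, hb]⟩)

/-- A unit at `p` making `a * u` a smooth coordinate at finitely many generalizations. -/
theorem exists_smooth_mul [Infinite k] (u : A) (p : Ideal A) (hp : p ≠ ⊤) {ι : Type} [Finite ι]
    (q : ι → Ideal A) [∀ i, (q i).IsPrime] (hu : ∀ i, u ∉ q i) (hq : ∀ i, ¬ (q i).IsMaximal)
    [∀ i, Algebra.IsSmoothAt k (q i)] :
    ∃ a : A, a ∉ p ∧ ∀ i, letI := (Polynomial.aeval (R := k) (a * u)).toRingHom.toAlgebra
      Algebra.IsSmoothAt k[X] (q i) := by
  classical
  letI := Fintype.ofFinite ι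
  let s : Finset (Submodule k A) :=
    insert (p.restrictScalars k) (Finset.univ.image fun i => LinearMap.ker (dLin (k := k) u (q i)))
  have hs : ⊤ ∉ (s : Set (Submodule k A)) := by
    simp only [s, Finset.coe_insert, Set.mem_insert_iff, Finset.coe_image, Set.mem_image, not_or, not_exists, not_and]
    refine ⟨fun h => hp ((Ideal.eq_top_iff_one _).2 (h.le (trivial : (1 : A) ∈ (⊤ : Submodule k A)))), fun i _ h => ?_⟩
    exact dLin_ne_zero u (q i) (hq i) (hu i) h
  obtain ⟨a, ha⟩ := (Set.ne_univ_iff_exists_notMem _).1 (Subspace.biUnion_ne_univ_of_top_notMem hs)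
  simp only [Set.mem_iUnion, not_exists] at ha
  refine ⟨a, fun h => ha (p.restrictScalars k) (Finset.mem_insert_self _ _) h, fun i => ?_⟩
  letI := (Polynomial.aeval (R := k) (a * u)).toRingHom.toAlgebra
  haveI : IsScalarTower k k[X] A := IsScalarTower.of_algebraMap_eq fun r => by simp [RingHom.algebraMap_toAlgebra]
  let L := Localization.AtPrime (q i)
  haveI : IsScalarTower k k[X] L := IsScalarTower.of_algebraMap_eq fun r => by
    rw [IsScalarTower.algebraMap_apply k A L, IsScalarTower.algebraMap_apply k[X] A L,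
      ← IsScalarTower.algebraMap_apply k k[X] A]
  haveI : Algebra.EssFiniteType k L := Algebra.EssFiniteType.comp k A L
  refine formallySmooth_poly k L fun h => ha _ (Finset.mem_insert_of_mem (Finset.mem_image_of_mem _ (Finset.mem_univ i))) ?_
  show dLin (k := k) u (q i) a = 0
  rw [dLin_apply, Submodule.Quotient.mk_eq_zero]
  convert h using 2
  rw [IsScalarTower.algebraMap_apply k[X] A L]
  congr 1
  simp [RingHom.algebraMap_toAlgebra]

end Choice

end Groth.Agent.H23.SmoothFun
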