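import Groth.Agent.H23.GenericFun
import Groth.Agent.H23.SmoothFun
import Mathlib.RingTheory.Etale.Kaehler
import Mathlib.RingTheory.Smooth.Locus

/-!
# A generic linear combination of generators is a smooth coordinate off a finite set
-/

set_option autoImplicit false
set_option linter.style.haveILetI false
set_option backward.isDefEq.respectTransparency false
set_option backward.isDefEq.respectTransparency.types false

universe u

open Polynomial

noncomputable section

namespace Groth.Agent.H23.GenericFun

variable {k : Type u} [Field k] {A : Type u} [CommRing A] [Algebra k A] [Algebra.FiniteType k A]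

/-- The coordinate given by an element is smooth at `q`. -/
def IsCoordAt (e : A) (q : Ideal A) [q.IsPrime] : Prop :=
  letI := (Polynomial.aeval (R := k) e).toRingHom.toAlgebra
  Algebra.IsSmoothAt k[X] q

theorem isCoordAt_of (e : A) (q : Ideal A) [q.IsPrime] [Algebra.IsSmoothAt k q]
    (h : KaehlerDifferential.D k (Localization.AtPrime q) (algebraMap A _ e) ∉
      (IsLocalRing.maximalIdeal (Localization.AtPrime q)) •
        (⊤ : Submodule (Localization.AtPrime q) Ω[Localization.AtPrime q⁄k])) : IsCoordAt (k := k) e q := by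
  letI := (Polynomial.aeval (R := k) e).toRingHom.toAlgebra
  haveI : IsScalarTower k k[X] A := IsScalarTower.of_algebraMap_eq fun r => by simp [RingHom.algebraMap_toAlgebra]
  let L := Localization.AtPrime q
  haveI : IsScalarTower k k[X] L := IsScalarTower.of_algebraMap_eq fun r => by
    rw [IsScalarTower.algebraMap_apply k A L, IsScalarTower.algebraMap_apply k[X] A L,
      ← IsScalarTower.algebraMap_apply k k[X] A]
  haveI : Algebra.EssFiniteType k L := Algebra.EssFiniteType.comp k A L
  refine SmoothFun.formallySmooth_poly k L fun h' => h ?_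
  rwa [IsScalarTower.algebraMap_apply k[X] A L, RingHom.algebraMap_toAlgebra, AlgHom.toRingHom_eq_coe,
    RingHom.coe_coe, Polynomial.aeval_X] at h'

variable {m : ℕ} (t : Fin m → A) (ht : Algebra.adjoin k (Set.range t) = ⊤)

/-- The combination of the generators with given coefficients. -/
def comb (c₀ : k) (c : Fin m → k) : A := algebraMap k A c₀ + ∑ j, algebraMap k A (c j) * t j

include ht in
theorem span_D (B : Type u) [CommRing B] [Algebra k B] [Algebra A B] [IsScalarTower k A B] (S : Submonoid A)
    [IsLocalization S B] : Submodule.span B (Set.range fun j => KaehlerDifferential.D k B (algebraMap A B (t j))) = ⊤ := by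
  let N := Submodule.span B (Set.range fun j => KaehlerDifferential.D k B (algebraMap A B (t j)))
  have hA : ∀ a : A, KaehlerDifferential.D k B (algebraMap A B a) ∈ N := fun a => by
    have ha : a ∈ Algebra.adjoin k (Set.range t) := ht ▸ trivial
    induction ha using Algebra.adjoin_induction with
    | mem x hx => obtain ⟨j, rfl⟩ := hx; exact Submodule.subset_span ⟨j, rfl⟩
    | algebraMap r => rw [← IsScalarTower.algebraMap_apply, Derivation.map_algebraMap]; exact zero_mem _
    | add x y _ _ hx hy => rw [map_add, map_add]; exact add_mem hx hy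
    | mul x y _ _ hx hy =>
      rw [map_mul, Derivation.leibniz]
      exact add_mem (N.smul_mem _ hy) (N.smul_mem _ hx)
  rw [← top_le_iff, ← KaehlerDifferential.span_range_derivation k B, Submodule.span_le]
  rintro _ ⟨b, rfl⟩
  obtain ⟨⟨a, s⟩, rfl⟩ := IsLocalization.mk'_surjective S b
  have hs : IsUnit (algebraMap A B (s : A)) := IsLocalization.map_units B s
  refine (Submodule.smul_mem_iff_of_isUnit N hs).1 ?_
  have h3 := (KaehlerDifferential.D k B).leibniz (algebraMap A B (s : A)) (IsLocalization.mk' B a s)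
  rw [IsLocalization.mk'_spec'] at h3
  exact (N.add_mem_iff_left (N.smul_mem _ (hA s))).1 (h3 ▸ hA a)

include ht in
/-- For generic coefficients, the combination is a smooth coordinate on `D(g)` off finitely many closed points. -/
theorem exists_generic_away (g : A) [Algebra.FormallySmooth k (Localization.Away g)] :
    ∃ h : MvPolynomial (Fin m) k, h ≠ 0 ∧ ∀ (c₀ : k) (c : Fin m → k), MvPolynomial.eval c h ≠ 0 →
      {q : PrimeSpectrum A | g ∉ q.asIdeal ∧ ¬ IsCoordAt (k := k) (comb t c₀ c) q.asIdeal}.Finite ∧
        ∀ q : PrimeSpectrum A, g ∉ q.asIdeal → ¬ IsCoordAt (k := k) (comb t c₀ c) q.asIdeal → q.asIdeal.IsMaximal := by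
  classical
  let B := Localization.Away g
  haveI : Algebra.FiniteType A B := inferInstance
  haveI : Algebra.FiniteType k B := Algebra.FiniteType.trans (S := A) inferInstance inferInstance
  haveI : Algebra.EssFiniteType k B := inferInstance
  obtain ⟨N, ρ, hρ⟩ := Module.Finite.exists_fin' B Ω[B⁄k]
  obtain ⟨ι, hι⟩ := Module.projective_lifting_property ρ LinearMap.id hρ
  obtain ⟨h, hh, hgood⟩ := exists_generic (fun j => algebraMap A B (t j))
    (fun l j => ι (KaehlerDifferential.D k B (algebraMap A B (t j))) l) ρ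
    (fun j => LinearMap.congr_fun hι _) (span_D t ht B (Submonoid.powers g))
  refine ⟨h, hh, fun c₀ c hc => ?_⟩
  obtain ⟨hfin, hmax⟩ := hgood c hc
  let e := comb t c₀ c
  have hbad : ∀ q : PrimeSpectrum A, g ∉ q.asIdeal → ¬ IsCoordAt (k := k) e q.asIdeal →
      ∃ Q : PrimeSpectrum B, PrimeSpectrum.comap (algebraMap A B) Q = q ∧
        ∀ l, ∑ j, algebraMap k B (c j) * ι (KaehlerDifferential.D k B (algebraMap A B (t j))) l ∈ Q.asIdeal := by
    intro q hg hnc
    have hdisj : Disjoint (Submonoid.powers g : Set A) q.asIdeal := by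
      rw [Set.disjoint_left]
      rintro _ ⟨n, rfl⟩ hn
      exact hg (q.isPrime.mem_of_pow_mem n hn)
    obtain ⟨Q, hQ⟩ : q ∈ Set.range (PrimeSpectrum.comap (algebraMap A B)) := by
      rw [PrimeSpectrum.localization_away_comap_range B g]
      exact hg
    refine ⟨Q, hQ, fun l => ?_⟩
    subst hQ
    let L := Localization.AtPrime (PrimeSpectrum.comap (algebraMap A B) Q).asIdeal
    have hle : Submonoid.powers g ≤ (PrimeSpectrum.comap (algebraMap A B) Q).asIdeal.primeCompl := by
      rintro _ ⟨n, rfl⟩ hn
      exact hg ((PrimeSpectrum.comap (algebraMap A B) Q).isPrime.mem_of_pow_mem n hn)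
    letI : Algebra B L := IsLocalization.localizationAlgebraOfSubmonoidLe B L (Submonoid.powers g) _ hle
    haveI : IsScalarTower A B L :=
      IsLocalization.localization_isScalarTower_of_submonoid_le B L (Submonoid.powers g) _ hle
    haveI : IsScalarTower k B L := IsScalarTower.of_algebraMap_eq fun r => by
      rw [IsScalarTower.algebraMap_apply k A B, ← IsScalarTower.algebraMap_apply A B L,
        ← IsScalarTower.algebraMap_apply k A L]
    haveI : IsLocalization ((PrimeSpectrum.comap (algebraMap A B) Q).asIdeal.primeCompl.map (algebraMap A B)) L :=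
      IsLocalization.isLocalization_of_submonoid_le B L (Submonoid.powers g) _ hle
    haveI : Algebra.IsSmoothAt k (PrimeSpectrum.comap (algebraMap A B) Q).asIdeal := by
      haveI : Algebra.FormallyEtale B L :=
        Algebra.FormallyEtale.of_isLocalization ((PrimeSpectrum.comap (algebraMap A B) Q).asIdeal.primeCompl.map (algebraMap A B))
      exact Algebra.FormallySmooth.comp k B L
    by_contra hl
    refine hnc (isCoordAt_of e _ fun hmem => hl ?_)
    let M := (PrimeSpectrum.comap (algebraMap A B) Q).asIdeal.primeCompl.map (algebraMap A B)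
    let φ : Ω[B⁄k] →ₗ[B] L := (Algebra.linearMap B L) ∘ₗ (LinearMap.proj l) ∘ₗ ι
    let ψ : Ω[L⁄k] →ₗ[B] L := IsLocalizedModule.lift M (KaehlerDifferential.map k k B L) φ fun x =>
      (Module.End.isUnit_iff _).2 (by
        have hu : IsUnit (algebraMap B L (x : B)) := IsLocalization.map_units L x
        show Function.Bijective fun y : L => (x : B) • y
        simp only [Algebra.smul_def]
        exact ⟨fun a b h => hu.mul_left_cancel h, fun b => ⟨↑hu.unit⁻¹ * b, by
          show algebraMap B L (x : B) * (↑hu.unit⁻¹ * b) = b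
          rw [← mul_assoc, IsUnit.mul_val_inv, one_mul]⟩⟩)
    let ψL : Ω[L⁄k] →ₗ[L] L := LinearMap.extendScalarsOfIsLocalization M L ψ
    have hψ : ∀ b, ψL (KaehlerDifferential.D k L (algebraMap B L b)) =
        algebraMap B L (ι (KaehlerDifferential.D k B b) l) := fun b => by
      show ψ _ = _
      rw [← KaehlerDifferential.map_D k k B L b, IsLocalizedModule.lift_apply]
      rfl
    have h1 : ψL (KaehlerDifferential.D k L (algebraMap A L e)) ∈ IsLocalRing.maximalIdeal L := by
      refine Submodule.smul_induction_on hmem (fun r hr y _ => ?_) fun y z hy hz => ?_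
      · rw [map_smul, smul_eq_mul]; exact Ideal.mul_mem_right _ _ hr
      · rw [map_add]; exact add_mem hy hz
    rw [IsScalarTower.algebraMap_apply A B L, hψ] at h1
    have h2 : ι (KaehlerDifferential.D k B (algebraMap A B e)) l =
        ∑ j, algebraMap k B (c j) * ι (KaehlerDifferential.D k B (algebraMap A B (t j))) l := by
      simp only [e, comb, map_add, map_sum, map_mul, ← IsScalarTower.algebraMap_apply, Derivation.map_algebraMap,
        Derivation.leibniz, smul_zero, add_zero, zero_add, map_smul]
      simp [Finset.sum_apply, Algebra.smul_def]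
    rw [← h2]
    by_contra hnot
    obtain ⟨⟨a, s⟩, ha⟩ := IsLocalization.surj (Submonoid.powers g) (ι (KaehlerDifferential.D k B (algebraMap A B e)) l)
    refine (IsLocalRing.mem_maximalIdeal _).1 h1 ?_
    have hsB : IsUnit (algebraMap A B (s : A)) := IsLocalization.map_units B s
    have haQ : a ∉ (PrimeSpectrum.comap (algebraMap A B) Q).asIdeal := fun h' => by
      have h'' : algebraMap A B a ∈ Q.asIdeal := h'
      rw [← ha] at h''
      exact hnot ((Q.asIdeal.mul_unit_mem_iff_mem hsB).1 h'')
    have hu : IsUnit (algebraMap B L (algebraMap A B a)) := by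
      rw [← IsScalarTower.algebraMap_apply]
      exact IsLocalization.map_units L (⟨a, haQ⟩ : (PrimeSpectrum.comap (algebraMap A B) Q).asIdeal.primeCompl)
    rw [← ha, map_mul] at hu
    exact isUnit_of_mul_isUnit_left hu
  refine ⟨(hfin.image (PrimeSpectrum.comap (algebraMap A B))).subset fun q hq => ?_, fun q hg hnc => ?_⟩
  · obtain ⟨Q, hQ, hQl⟩ := hbad q hq.1 hq.2
    exact ⟨Q, hQl, hQ⟩
  · obtain ⟨Q, rfl, hQl⟩ := hbad q hg hnc
    haveI := hmax Q hQl
    letI := Ideal.Quotient.field Q.asIdeal
    haveI : Module.Finite k (B ⧸ Q.asIdeal) := finite_of_finite_type_of_isJacobsonRing k _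
    let φ : A →ₐ[k] B ⧸ Q.asIdeal := (Ideal.Quotient.mkₐ k Q.asIdeal).comp (IsScalarTower.toAlgHom k A B)
    haveI : Module.Finite k (A ⧸ RingHom.ker φ) :=
      Module.Finite.of_injective (Ideal.kerLiftAlg φ).toLinearMap (RingHom.kerLift_injective φ.toRingHom)
    have hker : RingHom.ker φ = (PrimeSpectrum.comap (algebraMap A B) Q).asIdeal :=
      Ideal.ext fun x => Ideal.Quotient.eq_zero_iff_mem
    haveI : (RingHom.ker φ).IsPrime := hker ▸ (PrimeSpectrum.comap (algebraMap A B) Q).isPrime
    exact hker ▸ Ideal.Quotient.maximal_of_isField _ (isField_of_isIntegral_of_isField' (Field.toIsField k))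

theorem isMinimal_of_subsingleton_kaehler (q : Ideal A) [q.IsPrime]
    (h : Subsingleton Ω[Localization.AtPrime q⁄k]) : q.IsMaximal ∧ q ∈ minimalPrimes A := by
  refine ⟨by_contra fun hne => SmoothFun.kaehler_ne_bot (k := k) q hne h, ?_⟩
  haveI : Algebra.FormallyUnramified k (Localization.AtPrime q) := ⟨h⟩
  haveI : Algebra.EssFiniteType k (Localization.AtPrime q) := Algebra.EssFiniteType.comp k A _
  haveI := Algebra.FormallyUnramified.finite_of_free k (Localization.AtPrime q)
  haveI := IsArtinianRing.of_finite k (Localization.AtPrime q)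
  refine ⟨⟨‹q.IsPrime›, bot_le⟩, fun p hp hpq => ?_⟩
  haveI := hp.1
  have hdisj : Disjoint (q.primeCompl : Set A) p := Set.disjoint_left.2 fun z hz hzp => hz (hpq hzp)
  haveI := IsLocalization.isPrime_of_isPrime_disjoint q.primeCompl (Localization.AtPrime q) p ‹_› hdisj
  have hmax := IsArtinianRing.isMaximal_of_isPrime (p.map (algebraMap A (Localization.AtPrime q)))
  have he := IsLocalRing.eq_maximalIdeal hmax
  have h2 := congrArg (Ideal.comap (algebraMap A (Localization.AtPrime q))) he
  replace h2 := h2.trans (Localization.AtPrime.under_maximalIdeal (I := q))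
  exact ((IsLocalization.under_map_of_isPrime_disjoint q.primeCompl (Localization.AtPrime q) ‹p.IsPrime› hdisj).symm.trans h2).ge

include ht in
/-- A choice of coefficients good on finitely many opens, avoiding one given point. -/
theorem exists_good [Infinite k] {ι : Type} [Finite ι] (g : ι → A) [∀ i, Algebra.FormallySmooth k (Localization.Away (g i))]
    (p : Ideal A) [p.IsPrime] (hp : (∃ i, g i ∉ p) → Algebra.IsSmoothAt k p ∧ ¬ (p.IsMaximal ∧ p ∈ minimalPrimes A)) :
    ∃ e : A, e ∉ p ∧ ((∃ i, g i ∉ p) → IsCoordAt (k := k) e p) ∧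
      {q : PrimeSpectrum A | (∃ i, g i ∉ q.asIdeal) ∧ ¬ IsCoordAt (k := k) e q.asIdeal}.Finite ∧
        ∀ q : PrimeSpectrum A, (∃ i, g i ∉ q.asIdeal) → ¬ IsCoordAt (k := k) e q.asIdeal → q.asIdeal.IsMaximal := by
  classical
  letI := Fintype.ofFinite ι
  choose h hh hgood using fun i => exists_generic_away t ht (g i)
  let L := Localization.AtPrime p
  let Λ : (Fin m → k) →ₗ[k] (Ω[L⁄k] ⧸ (IsLocalRing.maximalIdeal L • (⊤ : Submodule L Ω[L⁄k]))) :=
    Fintype.linearCombination k fun j => Submodule.Quotient.mk (KaehlerDifferential.D k L (algebraMap A L (t j)))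
  obtain ⟨P, hP, hPc⟩ : ∃ P : MvPolynomial (Fin m) k, P ≠ 0 ∧
      ∀ c, MvPolynomial.eval c P ≠ 0 → (∃ i, g i ∉ p) → Λ c ≠ 0 := by
    by_cases hg : ∃ i, g i ∉ p
    swap
    · exact ⟨1, one_ne_zero, fun c _ hg' => absurd hg' hg⟩
    have hne : LinearMap.ker Λ ≠ ⊤ := fun htop => (hp hg).2 (isMinimal_of_subsingleton_kaehler (k := k) p (by
      haveI : Algebra.EssFiniteType k L := Algebra.EssFiniteType.comp k A L
      have hN : (⊤ : Submodule L Ω[L⁄k]) ≤ IsLocalRing.maximalIdeal L • ⊤ := by
        conv_lhs => rw [← span_D t ht L p.primeCompl]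
        rw [Submodule.span_le]
        rintro _ ⟨j, rfl⟩
        have h1 : Λ (Pi.single j (1 : k)) = 0 := LinearMap.mem_ker.1 (htop ▸ Submodule.mem_top)
        rw [Fintype.linearCombination_apply_single, one_smul, Submodule.Quotient.mk_eq_zero] at h1
        exact h1
      have hbot : (⊤ : Submodule L Ω[L⁄k]) = ⊥ :=
        Submodule.eq_bot_of_le_smul_of_le_jacobson_bot (IsLocalRing.maximalIdeal L) _ Module.Finite.fg_top hN
          (IsLocalRing.jacobson_eq_maximalIdeal ⊥ bot_ne_top).ge
      exact ⟨fun a b => by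
        have ha : a ∈ (⊥ : Submodule L Ω[L⁄k]) := hbot ▸ trivial
        have hb : b ∈ (⊥ : Submodule L Ω[L⁄k]) := hbot ▸ trivial
        rw [Submodule.mem_bot] at ha hb
        rw [ha, hb]⟩))
    obtain ⟨φ, hφ, hle⟩ := Submodule.exists_le_ker_of_lt_top _ (lt_top_iff_ne_top.2 hne)
    refine ⟨∑ j, MvPolynomial.C (φ (Pi.single j 1)) * MvPolynomial.X j, fun h0 => hφ (LinearMap.ext fun v => ?_),
      fun c hc _ hΛ => hc ?_⟩
    · have h1 := congrArg (MvPolynomial.eval v) h0
      simp only [map_sum, map_mul, MvPolynomial.eval_C, MvPolynomial.eval_X, map_zero] at h1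
      rw [LinearMap.zero_apply]
      conv_lhs => rw [pi_eq_sum_univ v, map_sum]
      refine Eq.trans (Finset.sum_congr rfl fun j _ => ?_) h1
      rw [map_smul, smul_eq_mul, mul_comm]
      congr 2
      exact funext fun l => by simp [Pi.single_apply, eq_comm]
    · have h1 : φ c = 0 := hle (LinearMap.mem_ker.2 hΛ)
      simp only [map_sum, map_mul, MvPolynomial.eval_C, MvPolynomial.eval_X]
      refine Eq.trans ?_ h1
      conv_rhs => rw [pi_eq_sum_univ c, map_sum]
      refine Finset.sum_congr rfl fun j _ => ?_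
      rw [map_smul, smul_eq_mul, mul_comm]
      congr 2
      exact funext fun l => by simp [Pi.single_apply, eq_comm]
  obtain ⟨c, hc⟩ : ∃ c, MvPolynomial.eval c (P * ∏ i, h i) ≠ 0 := by
    by_contra hne
    push Not at hne
    exact mul_ne_zero hP (Finset.prod_ne_zero_iff.2 fun i _ => hh i)
      (MvPolynomial.funext fun x => by rw [hne x, map_zero])
  rw [map_mul, mul_ne_zero_iff, map_prod, Finset.prod_ne_zero_iff] at hc
  obtain ⟨c₀, hc₀⟩ : ∃ c₀, comb t c₀ c ∉ p := by
    by_contra hne
    push Not at hne
    have := p.sub_mem (hne 1) (hne 0)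
    simp only [comb, map_one, map_zero, add_sub_add_right_eq_sub, sub_zero] at this
    exact Ideal.IsPrime.ne_top ‹_› ((Ideal.eq_top_iff_one _).2 this)
  refine ⟨comb t c₀ c, hc₀, fun hg => ?_, ?_, fun q ⟨i, hi⟩ hq => ((hgood i) c₀ c (hc.2 i (Finset.mem_univ i))).2 q hi hq⟩
  · haveI := (hp hg).1
    refine isCoordAt_of _ _ fun hmem => hPc c hc.1 hg ?_
    rw [← (Submodule.Quotient.mk_eq_zero _).2 hmem, Fintype.linearCombination_apply]
    simp only [comb, map_add, map_sum, map_mul, ← IsScalarTower.algebraMap_apply, Derivation.map_algebraMap,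
      Derivation.leibniz, smul_zero, add_zero, zero_add]
    rw [show (Submodule.Quotient.mk : Ω[L⁄k] → _) = ((IsLocalRing.maximalIdeal L • (⊤ : Submodule L Ω[L⁄k])).mkQ) from rfl,
      map_sum]
    exact Finset.sum_congr rfl fun j _ => by rw [map_smul, algebraMap_smul]
  · refine (Set.finite_iUnion fun i => ((hgood i) c₀ c (hc.2 i (Finset.mem_univ i))).1).subset ?_
    rintro q ⟨⟨i, hi⟩, hq⟩
    exact Set.mem_iUnion.2 ⟨i, hi, hq⟩

end Groth.Agent.H23.GenericFun
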