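import Groth.Agent.H23.SpClosed
import Groth.Agent.H23.InterPull
import Groth.Agent.H9Misc.TorBaseChange
import Groth.Agent.S3527

/-!
# A module pulled back to a scheme, met with a closed subscheme flat over the base

For `A → B → C` with `B → C` surjective and `B`, `C` flat over `A`, the higher `Tor^B(B ⊗_A M, C)`
vanish, so the Euler characteristic is the length of `C ⊗_A M`.
-/

set_option autoImplicit false
set_option linter.style.haveILetI false
set_option backward.isDefEq.respectTransparency.types false

universe u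

open AlgebraicGeometry CategoryTheory CategoryTheory.Limits IsLocalRing
open scoped TensorProduct

namespace Groth.Agent.H23.GraphChi

open Groth.Agent

theorem chi_eq_length (A B C : Type u) [CommRing A] [CommRing B] [CommRing C] [Algebra A B] [Algebra A C]
    [Algebra B C] [IsScalarTower A B C] [IsLocalRing A] [IsLocalRing C] [IsLocalHom (algebraMap A C)]
    [Module.Flat A B] [Module.Flat A C] (hs : Function.Surjective (algebraMap B C))
    (M : Type u) [AddCommGroup M] [Module A M] :
    IntMult.chi B C (B ⊗[A] M) = (((Module.length A M).toNat *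
      (Module.length C (C ⧸ (maximalIdeal A).map (algebraMap A C))).toNat : ℕ) : ℤ) := by
  rw [KoszulTor.chi_comm, IntMult.chi, finsum_eq_single _ 0 fun i hi => ?_]
  · rw [pow_zero, one_mul]
    have e0 : DRing.Tor B 0 (B ⊗[A] M) C ≃ₗ[B] (B ⊗[A] M) ⊗[B] C :=
      ((TorBridge.tenF (ModuleCat.of B (B ⊗[A] M))).leftDerivedZeroIsoSelf.app (ModuleCat.of B C)).toLinearEquiv
    rw [(e0.trans ((TensorProduct.comm B _ _).trans
      (TensorProduct.AlgebraTensorModule.cancelBaseChange A B B C M))).length_eq,
      Module.length_eq_of_surjective (R := C) hs, IsLocalRing.length_baseChange A C, ENat.toNat_mul]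
  · haveI hP : ∀ q : ℕ, 0 < q → Subsingleton (((Tor (ModuleCat.{u} A) q).obj (ModuleCat.of A M)).obj
        (ModuleCat.of A B)) := fun q hq => (S3527.result A B M q hq).2
    obtain ⟨φ, hφ⟩ := H9Misc.TorBaseChange.exists_semilinear A B C M hP i
    haveI : Subsingleton (((Tor (ModuleCat.{u} A) i).obj (ModuleCat.of A M)).obj (ModuleCat.of A C)) :=
      (S3527.result A C M i (Nat.pos_of_ne_zero hi)).2
    haveI : Subsingleton (DRing.Tor B i (B ⊗[A] M) C) := hφ.surjective.subsingleton
    rw [Module.length_eq_zero]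
    simp

variable {W X Y : Scheme.{u}} (γ : X ⟶ W) [IsClosedImmersion γ] (p : W ⟶ Y) [Flat p] [Flat (γ ≫ p)]

/-- The Euler characteristic of a closed subscheme flat over the base and a pulled back sheaf. -/
theorem chi_stalk (G : Y.Modules) (x : X) :
    IntMult.chi (W.presheaf.stalk (γ x)) (((Coh.push γ).obj (Coh.structureModule X)).presheaf.stalk (γ x))
        (((Scheme.Modules.pullback p).obj G).presheaf.stalk (γ x)) =
      ((Module.length (Y.presheaf.stalk (p (γ x))) (G.presheaf.stalk (p (γ x)))).toNat : ℤ) *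
        ((Module.length (X.presheaf.stalk x) (X.presheaf.stalk x ⧸ Ideal.map ((γ ≫ p).stalkMap x).hom
          (maximalIdeal (Y.presheaf.stalk (p (γ x)))))).toNat : ℤ) := by
  obtain ⟨eF⟩ := SpClosed.nonempty_quotEquiv γ x
  have hflatB : (p.stalkMap (γ x)).hom.Flat := Flat.stalkMap p (γ x)
  have hflatC : ((γ ≫ p).stalkMap x).hom.Flat := Flat.stalkMap (γ ≫ p) x
  have eG := ((KFlatLib.stalkPullbackIso p (γ x)).app G).toLinearEquiv
  refine (InterPull.chi_congr_both eF eG).trans ?_
  let A := Y.presheaf.stalk (p (γ x))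
  let B := W.presheaf.stalk (γ x)
  let C := X.presheaf.stalk x
  algebraize [(p.stalkMap (γ x)).hom]
  letI : Algebra B C := (γ.stalkMap x).hom.toAlgebra
  letI : Algebra A C := ((γ ≫ p).stalkMap x).hom.toAlgebra
  haveI : IsScalarTower A B C := IsScalarTower.of_algebraMap_eq' (by
    show ((γ ≫ p).stalkMap x).hom = (γ.stalkMap x).hom.comp (p.stalkMap (γ x)).hom
    rw [← CommRingCat.hom_comp, Scheme.Hom.stalkMap_comp]
    rfl)
  haveI : IsLocalHom (algebraMap A C) := inferInstanceAs <| IsLocalHom ((γ ≫ p).stalkMap x).hom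
  haveI : Module.Flat A C := hflatC
  have hs : Function.Surjective (algebraMap B C) := γ.stalkMap_surjective x
  let e : (B ⧸ RingHom.ker (γ.stalkMap x).hom) ≃ₗ[B] C :=
    (Ideal.quotientKerAlgEquivOfSurjective (f := Algebra.ofId B C) hs).toLinearEquiv
  refine (ChiAdd.chi_congr_left (A := B) (N := B ⊗[A] ((DerSch.stalkFunctor Y (p (γ x))).obj G)) e).trans ?_
  rw [chi_eq_length A B C hs ((DerSch.stalkFunctor Y (p (γ x))).obj G)]
  push_cast
  rfl

end Groth.Agent.H23.GraphChi
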