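import Groth.Agent.H23.GraphSetup
import Groth.Agent.H23.FlatPushPull
import Groth.Agent.CycLib.Pull

/-!
# Cycles on triple products, for composites of graphs
-/

set_option autoImplicit false
set_option linter.style.haveILetI false
set_option linter.unusedSectionVars false
set_option backward.isDefEq.respectTransparency.types false

universe u

open AlgebraicGeometry CategoryTheory CategoryTheory.Limits TopologicalSpace

noncomputable section

namespace Groth.Agent.H23.GraphComp

open Groth.Agent

/-- A flat morphism of integral schemes takes the generic point to the generic point. -/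
theorem apply_genericPoint {W Y : Scheme.{u}} [IsIntegral W] [IsIntegral Y] (q : W ⟶ Y) [Flat q] :
    q (genericPoint W) = genericPoint Y := by
  obtain ⟨x', hx', hfx'⟩ := CycLib.exists_generization q (x := genericPoint W) (y := genericPoint Y)
    (genericPoint_specializes _)
  rw [← hfx', hx'.antisymm (genericPoint_specializes x') |>.eq]

/-- The pull-back of the fundamental cycle. -/
theorem pullFun_generic {W Y : Scheme.{u}} [IsIntegral W] [IsIntegral Y] (q : W ⟶ Y) [Flat q] {δW : W → ℤ}
    {δY : Y → ℤ} (hd : Cyc.IsDimFun W δW) [IsLocallyNoetherian W] {c : ℤ}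
    (hc : δW (genericPoint W) = δY (genericPoint Y) + c) :
    Cyc.pullFun q δW δY c (Set.indicator {genericPoint Y} (1 : Y → ℤ)) = Set.indicator {genericPoint W} 1 := by
  funext x
  rw [Cyc.pullFun]
  by_cases hx : x = genericPoint W
  · subst hx
    have hq := apply_genericPoint q
    rw [if_pos (by rw [hq]; exact hc),
      show Set.indicator {genericPoint Y} (1 : Y → ℤ) (q (genericPoint W)) = 1 from by
        rw [hq, Set.indicator_of_mem (Set.mem_singleton _)]; rfl,
      Set.indicator_of_mem (Set.mem_singleton _), Pi.one_apply, one_mul]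
    have hfld : IsField (W.presheaf.stalk (genericPoint W)) := Field.toIsField W.functionField
    have hb : Ideal.map (q.stalkMap (genericPoint W)).hom
        (IsLocalRing.maximalIdeal (Y.presheaf.stalk (q (genericPoint W)))) = ⊥ := by
      letI := hfld.toField
      refine le_bot_iff.1 ?_
      rw [← IsLocalRing.maximalIdeal_eq_bot (R := W.presheaf.stalk (genericPoint W))]
      exact ((IsLocalRing.local_hom_TFAE (q.stalkMap (genericPoint W)).hom).out 0 2).1
        (show IsLocalHom (q.stalkMap (genericPoint W)).hom from inferInstance)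
    have h1 : Module.length (W.presheaf.stalk (genericPoint W)) (W.presheaf.stalk (genericPoint W) ⧸
        Ideal.map (q.stalkMap (genericPoint W)).hom
          (IsLocalRing.maximalIdeal (Y.presheaf.stalk (q (genericPoint W))))) = 1 := by
      letI := hfld.toField
      rw [hb, Module.length_eq_one_iff, isSimpleModule_iff_isCoatom]
      exact Ideal.bot_isMaximal.out
    rw [h1]
    rfl
  · rw [Set.indicator_of_notMem (show x ∉ ({genericPoint W} : Set W) from hx)]
    split_ifs with h
    · rw [Set.indicator_of_notMem, zero_mul]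
      intro hq
      refine hx (CycLib.eq_of_delta_le hd (genericPoint_specializes x) ?_).symm
      rw [Set.mem_singleton_iff.1 hq] at h
      omega
    · rfl

/-- Push-forward of a cycle along a closed immersion, pointwise. -/
theorem map_closed_indicator {X W : Scheme.{u}} (t : X ⟶ W) [IsClosedImmersion t] {δX : X → ℤ} {δW : W → ℤ}
    (hδ : δX = fun x => δW (t x)) (c : AlgebraicCycle X ℤ) {x₀ : X}
    (hc : ⇑c = Set.indicator {x₀} (1 : X → ℤ)) :
    ⇑(AlgebraicCycle.map t δX δW c) = Set.indicator {t x₀} (1 : W → ℤ) := by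
  subst hδ
  funext w
  by_cases hw : w ∈ Set.range t
  · obtain ⟨x, rfl⟩ := hw
    rw [CycLib.map_preimmersion_apply, hc]
    by_cases hx : x = x₀
    · subst hx
      rw [Set.indicator_of_mem (Set.mem_singleton _), Set.indicator_of_mem (Set.mem_singleton _)]
      rfl
    · rw [Set.indicator_of_notMem (by simpa using hx),
        Set.indicator_of_notMem (fun h => hx (t.isEmbedding.injective (Set.mem_singleton_iff.1 h)))]
  · rw [CycLib.map_apply_not_range _ _ _ _ hw, Set.indicator_of_notMem]
    exact fun h => hw ⟨x₀, (Set.mem_singleton_iff.1 h).symm⟩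

/-- A flat pull-back of the fundamental cycle of a section, through a section of the pulled back map. -/
theorem pullFun_section {P U V Y : Scheme.{u}} [IsIntegral U] [IsIntegral Y] [IsLocallyNoetherian P]
    [IsLocallyNoetherian V] [IsLocallyNoetherian U] (π : P ⟶ V) (ρ : P ⟶ U) (p : V ⟶ Y) (q : U ⟶ Y) [Flat π] [Flat q]
    [IsProper ρ] [IsProper p] (t : U ⟶ P) [IsClosedImmersion t] (g : Y ⟶ V) [IsClosedImmersion g]
    (hsq : IsPullback π ρ p q) (htq : IsPullback t q π g) (ht : t ≫ ρ = 𝟙 U) (hg : g ≫ p = 𝟙 Y) {δP : P → ℤ}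
    {δU : U → ℤ} {δV : V → ℤ} {δY : Y → ℤ} {c : ℤ} (hdP : Cyc.IsDimFun P δP) (hdU : Cyc.IsDimFun U δU)
    (hπs : FlatShift.HasShift π δP δV c) (hqs : FlatShift.HasShift q δU δY c) (hρ : Cyc.DeltaCompat ρ δP δU)
    (hp : Cyc.DeltaCompat p δV δY) (hδt : δU = fun x => δP (t x)) (hδg : δY = fun x => δV (g x))
    (hc : δU (genericPoint U) = δY (genericPoint Y) + c) :
    Cyc.pullFun π δP δV c (Set.indicator {g (genericPoint Y)} (1 : V → ℤ)) =
      Set.indicator {t (genericPoint U)} 1 := by
  have hfin : (Function.support (Set.indicator {genericPoint Y} (1 : Y → ℤ))).Finite := MoveLemma.finite_indicator _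
  let E : AlgebraicCycle Y ℤ := MoveLemma.ofFinite _ hfin
  let Γ : AlgebraicCycle V ℤ := AlgebraicCycle.map g δY δV E
  have hΓ : ⇑Γ = Set.indicator {g (genericPoint Y)} 1 := map_closed_indicator g hδg E rfl
  let G := FlatClass.pullCycle hπs hdP Γ
  have hG : ⇑G = Cyc.pullFun π δP δV c (Set.indicator {g (genericPoint Y)} 1) := by
    show Cyc.pullFun π δP δV c ⇑Γ = _
    rw [hΓ]
  -- the support is the image of the generic point of the section
  have hsupp : ∀ w, G w ≠ 0 → w = t (genericPoint U) := fun w hw => by
    rw [hG, Cyc.pullFun] at hw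
    split_ifs at hw with hd
    swap
    · exact absurd rfl hw
    have hπw : π w = g (genericPoint Y) := Set.mem_singleton_iff.1
      (Set.mem_of_indicator_ne_zero (left_ne_zero_of_mul hw))
    obtain ⟨u, hu, -⟩ := Scheme.exists_preimage_of_isPullback htq w (genericPoint Y) hπw
    rw [← hu]
    refine congrArg t (CycLib.eq_of_delta_le hdU (genericPoint_specializes u) ?_).symm
    rw [hπw, ← hu, ← show δU u = δP (t u) from congrFun hδt u,
      ← show δY (genericPoint Y) = δV (g (genericPoint Y)) from congrFun hδg _] at hd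
    omega
  -- its multiplicity
  have key := FlatShift.map_pullFun_baseChange hsq hqs hdU hp hρ Γ G rfl
  have hpΓ : AlgebraicCycle.map p δV δY Γ = E := by
    show AlgebraicCycle.map p δV δY (AlgebraicCycle.map g δY δV E) = E
    rw [CycLib.map_map g p (hδg ▸ GysinLib.deltaCompat_closedImmersion g δV) hp]
    simp only [hg, AlgebraicCycle.map_id]
  rw [hpΓ, show ⇑E = Set.indicator {genericPoint Y} 1 from rfl, pullFun_generic q hdU hc] at key
  have hGe : G = AlgebraicCycle.map t δU δP (AlgebraicCycle.map ρ δP δU G) := by
    have hfinG : (Function.support fun u => G (t u)).Finite :=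
      (Set.finite_singleton (genericPoint U)).subset fun u hu => t.isEmbedding.injective (hsupp _ hu)
    have e : G = AlgebraicCycle.map t δU δP (MoveLemma.ofFinite _ hfinG) := by
      subst hδt
      ext w
      by_cases hw : w ∈ Set.range t
      · obtain ⟨u, rfl⟩ := hw
        rw [CycLib.map_preimmersion_apply]
        rfl
      · rw [CycLib.map_apply_not_range _ _ _ _ hw]
        exact by_contra fun h => hw ⟨_, (hsupp w h).symm⟩
    conv_rhs => rw [e, CycLib.map_map t ρ (hδt ▸ GysinLib.deltaCompat_closedImmersion t δP) hρ]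
    simp only [ht, AlgebraicCycle.map_id]
    exact e
  rw [← hG, hGe]
  exact map_closed_indicator t hδt _ key.symm

/-- A morphism of schemes over a field is compatible with the dimension functions. -/
theorem compat_of_str {K : Type u} [Field K] {W Y : Scheme.{u}} (p : W ⟶ Y) [LocallyOfFiniteType p]
    (gY : Y ⟶ Spec (CommRingCat.of K)) [LocallyOfFiniteType gY] (gW : W ⟶ Spec (CommRingCat.of K))
    [LocallyOfFiniteType gW] (e : p ≫ gY = gW) {δW : W → ℤ} {δY : Y → ℤ}
    (hδW : Cyc.DeltaCompat gW δW (fun _ => 0)) (hδY : Cyc.DeltaCompat gY δY (fun _ => 0)) :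
    Cyc.DeltaCompat p δW δY := by
  have h := CycLib.deltaCompat_of_comp p gY hδY gW e.symm
  rwa [ChowDesc.deltaCompat_unique _ hδW (CycLib.deltaCompat_rd _)]

end Groth.Agent.H23.GraphComp
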