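import Groth.Agent.H23.GraphChow
import Groth.Agent.H23.CrossProd
import Groth.Agent.H23.GraphFlatGen

/-!
# The projections of a product of two projective varieties, and graphs
-/

set_option autoImplicit false
set_option linter.style.haveILetI false
set_option linter.unusedSectionVars false
set_option backward.isDefEq.respectTransparency.types false

universe u

open AlgebraicGeometry CategoryTheory CategoryTheory.Limits TopologicalSpace

noncomputable section

namespace Groth.Agent.H23.GraphSetup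

open Groth.Agent

variable {K : Type u} [Field K]

/-- The structure map of a variety has its dimension as relative dimension. -/
theorem hasRelDim_str {X : Scheme.{u}} [IsIntegral X] (f : X ⟶ Spec (CommRingCat.of K)) [LocallyOfFiniteType f]
    {δ : X → ℤ} (hδ : Cyc.DeltaCompat f δ (fun _ => 0)) {d : ℕ} (hd : δ (genericPoint X) = d) :
    Cyc.HasRelDim f d := by
  refine (CycLib.hasRelDim_iff f).2 fun v hv => ?_
  haveI : Subsingleton ↥(Spec (CommRingCat.of K)) := FibDim.subsingleton_spec_field K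
  obtain rfl : genericPoint X = v :=
    (FlatShift.fibMax_iff _ v).1 hv _ (Subsingleton.elim _ _) (genericPoint_specializes v)
  have e := CycLib.deltaCompat_eq f hδ (genericPoint X)
  omega

/-- A closed subscheme of projective space is proper. -/
theorem isProper_of_embedding {X : Scheme.{u}} {f : X ⟶ Spec (CommRingCat.of K)} {N : ℕ}
    (ι : X ⟶ CohB1.ProjSpace N K) [IsClosedImmersion ι] (hι : ι ≫ CohB1.ProjSpace.toSpec N K = f) : IsProper f := by
  haveI : IsProper (CohB1.ProjSpace.toSpec N K) := PnCoh.Chow.isProper_toSpec N _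
  exact hι ▸ inferInstanceAs (IsProper (ι ≫ CohB1.ProjSpace.toSpec N K))

variable {X Y : Scheme.{u}} (fX : X ⟶ Spec (CommRingCat.of K)) (fY : Y ⟶ Spec (CommRingCat.of K))
  [LocallyOfFiniteType fX] [LocallyOfFiniteType fY]
  {δX : X → ℤ} {δY : Y → ℤ} {δW : ↥(pullback fX fY) → ℤ}
  (hδX : Cyc.DeltaCompat fX δX (fun _ => 0)) (hδY : Cyc.DeltaCompat fY δY (fun _ => 0))
  (hδW : Cyc.DeltaCompat (pullback.fst fX fY ≫ fX) δW (fun _ => 0))

include hδX hδW in
theorem compat_fst : Cyc.DeltaCompat (pullback.fst fX fY) δW δX := by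
  have h := CycLib.deltaCompat_of_comp (pullback.fst fX fY) fX hδX (pullback.fst fX fY ≫ fX) rfl
  rwa [ChowDesc.deltaCompat_unique _ hδW (CycLib.deltaCompat_rd _)]

include hδY hδW in
theorem compat_snd : Cyc.DeltaCompat (pullback.snd fX fY) δW δY := by
  have h := CycLib.deltaCompat_of_comp (pullback.snd fX fY) fY hδY (pullback.fst fX fY ≫ fX) pullback.condition
  rwa [ChowDesc.deltaCompat_unique _ hδW (CycLib.deltaCompat_rd _)]

include hδY in
theorem hasRelDim_fst [IsIntegral Y] {d : ℕ} (hd : δY (genericPoint Y) = d) :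
    Cyc.HasRelDim (pullback.fst fX fY) d :=
  FibDim.hasRelDim_baseChange (IsPullback.of_hasPullback fX fY).flip (hasRelDim_str fY hδY hd)

include hδX in
theorem hasRelDim_snd [IsIntegral X] {d : ℕ} (hd : δX (genericPoint X) = d) :
    Cyc.HasRelDim (pullback.snd fX fY) d :=
  FibDim.hasRelDim_baseChange (IsPullback.of_hasPullback fX fY) (hasRelDim_str fX hδX hd)

/-- The graph is a closed immersion. -/
theorem isClosedImmersion_graph [IsSeparated fY] {f : X ⟶ Y} (hf : f ≫ fY = fX) :
    IsClosedImmersion (pullback.lift (𝟙 X) f (Eq.trans (Category.id_comp fX) hf.symm)) := by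
  set γg := pullback.lift (𝟙 X) f (Eq.trans (Category.id_comp fX) hf.symm)
  haveI : IsClosedImmersion (γg ≫ pullback.fst fX fY) := by
    rw [pullback.lift_fst]; infer_instance
  exact IsClosedImmersion.of_comp γg (pullback.fst fX fY)

include hδX hδY hδW in
/-- The dimension function on the graph. -/
theorem delta_graph [IsSeparated fY] {f : X ⟶ Y} (hf : f ≫ fY = fX) :
    δX = fun x => δW (pullback.lift (𝟙 X) f (Eq.trans (Category.id_comp fX) hf.symm) x) := by
  haveI : LocallyOfFiniteType (pullback.fst fX fY ≫ fX) := inferInstance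
  haveI := isClosedImmersion_graph fX fY hf
  exact GraphFlat.delta_graph _ fX _ (by rw [← Category.assoc, pullback.lift_fst, Category.id_comp]) hδX hδW

/-- The graph met with a cycle pulled back from the source. -/
theorem prod_graph [IsAlgClosed K] [Smooth fX] [IsSeparated fX] [IsIntegral X] [Smooth fY] [IsSeparated fY]
    [QuasiCompact fX] [QuasiCompact fY] [IsIntegral (pullback fX fY)] (hX : Cyc.IsSetup X δX)
    (hW : Cyc.IsSetup (pullback fX fY) δW) (hδX : Cyc.DeltaCompat fX δX (fun _ => 0))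
    (hδW : Cyc.DeltaCompat (pullback.fst fX fY ≫ fX) δW (fun _ => 0)) {dX dY : ℕ} (hdX : δX (genericPoint X) = dX)
    (hdW : δW (genericPoint ↥(pullback fX fY)) = (dX : ℤ) + dY) {f : X ⟶ Y} (hf : f ≫ fY = fX)
    [IsClosedImmersion (pullback.lift (𝟙 X) f (Eq.trans (Category.id_comp fX) hf.symm))]
    {Γ P : AlgebraicCycle (pullback fX fY) ℤ} {k : ℤ} {w : AlgebraicCycle X ℤ} (hw : w ∈ Cyc.Zk X δX k)
    (hΓ : ⇑Γ = Set.indicator {(pullback.lift (𝟙 X) f (Eq.trans (Category.id_comp fX) hf.symm)) (genericPoint X)} 1)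
    (hΓk : Γ ∈ Cyc.Zk (pullback fX fY) δW dX) (hP : ⇑P = Cyc.pullFun (pullback.fst fX fY) δW δX dY ⇑w)
    (hPk : P ∈ Cyc.Zk (pullback fX fY) δW (k + dY)) :
    ChowMul.Prod δW ((dX : ℤ) + dY) dX (k + dY) Γ P
      (AlgebraicCycle.map (pullback.lift (𝟙 X) f (Eq.trans (Category.id_comp fX) hf.symm)) δX δW w) := by
  haveI : Flat fY := AlgStLib.OnePt.flat_of_field fY
  set γg := pullback.lift (𝟙 X) f (Eq.trans (Category.id_comp fX) hf.symm) with hγg
  have h1 : γg ≫ pullback.fst fX fY = 𝟙 X := pullback.lift_fst _ _ _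
  haveI : Flat (γg ≫ pullback.fst fX fY) := h1 ▸ inferInstance
  have hgW : γg ≫ pullback.fst fX fY ≫ fX = fX := by rw [← Category.assoc, h1, Category.id_comp]
  obtain ⟨hp, he⟩ := GraphFlatGen.interProd_graph γg (pullback.fst fX fY) fX fX (pullback.fst fX fY ≫ fX) hgW
    hX.2.2 hX.2.2 hW.2.2 hδX hδX hδW hdX hdX hdW (CycleClassK.lfPts_cycle w) (fun y hy => hw y hy) w
    (by rw [h1, sub_self, GraphChow.pullFun_id])
  exact ChowMul.of_proper hΓk hPk (by rw [hΓ, hP]; exact hp) (by rw [hΓ, hP]; exact he)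

end Groth.Agent.H23.GraphSetup
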