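import Groth.Agent.Synt29.RepGlueX

/-!
Closed subfunctors of the points of a scheme over an affine base.
-/

set_option autoImplicit false
set_option backward.isDefEq.respectTransparency false
set_option linter.style.haveILetI false

universe u

open CategoryTheory CategoryTheory.Limits AlgebraicGeometry TopologicalSpace

namespace Groth.Agent.H23.GrassClosed

open Synt29.RepOpen

variable {R : Type u} [CommRing R] {X : Over (Spec (CommRingCat.of R))} {F : CommAlgCat.{u} R ⥤ Type u}

/-- The structure map of the sections on an affine open. -/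
noncomputable def str (U : X.left.affineOpens) : R →+* Γ(X.left, U) :=
  (Spec.preimage (U.2.fromSpec ≫ X.hom)).hom

theorem specMap_str (U : X.left.affineOpens) :
    Spec.map (CommRingCat.ofHom (str U)) = U.2.fromSpec ≫ X.hom :=
  Spec.map_preimage (U.2.fromSpec ≫ X.hom)

/-- The sections on an affine open as an algebra. -/
noncomputable def algU (U : X.left.affineOpens) : CommAlgCat.{u} R :=
  letI := (str U).toAlgebra
  CommAlgCat.of R Γ(X.left, U)

/-- The point given by an affine open. -/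
noncomputable def gU (U : X.left.affineOpens) : sp (algU U) ⟶ X :=
  Over.homMk U.2.fromSpec (specMap_str U).symm

/-- The map of algebras of a restriction between affine opens. -/
theorem exists_res {U V : X.left.affineOpens} (h : (V : X.left.Opens) ≤ U) :
    ∃ ψ : algU U ⟶ algU V, ψ.hom.toRingHom = (X.left.presheaf.map (homOfLE h).op).hom ∧
      spOver ψ ≫ gU U = gU V := by
  letI := (str U).toAlgebra
  letI := (str V).toAlgebra
  have hr : (X.left.presheaf.map (homOfLE h).op).hom.comp (str U) = str V := by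
    have : CommRingCat.ofHom ((X.left.presheaf.map (homOfLE h).op).hom.comp (str U)) = CommRingCat.ofHom (str V) := by
      refine Spec.map_injective ?_
      rw [CommRingCat.ofHom_comp, Spec.map_comp, specMap_str, specMap_str, CommRingCat.ofHom_hom,
        ← Category.assoc, U.2.map_fromSpec V.2]
    exact congrArg CommRingCat.Hom.hom this
  let ψ : Γ(X.left, U) →ₐ[R] Γ(X.left, V) :=
    { (X.left.presheaf.map (homOfLE h).op).hom with commutes' := fun r => RingHom.congr_fun hr r }
  exact ⟨CommAlgCat.ofHom ψ, rfl, Over.OverMorphism.ext (U.2.map_fromSpec V.2 (homOfLE h).op)⟩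

theorem app_eq_zero_iff {U : X.left.affineOpens} {B : CommAlgCat.{u} R} (φ : algU U ⟶ B) (s : Γ(X.left, U)) :
    (spMap φ ≫ U.2.fromSpec).app U s = 0 ↔ φ.hom s = 0 := by
  have h1 : (spMap φ ≫ U.2.fromSpec).app U.1 =
      (Scheme.ΓSpecIso Γ(X.left, U)).inv ≫ (spMap φ).appTop ≫
        (Spec (CommRingCat.of B)).presheaf.map (eqToHom (by simp [U.2.fromSpec_preimage_self])).op := by
    rw [Scheme.Hom.comp_app, U.2.fromSpec_app_self, Category.assoc]
    congr 1
  rw [h1]
  simp only [CommRingCat.comp_apply]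
  have h2 : (spMap φ).appTop ((Scheme.ΓSpecIso Γ(X.left, U)).inv s) =
      (Scheme.ΓSpecIso (CommRingCat.of B)).inv (φ.hom s) :=
    (congrArg (fun f : Γ(X.left, U) ⟶ Γ(Spec (CommRingCat.of B), ⊤) => f s)
      (Scheme.ΓSpecIso_inv_naturality (CommRingCat.ofHom φ.hom.toRingHom))).symm
  erw [h2]
  constructor
  · intro h
    have h3 := (ConcreteCategory.bijective_of_isIso _).1 (h.trans (map_zero _).symm)
    exact (ConcreteCategory.bijective_of_isIso (Scheme.ΓSpecIso (CommRingCat.of B)).inv).1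
      (h3.trans (map_zero _).symm)
  · intro h
    rw [h, map_zero, map_zero]

theorem mem_of_local_zero {A : CommAlgCat.{u} R} {x : A} {a : PrimeSpectrum A → A}
    (h : ∀ p, (toAway A (a p)).hom x = 0) (ha : ∀ p, a p ∉ p.asIdeal) : x ∈ (⊥ : Ideal A) := by
  rw [Ideal.mem_bot]
  by_contra hx
  obtain ⟨M, hM, hle⟩ := Ideal.exists_le_maximal (Ideal.torsionOf A A x) (fun ht => hx (by
    have := (Ideal.eq_top_iff_one _).1 ht
    rwa [Ideal.mem_torsionOf_iff, one_smul] at this))
  obtain ⟨⟨_, n, rfl⟩, hn⟩ := (IsLocalization.map_eq_zero_iff (Submonoid.powers (a ⟨M, hM.isPrime⟩))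
    (Localization.Away (a ⟨M, hM.isPrime⟩)) x).1 (h ⟨M, hM.isPrime⟩)
  exact ha ⟨M, hM.isPrime⟩ (hM.isPrime.mem_of_pow_mem n (hle ((Ideal.mem_torsionOf_iff x _).2 hn)))

theorem res_eq_zero {A : Type u} [CommRing A] (a : A) (V : (Spec (CommRingCat.of A)).Opens)
    (hle : PrimeSpectrum.basicOpen a ≤ V) (t : Γ(Spec (CommRingCat.of A), V))
    (h : (Spec.map (CommRingCat.ofHom (algebraMap A (Localization.Away a)))).app V t = 0) :
    (Spec (CommRingCat.of A)).presheaf.map (homOfLE hle).op t = 0 := by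
  let m := Spec.map (CommRingCat.ofHom (algebraMap A (Localization.Away a)))
  haveI : IsOpenImmersion m := IsOpenImmersion.of_isLocalization a
  have hrg : (PrimeSpectrum.basicOpen a : (Spec (CommRingCat.of A)).Opens) ≤ m.opensRange := by
    intro x hx
    show x ∈ Set.range (PrimeSpectrum.comap (algebraMap A (Localization.Away a)))
    rw [PrimeSpectrum.localization_away_comap_range (Localization.Away a) a]
    exact hx
  haveI := m.isIso_app _ hrg
  refine (ConcreteCategory.bijective_of_isIso (m.app (PrimeSpectrum.basicOpen a))).1 ?_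
  rw [map_zero]
  refine (congrArg (fun f : Γ(Spec (CommRingCat.of A), V) ⟶ _ => f t) (m.naturality (homOfLE hle).op)).trans ?_
  rw [CommRingCat.comp_apply, h, map_zero]

variable {e : ∀ A, (sp A ⟶ X) ≃ F.obj A} (he : IsNat X F e)

include he in
/-- A condition which is cut out by an ideal at every point is cut out by a closed subscheme. -/
theorem exists_closed (P : ∀ A : CommAlgCat.{u} R, F.obj A → Prop)
    (hI : ∀ (A : CommAlgCat.{u} R) (x : F.obj A), ∃ I : Ideal A, ∀ (B : CommAlgCat.{u} R) (φ : A ⟶ B),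
      I ≤ RingHom.ker φ.hom.toRingHom ↔ P B (F.map φ x)) :
    ∃ (Z : Scheme.{u}) (ι : Z ⟶ X.left), IsClosedImmersion ι ∧
      ∀ (A : CommAlgCat.{u} R) (g : sp A ⟶ X), (∃ h, h ≫ ι = g.left) ↔ P A (e A g) := by
  choose I hI' using hI
  let J : ∀ U : X.left.affineOpens, Ideal Γ(X.left, U) := fun U => I (algU U) (e _ (gU U))
  have hJ : ∀ (U : X.left.affineOpens) (f : Γ(X.left, U)),
      (J U).map (X.left.presheaf.map (homOfLE <| X.left.basicOpen_le f).op).hom = J (X.left.affineBasicOpen f) := by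
    intro U f
    obtain ⟨ψ, hψ, hψ'⟩ := exists_res (X := X) (U := U) (V := X.left.affineBasicOpen f) (X.left.basicOpen_le f)
    have key : ∀ (B : CommAlgCat.{u} R) (φ : algU (X.left.affineBasicOpen f) ⟶ B),
        (J U).map (X.left.presheaf.map (homOfLE <| X.left.basicOpen_le f).op).hom ≤ RingHom.ker φ.hom.toRingHom ↔
          J (X.left.affineBasicOpen f) ≤ RingHom.ker φ.hom.toRingHom := by
      intro B φ
      have h2 := hI' (algU (X.left.affineBasicOpen f)) (e _ (gU (X.left.affineBasicOpen f))) B φ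
      have h4 := hI' (algU U) (e _ (gU U)) B (ψ ≫ φ)
      rw [show F.map (ψ ≫ φ) (e _ (gU U)) = F.map φ (e _ (gU (X.left.affineBasicOpen f))) by
        rw [← map_map, ← he, hψ']] at h4
      refine Iff.trans ?_ (h4.trans h2.symm)
      rw [Ideal.map_le_iff_le_comap, RingHom.comap_ker, ← hψ]
      rfl
    letI : Algebra R Γ(X.left, (X.left.affineBasicOpen f).1) := (str (X.left.affineBasicOpen f)).toAlgebra
    refine le_antisymm ?_ ?_
    · have h3 := (key (CommAlgCat.of R ((algU (X.left.affineBasicOpen f) : Type u) ⧸ (id (J (X.left.affineBasicOpen f)) : Ideal (algU (X.left.affineBasicOpen f)))))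
        (CommAlgCat.ofHom (Ideal.Quotient.mkₐ R _))).2 (fun x hx => Ideal.Quotient.eq_zero_iff_mem.2 hx)
      exact fun x hx => Ideal.Quotient.eq_zero_iff_mem.1 (h3 hx)
    · have h3 := (key (CommAlgCat.of R ((algU (X.left.affineBasicOpen f) : Type u) ⧸
        ((J U).map (X.left.presheaf.map (homOfLE <| X.left.basicOpen_le f).op).hom :
          Ideal (algU (X.left.affineBasicOpen f)))))
        (CommAlgCat.ofHom (Ideal.Quotient.mkₐ R _))).1 (fun x hx => Ideal.Quotient.eq_zero_iff_mem.2 hx)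
      exact fun x hx => Ideal.Quotient.eq_zero_iff_mem.1 (h3 hx)
  let D : X.left.IdealSheafData := { ideal := J, map_ideal_basicOpen := hJ }
  refine ⟨D.subscheme, D.subschemeι, inferInstance, fun A g => ?_⟩
  have hloc : ∀ p : PrimeSpectrum A, ∀ U : X.left.affineOpens, g.left p ∈ U.1 →
      ∀ W : (Spec (CommRingCat.of A)).Opens, p ∈ W → ∃ a : A, a ∉ p.asIdeal ∧ PrimeSpectrum.basicOpen a ≤ W ∧
        ∃ φ : algU U ⟶ CommAlgCat.of R (Localization.Away a), spOver φ ≫ gU U = spOver (toAway A a) ≫ g := by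
    intro p U hp W hW
    obtain ⟨_, ⟨a, rfl⟩, ha, hsub⟩ :=
      (PrimeSpectrum.isTopologicalBasis_basic_opens (R := A)).exists_subset_of_mem_open (a := p)
        (u := ((g.left ⁻¹ᵁ U.1 ⊓ W : (Spec (CommRingCat.of A)).Opens) : Set (Spec (CommRingCat.of A))))
        (show g.left p ∈ U.1 ∧ p ∈ W from ⟨hp, hW⟩) (g.left ⁻¹ᵁ U.1 ⊓ W).2
    have hrange : Set.range (spMap (toAway A a) ≫ g.left) ⊆ Set.range U.2.fromSpec := by
      rintro _ ⟨q, rfl⟩
      rw [U.2.range_fromSpec, Scheme.Hom.comp_apply]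
      refine (hsub ?_).1
      have : spMap (toAway A a) q ∈ Set.range (PrimeSpectrum.comap (algebraMap A (Localization.Away a))) := ⟨q, rfl⟩
      rwa [PrimeSpectrum.localization_away_comap_range (Localization.Away a) a] at this
    let l : sp (CommAlgCat.of R (Localization.Away a)) ⟶ sp (algU U) :=
      Over.homMk (IsOpenImmersion.lift U.2.fromSpec (spMap (toAway A a) ≫ g.left) hrange) (by
        show _ ≫ (sp (algU U)).hom = _
        rw [← Over.w (gU U)]
        show _ ≫ U.2.fromSpec ≫ X.hom = _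
        rw [IsOpenImmersion.lift_fac_assoc, Category.assoc, Over.w g, spMap_w])
    obtain ⟨φ, hφ⟩ := exists_spMap l
    exact ⟨a, ha, fun q hq => (hsub hq).2, φ, Over.OverMorphism.ext (by
      rw [← hφ]; exact IsOpenImmersion.lift_fac _ _ _)⟩
  have hcov : ∀ p : PrimeSpectrum A, ∃ U : X.left.affineOpens, g.left p ∈ U.1 := fun p => by
    obtain ⟨_, ⟨U, hU, rfl⟩, hxU, -⟩ :=
      X.left.isBasis_affineOpens.exists_subset_of_mem_open (Set.mem_univ (g.left p)) isOpen_univ
    exact ⟨⟨U, hU⟩, hxU⟩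
  have hPid : ∀ x : F.obj A, I A x = ⊥ ↔ P A x := fun x => by
    have h := hI' A x A (𝟙 A)
    rw [show F.map (𝟙 A) x = x by simp] at h
    rw [← h, eq_bot_iff, show RingHom.ker (𝟙 A : A ⟶ A).hom.toRingHom = ⊥ from (RingHom.injective_iff_ker_eq_bot _).1
      (fun a b hab => hab)]
  constructor
  · rintro ⟨h, hh⟩
    rw [← hPid, eq_bot_iff]
    intro x hx
    choose U hU using hcov
    choose a ha _ φ hφ using fun p => hloc p (U p) (hU p) ⊤ trivial
    refine mem_of_local_zero ?_ ha
    intro p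
    have hk : I (algU (U p)) (e _ (gU (U p))) ≤ RingHom.ker (φ p).hom.toRingHom := fun s hs => by
      refine (app_eq_zero_iff (φ p) s).1 ?_
      have hf : spMap (φ p) ≫ (U p).2.fromSpec = (spMap (toAway A (a p)) ≫ h) ≫ D.subschemeι := by
        rw [Category.assoc, hh]
        exact congrArg CommaMorphism.left (hφ p)
      rw [hf]
      refine RingHom.mem_ker.1 (Scheme.Hom.ideal_ker_le _ (U p)
        (Scheme.Hom.le_ker_comp (spMap (toAway A (a p)) ≫ h) D.subschemeι (U p) ?_))
      rw [Scheme.IdealSheafData.ker_subschemeι]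
      exact hs
    have h1 := (hI' _ _ _ (φ p)).1 hk
    rw [← he, hφ p, he, ← hI'] at h1
    exact h1 hx
  · intro hP
    refine ⟨IsClosedImmersion.lift D.subschemeι g.left ?_, IsClosedImmersion.lift_fac _ _ _⟩
    rw [Scheme.IdealSheafData.ker_subschemeι, Scheme.Hom.ker, Scheme.IdealSheafData.le_ofIdeals_iff]
    intro U s hs
    rw [RingHom.mem_ker]
    refine TopCat.Sheaf.eq_of_locally_eq' (Spec (CommRingCat.of A)).sheaf
      (fun q : {q : PrimeSpectrum A // g.left q ∈ U.1} =>
        PrimeSpectrum.basicOpen (hloc q.1 U q.2 (g.left ⁻¹ᵁ U.1) q.2).choose) _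
      (fun q => homOfLE (hloc q.1 U q.2 (g.left ⁻¹ᵁ U.1) q.2).choose_spec.2.1)
      (fun x hx => Opens.mem_iSup.2 ⟨⟨x, hx⟩, (hloc x U hx (g.left ⁻¹ᵁ U.1) hx).choose_spec.1⟩) _ _ fun q => ?_
    obtain ⟨-, hle, φ, hφ⟩ := (hloc q.1 U q.2 (g.left ⁻¹ᵁ U.1) q.2).choose_spec
    rw [map_zero]
    refine res_eq_zero _ (g.left ⁻¹ᵁ U.1) hle (g.left.app U.1 s) ?_
    have hφs : φ.hom s = 0 := by
      refine (hI' (algU U) (e _ (gU U)) _ φ).2 ?_ hs
      rw [← he, hφ, he, ← hI', (hPid _).2 hP]
      exact bot_le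
    have h3 := (app_eq_zero_iff φ s).2 hφs
    rw [show spMap φ ≫ U.2.fromSpec = spMap (toAway A _) ≫ g.left from congrArg CommaMorphism.left hφ,
      Scheme.Hom.comp_app, CommRingCat.comp_apply] at h3
    exact h3

end Groth.Agent.H23.GrassClosed
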