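import Groth.Agent.H23.StalkIdeal
import Groth.Agent.H23.Frame
import Groth.Agent.QuotFunLib.StalkPull
import Groth.Agent.RegConormal.Section
import Groth.Agent.Synt29.ConormalExact
import Groth.Agent.Lib.CurveTensor
import Groth.Prelude.Def_FlatMod2

/-!
The zero scheme of a morphism from a quasi-coherent module to a locally free module.
-/

set_option autoImplicit false
set_option backward.isDefEq.respectTransparency false
set_option backward.isDefEq.respectTransparency.types false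

universe u

open CategoryTheory CategoryTheory.Limits AlgebraicGeometry TopologicalSpace Opposite

noncomputable section

namespace Groth.Agent.H23.ModZero

open Groth.Agent

variable {X : Scheme.{u}}

section ofStalks

variable (S : ∀ x : X, Ideal (X.presheaf.stalk x))

/-- `S` is generated on `U` by an ideal of sections. -/
def GenI (U : X.affineOpens) (K : Ideal Γ(X, U.1)) : Prop :=
  ∀ x (hx : x ∈ U.1), S x = K.map (X.presheaf.germ U.1 x hx).hom

variable {S}

theorem GenI.res {U V : X.affineOpens} {K : Ideal Γ(X, U.1)} (h : GenI S U K) (e : V.1 ≤ U.1) :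
    GenI S V (K.map (X.presheaf.map (homOfLE e).op).hom) := fun x hx => by
  rw [Ideal.map_map, ← CommRingCat.hom_comp, X.presheaf.germ_res]
  exact h x (e hx)

theorem GenI.mem {U : X.affineOpens} {K : Ideal Γ(X, U.1)} {b : Γ(X, U.1)} (h : GenI S U K)
    (hb : ∀ x (hx : x ∈ U.1), X.presheaf.germ U.1 x hx b ∈ S x) : b ∈ K :=
  StalkIdeal.mem_of_germ U _ b fun x hx => h x hx ▸ hb x hx

theorem map_secs_basicOpen (hS : ∀ x : X, ∃ (U : X.affineOpens) (K : Ideal Γ(X, U.1)), x ∈ U.1 ∧ GenI S U K)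
    (U : X.affineOpens) (g : Γ(X, U.1)) :
    (StalkIdeal.secs S U).map (X.presheaf.map (homOfLE <| X.basicOpen_le g).op).hom =
      StalkIdeal.secs S (X.affineBasicOpen g) := by
  refine le_antisymm (Ideal.map_le_iff_le_comap.2 fun b hb => StalkIdeal.mem_secs.2 fun x hx => ?_) fun c hc => ?_
  · erw [X.presheaf.germ_res_apply]
    exact StalkIdeal.mem_secs.1 hb x _
  classical
  letI : Algebra Γ(X, U.1) Γ(X, X.basicOpen g) := (X.presheaf.map (homOfLE <| X.basicOpen_le g).op).hom.toAlgebra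
  haveI : IsLocalization.Away g Γ(X, X.basicOpen g) := U.2.isLocalization_basicOpen g
  obtain ⟨⟨b, ⟨_, k, rfl⟩⟩, hbc⟩ := IsLocalization.surj (Submonoid.powers g) c
  have key : ∀ x : U.1, ∃ (W : X.affineOpens) (n : ℕ), x.1 ∈ W.1 ∧ ∀ y (hy : y ∈ W.1) (hyU : y ∈ U.1),
      X.presheaf.germ U.1 y hyU (g ^ n * b) ∈ S y := by
    rintro ⟨x, hxU⟩
    obtain ⟨V, K, hxV, hV⟩ := hS x
    obtain ⟨r, s, hrs, hxr⟩ := exists_basicOpen_le_affine_inter U.2 V.2 x ⟨hxU, hxV⟩
    let W : X.affineOpens := X.affineBasicOpen r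
    have hWV : W.1 ≤ V.1 := by show X.basicOpen r ≤ V.1; rw [hrs]; exact X.basicOpen_le _
    have hWU : W.1 ≤ U.1 := X.basicOpen_le r
    let g' := X.presheaf.map (homOfLE hWU).op g
    let b' := X.presheaf.map (homOfLE hWU).op b
    let K' := K.map (X.presheaf.map (homOfLE hWV).op).hom
    have hW : GenI S W K' := hV.res hWV
    letI : Algebra Γ(X, W.1) Γ(X, X.basicOpen g') :=
      (X.presheaf.map (homOfLE <| X.basicOpen_le g').op).hom.toAlgebra
    haveI : IsLocalization.Away g' Γ(X, X.basicOpen g') := W.2.isLocalization_basicOpen g'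
    have hle : X.basicOpen g' ≤ X.basicOpen g := by
      show X.basicOpen (X.presheaf.map (homOfLE hWU).op g) ≤ _
      rw [Scheme.basicOpen_res]
      exact inf_le_right
    have hmem : algebraMap Γ(X, W.1) Γ(X, X.basicOpen g') b' ∈
        K'.map (algebraMap Γ(X, W.1) Γ(X, X.basicOpen g')) := by
      refine (hW.res (V := X.affineBasicOpen g') (X.basicOpen_le g')).mem fun y hy => ?_
      show X.presheaf.germ (X.basicOpen g') y hy (X.presheaf.map _ (X.presheaf.map _ b)) ∈ S y
      rw [X.presheaf.germ_res_apply, X.presheaf.germ_res_apply]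
      have h1 := StalkIdeal.mem_secs.1 hc y (hle hy)
      have h2 : X.presheaf.germ U.1 y (X.basicOpen_le g (hle hy)) b =
          X.presheaf.germ (X.basicOpen g) y (hle hy) c * X.presheaf.germ U.1 y (X.basicOpen_le g (hle hy)) (g ^ k) := by
        have := congrArg (X.presheaf.germ (X.basicOpen g) y (hle hy)) hbc
        simp only [RingHom.algebraMap_toAlgebra, map_mul] at this
        erw [X.presheaf.germ_res_apply, X.presheaf.germ_res_apply] at this
        exact this.symm
      rw [h2]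
      exact Ideal.mul_mem_right _ _ h1
    rw [IsLocalization.algebraMap_mem_map_algebraMap_iff (Submonoid.powers g')] at hmem
    obtain ⟨_, ⟨n, rfl⟩, hn⟩ := hmem
    refine ⟨W, n, hxr, fun y hy hyU => ?_⟩
    have h3 := Ideal.mem_map_of_mem (X.presheaf.germ W.1 y hy).hom hn
    rw [hW y hy]
    refine (iff_of_eq (congrArg (· ∈ K'.map _) ?_)).1 h3
    show X.presheaf.germ W.1 y hy (g' ^ n * b') = _
    rw [map_mul, map_pow, map_mul, map_pow, X.presheaf.germ_res_apply, X.presheaf.germ_res_apply]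
  choose W n hW hn using key
  obtain ⟨t, ht⟩ := U.2.isCompact.elim_finite_subcover (fun x : U.1 => ((W x).1 : Set X))
    (fun x => (W x).1.isOpen) fun x hx => Set.mem_iUnion.2 ⟨⟨x, hx⟩, hW _⟩
  let N := t.sup n
  have hN : g ^ N * b ∈ StalkIdeal.secs S U := StalkIdeal.mem_secs.2 fun y hy => by
    obtain ⟨x, hxt, hyW⟩ := Set.mem_iUnion₂.1 (ht hy)
    obtain ⟨m, hm⟩ := Nat.le.dest (Finset.le_sup (f := n) hxt)
    rw [show N = n x + m from hm.symm, pow_add, mul_right_comm, map_mul]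
    exact Ideal.mul_mem_right _ _ (hn x y hyW hy)
  have hu : IsUnit (algebraMap Γ(X, U.1) Γ(X, X.basicOpen g) (g ^ (N + k))) :=
    IsLocalization.map_units _ (⟨g ^ (N + k), _, rfl⟩ : Submonoid.powers g)
  rw [← Ideal.mul_unit_mem_iff_mem _ hu, pow_add, map_mul, mul_left_comm, hbc, ← map_mul]
  exact Ideal.mem_map_of_mem _ hN

variable (S) in
/-- The ideal sheaf with prescribed locally generated stalks. -/
def ofStalks (hS : ∀ x : X, ∃ (U : X.affineOpens) (K : Ideal Γ(X, U.1)), x ∈ U.1 ∧ GenI S U K) :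
    X.IdealSheafData :=
  { ideal := StalkIdeal.secs S
    map_ideal_basicOpen := map_secs_basicOpen hS }

theorem sI_ofStalks (hS : ∀ x : X, ∃ (U : X.affineOpens) (K : Ideal Γ(X, U.1)), x ∈ U.1 ∧ GenI S U K) (x : X) :
    StalkIdeal.sI (ofStalks S hS) x = S x := by
  obtain ⟨U, K, hxU, hU⟩ := hS x
  have e : (ofStalks S hS).ideal U = K := le_antisymm (fun b hb => hU.mem (StalkIdeal.mem_secs.1 hb))
    fun b hb => StalkIdeal.mem_secs.2 fun y hy => hU y hy ▸ Ideal.mem_map_of_mem _ hb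
  rw [StalkIdeal.sI_eq _ U hxU, CDivEq.stk, e, hU x hxU]

end ofStalks

variable {M Q : X.Modules} (φ : M ⟶ Q) {r : ℕ}

/-- The ideal of the coordinates of a map of modules at a point. -/
def coordIdeal (x : X) : Ideal (X.presheaf.stalk x) :=
  ⨆ μ : Q.presheaf.stalk x →ₗ[X.presheaf.stalk x] X.presheaf.stalk x,
    LinearMap.range (μ.comp (Algz.stalkMapₗ φ x))

theorem coordIdeal_eq {x : X} (b : Module.Basis (Fin r) (X.presheaf.stalk x) (Q.presheaf.stalk x)) :
    coordIdeal φ x = ⨆ l, LinearMap.range ((b.coord l).comp (Algz.stalkMapₗ φ x)) := by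
  refine le_antisymm (iSup_le fun μ => ?_) (iSup_le fun l => le_iSup_of_le (b.coord l) le_rfl)
  rintro _ ⟨m, rfl⟩
  rw [LinearMap.comp_apply, ← b.sum_repr (Algz.stalkMapₗ φ x m), map_sum]
  refine Ideal.sum_mem _ fun l _ => ?_
  rw [map_smul, smul_eq_mul]
  exact Ideal.mul_mem_right _ _ (Submodule.mem_iSup_of_mem l ⟨m, rfl⟩)

theorem stalk_mem_coordIdeal_iff {x : X} (J : Ideal (X.presheaf.stalk x)) :
    coordIdeal φ x ≤ J ↔ ∀ (μ : Q.presheaf.stalk x →ₗ[X.presheaf.stalk x] X.presheaf.stalk x)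
      (m : M.presheaf.stalk x), μ (Algz.stalkMapₗ φ x m) ∈ J := by
  rw [coordIdeal, iSup_le_iff]
  exact ⟨fun h μ m => h μ ⟨m, rfl⟩, fun h μ => by rintro _ ⟨m, rfl⟩; exact h μ m⟩

theorem linearIndependent_germ {U : X.Opens} {s : Fin r → Γ(Q, U)} (hs : Frame.IsFrame Q s) {x : X} (hx : x ∈ U) :
    LinearIndependent (X.presheaf.stalk x) fun i => Q.presheaf.germ U x hx (s i) := by
  rw [Fintype.linearIndependent_iff]
  intro g hg
  have hg' : ∀ i, ∃ (W : X.Opens) (hxW : x ∈ W) (c : Γ(X, W)), X.presheaf.germ W x hxW c = g i := fun i =>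
    X.presheaf.germ_exist (g i)
  choose W hxW c hc using hg'
  let V : X.Opens := (Finset.univ.inf W) ⊓ U
  have hVW : ∀ i, V ≤ W i := fun i => inf_le_left.trans (Finset.inf_le (Finset.mem_univ i))
  have hxV : x ∈ V :=
    ⟨Finset.inf_induction (p := fun O : X.Opens => x ∈ O) trivial (fun _ ha _ hb => ⟨ha, hb⟩) fun i _ => hxW i, hx⟩
  let c' : Fin r → Γ(X, V) := fun i => X.presheaf.map (homOfLE (hVW i)).op (c i)
  have h0 : Q.presheaf.germ V x hxV (Frame.comb Q s V inf_le_right c') = 0 := by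
    rw [Frame.comb, map_sum]
    refine Eq.trans (Finset.sum_congr rfl fun i _ => ?_) hg
    erw [QCoh.germ_smul', X.presheaf.germ_res_apply, Q.presheaf.germ_res_apply]
    rw [hc]
  obtain ⟨W', hxW', a, b', ha⟩ := TopCat.Presheaf.germ_eq (C := AddCommGrpCat.{u}) Q.presheaf x hxV hxV
    (Frame.comb Q s V inf_le_right c') 0 (h0.trans (map_zero (Q.presheaf.germ V x hxV).hom).symm)
  rw [map_zero] at ha
  have hW'U : W' ≤ U := a.le.trans inf_le_right
  have hcomb : Frame.comb Q s W' hW'U (fun i => X.presheaf.map a.op (c' i)) = 0 := by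
    rw [← ha, Frame.comb, Frame.comb, map_sum]
    refine Finset.sum_congr rfl fun i _ => ?_
    rw [Scheme.Modules.map_smul]
    congr 1
    rw [← ConcreteCategory.comp_apply, ← Q.presheaf.map_comp]
    rfl
  have hz : (fun i => X.presheaf.map a.op (c' i)) = 0 := (hs W' hW'U).1 (hcomb.trans (by simp [Frame.comb]))
  intro i
  have := congrArg (X.presheaf.germ W' x hxW') (congrFun hz i)
  rw [Pi.zero_apply, map_zero] at this
  erw [X.presheaf.germ_res_apply, X.presheaf.germ_res_apply] at this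
  exact (hc i).symm.trans this

theorem span_germ_frame {U : X.Opens} {s : Fin r → Γ(Q, U)} (hs : Frame.IsFrame Q s) {x : X} (hx : x ∈ U) :
    ⊤ ≤ Submodule.span (X.presheaf.stalk x) (Set.range fun i => Q.presheaf.germ U x hx (s i)) := by
  intro q _
  obtain ⟨W, hxW, t, rfl⟩ := Q.presheaf.exists_germ_eq q
  obtain ⟨c, hc⟩ := (hs (W ⊓ U) inf_le_right).2 (Q.presheaf.map (homOfLE inf_le_left).op t)
  have h := congrArg (Q.presheaf.germ (W ⊓ U) x ⟨hxW, hx⟩) hc
  erw [Q.presheaf.germ_res_apply] at h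
  rw [← h, Frame.comb, map_sum]
  refine Submodule.sum_mem _ fun i _ => ?_
  erw [QCoh.germ_smul', Q.presheaf.germ_res_apply]
  exact Submodule.smul_mem _ _ (Submodule.subset_span ⟨i, rfl⟩)

theorem exists_genI (hM : Coh.IsQCoh M) (hQ : FlatMod.IsFinLocFreeOfRank r Q) (x : X) :
    ∃ (U : X.affineOpens) (K : Ideal Γ(X, U.1)), x ∈ U.1 ∧ GenI (coordIdeal φ) U K := by
  obtain ⟨V, hxV, ⟨e⟩⟩ := hQ x
  obtain ⟨s, hs⟩ := Frame.exists_frame e
  obtain ⟨_, ⟨U, hU, rfl⟩, hxU, hUV⟩ := X.isBasis_affineOpens.exists_subset_of_mem_open hxV V.2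
  have hU' : IsAffineOpen U := hU
  have hle : U ≤ V := hUV
  choose c hc using fun m : Γ(M, U) => (hs U hle).2 (φ.app U m)
  refine ⟨⟨U, hU'⟩, Ideal.span (Set.range fun p : Γ(M, U) × Fin r => c p.1 p.2), hxU, fun y hy => ?_⟩
  let b := Module.Basis.mk (linearIndependent_germ hs (hle hy)) (span_germ_frame hs (hle hy))
  have hb : ∀ (m : Γ(M, U)) (l : Fin r),
      b.coord l (Algz.stalkMapₗ φ y (M.presheaf.germ U y hy m)) = X.presheaf.germ U y hy (c m l) := fun m l => by
    rw [show Algz.stalkMapₗ φ y (M.presheaf.germ U y hy m) = Q.presheaf.germ U y hy (φ.app U m) from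
      QuotFunLib.smap_germ φ U hy m, ← hc m, Frame.comb, map_sum, map_sum, Finset.sum_eq_single l]
    · erw [QCoh.germ_smul', Q.presheaf.germ_res_apply]
      rw [map_smul, show Q.presheaf.germ V y (hle hy) (s l) = b l from (Module.Basis.mk_apply (linearIndependent_germ hs (hle hy)) (span_germ_frame hs (hle hy)) l).symm,
        Module.Basis.coord_apply, Module.Basis.repr_self, Finsupp.single_eq_same, smul_eq_mul, mul_one]
    · intro i _ hi
      erw [QCoh.germ_smul', Q.presheaf.germ_res_apply]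
      rw [map_smul, show Q.presheaf.germ V y (hle hy) (s i) = b i from (Module.Basis.mk_apply (linearIndependent_germ hs (hle hy)) (span_germ_frame hs (hle hy)) i).symm,
        Module.Basis.coord_apply, Module.Basis.repr_self, Finsupp.single_eq_of_ne hi.symm, smul_zero]
    · intro h; exact absurd (Finset.mem_univ l) h
  rw [coordIdeal_eq φ b, Ideal.map_span, ← Set.range_comp]
  refine le_antisymm (iSup_le fun l => ?_) (Ideal.span_le.2 ?_)
  · rintro _ ⟨z, rfl⟩
    letI := QCoh.stalkModule M hy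
    haveI := QCoh.isLocalizedModule_germLin hM hU' hy
    obtain ⟨⟨m, t⟩, hmt⟩ := IsLocalizedModule.surj (hU'.primeIdealOf ⟨y, hy⟩).asIdeal.primeCompl
      (QCoh.germLin M hy) z
    have ht : IsUnit (X.presheaf.germ U y hy (t : Γ(X, U))) :=
      (X.mem_basicOpen _ y hy).1 ((QCoh.mem_basicOpen_iff_notMem hU' hy _).2 t.2)
    have h1 : X.presheaf.germ U y hy (t : Γ(X, U)) • z = M.presheaf.germ U y hy m := hmt
    rw [LinearMap.comp_apply, ← Ideal.unit_mul_mem_iff_mem _ ht, ← smul_eq_mul, ← map_smul, ← map_smul, h1, hb]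
    exact Ideal.subset_span ⟨(m, l), rfl⟩
  · rintro _ ⟨⟨m, l⟩, rfl⟩
    exact Submodule.mem_iSup_of_mem l ⟨M.presheaf.germ U y hy m, hb m l⟩

/-- The ideal sheaf of the zero scheme of `φ`. -/
def zeroIdeal (hM : Coh.IsQCoh M) (hQ : FlatMod.IsFinLocFreeOfRank r Q) : X.IdealSheafData :=
  ofStalks (coordIdeal φ) (exists_genI φ hM hQ)

theorem sI_bot (x : X) : StalkIdeal.sI (⊥ : X.IdealSheafData) x = ⊥ := by
  obtain ⟨_, ⟨U, hU, rfl⟩, hx, -⟩ := X.isBasis_affineOpens.exists_subset_of_mem_open (Set.mem_univ x) isOpen_univ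
  rw [StalkIdeal.sI_eq _ ⟨U, hU⟩ hx, CDivEq.stk, Scheme.IdealSheafData.ideal_bot, Pi.bot_apply, Ideal.map_bot]

theorem pullback_map_eq_zero_iff (hM : Coh.IsQCoh M) (hQ : FlatMod.IsFinLocFreeOfRank r Q) {T : Scheme.{u}}
    (h : T ⟶ X) :
    (Scheme.Modules.pullback h).map φ = 0 ↔ (zeroIdeal φ hM hQ).comap h = ⊥ := by
  have hst : ∀ y : T, (∀ m : M.presheaf.stalk (h y),
      Algz.stalkMapₗ ((Scheme.Modules.pullback h).map φ) y (QuotFunLib.pm h M y m) = 0) ↔
      StalkIdeal.sI ((zeroIdeal φ hM hQ).comap h) y = ⊥ := fun y => by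
    rw [StalkIdeal.sI_comap, zeroIdeal, sI_ofStalks, eq_bot_iff, Ideal.map_le_iff_le_comap,
      stalk_mem_coordIdeal_iff]
    obtain ⟨b⟩ := CurveTensor.exists_basis_stalk hQ (h y)
    obtain ⟨b', hb'⟩ : ∃ b' : Module.Basis (Fin r) (T.presheaf.stalk y)
        (((Scheme.Modules.pullback h).obj Q).presheaf.stalk y), ∀ l, b' l = QuotFunLib.pm h Q y (b l) := by
      algebraize [(h.stalkMap y).hom]
      exact ⟨(b.baseChange (T.presheaf.stalk y)).map ((KFlatLib.stalkPullbackIso h y).app Q).toLinearEquiv.symm,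
        fun l => by rw [Module.Basis.map_apply, Module.Basis.baseChange_apply]; rfl⟩
    have key : ∀ q, QuotFunLib.pm h Q y q = ∑ l, (h.stalkMap y).hom (b.repr q l) • b' l := fun q => by
      conv_lhs => rw [← b.sum_repr q, QuotFunLib.pm_sum]
      exact Finset.sum_congr rfl fun l _ => by rw [QuotFunLib.pm_smul, hb']
    constructor
    · intro hz μ m
      have h1 := hz m
      rw [← QuotFunLib.pm_nat, key] at h1
      have h2 := Fintype.linearIndependent_iff.1 b'.linearIndependent _ h1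
      rw [Ideal.mem_comap, Ideal.mem_bot, ← b.sum_repr (Algz.stalkMapₗ φ (h y) m), map_sum, map_sum]
      refine Finset.sum_eq_zero fun l _ => ?_
      rw [map_smul, smul_eq_mul, map_mul, show (h.stalkMap y).hom (b.repr (Algz.stalkMapₗ φ (h y) m) l) = 0 from h2 l,
        zero_mul]
    · intro hz m
      rw [← QuotFunLib.pm_nat, key]
      exact Finset.sum_eq_zero fun l _ => by
        rw [show (h.stalkMap y).hom (b.repr (QuotFunLib.smap φ (h y) m) l) = 0 from hz (b.coord l) m, zero_smul]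
  constructor
  · intro h0
    refine StalkIdeal.ext_sI fun y => ?_
    rw [(hst y).1 (fun m => ?_), sI_bot]
    rw [h0]
    exact congr($((DerSch.stalkFunctor T y).map_zero _ _) _)
  · intro h0
    refine Synt29.ConormalExact.hom_ext_stalk _ _ fun y m => ?_
    have hy := (hst y).2 (by rw [h0, sI_bot])
    have hlin : Algz.stalkMapₗ ((Scheme.Modules.pullback h).map φ) y = 0 :=
      LinearMap.ext_on (QuotFunLib.span_range_pm h M y) (by rintro _ ⟨w, rfl⟩; exact hy w)
    refine (congr($hlin m)).trans ?_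
    exact (congr($((DerSch.stalkFunctor T y).map_zero _ _) m)).symm

theorem exists_zeroScheme (hM : Coh.IsQCoh M) (hQ : FlatMod.IsFinLocFreeOfRank r Q) :
    ∃ (Z : Scheme.{u}) (ι : Z ⟶ X), IsClosedImmersion ι ∧ (Scheme.Modules.pullback ι).map φ = 0 ∧
      ∀ {T : Scheme.{u}} (h : T ⟶ X), (Scheme.Modules.pullback h).map φ = 0 → ∃ l : T ⟶ Z, l ≫ ι = h := by
  refine ⟨_, (zeroIdeal φ hM hQ).subschemeι, inferInstance, ?_, fun {T} h hh => ?_⟩
  · rw [pullback_map_eq_zero_iff φ hM hQ, eq_bot_iff, ← Scheme.IdealSheafData.le_map_iff_comap_le,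
      Scheme.IdealSheafData.map_bot, Scheme.IdealSheafData.ker_subschemeι]
  · rw [pullback_map_eq_zero_iff φ hM hQ, eq_bot_iff, ← Scheme.IdealSheafData.le_map_iff_comap_le,
      Scheme.IdealSheafData.map_bot] at hh
    exact ⟨IsClosedImmersion.lift _ h (by rwa [Scheme.IdealSheafData.ker_subschemeι]), IsClosedImmersion.lift_fac _ _ _⟩

end Groth.Agent.H23.ModZero
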