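import Mathlib.AlgebraicGeometry.Sites.Representability

/-!
Representability of a Zariski sheaf on schemes with an open cover by representable subfunctors, element-wise.
-/

set_option autoImplicit false
set_option backward.isDefEq.respectTransparency false
set_option linter.style.haveILetI false

universe u

open CategoryTheory CategoryTheory.Limits AlgebraicGeometry Opposite

noncomputable section

namespace Groth.Agent.H23.RepCharts

variable (F : Scheme.{u}ᵒᵖ ⥤ Type u)

theorem isSheaf_of_covers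
    (h : ∀ {Y : Scheme.{u}} (𝒰 : Scheme.OpenCover.{u} Y), Presieve.IsSheafFor F (Presieve.ofArrows 𝒰.X 𝒰.f)) :
    Presieve.IsSheaf Scheme.zariskiTopology F := by
  intro Y R hR
  obtain ⟨𝒰, h𝒰⟩ := Scheme.mem_grothendieckTopology_iff.1 hR
  refine Presieve.isSheafFor_subsieve F (S := Sieve.generate (Presieve.ofArrows 𝒰.X 𝒰.f)) ?_ fun Y' a => ?_
  · rintro Z k ⟨W, l, m, hm, rfl⟩
    exact R.downward_closed (h𝒰 _ _ hm) l
  · rw [← Sieve.pullbackArrows_comm, ← Presieve.isSheafFor_iff_generate, ← Presieve.ofArrows_pullback]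
    exact h (Precoverage.ZeroHypercover.pullback₂ a 𝒰)

/-- A sheaf covered by representable open subfunctors is representable. -/
theorem exists_univ (hF : Presieve.IsSheaf Scheme.zariskiTopology F)
    {ι : Type u} (H : ι → Scheme.{u}) (el : ∀ i, F.obj (op (H i)))
    (W : ∀ (T : Scheme.{u}), F.obj (op T) → ι → T.Opens)
    (hW : ∀ (i : ι) {T : Scheme.{u}} (p : F.obj (op T)) {T' : Scheme.{u}} (a : T' ⟶ T),
      (∃ c : T' ⟶ H i, F.map c.op (el i) = F.map a.op p) ↔ Set.range a ⊆ (W T p i : Set T))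
    (hmono : ∀ (i : ι) {T : Scheme.{u}} (c c' : T ⟶ H i), F.map c.op (el i) = F.map c'.op (el i) → c = c')
    (hcov : ∀ {T : Scheme.{u}} (p : F.obj (op T)) (t : T), ∃ i, t ∈ W T p i) :
    ∃ (G : Scheme.{u}) (x : F.obj (op G)), ∀ (T : Scheme.{u}) (p : F.obj (op T)), ∃! h : T ⟶ G, F.map h.op x = p := by
  let F' : Sheaf Scheme.zariskiTopology.{u} (Type u) := ⟨F, (isSheaf_iff_isSheaf_of_type _ _).2 hF⟩
  let fam : ∀ i, yoneda.obj (H i) ⟶ F'.1 := fun i => yonedaEquiv.symm (el i)
  have hfam : ∀ i {T : Scheme.{u}} (c : T ⟶ H i), (fam i).app (op T) c = F.map c.op (el i) := fun i {T} c => rfl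
  have hmm : ∀ {A B C : Scheme.{u}} (a : A ⟶ B) (b : B ⟶ C) (p : F.obj (op C)),
      F.map a.op (F.map b.op p) = F.map (a ≫ b).op p := fun a b p => (FunctorToTypes.map_comp_apply F _ _ p).symm
  have hopen : ∀ i, IsOpenImmersion.presheaf (fam i) := fun i => by
    refine MorphismProperty.relative.of_exists fun T y => ?_
    let p : F.obj (op T) := yonedaEquiv y
    let O : T.Opens := W T p i
    obtain ⟨g, hg⟩ := (hW i p O.ι).2 (by rw [Scheme.Opens.range_ι])
    have hy : ∀ {T' : Scheme.{u}} (a : T' ⟶ T), y.app (op T') a = F.map a.op p := fun {T'} a => by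
      conv_lhs => rw [← Equiv.symm_apply_apply yonedaEquiv y]
      rfl
    refine ⟨(O : Scheme.{u}), yoneda.map g, O.ι, ?_, inferInstance⟩
    refine IsPullback.of_forall_isPullback_app fun ⟨T'⟩ => ?_
    rw [CategoryTheory.Limits.Types.isPullback_iff]
    refine ⟨?_, fun c c' h => (cancel_mono O.ι).1 h.2, fun (c : T' ⟶ H i) (a : T' ⟶ T) h => ?_⟩
    · ext c
      show (fam i).app (op T') (c ≫ g) = y.app (op T') (c ≫ O.ι)
      rw [hfam, hy, ← hmm, hg, hmm]
    · have h' : F.map c.op (el i) = F.map a.op p := (hfam i c).symm.trans (h.trans (hy a))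
      have hr : Set.range a ⊆ Set.range O.ι := by
        rw [Scheme.Opens.range_ι]
        exact (hW i p a).1 ⟨c, h'⟩
      let l := IsOpenImmersion.lift O.ι a hr
      have hl : l ≫ O.ι = a := IsOpenImmersion.lift_fac _ _ _
      refine ⟨l, hmono i _ _ ?_, hl⟩
      show F.map (l ≫ g).op (el i) = F.map c.op (el i)
      rw [← hmm, hg, hmm, hl, h']
  haveI : Presheaf.IsLocallySurjective Scheme.zariskiTopology (Sigma.desc fam) := by
    refine ⟨fun {T} s => ?_⟩
    let 𝒱 : Scheme.OpenCover.{u} T := T.openCoverOfIsOpenCover (fun i => W T s i)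
      (TopologicalSpace.IsOpenCover.mk (eq_top_iff.2 fun t _ =>
        TopologicalSpace.Opens.mem_iSup.2 (hcov s t)))
    refine GrothendieckTopology.superset_covering _ ?_ 𝒱.mem_grothendieckTopology
    rintro T' k ⟨_, l, m, ⟨i⟩, rfl⟩
    refine Sieve.downward_closed _ ?_ l
    let O : T.Opens := W T s i
    obtain ⟨g, hg⟩ := (hW i s O.ι).2 (by rw [Scheme.Opens.range_ι])
    refine ⟨(Sigma.ι (fun i => yoneda.obj (H i)) i).app (op (O : Scheme.{u})) g, ?_⟩
    show ((Sigma.ι (fun i => yoneda.obj (H i)) i ≫ Sigma.desc fam).app (op (O : Scheme.{u}))) g = _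
    rw [Sigma.ι_desc]
    exact (hfam i g).trans hg
  let R := Scheme.LocalRepresentability.representableBy hopen
  let G : Scheme.{u} := (Scheme.LocalRepresentability.glueData hopen).glued
  let e : ∀ {T : Scheme.{u}}, (T ⟶ G) ≃ F.obj (op T) := fun {T} => R.homEquiv
  have he : ∀ {T : Scheme.{u}} (a : T ⟶ G), e a = F.map a.op (e (𝟙 G)) := fun a => by
    simpa using R.homEquiv_comp a (𝟙 G)
  refine ⟨G, e (𝟙 G), fun T p => ⟨e.symm p, ?_, fun h hh => ?_⟩⟩
  · show F.map (e.symm p).op _ = p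
    rw [← he, Equiv.apply_symm_apply]
  · rw [Equiv.eq_symm_apply, he]; exact hh

end Groth.Agent.H23.RepCharts
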