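import Groth.Agent.H23.GrassRep
import Groth.Agent.SegreX.Coord

/-!
The Plücker immersion of a scheme representing the Grassmannian functor of a free module.
-/

set_option autoImplicit false
set_option backward.isDefEq.respectTransparency false
set_option linter.style.haveILetI false

universe u

open TensorProduct CategoryTheory CategoryTheory.Limits AlgebraicGeometry

namespace Groth.Agent.H23.GrassPlucker

open Synt29 Synt29.GrassGraph Synt29.RepOpen Synt29.LG GrassRep
open Module (Grassmannian)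

variable {R : Type u} [CommRing R] {d k : ℕ}

/-- The increasing enumeration of a set of columns. -/
noncomputable def en (S : Idx d k) : Fin k ≃ S.1 := (S.1.orderIsoOfFin S.2).toEquiv

section Alg

variable {A : Type u} [CommRing A] [Algebra R A]

/-- The minor matrix of a graph at a set of columns. -/
noncomputable def mat (S : Idx d k) (v : {c // c ∉ S.1} → S.1 → A) (T : Idx d k) : Matrix (Fin k) (Fin k) A :=
  Matrix.of fun a b => proj (R := R) S.1 v (bas A (en T b).1) (en S a)

/-- A Plücker coordinate. -/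
noncomputable def pl (S : Idx d k) (v : {c // c ∉ S.1} → S.1 → A) (T : Idx d k) : A :=
  (mat (R := R) S v T).det

theorem pl_self (S : Idx d k) (v : {c // c ∉ S.1} → S.1 → A) : pl (R := R) S v S = 1 := by
  classical
  have : mat (R := R) S v S = 1 := by
    refine Matrix.ext fun a b => ?_
    rw [mat, Matrix.of_apply, proj_bas_mem, Pi.single_apply, Matrix.one_apply]
    simp [(en S).injective.eq_iff]
  rw [pl, this, Matrix.det_one]

theorem map_pl {B : Type u} [CommRing B] [Algebra R B] (φ : A →ₐ[R] B) (S : Idx d k)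
    (v : {c // c ∉ S.1} → S.1 → A) (T : Idx d k) :
    φ (pl (R := R) S v T) = pl (R := R) S (fun a b => φ (v a b)) T := by
  rw [pl, pl, AlgHom.map_det]
  congr 1
  refine Matrix.ext fun a b => ?_
  simp only [AlgHom.mapMatrix_apply, Matrix.map_apply, mat, Matrix.of_apply]
  have := congrFun (proj_ι φ S.1 v (bas (R := R) A (en T b).1)) (en S a)
  rw [ι_bas] at this
  exact this.symm

theorem pl_change (S S' : Idx d k) (v : {c // c ∉ S.1} → S.1 → A) (v' : {c // c ∉ S'.1} → S'.1 → A)
    (h : graph (R := R) S.1 S.2 v = graph S'.1 S'.2 v') (T : Idx d k) :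
    pl (R := R) S' v' T = pl (R := R) S' v' S * pl (R := R) S v T := by
  classical
  have hker : LinearMap.ker (proj (R := R) S.1 v) = LinearMap.ker (proj (R := R) S'.1 v') :=
    congrArg Grassmannian.toSubmodule h
  have hfac : ∀ x, proj (R := R) S'.1 v' x = proj (R := R) S'.1 v' (sect S.1 (proj (R := R) S.1 v x)) := fun x => by
    have hx : x - sect S.1 (proj (R := R) S.1 v x) ∈ LinearMap.ker (proj (R := R) S.1 v) := by
      rw [LinearMap.mem_ker, map_sub, proj_sect, sub_self]
    rw [hker, LinearMap.mem_ker, map_sub, sub_eq_zero] at hx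
    exact hx
  rw [pl, pl, pl, ← Matrix.det_mul]
  congr 1
  refine Matrix.ext fun a b => ?_
  rw [Matrix.mul_apply, mat, Matrix.of_apply, hfac]
  rw [sect, Module.Basis.constr_apply_fintype, map_sum, Finset.sum_apply,
    ← (en S).sum_comp]
  refine Finset.sum_congr rfl fun c _ => ?_
  rw [map_smul, Pi.smul_apply, smul_eq_mul, mul_comm]
  simp [mat, Module.Basis.equivFun_apply]

theorem inChart_iff_isUnit (S S' : Idx d k) (v : {c // c ∉ S'.1} → S'.1 → A) :
    InChart S.1 (graph (R := R) S'.1 S'.2 v) ↔ IsUnit (pl (R := R) S' v S) := by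
  classical
  constructor
  · intro h
    obtain ⟨w, hw, -⟩ := h.exists_eq S.2
    refine IsUnit.of_mul_eq_one (pl (R := R) S w S') ?_
    rw [← pl_change S S' w v hw.symm S', pl_self]
  · intro h q
    obtain ⟨x, rfl⟩ := Submodule.mkQ_surjective _ q
    obtain ⟨y, hy⟩ := (Matrix.mulVec_surjective_iff_isUnit.2 ((Matrix.isUnit_iff_isUnit_det (mat (R := R) S' v S)).2 h))
      (fun a => proj (R := R) S'.1 v x (en S' a))
    refine ⟨fun c => y ((en S).symm c), ?_⟩
    rw [colMap, LinearMap.comp_apply, Submodule.mkQ_apply, Submodule.mkQ_apply, Submodule.Quotient.eq,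
      graph_toSubmodule, LinearMap.mem_ker, map_sub, sub_eq_zero]
    funext a
    obtain ⟨a, rfl⟩ := (en S').surjective a
    rw [← congrFun hy a, sect, Module.Basis.constr_apply_fintype, map_sum, Finset.sum_apply, ← (en S).sum_comp]
    simp only [Matrix.mulVec, dotProduct, mat, Matrix.of_apply]
    refine Finset.sum_congr rfl fun c _ => ?_
    rw [map_smul, Pi.smul_apply, smul_eq_mul, mul_comm]
    simp [Module.Basis.equivFun_apply]

theorem exists_pl_eq (S : Idx d k) (v : {c // c ∉ S.1} → S.1 → A) (c : {c // c ∉ S.1}) (c' : S.1) :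
    ∃ T : Idx d k, ∃ s : ℤˣ, pl (R := R) S v T = (s : ℤ) * v c c' := by
  classical
  let T : Idx d k := ⟨insert c.1 (S.1.erase c'.1), by
    rw [Finset.card_insert_of_notMem (fun h => c.2 (Finset.mem_of_mem_erase h)), Finset.card_erase_of_mem c'.2,
      Nat.sub_add_cancel (Finset.card_pos.2 ⟨_, c'.2⟩), S.2]⟩
  have hT : ∀ b, (en T b).1 ≠ c.1 → (en T b).1 ∈ S.1 ∧ (en T b).1 ≠ c'.1 := fun b hb => by
    have := Finset.mem_erase.1 ((Finset.mem_insert.1 (en T b).2).resolve_left hb)
    exact ⟨this.2, this.1⟩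
  let π : Fin k → Fin k := fun b =>
    if h : (en T b).1 = c.1 then (en S).symm c' else (en S).symm ⟨_, (hT b h).1⟩
  have hπ : Function.Injective π := by
    intro a b hab
    apply (en T).injective
    refine Subtype.ext ?_
    simp only [π] at hab
    split_ifs at hab with h1 h2 h2
    · rw [h1, h2]
    · exact absurd (congrArg Subtype.val ((en S).symm.injective hab)).symm (hT b h2).2
    · exact absurd (congrArg Subtype.val ((en S).symm.injective hab)) (hT a h1).2
    · have := congrArg Subtype.val ((en S).symm.injective hab)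
      exact this
  let σ : Equiv.Perm (Fin k) := Equiv.ofBijective π ⟨hπ, Finite.surjective_of_injective hπ⟩
  refine ⟨T, Equiv.Perm.sign σ, ?_⟩
  have hm : mat (R := R) S v T =
      ((1 : Matrix (Fin k) (Fin k) A).updateCol ((en S).symm c') (fun a => v c (en S a))).submatrix id σ := by
    refine Matrix.ext fun a b => ?_
    rw [Matrix.submatrix_apply, mat, Matrix.of_apply, id_eq]
    by_cases hb : (en T b).1 = c.1
    · have : σ b = (en S).symm c' := by simp [σ, π, hb]
      rw [this, Matrix.updateCol_self, hb, proj_bas_notMem]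
    · have hσ : σ b = (en S).symm ⟨_, (hT b hb).1⟩ := by simp [σ, π, hb]
      have hne : σ b ≠ (en S).symm c' := fun e =>
        (hT b hb).2 (congrArg Subtype.val ((en S).symm.injective (hσ.symm.trans e)))
      rw [Matrix.updateCol_ne hne, hσ, show proj (R := R) S.1 v (bas A (en T b).1) =
        Pi.single (⟨_, (hT b hb).1⟩ : S.1) 1 from proj_bas_mem S.1 v ⟨_, (hT b hb).1⟩, Pi.single_apply,
        Matrix.one_apply]
      simp [Equiv.eq_symm_apply]
  rw [pl, hm, Matrix.det_permute', ← Matrix.cramer_apply, Matrix.cramer_one]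
  simp

end Alg

variable {X : Over (Spec (CommRingCat.of R))} {e : ∀ A, (sp A ⟶ X) ≃ (F R d k).obj A} (he : IsNat X (F R d k) e)
variable {N : ℕ} (ix : Fin (N + 1) ≃ Idx d k)

/-- The homogeneous coordinates on a chart. -/
noncomputable def crds (S : Idx d k) (l : Fin (N + 1)) : Γ((sp (chart (R := R) S).C).left, ⊤) :=
  (Scheme.ΓSpecIso (CommRingCat.of (MvPolynomial (Var S.1) R))).inv (pl (R := R) S (uX S.1) (ix l))

theorem crds_self (S : Idx d k) : crds (R := R) ix S (ix.symm S) = 1 := by
  rw [crds, Equiv.apply_symm_apply, pl_self, _root_.map_one]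

/-- The Plücker morphism on a chart. -/
noncomputable def qS (S : Idx d k) : (sp (chart (R := R) S).C).left ⟶ CohB1.ProjSpace N (ULift.{u} ℤ) :=
  SegreX.ptS (crds ix S) (ix.symm S) (by rw [crds_self]; exact isUnit_one)

/-- The projection of projective space over the base to the integral one. -/
noncomputable abbrev prFst (R : Type u) [CommRing R] (N : ℕ) :
    CohB1.ProjSpaceOver N (Spec (CommRingCat.of R)) ⟶ CohB1.ProjSpace N (ULift.{u} ℤ) :=
  pullback.fst (CohB1.ProjSpace.toSpec N (ULift.{u} ℤ)) (specULiftZIsTerminal.from _)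

theorem appTop_map {A B : Type u} [CommRing A] [CommRing B] (f : A →+* B) (x : A) :
    (Spec.map (CommRingCat.ofHom f)).appTop ((Scheme.ΓSpecIso (CommRingCat.of A)).inv x) =
      (Scheme.ΓSpecIso (CommRingCat.of B)).inv (f x) :=
  (congrArg (fun g : CommRingCat.of A ⟶ Γ(Spec (CommRingCat.of B), ⊤) => g x)
    (Scheme.ΓSpecIso_inv_naturality (CommRingCat.ofHom f))).symm

theorem appTop_spMap {A B : CommAlgCat.{u} R} (φ : A ⟶ B) (x : A) :
    (spMap φ).appTop ((Scheme.ΓSpecIso (CommRingCat.of A)).inv x) =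
      (Scheme.ΓSpecIso (CommRingCat.of B)).inv (φ.hom x) :=
  (congrArg (fun f : CommRingCat.of A ⟶ Γ(Spec (CommRingCat.of B), ⊤) => f x)
    (Scheme.ΓSpecIso_inv_naturality (CommRingCat.ofHom φ.hom.toRingHom))).symm

include he in
theorem qS_compat_affine {S S' : Idx d k} {A : CommAlgCat.{u} R} (φ : (chart (R := R) S).C ⟶ A)
    (φ' : (chart (R := R) S').C ⟶ A) (h : spOver φ ≫ chartHom e S = spOver φ' ≫ chartHom e S') :
    spMap φ ≫ qS ix S = spMap φ' ≫ qS ix S' := by
  have h' := congrArg (e A) h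
  rw [he, he, e_chartHom, e_chartHom, map_graph_functor, map_graph_functor] at h'
  rw [qS, qS, SegreX.comp_ptS, SegreX.comp_ptS]
  refine (SegreX.ptS_scale _ _ ((Scheme.ΓSpecIso (CommRingCat.of A)).inv
    (pl (R := R) S' (fun a b => φ'.hom (uX S'.1 a b)) S)) (fun l => ?_) (ix.symm S) (ix.symm S') _ _).symm
  rw [crds, crds]
  erw [appTop_spMap φ', appTop_spMap φ]
  erw [map_pl φ.hom, map_pl φ'.hom]
  rw [← _root_.map_mul]
  exact congrArg _ (pl_change S S' _ _ h' _)

/-- The cover by standard charts. -/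
noncomputable def cover : X.left.OpenCover :=
  .mkOfCovers (Idx d k) (fun S => (sp (chart (R := R) S).C).left) (fun S => (chartHom e S).left)
    (fun x => by obtain ⟨S, y, hy⟩ := exists_mem_range he x; exact ⟨S, y, hy⟩)
    (fun S => isOpenImmersion_chartHom he S)

include he in
theorem qS_compat (S S' : Idx d k) :
    pullback.fst (chartHom e S).left (chartHom e S').left ≫ qS ix S =
      pullback.snd (chartHom e S).left (chartHom e S').left ≫ qS ix S' := by
  set P := pullback (chartHom e S).left (chartHom e S').left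
  refine Scheme.Cover.hom_ext P.affineCover _ _ fun i => ?_
  let T : Over (Spec (CommRingCat.of R)) :=
    Over.mk (P.affineCover.f i ≫ pullback.fst _ _ ≫ (sp (chart (R := R) S).C).hom)
  have : IsAffine T.left := inferInstanceAs (IsAffine (P.affineCover.X i))
  obtain ⟨A, ⟨iA⟩⟩ := exists_sp_iso T
  let a : T ⟶ sp (chart (R := R) S).C := Over.homMk (P.affineCover.f i ≫ pullback.fst _ _) (Category.assoc _ _ _)
  let b : T ⟶ sp (chart (R := R) S').C := Over.homMk (P.affineCover.f i ≫ pullback.snd _ _) (by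
    show (P.affineCover.f i ≫ pullback.snd _ _) ≫ (sp (chart (R := R) S').C).hom =
      P.affineCover.f i ≫ pullback.fst _ _ ≫ (sp (chart (R := R) S).C).hom
    rw [← Over.w (chartHom e S'), ← Over.w (chartHom e S), Category.assoc, ← pullback.condition_assoc])
  have hab : a ≫ chartHom e S = b ≫ chartHom e S' := Over.OverMorphism.ext (by
    show (P.affineCover.f i ≫ pullback.fst _ _) ≫ _ = (P.affineCover.f i ≫ pullback.snd _ _) ≫ _
    rw [Category.assoc, Category.assoc, pullback.condition])
  obtain ⟨φ, hφ⟩ := exists_spMap (iA.hom ≫ a)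
  obtain ⟨φ', hφ'⟩ := exists_spMap (iA.hom ≫ b)
  have h1 := qS_compat_affine he ix φ φ' (by rw [← hφ, ← hφ', Category.assoc, Category.assoc, hab])
  have e1 : spMap φ = iA.hom.left ≫ a.left := congrArg CommaMorphism.left hφ.symm
  have e2 : spMap φ' = iA.hom.left ≫ b.left := congrArg CommaMorphism.left hφ'.symm
  rw [e1, e2, Category.assoc, Category.assoc] at h1
  have : IsIso iA.hom.left := inferInstanceAs (IsIso ((Over.forget _).map iA.hom))
  replace h1 := (cancel_epi iA.hom.left).1 h1
  simpa [a, b] using h1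

/-- The Plücker morphism to integral projective space. -/
noncomputable def q : X.left ⟶ CohB1.ProjSpace N (ULift.{u} ℤ) :=
  (cover he).glueMorphisms (fun S => qS ix S) (fun S S' => qS_compat he ix S S')

theorem chartHom_q (S : Idx d k) : (chartHom e S).left ≫ q he ix = qS ix S :=
  (cover he).ι_glueMorphisms (fun S => qS ix S) (fun S S' => qS_compat he ix S S') S

/-- The Plücker morphism. -/
noncomputable def c : X.left ⟶ CohB1.ProjSpaceOver N (Spec (CommRingCat.of R)) :=
  pullback.lift (q he ix) X.hom (specULiftZIsTerminal.hom_ext _ _)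

theorem c_toBase : c he ix ≫ CohB1.ProjSpaceOver.toBase N (Spec (CommRingCat.of R)) = X.hom :=
  pullback.lift_snd _ _ _

theorem c_fst : c he ix ≫ prFst R N = q he ix := pullback.lift_fst _ _ _

/-- The chart of a coordinate. -/
noncomputable def dplus (l : Fin (N + 1)) : (CohB1.ProjSpace N (ULift.{u} ℤ)).Opens :=
  Proj.basicOpen (CohB1.polyGrading N (ULift.{u} ℤ)) (MvPolynomial.X l)

theorem chartHom_preimage_dplus (S : Idx d k) (l : Fin (N + 1)) :
    (chartHom e S).left ⁻¹ᵁ (q he ix ⁻¹ᵁ dplus l) =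
      PrimeSpectrum.basicOpen (pl (R := R) S (uX S.1) (ix l)) := by
  rw [← Scheme.Hom.comp_preimage, chartHom_q, dplus, qS, SegreX.ptS_preimage, crds]
  exact basicOpen_eq_of_affine _

theorem q_preimage_dplus (l : Fin (N + 1)) : q he ix ⁻¹ᵁ dplus l = chartOpen he (ix l) := by
  refine TopologicalSpace.Opens.ext (Set.ext fun x => ?_)
  obtain ⟨S', z, rfl⟩ := exists_mem_range he x
  have hgr : ∀ (B : CommAlgCat.{u} R) (φ : (chart (R := R) S').C ⟶ B),
      InChart (ix l).1 ((F R d k).map φ (e _ (chartHom e S'))) ↔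
        IsUnit (φ.hom (pl (R := R) S' (uX S'.1) (ix l))) := fun B φ => by
    rw [e_chartHom, map_graph_functor, inChart_iff_isUnit]
    erw [← map_pl φ.hom]
  have h1 : (chartHom e S').left z ∈ q he ix ⁻¹ᵁ dplus l ↔ pl (R := R) S' (uX S'.1) (ix l) ∉ z.asIdeal := by
    show z ∈ (chartHom e S').left ⁻¹ᵁ (q he ix ⁻¹ᵁ dplus l) ↔ _
    rw [chartHom_preimage_dplus]
    rfl
  refine h1.trans (Iff.trans ?_ (mem_range_iff he (chart (ix l)) (chartHom e S') z).symm)
  constructor
  · exact fun h => ⟨_, h, (hgr _ (toAway _ _)).2 (IsLocalization.Away.algebraMap_isUnit _)⟩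
  · rintro ⟨h, hh, hch⟩ hz
    obtain ⟨p, hp⟩ : z ∈ Set.range (PrimeSpectrum.comap
        (algebraMap _ (Localization.Away h))) := by
      rw [PrimeSpectrum.localization_away_comap_range (Localization.Away h) h]
      exact hh
    rw [← hp] at hz
    exact p.isPrime.ne_top (Ideal.eq_top_of_isUnit_mem _ hz ((hgr _ (toAway _ h)).1 hch))

/-- The open piece of projective space over the base. -/
noncomputable def piece (l : Fin (N + 1)) : (CohB1.ProjSpaceOver N (Spec (CommRingCat.of R))).Opens :=
  prFst R N ⁻¹ᵁ dplus l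

theorem iSup_piece : ⨆ l, piece (R := R) (N := N) l = ⊤ := by
  refine eq_top_iff.2 fun x _ => ?_
  have : ⨆ l : Fin (N + 1), dplus.{u} (N := N) l = ⊤ :=
    Proj.iSup_basicOpen_eq_top _ _ (SegreX.irrelevant_le_span N _)
  obtain ⟨l, hl⟩ := TopologicalSpace.Opens.mem_iSup.1
    (this.ge (TopologicalSpace.Opens.mem_top (prFst R N x)))
  exact TopologicalSpace.Opens.mem_iSup.2 ⟨l, hl⟩

theorem isAffineOpen_piece (l : Fin (N + 1)) : IsAffineOpen (piece (R := R) (N := N) l) := by
  haveI : IsAffineHom (specULiftZIsTerminal.from (Spec (CommRingCat.of R))) := isAffineHom_of_isAffine _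
  haveI : IsAffineHom (prFst R N) := MorphismProperty.pullback_fst _ _ inferInstance
  exact (Proj.isAffineOpen_basicOpen _ _ (ProjPt.X_mem l) one_pos).preimage _

theorem c_preimage_piece (l : Fin (N + 1)) : c he ix ⁻¹ᵁ piece l = chartOpen he (ix l) := by
  rw [piece, ← Scheme.Hom.comp_preimage, c_fst, q_preimage_dplus]

theorem appTop_toSpecΓ_map {W : Scheme.{u}} {B : Type u} [CommRing B] (g : B →+* Γ(W, ⊤)) (a : B) :
    (W.toSpecΓ ≫ Spec.map (CommRingCat.ofHom g)).appTop ((Scheme.ΓSpecIso (CommRingCat.of B)).inv a) = g a := by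
  rw [Scheme.Hom.comp_appTop, CommRingCat.comp_apply]
  erw [appTop_map g a]
  rw [Scheme.toSpecΓ_appTop]
  exact Iso.inv_hom_id_apply (Scheme.ΓSpecIso Γ(W, ⊤)) (g a)

/-- The projection of a piece of projective space to the integral chart. -/
noncomputable def pieceAway (l : Fin (N + 1)) : (piece (R := R) l).toScheme ⟶
    Spec (CommRingCat.of (HomogeneousLocalization.Away (CohB1.polyGrading N (ULift.{u} ℤ)) (MvPolynomial.X l))) :=
  IsOpenImmersion.lift (Proj.awayι (CohB1.polyGrading N (ULift.{u} ℤ)) (MvPolynomial.X l) (ProjPt.X_mem l) one_pos)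
    ((piece (R := R) l).ι ≫ prFst R N) (by
      rintro _ ⟨y, rfl⟩
      show ((piece (R := R) l).ι ≫ prFst R N) y ∈ (Proj.awayι (CohB1.polyGrading N (ULift.{u} ℤ))
        (MvPolynomial.X l) (ProjPt.X_mem l) one_pos).opensRange
      rw [show (Proj.awayι (CohB1.polyGrading N (ULift.{u} ℤ)) (MvPolynomial.X l) (ProjPt.X_mem l) one_pos).opensRange =
        dplus l from Proj.opensRange_awayι _ _ _ _]
      exact y.2)

theorem pieceAway_fac (l : Fin (N + 1)) : pieceAway (R := R) l ≫
    Proj.awayι (CohB1.polyGrading N (ULift.{u} ℤ)) (MvPolynomial.X l) (ProjPt.X_mem l) one_pos =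
      (piece (R := R) l).ι ≫ prFst R N :=
  IsOpenImmersion.lift_fac _ _ _

theorem exists_appTop_pl (S : Idx d k) (κ : (sp (chart (R := R) S).C).left ⟶ (piece (R := R) (ix.symm S)).toScheme)
    (hκ : κ ≫ (piece (R := R) (ix.symm S)).ι = (chartHom e S).left ≫ c he ix) (l : Fin (N + 1)) :
    ∃ y, κ.appTop y = crds ix S l := by
  have hu : IsUnit ((MvPolynomial.eval₂Hom (SegreX.z0 _) (crds (R := R) ix S)) (MvPolynomial.X (ix.symm S))) := by
    rw [MvPolynomial.eval₂Hom_X', crds_self]; exact isUnit_one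
  have hkr : κ ≫ pieceAway (R := R) (ix.symm S) = (sp (chart (R := R) S).C).left.toSpecΓ ≫
      Spec.map (CommRingCat.ofHom (ProjPt.coordHom (CohB1.polyGrading N (ULift.{u} ℤ))
        (MvPolynomial.eval₂Hom (SegreX.z0 _) (crds (R := R) ix S)) hu)) := by
    rw [← cancel_mono (Proj.awayι (CohB1.polyGrading N (ULift.{u} ℤ)) (MvPolynomial.X (ix.symm S))
      (ProjPt.X_mem (ix.symm S)) one_pos)]
    refine (Category.assoc _ _ _).trans ?_
    refine ((congrArg (κ ≫ ·) (pieceAway_fac (R := R) (ix.symm S))).trans ?_).trans (Category.assoc _ _ _).symm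
    show κ ≫ (piece (R := R) (ix.symm S)).ι ≫ prFst R N = _
    rw [← Category.assoc, hκ, Category.assoc, c_fst, chartHom_q]
    rfl
  refine ⟨(pieceAway (R := R) (ix.symm S)).appTop ((Scheme.ΓSpecIso _).inv (ProjPt.crd (ix.symm S) l)), ?_⟩
  show (κ ≫ pieceAway (R := R) (ix.symm S)).appTop _ = _
  rw [hkr]
  refine (appTop_toSpecΓ_map (W := (sp (chart (R := R) S).C).left) _ _).trans ?_
  refine (ProjPt.coordHom_mk_eq_iff _ _ _ _ _ _ _ _).2 ?_
  rw [pow_one, MvPolynomial.eval₂Hom_X', MvPolynomial.eval₂Hom_X', crds_self, mul_one]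

theorem exists_appTop_C (S : Idx d k) (κ : (sp (chart (R := R) S).C).left ⟶ (piece (R := R) (ix.symm S)).toScheme)
    (hκ : κ ≫ (piece (R := R) (ix.symm S)).ι = (chartHom e S).left ≫ c he ix) (r : R) :
    ∃ y, κ.appTop y = (Scheme.ΓSpecIso (CommRingCat.of (MvPolynomial (Var S.1) R))).inv (MvPolynomial.C r) := by
  refine ⟨((piece (R := R) (ix.symm S)).ι ≫ CohB1.ProjSpaceOver.toBase N _).appTop
    ((Scheme.ΓSpecIso (CommRingCat.of R)).inv r), ?_⟩
  have h1 : κ ≫ (piece (R := R) (ix.symm S)).ι ≫ CohB1.ProjSpaceOver.toBase N (Spec (CommRingCat.of R)) =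
      (sp (chart (R := R) S).C).hom := by
    rw [← Category.assoc, hκ, Category.assoc, c_toBase, Over.w]
  show (κ ≫ (piece (R := R) (ix.symm S)).ι ≫ CohB1.ProjSpaceOver.toBase N (Spec (CommRingCat.of R))).appTop _ = _
  rw [h1]
  exact appTop_map (algebraMap R (MvPolynomial (Var S.1) R)) r

theorem exists_appTop_eq (S : Idx d k) (κ : (sp (chart (R := R) S).C).left ⟶ (piece (R := R) (ix.symm S)).toScheme)
    (hκ : κ ≫ (piece (R := R) (ix.symm S)).ι = (chartHom e S).left ≫ c he ix) :
    Function.Surjective κ.appTop := by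
  let P := MvPolynomial (Var S.1) R
  let inv : P →+* Γ((sp (chart (R := R) S).C).left, ⊤) := (Scheme.ΓSpecIso (CommRingCat.of P)).inv.hom
  have hG : ∀ p : P, inv p ∈ κ.appTop.hom.range := by
    intro p
    induction p using MvPolynomial.induction_on with
    | C r => exact exists_appTop_C he ix S κ hκ r
    | add p q hp hq => rw [_root_.map_add]; exact add_mem hp hq
    | mul_X p v hp =>
      rw [_root_.map_mul]
      refine mul_mem hp ?_
      obtain ⟨T, s, hT⟩ := exists_pl_eq (R := R) S (uX (R := R) S.1) v.1 v.2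
      have h2 : (MvPolynomial.X v : P) = ((s : ℤ) : P) * pl (R := R) S (uX S.1) T := by
        rw [hT, ← mul_assoc, ← Int.cast_mul, ← Units.val_mul, Int.units_mul_self, Units.val_one,
          Int.cast_one, one_mul]
      rw [h2, _root_.map_mul, _root_.map_intCast inv]
      refine mul_mem (intCast_mem _ _) ?_
      obtain ⟨y, hy⟩ := exists_appTop_pl he ix S κ hκ (ix.symm T)
      exact ⟨y, hy.trans (by rw [crds, Equiv.apply_symm_apply]; rfl)⟩
  intro y
  obtain ⟨x, hx⟩ := hG ((Scheme.ΓSpecIso (CommRingCat.of P)).hom y)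
  exact ⟨x, hx.trans (Iso.hom_inv_id_apply (Scheme.ΓSpecIso (CommRingCat.of P)) y)⟩

theorem isClosedImmersion_c : IsClosedImmersion (c he ix) := by
  refine IsZariskiLocalAtTarget.of_iSup_eq_top _ (iSup_piece (R := R) (N := N)) fun l => ?_
  obtain ⟨S, rfl⟩ := ix.symm.surjective l
  haveI := isOpenImmersion_chartHom he S
  haveI : IsAffine (piece (R := R) (ix.symm S)).toScheme := isAffineOpen_piece _
  haveI : IsAffine (sp (chart (R := R) S).C).left := inferInstanceAs (IsAffine (Spec _))
  have hpre : c he ix ⁻¹ᵁ piece (R := R) (ix.symm S) = chartOpen he S := by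
    rw [c_preimage_piece, Equiv.apply_symm_apply]
  have hsub : Set.range (chartHom e S).left ⊆ Set.range (c he ix ⁻¹ᵁ piece (R := R) (ix.symm S)).ι := by
    rw [Scheme.Opens.range_ι, hpre]
    exact subset_rfl
  let j := IsOpenImmersion.lift (c he ix ⁻¹ᵁ piece (R := R) (ix.symm S)).ι (chartHom e S).left hsub
  have hj : IsIso j := by
    have h1 : j ≫ (c he ix ⁻¹ᵁ piece (R := R) (ix.symm S)).ι = (chartHom e S).left := IsOpenImmersion.lift_fac _ _ _
    haveI : IsOpenImmersion (j ≫ (c he ix ⁻¹ᵁ piece (R := R) (ix.symm S)).ι) := by rw [h1]; infer_instance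
    haveI : IsOpenImmersion j := IsOpenImmersion.of_comp j (c he ix ⁻¹ᵁ piece (R := R) (ix.symm S)).ι
    refine isIso_of_isOpenImmersion_of_opensRange_eq_top j (eq_top_iff.2 fun y _ => ?_)
    have hy : y.1 ∈ chartOpen he S := hpre.le y.2
    obtain ⟨z, hz⟩ := hy
    refine ⟨z, (Scheme.Opens.ι _).isOpenEmbedding.injective ?_⟩
    rw [← Scheme.Hom.comp_apply, h1]
    exact hz
  rw [← MorphismProperty.cancel_left_of_respectsIso (P := @IsClosedImmersion) j]
  refine IsClosedImmersion.of_surjective_of_isAffine _ (exists_appTop_eq he ix S _ ?_)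
  rw [Category.assoc, morphismRestrict_ι, IsOpenImmersion.lift_fac_assoc]

include he in
theorem exists_plucker (hk : k ≤ d) :
    ∃ c : X.left ⟶ CohB1.ProjSpaceOver (d.choose k - 1) (Spec (CommRingCat.of R)),
      IsClosedImmersion c ∧
        c ≫ CohB1.ProjSpaceOver.toBase (d.choose k - 1) (Spec (CommRingCat.of R)) = X.hom := by
  classical
  have hcard : Fintype.card (Idx d k) = d.choose k - 1 + 1 := by
    rw [Fintype.card_finset_len, Fintype.card_fin, Nat.sub_add_cancel (Nat.choose_pos hk)]
  let ix : Fin (d.choose k - 1 + 1) ≃ Idx d k := ((Fintype.equivFin (Idx d k)).trans (finCongr hcard)).symm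
  exact ⟨c he ix, isClosedImmersion_c he ix, c_toBase he ix⟩

end Groth.Agent.H23.GrassPlucker
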