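import Groth.Agent.H23.GrassClosed

/-!
Closed conditions on points of Grassmannians, and morphisms given on affine points.
-/

set_option autoImplicit false
set_option backward.isDefEq.respectTransparency false
set_option linter.style.haveILetI false

universe u

open CategoryTheory CategoryTheory.Limits AlgebraicGeometry TensorProduct

namespace Groth.Agent.H23.GrassSubfun

open Synt29.RepOpen GrassClosed
open Module (Grassmannian)

section Alg

variable {R A B : Type u} [CommRing R] [CommRing A] [Algebra R A] [CommRing B] [Algebra R B]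
variable {M : Type u} [AddCommGroup M] [Module R M] {k : ℕ}

/-- The semilinear map between base changes. -/
noncomputable def ι (φ : A →ₐ[R] B) : A ⊗[R] M →ₗ[R] B ⊗[R] M :=
  φ.toLinearMap.rTensor M

theorem ι_tmul (φ : A →ₐ[R] B) (a : A) (x : M) : ι φ (a ⊗ₜ[R] x) = φ a ⊗ₜ[R] x := rfl

theorem map_eq_span (φ : A →ₐ[R] B) (N : Grassmannian A (A ⊗[R] M) k) :
    (Grassmannian.map φ N).toSubmodule = Submodule.span B (ι φ '' N.toSubmodule) := by
  letI : Algebra A B := φ.toRingHom.toAlgebra
  haveI : IsScalarTower R A B := IsScalarTower.of_algebraMap_eq' φ.comp_algebraMap.symm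
  let cbc := AlgebraTensorModule.cancelBaseChange R A B B M
  have hι : ∀ x, ι φ x = cbc (1 ⊗ₜ[A] x) := fun x => by
    induction x with
    | zero => simp
    | tmul a m => simp [cbc, ι_tmul, Algebra.smul_def]; rfl
    | add x y hx hy => rw [map_add, tmul_add, map_add, hx, hy]
  rw [Grassmannian.map_toSubmodule]
  refine le_antisymm (fun z hz => ?_) (Submodule.span_le.2 ?_)
  · have hz' : (N.toSubmodule.mkQ).baseChange B (cbc.symm z) = 0 := hz
    obtain ⟨v, hv⟩ := (lTensor_exact (M := N.toSubmodule) B (LinearMap.exact_subtype_mkQ N.toSubmodule)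
      N.toSubmodule.mkQ_surjective (cbc.symm z)).1 hz'
    rw [← cbc.apply_symm_apply z, ← hv]
    clear hv hz' hz
    induction v with
    | zero => simp
    | tmul b x =>
      rw [LinearMap.lTensor_tmul, show b ⊗ₜ[A] (N.toSubmodule.subtype x) = b • ((1 : B) ⊗ₜ[A] (x : A ⊗[R] M)) by
        rw [smul_tmul', smul_eq_mul, mul_one]; rfl, map_smul, ← hι]
      exact Submodule.smul_mem _ _ (Submodule.subset_span ⟨_, x.2, rfl⟩)
    | add x y hx hy => rw [map_add, map_add]; exact add_mem hx hy
  · rintro _ ⟨x, hx, rfl⟩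
    show (N.toSubmodule.mkQ).baseChange B (cbc.symm (ι φ x)) = 0
    rw [hι, LinearEquiv.symm_apply_apply, LinearMap.baseChange_tmul, Submodule.mkQ_apply,
      (Submodule.Quotient.mk_eq_zero _).2 hx, tmul_zero]

theorem ι_mem_map_iff (φ : A →ₐ[R] B) (N : Grassmannian A (A ⊗[R] M) k) (y : A ⊗[R] M) :
    ι φ y ∈ (Grassmannian.map φ N).toSubmodule ↔
      ∀ θ : (A ⊗[R] M ⧸ N.toSubmodule) →ₗ[A] A, φ (θ (N.toSubmodule.mkQ y)) = 0 := by
  letI : Algebra A B := φ.toRingHom.toAlgebra
  haveI : IsScalarTower R A B := IsScalarTower.of_algebraMap_eq' φ.comp_algebraMap.symm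
  let cbc := AlgebraTensorModule.cancelBaseChange R A B B M
  have hι : ι φ y = cbc (1 ⊗ₜ[A] y) := by
    induction y with
    | zero => simp
    | tmul a m => simp [cbc, ι_tmul, Algebra.smul_def]; rfl
    | add x y hx hy => rw [map_add, tmul_add, map_add, hx, hy]
  have hmem : ι φ y ∈ (Grassmannian.map φ N).toSubmodule ↔ (1 : B) ⊗ₜ[A] N.toSubmodule.mkQ y = 0 := by
    rw [Grassmannian.map_toSubmodule]
    show (N.toSubmodule.mkQ).baseChange B (cbc.symm (ι φ y)) = 0 ↔ _
    rw [hι, LinearEquiv.symm_apply_apply, LinearMap.baseChange_tmul]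
  rw [hmem]
  generalize N.toSubmodule.mkQ y = q
  constructor
  · intro h θ
    have h1 := congrArg (fun z => AlgebraTensorModule.rid A B B (θ.baseChange B z)) h
    simp [LinearMap.baseChange_tmul, Algebra.smul_def] at h1
    exact h1
  · intro h
    obtain ⟨s, hs⟩ := (Module.projective_def'.1 N.projective_quotient)
    have hq : q = (s q).sum fun g a => a • g := by
      conv_lhs => rw [← LinearMap.id_apply (R := A) q, ← hs]
      rfl
    rw [hq, Finsupp.sum, tmul_sum]
    refine Finset.sum_eq_zero fun g _ => ?_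
    rw [tmul_smul, smul_tmul', Algebra.smul_def, show algebraMap A B (s q g) = 0 from h ((Finsupp.lapply g).comp s),
      zero_mul, zero_tmul]

/-- The ideal of the condition that a set of elements lies in a point. -/
noncomputable def idealOf (N : Grassmannian A (A ⊗[R] M) k) (S : Set (A ⊗[R] M)) : Ideal A :=
  Ideal.span {a | ∃ y ∈ S, ∃ θ : (A ⊗[R] M ⧸ N.toSubmodule) →ₗ[A] A, θ (N.toSubmodule.mkQ y) = a}

theorem idealOf_le_ker_iff (φ : A →ₐ[R] B) (N : Grassmannian A (A ⊗[R] M) k) (S : Set (A ⊗[R] M)) :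
    idealOf N S ≤ RingHom.ker φ.toRingHom ↔ ∀ y ∈ S, ι φ y ∈ (Grassmannian.map φ N).toSubmodule := by
  rw [idealOf, Ideal.span_le]
  refine ⟨fun h y hy => (ι_mem_map_iff φ N y).2 fun θ => h ⟨y, hy, θ, rfl⟩, ?_⟩
  rintro h _ ⟨y, hy, θ, rfl⟩
  exact (ι_mem_map_iff φ N y).1 (h y hy) θ

variable {M' : Type u} [AddCommGroup M'] [Module R M'] (v : M →ₗ[R] M')

theorem ι_baseChange (φ : A →ₐ[R] B) (x : A ⊗[R] M) : ι φ (v.baseChange A x) = v.baseChange B (ι φ x) := by
  induction x with
  | zero => simp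
  | tmul a m => rfl
  | add x y hx hy => simp only [map_add, hx, hy]

variable (hv : Function.Surjective v)

include hv in
theorem ker_baseChange_le (P : Submodule A (A ⊗[R] M)) (h : ∀ m ∈ LinearMap.ker v, (1 : A) ⊗ₜ[R] m ∈ P) :
    LinearMap.ker (v.baseChange A) ≤ P := by
  intro z hz
  obtain ⟨w, rfl⟩ := (lTensor_exact (M := LinearMap.ker v) A (LinearMap.exact_subtype_ker_map v) hv z).1 hz
  clear hz
  induction w with
  | zero => simp
  | tmul a x =>
    rw [LinearMap.lTensor_tmul, show a ⊗ₜ[R] (LinearMap.ker v).subtype x = a • ((1 : A) ⊗ₜ[R] (x : M)) by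
      rw [smul_tmul', smul_eq_mul, mul_one]; rfl]
    exact Submodule.smul_mem _ _ (h _ x.2)
  | add x y hx hy => rw [map_add]; exact add_mem hx hy

/-- The preimage of a point under a surjection. -/
noncomputable def pull (N : Grassmannian A (A ⊗[R] M') k) : Grassmannian A (A ⊗[R] M) k :=
  letI e := (Submodule.quotEquivOfEq _ _
    (show LinearMap.ker (N.toSubmodule.mkQ.comp (v.baseChange A)) = N.toSubmodule.comap (v.baseChange A) by
      rw [LinearMap.ker_comp, Submodule.ker_mkQ])).symm.trans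
    ((N.toSubmodule.mkQ.comp (v.baseChange A)).quotKerEquivOfSurjective
      (N.toSubmodule.mkQ_surjective.comp (LinearMap.baseChange_surjective A hv)))
  { toSubmodule := N.toSubmodule.comap (v.baseChange A)
    finite_quotient := Module.Finite.equiv e.symm
    projective_quotient := Module.Projective.of_equiv e.symm
    rankAtStalk_eq := fun p => by rw [Module.rankAtStalk_eq_of_equiv e]; exact N.rankAtStalk_eq p }

theorem mem_pull (N : Grassmannian A (A ⊗[R] M') k) {m : M} (hm : m ∈ LinearMap.ker v) :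
    (1 : A) ⊗ₜ[R] m ∈ (pull v hv N).toSubmodule := by
  show v.baseChange A ((1 : A) ⊗ₜ[R] m) ∈ N.toSubmodule
  rw [LinearMap.baseChange_tmul, LinearMap.mem_ker.1 hm, tmul_zero]
  exact zero_mem _

theorem pull_injective : Function.Injective (pull v hv : Grassmannian A (A ⊗[R] M') k → _) := fun _ _ h =>
  Grassmannian.ext (Submodule.comap_injective_of_surjective (LinearMap.baseChange_surjective A hv)
    (congrArg Grassmannian.toSubmodule h :))

theorem exists_pull_eq (N' : Grassmannian A (A ⊗[R] M) k)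
    (h : ∀ m ∈ LinearMap.ker v, (1 : A) ⊗ₜ[R] m ∈ N'.toSubmodule) :
    ∃ N : Grassmannian A (A ⊗[R] M') k, pull v hv N = N' := by
  have hle := ker_baseChange_le v hv N'.toSubmodule h
  let N := N'.toSubmodule.map (v.baseChange A)
  have hN : N.comap (v.baseChange A) = N'.toSubmodule := by
    rw [Submodule.comap_map_eq, sup_eq_left.2 hle]
  let e := ((Submodule.quotEquivOfEq _ _
    (show LinearMap.ker (N.mkQ.comp (v.baseChange A)) = N'.toSubmodule by
      rw [LinearMap.ker_comp, Submodule.ker_mkQ, hN])).symm.trans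
    ((N.mkQ.comp (v.baseChange A)).quotKerEquivOfSurjective
      (N.mkQ_surjective.comp (LinearMap.baseChange_surjective A hv)))).symm
  exact ⟨⟨N, Module.Finite.equiv e.symm, Module.Projective.of_equiv e.symm,
    fun p => by rw [Module.rankAtStalk_eq_of_equiv e]; exact N'.rankAtStalk_eq p⟩, Grassmannian.ext hN⟩

theorem map_pull (φ : A →ₐ[R] B) (N : Grassmannian A (A ⊗[R] M') k) :
    Grassmannian.map φ (pull v hv N) = pull v hv (Grassmannian.map φ N) := by
  refine Grassmannian.ext ?_
  show _ = (Grassmannian.map φ N).toSubmodule.comap (v.baseChange B)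
  have h1 : (Grassmannian.map φ (pull v hv N)).toSubmodule.map (v.baseChange B) =
      (Grassmannian.map φ N).toSubmodule := by
    rw [map_eq_span, map_eq_span, Submodule.map_span, Set.image_image]
    congr 1
    ext z
    constructor
    · rintro ⟨x, hx, rfl⟩
      exact ⟨_, hx, ι_baseChange v φ x⟩
    · rintro ⟨y, hy, rfl⟩
      obtain ⟨x, rfl⟩ := LinearMap.baseChange_surjective A hv y
      exact ⟨x, hy, (ι_baseChange v φ x).symm⟩
  rw [← h1, Submodule.comap_map_eq, sup_eq_left.2 (ker_baseChange_le v hv _ fun m hm => by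
    rw [map_eq_span]
    exact Submodule.subset_span ⟨_, mem_pull v hv N hm, by rw [ι_tmul, _root_.map_one]⟩)]

end Alg

section Hom

variable {R : Type u} [CommRing R] {X Y : Over (Spec (CommRingCat.of R))} {F G : CommAlgCat.{u} R ⥤ Type u}
variable {e : ∀ A, (sp A ⟶ X) ≃ F.obj A} {e' : ∀ A, (sp A ⟶ Y) ≃ G.obj A}

/-- The covering by all affine opens. -/
noncomputable def affCover (X : Over (Spec (CommRingCat.of R))) : X.left.OpenCover :=
  .mkOfCovers X.left.affineOpens (fun U => (sp (algU U)).left) (fun U => (gU U).left)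
    (fun x => by
      obtain ⟨_, ⟨U, hU, rfl⟩, hxU, -⟩ :=
        X.left.isBasis_affineOpens.exists_subset_of_mem_open (Set.mem_univ x) isOpen_univ
      obtain ⟨y, hy⟩ : x ∈ Set.range hU.fromSpec := by rw [hU.range_fromSpec]; exact hxU
      exact ⟨⟨U, hU⟩, y, hy⟩)
    (fun U => inferInstanceAs (IsOpenImmersion U.2.fromSpec))

/-- Morphisms out of a scheme over the base agree if they agree on all points in affine schemes. -/
theorem hom_ext_points {T : Over (Spec (CommRingCat.of R))} (f g : T ⟶ X)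
    (h : ∀ (A : CommAlgCat.{u} R) (a : sp A ⟶ T), a ≫ f = a ≫ g) : f = g := by
  refine Over.OverMorphism.ext ((affCover T).hom_ext _ _ fun U => ?_)
  exact congrArg CommaMorphism.left (h _ (gU (X := T) U))

variable (he : IsNat X F e) (he' : IsNat Y G e')

include he he' in
theorem exists_hom_of_nat (η : ∀ A, F.obj A → G.obj A)
    (hη : ∀ (A B : CommAlgCat.{u} R) (φ : A ⟶ B) (x : F.obj A), η B (F.map φ x) = G.map φ (η A x)) :
    ∃ c : X ⟶ Y, ∀ (A : CommAlgCat.{u} R) (g : sp A ⟶ X), e' A (g ≫ c) = η A (e A g) := by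
  let k : ∀ (A : CommAlgCat.{u} R), (sp A ⟶ X) → (sp A ⟶ Y) := fun A g => (e' A).symm (η A (e A g))
  have hk : ∀ (A B : CommAlgCat.{u} R) (φ : A ⟶ B) (g : sp A ⟶ X), k B (spOver φ ≫ g) = spOver φ ≫ k A g :=
    fun A B φ g => (e' B).injective (by rw [he', Equiv.apply_symm_apply, Equiv.apply_symm_apply, he, hη])
  let loc : ∀ U : X.left.affineOpens, (sp (algU U)).left ⟶ Y.left := fun U => (k _ (gU U)).left
  have hcompat : ∀ U V : X.left.affineOpens, pullback.fst (gU U).left (gU V).left ≫ loc U =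
      pullback.snd (gU U).left (gU V).left ≫ loc V := by
    intro U V
    let T : Over (Spec (CommRingCat.of R)) :=
      Over.mk (pullback.fst (gU U).left (gU V).left ≫ (sp (algU U)).hom)
    refine congrArg CommaMorphism.left (hom_ext_points
      ((Over.homMk (pullback.fst _ _) rfl : T ⟶ sp (algU U)) ≫ k _ (gU U))
      ((Over.homMk (pullback.snd _ _) (by
        show pullback.snd _ _ ≫ (sp (algU V)).hom = pullback.fst _ _ ≫ (sp (algU U)).hom
        rw [← Over.w (gU V), ← Over.w (gU U), pullback.condition_assoc]) : T ⟶ sp (algU V)) ≫ k _ (gU V))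
      fun A a => ?_)
    rw [← Category.assoc, ← Category.assoc]
    obtain ⟨φ, hφ⟩ := exists_spMap (a ≫ (Over.homMk (pullback.fst _ _) rfl : T ⟶ sp (algU U)))
    obtain ⟨ψ, hψ⟩ := exists_spMap (a ≫ (Over.homMk (pullback.snd _ _) (by
      show pullback.snd _ _ ≫ (sp (algU V)).hom = pullback.fst _ _ ≫ (sp (algU U)).hom
      rw [← Over.w (gU V), ← Over.w (gU U), pullback.condition_assoc]) : T ⟶ sp (algU V)))
    rw [hφ, hψ, ← hk, ← hk]
    congr 1
    rw [← hφ, ← hψ, Category.assoc, Category.assoc]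
    congr 1
    exact Over.OverMorphism.ext pullback.condition
  let c₀ : X.left ⟶ Y.left := (affCover X).glueMorphisms loc hcompat
  have hc₀ : ∀ U, (gU U).left ≫ c₀ = loc U := (affCover X).ι_glueMorphisms loc hcompat
  have hw : c₀ ≫ Y.hom = X.hom := (affCover X).hom_ext _ _ fun U => by
    show (gU U).left ≫ c₀ ≫ Y.hom = (gU U).left ≫ X.hom
    rw [reassoc_of% hc₀ U, Over.w]
    exact (Over.w (gU U)).symm
  refine ⟨Over.homMk c₀ hw, fun A g => ?_⟩
  suffices h : g ≫ Over.homMk c₀ hw = k A g by rw [h]; exact (e' A).apply_symm_apply _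
  choose U hU using fun p : PrimeSpectrum A =>
    X.left.isBasis_affineOpens.exists_subset_of_mem_open (Set.mem_univ (g.left p)) isOpen_univ
  have hex : ∀ p : PrimeSpectrum A, ∃ (a : A), a ∉ p.asIdeal ∧ ∃ (V : X.left.affineOpens)
      (φ : algU V ⟶ CommAlgCat.of R (Localization.Away a)), spOver φ ≫ gU V = spOver (toAway A a) ≫ g := by
    intro p
    obtain ⟨⟨V, hV, hVU⟩, hpU, -⟩ := hU p
    rw [← hVU] at hpU
    obtain ⟨_, ⟨a, rfl⟩, ha, hsub⟩ :=
      (PrimeSpectrum.isTopologicalBasis_basic_opens (R := A)).exists_subset_of_mem_open (a := p)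
        (u := ((g.left ⁻¹ᵁ V : (Spec (CommRingCat.of A)).Opens) : Set (Spec (CommRingCat.of A))))
        (show g.left p ∈ V from hpU) (g.left ⁻¹ᵁ V).2
    have hrange : Set.range (spMap (toAway A a) ≫ g.left) ⊆ Set.range hV.fromSpec := by
      rintro _ ⟨q, rfl⟩
      rw [hV.range_fromSpec, Scheme.Hom.comp_apply]
      refine hsub ?_
      have : spMap (toAway A a) q ∈ Set.range (PrimeSpectrum.comap (algebraMap A (Localization.Away a))) := ⟨q, rfl⟩
      rwa [PrimeSpectrum.localization_away_comap_range (Localization.Away a) a] at this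
    let l : sp (CommAlgCat.of R (Localization.Away a)) ⟶ sp (algU (X := X) ⟨V, hV⟩) :=
      Over.homMk (IsOpenImmersion.lift hV.fromSpec (spMap (toAway A a) ≫ g.left) hrange) (by
        show _ ≫ (sp (algU (X := X) ⟨V, hV⟩)).hom = _
        rw [← Over.w (gU (X := X) ⟨V, hV⟩)]
        show _ ≫ hV.fromSpec ≫ X.hom = _
        rw [IsOpenImmersion.lift_fac_assoc, Category.assoc, Over.w g, spMap_w])
    obtain ⟨φ, hφ⟩ := exists_spMap l
    exact ⟨a, ha, ⟨V, hV⟩, φ, Over.OverMorphism.ext (by rw [← hφ]; exact IsOpenImmersion.lift_fac _ _ _)⟩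
  choose a ha V φ hφ using hex
  let 𝒰 := Scheme.affineOpenCoverOfSpanRangeEqTop (R := CommRingCat.of A) a (Atlas.span_range_eq_top ha)
  refine Over.OverMorphism.ext (𝒰.openCover.hom_ext _ _ fun p => ?_)
  have h1 : spOver (toAway A (a p)) ≫ g ≫ Over.homMk c₀ hw = spOver (toAway A (a p)) ≫ k A g := by
    rw [← hk, ← Category.assoc, ← hφ p, hk, Category.assoc]
    congr 1
    exact Over.OverMorphism.ext (hc₀ (V p))
  exact congrArg CommaMorphism.left h1

/-- A morphism injective on points in affine schemes is a monomorphism. -/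
theorem mono_left_of_injective (c : X ⟶ Y)
    (h : ∀ (A : CommAlgCat.{u} R) (a b : sp A ⟶ X), a ≫ c = b ≫ c → a = b) : Mono c.left := by
  refine ⟨fun {T} u v huv => ?_⟩
  let T' : Over (Spec (CommRingCat.of R)) := Over.mk (u ≫ X.hom)
  let u' : T' ⟶ X := Over.homMk u
  let v' : T' ⟶ X := Over.homMk v (by
    show v ≫ X.hom = u ≫ X.hom
    rw [← Over.w c, reassoc_of% huv])
  exact congrArg CommaMorphism.left (hom_ext_points u' v' fun A a => h A _ _ (by
    rw [Category.assoc, Category.assoc]
    congr 1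
    exact Over.OverMorphism.ext huv))

/-- A monomorphism through which all points of the source factor receives a lift. -/
theorem exists_lift_of_mono {T : Scheme.{u}} {Z Y : Scheme.{u}} (f : T ⟶ Y) (i : Z ⟶ Y) [Mono i]
    (𝒰 : T.OpenCover) (h : ∀ j, ∃ l, l ≫ i = 𝒰.f j ≫ f) : ∃ l : T ⟶ Z, l ≫ i = f := by
  choose l hl using h
  refine ⟨𝒰.glueMorphisms l fun a b => ?_, 𝒰.hom_ext _ _ fun j => ?_⟩
  · rw [← cancel_mono i, Category.assoc, Category.assoc, hl, hl, pullback.condition_assoc]
  · rw [← Category.assoc, 𝒰.ι_glueMorphisms, hl]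

end Hom

end Groth.Agent.H23.GrassSubfun
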