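import Groth.Agent.H23.DefKey
import Groth.Agent.H23.DefLine
import Groth.Agent.H23.SelfInt
import Groth.Agent.H23.CapFlat

/-! A cycle pulled back to a scheme over the line, restricted to the inverse image of the zero section. -/

set_option autoImplicit false
set_option linter.style.haveILetI false
set_option linter.unusedSectionVars false
set_option backward.isDefEq.respectTransparency false
set_option backward.isDefEq.respectTransparency.types false

universe u

open CategoryTheory CategoryTheory.Limits AlgebraicGeometry TopologicalSpace Opposite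
open scoped TensorProduct

noncomputable section

namespace Groth.Agent.H23.GysinInduct

open Groth.Agent RatSec C1Pull DefBundle

theorem regular_of_flat {A B : Type u} [CommRing A] [CommRing B] (h : A →+* B) (hflat : h.Flat) {a : A}
    (ha : Function.Injective fun x : A => x * a) : Function.Injective fun x : B => x * h a := by
  algebraize [h]
  have h1 := Module.Flat.lTensor_preserves_injective_linearMap (M := B) (LinearMap.mulRight A a) ha
  intro x y hxy
  have key : ∀ z : B, TensorProduct.rid A B (LinearMap.lTensor B (LinearMap.mulRight A a) (z ⊗ₜ[A] (1 : A))) =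
      z * h a := fun z => by
    simp [Algebra.smul_def, RingHom.algebraMap_toAlgebra, mul_comm]
  have h2 : LinearMap.lTensor B (LinearMap.mulRight A a) (x ⊗ₜ[A] (1 : A)) =
      LinearMap.lTensor B (LinearMap.mulRight A a) (y ⊗ₜ[A] (1 : A)) :=
    (TensorProduct.rid A B).injective (by rw [key, key]; exact hxy)
  simpa using congrArg (TensorProduct.rid A B) (h1 h2)

theorem injective_pb {X' X : Scheme.{u}} (f : X' ⟶ X) [Flat f] {L : X.Modules} (hL : PicF.IsInvertible L)
    (s : L.presheaf.obj (op (⊤ : X.Opens))) (x : X')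
    (h : Function.Injective fun a : X.presheaf.stalk (f x) => a • L.presheaf.germ ⊤ (f x) trivial s) :
    Function.Injective fun a : X'.presheaf.stalk x =>
      a • ((Scheme.Modules.pullback f).obj L).presheaf.germ ⊤ x trivial (KFlatLib.pb f (U := ⊤) s) := by
  obtain ⟨t, ht, -⟩ := exists_gen hL (f x)
  obtain ⟨φ, hφ⟩ := Submodule.mem_span_singleton.1
    (ht.1.ge (Submodule.mem_top : L.presheaf.germ ⊤ (f x) trivial s ∈ ⊤))
  have hreg : Function.Injective fun a : X.presheaf.stalk (f x) => a * φ := fun a b e => h (by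
    show a • _ = b • _
    rw [← hφ, smul_smul, smul_smul]
    exact congrArg (· • t) e)
  have hB := regular_of_flat _ (Flat.stalkMap f x) hreg
  have hg : ((Scheme.Modules.pullback f).obj L).presheaf.germ ⊤ x trivial (KFlatLib.pb f (U := ⊤) s) =
      (f.stalkMap x).hom φ • pm f L x t := by
    refine (pm_germ f L x ⊤ trivial s).symm.trans ?_
    rw [← hφ, pm_smul]
  intro a b e
  refine hB (sub_eq_zero.1 ((isGen_pm ht).2 _ ?_))
  rw [sub_smul, sub_eq_zero, ← smul_smul, ← smul_smul, ← hg]
  exact e

theorem injective_time (V : Scheme.{u}) (x : Line V) : Function.Injective fun a : (Line V).presheaf.stalk x =>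
    a • (Coh.structureModule (Line V)).presheaf.germ ⊤ x trivial
      (show Γ(Coh.structureModule (Line V), ⊤) from time V) := by
  obtain ⟨U, hU, hv, -⟩ := exists_isAffineOpen_mem_and_subset (x := pr V x) (U := ⊤) trivial
  exact injective_smul_germ_fn (lineChart V U hU) (lineChart_X V U hU).symm
    (fun g => DefAlg.X_regular) (show x ∈ (lineChart V U hU).O from hv)

variable {P Q D : Scheme.{u}} [IsLocallyNoetherian P] [IsLocallyNoetherian D] (g : P ⟶ Line Q) [Flat g]
  {i : D ⟶ P} {p : D ⟶ Q} [IsClosedImmersion i]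

/-- Cycles which become rationally trivial over the line are rationally trivial on the zero fibre. -/
theorem step (sq : IsPullback i p g (zeroSec Q)) {δP : P → ℤ} {δQ : Q → ℤ} (hdP : Cyc.IsDimFun P δP)
    (hdQ : Cyc.IsDimFun Q δQ) {r : ℕ} (hleP : ∀ x, δP x ≤ δQ (pr Q (g x)) + (r + 1 : ℕ))
    (hleD : ∀ d, δP (i d) ≤ δQ (p d) + r) {k : ℤ} {α : Q → ℤ} (hα : ∀ y, δQ y ≠ k → α y = 0)
    (γ : AlgebraicCycle P ℤ) (hγ : ⇑γ = Cyc.pullFun (g ≫ pr Q) δP δQ (r + 1) α)
    (h : Cyc.RatEquivZero δP (k + (r + 1)) γ) (γ' : AlgebraicCycle D ℤ)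
    (hγ' : ⇑γ' = Cyc.pullFun p (fun d => δP (i d)) δQ r α) :
    Cyc.RatEquivZero (fun d => δP (i d)) (k + r) γ' := by
  obtain ⟨k', rfl⟩ : ∃ k', k = k' + 1 := ⟨k - 1, by ring⟩
  have hip : i ≫ g ≫ pr Q = p := by rw [← Category.assoc, sq.w, Category.assoc, zeroSec_pr, Category.comp_id]
  haveI : Flat (i ≫ g ≫ pr Q) := by
    rw [hip]
    exact MorphismProperty.of_isPullback sq ‹_›
  let L := (Scheme.Modules.pullback g).obj (Coh.structureModule (Line Q))
  have hL0 : PicF.IsInvertible (Coh.structureModule (Line Q)) := InvX.isInvertible_structureModule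
  have hL : PicF.IsInvertible L := PicClLib.isInvertible_pullback g hL0
  have hD := GysinSq.isZeroSchemeOf_pb sq hL0 (isZeroSchemeOf_zeroSec Q)
  obtain ⟨v, hv⟩ := exists_sections (X := P) hL
  have happ : ∀ d, (g ≫ pr Q) (i d) = p d := fun d => by rw [← Scheme.Hom.comp_apply, hip]
  have e : ∀ d, Cyc.c1CapFun δP L ⇑γ (Cyc.gysinChoice L _ v) (i d) = γ' d := fun d => by
    rw [hγ, hγ', CapFlat.c1CapFun_pull_gysin hdP hdQ (g ≫ pr Q) hleP hL
      (fun x => injective_pb g hL0 _ x (injective_time Q (g x))) i hD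
      (fun d => (happ d).symm ▸ hleD d) (k := k') hα v d]
    exact congrFun (congrArg (fun f => Cyc.pullFun f (fun d => δP (i d)) δQ (r : ℤ) α) hip) d
  have h1 := SelfInt.gysin_congr (β := γ) (β' := 0) (ζ := γ') (ζ' := 0) hL hdP hD
    (δ := fun d => δP (i d)) rfl hv (k := k' + 1 + (r + 1))
    (by show Cyc.RatEquivZero _ _ (γ - 0); rwa [sub_zero]) (fun d => (e d).symm) fun d => by
      show (0 : ℤ) = ∑ᶠ ξ, (0 : ℤ) * _
      simp
  rw [show k' + 1 + ((r : ℤ) + 1) - 1 = k' + 1 + r by ring] at h1
  simpa [Cyc.RatEquiv] using h1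

end Groth.Agent.H23.GysinInduct
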