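import Groth.Agent.H23.RatOn
import Groth.Agent.H23.FlatClass

/-! Surjectivity of flat pull-back modulo rational equivalence, from the fibres. -/

set_option autoImplicit false
set_option linter.style.haveILetI false

universe u

open AlgebraicGeometry CategoryTheory TopologicalSpace

namespace Groth.Agent.H23.Homotopy

open Groth.Agent FlatShift FiniteFibreSum C1Pull RatOn

variable {X Y : Scheme.{u}} (f : X ⟶ Y) (δX : X → ℤ) (δY : Y → ℤ) (c k : ℤ)

open Classical in
/-- Indicator function of a point. -/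
noncomputable def single (ξ : X) : X → ℤ := fun x => if x = ξ then 1 else 0

theorem pullFun_finsum {I : Type*} (a : I → Y → ℤ) (x : X)
    (h : (Function.support fun i => a i (f x)).Finite) :
    Cyc.pullFun f δX δY c (fun y => ∑ᶠ i, a i y) x = ∑ᶠ i, Cyc.pullFun f δX δY c (a i) x := by
  simp only [Cyc.pullFun]
  by_cases hx : δX x = δY (f x) + c
  · simp only [if_pos hx]
    exact finsum_mul' _ _ h
  · simp only [if_neg hx, finsum_zero]

/-- `G` is rationally equivalent, over `C`, to a pull-back of a `k`-cycle supported on `C`. -/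
def IsPull (C : Set Y) (G : X → ℤ) : Prop :=
  ∃ a : Y → ℤ, (∀ y, a y ≠ 0 → y ∈ C ∧ δY y = k) ∧
    (∀ y : Y, ∃ U : Set Y, IsOpen U ∧ y ∈ U ∧ (Function.support a ∩ U).Finite) ∧
    ZeroOn δX (k + c) (f ⁻¹' C) (fun x => G x - Cyc.pullFun f δX δY c a x)

variable {f δX δY c k}

theorem isPull_combine [QuasiCompact f] [IsLocallyNoetherian X] (hd : Cyc.IsDimFun X δX) (G : X → ℤ)
    (hfin : ∀ x : X, ∃ U : Set X, IsOpen U ∧ x ∈ U ∧ (Function.support G ∩ U).Finite) {C : Set Y}
    (hC : ∀ ξ, G ξ ≠ 0 → closure {f ξ} ⊆ C)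
    (h : ∀ ξ, G ξ ≠ 0 → IsPull f δX δY c k (closure {f ξ}) (single ξ)) : IsPull f δX δY c k C G := by
  classical
  choose! a ha₁ ha₂ ha₃ using h
  let S := Function.support G
  let A : S → Y → ℤ := fun ξ y => G ξ.1 * a ξ.1 y
  have hloc : ∀ y : Y, ∃ U : Y.Opens, y ∈ U ∧ {ξ : S | (closure {f ξ.1} ∩ (U : Set Y)).Nonempty}.Finite := by
    intro y
    obtain ⟨U, hU, hy, -⟩ := exists_isAffineOpen_mem_and_subset (x := y) (U := ⊤) trivial
    refine ⟨U, hy, ?_⟩
    have hc : IsCompact (f ⁻¹' (U : Set Y)) := f.isCompact_preimage hU.isCompact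
    have hS : (f ⁻¹' (U : Set Y) ∩ S).Finite := by
      choose W hWo hxW hWf using hfin
      obtain ⟨t, ht⟩ := hc.elim_finite_subcover W hWo fun x _ => Set.mem_iUnion.2 ⟨x, hxW x⟩
      refine (t.finite_toSet.biUnion fun x _ => hWf x).subset ?_
      rintro ξ ⟨hξ, hξS⟩
      obtain ⟨x, hx, hξx⟩ := Set.mem_iUnion₂.1 (ht hξ)
      exact Set.mem_biUnion hx ⟨hξS, hξx⟩
    refine (hS.preimage Subtype.val_injective.injOn).subset ?_
    rintro ξ ⟨z, hz, hzU⟩
    exact ⟨(specializes_iff_mem_closure.2 hz).mem_open U.2 hzU, ξ.2⟩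
  have hne : ∀ (ξ : S) y, A ξ y ≠ 0 → y ∈ closure {f ξ.1} ∧ δY y = k := fun ξ y hy =>
    ha₁ ξ.1 ξ.2 y (right_ne_zero_of_mul hy)
  have hAfin : ∀ y, (Function.support fun ξ => A ξ y).Finite := fun y => by
    obtain ⟨U, hy, hU⟩ := hloc y
    exact hU.subset fun ξ hξ => ⟨y, (hne ξ y hξ).1, hy⟩
  refine ⟨fun y => ∑ᶠ ξ, A ξ y, fun y hy => ?_, fun y => ?_, ?_⟩
  · obtain ⟨ξ, hξ⟩ : ∃ ξ, A ξ y ≠ 0 := by
      by_contra hn
      push Not at hn
      exact hy (finsum_eq_zero_of_forall_eq_zero hn)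
    exact ⟨hC ξ.1 ξ.2 (hne ξ y hξ).1, (hne ξ y hξ).2⟩
  · obtain ⟨U, hy, hU⟩ := hloc y
    choose V hVo hyV hVf using fun ξ : S => ha₂ ξ.1 ξ.2 y
    refine ⟨(U : Set Y) ∩ ⋂ ξ ∈ {ξ : S | (closure {f ξ.1} ∩ (U : Set Y)).Nonempty}, V ξ,
      U.2.inter (hU.isOpen_biInter fun ξ _ => hVo ξ), ⟨hy, Set.mem_iInter₂.2 fun ξ _ => hyV ξ⟩, ?_⟩
    refine (hU.biUnion fun ξ _ => hVf ξ).subset ?_
    rintro z ⟨hz, hzU, hzV⟩
    obtain ⟨ξ, hξ⟩ : ∃ ξ, A ξ z ≠ 0 := by
      by_contra hn
      push Not at hn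
      exact hz (finsum_eq_zero_of_forall_eq_zero hn)
    have hm : ξ ∈ {ξ : S | (closure {f ξ.1} ∩ (U : Set Y)).Nonempty} := ⟨z, (hne ξ z hξ).1, hzU⟩
    exact Set.mem_biUnion hm ⟨right_ne_zero_of_mul hξ, Set.mem_iInter₂.1 hzV ξ hm⟩
  · refine congr (RatOn.sum hd (I := S) (fun ξ => G ξ.1)
      (fun ξ x => single ξ.1 x - Cyc.pullFun f δX δY c (a ξ.1) x) (fun ξ => f ⁻¹' closure {f ξ.1})
      (T₀ := f ⁻¹' C) (fun ξ => Set.preimage_mono (hC ξ.1 ξ.2)) (fun ξ => ha₃ ξ.1 ξ.2) fun x => ?_) fun x => ?_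
    · obtain ⟨U, hy, hU⟩ := hloc (f x)
      refine ⟨f ⁻¹' U, U.2.preimage f.continuous, hy, hU.subset ?_⟩
      rintro ξ ⟨⟨z, hz, hzU⟩, -⟩
      exact ⟨f z, hz, hzU⟩
    · rw [pullFun_finsum f δX δY c A x (hAfin (f x))]
      have hG : G x = ∑ᶠ ξ : S, G ξ.1 * single ξ.1 x := by
        by_cases hx : G x = 0
        · rw [hx, finsum_eq_zero_of_forall_eq_zero fun ξ => ?_]
          rw [single, if_neg fun e => ξ.2 (by rw [← e, hx]), mul_zero]
        · rw [finsum_eq_single _ (⟨x, hx⟩ : S) fun ξ hξ => ?_]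
          · rw [single, if_pos rfl, mul_one]
          · rw [single, if_neg fun e => hξ (Subtype.ext e.symm), mul_zero]
      rw [hG, ← finsum_sub_distrib ?_ ?_]
      · refine finsum_congr fun ξ => ?_
        simp only [Cyc.pullFun, A]
        split_ifs <;> ring
      · refine Set.Subsingleton.finite fun ξ hξ η hη => Subtype.ext ?_
        have h1 : ∀ ξ : S, G ξ.1 * single ξ.1 x ≠ 0 → x = ξ.1 := fun ξ h => by
          by_contra hn
          exact h (by rw [single, if_neg hn, mul_zero])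
        exact (h1 ξ hξ).symm.trans (h1 η hη)
      · refine (hAfin (f x)).subset fun ξ hξ h0 => hξ ?_
        simp only [Cyc.pullFun]
        split_ifs
        · exact mul_eq_zero_of_left h0 _
        · rfl

/-- Strong form of "the fibres are affine spaces". -/
structure FibreData (f : X ⟶ Y) (δX : X → ℤ) (c k : ℤ) : Prop where
  gen : ∀ y, ∃ η, f η = y ∧ (∀ x, f x = y → η ⤳ x) ∧ fibreLen f η = 1
  div : ∀ ξ, δX ξ = k + c → ¬ FibDim.FibMax f ξ → ∃ (ι : Type u) (_ : Finite ι) (w : ι → X)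
    (g : (i : ι) → X.residueField (w i)), (∀ i, g i ≠ 0 ∧ f (w i) = f ξ ∧ δX (w i) = k + c + 1) ∧
      ∀ x, f x = f ξ → ∑ᶠ i, Cyc.divFun δX (w i) (g i) x = single ξ x

theorem isPull_single [QuasiCompact f] [IsLocallyNoetherian X] (hdX : Cyc.IsDimFun X δX) (hdY : Cyc.IsDimFun Y δY)
    (hc : HasShift f δX δY c) (H : FibreData f δX c k) :
    ∀ (n : ℕ) (ξ : X), δX ξ = k + c → (δY (f ξ) - k).toNat = n →
      IsPull f δX δY c k (closure {f ξ}) (single ξ) := by
  classical
  intro n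
  induction n using Nat.strong_induction_on with
  | _ n IH =>
    intro ξ hξ hn
    by_cases hm : FibDim.FibMax f ξ
    · have hy : δY (f ξ) = k := by
        have := hc.eq_of_fibMax hm
        omega
      refine ⟨fun y => if y = f ξ then 1 else 0, fun y hy' => ?_, fun y => ⟨Set.univ, isOpen_univ, trivial, ?_⟩,
        congr (zero _) fun x => ?_⟩
      · obtain rfl : y = f ξ := by by_contra h; exact hy' (if_neg h)
        exact ⟨subset_closure rfl, hy⟩
      · refine (Set.finite_singleton (f ξ)).subset fun y hy' => ?_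
        by_contra h
        exact hy'.1 (if_neg h)
      · obtain ⟨η, hηy, hηg, hηl⟩ := H.gen (f ξ)
        obtain rfl : η = ξ := hm η (hηg ξ rfl) hηy
        rw [pullFun_eq hc hdX, sub_eq_zero, single]
        by_cases hx : x = η
        · subst hx
          rw [if_pos rfl, if_pos hm, if_pos rfl, hηl]
          rfl
        · rw [if_neg hx]
          split_ifs with h1 h2
          · exact absurd (h1 η (hηg x h2) h2.symm).symm hx
          · simp
          · rfl
    · obtain ⟨ι, _, w, g, hw, hsum⟩ := H.div ξ hξ hm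
      haveI := Fintype.ofFinite ι
      let Δ : X → ℤ := fun x => ∑ᶠ i, Cyc.divFun δX (w i) (g i) x
      have hloc : ∀ x : X, ∃ U : Set X, IsOpen U ∧ x ∈ U ∧ {i | (closure {w i} ∩ U).Nonempty}.Finite :=
        fun x => ⟨Set.univ, isOpen_univ, trivial, Set.toFinite _⟩
      let E : AlgebraicCycle X ℤ := CycLib.sumDiv hdX w g (fun i => (hw i).1) hloc
      let G : X → ℤ := fun x => single ξ x - E x
      have hGfin : ∀ x : X, ∃ U : Set X, IsOpen U ∧ x ∈ U ∧ (Function.support G ∩ U).Finite := fun x => by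
        obtain ⟨U, hU, hUf⟩ := GysinLib.locFin E x
        obtain ⟨V, hVU, hVo, hxV⟩ := mem_nhds_iff.1 hU
        refine ⟨V, hVo, hxV, ((hUf.union (Set.finite_singleton ξ)).subset ?_)⟩
        rintro z ⟨hz, hzV⟩
        by_cases hzξ : z = ξ
        · exact Or.inr hzξ
        · refine Or.inl ⟨hVU hzV, fun h0 => hz ?_⟩
          simp only [G, single, if_neg hzξ, h0, sub_zero]
      have hE : ∀ x, E x ≠ 0 → f ξ ⤳ f x ∧ δX x = k + c := fun x hx => by
        obtain ⟨i, hi⟩ : ∃ i, Cyc.divFun δX (w i) (g i) x ≠ 0 := by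
          by_contra hn
          push Not at hn
          exact hx (finsum_eq_zero_of_forall_eq_zero hn)
        refine ⟨(hw i).2.1 ▸ (specializes_iff_mem_closure.2 (CycLib.mem_closure_of_divFun_ne_zero hi)).map f.continuous,
          ?_⟩
        by_contra h
        exact hi (CycLib.divFun_eq_zero_of_delta δX _ (by rw [(hw i).2.2]; omega))
      have hG : ∀ x, G x ≠ 0 → f ξ ⤳ f x ∧ f x ≠ f ξ ∧ δX x = k + c := fun x hx => by
        have h1 : f x ≠ f ξ := fun h => hx (by
          show single ξ x - E x = 0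
          rw [show E x = Δ x from rfl, show Δ x = single ξ x from hsum x h, sub_self])
        have h2 : E x ≠ 0 := fun h0 => hx (by
          show single ξ x - E x = 0
          rw [h0, sub_zero, single, if_neg (fun e : x = ξ => h1 (by rw [e]))])
        exact ⟨(hE x h2).1, h1, (hE x h2).2⟩
      obtain ⟨a, ha₁, ha₂, ha₃⟩ := isPull_combine hdX G hGfin (C := closure {f ξ})
        (fun x hx => (isClosed_closure.closure_subset_iff).2
          (Set.singleton_subset_iff.2 (specializes_iff_mem_closure.1 (hG x hx).1)))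
        fun x hx => by
          obtain ⟨h1, h2, h3⟩ := hG x hx
          have h4 := CycLib.delta_lt hdY h1 h2.symm
          have h5 := hc.le hdX x
          exact IH _ (by omega) x h3 rfl
      have hdiv : ZeroOn δX (k + c) (f ⁻¹' closure {f ξ}) fun x => E x :=
        ⟨ι, w, g, fun i => (hw i).2.2, fun i => (hw i).1,
          fun i => by show f (w i) ∈ closure {f ξ}; rw [(hw i).2.1]; exact subset_closure rfl,
          hloc, fun x => rfl⟩
      refine ⟨a, ha₁, ha₂, congr (RatOn.add hdX ha₃ hdiv 1 1) fun x => ?_⟩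
      simp only [G]
      ring

theorem exists_pull_ratEquiv [Flat f] [QuasiCompact f] [IsLocallyNoetherian X] [IsLocallyNoetherian Y]
    (hdX : Cyc.IsDimFun X δX) (hdY : Cyc.IsDimFun Y δY) (hc : HasShift f δX δY c) (H : FibreData f δX c k)
    (β : AlgebraicCycle X ℤ) (hβ : β ∈ Cyc.Zk X δX (k + c)) :
    ∃ (α : AlgebraicCycle Y ℤ) (β' : AlgebraicCycle X ℤ), α ∈ Cyc.Zk Y δY k ∧
      ⇑β' = Cyc.pullFun f δX δY c ⇑α ∧ Cyc.RatEquiv δX (k + c) β β' := by
  obtain ⟨a, ha₁, ha₂, ha₃⟩ := isPull_combine (δY := δY) (c := c) (k := k) hdX (⇑β) (fun x => by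
      obtain ⟨U, hU, hUf⟩ := GysinLib.locFin β x
      obtain ⟨V, hVU, hVo, hxV⟩ := mem_nhds_iff.1 hU
      exact ⟨V, hVo, hxV, hUf.subset fun z hz => ⟨hVU hz.2, hz.1⟩⟩) (C := Set.univ)
    (fun _ _ => Set.subset_univ _) fun ξ hξ => by
      refine isPull_single hdX hdY hc H _ ξ ?_ rfl
      by_contra h
      exact hξ (hβ ξ h)
  let α : AlgebraicCycle Y ℤ :=
    { toFun := a
      supportWithinDomain' := fun _ _ => trivial
      supportLocallyFiniteWithinDomain' := fun y _ => by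
        obtain ⟨U, hUo, hy, hUf⟩ := ha₂ y
        exact ⟨U, hUo.mem_nhds hy, hUf.subset fun z hz => ⟨hz.2, hz.1⟩⟩ }
  exact ⟨α, FlatClass.pullCycle hc hdX α, fun y hy => by
    by_contra h
    exact hy (ha₁ y h).2, rfl, RatOn.ratEquiv ha₃⟩

end Groth.Agent.H23.Homotopy
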