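import Groth.Agent.H23.FFDescent
import Groth.Agent.MorLib.Descend
import Groth.Agent.Pi1Ext.SpreadLim
import Groth.Agent.Hensel.PairBasic
import Groth.Agent.Hensel.HenselizationProps

/-!
Over a henselian local base, a separated quasi-compact scheme covered by an integral scheme with finitely
many points in the closed fibre is affine; consequently the image of an integral scheme with finite
fibres is integral.
-/

set_option autoImplicit false
set_option backward.isDefEq.respectTransparency.types false

universe u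

open CategoryTheory CategoryTheory.Limits AlgebraicGeometry TopologicalSpace IsLocalRing
open Groth.Agent

noncomputable section

namespace Groth.Agent.H23.ImageIntegral

/-- In a ring integral over a henselian local ring, with finitely many primes over the maximal ideal,
every prime lies in a unique maximal ideal. -/
theorem maximal_unique {R B : Type u} [CommRing R] [HenselianLocalRing R] [CommRing B] [Algebra R B]
    [Algebra.IsIntegral R B]
    (hfin : {q : PrimeSpectrum B | q.asIdeal.comap (algebraMap R B) = maximalIdeal R}.Finite)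
    (p m m' : PrimeSpectrum B) (hm : m.asIdeal.IsMaximal) (hm' : m'.asIdeal.IsMaximal)
    (h : p.asIdeal ≤ m.asIdeal) (h' : p.asIdeal ≤ m'.asIdeal) : m = m' := by
  haveI : HenselianRing R (maximalIdeal R) := (Hensel.henselianRing_maximalIdeal_iff R).mpr inferInstance
  haveI := Hensel.henselianRing_of_isIntegral' (maximalIdeal R) B
  let J : Ideal B := (maximalIdeal R).map (algebraMap R B)
  haveI := Hensel.connectedSpace_zeroLocus' J p.asIdeal
  have key : ∀ n : PrimeSpectrum B, n.asIdeal.IsMaximal → n.asIdeal.comap (algebraMap R B) = maximalIdeal R :=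
    fun n hn => eq_maximalIdeal (Ideal.isMaximal_comap_of_isIntegral_of_isMaximal (R := R) n.asIdeal)
  let π := Ideal.Quotient.mk (p.asIdeal ⊔ J)
  have hcmp : ∀ q : PrimeSpectrum (B ⧸ p.asIdeal ⊔ J),
      (q.comap π).asIdeal.comap (algebraMap R B) = maximalIdeal R := by
    intro q
    refine ((maximalIdeal.isMaximal R).eq_of_le (Ideal.IsPrime.ne_top inferInstance) ?_).symm
    rw [← Ideal.map_le_iff_le_comap]
    intro b hb
    show π b ∈ q.asIdeal
    rw [Ideal.Quotient.eq_zero_iff_mem.mpr (Ideal.mem_sup_right hb)]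
    exact q.asIdeal.zero_mem
  have hinj := PrimeSpectrum.comap_injective_of_surjective π Ideal.Quotient.mk_surjective
  haveI : Finite (PrimeSpectrum (B ⧸ p.asIdeal ⊔ J)) := by
    haveI := hfin.to_subtype
    exact Finite.of_injective (fun q => (⟨q.comap π, hcmp q⟩ :
      {q : PrimeSpectrum B | q.asIdeal.comap (algebraMap R B) = maximalIdeal R}))
      fun a b hab => hinj (congrArg Subtype.val hab)
  haveI : T1Space (PrimeSpectrum (B ⧸ p.asIdeal ⊔ J)) := by
    refine ⟨fun q => (PrimeSpectrum.isClosed_singleton_iff_isMaximal q).mpr ?_⟩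
    have hq := hcmp q
    haveI : (q.comap π).asIdeal.IsMaximal :=
      Ideal.isMaximal_of_isIntegral_of_isMaximal_comap (R := R) _ (hq ▸ maximalIdeal.isMaximal R)
    have hmap := Ideal.map_eq_top_or_isMaximal_of_surjective π Ideal.Quotient.mk_surjective
      (I := (q.comap π).asIdeal) inferInstance
    rw [PrimeSpectrum.comap_asIdeal, Ideal.map_comap_of_surjective π Ideal.Quotient.mk_surjective] at hmap
    exact hmap.resolve_left q.2.ne_top
  haveI : DiscreteTopology (PrimeSpectrum (B ⧸ p.asIdeal ⊔ J)) := inferInstance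
  haveI hsub := PreconnectedSpace.trivial_of_discrete (X := PrimeSpectrum (B ⧸ p.asIdeal ⊔ J))
  have lift : ∀ n : PrimeSpectrum B, n.asIdeal.IsMaximal → p.asIdeal ≤ n.asIdeal →
      n ∈ Set.range (PrimeSpectrum.comap π) := by
    intro n hn hle
    rw [range_comap_of_surjective _ π Ideal.Quotient.mk_surjective, Ideal.mk_ker,
      PrimeSpectrum.mem_zeroLocus]
    exact SetLike.coe_subset_coe.mpr (sup_le hle (Ideal.map_le_iff_le_comap.mpr (key n hn).ge))
  obtain ⟨a, rfl⟩ := lift m hm h
  obtain ⟨b, rfl⟩ := lift m' hm' h'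
  rw [Subsingleton.elim a b]

theorem isAffine_of_henselian {R : CommRingCat.{u}} [HenselianLocalRing R] {X Y : Scheme.{u}}
    [IsAffine X] (h : X ⟶ Y) [Surjective h] (g : Y ⟶ Spec R) [IsIntegralHom (h ≫ g)]
    [IsSeparated g] [QuasiCompact g]
    (hfin : ((h ≫ g).base ⁻¹' {closedPoint R}).Finite) : IsAffine Y := by
  wlog hX : ∃ B, X = Spec B generalizing X
  · have hf : ((X.isoSpec.inv ≫ h) ≫ g).base ⁻¹' {closedPoint R} =
        X.isoSpec.inv.base ⁻¹' ((h ≫ g).base ⁻¹' {closedPoint R}) := by
      rw [Category.assoc]; rfl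
    haveI hint' : IsIntegralHom ((X.isoSpec.inv ≫ h) ≫ g) := by
      rw [Category.assoc]; exact (MorphismProperty.cancel_left_of_respectsIso @IsIntegralHom _ _).mpr inferInstance
    exact this (X.isoSpec.inv ≫ h)
      (by rw [hf]; exact hfin.preimage (Scheme.Hom.homeomorph X.isoSpec.inv).injective.injOn) ⟨_, rfl⟩
  obtain ⟨B, rfl⟩ := hX
  obtain ⟨φ, hφ⟩ := Spec.map_surjective (h ≫ g)
  have hint : φ.hom.IsIntegral := IsIntegralHom.SpecMap_iff.mp (hφ ▸ inferInstance)
  letI : Algebra R B := φ.hom.toAlgebra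
  haveI : Algebra.IsIntegral R B := ⟨hint⟩
  have hfin' : {q : PrimeSpectrum B | q.asIdeal.comap (algebraMap R B) = maximalIdeal R}.Finite := by
    refine hfin.subset fun q hq => ?_
    show (h ≫ g) q = closedPoint R
    rw [← hφ]
    exact PrimeSpectrum.ext hq
  haveI : IsIntegralHom h := IsIntegralHom.of_comp h g
  have hcl : IsClosedMap h.base := h.isClosedMap
  let M : Set (Spec B) := {m : PrimeSpectrum B | m.asIdeal.IsMaximal}
  have hM : M.Finite := hfin'.subset fun m (hm : m.asIdeal.IsMaximal) =>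
    eq_maximalIdeal (Ideal.isMaximal_comap_of_isIntegral_of_isMaximal (R := R) m.asIdeal)
  have hclosed : ∀ m ∈ M, IsClosed {h.base m} := fun m hm => by
    rw [← Set.image_singleton]
    exact hcl _ ((PrimeSpectrum.isClosed_singleton_iff_isMaximal _).mpr hm)
  have hexm : ∀ x : Spec B, ∃ m ∈ M, x ⤳ m := fun x => by
    obtain ⟨n, hn, hle⟩ := Ideal.exists_le_maximal _ (show PrimeSpectrum B from x).2.ne_top
    exact ⟨(⟨n, hn.isPrime⟩ : PrimeSpectrum B), hn, (PrimeSpectrum.le_iff_specializes _ _).mp hle⟩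
  -- the components of the maximal points
  let D : Spec B → Set (Spec B) := fun m => {x | x ⤳ m}
  have hD : ∀ m ∈ M, IsClosed (D m) := by
    intro m hm
    have hr : D m = Set.range (PrimeSpectrum.comap (algebraMap B (Localization.AtPrime (show PrimeSpectrum B from m).asIdeal))) := by
      rw [PrimeSpectrum.localization_comap_range _ (show PrimeSpectrum B from m).asIdeal.primeCompl]
      ext x
      constructor
      · intro (hx : x ⤳ m)
        have hle := (PrimeSpectrum.le_iff_specializes (show PrimeSpectrum B from x) _).mpr hx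
        exact Set.disjoint_left.mpr fun b hb hb' => hb (hle hb')
      · intro hx
        refine (PrimeSpectrum.le_iff_specializes (show PrimeSpectrum B from x) _).mp ?_
        intro b hb
        by_contra hb'
        exact Set.disjoint_left.mp hx hb' hb
    rw [hr]
    refine PrimeSpectrum.stableUnderSpecialization_range_iff.mp ?_
    rw [← hr]
    intro x y hxy (hx : x ⤳ m)
    obtain ⟨m', hm', hy⟩ := hexm y
    have := maximal_unique (R := R) hfin' x m m' hm hm'
      ((PrimeSpectrum.le_iff_specializes _ _).mpr hx) ((PrimeSpectrum.le_iff_specializes _ _).mpr (hxy.trans hy))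
    exact this ▸ hy
  -- every point of `Y` specializes to a unique image of a maximal point
  have huniq : ∀ (z : Y), ∀ m ∈ M, ∀ m' ∈ M, z ⤳ h m → z ⤳ h m' → h m = h m' := by
    intro z m hm m' hm' hz hz'
    obtain ⟨x, rfl⟩ := h.surjective z
    obtain ⟨x₁, hx₁, hx₁'⟩ := hcl.specializingMap hz
    obtain ⟨x₂, hx₂, hx₂'⟩ := hcl.specializingMap hz'
    obtain ⟨n₁, hn₁, hn₁'⟩ := hexm x₁
    obtain ⟨n₂, hn₂, hn₂'⟩ := hexm x₂
    have e := maximal_unique (R := R) hfin' x n₁ n₂ hn₁ hn₂
      ((PrimeSpectrum.le_iff_specializes _ _).mpr ((show x ⤳ x₁ from hx₁).trans hn₁'))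
      ((PrimeSpectrum.le_iff_specializes _ _).mpr ((show x ⤳ x₂ from hx₂).trans hn₂'))
    have e₁ : h n₁ = h m := by
      have := hn₁'.map h.continuous
      rw [hx₁'] at this
      exact this.mem_closed (hclosed m hm) rfl
    have e₂ : h n₂ = h m' := by
      have := hn₂'.map h.continuous
      rw [hx₂'] at this
      exact this.mem_closed (hclosed m' hm') rfl
    rw [← e₁, ← e₂]
    exact congrArg h.base e
  -- the components
  let T : Set Y := h.base '' M
  have hT : T.Finite := hM.image _
  let C : Y → Set Y := fun y => {z | z ⤳ y}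
  have hC : ∀ y ∈ T, IsClosed (C y) := by
    intro y hy
    have : C y = h.base '' ⋃ m ∈ {m | m ∈ M ∧ h.base m = y}, D m := by
      apply subset_antisymm
      · intro z (hz : z ⤳ y)
        obtain ⟨x, rfl⟩ := h.surjective z
        obtain ⟨m, hm, hxm⟩ := hexm x
        obtain ⟨m₀, hm₀, rfl⟩ := hy
        exact ⟨x, Set.mem_biUnion ⟨hm, (huniq _ m hm m₀ hm₀ (hxm.map h.continuous) hz)⟩ hxm, rfl⟩
      · rintro _ ⟨x, hx, rfl⟩
        obtain ⟨m, ⟨hm, rfl⟩, hxm⟩ := Set.mem_iUnion₂.mp hx
        exact (show x ⤳ m from hxm).map h.continuous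
    rw [this]
    exact hcl _ ((hM.subset fun m hm => hm.1).isClosed_biUnion fun m hm => hD m hm.1)
  have hcov : ∀ z : Y, ∃ y ∈ T, z ∈ C y := fun z => by
    obtain ⟨x, rfl⟩ := h.surjective z
    obtain ⟨m, hm, hxm⟩ := hexm x
    exact ⟨_, ⟨m, hm, rfl⟩, hxm.map h.continuous⟩
  have hdisj : ∀ y ∈ T, ∀ y' ∈ T, ∀ z, z ∈ C y → z ∈ C y' → y = y' := by
    rintro _ ⟨m, hm, rfl⟩ _ ⟨m', hm', rfl⟩ z hz hz'
    exact huniq z m hm m' hm' hz hz'
  have hO : ∀ y ∈ T, IsOpen (C y) := by
    intro y hy
    have : (C y)ᶜ = ⋃ y' ∈ T \ {y}, C y' := by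
      ext z
      simp only [Set.mem_compl_iff, Set.mem_iUnion, Set.mem_diff, Set.mem_singleton_iff, exists_prop]
      constructor
      · intro hz
        obtain ⟨y', hy', hz'⟩ := hcov z
        exact ⟨y', ⟨hy', fun e => hz (e ▸ hz')⟩, hz'⟩
      · rintro ⟨y', ⟨hy', hne⟩, hz'⟩ hz
        exact hne (hdisj y' hy' y hy z hz' hz)
    rw [← isClosed_compl_iff, this]
    exact (hT.subset Set.sdiff_subset).isClosed_biUnion fun y' hy' => hC y' hy'.1
  let U : T → Y.Opens := fun y => ⟨C y.1, hO y.1 y.2⟩
  have hU : ∀ y, IsAffineOpen (U y) := by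
    intro y
    obtain ⟨V, hV, hyV, -⟩ := exists_isAffineOpen_mem_and_subset (x := y.1) (U := ⊤) trivial
    have hle : U y ≤ V := fun z (hz : z ⤳ y.1) => hz.mem_open V.2 hyV
    haveI : IsClosedImmersion (Y.homOfLE hle) := by
      refine IsClosedImmersion.of_isPreimmersion _ ?_
      have : Set.range (Y.homOfLE hle).base = {x : V | (x : Y) ∈ U y} := by
        ext x
        constructor
        · rintro ⟨a, rfl⟩
          show (Y.homOfLE hle a).1 ∈ U y
          rw [Scheme.homOfLE_apply]
          exact a.2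
        · intro hx
          exact ⟨⟨x.1, hx⟩, Subtype.ext (Scheme.homOfLE_apply hle _)⟩
      rw [this]
      exact (hC y.1 y.2).preimage continuous_subtype_val
    haveI : IsAffine V := hV
    exact isAffine_of_isAffineHom (Y.homOfLE hle)
  have hsup : iSup U = ⊤ := top_le_iff.mp fun z _ => by
    obtain ⟨y, hy, hz⟩ := hcov z
    exact Opens.mem_iSup.mpr ⟨⟨y, hy⟩, hz⟩
  haveI := hT.to_subtype
  have htop : IsAffineOpen (⊤ : Y.Opens) := hsup ▸ IsAffineOpen.iSup_of_disjoint hU fun a b hab => by
    show Disjoint (U a) (U b)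
    rw [disjoint_iff_inf_le]
    rintro z ⟨hza, hzb⟩
    exact (hab (Subtype.ext (hdisj a.1 a.2 b.1 b.2 z hza hzb))).elim
  haveI : IsAffine (⊤ : Y.Opens) := htop
  exact IsAffine.of_isIso Y.topIso.inv

variable {X Y S : Scheme.{u}} (h : X ⟶ Y) (g : Y ⟶ S) [IsIntegralHom (h ≫ g)] [Surjective h]
  [IsSeparated g] [QuasiCompact g]

theorem isAffineHom_snd_of_isLocalRing (hfin : ∀ s : S, ((h ≫ g).base ⁻¹' {s}).Finite)
    (R : CommRingCat.{u}) [IsLocalRing R] (j : Spec R ⟶ S) [IsPreimmersion j] :
    IsAffineHom (pullback.snd g j) := by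
  let H : CommRingCat.{u} := CommRingCat.of (Hensel.LocalHenz R)
  haveI : HenselianLocalRing H := inferInstanceAs (HenselianLocalRing (Hensel.LocalHenz R))
  let φ : R ⟶ H := CommRingCat.ofHom (algebraMap R (Hensel.LocalHenz R))
  have hff : (algebraMap R (Hensel.LocalHenz R)).FaithfullyFlat :=
    RingHom.faithfullyFlat_algebraMap_iff.mpr inferInstance
  haveI : Surjective (Spec.map φ) :=
    ⟨(RingHom.FaithfullyFlat.iff_flat_and_comap_surjective.mp hff).2⟩
  haveI : Flat (Spec.map φ) := (HasRingHomProperty.Spec_iff (P := @Flat)).mpr hff.flat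
  suffices hA : IsAffine (pullback g (Spec.map φ ≫ j)) by
    haveI : IsAffineHom (pullback.snd (pullback.snd g j) (Spec.map φ)) := by
      rw [← pullbackLeftPullbackSndIso_hom_snd g j (Spec.map φ)]
      exact (MorphismProperty.cancel_left_of_respectsIso (P := @IsAffineHom) _ _).mpr (isAffineHom_of_isAffine _)
    exact FFDescent.isAffineHom_of_baseChange (pullback.snd g j) (Spec.map φ)
  let q : Spec H ⟶ S := Spec.map φ ≫ j
  let hq : pullback (h ≫ g) q ⟶ pullback g q :=
    pullback.map (h ≫ g) q g q h (𝟙 _) (𝟙 _) (Category.comp_id _) (by simp)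
  have sq : IsPullback hq (pullback.fst (h ≫ g) q) (pullback.fst g q) h := by
    have hsnd : hq ≫ pullback.snd g q = pullback.snd (h ≫ g) q :=
      (pullback.lift_snd _ _ _).trans (Category.comp_id _)
    refine IsPullback.of_right (h₁₂ := pullback.snd g q) (v₁₃ := q) (h₂₂ := g) ?_ (pullback.lift_fst _ _ _) (IsPullback.of_hasPullback g q).flip
    rw [hsnd]
    exact (IsPullback.of_hasPullback (h ≫ g) q).flip
  haveI : Surjective hq := MorphismProperty.of_isPullback sq.flip inferInstance
  haveI : IsIntegralHom (hq ≫ pullback.snd g q) := by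
    rw [show hq ≫ pullback.snd g q = pullback.snd (h ≫ g) q from (pullback.lift_snd _ _ _).trans (Category.comp_id _)]
    infer_instance
  haveI : IsAffine (pullback (h ≫ g) q) := isAffine_of_isAffineHom (pullback.snd (h ≫ g) q)
  refine isAffine_of_henselian hq (pullback.snd g q) ?_
  rw [show hq ≫ pullback.snd g q = pullback.snd (h ≫ g) q from (pullback.lift_snd _ _ _).trans (Category.comp_id _)]
  let k : Spec (CommRingCat.of (ResidueField H)) ⟶ Spec H := Spec.map (CommRingCat.ofHom (residue H))
  haveI : IsPreimmersion (k ≫ q) := by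
    have hs : Function.Surjective (φ ≫ CommRingCat.ofHom (residue H)).hom := by
      intro x
      obtain ⟨a, ha⟩ := (Hensel.bijective_residueFieldMap_of_isHenselization R (Hensel.LocalHenz R)).2 x
      obtain ⟨a, rfl⟩ := residue_surjective a
      exact ⟨a, ha⟩
    haveI := IsClosedImmersion.spec_of_surjective (φ ≫ CommRingCat.ofHom (residue H)) hs
    rw [show k ≫ q = Spec.map (φ ≫ CommRingCat.ofHom (residue H)) ≫ j by
      simp [k, q, Spec.map_comp]]
    infer_instance
  haveI : IsPreimmersion (pullback.fst (h ≫ g) (k ≫ q)) := MorphismProperty.pullback_fst _ _ inferInstance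
  let p : pullback (h ≫ g) (k ≫ q) ⟶ pullback (h ≫ g) q :=
    pullback.map _ _ _ _ (𝟙 _) k (𝟙 _) (by simp) (by simp)
  let c : Spec (CommRingCat.of (ResidueField H)) := IsLocalRing.closedPoint _
  have hc : k c = closedPoint H := IsLocalRing.comap_closedPoint (residue H)
  have hfin' : (Set.univ : Set ↥(pullback (h ≫ g) (k ≫ q))).Finite := by
    refine Set.Finite.of_finite_image ((hfin (q (k c))).subset ?_)
      (pullback.fst (h ≫ g) (k ≫ q)).isEmbedding.injective.injOn
    rintro _ ⟨z, -, rfl⟩
    have e := congr($(pullback.condition (f := h ≫ g) (g := k ≫ q)) z)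
    simp only [Scheme.Hom.comp_apply] at e
    rw [show (pullback.snd (h ≫ g) (k ≫ q)) z = c from Subsingleton.elim _ _] at e
    exact e
  refine (hfin'.image p.base).subset ?_
  intro z hz
  have sqk : IsPullback p (pullback.snd (h ≫ g) (k ≫ q)) (pullback.snd (h ≫ g) q) k := by
    refine IsPullback.of_right ?_ (pullback.lift_snd _ _ _) (IsPullback.of_hasPullback (h ≫ g) q)
    rw [show p ≫ pullback.fst (h ≫ g) q = pullback.fst (h ≫ g) (k ≫ q) from (pullback.lift_fst _ _ _).trans (Category.comp_id _)]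
    exact IsPullback.of_hasPullback (h ≫ g) (k ≫ q)
  obtain ⟨w, hw, -⟩ := Scheme.Pullback.exists_preimage_pullback (f := pullback.snd (h ≫ g) q) (g := k)
    z c (by rw [hc]; exact hz)
  refine ⟨sqk.isoPullback.inv w, trivial, ?_⟩
  rw [← Scheme.Hom.comp_apply, sqk.isoPullback_inv_fst]
  exact hw

/-- A scheme covered by an integral scheme with finite fibres is affine over the base. -/
theorem isAffineHom_of_surjective (hfin : ∀ s : S, ((h ≫ g).base ⁻¹' {s}).Finite) : IsAffineHom g := by
  open Pi1Ext.SpreadLim in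
  have key : ∀ s : S, ∃ W : Nbhd S s, IsAffineHom (pullback.snd g (toX S s W)) := by
    intro s
    obtain ⟨i⟩ := (inferInstance : Nonempty (Nbhd S s))
    have h0 : IsAffineHom (pullback.snd (pullback.snd g (toX S s i)) ((cone S s).π.app i)) := by
      have := isAffineHom_snd_of_isLocalRing h g hfin _ (S.fromSpecStalk s)
      rw [← pullbackLeftPullbackSndIso_hom_snd g (toX S s i) ((cone S s).π.app i)]
      refine (MorphismProperty.cancel_left_of_respectsIso (P := @IsAffineHom) _ _).mpr ?_
      have aux : ∀ q : Spec (S.presheaf.stalk s) ⟶ S, q = S.fromSpecStalk s → IsAffineHom (pullback.snd g q) := by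
        rintro q rfl; exact this
      exact aux _ (π_toX S s i)
    haveI : IsAffine ((specs S s).obj i) := inferInstanceAs (IsAffine (Spec _))
    haveI : CompactSpace ↥(pullback g (toX S s i)) :=
      QuasiCompact.compactSpace_of_compactSpace (pullback.snd g (toX S s i))
    haveI : QuasiSeparatedSpace ↥(pullback g (toX S s i)) :=
      quasiSeparatedSpace_of_quasiSeparated (pullback.snd g (toX S s i))
    obtain ⟨W, φ, hW⟩ := MorLib.Desc.core_affine (Nbhd S s) (specs S s) (cone S s) (isLimit S s)
      (fun _ _ _ => inferInstance) i inferInstance (pullback.snd g (toX S s i)) inferInstance inferInstance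
      trivial h0
    refine ⟨W, ?_⟩
    rw [← pullbackLeftPullbackSndIso_hom_snd g (toX S s i) ((specs S s).map φ)] at hW
    rw [← map_toX S s φ]
    exact (MorphismProperty.cancel_left_of_respectsIso (P := @IsAffineHom) _ _).mp hW
  choose W hW using key
  let 𝒰 : S.OpenCover := Scheme.Cover.mkOfCovers ↥S (fun s => Spec Γ(S, (W s).1))
    (fun s => Pi1Ext.SpreadLim.toX S s (W s))
    (fun s => ⟨s, show s ∈ Set.range (Pi1Ext.SpreadLim.toX S s (W s)).base by
      rw [Pi1Ext.SpreadLim.range_toX]; exact (W s).2.2⟩) (fun s => inferInstanceAs (IsOpenImmersion (W s).2.1.fromSpec))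
  exact IsZariskiLocalAtTarget.of_openCover (P := @IsAffineHom) 𝒰 fun s => hW s

omit [IsSeparated g] [QuasiCompact g] in
theorem finite_fibres (hfin : ∀ s : S, ((h ≫ g).base ⁻¹' {s}).Finite) (s : S) : (g.base ⁻¹' {s}).Finite := by
  refine ((hfin s).image h.base).subset fun y hy => ?_
  obtain ⟨x, rfl⟩ := h.surjective y
  exact ⟨x, hy, rfl⟩

theorem image_integral {X Y S : Scheme.{u}} (f : X ⟶ Y) (g : Y ⟶ S)
    [IsSeparated g] [IsIntegralHom (f ≫ g)] (hfin : ∀ s : S, Set.Finite ((f ≫ g).base ⁻¹' {s})) :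
    IsIntegralHom (f.imageι ≫ g) ∧ ∀ s : S, Set.Finite ((f.imageι ≫ g).base ⁻¹' {s}) := by
  haveI : IsIntegralHom f := IsIntegralHom.of_comp f g
  haveI : Surjective f.toImage := by
    refine ⟨Set.range_eq_univ.mp ?_⟩
    have hcl : IsClosedMap f.toImage.base := f.toImage.isClosedMap
    exact ((hcl.isClosed_range).closure_eq.symm.trans f.toImage.denseRange.closure_range)
  haveI : IsIntegralHom (f.toImage ≫ f.imageι ≫ g) := by
    rw [Scheme.Hom.toImage_imageι_assoc]; infer_instance
  haveI : UniversallyClosed (f.imageι ≫ g) := UniversallyClosed.of_comp_surjective f.toImage _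
  haveI : QuasiCompact (f.imageι ≫ g) := inferInstance
  have hfin' : ∀ s : S, ((f.toImage ≫ f.imageι ≫ g).base ⁻¹' {s}).Finite := fun s => by
    rw [Scheme.Hom.toImage_imageι_assoc]; exact hfin s
  haveI := isAffineHom_of_surjective f.toImage (f.imageι ≫ g) hfin'
  exact ⟨IsIntegralHom.iff_universallyClosed_and_isAffineHom.mpr ⟨inferInstance, inferInstance⟩,
    finite_fibres f.toImage (f.imageι ≫ g) hfin'⟩

end Groth.Agent.H23.ImageIntegral
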