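import Groth.Agent.SGA1Q.Orbits

/-!
A quotient of a scheme induced from an open piece: if the translates of an open `P` cover `X` and the
only elements moving a point of `P` into `P` come from `H`, then `X/G = P/H`.
-/

set_option autoImplicit false

universe u

open CategoryTheory CategoryTheory.Limits AlgebraicGeometry TopologicalSpace

namespace Groth.Agent.H23.InducedQuot

variable {X Y P Z : Scheme.{u}} {G H : Type u} [Group G] [Finite G] [Group H] [Finite H]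
  {ρ : G →* Aut X} {q : X ⟶ Y} {e : P ⟶ X} [IsOpenImmersion e] (φ : H →* G) {ρP : H →* Aut P}
  {m : P ⟶ Z}

theorem exists_iso (hq : SGA1.IsQuot ρ q) (hm : SGA1.IsQuot ρP m)
    (he : ∀ h : H, (ρP h).hom ≫ e = e ≫ (ρ (φ h)).hom)
    (hcov : ∀ x : X, ∃ g : G, (ρ g).hom x ∈ Set.range e)
    (hsep : ∀ (p : P) (g : G), (ρ g).hom (e p) ∈ Set.range e → g ∈ Set.range φ) :
    ∃ θ : Z ≅ Y, m ≫ θ.hom = e ≫ q := by
  classical
  let U : G → X.Opens := fun g => (ρ g).hom ⁻¹ᵁ e.opensRange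
  have hU : IsOpenCover U := TopologicalSpace.IsOpenCover.mk (eq_top_iff.2 fun x _ => by
    obtain ⟨g, hg⟩ := hcov x
    exact Opens.mem_iSup.2 ⟨g, hg⟩)
  let 𝒰 := X.openCoverOfIsOpenCover U hU
  have hr : ∀ g : G, Set.range ((U g).ι ≫ (ρ g).hom) ⊆ Set.range e := by
    rintro g _ ⟨x, rfl⟩
    exact x.2
  let l : ∀ g : G, (U g).toScheme ⟶ P := fun g => IsOpenImmersion.lift e _ (hr g)
  have hl : ∀ g, l g ≫ e = (U g).ι ≫ (ρ g).hom := fun g => IsOpenImmersion.lift_fac _ _ _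
  have hmul : ∀ a b : G, (ρ (a * b)).hom = (ρ b).hom ≫ (ρ a).hom := fun a b => SGA1Q.hom_mul ρ a b
  have hcompat : ∀ (g g' : G) {W : Scheme.{u}} (a : W ⟶ (U g).toScheme) (b : W ⟶ (U g').toScheme),
      a ≫ (U g).ι = b ≫ (U g').ι → a ≫ l g ≫ m = b ≫ l g' ≫ m := by
    intro g g' W a b hab
    rcases isEmpty_or_nonempty W with hW | ⟨⟨w⟩⟩
    · exact isInitialOfIsEmpty.hom_ext _ _
    · have key : b ≫ l g' ≫ e = (a ≫ l g) ≫ e ≫ (ρ (g' * g⁻¹)).hom := by
        rw [hl, ← reassoc_of% hab, Category.assoc, reassoc_of% hl g, ← hmul]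
        simp
      obtain ⟨h, hh⟩ := hsep (l g (a w)) (g' * g⁻¹) ⟨l g' (b w), congr(($key).base w)⟩
      have : b ≫ l g' = (a ≫ l g) ≫ (ρP h).hom := by
        rw [← cancel_mono e, Category.assoc, key, Category.assoc (a ≫ l g) (ρP h).hom e, he, hh]
      rw [reassoc_of% this, hm.inv h]
  let Θ : X ⟶ Z := 𝒰.glueMorphisms (fun g => l g ≫ m) fun g g' => hcompat g g' _ _ pullback.condition
  have hΘ : ∀ g : G, (U g).ι ≫ Θ = l g ≫ m := fun g => 𝒰.ι_glueMorphisms _ _ g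
  have hΘinv : ∀ a : G, (ρ a).hom ≫ Θ = Θ := fun a => 𝒰.hom_ext _ _ fun (g : G) => by
    have hk : Set.range ((U g).ι ≫ (ρ a).hom) ⊆ Set.range (U (g * a⁻¹)).ι := by
      rintro _ ⟨x, rfl⟩
      rw [Scheme.Opens.range_ι]
      show (ρ (g * a⁻¹)).hom ((ρ a).hom x.1) ∈ e.opensRange
      rw [← Scheme.Hom.comp_apply, ← hmul, inv_mul_cancel_right]
      exact x.2
    let k := IsOpenImmersion.lift (U (g * a⁻¹)).ι ((U g).ι ≫ (ρ a).hom) hk
    have hk' : k ≫ (U (g * a⁻¹)).ι = (U g).ι ≫ (ρ a).hom := IsOpenImmersion.lift_fac _ _ _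
    have : k ≫ l (g * a⁻¹) = l g := by
      rw [← cancel_mono e, Category.assoc, hl, hl, reassoc_of% hk', ← hmul]
      simp
    show (U g).ι ≫ (ρ a).hom ≫ Θ = (U g).ι ≫ Θ
    rw [← reassoc_of% hk', hΘ, hΘ, reassoc_of% this]
  have hr1 : Set.range e ⊆ Set.range (U 1).ι := by
    rintro _ ⟨p, rfl⟩
    rw [Scheme.Opens.range_ι]
    show (ρ 1).hom (e p) ∈ e.opensRange
    rw [map_one]
    exact ⟨p, rfl⟩
  have heΘ : e ≫ Θ = m := by
    let j := IsOpenImmersion.lift (U 1).ι e hr1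
    have hj : j ≫ (U 1).ι = e := IsOpenImmersion.lift_fac _ _ _
    have hj' : j ≫ l 1 = 𝟙 P := by
      rw [← cancel_mono e, Category.assoc, hl, reassoc_of% hj, map_one, Category.id_comp]
      exact Category.comp_id e
    rw [← hj, Category.assoc, hΘ, reassoc_of% hj']
  obtain ⟨θ, hθ, -⟩ := SGA1Q.desc_existsUnique_isQuot hm (e ≫ q) fun h => by
    rw [reassoc_of% he h, hq.inv]
  obtain ⟨θ', hθ', -⟩ := SGA1Q.desc_existsUnique_isQuot hq Θ hΘinv
  haveI := SGA1Q.epi_of_surjective_of_injective m (SGA1Q.surjective hm) hm.injective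
  haveI := SGA1Q.epi_of_surjective_of_injective q (SGA1Q.surjective hq) hq.injective
  refine ⟨⟨θ, θ', ?_, ?_⟩, hθ⟩
  · rw [← cancel_epi m, reassoc_of% hθ, hθ', heΘ, Category.comp_id]
  · rw [← cancel_epi q, reassoc_of% hθ', Category.comp_id]
    refine 𝒰.hom_ext _ _ fun (g : G) => ?_
    show (U g).ι ≫ Θ ≫ θ = (U g).ι ≫ q
    rw [reassoc_of% hΘ g, hθ, reassoc_of% hl g, hq.inv g]

end Groth.Agent.H23.InducedQuot
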