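import Groth.Agent.H23.InsepLen
import Groth.Agent.H23.FlatShift
import Groth.Agent.H23.FibreDegSum
import Groth.Agent.FibDim.BaseChange
import Groth.Agent.CycLib.LFT

/-! Base change of cycles along a purely inseparable extension of the ground field. -/

set_option autoImplicit false
set_option linter.style.haveILetI false

universe u

open AlgebraicGeometry CategoryTheory CategoryTheory.Limits TensorProduct

namespace Groth.Agent.H23.InsepBC

open Groth.Agent FiniteFibreSum

variable {k P : Type u} [Field k] [Field P] [Algebra k P] [IsPurelyInseparable k P]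
  {X : Scheme.{u}} (f : X ⟶ Spec (CommRingCat.of k)) [LocallyOfFiniteType f]

/-- The projection from the base change. -/
noncomputable abbrev proj : pullback f (Spec.map (CommRingCat.ofHom (algebraMap k P))) ⟶ X := pullback.fst _ _

/-- `k → κ(x)`. -/
noncomputable def toResidue (x : X) : CommRingCat.of k ⟶ X.residueField x :=
  (Scheme.ΓSpecIso (CommRingCat.of k)).inv ≫ (Spec (CommRingCat.of k)).presheaf.germ ⊤ (f x) trivial ≫
    f.stalkMap x ≫ X.residue x

omit [LocallyOfFiniteType f] in
theorem fromSpecResidueField_comp (x : X) :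
    X.fromSpecResidueField x ≫ f = Spec.map (toResidue f x) := by
  rw [Scheme.fromSpecResidueField, Category.assoc, ← Scheme.SpecMap_stalkMap_fromSpecStalk,
    Spec.fromSpecStalk_eq]
  simp only [toResidue, Spec.map_comp, Category.assoc]

theorem essFiniteType_toResidue (x : X) : (toResidue f x).hom.EssFiniteType := by
  have h1 : ((Scheme.ΓSpecIso (CommRingCat.of k)).inv ≫
      (Spec (CommRingCat.of k)).presheaf.germ ⊤ (f x) trivial).hom.EssFiniteType := by
    letI : Algebra k ((Spec (CommRingCat.of k)).presheaf.stalk (f x)) := StructureSheaf.stalkAlgebra k (f x)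
    have : IsLocalization.AtPrime ((Spec (CommRingCat.of k)).presheaf.stalk (f x)) (f x).asIdeal :=
      StructureSheaf.IsLocalization.to_stalk k (f x)
    exact RingHom.essFiniteType_algebraMap.2 (Algebra.EssFiniteType.of_isLocalization
      ((Spec (CommRingCat.of k)).presheaf.stalk (f x)) (f x).asIdeal.primeCompl)
  have h2 := RingHom.EssFiniteType.comp (RingHom.EssFiniteType.comp h1 (LocallyOfFiniteType.stalkMap f x))
    (RingHom.FiniteType.of_surjective _ (X.residue_surjective x)).essFiniteType
  exact h2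

theorem exists_fibre_spec (x : X) :
    ∃ (A : Type u) (_ : CommRing A) (_ : IsLocalRing A) (q : ℕ) (_ : ExpChar k q) (n : ℕ),
      IsLocalRing.maximalIdeal A ≤ nilradical A ∧ Module.length A A = (q ^ n : ℕ) ∧
      Nonempty ((proj (P := P) f).fiber x ≅ Spec (CommRingCat.of A)) := by
  obtain ⟨q, hq⟩ := ExpChar.exists k
  letI : Algebra k (X.residueField x) := (toResidue f x).hom.toAlgebra
  haveI : Algebra.EssFiniteType k (X.residueField x) := RingHom.essFiniteType_algebraMap.1 (essFiniteType_toResidue f x)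
  obtain ⟨hl, _, hnil⟩ := InsepLen.isArtinian_purelyInseparable k P (X.residueField x)
  obtain ⟨n, hn⟩ := InsepLen.length_insep k P (X.residueField x) q
  refine ⟨P ⊗[k] X.residueField x, inferInstance, hl, q, hq, n, hnil, hn, ⟨?_⟩⟩
  exact pullbackSymmetry _ _ ≪≫ pullbackRightPullbackFstIso f _ (X.fromSpecResidueField x) ≪≫
    pullback.congrHom (fromSpecResidueField_comp f x) rfl ≪≫
    pullbackSpecIso k (X.residueField x) P ≪≫
    Scheme.Spec.mapIso (Algebra.TensorProduct.comm k P (X.residueField x)).toRingEquiv.toCommRingCatIso.op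

theorem exists_point (x : X) (q : ℕ) [ExpChar k q] :
    ∃ z, proj (P := P) f z = x ∧ (∀ z', proj (P := P) f z' = x → z' = z) ∧
      ∃ n : ℕ, fibreLen (proj (P := P) f) z = (q ^ n : ℕ) := by
  obtain ⟨A, _, hl, q', hq', n, hnil, hn, ⟨e⟩⟩ := exists_fibre_spec (P := P) f x
  obtain rfl := ExpChar.eq hq' ‹ExpChar k q›
  have huniq : ∀ a b : ↥(Spec (CommRingCat.of A)), a = b := fun a b => by
    have h : ∀ a : PrimeSpectrum A, a.asIdeal = IsLocalRing.maximalIdeal A := fun a =>
      le_antisymm (IsLocalRing.le_maximalIdeal a.isPrime.ne_top)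
        fun r hr => a.isPrime.radical.le (Ideal.radical_mono bot_le (hnil hr))
    exact PrimeSpectrum.ext ((h a).trans (h b).symm)
  let w := e.inv (IsLocalRing.closedPoint A)
  have hw : ∀ v : ↥((proj (P := P) f).fiber x), v = w := fun v =>
    e.hom.homeomorph.injective (huniq _ _)
  refine ⟨(proj (P := P) f).fiberι x w, FibDim.fiber_apply_fiberι _ w, fun z' hz' => ?_, n, ?_⟩
  · obtain ⟨v, rfl⟩ : z' ∈ Set.range ((proj (P := P) f).fiberι x) := by rw [Scheme.Hom.range_fiberι]; exact hz'
    rw [hw v]
  · rw [fibreLen_fiberι, ← hn]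
    let φ : CommRingCat.of A ⟶ ((proj (P := P) f).fiber x).presheaf.stalk w :=
      (StructureSheaf.toStalk A (e.hom w)) ≫ e.hom.stalkMap w
    refine (length_self_of_bijective φ.hom ?_).symm
    have h1 : Function.Bijective (StructureSheaf.toStalk A (e.hom w)).hom := by
      letI : Algebra A ((Spec (CommRingCat.of A)).presheaf.stalk (e.hom w)) := StructureSheaf.stalkAlgebra A (e.hom w)
      have : IsLocalization.AtPrime ((Spec (CommRingCat.of A)).presheaf.stalk (e.hom w)) (e.hom w).asIdeal :=
        StructureSheaf.IsLocalization.to_stalk A (e.hom w)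
      exact (IsLocalization.atUnits A (e.hom w).asIdeal.primeCompl
        (S := (Spec (CommRingCat.of A)).presheaf.stalk (e.hom w)) fun r hr => IsLocalRing.notMem_maximalIdeal.1 fun h =>
          hr ((e.hom w).isPrime.radical.le (Ideal.radical_mono bot_le (hnil h)))).bijective
    exact ((ConcreteCategory.bijective_of_isIso (e.hom.stalkMap w))).comp h1

theorem rd_eq (z : ↥(pullback f (Spec.map (CommRingCat.ofHom (algebraMap k P))))) :
    FibDim.rd (pullback.snd f (Spec.map (CommRingCat.ofHom (algebraMap k P)))) z =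
      FibDim.rd f (proj (P := P) f z) := by
  obtain ⟨q, hq⟩ := ExpChar.exists k
  obtain ⟨z₀, -, hu, -⟩ := exists_point (P := P) f (proj (P := P) f z) q
  obtain ⟨z', hz', -, hrd⟩ := FibDim.exists_rd_baseChange_eq
    (IsPullback.of_hasPullback f (Spec.map (CommRingCat.ofHom (algebraMap k P)))) (proj (P := P) f z)
    (pullback.snd f (Spec.map (CommRingCat.ofHom (algebraMap k P))) z)
    (by show (proj f ≫ f) z = _; rw [pullback.condition]; rfl)
  rwa [hu z' hz', ← hu z rfl] at hrd

theorem hasShift {δ : X → ℤ} {δ' : ↥(pullback f (Spec.map (CommRingCat.ofHom (algebraMap k P)))) → ℤ}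
    (hδ : Cyc.DeltaCompat f δ (fun _ => 0))
    (hδ' : Cyc.DeltaCompat (pullback.snd f (Spec.map (CommRingCat.ofHom (algebraMap k P)))) δ' (fun _ => 0))
    (z : ↥(pullback f (Spec.map (CommRingCat.ofHom (algebraMap k P))))) :
    δ' z = δ (proj (P := P) f z) := by
  rw [CycLib.deltaCompat_eq _ hδ (proj f z), CycLib.deltaCompat_eq _ hδ' z, rd_eq]

theorem exists_pow_smul_eq_pull (q : ℕ) [ExpChar k q] [QuasiCompact f] {δ : X → ℤ}
    {δ' : ↥(pullback f (Spec.map (CommRingCat.ofHom (algebraMap k P)))) → ℤ} (hδ : Cyc.DeltaCompat f δ (fun _ => 0))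
    (hδ' : Cyc.DeltaCompat (pullback.snd f (Spec.map (CommRingCat.ofHom (algebraMap k P)))) δ' (fun _ => 0))
    (r : ℤ) (β : AlgebraicCycle (pullback f (Spec.map (CommRingCat.ofHom (algebraMap k P)))) ℤ)
    (hβ : β ∈ Cyc.Zk _ δ' r) :
    ∃ (n : ℕ) (α : AlgebraicCycle X ℤ), α ∈ Cyc.Zk X δ r ∧
      (q : ℤ) ^ n • ⇑β = Cyc.pullFun (proj (P := P) f) δ' δ 0 ⇑α := by
  classical
  choose z hz hu m hm using fun x => exists_point (P := P) f x q
  haveI : CompactSpace ↥(pullback f (Spec.map (CommRingCat.ofHom (algebraMap k P)))) :=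
    QuasiCompact.compactSpace_of_compactSpace (pullback.snd f (Spec.map (CommRingCat.ofHom (algebraMap k P))))
  have hfin : (Function.support ⇑β).Finite := by
    have := β.locallyFiniteSupport.finite_inter_support_of_isCompact isCompact_univ
    rwa [Set.univ_inter] at this
  let S : Finset X := hfin.toFinset.image (proj (P := P) f)
  let n := S.sup m
  let a : X → ℤ := fun x => if x ∈ S then β (z x) * (q : ℤ) ^ (n - m x) else 0
  let α : AlgebraicCycle X ℤ :=
    { toFun := a
      supportWithinDomain' := fun _ _ => trivial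
      supportLocallyFiniteWithinDomain' := fun x _ => ⟨Set.univ, Filter.univ_mem, (S.finite_toSet.subset fun y hy => by
        by_contra h
        exact hy.2 (if_neg h))⟩ }
  refine ⟨n, α, fun x hx => ?_, funext fun w => ?_⟩
  · show a x = 0
    by_cases h : x ∈ S
    · simp only [a, if_pos h]
      refine mul_eq_zero_of_left (hβ _ ?_) _
      rwa [hasShift f hδ hδ', hz]
    · exact if_neg h
  · simp only [Pi.smul_apply, smul_eq_mul, Cyc.pullFun]
    rw [if_pos (by rw [add_zero]; exact hasShift f hδ hδ' w)]
    show _ = a (proj f w) * ((fibreLen (proj f) w).toNat : ℤ)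
    have hw := hu (proj f w) w rfl
    by_cases h : proj f w ∈ S
    · simp only [a, if_pos h]
      rw [show fibreLen (proj f) w = ((q ^ m (proj f w) : ℕ) : ℕ∞) by rw [← hm (proj f w), ← hw],
        ENat.toNat_natCast, Nat.cast_pow, mul_assoc, ← pow_add, Nat.sub_add_cancel (Finset.le_sup h), ← hw,
        mul_comm]
    · simp only [a, if_neg h, zero_mul]
      have : β w = 0 := by
        by_contra h0
        exact h (Finset.mem_image_of_mem _ (hfin.mem_toFinset.2 h0))
      rw [this, mul_zero]

end Groth.Agent.H23.InsepBC
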