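import Groth.Agent.FBaseLib.PerfectPoint
import Groth.Agent.GrpSchLib.FieldReduced
import Groth.Agent.H23.FiniteFibreSum

/-! Multiplicities of base changes of field extensions are powers of the exponential characteristic. -/

set_option autoImplicit false
set_option linter.style.haveILetI false

universe u

open TensorProduct IsLocalRing

namespace Groth.Agent.H23.InsepLen

theorem length_eq_one_of_isMaximal {R : Type u} [CommRing R] (I : Ideal R) [I.IsMaximal] :
    Module.length R (R ⧸ I) = 1 := by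
  rw [Module.length_eq_one_iff,
    isSimpleModule_iff_isSimpleModule_of_algebraMap_surjective (S := R ⧸ I) Ideal.Quotient.mk_surjective]
  letI := Ideal.Quotient.field I
  exact instIsSimpleModule _

theorem length_atPrime_reduced_fibre (A B : Type u) [CommRing A] [CommRing B] [Algebra A B] [IsLocalRing A]
    [Module.Flat A B] (hm : maximalIdeal A ≤ nilradical A)
    (hred : IsReduced (B ⧸ (maximalIdeal A).map (algebraMap A B))) (Q : Ideal B) [Q.IsPrime]
    (hQ : Q ∈ minimalPrimes B) :
    Module.length (Localization.AtPrime Q) (Localization.AtPrime Q) = Module.length A A := by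
  let S := Localization.AtPrime Q
  let N := (maximalIdeal A).map (algebraMap A B)
  have hN : N = nilradical B := by
    refine le_antisymm (Ideal.map_le_iff_le_comap.2 fun x hx => ?_) ?_
    · exact (mem_nilradical.1 (hm hx)).map (algebraMap A B)
    · exact ((Ideal.isRadical_iff_quotient_reduced N).2 hred).radical ▸ Ideal.radical_mono bot_le
  haveI : Ring.KrullDimLE 0 S := by
    rw [Ring.krullDimLE_iff, IsLocalization.AtPrime.ringKrullDim_eq_height Q S, Ideal.height_eq_zero_iff.2 hQ]
    rfl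
  have hmax : (maximalIdeal A).map (algebraMap A S) = maximalIdeal S := by
    rw [IsScalarTower.algebraMap_eq A B S, ← Ideal.map_map]
    show N.map (algebraMap B S) = _
    refine le_antisymm ?_ fun x hx => ?_
    · rw [Ideal.map_le_iff_le_comap]
      intro b hb
      have hnil : IsNilpotent (algebraMap B S b) := (mem_nilradical.1 (hN.le hb)).map _
      exact (IsLocalRing.mem_maximalIdeal _).2 hnil.not_isUnit
    · obtain ⟨b, s, rfl⟩ := IsLocalization.exists_mk'_eq Q.primeCompl x
      obtain ⟨n, hn⟩ := Ring.KrullDimLE.isNilpotent_iff_mem_maximalIdeal.2 hx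
      rw [← IsLocalization.mk'_pow, IsLocalization.mk'_eq_zero_iff] at hn
      obtain ⟨t, ht⟩ := hn
      have hmem : (t : B) * b ∈ N := hN.ge (mem_nilradical.2 ⟨n + 1, by
        rw [mul_pow, pow_succ, pow_succ, show (t : B) ^ n * t * (b ^ n * b) = t ^ n * b * (t * b ^ n) by ring, ht,
          mul_zero]⟩)
      rw [IsLocalization.mk'_eq_mul_mk'_one]
      refine Ideal.mul_mem_right _ _ ?_
      have := Ideal.mem_map_of_mem (algebraMap B S) hmem
      rw [map_mul] at this
      exact (Ideal.unit_mul_mem_iff_mem _ (IsLocalization.map_units S t)).1 this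
  haveI : Module.Flat A S := Module.Flat.trans A B S
  haveI : IsLocalHom (algebraMap A S) := ⟨fun a ha => by
    by_contra h
    exact (IsLocalRing.mem_maximalIdeal _).1 (hmax.le (Ideal.mem_map_of_mem _
      ((IsLocalRing.mem_maximalIdeal a).2 h))) ha⟩
  have key := IsLocalRing.length_baseChange A S A
  rw [(AlgebraTensorModule.rid A S S).length_eq, hmax, length_eq_one_of_isMaximal, mul_one] at key
  exact key

theorem exists_pow_of_mul {q n : ℕ} (hq : q.Prime ∨ q = 1) {a b : ℕ∞} (h : ((q ^ n : ℕ) : ℕ∞) = a * b) :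
    ∃ m, a = ((q ^ m : ℕ) : ℕ∞) := by
  have h0 : q ^ n ≠ 0 := pow_ne_zero _ (by rcases hq with h | h; exacts [h.ne_zero, by omega])
  have hab : a * b ≠ 0 := h ▸ Nat.cast_ne_zero.2 h0
  cases a using ENat.recTopCoe with
  | top =>
    rw [ENat.top_mul (right_ne_zero_of_mul hab)] at h
    exact absurd h (ENat.coe_ne_top _)
  | coe a =>
    cases b using ENat.recTopCoe with
    | top =>
      rw [ENat.mul_top (left_ne_zero_of_mul hab)] at h
      exact absurd h (ENat.coe_ne_top _)
    | coe b =>
      have hd : a ∣ q ^ n := ⟨b, by exact_mod_cast h⟩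
      rcases hq with hq | rfl
      · obtain ⟨m, -, rfl⟩ := (Nat.dvd_prime_pow hq).1 hd
        exact ⟨m, rfl⟩
      · refine ⟨0, ?_⟩
        rw [one_pow] at hd
        rw [Nat.dvd_one.1 hd, pow_zero]

theorem isReduced_quot_aux {F E A D B : Type u} [Field F] [CommRing E] [Algebra F E] [CommRing A] [Algebra F A]
    [CommRing D] [Algebra F D] [CommRing B] (π : A →ₐ[F] D) (hπ : Function.Surjective π) (e : E ⊗[F] A ≃+* B)
    (hred : IsReduced (E ⊗[F] D)) :
    IsReduced (B ⧸ (RingHom.ker π.toRingHom).map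
      ((e : E ⊗[F] A →+* B).comp (Algebra.TensorProduct.includeRight : A →ₐ[F] E ⊗[F] A).toRingHom)) := by
  let g := Algebra.TensorProduct.map (AlgHom.id F E) π
  let ψ : B →+* E ⊗[F] D := g.toRingHom.comp (e.symm : B →+* E ⊗[F] A)
  have h : RingHom.ker g.toRingHom = (RingHom.ker π.toRingHom).map
      (Algebra.TensorProduct.includeRight : A →ₐ[F] E ⊗[F] A).toRingHom :=
    Algebra.TensorProduct.lTensor_ker π hπ
  have hker : RingHom.ker ψ = (RingHom.ker π.toRingHom).map
      ((e : E ⊗[F] A →+* B).comp (Algebra.TensorProduct.includeRight : A →ₐ[F] E ⊗[F] A).toRingHom) := by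
    rw [← RingHom.comap_ker, h, ← Ideal.map_map]
    exact Ideal.comap_symm e
  rw [← hker]
  exact isReduced_of_injective (RingHom.kerLift ψ) (RingHom.kerLift_injective ψ)

section Map

variable (k F E L : Type u) [Field k] [Field F] [Field E] [CommRing L] [Algebra k F] [Algebra k E] [Algebra F E]
  [IsScalarTower k F E] [Algebra k L]

/-- `F ⊗ L → E ⊗ L`. -/
noncomputable abbrev inclMap : F ⊗[k] L →ₐ[k] E ⊗[k] L :=
  Algebra.TensorProduct.map (IsScalarTower.toAlgHom k F E) (AlgHom.id k L)

theorem inclMap_eq :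
    (inclMap k F E L).toRingHom = ((Algebra.TensorProduct.cancelBaseChange k F F E L).toRingEquiv : _ →+* _).comp
      (Algebra.TensorProduct.includeRight : F ⊗[k] L →ₐ[F] E ⊗[F] (F ⊗[k] L)).toRingHom := by
  apply Algebra.TensorProduct.ringHom_ext
  · ext a
    simp [Algebra.smul_def, Algebra.TensorProduct.algebraMap_apply]
  · ext l
    simp

theorem inclMap_eq' :
    (inclMap k F E L).toRingHom = ((Algebra.TensorProduct.cancelBaseChange k F F E L).toRingEquiv.toRingHom.comp
      (Algebra.TensorProduct.comm F (F ⊗[k] L) E).toRingEquiv.toRingHom).comp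
      (algebraMap (F ⊗[k] L) ((F ⊗[k] L) ⊗[F] E)) := by
  rw [inclMap_eq]
  refine RingHom.ext fun x => congrArg (Algebra.TensorProduct.cancelBaseChange k F F E L) ?_
  exact (Algebra.TensorProduct.comm_tmul (R := F) x (1 : E)).symm

theorem flat_inclMap : (inclMap k F E L).toRingHom.Flat := by
  rw [inclMap_eq']
  refine RingHom.Flat.comp ?_ (RingHom.Flat.of_bijective
    ((RingEquiv.bijective (Algebra.TensorProduct.cancelBaseChange k F F E L).toRingEquiv).comp
      (RingEquiv.bijective (Algebra.TensorProduct.comm F (F ⊗[k] L) E).toRingEquiv)))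
  exact RingHom.flat_algebraMap_iff.2 inferInstance

theorem comap_inclMap_surjective :
    Function.Surjective (PrimeSpectrum.comap (inclMap k F E L).toRingHom) := by
  rw [inclMap_eq', PrimeSpectrum.comap_comp]
  refine Function.Surjective.comp PrimeSpectrum.comap_surjective_of_faithfullyFlat ?_
  intro x
  let e := (Algebra.TensorProduct.comm F (F ⊗[k] L) E).toRingEquiv.trans
    (Algebra.TensorProduct.cancelBaseChange k F F E L).toRingEquiv
  refine ⟨PrimeSpectrum.comap e.symm.toRingHom x, PrimeSpectrum.ext ?_⟩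
  ext a
  show e.symm (e a) ∈ x.asIdeal ↔ a ∈ x.asIdeal
  rw [RingEquiv.symm_apply_apply]

theorem isReduced_quot (m : Ideal (F ⊗[k] L)) [IsReduced (E ⊗[F] ((F ⊗[k] L) ⧸ m))] :
    IsReduced ((E ⊗[k] L) ⧸ m.map (inclMap k F E L).toRingHom) := by
  have := isReduced_quot_aux (E := E) (Ideal.Quotient.mkₐ F m) Ideal.Quotient.mk_surjective
    (Algebra.TensorProduct.cancelBaseChange k F F E L).toRingEquiv inferInstance
  rw [show RingHom.ker (Ideal.Quotient.mkₐ F m).toRingHom = m from Ideal.mk_ker] at this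
  rw [inclMap_eq]
  exact this

end Map

theorem isArtinian_purelyInseparable (k P L : Type u) [Field k] [Field P] [Field L] [Algebra k P] [Algebra k L]
    [IsPurelyInseparable k P] [Algebra.EssFiniteType k L] :
    ∃ _ : IsLocalRing (P ⊗[k] L), IsArtinianRing (P ⊗[k] L) ∧ maximalIdeal (P ⊗[k] L) ≤ nilradical (P ⊗[k] L) := by
  haveI : IsLocalRing (L ⊗[k] P) := FBaseLib.isLocalRing_tensor_purelyInseparable (k := k) (O := L) (K := P)
  haveI hl : IsLocalRing (P ⊗[k] L) := (Algebra.TensorProduct.comm k L P).toRingEquiv.isLocalRing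
  haveI : IsNoetherianRing (P ⊗[k] L) := Algebra.EssFiniteType.isNoetherianRing P (P ⊗[k] L)
  haveI : Ring.KrullDimLE 0 (P ⊗[k] L) := by
    refine Ring.KrullDimLE.mk₀ fun I hI => ?_
    let σ := (Algebra.TensorProduct.comm k L P).toRingEquiv
    haveI : (I.comap σ.toRingHom).IsPrime := Ideal.comap_isPrime _ I
    haveI h : (I.comap σ.toRingHom).IsMaximal := Ideal.isMaximal_of_isIntegral_of_isMaximal_comap (R := L) _
      (by rw [Ideal.eq_bot_of_prime (Ideal.comap (algebraMap L (L ⊗[k] P)) (I.comap σ.toRingHom))]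
          exact Ideal.bot_isMaximal)
    rw [← Ideal.map_comap_of_surjective σ.toRingHom σ.surjective I]
    exact Ideal.IsMaximal.map_bijective σ.toRingHom σ.bijective h
  refine ⟨hl, isArtinianRing_iff_isNoetherianRing_krullDimLE_zero.2 ⟨inferInstance, inferInstance⟩, fun x hx => ?_⟩
  exact mem_nilradical.2 (Ring.KrullDimLE.isNilpotent_iff_mem_maximalIdeal.2 hx)

theorem length_finite_insep (k P L : Type u) [Field k] [Field P] [Field L] [Algebra k P] [Algebra k L]
    [IsPurelyInseparable k P] [Module.Finite k P] (q : ℕ) [ExpChar k q] :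
    ∃ n, Module.length (P ⊗[k] L) (P ⊗[k] L) = (q ^ n : ℕ) := by
  haveI : IsLocalRing (L ⊗[k] P) := FBaseLib.isLocalRing_tensor_purelyInseparable (k := k) (O := L) (K := P)
  haveI : IsLocalHom (algebraMap L (L ⊗[k] P)) := ⟨fun a ha => by
    refine (isUnit_iff_ne_zero).2 fun h0 => ?_
    rw [h0, map_zero] at ha
    exact not_isUnit_zero ha⟩
  obtain ⟨n, hn⟩ := IsPurelyInseparable.finrank_eq_pow k P q
  have hlen : Module.length L (L ⊗[k] P) = (q ^ n : ℕ) := by
    rw [Module.length_eq_finrank, Module.finrank_baseChange, hn]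
  rw [FiniteFibreSum.length_self_of_bijective (Algebra.TensorProduct.comm k P L).toRingEquiv.toRingHom
    (Algebra.TensorProduct.comm k P L).toRingEquiv.bijective]
  rw [IsLocalRing.length_restrictScalars L (L ⊗[k] P) (L ⊗[k] P)] at hlen
  exact exists_pow_of_mul (expChar_is_prime_or_one k q) hlen.symm

theorem length_insep (k P L : Type u) [Field k] [Field P] [Field L] [Algebra k P] [Algebra k L]
    [IsPurelyInseparable k P] [Algebra.EssFiniteType k L] (q : ℕ) [ExpChar k q] :
    ∃ n, Module.length (P ⊗[k] L) (P ⊗[k] L) = (q ^ n : ℕ) := by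
  classical
  obtain ⟨hl, _, hnil⟩ := isArtinian_purelyInseparable k P L
  obtain ⟨G, hG⟩ := (IsNoetherian.noetherian (maximalIdeal (P ⊗[k] L)) : (maximalIdeal (P ⊗[k] L)).FG)
  choose T hT using fun g : P ⊗[k] L => TensorProduct.exists_finset g
  let K0 : IntermediateField k P := IntermediateField.adjoin k ((G.biUnion fun g => (T g).image Prod.fst : Finset P) : Set P)
  haveI : Module.Finite k K0 := IntermediateField.finiteDimensional_adjoin fun x _ => IsPurelyInseparable.isIntegral' k x
  haveI : IsPurelyInseparable k K0 := IsPurelyInseparable.tower_bot k K0 P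
  obtain ⟨n, hn⟩ := length_finite_insep k K0 L q
  refine ⟨n, ?_⟩
  rw [← hn]
  obtain ⟨hl0, _, hnil0⟩ := isArtinian_purelyInseparable k K0 L
  let φ := inclMap k K0 P L
  letI : Algebra (K0 ⊗[k] L) (P ⊗[k] L) := φ.toRingHom.toAlgebra
  haveI : Module.Flat (K0 ⊗[k] L) (P ⊗[k] L) := RingHom.flat_algebraMap_iff.1 (flat_inclMap k K0 P L)
  have hmap : (maximalIdeal (K0 ⊗[k] L)).map φ.toRingHom = maximalIdeal (P ⊗[k] L) := by
    refine le_antisymm (Ideal.map_le_iff_le_comap.2 fun x hx => ?_) ?_
    · exact (IsLocalRing.mem_maximalIdeal _).2 ((mem_nilradical.1 (hnil0 hx)).map φ.toRingHom).not_isUnit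
    · rw [← hG, Ideal.submodule_span_eq, Ideal.span_le]
      intro g hg
      have hr : g ∈ φ.range := by
        rw [hT g]
        refine Subalgebra.sum_mem _ fun i hi => ?_
        exact ⟨(⟨i.1, IntermediateField.subset_adjoin k _ (Finset.mem_coe.2 (Finset.mem_biUnion.2
          ⟨g, hg, Finset.mem_image_of_mem _ hi⟩))⟩ : K0) ⊗ₜ[k] i.2, by simp [φ]⟩
      obtain ⟨g0, rfl⟩ := hr
      refine Ideal.mem_map_of_mem φ.toRingHom ((IsLocalRing.mem_maximalIdeal _).2 fun hu => ?_)
      exact (IsLocalRing.mem_maximalIdeal _).1 (hG.le (Ideal.subset_span hg)) (hu.map φ)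
  let Q := maximalIdeal (P ⊗[k] L)
  have hQ : Q ∈ minimalPrimes (P ⊗[k] L) := ⟨⟨inferInstance, bot_le⟩, fun R hR _ x hx =>
    hR.1.radical.le (Ideal.radical_mono bot_le (hnil hx))⟩
  have key := length_atPrime_reduced_fibre (K0 ⊗[k] L) (P ⊗[k] L) hnil0 (by
    rw [show (algebraMap (K0 ⊗[k] L) (P ⊗[k] L)) = φ.toRingHom from rfl, hmap]
    infer_instance) Q hQ
  rw [← key]
  refine FiniteFibreSum.length_self_of_bijective (algebraMap (P ⊗[k] L) (Localization.AtPrime Q)) ?_
  exact (IsLocalization.atUnits (P ⊗[k] L) Q.primeCompl (S := Localization.AtPrime Q) fun x hx =>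
    IsLocalRing.notMem_maximalIdeal.1 hx).bijective

theorem length_tensor_aux (k P E L : Type u) [Field k] [Field P] [Field E] [Field L] [Algebra k P] [Algebra k E]
    [Algebra P E] [IsScalarTower k P E] [IsPurelyInseparable k P] [PerfectField P] [Algebra k L]
    [Algebra.EssFiniteType k L] (Q : Ideal (E ⊗[k] L)) [Q.IsPrime] (hQ : Q ∈ minimalPrimes (E ⊗[k] L)) :
    Module.length (Localization.AtPrime Q) (Localization.AtPrime Q) = Module.length (P ⊗[k] L) (P ⊗[k] L) := by
  obtain ⟨hl, _, hnil⟩ := isArtinian_purelyInseparable k P L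
  letI : Algebra (P ⊗[k] L) (E ⊗[k] L) := (inclMap k P E L).toRingHom.toAlgebra
  haveI : Module.Flat (P ⊗[k] L) (E ⊗[k] L) := RingHom.flat_algebraMap_iff.1 (flat_inclMap k P E L)
  haveI : IsReduced (E ⊗[P] ((P ⊗[k] L) ⧸ maximalIdeal (P ⊗[k] L))) :=
    GrpSchLib.isReduced_tensor_of_perfectField (K := P)
  exact length_atPrime_reduced_fibre (P ⊗[k] L) (E ⊗[k] L) hnil
    (isReduced_quot k P E L (maximalIdeal (P ⊗[k] L))) Q hQ

theorem length_tensor_perfect (k E L : Type u) [Field k] [Field E] [Field L] [Algebra k E] [Algebra k L]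
    [Algebra.EssFiniteType k L] [IsAlgClosed E] (q : ℕ) [ExpChar k q] (Q : Ideal (E ⊗[k] L)) [Q.IsPrime]
    (hQ : Q ∈ minimalPrimes (E ⊗[k] L)) :
    ∃ n, Module.length (Localization.AtPrime Q) (Localization.AtPrime Q) = (q ^ n : ℕ) := by
  obtain ⟨n, hn⟩ := length_insep k (perfectClosure k E) L q
  exact ⟨n, (length_tensor_aux k (perfectClosure k E) E L Q hQ).trans hn⟩

theorem length_baseChange_pow (k K L : Type u) [Field k] [Field K] [Field L] [Algebra k K] [Algebra k L]
    [Algebra.EssFiniteType k L] (p : ℕ) [ExpChar k p] (q : Ideal (K ⊗[k] L)) [q.IsPrime]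
    (hq : q ∈ minimalPrimes (K ⊗[k] L)) :
    ∃ n, Module.length (Localization.AtPrime q) (Localization.AtPrime q) = (p ^ n : ℕ) := by
  let E := AlgebraicClosure K
  let B := E ⊗[k] L
  letI : Algebra (K ⊗[k] L) B := (inclMap k K E L).toRingHom.toAlgebra
  haveI : Module.Flat (K ⊗[k] L) B := RingHom.flat_algebraMap_iff.1 (flat_inclMap k K E L)
  obtain ⟨Q0, hQ0⟩ : ∃ Q0 : PrimeSpectrum B, PrimeSpectrum.comap (algebraMap (K ⊗[k] L) B) Q0 = ⟨q, ‹_›⟩ := by
    refine comap_inclMap_surjective k K E L _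
  obtain ⟨Q, hQ, hle⟩ := Ideal.exists_minimalPrimes_le (J := Q0.asIdeal) (bot_le : ⊥ ≤ Q0.asIdeal)
  haveI := hQ.1.1
  have hover : q = Q.comap (algebraMap (K ⊗[k] L) B) := by
    have h1 : Q.comap (algebraMap (K ⊗[k] L) B) ≤ q :=
      (Ideal.comap_mono hle).trans (congrArg PrimeSpectrum.asIdeal hQ0).le
    exact le_antisymm (hq.2 ⟨inferInstance, bot_le⟩ h1) h1
  haveI : Q.LiesOver q := ⟨hover⟩
  obtain ⟨n, hn⟩ := length_tensor_perfect k E L p Q hQ
  letI := Localization.AtPrime.algebraOfLiesOver q Q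
  haveI : IsLocalHom (algebraMap (Localization.AtPrime q) (Localization.AtPrime Q)) :=
    Localization.isLocalHom_localRingHom q Q _ _
  have key := IsLocalRing.length_baseChange (Localization.AtPrime q) (Localization.AtPrime Q) (Localization.AtPrime q)
  rw [(AlgebraTensorModule.rid (Localization.AtPrime q) (Localization.AtPrime Q) (Localization.AtPrime Q)).length_eq,
    hn] at key
  exact exists_pow_of_mul (expChar_is_prime_or_one k p) key

end Groth.Agent.H23.InsepLen
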