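import Groth.Agent.H23.PiecesProper
import Groth.Agent.H23.ClopenDecomp
import Groth.Agent.H23.PushClass
import Groth.Agent.CycLib.Envelope

/-! A bivariant class is determined by its values on fundamental classes of integral test schemes. -/

set_option autoImplicit false
set_option linter.style.haveILetI false
set_option backward.isDefEq.respectTransparency false
set_option backward.isDefEq.respectTransparency.types false

universe u

open CategoryTheory CategoryTheory.Limits AlgebraicGeometry TopologicalSpace Opposite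

noncomputable section

namespace Groth.Agent.H23.IntegralTest

open Groth.Agent FlatClass

variable {X Y : Scheme.{u}} {δX : X → ℤ} {δY : Y → ℤ} {f : X ⟶ Y} {p : ℤ}

open Classical in
/-- The cycle of a point. -/
def pointCyc {T : Scheme.{u}} (η : T) (n : ℤ) : AlgebraicCycle T ℤ where
  toFun y := if y = η then n else 0
  supportWithinDomain' := fun _ _ => trivial
  supportLocallyFiniteWithinDomain' := fun _ _ =>
    ⟨Set.univ, Filter.univ_mem, (Set.finite_singleton η).subset fun _ hy => by_contra fun h => hy.2 (if_neg h)⟩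

theorem pointCyc_self {T : Scheme.{u}} (η : T) (n : ℤ) : pointCyc η n η = n := if_pos rfl

theorem pointCyc_ne {T : Scheme.{u}} {η y : T} (n : ℤ) (h : y ≠ η) : pointCyc η n y = 0 := if_neg h

theorem pointCyc_mem {T : Scheme.{u}} (η : T) (n : ℤ) {δ : T → ℤ} {k : ℤ} (h : δ η = k) :
    pointCyc η n ∈ Cyc.Zk T δ k := fun _ hy => pointCyc_ne n fun e => hy (e ▸ h)

theorem map_pointCyc {T S : Scheme.{u}} (h : T ⟶ S) [QuasiCompact h] [LocallyOfFiniteType h] {δT : T → ℤ}
    {δS : S → ℤ} (hδ : Cyc.DeltaCompat h δT δS) (η : T) (n : ℤ)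
    (hη : Function.Surjective (h.residueFieldMap η).hom) :
    AlgebraicCycle.map h δT δS (pointCyc η n) = pointCyc (h η) n := by
  classical
  refine Function.locallyFinsuppWithin.ext fun x => ?_
  rw [CycLib.map_apply']
  have hc : (AlgebraicCycle.mapCoeff h δT δS η : ℤ) = 1 := by
    rw [AlgebraicCycle.mapCoeff, if_pos (CycLib.delta_eq_of_surjective h hδ hη),
      CycLib.residueDegree_of_surjective h hη, Nat.cast_one]
  by_cases hx : x = h η
  · subst hx
    rw [finsum_mem_eq_sum_of_inter_support_eq _ (t := {η}) ?_, Finset.sum_singleton, pointCyc_self, pointCyc_self,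
      hc, mul_one]
    ext y
    simp only [Set.mem_inter_iff, Set.mem_preimage, Set.mem_singleton_iff, Function.mem_support, Finset.coe_singleton]
    refine ⟨fun ⟨_, h2⟩ => ⟨by_contra fun hne => h2 (by rw [pointCyc_ne n hne, zero_mul]), h2⟩, fun ⟨h1, h2⟩ =>
      ⟨by rw [h1], h2⟩⟩
  · rw [pointCyc_ne n hx]
    refine finsum_mem_eq_zero_of_forall_eq_zero fun y hy => ?_
    rw [pointCyc_ne n (fun e => hx (by subst e; exact (hy : h y = x).symm)), zero_mul]

variable (hX : Cyc.IsSetup X δX) (hY : Cyc.IsSetup Y δY)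
include hX hY

omit hY in
/-- Push forward of a vanishing class vanishes. -/
theorem op_map_eq_zero (c : Bivar.Cl p f δX δY) (s t : Bivar.Sq f δX δY) (h : t.Y' ⟶ s.Y') [IsProper h]
    (h' : t.X' ⟶ s.X') [IsProper h'] (w₁ : h ≫ s.g = t.g) (w₂ : h' ≫ s.f' = t.f' ≫ h) (w₃ : h' ≫ s.g' = t.g')
    {k : ℤ} {β : AlgebraicCycle t.Y' ℤ} (hβ : β ∈ Cyc.Zk t.Y' t.δY' k) (h0 : c.op t k (ChowOps.cl β hβ) = 0)
    {α : AlgebraicCycle s.Y' ℤ} (hα : α ∈ Cyc.Zk s.Y' s.δY' k)
    (he : AlgebraicCycle.map h t.δY' s.δY' β = α) : c.op s k (ChowOps.cl α hα) = 0 := by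
  obtain ⟨β₁, hβ₁, e1, e2⟩ := c.push s t h h' w₁ w₂ w₃ k β hβ
  rw [Bivar.cl_congr he _ hα] at e2
  rw [e2, ← PushClass.mapCH_cl h' (isSetup_X' hX t) (isSetup_X' hX s) (deltaCompat_homX h' w₃) hβ₁, ← e1, h0,
    map_zero]

/-- The reduction to multiples of points on integral schemes. -/
theorem eq_zero_of_integral (c : Bivar.Cl p f δX δY)
    (h : ∀ (s : Bivar.Sq f δX δY) [IsIntegral s.Y'] (k : ℤ) (n : ℤ)
      (hk : pointCyc (genericPoint s.Y') n ∈ Cyc.Zk s.Y' s.δY' k),
      c.op s k (ChowOps.cl (pointCyc (genericPoint s.Y') n) hk) = 0) : c = 0 := by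
  classical
  refine Bivar.Cl.ext (funext fun s => funext fun k => AddMonoidHom.ext fun a => ?_)
  obtain ⟨α, hα, rfl⟩ := Bivar.exists_rep a
  show c.op s k (ChowOps.cl α hα) = 0
  haveI := s.lft
  haveI := lft_g' s
  have hs := isSetup_Y' hY s
  haveI := hs.1
  let J : Type u := {ξ : s.Y' // α ξ ≠ 0}
  choose W hWint j hjc hjη hjr using fun ξ : J => CycLib.exists_closure_point (ξ : s.Y')
  haveI : ∀ ξ, IsClosedImmersion (j ξ) := hjc
  have hlf : LocallyFinite fun ξ : J => Set.range (j ξ) := fun x => by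
    obtain ⟨U, hU, hxU, -⟩ := exists_isAffineOpen_mem_and_subset (x := x) (U := ⊤) trivial
    refine ⟨U, U.2.mem_nhds hxU, ((CycLib.finite_support_inter_affine α hU).preimage
      Subtype.val_injective.injOn).subset fun ξ hξ => ?_⟩
    obtain ⟨y, hy, hyU⟩ := hξ
    replace hy : y ∈ Set.range (j ξ) := hy
    rw [hjr] at hy
    exact ⟨(specializes_iff_mem_closure.2 hy).mem_open U.2 hyU, ξ.2⟩
  let Z : Scheme.{u} := ∐ W
  let hh : Z ⟶ s.Y' := Sigma.desc j
  haveI : IsProper hh := PiecesProper.isProper_desc j hlf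
  let t : Bivar.Sq f δX δY := s.paste
    { Y' := Z, X' := pullback hh s.f', g := hh, f' := pullback.fst hh s.f', g' := pullback.snd hh s.f'
      isPullback := IsPullback.of_hasPullback _ _
      lft := inferInstance
      δY' := fun y => s.δY' (hh y) + FibDim.rd hh y
      δX' := fun y => s.δX' (pullback.snd hh s.f' y) + FibDim.rd (pullback.snd hh s.f') y
      compatY := ChowDesc.deltaCompat_rd _ _, compatX := ChowDesc.deltaCompat_rd _ _ }
  have hδh : Cyc.DeltaCompat hh t.δY' s.δY' := ChowDesc.deltaCompat_rd hh s.δY'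
  let pt : J → Z := fun ξ => Sigma.ι W ξ (genericPoint (W ξ))
  have hhι : ∀ ξ, hh (pt ξ) = ξ := fun ξ => by
    show (Sigma.ι W ξ ≫ hh) (genericPoint (W ξ)) = _
    rw [Sigma.ι_desc, hjη]
  have hinj : Function.Injective pt := fun ξ ξ' e => Subtype.ext (by rw [← hhι ξ, e, hhι])
  have hsur : ∀ ξ, Function.Surjective (hh.residueFieldMap (pt ξ)).hom := fun ξ y => by
    have hb : Function.Bijective ((Sigma.ι W ξ ≫ hh).residueFieldMap (genericPoint (W ξ))).hom := by
      rw [Sigma.ι_desc]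
      exact CycLib.residueFieldMap_bijective (j ξ) _
    rw [Scheme.residueFieldMap_comp] at hb
    obtain ⟨z, hz⟩ := hb.2 ((Sigma.ι W ξ).residueFieldMap _ y)
    exact ⟨z, ((Sigma.ι W ξ).residueFieldMap _).hom.injective hz⟩
  let β : AlgebraicCycle Z ℤ :=
    { toFun := fun z => if z ∈ Set.range pt then α (hh z) else 0
      supportWithinDomain' := fun _ _ => trivial
      supportLocallyFiniteWithinDomain' := fun z _ => by
        obtain ⟨ξ, y, rfl⟩ := PiecesProper.exists_eq z
        refine ⟨Set.range (Sigma.ι W ξ), (Sigma.ι W ξ).isOpenEmbedding.isOpen_range.mem_nhds ⟨y, rfl⟩,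
          (Set.finite_singleton (pt ξ)).subset ?_⟩
        rintro z ⟨⟨y', rfl⟩, hz⟩
        by_contra hne
        refine hz (if_neg ?_)
        rintro ⟨ξ', e⟩
        obtain ⟨rfl, -⟩ := Sigma.mk.inj_iff.1 ((sigmaι_eq_iff _ _ _ _ _).1 e)
        exact hne e.symm }
  have hβ : β ∈ Cyc.Zk t.Y' t.δY' k := fun z hz => by
    show (if _ then _ else _) = (0 : ℤ)
    split_ifs with hr
    · obtain ⟨ξ, rfl⟩ := hr
      refine hα _ fun e => hz ?_
      rw [CycLib.delta_eq_of_surjective hh hδh (hsur ξ), e]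
    · rfl
  have hmap : AlgebraicCycle.map hh t.δY' s.δY' β = α := by
    refine Function.locallyFinsuppWithin.ext fun x => ?_
    rw [CycLib.map_apply']
    by_cases hx : α x = 0
    · rw [hx]
      refine finsum_mem_eq_zero_of_forall_eq_zero fun y hy => ?_
      show (if _ then _ else _) * _ = (0 : ℤ)
      rw [show hh y = x from hy, hx]
      simp
    · let ξ : J := ⟨x, hx⟩
      rw [finsum_mem_eq_sum_of_inter_support_eq _ (t := {pt ξ}) ?_, Finset.sum_singleton]
      · show (if _ then _ else _) * _ = α x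
        rw [if_pos ⟨ξ, rfl⟩, hhι ξ, AlgebraicCycle.mapCoeff,
          if_pos (CycLib.delta_eq_of_surjective hh hδh (hsur ξ)), CycLib.residueDegree_of_surjective hh (hsur ξ),
          Nat.cast_one, mul_one]
      · ext y
        simp only [Set.mem_inter_iff, Set.mem_preimage, Set.mem_singleton_iff, Function.mem_support,
          Finset.coe_singleton]
        refine ⟨fun ⟨h1, h2⟩ => ⟨?_, h2⟩, fun ⟨h1, h2⟩ => ⟨by rw [h1, hhι], h2⟩⟩
        have hy : y ∈ Set.range pt := by_contra fun hn => h2 (by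
          show (if _ then _ else _) * _ = (0 : ℤ)
          rw [if_neg hn, zero_mul])
        obtain ⟨ξ', rfl⟩ := hy
        exact congrArg pt (Subtype.ext ((hhι ξ').symm.trans h1))
  refine op_map_eq_zero hX c s t hh (pullback.snd hh s.f') rfl
    pullback.condition.symm rfl hβ ?_ hα hmap
  -- the pieces
  haveI := lft_g' t
  have htY := isSetup_Y' hY t
  have htX := isSetup_X' hX t
  let piece : J → Bivar.Sq f δX δY := fun ξ => t.paste
    { Y' := W ξ, X' := pullback t.f' (Sigma.ι W ξ), g := Sigma.ι W ξ, f' := pullback.snd t.f' (Sigma.ι W ξ)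
      g' := pullback.fst t.f' (Sigma.ι W ξ)
      isPullback := (IsPullback.of_hasPullback t.f' (Sigma.ι W ξ)).flip
      lft := inferInstance
      δY' := fun y => t.δY' (Sigma.ι W ξ y), δX' := fun y => t.δX' (pullback.fst t.f' (Sigma.ι W ξ) y)
      compatY := GysinLib.deltaCompat_closedImmersion _ _
      compatX := GysinLib.deltaCompat_closedImmersion _ _ }
  haveI : ∀ ξ, IsOpenImmersion (pullback.fst t.f' (Sigma.ι W ξ)) := fun ξ => inferInstance
  haveI : ∀ ξ, IsClosedImmersion (pullback.fst t.f' (Sigma.ι W ξ)) := fun ξ => inferInstance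
  refine ClopenDecomp.resAll_injective (fun ξ => pullback.fst t.f' (Sigma.ι W ξ))
    (δ' := fun ξ => (piece ξ).δX') (fun ξ ξ' hne => ?_) (fun z => ?_) (fun ξ => rfl) htX
    (fun ξ => isSetup_X' hX (piece ξ)) (k - p) ?_
  · simp only [Scheme.Pullback.range_fst]
    exact (TopologicalSpace.Opens.coe_disjoint.mpr (disjoint_opensRange_sigmaι W ξ ξ' hne)).preimage _
  · obtain ⟨ξ, y, hy⟩ := PiecesProper.exists_eq (t.f' z)
    exact ⟨ξ, by rw [Scheme.Pullback.range_fst]; exact ⟨y, hy⟩⟩
  refine funext fun ξ => ?_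
  rw [ClopenDecomp.resAll_apply, map_zero, Pi.zero_apply]
  rw [← ClopenDecomp.res_op hX hY c t (piece ξ) (Sigma.ι W ξ) (pullback.fst t.f' (Sigma.ι W ξ)) rfl
    pullback.condition rfl k (ChowOps.cl β hβ), ClopenDecomp.resCH_cl (Sigma.ι W ξ)
      (δ' := (piece ξ).δY') rfl htY (isSetup_Y' hY (piece ξ)) hβ]
  haveI : IsIntegral (piece ξ).Y' := hWint ξ
  have e : ClopenDecomp.rcyc (Sigma.ι W ξ) β = pointCyc (genericPoint (piece ξ).Y') (α ξ) := by
    refine Function.locallyFinsuppWithin.ext fun y => ?_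
    show (if Sigma.ι W ξ y ∈ Set.range pt then α (hh (Sigma.ι W ξ y)) else 0) = _
    by_cases hy : y = genericPoint (W ξ)
    · subst hy
      rw [if_pos ⟨ξ, rfl⟩, show hh (Sigma.ι W ξ _) = _ from hhι ξ]
      exact (pointCyc_self (T := (piece ξ).Y') _ _).symm
    · rw [if_neg ?_]
      · exact (pointCyc_ne (T := (piece ξ).Y') _ hy).symm
      rintro ⟨ξ', e'⟩
      obtain ⟨rfl, e''⟩ := Sigma.mk.inj_iff.1 ((sigmaι_eq_iff _ _ _ _ _).1 e')
      exact hy (eq_of_heq e'').symm
  rw [Bivar.cl_congr e _ (e ▸ ClopenDecomp.rcyc_mem (Sigma.ι W ξ) rfl hβ)]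
  exact h (piece ξ) k _ _

/-- A class vanishing on the fundamental classes of modifications of integral test schemes vanishes. -/
theorem eq_zero_of_birational (c : Bivar.Cl p f δX δY)
    (h3 : ∀ (s : Bivar.Sq f δX δY) [IsIntegral s.Y'], ∃ (t : Bivar.Sq s.f' s.δX' s.δY')
      (_ : IrreducibleSpace t.Y') (_ : IsProper t.g),
      t.g (genericPoint t.Y') = genericPoint s.Y' ∧ IsIso (t.g.stalkMap (genericPoint t.Y')) ∧
      ∀ (k : ℤ) (α : AlgebraicCycle t.Y' ℤ) (hα : α ∈ Cyc.Zk t.Y' t.δY' k), α (genericPoint t.Y') = 1 →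
        (∀ y : t.Y', y ≠ genericPoint t.Y' → α y = 0) → c.op (s.paste t) k (ChowOps.cl α hα) = 0) : c = 0 := by
  refine eq_zero_of_integral hX hY c ?_
  intro s _ k n hk
  rcases eq_or_ne n 0 with rfl | hn
  · rw [Bivar.cl_congr (show pointCyc (genericPoint s.Y') 0 = 0 from
      Function.locallyFinsuppWithin.ext fun y => by
        classical
        show (if _ then (0 : ℤ) else 0) = 0
        simp) hk ((ChowOps.zk _ _ _).zero_mem), Bivar.cl_zero, map_zero]
  have hk' : s.δY' (genericPoint s.Y') = k := by_contra fun hne => hn (by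
    rw [← pointCyc_self (genericPoint s.Y') n]
    exact hk _ hne)
  obtain ⟨t, hirr, hprop, hgen, hiso, ht⟩ := h3 s
  have hsur : Function.Surjective (t.g.residueFieldMap (genericPoint t.Y')).hom := fun y => by
    obtain ⟨y, rfl⟩ := t.Y'.residue_surjective _ y
    obtain ⟨z, rfl⟩ := (ConcreteCategory.bijective_of_isIso (t.g.stalkMap (genericPoint t.Y'))).2 y
    exact ⟨s.Y'.residue _ z, ConcreteCategory.congr_hom (Scheme.residue_residueFieldMap t.g _) z⟩
  have hη : t.δY' (genericPoint t.Y') = k := by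
    rw [CycLib.delta_eq_of_surjective t.g t.compatY hsur, hgen, hk']
  have he₁ := pointCyc_mem (genericPoint t.Y') 1 hη
  have h1 : c.op (s.paste t) k (ChowOps.cl _ he₁) = 0 :=
    ht k _ he₁ (pointCyc_self _ _) fun y hy => pointCyc_ne _ hy
  have hg1 := pointCyc_mem (genericPoint s.Y') 1 hk'
  haveI : IsProper t.g' := MorphismProperty.of_isPullback t.isPullback hprop
  have h2 : c.op s k (ChowOps.cl _ hg1) = 0 :=
    op_map_eq_zero hX c s (s.paste t) t.g t.g' rfl t.isPullback.w.symm rfl he₁ h1 hg1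
      (by rw [← hgen]; exact map_pointCyc t.g t.compatY _ 1 hsur)
  have e : ChowOps.cl _ hk = n • ChowOps.cl _ hg1 := by
    show _ = n • ChowOps.clHom _ _ k ⟨_, hg1⟩
    rw [← map_zsmul]
    refine Bivar.cl_congr ?_ hk ((n • (⟨_, hg1⟩ : ↥(ChowOps.zk s.Y' s.δY' k))).2)
    refine Function.locallyFinsuppWithin.ext fun y => ?_
    show _ = n • pointCyc (genericPoint s.Y') 1 y
    by_cases hy : y = genericPoint s.Y'
    · subst hy; simp [pointCyc_self]
    · simp [pointCyc_ne _ hy]
  rw [e, map_zsmul, h2, smul_zero]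

end Groth.Agent.H23.IntegralTest
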