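import Groth.Agent.VarDim.Intersection
import Groth.Agent.DiagThree.Sym

/-!
# Intersections in smooth affine varieties
-/

set_option autoImplicit false
set_option linter.style.haveILetI false

universe u

open Order TensorProduct

namespace Groth.Agent.H23.InterSmooth

open Groth.Agent VarDim

variable (k : Type u) [Field k] {A : Type u} [CommRing A] [Algebra k A] [Algebra.FiniteType k A]

/-- Intersection, given local generators of the ideal of the diagonal. -/
theorem intersection_aux (P Q R : PrimeSpectrum A) (hR : R.asIdeal ∈ (P.asIdeal ⊔ Q.asIdeal).minimalPrimes)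
    {n : ℕ} (G : Finset (A ⊗[k] A)) (hG : G.card ≤ n)
    (hGI : ∀ g ∈ G, Algebra.TensorProduct.lmul' k (S := A) g = 0) (s₀ : A ⊗[k] A)
    (hs₀ : Algebra.TensorProduct.lmul' k (S := A) s₀ ∉ R.asIdeal)
    (hgen : ∀ i, Algebra.TensorProduct.lmul' k (S := A) i = 0 → s₀ * i ∈ Ideal.span (G : Set (A ⊗[k] A))) :
    coheight P + coheight Q ≤ coheight R + n := by
  classical
  obtain ⟨r, hr, -⟩ := exists_dim_eq_trdeg k (A ⧸ P.asIdeal)
  obtain ⟨s, hs, -⟩ := exists_dim_eq_trdeg k (A ⧸ Q.asIdeal)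
  have hP : coheight P = r := WithBot.coe_inj.1 ((coheight_eq_ringKrullDim_quotient P).trans hr)
  have hQ : coheight Q = s := WithBot.coe_inj.1 ((coheight_eq_ringKrullDim_quotient Q).trans hs)
  rw [hP, hQ, ← Nat.cast_add]
  let AP := A ⧸ P.asIdeal
  let AQ := A ⧸ Q.asIdeal
  let pP : A →ₐ[k] AP := Ideal.Quotient.mkₐ k _
  let pQ : A →ₐ[k] AQ := Ideal.Quotient.mkₐ k _
  let μ : A ⊗[k] A →ₐ[k] A := Algebra.TensorProduct.lmul' k
  let ψ : A ⊗[k] A →ₐ[k] AP ⊗[k] AQ := Algebra.TensorProduct.map pP pQ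
  let π₁ : AP →ₐ[k] A ⧸ R.asIdeal := Ideal.Quotient.factorₐ k (le_sup_left.trans hR.1.2)
  let π₂ : AQ →ₐ[k] A ⧸ R.asIdeal := Ideal.Quotient.factorₐ k (le_sup_right.trans hR.1.2)
  let f : AP ⊗[k] AQ →ₐ[k] A ⧸ R.asIdeal := Algebra.TensorProduct.productMap π₁ π₂
  have hfψ : ∀ x, f (ψ x) = Ideal.Quotient.mk R.asIdeal (μ x) := fun x => by
    induction x using TensorProduct.induction_on with
    | zero => simp
    | add a b ha hb => simp [ha, hb]
    | tmul a b =>
      simp [f, ψ, μ, π₁, π₂, pP, pQ]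
      rfl
  have hψ : Function.Surjective ψ :=
    TensorProduct.map_surjective Ideal.Quotient.mk_surjective Ideal.Quotient.mk_surjective
  have hf : Function.Surjective f.toRingHom := fun y => by
    obtain ⟨y, rfl⟩ := Ideal.Quotient.mk_surjective y
    exact ⟨ψ (y ⊗ₜ[k] 1), by simp [hfψ, μ]⟩
  let R' : PrimeSpectrum (AP ⊗[k] AQ) := ⟨RingHom.ker f.toRingHom, RingHom.ker_isPrime f.toRingHom⟩
  have hco : coheight R' = coheight R := by
    refine WithBot.coe_inj.1 ?_
    rw [coheight_eq_ringKrullDim_quotient, coheight_eq_ringKrullDim_quotient]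
    exact ringKrullDim_eq_of_ringEquiv (RingHom.quotientKerEquivOfSurjective hf)
  let G' : Finset (AP ⊗[k] AQ) := G.image ψ
  have hmin : R'.asIdeal ∈ (Ideal.span (G' : Set (AP ⊗[k] AQ))).minimalPrimes := by
    refine ⟨⟨R'.2, Ideal.span_le.2 fun x hx => ?_⟩, fun S hS hSR => ?_⟩
    · obtain ⟨g, hg, rfl⟩ := Finset.mem_image.1 hx
      show f (ψ g) = 0
      rw [hfψ, show μ g = 0 from hGI g hg, map_zero]
    have hS' := hS.1
    have hI : ∀ i, μ i = 0 → ψ i ∈ S := fun i hi => by
      have h1 : ψ (s₀ * i) ∈ S := by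
        refine hS.2 ?_
        rw [Finset.coe_image]
        have := Ideal.mem_map_of_mem ψ.toRingHom (hgen i hi)
        rwa [Ideal.map_span] at this
      rw [map_mul] at h1
      refine (hS'.mem_or_mem h1).resolve_left fun h => hs₀ (Ideal.Quotient.eq_zero_iff_mem.1 ?_)
      rw [← hfψ]
      exact hSR h
    have hdiff : ∀ a, ψ (a ⊗ₜ[k] 1) - ψ (1 ⊗ₜ[k] a) ∈ S := fun a => by
      rw [← map_sub]
      exact hI _ (by simp [μ])
    let ι : A →+* AP ⊗[k] AQ := ψ.toRingHom.comp (Algebra.TensorProduct.includeLeft (S := k)).toRingHom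
    have hι : ∀ a, ι a = ψ (a ⊗ₜ[k] (1 : A)) := fun a => rfl
    have hle : P.asIdeal ⊔ Q.asIdeal ≤ S.comap ι := by
      refine sup_le (fun a ha => ?_) (fun a ha => ?_)
      · rw [Ideal.mem_comap, hι]
        have h0 : pP a = 0 := Ideal.Quotient.eq_zero_iff_mem.2 ha
        simp [ψ, h0]
      · rw [Ideal.mem_comap, hι]
        have h1 : pQ a = 0 := Ideal.Quotient.eq_zero_iff_mem.2 ha
        have h0 : ψ ((1 : A) ⊗ₜ[k] a) = 0 := by simp [ψ, h1]
        simpa [h0] using hdiff a
    have hcR : S.comap ι ≤ R.asIdeal := fun a ha => by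
      have h := hfψ (a ⊗ₜ[k] (1 : A))
      rw [show f (ψ (a ⊗ₜ[k] (1 : A))) = 0 from hSR ha] at h
      simpa [μ] using Ideal.Quotient.eq_zero_iff_mem.1 h.symm
    intro b hb
    obtain ⟨x, rfl⟩ := hψ b
    have hb' : f (ψ x) = 0 := hb
    rw [hfψ, Ideal.Quotient.eq_zero_iff_mem] at hb'
    have hcS : ι (μ x) ∈ S := hR.2 ⟨hS'.comap ι, hle⟩ hcR hb'
    have hd : ψ (x - μ x ⊗ₜ[k] (1 : A)) ∈ S := hI _ (by simp [μ])
    rw [map_sub] at hd
    simpa [hι] using S.add_mem hd hcS
  have hft : Algebra.FiniteType k (AP ⊗[k] AQ) :=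
    Algebra.FiniteType.trans (S := AP) inferInstance inferInstance
  have hnoeth : IsNoetherianRing (AP ⊗[k] AQ) := Algebra.FiniteType.isNoetherianRing k _
  have := R'.2
  have hht : height R' ≤ n := by
    rw [← PrimeSpectrum.height_eq_orderHeight]
    refine (Ideal.height_le_card_of_mem_minimalPrimes_span_finset hmin).trans ?_
    exact_mod_cast Finset.card_image_le.trans hG
  obtain ⟨q, hq, hqR⟩ := Ideal.exists_minimalPrimes_le (bot_le : (⊥ : Ideal (AP ⊗[k] AQ)) ≤ R'.asIdeal)
  have hmono := height_add_coheight_mono k (q := (⟨q, hq.1.1⟩ : PrimeSpectrum (AP ⊗[k] AQ))) (p := R') hqR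
  rw [coheight_minimalPrime_tensor k AP AQ hr hs ⟨q, hq.1.1⟩ hq, hco] at hmono
  rw [add_comm (coheight R)]
  exact le_trans (le_add_self.trans hmono) (add_le_add_left hht _)

/-- Intersection in a smooth affine variety. -/
theorem intersection [IsDomain A] [Algebra.Smooth k A] {n : ℕ} (hn : ringKrullDim A = n)
    (P Q R : PrimeSpectrum A) (hR : R.asIdeal ∈ (P.asIdeal ⊔ Q.asIdeal).minimalPrimes) :
    coheight P + coheight Q ≤ coheight R + n := by
  classical
  let μ : A ⊗[k] A →ₐ[k] A := Algebra.TensorProduct.lmul' k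
  have hμ : Function.Surjective μ := fun a => ⟨a ⊗ₜ 1, by simp [μ]⟩
  haveI : Algebra.Smooth k (A ⊗[k] A) := Algebra.Smooth.comp k A (A ⊗[k] A)
  haveI : Nontrivial (A ⊗[k] A) := μ.toRingHom.domain_nontrivial
  haveI := DiagThree.isRegularRing_of_smooth_field k A
  haveI := DiagThree.isRegularRing_of_smooth_field k (A ⊗[k] A)
  haveI : IsNoetherianRing A := Algebra.FiniteType.isNoetherianRing k A
  let eμ : ((A ⊗[k] A) ⧸ RingHom.ker μ.toRingHom) ≃+* A := RingHom.quotientKerEquivOfSurjective hμ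
  haveI : IsRegularRing ((A ⊗[k] A) ⧸ RingHom.ker μ.toRingHom) := IsRegularRing.of_ringEquiv eμ.symm
  let R₀ : PrimeSpectrum (A ⊗[k] A) := PrimeSpectrum.comap μ.toRingHom R
  have hker : RingHom.ker μ.toRingHom ≤ R₀.asIdeal := fun x (hx : μ x = 0) => by
    show μ x ∈ R.asIdeal
    rw [hx]
    exact zero_mem _
  obtain ⟨rs, hreg, hrsI⟩ := DiagThree.exists_regular_of_regular_quotient (RingHom.ker μ.toRingHom) R₀.asIdeal hker
  let T := Localization.AtPrime R₀.asIdeal
  -- the length
  have hlen : rs.length ≤ n := by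
    have hle : Ideal.ofList rs ≤ IsLocalRing.maximalIdeal T := by
      rw [hrsI, ← IsLocalization.AtPrime.map_eq_maximalIdeal R₀.asIdeal T]
      exact Ideal.map_mono hker
    have hreg' : RingTheory.Sequence.IsRegular T rs := ⟨hreg, fun htop => by
      rw [smul_eq_mul, Ideal.mul_top] at htop
      exact (IsLocalRing.maximalIdeal.isMaximal T).ne_top (top_le_iff.1 (htop.le.trans hle))⟩
    have h1 := ringKrullDim_add_length_eq_ringKrullDim_of_isRegular rs hreg'
    rw [hrsI] at h1
    let φ : T →+* Localization.AtPrime R.asIdeal :=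
      Localization.localRingHom R₀.asIdeal R.asIdeal μ.toRingHom rfl
    have hM : R₀.asIdeal.primeCompl.map μ.toRingHom = R.asIdeal.primeCompl := by
      ext b
      constructor
      · rintro ⟨a, ha, rfl⟩
        exact ha
      · intro hb
        obtain ⟨a, rfl⟩ := hμ b
        exact ⟨a, hb, rfl⟩
    have hφs : Function.Surjective φ := fun y => by
      obtain ⟨b, t, rfl⟩ := IsLocalization.exists_mk'_eq R.asIdeal.primeCompl y
      obtain ⟨a, rfl⟩ := hμ b
      obtain ⟨t', ht', htt⟩ := hM.ge t.2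
      refine ⟨IsLocalization.mk' T a (⟨t', ht'⟩ : R₀.asIdeal.primeCompl), ?_⟩
      refine (Localization.localRingHom_mk' _ _ _ rfl a ⟨t', ht'⟩).trans ?_
      exact IsLocalization.mk'_eq_of_eq (by
        have e : μ t' = (t : A) := htt
        simp [e, mul_comm])
    have hφk : RingHom.ker φ = (RingHom.ker μ.toRingHom).map (algebraMap (A ⊗[k] A) T) :=
      IsLocalization.ker_map (Localization.AtPrime R.asIdeal) μ.toRingHom hM
    rw [← hφk, ringKrullDim_eq_of_ringEquiv (RingHom.quotientKerEquivOfSurjective hφs),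
      IsLocalization.AtPrime.ringKrullDim_eq_height R.asIdeal,
      IsLocalization.AtPrime.ringKrullDim_eq_height R₀.asIdeal, PrimeSpectrum.height_eq_orderHeight,
      PrimeSpectrum.height_eq_orderHeight] at h1
    have hco : coheight R₀ = coheight R := by
      refine WithBot.coe_inj.1 ?_
      rw [coheight_eq_ringKrullDim_quotient, coheight_eq_ringKrullDim_quotient]
      refine ringKrullDim_eq_of_ringEquiv ((Ideal.quotEquivOfEq ?_).trans
        (RingHom.quotientKerEquivOfSurjective (f := (Ideal.Quotient.mk R.asIdeal).comp μ.toRingHom)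
          (Ideal.Quotient.mk_surjective.comp hμ)))
      rw [← RingHom.comap_ker, Ideal.mk_ker]
      rfl
    have hbot : coheight (⟨⊥, Ideal.isPrime_bot⟩ : PrimeSpectrum A) = n := by
      refine WithBot.coe_inj.1 ((coheight_eq_ringKrullDim_quotient _).trans ?_)
      exact (ringKrullDim_eq_of_ringEquiv (RingEquiv.quotientBot A)).trans hn
    have hlo := height_add_coheight_mono k (q := (⟨⊥, Ideal.isPrime_bot⟩ : PrimeSpectrum A)) (p := R) bot_le
    rw [hbot] at hlo
    obtain ⟨h0, hh0⟩ := ENat.ne_top_iff_exists.1 (show height R₀ ≠ ⊤ by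
      rw [← PrimeSpectrum.height_eq_orderHeight]; exact Ideal.height_ne_top_of_isPrime)
    obtain ⟨h, hh⟩ := ENat.ne_top_iff_exists.1 (show height R ≠ ⊤ by
      rw [← PrimeSpectrum.height_eq_orderHeight]; exact Ideal.height_ne_top_of_isPrime)
    obtain ⟨c, hc⟩ := ENat.ne_top_iff_exists.1 (coheight_ne_top k R)
    have hup : height R₀ + coheight R₀ ≤ (n + n : ℕ) := by
      obtain ⟨l, hl, hll⟩ := exists_series_of_height_eq_coe R₀ hh0.symm
      obtain ⟨m, hm, hml⟩ := exists_series_of_coheight_eq_coe R₀ (hco.trans hc.symm)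
      obtain ⟨q, hq, hqR⟩ := Ideal.exists_minimalPrimes_le (bot_le : (⊥ : Ideal (A ⊗[k] A)) ≤ l.head.asIdeal)
      have h2 := length_le_coheight (p := l.smash m (hl.trans hm.symm)) (x := (⟨q, hq.1.1⟩ : PrimeSpectrum (A ⊗[k] A)))
        (hqR.trans (le_of_eq (congrArg PrimeSpectrum.asIdeal (RelSeries.head_smash _).symm)))
      rw [RelSeries.smash_length, hll, hml, coheight_minimalPrime_tensor k A A hn hn ⟨q, hq.1.1⟩ hq] at h2
      rw [hco, ← hh0, ← hc]
      exact_mod_cast h2
    rw [hco, ← hh0, ← hc] at hup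
    rw [← hh, ← hc] at hlo
    rw [← hh, ← hh0] at h1
    have hlo' : 0 + n ≤ h + c := by
      have : (height (⟨⊥, Ideal.isPrime_bot⟩ : PrimeSpectrum A)) + (n : ℕ∞) ≤ (h : ℕ∞) + c := hlo
      have h3 := le_trans le_add_self this
      rw [zero_add]
      exact_mod_cast h3
    have h1' : h + rs.length = h0 := by exact_mod_cast h1
    have hup' : h0 + c ≤ n + n := by exact_mod_cast hup
    omega
  -- spread out the generators
  choose xt ht using fun r : T => IsLocalization.surj R₀.asIdeal.primeCompl r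
  let G : Finset (A ⊗[k] A) := rs.toFinset.image fun r => (xt r).1
  have hGI : ∀ g ∈ G, μ g = 0 := fun g hg => by
    obtain ⟨r, hr, rfl⟩ := Finset.mem_image.1 hg
    have hmem : algebraMap (A ⊗[k] A) T (xt r).1 ∈ (RingHom.ker μ.toRingHom).map (algebraMap (A ⊗[k] A) T) := by
      rw [← hrsI, ← ht r]
      exact Ideal.mul_mem_right _ _ (Ideal.subset_span (List.mem_toFinset.1 hr))
    rw [IsLocalization.algebraMap_mem_map_algebraMap_iff R₀.asIdeal.primeCompl] at hmem
    obtain ⟨u, hu, hux⟩ := hmem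
    have h0 : μ u * μ (xt r).1 = 0 := by rw [← map_mul]; exact hux
    exact (mul_eq_zero.1 h0).resolve_left fun h => hu (show μ u ∈ R.asIdeal by rw [h]; exact zero_mem _)
  have hGmap : (RingHom.ker μ.toRingHom).map (algebraMap (A ⊗[k] A) T) ≤
      (Ideal.span (G : Set (A ⊗[k] A))).map (algebraMap (A ⊗[k] A) T) := by
    rw [← hrsI, Ideal.ofList, Ideal.span_le]
    intro r hr
    rw [SetLike.mem_coe, ← Ideal.mul_unit_mem_iff_mem _ (IsLocalization.map_units T (xt r).2), ht r]
    exact Ideal.mem_map_of_mem _ (Ideal.subset_span (Finset.mem_image.2 ⟨r, List.mem_toFinset.2 hr, rfl⟩))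
  haveI : IsNoetherianRing (A ⊗[k] A) := Algebra.FiniteType.isNoetherianRing k _
  obtain ⟨B, hB⟩ := (IsNoetherian.noetherian (RingHom.ker μ.toRingHom) : (RingHom.ker μ.toRingHom).FG)
  have hs : ∀ b ∈ B, ∃ u ∈ R₀.asIdeal.primeCompl, u * b ∈ Ideal.span (G : Set (A ⊗[k] A)) := fun b hb =>
    (IsLocalization.algebraMap_mem_map_algebraMap_iff R₀.asIdeal.primeCompl T _ b).1
      (hGmap (Ideal.mem_map_of_mem _ (hB.le (Ideal.subset_span hb))))
  choose! u hu hub using hs
  refine intersection_aux k P Q R hR G (Finset.card_image_le.trans (le_trans (List.toFinset_card_le _) hlen))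
    hGI (∏ b ∈ B, u b) ?_ fun i hi => ?_
  · exact R₀.asIdeal.primeCompl.prod_mem hu
  · have hi' : i ∈ Ideal.span (B : Set (A ⊗[k] A)) := hB.ge hi
    have hle : Ideal.span (B : Set (A ⊗[k] A)) ≤ (Ideal.span (G : Set (A ⊗[k] A))).colon {∏ b ∈ B, u b} := by
      rw [Ideal.span_le]
      intro b hb
      rw [SetLike.mem_coe, Submodule.mem_colon_singleton, smul_eq_mul,
        ← Finset.mul_prod_erase B u hb, ← mul_assoc, mul_comm b]
      exact Ideal.mul_mem_right _ _ (hub b hb)
    have := Submodule.mem_colon_singleton.1 (hle hi')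
    rwa [smul_eq_mul, mul_comm] at this

end Groth.Agent.H23.InterSmooth
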