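import Groth.Agent.H23.PointPrime
import Groth.Agent.H23.CapSheaf

/-!
# The intersection product at a point as a Tor Euler characteristic
-/

set_option autoImplicit false
set_option linter.style.haveILetI false
set_option backward.isDefEq.respectTransparency.types false

universe u

open AlgebraicGeometry CategoryTheory CategoryTheory.Limits IsLocalRing TopologicalSpace

namespace Groth.Agent.H23.InterStalk

open Groth.Agent CDiv6 ChiAdd

variable {K : Type u} [Field K] [IsAlgClosed K] {X : Scheme.{u}} (f : X ⟶ Spec (CommRingCat.of K)) [Smooth f]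
  [IsSeparated f] [IsIntegral X] {δ : X → ℤ} (hδ : Cyc.DeltaCompat f δ (fun _ => 0)) {n : ℤ}
  (hn : δ (genericPoint X) = n)

include f hδ hn in
/-- The Tor Euler characteristic at `ζ` is the coefficient of the intersection product. -/
theorem chi_eq_interProd (ζ : X) (M N : Type u) [AddCommGroup M] [Module (X.presheaf.stalk ζ) M]
    [Module.Finite (X.presheaf.stalk ζ) M] [AddCommGroup N] [Module (X.presheaf.stalk ζ) N]
    [Module.Finite (X.presheaf.stalk ζ) N] (r s : ℤ) (hrs : r + s - n = δ ζ) (hr0 : δ ζ ≤ r) (hs0 : δ ζ ≤ s)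
    (α β : X → ℤ)
    (hα : ∀ (y : X) (h : y ⤳ ζ), α y = if δ y = r then lenAt (primeOf h) M else 0)
    (hβ : ∀ (y : X) (h : y ⤳ ζ), β y = if δ y = s then lenAt (primeOf h) N else 0)
    (hM : ∀ (y : X) (h : y ⤳ ζ), primeOf h ∈ Module.support (X.presheaf.stalk ζ) M → δ y ≤ r)
    (hN : ∀ (y : X) (h : y ⤳ ζ), primeOf h ∈ Module.support (X.presheaf.stalk ζ) N → δ y ≤ s)
    (hMN : ∀ (y : X) (h : y ⤳ ζ), primeOf h ∈ Module.support (X.presheaf.stalk ζ) M →
      primeOf h ∈ Module.support (X.presheaf.stalk ζ) N → y = ζ) :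
    IntMult.chi (X.presheaf.stalk ζ) M N = IntMult.interProd δ n α β ζ := by
  classical
  haveI : IsLocallyNoetherian X := LocallyOfFiniteType.isLocallyNoetherian f
  haveI := GrpSchLib.isRegularLocalRing_stalk_of_smooth f ζ
  have hpt : ∀ p : PrimeSpectrum ↑(X.presheaf.stalk ζ), ∃ (y : X) (h : y ⤳ ζ), primeOf h = p := fun p => by
    obtain ⟨y, h, e⟩ := StalkPrimes.exists_point (x := ζ) p.asIdeal
    exact ⟨y, h, PrimeSpectrum.ext e⟩
  choose pt hpt' hptp using hpt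
  have hdimpt : ∀ (p : PrimeSpectrum ↑(X.presheaf.stalk ζ)) (c : ℕ) (e : ℤ), (c : ℤ) = e - δ ζ →
      (ringKrullDim (↑(X.presheaf.stalk ζ) ⧸ p.asIdeal) = c ↔ δ (pt p) = e) := fun p c e hce => by
    obtain ⟨b, hb, hb'⟩ := PointPrime.dim_quot_prime f hδ (hpt' p)
    rw [hptp p] at hb
    rw [hb, Nat.cast_inj]
    omega
  let a := (r - δ ζ).toNat
  let b := (s - δ ζ).toNat
  have ha : (a : ℤ) = r - δ ζ := Int.toNat_of_nonneg (by omega)
  have hb : (b : ℤ) = s - δ ζ := Int.toNat_of_nonneg (by omega)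
  have hsuppdim : ∀ (P : Type u) [AddCommGroup P] [Module ↑(X.presheaf.stalk ζ) P] [Module.Finite ↑(X.presheaf.stalk ζ) P] (c : ℕ) (e : ℤ),
      (c : ℤ) = e - δ ζ → (∀ (y : X) (h : y ⤳ ζ), primeOf h ∈ Module.support ↑(X.presheaf.stalk ζ) P → δ y ≤ e) →
      (∀ p ∈ Module.support ↑(X.presheaf.stalk ζ) P, ringKrullDim (↑(X.presheaf.stalk ζ) ⧸ p.asIdeal) ≤ c) ∧ Module.supportDim ↑(X.presheaf.stalk ζ) P ≤ c := by
    intro P _ _ _ c e hce hP
    have h1 : ∀ p ∈ Module.support ↑(X.presheaf.stalk ζ) P, ringKrullDim (↑(X.presheaf.stalk ζ) ⧸ p.asIdeal) ≤ c := fun p hp => by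
      obtain ⟨b', hb', hb''⟩ := PointPrime.dim_quot_prime f hδ (hpt' p)
      rw [hptp p] at hb'
      rw [hb']
      have := hP _ (hpt' p) (by rwa [hptp p])
      exact_mod_cast (show b' ≤ c by omega)
    refine ⟨h1, iSup_le fun q => ?_⟩
    let p₀ : PrimeSpectrum ↑(X.presheaf.stalk ζ) := (q ⟨0, q.length.succ_pos⟩).1
    refine le_trans ?_ (h1 p₀ (q ⟨0, q.length.succ_pos⟩).2)
    rw [ringKrullDim_quotient]
    let g : Fin (q.length + 1) → ↥(PrimeSpectrum.zeroLocus (p₀.asIdeal : Set ↑(X.presheaf.stalk ζ))) := fun i =>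
      ⟨(q i).1, (q.monotone (Fin.zero_le i) : (q ⟨0, q.length.succ_pos⟩).1 ≤ (q i).1)⟩
    exact Order.LTSeries.length_le_krullDim (LTSeries.mk q.length g fun i j hij => q.strictMono hij)
  obtain ⟨hMle, hMdim⟩ := hsuppdim M a r ha hM
  obtain ⟨hNle, hNdim⟩ := hsuppdim N b s hb hN
  have hmeet : Meet (A := ↑(X.presheaf.stalk ζ)) M N := fun p hp => by
    have hp1 : p ∈ Module.support ↑(X.presheaf.stalk ζ) M := by
      rw [Module.support_eq_zeroLocus]; exact le_sup_left.trans hp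
    have hp2 : p ∈ Module.support ↑(X.presheaf.stalk ζ) N := by
      rw [Module.support_eq_zeroLocus]; exact le_sup_right.trans hp
    have hy := hMN _ (hpt' p) (by rwa [hptp p]) (by rwa [hptp p])
    rw [← hptp p]
    refine PrimeSpectrum.ext ?_
    have e : ∀ {w : X} (hw : w ⤳ ζ), w = ζ → (primeOf hw).asIdeal = maximalIdeal ↑(X.presheaf.stalk ζ) := fun hw h => by
      subst h
      exact ZeroSec.primeOf_refl' _
    exact e _ hy
  have hmult : ∀ (y z : X) (hy : y ⤳ ζ) (hz : z ⤳ ζ), IntMult.mult (IntMult.ptIdeal y) (IntMult.ptIdeal z) ζ =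
      IntMult.chi ↑(X.presheaf.stalk ζ) (↑(X.presheaf.stalk ζ) ⧸ (primeOf hy).asIdeal) (↑(X.presheaf.stalk ζ) ⧸ (primeOf hz).asIdeal) := fun y z hy hz => by
    rw [IntMult.mult, PointPrime.stalkIdeal_ptIdeal hy, PointPrime.stalkIdeal_ptIdeal hz, KoszulTor.chi_comm]
  have hvan : ∀ p q : PrimeSpectrum ↑(X.presheaf.stalk ζ), p ∈ Module.support ↑(X.presheaf.stalk ζ) M → q ∈ Module.support ↑(X.presheaf.stalk ζ) N →
      ringKrullDim (↑(X.presheaf.stalk ζ) ⧸ p.asIdeal) ≤ a → ringKrullDim (↑(X.presheaf.stalk ζ) ⧸ q.asIdeal) ≤ b →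
      (ringKrullDim (↑(X.presheaf.stalk ζ) ⧸ p.asIdeal) < a ∨ ringKrullDim (↑(X.presheaf.stalk ζ) ⧸ q.asIdeal) < b) →
        IntMult.chi ↑(X.presheaf.stalk ζ) (↑(X.presheaf.stalk ζ) ⧸ p.asIdeal) (↑(X.presheaf.stalk ζ) ⧸ q.asIdeal) = 0 := by
    intro p q hp hq _ _ hlt
    rw [← congrArg PrimeSpectrum.asIdeal (hptp p), ← congrArg PrimeSpectrum.asIdeal (hptp q), ← hmult _ _ (hpt' p) (hpt' q)]
    have hy := hM _ (hpt' p) (by rwa [hptp p])
    have hz := hN _ (hpt' q) (by rwa [hptp q])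
    refine (PointPrime.mult_dimSpec f hδ hn (hpt' p) (hpt' q) fun w hw1 hw2 hw => ?_).2.1 ?_
    · refine hMN w hw ?_ ?_
      · refine Module.mem_support_mono ?_ hp
        rw [← hptp p]
        exact (StalkPrimes.primeOf_le_iff hw (hpt' p)).2 hw1
      · refine Module.mem_support_mono ?_ hq
        rw [← hptp q]
        exact (StalkPrimes.primeOf_le_iff hw (hpt' q)).2 hw2
    · rcases hlt with hlt | hlt
      · have : δ (pt p) ≠ r := fun h => hlt.ne ((hdimpt p a r ha).2 h)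
        omega
      · have : δ (pt q) ≠ s := fun h => hlt.ne ((hdimpt q b s hb).2 h)
        omega
  -- the sum over pairs of points
  rw [chi_eq_sum a b hmeet hMdim hNdim hvan, IntMult.interProd]
  have hfin : ∀ (c : ℕ) (P : Type u) [AddCommGroup P] [Module ↑(X.presheaf.stalk ζ) P] [Module.Finite ↑(X.presheaf.stalk ζ) P],
      Module.supportDim ↑(X.presheaf.stalk ζ) P ≤ c →
      (Function.support fun p : {p : PrimeSpectrum ↑(X.presheaf.stalk ζ) // ringKrullDim (↑(X.presheaf.stalk ζ) ⧸ p.asIdeal) = c} => lenAt p.1 P).Finite := by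
    intro c P _ _ _ hc
    obtain ⟨S, hS, -⟩ := chi_devissage (A := ↑(X.presheaf.stalk ζ)) c PUnit.{u + 1} P (fun p hp => absurd (top_le_iff.1
        ((le_of_eq (Submodule.eq_top_iff'.2 fun x => Module.mem_annihilator.2 fun z => Subsingleton.elim _ _).symm).trans
          (le_sup_right.trans hp))) p.2.ne_top) hc
      fun q _ _ => by rw [KoszulTor.chi_comm, chi_eq_zero_of_subsingleton]
    refine (S.finite_toSet.preimage Subtype.val_injective.injOn).subset fun p hp => ?_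
    by_contra hn
    exact hp (by simp [lenAt, (hS p.1 p.2).2 hn])
  let G : {p : PrimeSpectrum ↑(X.presheaf.stalk ζ) // ringKrullDim (↑(X.presheaf.stalk ζ) ⧸ p.asIdeal) = a} ×
      {q : PrimeSpectrum ↑(X.presheaf.stalk ζ) // ringKrullDim (↑(X.presheaf.stalk ζ) ⧸ q.asIdeal) = b} → ℤ := fun x =>
    lenAt x.1.1 M * (lenAt x.2.1 N * IntMult.chi ↑(X.presheaf.stalk ζ) (↑(X.presheaf.stalk ζ) ⧸ x.1.1.asIdeal) (↑(X.presheaf.stalk ζ) ⧸ x.2.1.asIdeal))
  have hG : (Function.support G).Finite := ((hfin a M hMdim).prod (hfin b N hNdim)).subset fun x hx =>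
    ⟨fun h => hx (by show _ * _ = 0; rw [show lenAt x.1.1 M = 0 from h, zero_mul]),
      fun h => hx (by show _ * (_ * _) = 0; rw [show lenAt x.2.1 N = 0 from h, zero_mul, mul_zero])⟩
  have hsum : ∑ᶠ p : {p : PrimeSpectrum ↑(X.presheaf.stalk ζ) // ringKrullDim (↑(X.presheaf.stalk ζ) ⧸ p.asIdeal) = a},
      lenAt p.1 M * ∑ᶠ q : {q : PrimeSpectrum ↑(X.presheaf.stalk ζ) // ringKrullDim (↑(X.presheaf.stalk ζ) ⧸ q.asIdeal) = b},
        lenAt q.1 N * IntMult.chi ↑(X.presheaf.stalk ζ) (↑(X.presheaf.stalk ζ) ⧸ p.1.asIdeal) (↑(X.presheaf.stalk ζ) ⧸ q.1.asIdeal) = ∑ᶠ x, G x := by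
    rw [finsum_curry G hG]
    refine finsum_congr fun p => ?_
    rw [mul_finsum]
  rw [hsum]
  set F : {p : X × X // p.1 ⤳ ζ ∧ p.2 ⤳ ζ ∧ δ p.1 + δ p.2 - n = δ ζ} → ℤ := fun p =>
    α p.1.1 * β p.1.2 * IntMult.mult (IntMult.ptIdeal p.1.1) (IntMult.ptIdeal p.1.2) ζ with hF
  let e : {p : PrimeSpectrum ↑(X.presheaf.stalk ζ) // ringKrullDim (↑(X.presheaf.stalk ζ) ⧸ p.asIdeal) = a} ×
      {q : PrimeSpectrum ↑(X.presheaf.stalk ζ) // ringKrullDim (↑(X.presheaf.stalk ζ) ⧸ q.asIdeal) = b} →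
      {p : X × X // p.1 ⤳ ζ ∧ p.2 ⤳ ζ ∧ δ p.1 + δ p.2 - n = δ ζ} := fun x =>
    ⟨(pt x.1.1, pt x.2.1), hpt' _, hpt' _, by
      rw [(hdimpt _ a r ha).1 x.1.2, (hdimpt _ b s hb).1 x.2.2, hrs]⟩
  have hFe : ∀ x, G x = F (e x) := fun x => by
    show _ = α (pt x.1.1) * β (pt x.2.1) * _
    rw [hα _ (hpt' _), hβ _ (hpt' _), if_pos ((hdimpt _ a r ha).1 x.1.2), if_pos ((hdimpt _ b s hb).1 x.2.2),
      hmult _ _ (hpt' _) (hpt' _), hptp, hptp, mul_assoc]
  have he : Function.Injective e := fun x y h => by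
    have h1 : pt x.1.1 = pt y.1.1 := congrArg (fun p => p.1.1) h
    have h2 : pt x.2.1 = pt y.2.1 := congrArg (fun p => p.1.2) h
    have key : ∀ p q : PrimeSpectrum ↑(X.presheaf.stalk ζ), pt p = pt q → p = q := fun p q h => by
      have e1 : X.fromSpecStalk ζ (primeOf (hpt' p)) = X.fromSpecStalk ζ (primeOf (hpt' q)) := by
        rw [fromSpecStalk_primeOf, fromSpecStalk_primeOf, h]
      rw [← hptp p, ← hptp q]
      exact (X.fromSpecStalk ζ).isEmbedding.injective e1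
    exact Prod.ext (Subtype.ext (key _ _ h1)) (Subtype.ext (key _ _ h2))
  rw [finsum_congr hFe, ← finsum_mem_range he, ← finsum_mem_univ F]
  refine finsum_mem_inter_support_eq' F _ _ fun p hp => iff_of_true ?_ (Set.mem_univ p)
  obtain ⟨⟨y, z⟩, hy, hz, hyz⟩ := p
  have hp' : α y * β z ≠ 0 := fun h => hp (by show α y * β z * _ = 0; rw [h, zero_mul])
  have hy' : δ y = r := by
    by_contra h
    exact hp' (by rw [hα y hy, if_neg h, zero_mul])
  have hz' : δ z = s := by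
    by_contra h
    exact hp' (by rw [hβ z hz, if_neg h, mul_zero])
  have key : ∀ (w : X) (hw : w ⤳ ζ), pt (primeOf hw) = w := fun w hw =>
    StalkPrimes.primeOf_inj (hpt' _) hw (congrArg PrimeSpectrum.asIdeal (hptp _))
  refine ⟨(⟨primeOf hy, (hdimpt _ a r ha).2 (by rw [key y hy]; exact hy')⟩,
    ⟨primeOf hz, (hdimpt _ b s hb).2 (by rw [key z hz]; exact hz')⟩), ?_⟩
  exact Subtype.ext (Prod.ext (key y hy) (key z hz))

end Groth.Agent.H23.InterStalk
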