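import Mathlib.RingTheory.Invariant.Basic
import Mathlib.RingTheory.Localization.BaseChange
import Mathlib.RingTheory.IntegralClosure.GoingDown
import Mathlib.RingTheory.TensorProduct.Maps
import Mathlib.Algebra.Field.Subfield.Basic

/-!
Invariants of a finite group are local: comparisons of invariants may be checked after restricting to a
subgroup on a localisation.
-/

set_option autoImplicit false
set_option linter.style.haveILetI false

open scoped TensorProduct

universe u

namespace Groth.Agent.H23.InvLoc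

section Basic

variable {R T : Type*} [CommRing R] [CommRing T] [Algebra R T] {G : Type*} [Group G] (σ : G →* (T ≃ₐ[R] T))

/-- The invariants of an action by algebra automorphisms. -/
def inv : Subalgebra R T where
  carrier := {x | ∀ g, σ g x = x}
  mul_mem' {x y} hx hy g := by rw [map_mul, hx g, hy g]
  one_mem' g := map_one (σ g)
  add_mem' {x y} hx hy g := by rw [map_add, hx g, hy g]
  zero_mem' g := map_zero (σ g)
  algebraMap_mem' a g := (σ g).commutes a

theorem mem_inv {x : T} : x ∈ inv σ ↔ ∀ g, σ g x = x := Iff.rfl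

/-- The action restricted to a subgroup. -/
abbrev res (H : Subgroup G) : H →* (T ≃ₐ[R] T) := σ.comp H.subtype

theorem inv_le_res (H : Subgroup G) : inv σ ≤ inv (res σ H) := fun _ hx g => hx g

variable (H : Subgroup G) [Fintype (G ⧸ H)]

/-- The trace from the invariants of a subgroup. -/
noncomputable def tr : T →ₗ[R] T := ∑ q : G ⧸ H, (σ q.out).toLinearMap

theorem tr_apply (x : T) : tr σ H x = ∑ q : G ⧸ H, σ q.out x := by simp [tr]

variable {σ H}

omit [Fintype (G ⧸ H)] in
theorem apply_eq_of_mk_eq {x : T} (hx : x ∈ inv (res σ H)) {a b : G} (h : (a : G ⧸ H) = b) :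
    σ a x = σ b x := by
  have hab : a⁻¹ * b ∈ H := QuotientGroup.eq.1 h
  conv_lhs => rw [← hx ⟨a⁻¹ * b, hab⟩]
  rw [← AlgEquiv.mul_apply]
  show (σ a * σ (a⁻¹ * b)) x = σ b x
  rw [← map_mul, mul_inv_cancel_left]

theorem tr_mem {x : T} (hx : x ∈ inv (res σ H)) : tr σ H x ∈ inv σ := by
  intro g
  rw [tr_apply, map_sum]
  refine Fintype.sum_equiv (MulAction.toPerm g : Equiv.Perm (G ⧸ H)) _ _ fun q => ?_
  rw [← AlgEquiv.mul_apply, ← map_mul]
  refine apply_eq_of_mk_eq hx ?_
  show ((g * q.out : G) : G ⧸ H) = ((g • q).out : G ⧸ H)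
  rw [QuotientGroup.out_eq']
  conv_rhs => rw [← QuotientGroup.out_eq' q]
  rfl

theorem tr_mul {x : T} (hx : x ∈ inv σ) (y : T) : tr σ H (y * x) = tr σ H y * x := by
  simp only [tr_apply, Finset.sum_mul, map_mul, hx _]

theorem map_tr_mul {k : Type*} [CommRing k] (ev : T →+* k) {t x : T} (ht : t ∈ inv (res σ H))
    (hx : x ∈ inv (res σ H)) (h : ∀ g, g ∉ H → ev (σ g t) = 0) : ev (tr σ H (t * x)) = ev (t * x) := by
  classical
  rw [tr_apply, map_sum, Finset.sum_eq_single ((1 : G) : G ⧸ H)]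
  · have h1 : ((1 : G) : G ⧸ H).out ∈ H := by
      have := QuotientGroup.eq.1 (QuotientGroup.out_eq' ((1 : G) : G ⧸ H))
      simpa using this
    exact congrArg ev (((inv (res σ H)).mul_mem ht hx) ⟨_, h1⟩)
  · intro q _ hq
    rw [map_mul, map_mul, h _ fun hmem => hq ?_, zero_mul]
    rw [← QuotientGroup.out_eq' q]
    exact QuotientGroup.eq.2 (by simpa using hmem)
  · exact fun h => absurd (Finset.mem_univ _) h

theorem map_tr {k : Type*} [CommRing k] (ev : T →+* k) {t : T} (ht : t ∈ inv (res σ H))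
    (h : ∀ g, g ∉ H → ev (σ g t) = 0) : ev (tr σ H t) = ev t := by
  simpa using map_tr_mul ev ht (Subalgebra.one_mem _) h

omit [Fintype (G ⧸ H)] in
/-- An ideal of invariants meeting the complement of every prime is the unit ideal. -/
theorem ideal_eq_top [Finite G] (I : Ideal (inv σ))
    (h : ∀ q : Ideal T, q.IsPrime → ∃ b ∈ I, (b : T) ∉ q) : I = ⊤ := by
  by_contra hI
  obtain ⟨p, hp, hIp⟩ := Ideal.exists_le_maximal I hI
  letI : MulSemiringAction G T := MulSemiringAction.compHom T σ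
  haveI : SMulCommClass G (inv σ) T := ⟨fun g b x => by
    show σ g (b.1 * x) = b.1 * σ g x
    rw [map_mul, b.2 g]⟩
  haveI : Algebra.IsInvariant (inv σ) T G := ⟨fun b hb => ⟨⟨b, hb⟩, rfl⟩⟩
  haveI : Algebra.IsIntegral (inv σ) T := Algebra.IsInvariant.isIntegral _ _ G
  obtain ⟨q, _, hq, hqp⟩ := Ideal.exists_ideal_over_prime_of_isIntegral p (⊥ : Ideal T) (by
    intro b hb
    have : (b : T) = 0 := hb
    rw [show b = 0 from Subtype.ext this]
    exact p.zero_mem)
  obtain ⟨b, hb, hbq⟩ := h q hq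
  exact hbq (show b ∈ q.comap (algebraMap (inv σ) T) from hqp.symm ▸ hIp hb)

end Basic

section Away

/-- `l` makes `C` the localisation of `T` at `t`. -/
structure IsAway {T C : Type*} [CommRing T] [CommRing C] (l : T →+* C) (t : T) : Prop where
  isUnit : IsUnit (l t)
  surj : ∀ z, ∃ (n : ℕ) (x : T), z * l t ^ n = l x
  eq : ∀ {x y}, l x = l y → ∃ n : ℕ, t ^ n * x = t ^ n * y

theorem isAway_algebraMap {T C : Type*} [CommRing T] [CommRing C] [Algebra T C] (t : T)
    [IsLocalization.Away t C] : IsAway (algebraMap T C) t :=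
  ⟨IsLocalization.Away.algebraMap_isUnit t, fun z => IsLocalization.Away.surj t z,
    fun h => IsLocalization.Away.exists_of_eq t h⟩

theorem IsAway.isLocalization {T C : Type*} [CommRing T] [CommRing C] [Algebra T C] {t : T}
    (h : IsAway (algebraMap T C) t) : IsLocalization.Away t C :=
  IsLocalization.Away.mk t h.isUnit h.surj fun _ _ => h.eq

theorem IsAway.eq_zero {T C : Type*} [CommRing T] [CommRing C] {l : T →+* C} {t : T} (hl : IsAway l t)
    {x : T} (h : l x = 0) : ∃ n : ℕ, t ^ n * x = 0 := by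
  obtain ⟨n, hn⟩ := hl.eq (h.trans l.map_zero.symm)
  exact ⟨n, hn.trans (mul_zero _)⟩

variable {R : Type u} [CommRing R] {T C : Type u} [CommRing T] [CommRing C] [Algebra R T] [Algebra R C]

theorem IsAway.tensor {l : T →ₐ[R] C} {t : T} (hl : IsAway l.toRingHom t) (S : Type u) [CommRing S]
    [Algebra R S] : IsAway (Algebra.TensorProduct.map (AlgHom.id S S) l).toRingHom (1 ⊗ₜ[R] t) := by
  letI := l.toRingHom.toAlgebra
  haveI : IsScalarTower R T C := IsScalarTower.of_algebraMap_eq' l.comp_algebraMap.symm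
  haveI : IsLocalization.Away t C := IsAway.isLocalization hl
  letI := (Algebra.TensorProduct.map (AlgHom.id S S) l).toRingHom.toAlgebra
  haveI : IsScalarTower S (S ⊗[R] T) (S ⊗[R] C) :=
    IsScalarTower.of_algebraMap_eq' (Algebra.TensorProduct.map (AlgHom.id S S) l).comp_algebraMap.symm
  have := IsLocalization.tensorProduct_tensorProduct_right R S (Submonoid.powers t) C
    (RingHom.ext fun x => by simp [RingHom.algebraMap_toAlgebra])
  rw [Submonoid.map_powers] at this
  haveI : IsLocalization.Away (1 ⊗ₜ[R] t : S ⊗[R] T) (S ⊗[R] C) := this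
  exact isAway_algebraMap (C := S ⊗[R] C) (1 ⊗ₜ[R] t)

end Away

section AwayInv

variable {R T C : Type*} [CommRing R] [CommRing T] [CommRing C] [Algebra R T] [Algebra R C]
variable {H : Type*} [Group H] [Finite H] {σ : H →* (T ≃ₐ[R] T)} {σC : H →* (C ≃ₐ[R] C)}

theorem IsAway.exists_inv_lift {l : T →ₐ[R] C} {t : T} (hl : IsAway l.toRingHom t)
    (heq : ∀ h x, l (σ h x) = σC h (l x)) (ht : t ∈ inv σ) {z : C} (hz : z ∈ inv σC) :
    ∃ (n : ℕ) (x : T), x ∈ inv σ ∧ z * l t ^ n = l x := by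
  classical
  cases nonempty_fintype H
  obtain ⟨n, x, hx⟩ := hl.surj z
  change z * l t ^ n = l x at hx
  have hz' : l x ∈ inv σC := fun h => by
    rw [← hx, map_mul, map_pow, hz h, ← heq, ht h]
  choose k hk using fun h => hl.eq (show l (σ h x) = l x by rw [heq, hz' h])
  refine ⟨n + Finset.univ.sup k, t ^ Finset.univ.sup k * x, fun h => ?_, ?_⟩
  · obtain ⟨j, hj⟩ := Nat.exists_eq_add_of_le (Finset.le_sup (f := k) (Finset.mem_univ h))
    rw [map_mul, map_pow, ht h, hj, pow_add, mul_right_comm, hk h, mul_right_comm]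
  · rw [pow_add, ← mul_assoc, hx, map_mul, map_pow, mul_comm]

omit [Finite H] in
theorem map_mem_inv {l : T →ₐ[R] C} (heq : ∀ h x, l (σ h x) = σC h (l x)) {x : T} (hx : x ∈ inv σ) :
    l x ∈ inv σC := fun h => by rw [← heq, hx h]

/-- The map on invariants of an equivariant map. -/
noncomputable def invMap (l : T →ₐ[R] C) (heq : ∀ h x, l (σ h x) = σC h (l x)) : inv σ →ₐ[R] inv σC :=
  (l.comp (inv σ).val).codRestrict _ fun x => map_mem_inv heq x.2

omit [Finite H] in
theorem units_inv_mem {c : C} (hc : IsUnit c) (h : c ∈ inv σC) : ((hc.unit⁻¹ : Cˣ) : C) ∈ inv σC := fun g => by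
  refine hc.mul_left_cancel ?_
  conv_lhs => arg 1; rw [← h g]
  rw [← map_mul, IsUnit.mul_val_inv, map_one]

theorem IsAway.invMap {l : T →ₐ[R] C} {t : T} (hl : IsAway l.toRingHom t)
    (heq : ∀ h x, l (σ h x) = σC h (l x)) (ht : t ∈ inv σ) :
    IsAway (InvLoc.invMap l heq).toRingHom ⟨t, ht⟩ := by
  refine ⟨?_, fun z => ?_, fun {x y} h => ?_⟩
  · exact .of_mul_eq_one ⟨_, units_inv_mem hl.isUnit (map_mem_inv heq ht)⟩
      (Subtype.ext hl.isUnit.mul_val_inv)
  · obtain ⟨n, x, hx, h⟩ := hl.exists_inv_lift heq ht z.2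
    exact ⟨n, ⟨x, hx⟩, Subtype.ext h⟩
  · obtain ⟨n, hn⟩ := hl.eq (x := x.1) (y := y.1) (congrArg Subtype.val h)
    exact ⟨n, Subtype.ext hn⟩

end AwayInv

section Pair

variable {R T R' T' : Type*} [CommRing R] [CommRing T] [Algebra R T] [CommRing R'] [CommRing T'] [Algebra R' T']
  {G : Type*} [Group G]

/-- The invariants of the target are generated by those of the source. -/
def Surj (π : T →+* T') (σ : G →* (T ≃ₐ[R] T)) (σ' : G →* (T' ≃ₐ[R'] T')) : Prop :=
  inv σ' ≤ Algebra.adjoin R' (π '' (inv σ : Set T))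

/-- The values of the invariants of the target lie in the field generated by the values of those of the source. -/
def Val {k : Type*} [Field k] (π : T →+* T') (σ : G →* (T ≃ₐ[R] T)) (σ' : G →* (T' ≃ₐ[R'] T')) (ev : T' →+* k) : Prop :=
  ∀ y ∈ inv σ', ev y ∈ Subfield.closure (ev '' (Algebra.adjoin R' (π '' (inv σ : Set T)) : Set T'))

variable {π : T →+* T'} {σ : G →* (T ≃ₐ[R] T)} {σ' : G →* (T' ≃ₐ[R'] T')}

theorem map_inv_le (hπ : ∀ g x, π (σ g x) = σ' g (π x)) :
    Algebra.adjoin R' (π '' (inv σ : Set T)) ≤ inv σ' := by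
  rw [Algebra.adjoin_le_iff]
  rintro _ ⟨x, hx, rfl⟩ g
  rw [← hπ, hx g]

theorem map_mem_res (hπ : ∀ g x, π (σ g x) = σ' g (π x)) {H : Subgroup G} {x : T} (hx : x ∈ inv (res σ H)) :
    π x ∈ inv (res σ' H) := fun h => by
  show σ' h.1 (π x) = π x
  rw [← hπ]
  exact congrArg π (hx h)

theorem map_tr' (hπ : ∀ g x, π (σ g x) = σ' g (π x)) (H : Subgroup G) [Fintype (G ⧸ H)] (x : T) :
    π (tr σ H x) = tr σ' H (π x) := by
  simp only [tr_apply, map_sum, hπ]

omit [Group G] in
theorem adjoin_image_eq_span (S : Subalgebra R T) :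
    Subalgebra.toSubmodule (Algebra.adjoin R' (π '' (S : Set T))) = Submodule.span R' (π '' (S : Set T)) := by
  rw [Algebra.adjoin_eq_span]
  congr 1
  exact congrArg SetLike.coe (Submonoid.closure_eq (S.toSubsemiring.toSubmonoid.map π.toMonoidHom))

variable {C C' : Type*} [CommRing C] [CommRing C'] [Algebra R C] [Algebra R' C'] {H : Subgroup G}
  {σC : H →* (C ≃ₐ[R] C)} {σC' : H →* (C' ≃ₐ[R'] C')} {πC : C →+* C'}
  (l : T →ₐ[R] C) (l' : T' →ₐ[R'] C') (hπ : ∀ g x, π (σ g x) = σ' g (π x))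
  (hl : ∀ (h : H) x, l (σ h x) = σC h (l x)) (hl' : ∀ (h : H) x, l' (σ' h x) = σC' h (l' x))
  (hsq : ∀ x, l' (π x) = πC (l x))

include hl hsq in
theorem map_adjoin_le :
    (Algebra.adjoin R' (π '' (inv σ : Set T))).map l' ≤ Algebra.adjoin R' (πC '' (inv σC : Set C)) := by
  rw [AlgHom.map_adjoin]
  refine Algebra.adjoin_mono ?_
  rintro _ ⟨_, ⟨x, hx, rfl⟩, rfl⟩
  exact ⟨l x, map_mem_inv (σ := res σ H) (σC := σC) hl (inv_le_res σ H hx), (hsq x).symm⟩

variable [Fintype (G ⧸ H)] [Finite H]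

section FromBig

variable {c : T} (hc : c ∈ inv (res σ H)) (hc0 : ∀ g, g ∉ H → σ g c * c = 0)

omit [Finite H] [Fintype (G ⧸ H)] in
include hc0 in
theorem map_translate_eq_zero (hA : IsAway l.toRingHom c) {g : G} (hg : g ∉ H) : l (σ g c) = 0 := by
  have := congrArg l (hc0 g hg)
  rw [map_mul, map_zero] at this
  exact hA.isUnit.mul_left_eq_zero.1 this

include hπ hl' hsq hc hc0 in
theorem exists_map_eq (hA : IsAway l.toRingHom c) (hA' : IsAway l'.toRingHom (π c)) {z : C'}
    (hz : z ∈ inv σC') : ∃ (n : ℕ) (g : T'), g ∈ inv σ' ∧ z * πC (l c) ^ n = l' g := by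
  obtain ⟨n, x, hx, hxz⟩ := hA'.exists_inv_lift (σ := res σ' H) (σC := σC') hl' (map_mem_res hπ hc) hz
  refine ⟨n + 1, tr σ' H (π c * x), tr_mem ((inv (res σ' H)).mul_mem (map_mem_res hπ hc) hx), ?_⟩
  have h : ∀ g, g ∉ H → l'.toRingHom (σ' g (π c)) = 0 := fun g hg => by
    show l' (σ' g (π c)) = 0
    rw [← hπ, hsq, map_translate_eq_zero l hc0 hA hg, map_zero]
  refine Eq.trans ?_ (map_tr_mul l'.toRingHom (map_mem_res hπ hc) hx h).symm
  show _ = l' (π c * x)
  rw [map_mul, hsq, ← hxz, hsq, pow_succ]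
  ring

include hπ hl hl' hsq hc hc0 in
theorem surj_of_big (hS : Surj π σ σ') (hA : IsAway l.toRingHom c) (hA' : IsAway l'.toRingHom (π c)) :
    Surj πC σC σC' := by
  intro z hz
  obtain ⟨n, g, hg, hgz⟩ := exists_map_eq l l' hπ hl' hsq hc hc0 hA hA' hz
  have h1 := map_adjoin_le l l' hl hsq ⟨g, hS hg, rfl⟩
  change l' g ∈ _ at h1
  rw [← hgz] at h1
  have hu : IsUnit (l c) := hA.isUnit
  have h2 := mul_mem h1 (pow_mem (Algebra.subset_adjoin (R := R')
    (Set.mem_image_of_mem πC (units_inv_mem hu (map_mem_inv (σ := res σ H) hl hc)))) n)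
  rwa [mul_assoc, ← mul_pow, ← map_mul, hu.mul_val_inv, map_one, one_pow, mul_one] at h2

include hπ hl hl' hsq hc hc0 in
theorem val_of_big {k : Type*} [Field k] (ev : C' →+* k) (hV : Val π σ σ' (ev.comp l'.toRingHom))
    (hA : IsAway l.toRingHom c) (hA' : IsAway l'.toRingHom (π c)) : Val πC σC σC' ev := by
  intro z hz
  obtain ⟨n, g, hg, hgz⟩ := exists_map_eq l l' hπ hl' hsq hc hc0 hA hA' hz
  set L := Subfield.closure (ev '' (Algebra.adjoin R' (πC '' (inv σC : Set C)) : Set C')) with hL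
  have h1 : ev (l' g) ∈ L := by
    refine Subfield.closure_mono ?_ (hV g hg)
    rintro _ ⟨y, hy, rfl⟩
    exact ⟨l' y, map_adjoin_le l l' hl hsq ⟨y, hy, rfl⟩, rfl⟩
  rw [← hgz, map_mul] at h1
  have h2 : ev (πC (l c) ^ n) ∈ L :=
    Subfield.subset_closure ⟨_, pow_mem (Algebra.subset_adjoin (R := R')
      (Set.mem_image_of_mem πC (map_mem_inv (σ := res σ H) hl hc))) n, rfl⟩
  have h3 : ev (πC (l c) ^ n) ≠ 0 := (((hA.isUnit.map πC).pow n).map ev).ne_zero
  have h4 := L.div_mem h1 h2
  rwa [mul_div_cancel_right₀ _ h3] at h4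

end FromBig

section ToBig

variable {t : T} (ht : t ∈ inv (res σ H))

include hπ hl hl' hsq ht in
theorem surj_step (hS : Surj πC σC σC') (hA : IsAway l.toRingHom t) (hA' : IsAway l'.toRingHom (π t))
    {y : T'} (hy : y ∈ inv σ') :
    ∃ N, ∀ n, N ≤ n → π (tr σ H (t ^ n)) * y ∈ Algebra.adjoin R' (π '' (inv σ : Set T)) := by
  suffices h : ∀ z ∈ Submodule.span R' (πC '' (inv σC : Set C)), ∃ (N : ℕ) (x : T'),
      z * l' (π t) ^ N = l' x ∧ ∀ j, tr σ' H (π t ^ j * x) ∈ Algebra.adjoin R' (π '' (inv σ : Set T)) by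
    obtain ⟨N, x, hxz, htx⟩ := h (l' y) (by
      rw [← adjoin_image_eq_span]
      exact hS (map_mem_inv (σ := res σ' H) (σC := σC') hl' (inv_le_res σ' H hy)))
    obtain ⟨k, hk⟩ := hA'.eq (x := y * π t ^ N) (y := x) (show l' (y * π t ^ N) = l' x by
      rw [map_mul, map_pow]; exact hxz)
    refine ⟨k + N, fun n hn => ?_⟩
    obtain ⟨j, rfl⟩ := Nat.exists_eq_add_of_le hn
    rw [map_tr' hπ, map_pow, ← tr_mul hy]
    have : π t ^ (k + N + j) * y = π t ^ (j + k) * x := by
      rw [pow_add (π t) j k, mul_assoc _ _ x, ← hk, pow_add, pow_add]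
      ring
    rw [this]
    exact htx _
  intro z hz
  induction hz using Submodule.span_induction with
  | mem z hz =>
    obtain ⟨x, hx, rfl⟩ := hz
    obtain ⟨N, x₀, hx₀, hxx⟩ := hA.exists_inv_lift (σ := res σ H) (σC := σC) hl ht hx
    refine ⟨N, π x₀, by rw [hsq, hsq, ← map_pow, ← map_mul, hxx], fun j => ?_⟩
    rw [← map_pow, ← map_mul, ← map_tr' hπ]
    exact Algebra.subset_adjoin ⟨_, tr_mem ((inv (res σ H)).mul_mem (pow_mem ht j) hx₀), rfl⟩
  | zero => exact ⟨0, 0, by simp, fun j => by simp⟩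
  | smul r z _ ih =>
    obtain ⟨N, x, hxz, htx⟩ := ih
    refine ⟨N, r • x, by rw [smul_mul_assoc, hxz, map_smul], fun j => ?_⟩
    rw [mul_smul_comm, map_smul]
    exact Subalgebra.smul_mem _ (htx j) r
  | add z w _ _ ih ih' =>
    obtain ⟨N, x, hxz, htx⟩ := ih
    obtain ⟨M, x', hxz', htx'⟩ := ih'
    refine ⟨N + M, π t ^ M * x + π t ^ N * x', ?_, fun j => ?_⟩
    · rw [map_add, map_mul, map_mul, map_pow, map_pow, ← hxz, ← hxz', pow_add]
      ring
    · rw [mul_add, ← mul_assoc, ← mul_assoc, ← pow_add, ← pow_add, map_add]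
      exact add_mem (htx _) (htx' _)

include hl hl' hsq ht in
theorem val_step {k : Type*} [Field k] (evC : C' →+* k) (ev : T' →+* k) (hev : ∀ y, evC (l' y) = ev y)
    (hz : ∀ g, g ∉ H → ev (π (σ g t)) = 0) (hV : Val πC σC σC' evC) (hA : IsAway l.toRingHom t) :
    ∀ y ∈ inv σ', ev y ∈ Subfield.closure (ev '' (Algebra.adjoin R' (π '' (inv σ : Set T)) : Set T')) := by
  intro y hy
  set L := Subfield.closure (ev '' (Algebra.adjoin R' (π '' (inv σ : Set T)) : Set T')) with hL
  have hπL : ∀ x ∈ inv σ, ev (π x) ∈ L := fun x hx =>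
    Subfield.subset_closure ⟨_, Algebra.subset_adjoin ⟨x, hx, rfl⟩, rfl⟩
  have hne : ev (π t) ≠ 0 := by
    rw [← hev, hsq]
    exact ((hA.isUnit.map πC).map evC).ne_zero
  have htL : ev (π t) ∈ L := by
    rw [show ev (π t) = (ev.comp π) t from rfl, ← map_tr (ev.comp π) ht hz]
    exact hπL _ (tr_mem ht)
  suffices h : ∀ z ∈ Algebra.adjoin R' (πC '' (inv σC : Set C)), evC z ∈ L by
    rw [← hev]
    refine Subfield.closure_le.2 ?_ (hV _ (map_mem_inv (σ := res σ' H) (σC := σC') hl' (inv_le_res σ' H hy)))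
    rintro _ ⟨z, hz, rfl⟩
    exact h z hz
  intro z hz'
  induction hz' using Algebra.adjoin_induction with
  | mem z hz'' =>
    obtain ⟨x, hx, rfl⟩ := hz''
    obtain ⟨N, x₀, hx₀, hxx⟩ := hA.exists_inv_lift (σ := res σ H) (σC := σC) hl ht hx
    have h1 : ev (π (t * x₀)) ∈ L := by
      rw [show ev (π (t * x₀)) = (ev.comp π) (t * x₀) from rfl, ← map_tr_mul (ev.comp π) ht hx₀ hz]
      exact hπL _ (tr_mem ((inv (res σ H)).mul_mem ht hx₀))
    have h2 : evC (πC x) * ev (π t) ^ (N + 1) = ev (π (t * x₀)) := by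
      rw [map_mul π, map_mul ev, ← hev (π x₀), hsq, ← hxx, map_mul, map_mul, map_pow, map_pow,
        ← hsq, hev, pow_succ]
      ring
    rw [← h2] at h1
    simpa [mul_div_cancel_right₀ _ (pow_ne_zero (N + 1) hne)] using L.div_mem h1 (pow_mem htL (N + 1))
  | algebraMap r =>
    rw [← l'.commutes, hev]
    exact Subfield.subset_closure ⟨_, Subalgebra.algebraMap_mem _ r, rfl⟩
  | add z w _ _ h h' => rw [map_add]; exact add_mem h h'
  | mul z w _ _ h h' => rw [map_mul]; exact mul_mem h h'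

end ToBig

section Global

omit [Fintype (G ⧸ H)] [Finite H] in
/-- A criterion for an element to come from the invariants, local on the primes of the source. -/
theorem mem_adjoin_of_local [Finite G] {y : T'}
    (h : ∀ q : Ideal T, q.IsPrime → ∃ b, b ∈ inv σ ∧ b ∉ q ∧ π b * y ∈ Algebra.adjoin R' (π '' (inv σ : Set T))) :
    y ∈ Algebra.adjoin R' (π '' (inv σ : Set T)) := by
  let I : Ideal (inv σ) :=
    { carrier := {b | π b * y ∈ Algebra.adjoin R' (π '' (inv σ : Set T))}
      add_mem' := fun {a b} ha hb => by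
        show π (a.1 + b.1) * y ∈ Algebra.adjoin R' (π '' (inv σ : Set T))
        rw [map_add, add_mul]
        exact add_mem ha hb
      zero_mem' := by
        show π (0 : T) * y ∈ Algebra.adjoin R' (π '' (inv σ : Set T))
        rw [map_zero, zero_mul]
        exact zero_mem _
      smul_mem' := fun a b hb => by
        show π (a.1 * b.1) * y ∈ Algebra.adjoin R' (π '' (inv σ : Set T))
        rw [map_mul, mul_assoc]
        exact mul_mem (Algebra.subset_adjoin ⟨a.1, a.2, rfl⟩) hb }
  have hI : I = ⊤ := ideal_eq_top I fun q hq => by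
    obtain ⟨b, hb, hbq, hby⟩ := h q hq
    exact ⟨⟨b, hb⟩, hby, hbq⟩
  have h1 : (1 : inv σ) ∈ I := hI ▸ Submodule.mem_top
  have h2 : π 1 * y ∈ Algebra.adjoin R' (π '' (inv σ : Set T)) := h1
  rwa [map_one, one_mul] at h2

omit [Fintype (G ⧸ H)] [Finite H] in
/-- Reynolds: if the order of the group is invertible, invariants of the target come from the source. -/
theorem surj_of_isUnit_card [Fintype G] (hπ : ∀ g x, π (σ g x) = σ' g (π x))
    (hgen : Algebra.adjoin R' (Set.range π) = ⊤) (hu : IsUnit (Fintype.card G : R')) : Surj π σ σ' := by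
  intro y hy
  have hspan : y ∈ Submodule.span R' (Set.range π) := by
    have h := adjoin_image_eq_span (R' := R') (π := π) (⊤ : Subalgebra R T)
    rw [Algebra.coe_top, Set.image_univ, hgen] at h
    rw [← h]
    trivial
  have key : ∀ z ∈ Submodule.span R' (Set.range π),
      ∑ g, σ' g z ∈ Algebra.adjoin R' (π '' (inv σ : Set T)) := by
    intro z hz
    induction hz using Submodule.span_induction with
    | mem z hz =>
      obtain ⟨x, rfl⟩ := hz
      simp only [← hπ, ← map_sum]
      refine Algebra.subset_adjoin ⟨∑ g, σ g x, fun g => ?_, rfl⟩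
      rw [map_sum]
      refine Fintype.sum_equiv (Equiv.mulLeft g) _ _ fun h => ?_
      rw [← AlgEquiv.mul_apply, ← map_mul]
      rfl
    | zero => simp
    | smul r z _ ih =>
      simp only [map_smul, ← Finset.smul_sum]
      exact Subalgebra.smul_mem _ ih r
    | add z w _ _ h h' =>
      simp only [map_add, Finset.sum_add_distrib]
      exact add_mem h h'
  have h := key y hspan
  simp only [hy _, Finset.sum_const, Finset.card_univ, ← Nat.cast_smul_eq_nsmul R'] at h
  have h2 := Subalgebra.smul_mem _ h ((hu.unit⁻¹ : R'ˣ) : R')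
  rwa [smul_smul, hu.val_inv_mul, one_smul] at h2

omit [Fintype (G ⧸ H)] [Finite H] in
theorem surj_of_trivial (hπ : ∀ g x, π (σ g x) = σ' g (π x)) (hgen : Algebra.adjoin R' (Set.range π) = ⊤)
    (htriv : ∀ g : G, g = 1) : Surj π σ σ' := by
  intro y _
  have : (inv σ : Set T) = Set.univ := Set.eq_univ_of_forall fun x g => by rw [htriv g, map_one]; rfl
  rw [this, Set.image_univ, hgen]
  trivial

omit [Fintype (G ⧸ H)] [Finite H] in
theorem Surj.val (hS : Surj π σ σ') {k : Type*} [Field k] (ev : T' →+* k) : Val π σ σ' ev :=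
  fun y hy => Subfield.subset_closure ⟨y, hS hy, rfl⟩

end Global

end Pair

section Base

variable {R : Type u} [CommRing R] {T : Type u} [CommRing T] [Algebra R T] {G : Type*} [Group G]
  (σ : G →* (T ≃ₐ[R] T)) (S : Type u) [CommRing S] [Algebra R S]

/-- The action on the base change. -/
noncomputable def baseAct : G →* (S ⊗[R] T ≃ₐ[S] S ⊗[R] T) where
  toFun g := Algebra.TensorProduct.congr AlgEquiv.refl (σ g)
  map_one' := by rw [map_one]; exact Algebra.TensorProduct.congr_refl
  map_mul' g h := by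
    rw [map_mul]
    exact (Algebra.TensorProduct.congr_trans AlgEquiv.refl AlgEquiv.refl (σ h) (σ g)).trans rfl

theorem baseAct_apply (g : G) (x : S ⊗[R] T) :
    baseAct σ S g x = Algebra.TensorProduct.map (AlgHom.id S S) (σ g : T →ₐ[R] T) x := rfl

theorem includeRight_baseAct (g : G) (x : T) :
    (Algebra.TensorProduct.includeRight : T →ₐ[R] S ⊗[R] T).toRingHom (σ g x) =
      baseAct σ S g ((Algebra.TensorProduct.includeRight : T →ₐ[R] S ⊗[R] T).toRingHom x) := rfl

theorem adjoin_range_includeRight :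
    Algebra.adjoin S (Set.range (Algebra.TensorProduct.includeRight : T →ₐ[R] S ⊗[R] T).toRingHom) = ⊤ := by
  refine eq_top_iff.2 fun x _ => ?_
  induction x using TensorProduct.induction_on with
  | zero => exact zero_mem _
  | tmul s t =>
    rw [show s ⊗ₜ[R] t = s • ((1 : S) ⊗ₜ[R] t) by rw [TensorProduct.smul_tmul', smul_eq_mul, mul_one]]
    exact Subalgebra.smul_mem _ (Algebra.subset_adjoin
      (s := Set.range (Algebra.TensorProduct.includeRight : T →ₐ[R] S ⊗[R] T).toRingHom) ⟨t, rfl⟩) s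
  | add a b ha hb => exact add_mem (ha trivial) (hb trivial)

theorem mem_range_of_mem_adjoin {x : S ⊗[R] T}
    (hx : x ∈ Algebra.adjoin S ((Algebra.TensorProduct.includeRight : T →ₐ[R] S ⊗[R] T).toRingHom '' (inv σ : Set T))) :
    x ∈ Set.range (Algebra.TensorProduct.map (AlgHom.id S S) (inv σ).val) := by
  refine Algebra.adjoin_le (S := (Algebra.TensorProduct.map (AlgHom.id S S) (inv σ).val).range) ?_ hx
  rintro _ ⟨t, ht, rfl⟩
  exact ⟨(1 : S) ⊗ₜ[R] (⟨t, ht⟩ : inv σ), rfl⟩

theorem map_mem_adjoin (w : S ⊗[R] inv σ) :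
    Algebra.TensorProduct.map (AlgHom.id S S) (inv σ).val w ∈
      Algebra.adjoin S ((Algebra.TensorProduct.includeRight : T →ₐ[R] S ⊗[R] T).toRingHom '' (inv σ : Set T)) := by
  induction w using TensorProduct.induction_on with
  | zero => simp
  | tmul s t =>
    rw [Algebra.TensorProduct.map_tmul, AlgHom.id_apply,
      show s ⊗ₜ[R] ((inv σ).val t) = s • ((1 : S) ⊗ₜ[R] t.1) by
        rw [TensorProduct.smul_tmul', smul_eq_mul, mul_one]; rfl]
    exact Subalgebra.smul_mem _ (Algebra.subset_adjoin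
      (s := (Algebra.TensorProduct.includeRight : T →ₐ[R] S ⊗[R] T).toRingHom '' (inv σ : Set T))
      ⟨t.1, t.2, rfl⟩) s
  | add a b ha hb => rw [map_add]; exact add_mem ha hb

end Base

section Inj

variable {R : Type u} [CommRing R] {T : Type u} [CommRing T] [Algebra R T] {G : Type*} [Group G]

/-- Tensoring the invariants with `S` injects into the tensor product. -/
def Inj (σ : G →* (T ≃ₐ[R] T)) (S : Type u) [CommRing S] [Algebra R S] : Prop :=
  Function.Injective (Algebra.TensorProduct.map (AlgHom.id S S) (inv σ).val)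

variable {σ : G →* (T ≃ₐ[R] T)} {H : Subgroup G} [Fintype (G ⧸ H)] [Finite H]
  {C : Type u} [CommRing C] [Algebra R C] {σC : H →* (C ≃ₐ[R] C)} {S : Type u} [CommRing S] [Algebra R S]
  (l : T →ₐ[R] C) (hl : ∀ (h : H) x, l (σ h x) = σC h (l x))

variable (σ H) in
/-- The trace as a linear map on invariants. -/
noncomputable def trInv : inv (res σ H) →ₗ[R] inv σ where
  toFun x := ⟨tr σ H x, tr_mem x.2⟩
  map_add' x y := Subtype.ext (map_add (tr σ H) x.1 y.1)
  map_smul' r x := Subtype.ext (map_smul (tr σ H) r x.1)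

omit [Finite H] in
theorem lTensor_trInv (x : inv (res σ H)) (w : S ⊗[R] inv σ) :
    (trInv σ H).lTensor S ((1 ⊗ₜ[R] x) *
        Algebra.TensorProduct.map (AlgHom.id S S) (Subalgebra.inclusion (inv_le_res σ H)) w) =
      (1 ⊗ₜ[R] trInv σ H x) * w := by
  induction w using TensorProduct.induction_on with
  | zero => simp
  | tmul s b =>
    rw [Algebra.TensorProduct.map_tmul, Algebra.TensorProduct.tmul_mul_tmul, LinearMap.lTensor_tmul,
      Algebra.TensorProduct.tmul_mul_tmul]
    exact congrArg _ (Subtype.ext (tr_mul b.2 x.1))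
  | add a b ha hb => simp only [map_add, mul_add, ha, hb]

include hl in
theorem inj_step {t : T} (ht : t ∈ inv (res σ H)) (hC : Inj σC S) (hA : IsAway l.toRingHom t)
    {w : S ⊗[R] inv σ} (hw : Algebra.TensorProduct.map (AlgHom.id S S) (inv σ).val w = 0) :
    ∃ N, ∀ n, N ≤ n → (1 ⊗ₜ[R] trInv σ H (⟨t, ht⟩ ^ n)) * w = 0 := by
  let μ : inv σ →ₐ[R] inv (res σ H) := Subalgebra.inclusion (inv_le_res σ H)
  let lH := invMap (σ := res σ H) (σC := σC) l hl
  have h0 : Algebra.TensorProduct.map (AlgHom.id S S) lH (Algebra.TensorProduct.map (AlgHom.id S S) μ w) = 0 := by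
    refine hC ?_
    rw [map_zero, ← map_zero (Algebra.TensorProduct.map (AlgHom.id S S) l), ← hw]
    clear hw
    induction w using TensorProduct.induction_on with
    | zero => simp
    | tmul s b => rfl
    | add a b ha hb => simp only [map_add, ha, hb]
  obtain ⟨N, hN⟩ := ((hA.invMap (σ := res σ H) (σC := σC) hl ht).tensor S).eq_zero h0
  refine ⟨N, fun n hn => ?_⟩
  obtain ⟨j, rfl⟩ := Nat.exists_eq_add_of_le hn
  rw [← lTensor_trInv, Nat.add_comm, pow_add,
    show (1 : S) ⊗ₜ[R] ((⟨t, ht⟩ : inv (res σ H)) ^ j * ⟨t, ht⟩ ^ N) =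
      (1 ⊗ₜ[R] ((⟨t, ht⟩ : inv (res σ H)) ^ j)) * (1 ⊗ₜ[R] (⟨t, ht⟩ : inv (res σ H))) ^ N by
      simp,
    mul_assoc, hN, mul_zero, map_zero]

include hl in
theorem inj_of_big {c : T} (hc : c ∈ inv (res σ H)) (hc0 : ∀ g, g ∉ H → σ g c * c = 0) (hS : Inj σ S)
    (hA : IsAway l.toRingHom c) : Inj σC S := by
  let lH := invMap (σ := res σ H) (σC := σC) l hl
  let cH : inv (res σ H) := ⟨c, hc⟩
  let μ : inv σ →ₐ[R] inv (res σ H) := Subalgebra.inclusion (inv_le_res σ H)
  have hAH := (hA.invMap (σ := res σ H) (σC := σC) hl hc).tensor S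
  have htrans : ∀ x : inv (res σ H), lH (μ (trInv σ H (cH * x))) = lH (cH * x) := fun x =>
    Subtype.ext (map_tr_mul l.toRingHom hc x.2 fun g hg => map_translate_eq_zero l hc0 hA hg)
  have hrev : ∀ x : S ⊗[R] inv (res σ H),
      Algebra.TensorProduct.map (AlgHom.id S S) lH (Algebra.TensorProduct.map (AlgHom.id S S) μ
        ((trInv σ H).lTensor S ((1 ⊗ₜ[R] cH) * x))) =
      Algebra.TensorProduct.map (AlgHom.id S S) lH ((1 ⊗ₜ[R] cH) * x) := fun x => by
    induction x using TensorProduct.induction_on with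
    | zero => simp
    | tmul s x =>
      rw [Algebra.TensorProduct.tmul_mul_tmul, LinearMap.lTensor_tmul]
      simp only [Algebra.TensorProduct.map_tmul, AlgHom.coe_id, id_eq, htrans]
    | add a b ha hb => simp only [mul_add, map_add, ha, hb]
  rw [Inj, injective_iff_map_eq_zero]
  intro z hz
  obtain ⟨n, x, hx⟩ := hAH.surj z
  change z * Algebra.TensorProduct.map (AlgHom.id S S) lH (1 ⊗ₜ[R] cH) ^ n =
    Algebra.TensorProduct.map (AlgHom.id S S) lH x at hx
  let b := (trInv σ H).lTensor S ((1 ⊗ₜ[R] cH) * x)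
  have hb0 : Algebra.TensorProduct.map (AlgHom.id S S) l
      (Algebra.TensorProduct.map (AlgHom.id S S) (inv σ).val b) = 0 := by
    have h1 : ∀ y, Algebra.TensorProduct.map (AlgHom.id S S) l
        (Algebra.TensorProduct.map (AlgHom.id S S) (inv σ).val y) =
        Algebra.TensorProduct.map (AlgHom.id S S) (inv σC).val
          (Algebra.TensorProduct.map (AlgHom.id S S) lH (Algebra.TensorProduct.map (AlgHom.id S S) μ y)) := by
      intro y
      induction y using TensorProduct.induction_on with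
      | zero => simp
      | tmul s y => rfl
      | add a b ha hb => simp only [map_add, ha, hb]
    rw [h1, hrev, map_mul, ← hx, map_mul, map_mul, hz, zero_mul, mul_zero]
  obtain ⟨k, hk⟩ := (hA.tensor S).eq_zero hb0
  have hb1 : (1 ⊗ₜ[R] trInv σ H (cH * cH ^ k)) * b = 0 := by
    refine hS ?_
    rw [map_zero, map_mul]
    have hfix : ∀ (g : G) (y : S ⊗[R] inv σ), Algebra.TensorProduct.map (AlgHom.id S S) (σ g : T →ₐ[R] T)
        (Algebra.TensorProduct.map (AlgHom.id S S) (inv σ).val y) =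
        Algebra.TensorProduct.map (AlgHom.id S S) (inv σ).val y := by
      intro g y
      induction y using TensorProduct.induction_on with
      | zero => simp
      | tmul s y =>
        simp only [Algebra.TensorProduct.map_tmul, AlgHom.coe_id, id_eq]
        exact congrArg _ (y.2 g)
      | add a b ha hb => simp only [map_add, ha, hb]
    have hk' : (1 ⊗ₜ[R] (c * c ^ k)) * Algebra.TensorProduct.map (AlgHom.id S S) (inv σ).val b = 0 := by
      rw [← one_mul (1 : S), ← Algebra.TensorProduct.tmul_mul_tmul, mul_assoc]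
      have : (1 : S) ⊗ₜ[R] (c ^ k) = (1 ⊗ₜ[R] c) ^ k := by rw [Algebra.TensorProduct.tmul_pow, one_pow]
      rw [this, hk, mul_zero]
    show (1 ⊗ₜ[R] tr σ H (c * c ^ k)) * _ = 0
    rw [tr_apply, TensorProduct.tmul_sum, Finset.sum_mul]
    refine Finset.sum_eq_zero fun q _ => ?_
    rw [← hfix q.out, show (1 : S) ⊗ₜ[R] σ q.out (c * c ^ k) =
      Algebra.TensorProduct.map (AlgHom.id S S) (σ q.out : T →ₐ[R] T) (1 ⊗ₜ[R] (c * c ^ k)) from rfl,
      ← map_mul, hk', map_zero]
  have h2 := congrArg (fun y => Algebra.TensorProduct.map (AlgHom.id S S) lH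
    (Algebra.TensorProduct.map (AlgHom.id S S) μ y)) hb1
  simp only [map_mul, map_zero, Algebra.TensorProduct.map_tmul, AlgHom.coe_id, id_eq] at h2
  rw [htrans, show Algebra.TensorProduct.map (AlgHom.id S S) lH (Algebra.TensorProduct.map (AlgHom.id S S) μ b) =
    Algebra.TensorProduct.map (AlgHom.id S S) lH ((1 ⊗ₜ[R] cH) * x) from hrev x, map_mul (Algebra.TensorProduct.map (AlgHom.id S S) lH) ((1 : S) ⊗ₜ[R] cH) x, ← hx,
    Algebra.TensorProduct.map_tmul, AlgHom.coe_id, id_eq] at h2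
  have hu : IsUnit ((1 : S) ⊗ₜ[R] lH cH : S ⊗[R] inv σC) := hAH.isUnit
  have hu' : IsUnit ((1 : S) ⊗ₜ[R] lH (cH * cH ^ k) : S ⊗[R] inv σC) := by
    rw [map_mul, map_pow, ← pow_succ', ← one_pow (M := S) (k + 1), ← Algebra.TensorProduct.tmul_pow]
    exact hu.pow _
  exact (hu.pow n).mul_left_eq_zero.1 (hu.mul_right_eq_zero.1 (hu'.mul_right_eq_zero.1 h2))

omit [Fintype (G ⧸ H)] [Finite H] in
/-- A criterion for an invariant tensor to vanish, local on the primes of the source. -/
theorem eq_zero_of_local [Finite G] {w : S ⊗[R] inv σ}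
    (h : ∀ q : Ideal T, q.IsPrime → ∃ b : inv σ, (b : T) ∉ q ∧ (1 ⊗ₜ[R] b) * w = 0) : w = 0 := by
  let I : Ideal (inv σ) :=
    { carrier := {b | (1 ⊗ₜ[R] b) * w = 0}
      add_mem' := fun {a b} (ha : (1 ⊗ₜ[R] a) * w = 0) (hb : (1 ⊗ₜ[R] b) * w = 0) => by
        show (1 ⊗ₜ[R] (a + b)) * w = 0
        rw [TensorProduct.tmul_add, add_mul, ha, hb, add_zero]
      zero_mem' := by
        show (1 ⊗ₜ[R] (0 : inv σ)) * w = 0
        rw [TensorProduct.tmul_zero, zero_mul]
      smul_mem' := fun a b (hb : (1 ⊗ₜ[R] b) * w = 0) => by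
        show (1 ⊗ₜ[R] (a * b)) * w = 0
        rw [← one_mul (1 : S), ← Algebra.TensorProduct.tmul_mul_tmul, mul_assoc, hb, mul_zero] }
  have hI : I = ⊤ := ideal_eq_top I fun q hq => by
    obtain ⟨b, hbq, hbw⟩ := h q hq
    exact ⟨b, hbw, hbq⟩
  have h1 : (1 : inv σ) ∈ I := hI ▸ Submodule.mem_top
  have h2 : ((1 : S) ⊗ₜ[R] (1 : inv σ)) * w = 0 := h1
  rwa [← Algebra.TensorProduct.one_def, one_mul] at h2

omit [Fintype (G ⧸ H)] [Finite H] in
/-- Reynolds: if the order of the group is invertible in `S`, the invariants tensor `S` inject. -/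
theorem inj_of_isUnit_card [Fintype G] (hu : IsUnit (Fintype.card G : S)) : Inj σ S := by
  let R₀ : T →ₗ[R] inv σ :=
    { toFun := fun x => ⟨∑ g, σ g x, fun g => by
        rw [map_sum]
        refine Fintype.sum_equiv (Equiv.mulLeft g) _ _ fun h => ?_
        rw [← AlgEquiv.mul_apply, ← map_mul]
        rfl⟩
      map_add' := fun x y => Subtype.ext (by simp [Finset.sum_add_distrib])
      map_smul' := fun r x => Subtype.ext (by simp [Finset.smul_sum]) }
  have key : ∀ w, R₀.lTensor S (Algebra.TensorProduct.map (AlgHom.id S S) (inv σ).val w) =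
      (Fintype.card G : S) • w := fun w => by
    induction w using TensorProduct.induction_on with
    | zero => simp
    | tmul s b =>
      rw [Algebra.TensorProduct.map_tmul, LinearMap.lTensor_tmul, TensorProduct.smul_tmul', smul_eq_mul,
        Nat.cast_comm, ← nsmul_eq_mul', TensorProduct.smul_tmul]
      refine congrArg _ (Subtype.ext ?_)
      show ∑ g, σ g b.1 = (Fintype.card G • b : inv σ).1
      rw [Finset.sum_congr rfl fun g _ => b.2 g, Finset.sum_const, Finset.card_univ]
      rfl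
    | add a b ha hb => simp only [map_add, smul_add, ha, hb]
  intro a b h
  exact hu.smul_left_cancel.1 (((key a).symm.trans (congrArg _ h)).trans (key b))

omit [Fintype (G ⧸ H)] [Finite H] in
theorem inj_of_trivial (htriv : ∀ g : G, g = 1) : Inj σ S := by
  let P : T →ₐ[R] inv σ := (AlgHom.id R T).codRestrict _ fun x g => by rw [htriv g, map_one]; rfl
  refine Function.LeftInverse.injective (g := Algebra.TensorProduct.map (AlgHom.id S S) P) fun w => ?_
  induction w using TensorProduct.induction_on with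
  | zero => simp
  | tmul s b => rfl
  | add a b ha hb => simp only [map_add, ha, hb]

end Inj

end Groth.Agent.H23.InvLoc
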