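import Groth.Agent.H23.K0Filt
import Groth.Agent.KZ.ClosedDev
import Groth.Agent.KFlatLib.Scheme.ClosedPush

/-! The adic filtration along a closed immersion and dévissage in `K₀`. -/

set_option autoImplicit false
set_option backward.isDefEq.respectTransparency false
set_option backward.isDefEq.respectTransparency.types false

universe u

open CategoryTheory CategoryTheory.Limits AlgebraicGeometry TopologicalSpace Opposite

namespace Groth.Agent.H23.K0Adic

open Groth.Agent LocFinCoprod K0Swindle K0Filt KZ.ClosedDev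

variable {X Z : Scheme.{u}} (i : Z ⟶ X) [IsClosedImmersion i]

/-- Coherent modules killed by the ideal of a closed subscheme. -/
def KilledCoh : ObjectProperty X.Modules := fun G => Coh.IsCoh G ∧ Killed i G

theorem cohClosed_killed [IsLocallyNoetherian X] : CohClosed (KilledCoh i) where
  coh := fun h => h.1
  sub := fun {A B} f _ hA hB => ⟨QCoh.isCoh_of_mono f hB.1 hA, hB.2.of_mono i f⟩
  quot := fun {A B} f _ hB hA => ⟨QCoh.isCoh_of_epi f hA.1 hB, hA.2.of_epi i f hA.1.1 hB⟩
  sigma := fun {J M} hlf h => ⟨isCoh_coprod hlf fun j => (h j).1, fun U a ha s => by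
    obtain ⟨F, -, hF⟩ := exists_section_sum hlf U.2.isCompact
    rw [hF s, Finset.smul_sum]
    refine Finset.sum_eq_zero fun j _ => ?_
    rw [← Scheme.Modules.Hom.app_smul]
    exact (congrArg _ ((h j).2 U a ha _)).trans (map_zero _)⟩

/-- The coherent modules killed by the ideal are supported on the closed subscheme. -/
theorem mem_range_of_killed {G : X.Modules} (hG : Coh.IsQCoh G) (hk : Killed i G) {x : X}
    (hx : Nontrivial (G.presheaf.stalk x)) : x ∈ Set.range i := by
  by_contra h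
  obtain ⟨_, ⟨U, hU, rfl⟩, hxU, hsub⟩ := X.isBasis_affineOpens.exists_subset_of_mem_open
    (show x ∈ (Set.range i)ᶜ from h) i.isClosedEmbedding.isClosed_range.isOpen_compl
  obtain ⟨m, hm⟩ := (QCoh.mem_support_iff hG hU hxU).1 (not_subsingleton_iff_nontrivial.2 hx)
  refine hm 1 (by rw [Scheme.basicOpen_of_isUnit _ isUnit_one]; exact hxU) (hk ⟨U, hU⟩ 1 ?_ m)
  rw [Scheme.Hom.ker_apply, RingHom.mem_ker]
  have hbot : i ⁻¹ᵁ U = ⊥ := Opens.ext (Set.eq_empty_of_forall_notMem fun z hz => hsub hz ⟨z, rfl⟩)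
  haveI : Subsingleton Γ(Z, i ⁻¹ᵁ U) := by
    rw [hbot]
    exact CommRingCat.subsingleton_of_isTerminal (Z.sheaf.isTerminalOfEqEmpty (by simp))
  exact Subsingleton.elim _ _

section Filtration

variable (G : X.Modules)

/-- The steps of the adic filtration. -/
noncomputable def AT : ℕ → X.Modules
  | 0 => G
  | n + 1 => kernel ((Scheme.Modules.pullbackPushforwardAdjunction i).unit.app (AT n))

/-- The inclusions of the steps. -/
noncomputable def Aι : ∀ n, AT i G n ⟶ G
  | 0 => 𝟙 G
  | n + 1 => kernel.ι _ ≫ Aι n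

theorem mono_Aι : ∀ n, Mono (Aι i G n)
  | 0 => (inferInstance : Mono (𝟙 G))
  | n + 1 => by
    haveI := mono_Aι n
    exact (inferInstance :
      Mono (kernel.ι ((Scheme.Modules.pullbackPushforwardAdjunction i).unit.app (AT i G n)) ≫ Aι i G n))

variable {G} (hG : Coh.IsCoh G) [IsLocallyNoetherian X]
include hG

theorem isCoh_AT : ∀ n, Coh.IsCoh (AT i G n)
  | 0 => hG
  | n + 1 => QCoh.isCoh_of_mono (kernel.ι _) (isCoh_AT n) (QCoh.isQCoh_kernel (isCoh_AT n).1
      (QCoh.isQCoh_pushforward i (QCoh.isQCoh_pullback i (isCoh_AT n).1)) _)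

theorem app_Aι_mem (U : X.affineOpens) : ∀ (n : ℕ) (s : Γ(AT i G n, U.1)),
    (Aι i G n).app U.1 s ∈ (i.ker.ideal U) ^ n • (⊤ : Submodule Γ(X, U.1) Γ(G, U.1))
  | 0, s => by simp
  | n + 1, s => by
    have h0 : ((Scheme.Modules.pullbackPushforwardAdjunction i).unit.app (AT i G n)).app U.1
        ((kernel.ι ((Scheme.Modules.pullbackPushforwardAdjunction i).unit.app (AT i G n))).app U.1 s) = 0 :=
      congrArg (fun φ => Scheme.Modules.Hom.app φ U.1 s)
        (kernel.condition ((Scheme.Modules.pullbackPushforwardAdjunction i).unit.app (AT i G n)))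
    have h1 := Submodule.mem_map_of_mem (f := QCoh.appLin (Aι i G n) U.1)
      (((QCoh.unit_app_closed i (isCoh_AT i hG n).1 U.2).2 _).1 h0)
    rw [Submodule.map_smul''] at h1
    have hle : Submodule.map (QCoh.appLin (Aι i G n) U.1) ⊤ ≤
        (i.ker.ideal U) ^ n • (⊤ : Submodule Γ(X, U.1) Γ(G, U.1)) := by
      rintro _ ⟨a, -, rfl⟩
      exact app_Aι_mem U n a
    have h2 := Submodule.smul_mono le_rfl hle h1
    rw [← smul_assoc, smul_eq_mul, ← pow_succ'] at h2
    exact h2

variable (hsupp : ∀ x : X, Nontrivial (G.presheaf.stalk x) → x ∈ Set.range i)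
include hsupp

theorem exists_pow_smul_top_eq_bot (U : X.affineOpens) :
    ∃ N : ℕ, (i.ker.ideal U) ^ N • (⊤ : Submodule Γ(X, U.1) Γ(G, U.1)) = ⊥ := by
  haveI : IsNoetherianRing Γ(X, U.1) := IsLocallyNoetherian.component_noetherian U
  haveI := QCoh.finite_sections hG U.2
  have hrad : i.ker.ideal U ≤ (Module.annihilator Γ(X, U.1) Γ(G, U.1)).radical := fun a ha => by
    have hnil : ∀ m : Γ(G, U.1), ∃ n : ℕ, a ^ n • m = 0 := fun m => by
      refine QCoh.exists_pow_smul_eq_zero hG.1 U.2 a m (section_eq_zero (fun y hy => ?_) _)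
      refine not_nontrivial_iff_subsingleton.1 fun hn => ?_
      obtain ⟨z, rfl⟩ := hsupp y hn
      have hz : z ∈ i ⁻¹ᵁ X.basicOpen a := hy
      rw [Scheme.preimage_basicOpen, Scheme.Hom.ker_apply] at *
      rw [show i.app U.1 a = 0 from RingHom.mem_ker.1 ha, Scheme.basicOpen_zero] at hz
      exact hz.elim
    obtain ⟨k, v, hv⟩ := Module.Finite.exists_fin (R := Γ(X, U.1)) (M := Γ(G, U.1))
    choose n hn using fun j => hnil (v j)
    refine ⟨∑ j, n j, Module.mem_annihilator.2 fun m => ?_⟩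
    have hm : m ∈ Submodule.span Γ(X, U.1) (Set.range v) := hv.symm ▸ Submodule.mem_top
    induction hm using Submodule.span_induction with
    | mem x hx =>
      obtain ⟨j, rfl⟩ := hx
      obtain ⟨c, hc⟩ : ∃ c, ∑ j, n j = c + n j :=
        ⟨_, (Finset.sum_erase_add _ _ (Finset.mem_univ j)).symm⟩
      rw [hc, pow_add, mul_smul, hn j, smul_zero]
    | zero => exact smul_zero _
    | add x y _ _ hx hy => rw [smul_add, hx, hy, add_zero]
    | smul r x _ hx => rw [smul_comm, hx, smul_zero]
  obtain ⟨N, hN⟩ := Ideal.exists_pow_le_of_le_radical_of_fg hrad (IsNoetherian.noetherian _)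
  refine ⟨N, (Submodule.eq_bot_iff _).2 fun x hx => ?_⟩
  induction hx using Submodule.smul_induction_on' with
  | smul r hr m _ => exact Module.mem_annihilator.1 (hN hr) m
  | add x _ y _ hx hy => rw [hx, hy, add_zero]

theorem lf_AT : LF fun p : PUnit.{u + 1} × ℕ => AT i G p.2 := fun x => by
  obtain ⟨_, ⟨U, hU, rfl⟩, hxU, -⟩ :=
    X.isBasis_affineOpens.exists_subset_of_mem_open (Set.mem_univ x) isOpen_univ
  obtain ⟨N, hN⟩ := exists_pow_smul_top_eq_bot i hG hsupp ⟨U, hU⟩
  refine ⟨U, hxU, ((Set.finite_singleton PUnit.unit).prod (Set.finite_Iio N)).subset ?_⟩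
  rintro ⟨q, n⟩ ⟨y, hyU, hn⟩
  refine ⟨rfl, Set.mem_Iio.2 (lt_of_not_ge fun hle => ?_)⟩
  obtain ⟨m, hm⟩ := (QCoh.mem_support_iff (isCoh_AT i hG n).1 hU hyU).1
    (not_subsingleton_iff_nontrivial.2 hn)
  refine hm 1 (by rw [Scheme.basicOpen_of_isUnit _ isUnit_one]; exact hyU) ?_
  rw [one_smul]
  haveI := mono_Aι i G n
  refine QCoh.app_injective (Aι i G n) U ?_
  rw [map_zero]
  have h := Submodule.smul_mono_left (Ideal.pow_le_pow_right hle) (app_Aι_mem i hG ⟨U, hU⟩ n m)
  rwa [hN, Submodule.mem_bot] at h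

/-- The adic filtration. -/
noncomputable def adic : Fl G where
  T := AT i G
  ι := Aι i G
  t n := kernel.ι _
  w _ := rfl
  mono := mono_Aι i G
  iso := (inferInstance : IsIso (𝟙 G))
  coh := isCoh_AT i hG
  lf := lf_AT i hG hsupp

theorem adic_good : (adic i hG hsupp).Good (KilledCoh i) := fun n => by
  refine ⟨QCoh.isCoh_cokernel (isCoh_AT i hG (n + 1)).1 (isCoh_AT i hG n) _, ?_⟩
  exact (killed_push i _).of_mono i
    (Abelian.factorThruCoimage ((Scheme.Modules.pullbackPushforwardAdjunction i).unit.app (AT i G n)))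

end Filtration

/-- Modules killed by the ideal generate the `K₀` of modules with support in the subscheme. -/
theorem exists_equiv_killed [IsLocallyNoetherian X] :
    ∃ φ : KZero.K0sub (KilledCoh i) ≃+ KZero.K0sub (Supp (Set.range i)),
      ∀ F, KilledCoh i F → φ (KZero.clSub _ F) = KZero.clSub (Supp (Set.range i)) F :=
  exists_equiv (cohClosed_supp _) (cohClosed_killed i)
    (fun _ h => ⟨h.1, fun _ hx => mem_range_of_killed i h.1.1 h.2 hx⟩)
    fun _ h => ⟨adic i h.1 h.2, adic_good i h.1 h.2⟩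

/-- Dévissage along a closed immersion. -/
theorem exists_equiv_push [IsLocallyNoetherian X] :
    ∃ φ : KZero.K0sub (fun F : Z.Modules => Coh.IsCoh F) ≃+ KZero.K0sub (Supp (Set.range i)),
      ∀ F : Z.Modules, Coh.IsCoh F → φ (KZero.clSub (fun F : Z.Modules => Coh.IsCoh F) F) =
        KZero.clSub (Supp (Set.range i)) ((Coh.push i).obj F) := by
  haveI : IsLocallyNoetherian Z := LocallyOfFiniteType.isLocallyNoetherian i
  haveI := (Scheme.Modules.pullbackPushforwardAdjunction i).isRightAdjoint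
  haveI : PreservesFiniteLimits (Scheme.Modules.pushforward i) := inferInstance
  haveI : PreservesFiniteColimits (Scheme.Modules.pushforward i) :=
    ⟨fun J _ _ => KFlatLib.preservesColimitsOfShape_push i J⟩
  haveI : (Scheme.Modules.pushforward i).Additive :=
    (Scheme.Modules.pullbackPushforwardAdjunction i).right_adjoint_additive
  haveI : (Scheme.Modules.pushforward i).Faithful := ⟨fun {A B} {f g} h => push_map_injective i f g h⟩
  have hi : ∀ M : Z.Modules, Coh.IsCoh M → Coh.IsCoh ((Scheme.Modules.pushforward i).obj M) := fun M h =>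
    QCoh.isCoh_pushforward_finite i h
  obtain ⟨ψ, hψ⟩ := KZ.exists_equiv_sub (Scheme.Modules.pushforward i)
    (fun M : Z.Modules => Coh.IsCoh M) (KilledCoh i)
    (fun M hM => ⟨hi M hM, killed_push i M⟩) (fun M N hM _ => push_map_bijective i (hi M hM).1)
    (fun S _ _ _ hS => by
      exact .mk' ((ShortComplex.exact_map_iff_of_faithful S _).1 hS.exact)
        ((Scheme.Modules.pushforward i).mono_of_mono_map hS.mono_f)
        ((Scheme.Modules.pushforward i).epi_of_epi_map hS.epi_g))
    (fun M hM => by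
      have := (QCoh.isIso_unit_closed_iff i hM.1.1).2 hM.2
      exact ⟨_, isCoh_pull i hM.1,
        ⟨(asIso ((Scheme.Modules.pullbackPushforwardAdjunction i).unit.app M)).symm⟩⟩)
    (by
      obtain ⟨W, hW, hW'⟩ := (cohClosed_supp (X := Z) Set.univ).exists_zero
      exact ⟨W, hW, hW'.1⟩)
  obtain ⟨φ, hφ⟩ := exists_equiv_killed i
  refine ⟨ψ.trans φ, fun F hF => ?_⟩
  show φ (ψ _) = _
  rw [hψ F hF, hφ _ ⟨hi F hF, killed_push i F⟩]

end Groth.Agent.H23.K0Adic
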