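import Groth.Agent.H23.K0Swindle
import Mathlib.CategoryTheory.Abelian.CommSq

/-! Dévissage in `K₀` for locally finite filtrations of coherent modules. -/

set_option autoImplicit false
set_option backward.isDefEq.respectTransparency false
set_option backward.isDefEq.respectTransparency.types false

universe u

open CategoryTheory CategoryTheory.Limits AlgebraicGeometry TopologicalSpace Opposite

namespace Groth.Agent.H23.K0Filt

open Groth.Agent LocFinCoprod K0Swindle
open scoped ZeroObject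

variable {X : Scheme.{u}}

/-- A decreasing filtration by coherent submodules, locally eventually zero. -/
structure Fl (G : X.Modules) where
  /-- The steps. -/
  T : ℕ → X.Modules
  /-- The inclusions. -/
  ι : ∀ n, T n ⟶ G
  /-- The transition maps. -/
  t : ∀ n, T (n + 1) ⟶ T n
  w : ∀ n, t n ≫ ι n = ι (n + 1)
  mono : ∀ n, Mono (ι n)
  iso : IsIso (ι 0)
  coh : ∀ n, Coh.IsCoh (T n)
  lf : LF fun p : PUnit.{u + 1} × ℕ => T p.2

attribute [instance] Fl.mono Fl.iso

variable {G : X.Modules}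

instance Fl.mono_t (F : Fl G) (n : ℕ) : Mono (F.t n) := mono_of_mono_fac (F.w n)

/-- The graded pieces have a given property. -/
def Fl.Good (F : Fl G) (Q : ObjectProperty X.Modules) : Prop := ∀ n, Q (cokernel (F.t n))

/-- The sum of the graded pieces. -/
noncomputable def Fl.grSum (F : Fl G) : X.Modules :=
  ∐ fun p : PUnit.{u + 1} × ℕ => cokernel (F.t p.2)

theorem Fl.lf_gr (F : Fl G) : LF fun p : PUnit.{u + 1} × ℕ => cokernel (F.t p.2) :=
  F.lf.mono fun _ _ h => nontrivial_of_epi (cokernel.π _) h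

theorem Fl.prop_T (F : Fl G) {P : ObjectProperty X.Modules} (hP : CohClosed P) (h : P G) (n : ℕ) :
    P (F.T n) :=
  hP.sub (F.ι n) (F.coh n).1 h

/-- In a class containing the module, its class is the class of the graded module. -/
theorem Fl.cl_grSum (F : Fl G) {P : ObjectProperty X.Modules} (hP : CohClosed P) (h : P G) :
    KZero.clSub P G = KZero.clSub P F.grSum := by
  have e1 := swindle hP (fun _ : PUnit.{u + 1} => F.T) (fun _ => F.t) F.lf
    (fun _ n => F.prop_T hP h n)
  have h0 : KZero.clSub P (∐ fun _ : PUnit.{u + 1} => F.T 0) = KZero.clSub P (F.T 0) :=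
    cl_single hP _ PUnit.unit (fun j hj => absurd (Subsingleton.elim j PUnit.unit) hj) (F.prop_T hP h 0)
  rw [← cl_iso hP (asIso (F.ι 0)) (F.prop_T hP h 0), ← h0, e1]
  rfl

theorem isQCoh_pullback_mono {A B : X.Modules} (f : A ⟶ G) (g : B ⟶ G) [Mono g] (hA : Coh.IsQCoh A)
    (hB : Coh.IsQCoh B) (hG : Coh.IsQCoh G) : Coh.IsQCoh (pullback f g) := by
  have hz : pullback.fst f g ≫ f ≫ cokernel.π g = 0 := by
    rw [← Category.assoc, pullback.condition, Category.assoc, cokernel.condition, comp_zero]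
  have hz' : (kernel.ι (f ≫ cokernel.π g) ≫ f) ≫ cokernel.π g = 0 := by
    rw [Category.assoc, kernel.condition]
  let e : pullback f g ≅ kernel (f ≫ cokernel.π g) :=
    { hom := kernel.lift _ (pullback.fst f g) hz
      inv := pullback.lift (kernel.ι _) (Abelian.monoLift g _ hz') (Abelian.monoLift_comp _ _ _).symm
      hom_inv_id := (cancel_mono (pullback.fst f g)).1 (by
        rw [Category.assoc, pullback.lift_fst, kernel.lift_ι, Category.id_comp])
      inv_hom_id := (cancel_mono (kernel.ι _)).1 (by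
        rw [Category.assoc, kernel.lift_ι, pullback.lift_fst, Category.id_comp]) }
  exact (QCoh.isQCoh_iff_iso e).2 (QCoh.isQCoh_kernel hA (QCoh.isQCoh_cokernel hB hG g) _)

section Two

variable (F F' : Fl G)

/-- Intersection of two steps. -/
noncomputable abbrev pp (n m : ℕ) : X.Modules := pullback (F.ι n) (F'.ι m)

/-- The inclusion of an intersection. -/
noncomputable abbrev jj (n m : ℕ) : pp F F' n m ⟶ G := pullback.fst _ _ ≫ F.ι n

/-- Lowering the first index. -/
noncomputable def aa (n m : ℕ) : pp F F' (n + 1) m ⟶ pp F F' n m :=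
  pullback.lift (pullback.fst _ _ ≫ F.t n) (pullback.snd _ _)
    (by rw [Category.assoc, F.w, pullback.condition])

/-- Lowering the second index. -/
noncomputable def bb (n m : ℕ) : pp F F' n (m + 1) ⟶ pp F F' n m :=
  pullback.lift (pullback.fst _ _) (pullback.snd _ _ ≫ F'.t m)
    (by rw [Category.assoc, F'.w, pullback.condition])

theorem aa_jj (n m : ℕ) : aa F F' n m ≫ jj F F' n m = jj F F' (n + 1) m := by
  simp only [aa, jj, pullback.lift_fst_assoc, Category.assoc, F.w]

theorem bb_jj (n m : ℕ) : bb F F' n m ≫ jj F F' n m = jj F F' n (m + 1) := by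
  simp only [bb, jj, pullback.lift_fst_assoc]

theorem aa_bb (n m : ℕ) : aa F F' n (m + 1) ≫ bb F F' n m = bb F F' (n + 1) m ≫ aa F F' n m := by
  rw [← cancel_mono (jj F F' n m), Category.assoc, Category.assoc, aa_jj, bb_jj, bb_jj, aa_jj]

theorem isPullback_aa (n m : ℕ) :
    IsPullback (aa F F' n (m + 1)) (bb F F' (n + 1) m) (bb F F' n m) (aa F F' n m) := by
  have key : ∀ s : PullbackCone (bb F F' n m) (aa F F' n m),
      (s.snd ≫ pullback.fst _ _) ≫ F.ι (n + 1) = (s.fst ≫ pullback.snd _ _) ≫ F'.ι (m + 1) := fun s => by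
    have h := s.condition =≫ jj F F' n m
    rw [Category.assoc, Category.assoc, bb_jj, aa_jj] at h
    rw [Category.assoc, ← h, Category.assoc]
    exact congrArg (s.fst ≫ ·) pullback.condition
  refine IsPullback.of_isLimit' ⟨aa_bb F F' n m⟩ (PullbackCone.IsLimit.mk _
    (fun s => pullback.lift (s.snd ≫ pullback.fst _ _) (s.fst ≫ pullback.snd _ _) (key s))
    (fun s => ?_) (fun s => ?_) fun s l _ h2 => ?_)
  · rw [← cancel_mono (jj F F' n (m + 1)), Category.assoc, aa_jj, pullback.lift_fst_assoc,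
      Category.assoc, ← Category.assoc, key s, Category.assoc, ← pullback.condition]
  · rw [← cancel_mono (jj F F' (n + 1) m), Category.assoc, bb_jj, pullback.lift_fst_assoc, Category.assoc]
  · rw [← cancel_mono (jj F F' (n + 1) (m + 1)), pullback.lift_fst_assoc, Category.assoc, ← bb_jj,
      reassoc_of% h2]

/-- The step of the second filtration in a graded piece of the first. -/
noncomputable abbrev AA (n m : ℕ) : X.Modules := cokernel (aa F F' n m)

/-- Transition maps in a graded piece. -/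
noncomputable def bq (n m : ℕ) : AA F F' n (m + 1) ⟶ AA F F' n m :=
  cokernel.map _ _ (bb F F' (n + 1) m) (bb F F' n m) (aa_bb F F' n m)

instance mono_bq (n m : ℕ) : Mono (bq F F' n m) :=
  Abelian.mono_cokernel_map_of_isPullback (isPullback_aa F F' n m)

/-- The bottom step. -/
noncomputable def AA0Iso (n : ℕ) : AA F F' n 0 ≅ cokernel (F.t n) :=
  cokernel.mapIso (aa F F' n 0) (F.t n) (asIso (pullback.fst _ _)) (asIso (pullback.fst _ _))
    (by simp [aa])

theorem isCoh_pp [IsLocallyNoetherian X] (hG : Coh.IsCoh G) (n m : ℕ) : Coh.IsCoh (pp F F' n m) :=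
  QCoh.isCoh_of_mono (pullback.fst (F.ι n) (F'.ι m)) (F.coh n)
    (isQCoh_pullback_mono _ _ (F.coh n).1 (F'.coh m).1 hG.1)

theorem lf_AA : LF fun p : (PUnit.{u + 1} × ℕ) × ℕ => AA F F' p.1.2 p.2 := fun x => by
  obtain ⟨U, hx, hU⟩ := F.lf x
  obtain ⟨V, hx', hV⟩ := F'.lf x
  refine ⟨U ⊓ V, ⟨hx, hx'⟩, ((hU.prod (hV.image Prod.snd))).subset ?_⟩
  rintro ⟨p, m⟩ ⟨y, ⟨hyU, hyV⟩, hn⟩
  have h := nontrivial_of_epi (cokernel.π (aa F F' p.2 m)) hn
  exact ⟨⟨y, hyU, nontrivial_of_mono (pullback.fst (F.ι p.2) (F'.ι m)) h⟩,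
    ⟨(p.1, m), ⟨y, hyV, nontrivial_of_mono (pullback.snd (F.ι p.2) (F'.ι m)) h⟩, rfl⟩⟩

theorem prop_AA [IsLocallyNoetherian X] {Q : ObjectProperty X.Modules} (hQ : CohClosed Q) (hF : F.Good Q)
    (hG : Coh.IsCoh G) (n : ℕ) : ∀ m, Q (AA F F' n m) := by
  have hq : ∀ m, Coh.IsQCoh (AA F F' n m) := fun m =>
    QCoh.isQCoh_cokernel (isCoh_pp F F' hG _ _).1 (isCoh_pp F F' hG _ _).1 _
  intro m
  induction m with
  | zero => exact hQ.iso (AA0Iso F F' n).symm (hF n)
  | succ m ih => exact hQ.sub (bq F F' n m) (hq _) ih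

/-- The exchange of the two filtrations. -/
noncomputable def toSwap (n m : ℕ) : cokernel (bq F F' n m) ⟶ cokernel (bq F' F m n) :=
  cokernel.desc _ (cokernel.desc _
      ((pullbackSymmetry (F.ι n) (F'.ι m)).hom ≫ cokernel.π (aa F' F m n) ≫ cokernel.π _)
      (by
        have h : aa F F' n m ≫ (pullbackSymmetry (F.ι n) (F'.ι m)).hom =
            (pullbackSymmetry (F.ι (n + 1)) (F'.ι m)).hom ≫ bb F' F m n := by
          apply pullback.hom_ext <;> simp [aa, bb]
        have h2 : bb F' F m n ≫ cokernel.π (aa F' F m n) = cokernel.π _ ≫ bq F' F m n :=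
          (cokernel.π_desc _ _ _).symm
        rw [reassoc_of% h, reassoc_of% h2, cokernel.condition, comp_zero, comp_zero]))
    ((cancel_epi (cokernel.π _)).1 (by
      have h : bb F F' n m ≫ (pullbackSymmetry (F.ι n) (F'.ι m)).hom =
          (pullbackSymmetry (F.ι n) (F'.ι (m + 1))).hom ≫ aa F' F m n := by
        apply pullback.hom_ext <;> simp [aa, bb]
      refine Eq.trans ?_ comp_zero.symm
      have h3 : cokernel.π (aa F F' n (m + 1)) ≫ bq F F' n m = bb F F' n m ≫ cokernel.π _ :=
        cokernel.π_desc _ _ _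
      rw [reassoc_of% h3, cokernel.π_desc, reassoc_of% h,
        cokernel.condition_assoc, zero_comp, comp_zero]))

theorem toSwap_toSwap (n m : ℕ) : toSwap F F' n m ≫ toSwap F' F m n = 𝟙 _ := by
  rw [← cancel_epi (cokernel.π _), ← cancel_epi (cokernel.π _)]
  simp only [toSwap, cokernel.π_desc_assoc, cokernel.π_desc, Category.assoc, Category.comp_id]
  have h : (pullbackSymmetry (F.ι n) (F'.ι m)).hom ≫ (pullbackSymmetry (F'.ι m) (F.ι n)).hom = 𝟙 _ := by
    apply pullback.hom_ext <;> simp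
  rw [reassoc_of% h]

/-- The common refinement is symmetric. -/
noncomputable def swapIso (n m : ℕ) : cokernel (bq F F' n m) ≅ cokernel (bq F' F m n) where
  hom := toSwap F F' n m
  inv := toSwap F' F m n
  hom_inv_id := toSwap_toSwap F F' n m
  inv_hom_id := toSwap_toSwap F' F m n

theorem cl_refine [IsLocallyNoetherian X] {Q : ObjectProperty X.Modules} (hQ : CohClosed Q) (hF : F.Good Q)
    (hG : Coh.IsCoh G) :
    KZero.clSub Q F.grSum =
      KZero.clSub Q (∐ fun p : (PUnit.{u + 1} × ℕ) × ℕ => cokernel (bq F F' p.1.2 p.2)) := by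
  rw [← swindle hQ (fun p : PUnit.{u + 1} × ℕ => AA F F' p.2) (fun p => bq F F' p.2) (lf_AA F F')
    fun p m => prop_AA F F' hQ hF hG _ _]
  exact cl_coprod_congr hQ (Equiv.refl _) (fun p => AA0Iso F F' p.2) F.lf_gr fun p => hF _

/-- The class of the graded module does not depend on the filtration. -/
theorem cl_grSum_eq [IsLocallyNoetherian X] {Q : ObjectProperty X.Modules} (hQ : CohClosed Q) (hF : F.Good Q)
    (hF' : F'.Good Q) (hG : Coh.IsCoh G) : KZero.clSub Q F.grSum = KZero.clSub Q F'.grSum := by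
  rw [cl_refine F F' hQ hF hG, cl_refine F' F hQ hF' hG]
  refine cl_coprod_congr hQ
    ⟨fun p => ((p.1.1, p.2), p.1.2), fun p => ((p.1.1, p.2), p.1.2), fun _ => rfl, fun _ => rfl⟩
    (fun p => (swapIso F F' p.1.2 p.2).symm) ((lf_AA F F').mono fun _ _ h => nontrivial_of_epi (cokernel.π _) h)
    fun p => hQ.quot (cokernel.π _)
      (QCoh.isQCoh_cokernel (hQ.coh (prop_AA F F' hQ hF hG _ _)).1 (hQ.coh (prop_AA F F' hQ hF hG _ _)).1 _)
      (prop_AA F F' hQ hF hG _ _)

end Two

/-- A filtration of the middle term induces filtrations of the outer terms, additively. -/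
theorem exists_ses [IsLocallyNoetherian X] {Q : ObjectProperty X.Modules} (hQ : CohClosed Q)
    {S : ShortComplex X.Modules} (hS : S.ShortExact) (h₁ : Coh.IsCoh S.X₁) (h₂ : Coh.IsCoh S.X₂)
    (F : Fl S.X₂) (hF : F.Good Q) :
    ∃ (A : Fl S.X₁) (C : Fl S.X₃), A.Good Q ∧ C.Good Q ∧
      KZero.clSub Q F.grSum = KZero.clSub Q A.grSum + KZero.clSub Q C.grSum := by
  haveI := hS.mono_f
  haveI := hS.epi_g
  let fa : ∀ n, pullback (F.ι n) S.f ⟶ F.T n := fun n => pullback.fst _ _
  let tA : ∀ n, pullback (F.ι (n + 1)) S.f ⟶ pullback (F.ι n) S.f := fun n =>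
    pullback.lift (pullback.fst _ _ ≫ F.t n) (pullback.snd _ _)
      (by rw [Category.assoc, F.w, pullback.condition])
  have hA : ∀ n, Coh.IsCoh (pullback (F.ι n) S.f) := fun n =>
    QCoh.isCoh_of_mono (fa n) (F.coh n) (isQCoh_pullback_mono _ _ (F.coh n).1 h₁.1 h₂.1)
  have wA : ∀ n, fa (n + 1) ≫ F.t n = tA n ≫ fa n := fun n => (pullback.lift_fst _ _ _).symm
  have sqA : ∀ n, IsPullback (tA n) (fa (n + 1)) (fa n) (F.t n) := fun n => by
    have key : ∀ s : PullbackCone (fa n) (F.t n),
        s.snd ≫ F.ι (n + 1) = (s.fst ≫ pullback.snd _ _) ≫ S.f := fun s => by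
      rw [← F.w, ← reassoc_of% s.condition, Category.assoc]
      exact congrArg (s.fst ≫ ·) pullback.condition
    refine IsPullback.of_isLimit' ⟨(wA n).symm⟩ (PullbackCone.IsLimit.mk _
      (fun s => pullback.lift s.snd (s.fst ≫ pullback.snd _ _) (key s))
      (fun s => ?_) (fun s => pullback.lift_fst _ _ _) fun s l _ h2 => ?_)
    · rw [← cancel_mono (pullback.snd (F.ι n) S.f), Category.assoc, pullback.lift_snd, pullback.lift_snd]
    · exact (cancel_mono (fa (n + 1))).1 (h2.trans (pullback.lift_fst _ _ _).symm)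
  have tC0 : ∀ n, fa (n + 1) ≫ F.t n = tA n ≫ fa n := wA
  let tC : ∀ n, cokernel (fa (n + 1)) ⟶ cokernel (fa n) := fun n =>
    cokernel.map _ _ (tA n) (F.t n) (tC0 n)
  let ιC : ∀ n, cokernel (fa n) ⟶ S.X₃ := fun n => cokernel.desc _ (F.ι n ≫ S.g)
    (by simp only [fa]; rw [pullback.condition_assoc, S.zero, comp_zero])
  let eC : cokernel S.f ≅ S.X₃ :=
    IsColimit.coconePointUniqueUpToIso (cokernelIsCokernel S.f) hS.gIsCokernel
  have mC : ∀ n, Mono (ιC n) := fun n => by
    have h : ιC n = cokernel.map (fa n) S.f (pullback.snd _ _) (F.ι n) pullback.condition ≫ eC.hom := by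
      rw [← cancel_epi (cokernel.π (fa n))]
      have hh : cokernel.π S.f ≫ eC.hom = S.g :=
        IsColimit.comp_coconePointUniqueUpToIso_hom (cokernelIsCokernel S.f) hS.gIsCokernel
          WalkingParallelPair.one
      simp [ιC, hh]
    haveI := Abelian.mono_cokernel_map_of_isPullback (IsPullback.of_hasPullback (F.ι n) S.f)
    rw [h]
    infer_instance
  let A : Fl S.X₁ :=
    { T := fun n => pullback (F.ι n) S.f
      ι := fun n => pullback.snd _ _
      t := tA
      w := fun n => pullback.lift_snd _ _ _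
      mono := fun n => inferInstance
      iso := inferInstance
      coh := hA
      lf := F.lf.mono fun p x h => nontrivial_of_mono (fa p.2) h }
  have eC0 : Epi (ιC 0) := by
    haveI : Epi (cokernel.π (fa 0) ≫ ιC 0) := by rw [cokernel.π_desc]; infer_instance
    exact epi_of_epi (cokernel.π (fa 0)) _
  let C : Fl S.X₃ :=
    { T := fun n => cokernel (fa n)
      ι := ιC
      t := tC
      w := fun n => (cancel_epi (cokernel.π (fa (n + 1)))).1 (by simp [tC, ιC, reassoc_of% (F.w n)])
      mono := mC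
      iso := by haveI := eC0; haveI := mC 0; exact isIso_of_mono_of_epi _
      coh := fun n => QCoh.isCoh_cokernel (hA n).1 (F.coh n) _
      lf := F.lf.mono fun p x h => nontrivial_of_epi (cokernel.π (fa p.2)) h }
  let i : ∀ n, cokernel (tA n) ⟶ cokernel (F.t n) := fun n =>
    cokernel.map _ _ (fa (n + 1)) (fa n) (wA n).symm
  let p : ∀ n, cokernel (F.t n) ⟶ cokernel (tC n) := fun n =>
    cokernel.map _ _ (cokernel.π _) (cokernel.π _) (cokernel.π_desc _ _ _).symm
  let Sn : ℕ → ShortComplex X.Modules := fun n => ShortComplex.mk (i n) (p n)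
    ((cancel_epi (cokernel.π (tA n))).1 (by simp [i, p, fa]))
  have hSn : ∀ n, (Sn n).ShortExact := fun n => by
    refine .mk' (ShortComplex.exact_of_g_is_cokernel _ (CokernelCofork.IsColimit.ofπ' _ _ fun {W} h hh => ?_))
      (Abelian.mono_cokernel_map_of_isPullback (sqA n)) ?_
    · have h1 : fa n ≫ cokernel.π (F.t n) ≫ h = 0 := by
        have := cokernel.π (tA n) ≫= hh
        simpa [Sn, i] using this
      refine ⟨cokernel.desc _ (cokernel.desc _ (cokernel.π (F.t n) ≫ h) h1) ?_, ?_⟩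
      · rw [← cancel_epi (cokernel.π (fa (n + 1)))]
        simp [tC]
      · rw [← cancel_epi (cokernel.π (F.t n))]
        simp [Sn, p]
    · haveI : Epi (cokernel.π (F.t n) ≫ p n) := by
        simp only [p, cokernel.π_desc]; infer_instance
      exact epi_of_epi (cokernel.π (F.t n)) _
  have hgA : A.Good Q := fun n => by
    haveI : Mono (i n) := (hSn n).mono_f
    exact hQ.sub (i n) (QCoh.isQCoh_cokernel (hA _).1 (hA _).1 _) (hF n)
  have hgC : C.Good Q := fun n => hQ.quot (p n) (QCoh.isQCoh_cokernel (C.coh _).1 (C.coh _).1 _) (hF n)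
  exact ⟨A, C, hgA, hgC, cl_coprod_ses hQ (fun q : PUnit.{u + 1} × ℕ => Sn q.2) (fun q => hSn _)
    F.lf_gr (fun q => hgA _) (fun q => hF _) fun q => hgC _⟩

section Triv

variable (G)

/-- The steps of the trivial filtration. -/
noncomputable def trivT : ℕ → X.Modules
  | 0 => G
  | _ + 1 => 0

/-- The inclusions of the trivial filtration. -/
noncomputable def trivι : ∀ n, trivT G n ⟶ G
  | 0 => 𝟙 G
  | _ + 1 => 0

/-- The trivial filtration. -/
noncomputable def triv {Q : ObjectProperty X.Modules} (hQ : CohClosed Q) (h : Q G) : Fl G where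
  T := trivT G
  ι := trivι G
  t _ := 0
  w _ := by rw [zero_comp]; rfl
  mono := fun
    | 0 => (inferInstance : Mono (𝟙 G))
    | _ + 1 => ⟨fun _ _ _ => (isZero_zero _).eq_of_tgt _ _⟩
  iso := (inferInstance : IsIso (𝟙 G))
  coh := fun
    | 0 => hQ.coh h
    | _ + 1 => hQ.coh (hQ.of_isZero (isZero_zero _))
  lf x := ⟨⊤, trivial, (Set.finite_singleton ((PUnit.unit, 0) : PUnit.{u + 1} × ℕ)).subset (by
    rintro ⟨q, _ | n⟩ ⟨y, -, hn⟩
    · rfl
    · exact absurd (subsingleton_of_isZero (isZero_zero _) y) (not_subsingleton_iff_nontrivial.2 hn))⟩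

end Triv

theorem triv_spec {Q : ObjectProperty X.Modules} (hQ : CohClosed Q) (h : Q G) :
    (triv G hQ h).Good Q ∧ KZero.clSub Q (triv G hQ h).grSum = KZero.clSub Q G := by
  have e0 : cokernel ((triv G hQ h).t 0) ≅ G := cokernelZeroIsoTarget
  have hz : ∀ n, IsZero (cokernel ((triv G hQ h).t (n + 1))) := fun n =>
    IsZero.of_epi (cokernel.π ((triv G hQ h).t (n + 1))) (isZero_zero _)
  refine ⟨fun n => ?_, ?_⟩
  · cases n with
    | zero => exact hQ.iso e0.symm h
    | succ n => exact hQ.of_isZero (hz n)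
  · refine (cl_single hQ _ ((PUnit.unit, 0) : PUnit.{u + 1} × ℕ) (fun j hj => ?_) (hQ.iso e0.symm h)).trans
      (cl_iso hQ e0 (hQ.iso e0.symm h))
    rcases j with ⟨q, _ | n⟩
    · exact absurd rfl hj
    · exact hz n

/-- Dévissage: two classes of modules have the same `K₀` if one filters by the other. -/
theorem exists_equiv [IsLocallyNoetherian X] {P Q : ObjectProperty X.Modules} (hP : CohClosed P)
    (hQ : CohClosed Q) (hle : ∀ F, Q F → P F) (hex : ∀ G, P G → ∃ F : Fl G, F.Good Q) :
    ∃ φ : KZero.K0sub Q ≃+ KZero.K0sub P, ∀ F, Q F → φ (KZero.clSub Q F) = KZero.clSub P F := by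
  classical
  choose F hF using hex
  obtain ⟨f, hf⟩ := exists_mapLe (Q := Q) hle
  obtain ⟨g, hg⟩ := KZ.exists_liftSub P
    (fun G => if h : P G then KZero.clSub Q (F G h).grSum else 0) fun S hS a b c => by
      obtain ⟨A, C, hA, hC, e⟩ := exists_ses hQ hS (hP.coh a) (hP.coh b) (F _ b) (hF _ b)
      rw [dif_pos a, dif_pos b, dif_pos c, e, cl_grSum_eq A (F _ a) hQ hA (hF _ a) (hP.coh a),
        cl_grSum_eq C (F _ c) hQ hC (hF _ c) (hP.coh c)]
  refine ⟨AddMonoidHom.toAddEquiv f g (KZ.K0sub_hom_ext Q fun G hG => ?_)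
    (KZ.K0sub_hom_ext P fun G hG => ?_), fun G hG => hf G hG⟩
  · rw [AddMonoidHom.comp_apply, hf G hG, hg G (hle G hG), dif_pos (hle G hG), AddMonoidHom.id_apply,
      cl_grSum_eq (F G (hle G hG)) (triv G hQ hG) hQ (hF _ _) (triv_spec hQ hG).1 (hQ.coh hG),
      (triv_spec hQ hG).2]
  · rw [AddMonoidHom.comp_apply, hg G hG, dif_pos hG, AddMonoidHom.id_apply]
    exact (hf _ (hQ.sigma (F G hG).lf_gr fun p => hF G hG p.2)).trans ((F G hG).cl_grSum hP hG).symm

end Groth.Agent.H23.K0Filt
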