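import Groth.Agent.H23.PeriodicLocal
import Groth.Agent.H23.CycleClassK
import Groth.Agent.H23.StalkPrimes
import Groth.Agent.QCoh.Stalk
import Groth.Agent.CycLib.Div

/-! The two cohomology cycles of a periodic complex of coherent modules are rationally equivalent. -/

set_option autoImplicit false
set_option maxHeartbeats 400000
set_option backward.isDefEq.respectTransparency false
set_option backward.isDefEq.respectTransparency.types false
set_option linter.style.haveILetI false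

universe u

open CategoryTheory CategoryTheory.Limits AlgebraicGeometry TopologicalSpace Opposite IsLocalRing CycDet

namespace Groth.Agent.H23.PeriodicRat

open Groth.Agent LocFinCoprod KFlatLib CDiv6 StalkPrimes CycleClassK PeriodicRatio PeriodicLocal

variable {X : Scheme.{u}}

theorem exists_lift_stalk {F : X.Modules} (hF : Coh.IsQCoh F) {x ξ : X} (h : ξ ⤳ x)
    (y : F.presheaf.stalk ξ) : ∃ (m : F.presheaf.stalk x) (s : X.presheaf.stalk x),
      IsUnit ((X.presheaf.stalkSpecializes h).hom s) ∧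
      (X.presheaf.stalkSpecializes h).hom s • y = F.presheaf.stalkSpecializes h m := by
  obtain ⟨_, ⟨U, hU, rfl⟩, hx, -⟩ :=
    X.isBasis_affineOpens.exists_subset_of_mem_open (Set.mem_univ x) isOpen_univ
  have hU' : IsAffineOpen U := hU
  have hξ : ξ ∈ U := h.mem_open U.2 hx
  letI := QCoh.stalkModule F hξ
  haveI := QCoh.isLocalizedModule_germLin hF hU' hξ
  obtain ⟨⟨m, a⟩, ha⟩ := IsLocalizedModule.surj (hU'.primeIdealOf ⟨ξ, hξ⟩).asIdeal.primeCompl
    (QCoh.germLin F hξ) y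
  have hgs : (X.presheaf.stalkSpecializes h).hom (X.presheaf.germ U x hx a.1) = X.presheaf.germ U ξ hξ a.1 :=
    TopCat.Presheaf.germ_stalkSpecializes_apply _ _ _ _
  refine ⟨F.presheaf.germ U x hx m, X.presheaf.germ U x hx a.1, ?_, ?_⟩
  · rw [hgs]
    exact (X.mem_basicOpen _ ξ hξ).1 ((QCoh.mem_basicOpen_iff_notMem hU' hξ _).2 a.2)
  · rw [hgs]
    erw [TopCat.Presheaf.germ_stalkSpecializes_apply]
    exact ha

theorem exists_smul_eq_zero_stalk {F : X.Modules} (hF : Coh.IsQCoh F) {x ξ : X} (h : ξ ⤳ x)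
    {t : F.presheaf.stalk x} (ht : F.presheaf.stalkSpecializes h t = 0) :
    ∃ s : X.presheaf.stalk x, s ∉ (primeOf h).asIdeal ∧ s • t = 0 := by
  obtain ⟨_, ⟨U, hU, rfl⟩, hx, -⟩ :=
    X.isBasis_affineOpens.exists_subset_of_mem_open (Set.mem_univ x) isOpen_univ
  have hU' : IsAffineOpen U := hU
  have hξ : ξ ∈ U := h.mem_open U.2 hx
  letI := QCoh.stalkModule F hx
  haveI := QCoh.isLocalizedModule_germLin hF hU' hx
  obtain ⟨⟨m, s⟩, hs⟩ := IsLocalizedModule.surj (hU'.primeIdealOf ⟨x, hx⟩).asIdeal.primeCompl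
    (QCoh.germLin F hx) t
  have hs' : X.presheaf.germ U x hx s.1 • t = F.presheaf.germ U x hx m := hs
  have h0 : F.presheaf.germ U ξ hξ m = 0 := by
    rw [← TopCat.Presheaf.germ_stalkSpecializes_apply (F := F.presheaf) hx h, ← hs',
      ZeroSec.stalkSpecializes_smul, ht, smul_zero]
  obtain ⟨c, hc, hcm⟩ := (QCoh.germ_eq_zero_iff hF hU' hξ m).1 h0
  refine ⟨X.presheaf.germ U x hx c * X.presheaf.germ U x hx s.1, ?_, ?_⟩
  · rw [mem_primeOf, not_not, map_mul, TopCat.Presheaf.germ_stalkSpecializes_apply,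
      TopCat.Presheaf.germ_stalkSpecializes_apply]
    refine ((X.mem_basicOpen _ ξ hξ).1 hc).mul ?_
    have hu : IsUnit (X.presheaf.germ U x hx s.1) :=
      (X.mem_basicOpen _ x hx).1 ((QCoh.mem_basicOpen_iff_notMem hU' hx _).2 s.2)
    have := hu.map (X.presheaf.stalkSpecializes h).hom
    rwa [TopCat.Presheaf.germ_stalkSpecializes_apply] at this
  · rw [mul_smul, hs', ← QCoh.germ_smul', hcm, map_zero]

theorem stk_specializes {M N : X.Modules} (φ : M ⟶ N) {x ξ : X} (h : ξ ⤳ x) (t : M.presheaf.stalk x) :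
    N.presheaf.stalkSpecializes h (stk φ x t) = stk φ ξ (M.presheaf.stalkSpecializes h t) := by
  obtain ⟨U, hx, m, rfl⟩ := M.presheaf.exists_germ_eq t
  rw [stk_germ, TopCat.Presheaf.germ_stalkSpecializes_apply, TopCat.Presheaf.germ_stalkSpecializes_apply, stk_germ]

/-- The stalk of the homology of a complex of modules. -/
theorem exists_perH_stalk {F : X.Modules} (φ ψ : F ⟶ F) (hφψ : φ ≫ ψ = 0) (x : X) :
    Nonempty ((ShortComplex.mk φ ψ hφψ).homology.presheaf.stalk x ≃ₗ[X.presheaf.stalk x]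
      CycAlg.perH (stk ψ x) (stk φ x)) := by
  let G := DerSch.stalkFunctor X x
  haveI : G.PreservesHomology := inferInstance
  let T := (ShortComplex.mk φ ψ hφψ).map G
  let e := ((ShortComplex.mk φ ψ hφψ).mapHomologyIso G).symm ≪≫ T.moduleCatHomologyIso
  refine ⟨e.toLinearEquiv.trans (Submodule.quotEquivOfEq (LinearMap.range T.moduleCatToCycles)
    ((LinearMap.range (stk φ x)).submoduleOf (LinearMap.ker (stk ψ x))) ?_)⟩
  ext z
  constructor
  · rintro ⟨w, rfl⟩
    exact ⟨w, rfl⟩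
  · rintro ⟨w, hw⟩
    exact ⟨w, Subtype.ext hw⟩

section

variable [IsLocallyNoetherian X] {δ : X → ℤ}

theorem nontrivial_iff_sheafFun (hd : Cyc.IsDimFun X δ) {k : ℤ} {F : X.Modules} (hF : Cyc.CohLe δ k F) {x : X} :
    Cyc.sheafFun δ k F x ≠ 0 ↔ δ x = k ∧ Nontrivial (F.presheaf.stalk x) := by
  refine ⟨nontrivial_of_sheafFun, fun ⟨hx, hn⟩ => ?_⟩
  have hpos := (Module.length_pos_iff (R := X.presheaf.stalk x) (M := F.presheaf.stalk x)).mpr hn
  have hlt := length_lt_top hd hF hx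
  rw [Cyc.sheafFun, if_pos hx]
  obtain ⟨n, hn'⟩ := ENat.ne_top_iff_exists.mp hlt.ne
  rw [← hn'] at hpos ⊢
  simp only [ENat.toNat_natCast]
  exact_mod_cast (Nat.cast_pos.mp hpos).ne'

variable {F : X.Modules} (φ ψ : F ⟶ F)

/-- The chosen ratio at a point. -/
def Data (ξ : X) (f : X.residueField ξ) : Prop :=
  ∃ (l a b : ℕ) (h : a + b = l) (h' : b + a = l) (A : Fin a → F.presheaf.stalk ξ) (B : Fin b → F.presheaf.stalk ξ),
    Module.length (X.presheaf.stalk ξ) (F.presheaf.stalk ξ) = l ∧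
    (IsAdmissible (X.presheaf.stalk ξ) (F.presheaf.stalk ξ) (stk φ ξ ∘ A) ∧ CycLib.Strict (X.presheaf.stalk ξ) (stk φ ξ ∘ A) ∧
      Submodule.span (X.presheaf.stalk ξ) (Set.range (stk φ ξ ∘ A)) = LinearMap.ker (stk ψ ξ)) ∧
    (IsAdmissible (X.presheaf.stalk ξ) (F.presheaf.stalk ξ) (stk ψ ξ ∘ B) ∧ CycLib.Strict (X.presheaf.stalk ξ) (stk ψ ξ ∘ B) ∧
      Submodule.span (X.presheaf.stalk ξ) (Set.range (stk ψ ξ ∘ B)) = LinearMap.ker (stk φ ξ)) ∧
    CycLib.clsT (X.presheaf.stalk ξ) (cat h' (stk ψ ξ ∘ B) A) ≠ 0 ∧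
    CycLib.clsT (X.presheaf.stalk ξ) (cat h (stk φ ξ ∘ A) B) =
      (show ResidueField (X.presheaf.stalk ξ) from f) • CycLib.clsT (X.presheaf.stalk ξ) (cat h' (stk ψ ξ ∘ B) A)

omit [IsLocallyNoetherian X] in
theorem range_eq_ker_of_subsingleton (hφψ : φ ≫ ψ = 0) {x : X}
    (h : ¬ Nontrivial ((ShortComplex.mk φ ψ hφψ).homology.presheaf.stalk x)) :
    LinearMap.range (stk φ x) = LinearMap.ker (stk ψ x) := by
  obtain ⟨e⟩ := exists_perH_stalk φ ψ hφψ x
  haveI := not_nontrivial_iff_subsingleton.mp h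
  have : Subsingleton (CycAlg.perH (stk ψ x) (stk φ x)) := e.symm.injective.subsingleton
  refine le_antisymm ?_ fun z hz => ?_
  · rintro _ ⟨w, rfl⟩
    rw [LinearMap.mem_ker, ← stk_comp, hφψ, stk_zero]
  · exact (Submodule.Quotient.mk_eq_zero ((LinearMap.range (stk φ x)).submoduleOf (LinearMap.ker (stk ψ x)))
      (x := ⟨z, hz⟩)).mp (Subsingleton.elim _ _)

theorem exists_data_stalk (hd : Cyc.IsDimFun X δ) {k : ℤ} (hF : Cyc.CohLe δ (k + 1) F)
    (hφψ : φ ≫ ψ = 0) (hψφ : ψ ≫ φ = 0)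
    (h0 : ∀ x : X, Nontrivial ((ShortComplex.mk φ ψ hφψ).homology.presheaf.stalk x) → δ x ≤ k)
    (h1 : ∀ x : X, Nontrivial ((ShortComplex.mk ψ φ hψφ).homology.presheaf.stalk x) → δ x ≤ k)
    {ξ : X} (hξ : δ ξ = k + 1) : ∃ f : X.residueField ξ, f ≠ 0 ∧ Data φ ψ ξ f := by
  obtain ⟨l, a, b, h, h', A, B, f, hl, hf, hA, hB, hne, hcls⟩ :=
    exists_data (length_lt_top hd hF hξ).ne (stk φ ξ) (stk ψ ξ)
      (range_eq_ker_of_subsingleton φ ψ hφψ fun hn => by have := h0 ξ hn; omega)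
      (range_eq_ker_of_subsingleton ψ φ hψφ fun hn => by have := h1 ξ hn; omega)
  exact ⟨f, hf, l, a, b, h, h', A, B, hl, hA, hB, hne, hcls⟩

/-- The kernel of specialisation. -/
noncomputable def spKer (F : X.Modules) {x ξ : X} (h : ξ ⤳ x) :
    Submodule (X.presheaf.stalk x) (F.presheaf.stalk x) where
  carrier := {t | F.presheaf.stalkSpecializes h t = 0}
  zero_mem' := map_zero (F.presheaf.stalkSpecializes h).hom
  add_mem' := fun {s t} hs ht => by
    show (F.presheaf.stalkSpecializes h).hom (s + t) = 0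
    rw [map_add, show (F.presheaf.stalkSpecializes h).hom s = 0 from hs,
      show (F.presheaf.stalkSpecializes h).hom t = 0 from ht, add_zero]
  smul_mem' := fun r t ht => (ZeroSec.stalkSpecializes_smul F h r t).trans
    ((congrArg _ ht).trans (smul_zero _))

omit [IsLocallyNoetherian X] in
theorem spKer_le_comap {x ξ : X} (h : ξ ⤳ x) : spKer F h ≤ (spKer F h).comap (stk φ x) := fun t ht => by
  show F.presheaf.stalkSpecializes h (stk φ x t) = 0
  rw [stk_specializes, show F.presheaf.stalkSpecializes h t = 0 from ht, map_zero]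

/-- The contribution of one generic point. -/
theorem herbrand_eq_divFun (hd : Cyc.IsDimFun X δ) {k : ℤ} (hF : Cyc.CohLe δ (k + 1) F)
    (hφψ : φ ≫ ψ = 0) (hψφ : ψ ≫ φ = 0) {x ξ : X} (h : ξ ⤳ x) (hx : δ x + 1 = δ ξ) (_hξ : δ ξ = k + 1)
    {f : X.residueField ξ} (hf : Data φ ψ ξ f)
    (hfin : CycAlg.FinCoh (X.presheaf.stalk x) ((spKer F h).mapQ _ (stk ψ x) (spKer_le_comap ψ h))
      ((spKer F h).mapQ _ (stk φ x) (spKer_le_comap φ h))) :
    CycAlg.herbrand (X.presheaf.stalk x) ((spKer F h).mapQ _ (stk ψ x) (spKer_le_comap ψ h))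
      ((spKer F h).mapQ _ (stk φ x) (spKer_le_comap φ h)) = Cyc.divFun δ ξ f x := by
  classical
  obtain ⟨l, a, b, e, e', A, B, hl, ⟨hAa, hAs, hAsp⟩, ⟨hBa, hBs, hBsp⟩, hne, hcls⟩ := hf
  let σ := (X.presheaf.stalkSpecializes h).hom
  letI : Algebra (X.presheaf.stalk x) (X.presheaf.stalk ξ) := σ.toAlgebra
  letI : Module (X.presheaf.stalk x) (F.presheaf.stalk ξ) := Module.compHom _ σ
  haveI : IsScalarTower (X.presheaf.stalk x) (X.presheaf.stalk ξ) (F.presheaf.stalk ξ) :=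
    IsScalarTower.of_algebraMap_smul fun _ _ => rfl
  haveI := isLocalization_primeOf h
  haveI : Module.Finite (X.presheaf.stalk x) (F.presheaf.stalk x) := QCoh.finite_stalk_of_isFT hF.1.1 hF.1.2 x
  haveI : Ring.KrullDimLE 1 (X.presheaf.stalk x ⧸ (primeOf h).asIdeal) := by
    have := CycLib.krullDimLE_locQuot hd h hx
    rw [Ring.KrullDimLE, Order.krullDimLE_iff] at this ⊢
    exact (ringKrullDim_eq_of_ringEquiv (Ideal.quotEquivOfEq (CycLib.ker_specMap h).symm)).trans_le this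
  let g : F.presheaf.stalk x →ₗ[X.presheaf.stalk x] F.presheaf.stalk ξ :=
    { toFun := F.presheaf.stalkSpecializes h
      map_add' := map_add _
      map_smul' := fun r m => ZeroSec.stalkSpecializes_smul F h r m }
  have hgker : spKer F h = LinearMap.ker g := rfl
  let jm : (F.presheaf.stalk x ⧸ spKer F h) →ₗ[X.presheaf.stalk x] F.presheaf.stalk ξ :=
    (spKer F h).liftQ g hgker.le
  have hj : Function.Injective jm :=
    LinearMap.ker_eq_bot.mp (Submodule.ker_liftQ_eq_bot _ _ _ hgker.ge)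
  have hcomm : ∀ (θ : F ⟶ F) (n : F.presheaf.stalk x ⧸ spKer F h),
      jm ((spKer F h).mapQ _ (stk θ x) (spKer_le_comap θ h) n) = stk θ ξ (jm n) := fun θ n => by
    obtain ⟨m, rfl⟩ := Submodule.mkQ_surjective _ n
    exact stk_specializes θ h m
  have hzero : ∀ (θ θ' : F ⟶ F), θ ≫ θ' = 0 → ∀ n : F.presheaf.stalk x ⧸ spKer F h,
      (spKer F h).mapQ _ (stk θ' x) (spKer_le_comap θ' h)
        ((spKer F h).mapQ _ (stk θ x) (spKer_le_comap θ h) n) = 0 := fun θ θ' hθ n => by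
    obtain ⟨m, rfl⟩ := Submodule.mkQ_surjective _ n
    show Submodule.Quotient.mk (stk θ' x (stk θ x m)) = 0
    rw [← stk_comp, hθ, stk_zero]
    rfl
  choose mA sA hsA heA using fun i => exists_lift_stalk hF.1.1 h (A i)
  choose mB sB hsB heB using fun i => exists_lift_stalk hF.1.1 h (B i)
  let A' : Fin a → F.presheaf.stalk x ⧸ spKer F h := fun i => Submodule.Quotient.mk (mA i)
  let B' : Fin b → F.presheaf.stalk x ⧸ spKer F h := fun i => Submodule.Quotient.mk (mB i)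
  let uA : Fin a → (X.presheaf.stalk ξ)ˣ := fun i => (hsA i).unit
  let uB : Fin b → (X.presheaf.stalk ξ)ˣ := fun i => (hsB i).unit
  have eA : RatioAbs.loc jm A' = fun i => (uA i : X.presheaf.stalk ξ) • A i := funext fun i => (heA i).symm
  have eB : RatioAbs.loc jm B' = fun i => (uB i : X.presheaf.stalk ξ) • B i := funext fun i => (heB i).symm
  have eA' : (stk φ ξ ∘ RatioAbs.loc jm A' : Fin a → _) =
      fun i => (uA i : X.presheaf.stalk ξ) • (stk φ ξ ∘ A) i := by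
    rw [eA]; exact funext fun i => map_smul _ _ _
  have eB' : (stk ψ ξ ∘ RatioAbs.loc jm B' : Fin b → _) =
      fun i => (uB i : X.presheaf.stalk ξ) • (stk ψ ξ ∘ B) i := by
    rw [eB]; exact funext fun i => map_smul _ _ _
  have scaled : ∀ {n : ℕ} (u : Fin n → (X.presheaf.stalk ξ)ˣ) (P P' : Fin n → F.presheaf.stalk ξ),
      (P' = fun i => (u i : X.presheaf.stalk ξ) • P i) → IsAdmissible (X.presheaf.stalk ξ) (F.presheaf.stalk ξ) P →
      CycLib.Strict (X.presheaf.stalk ξ) P → IsAdmissible (X.presheaf.stalk ξ) (F.presheaf.stalk ξ) P' ∧ CycLib.Strict (X.presheaf.stalk ξ) P' ∧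
        Submodule.span (X.presheaf.stalk ξ) (Set.range P') = Submodule.span (X.presheaf.stalk ξ) (Set.range P) := by
    intro n u P P' hP' hPa hPs
    have hw : ∀ i : Fin n, P i - ((u i)⁻¹ : (X.presheaf.stalk ξ)ˣ).1 • P' i ∈
        spanBefore (X.presheaf.stalk ξ) _ P i := fun i => by
      rw [hP']
      simp [smul_smul]
    refine ⟨CycLib.adm_of_sub _ hw hPa, (CycLib.strict_iff_of_sub _ hw).mp hPs, ?_⟩
    rw [← CycLib.spanBefore_last P' le_rfl, ← CycLib.spanBefore_last P le_rfl]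
    exact (CycLib.spanBefore_eq_of_sub _ hw n).symm
  obtain ⟨hA1, hA2, hA3⟩ := scaled uA _ _ eA' hAa hAs
  obtain ⟨hB1, hB2, hB3⟩ := scaled uB _ _ eB' hBa hBs
  obtain ⟨r, s, hr, hs, hrat, hherb⟩ := PeriodicRatio.key (primeOf h) (X.presheaf.stalk ξ) jm
    (φ := (spKer F h).mapQ _ (stk φ x) (spKer_le_comap φ h))
    (ψ := (spKer F h).mapQ _ (stk ψ x) (spKer_le_comap ψ h))
    (Φ := stk φ ξ) (Ψ := stk ψ ξ) hj (hcomm φ) (hcomm ψ) (hzero φ ψ hφψ) (hzero ψ φ hψφ) hl e e' A' B'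
    hA1 hA2 (hA3.trans hAsp) hB1 hB2 (hB3.trans hBsp) hfin.1.ne hfin.2.ne
  rw [hherb]
  rw [eA', eB', eA, eB, clsT_cat_scale, clsT_cat_scale, hcls, smul_smul, smul_smul] at hrat
  have hprod : ∀ {n : ℕ} (u : Fin n → (X.presheaf.stalk ξ)ˣ),
      (∏ i, residue (X.presheaf.stalk ξ) (u i : X.presheaf.stalk ξ)) ≠ 0 := fun u =>
    Finset.prod_ne_zero_iff.mpr fun i _ => CycLib.residue_ne_zero (u i).isUnit
  have hfs : (show ResidueField (X.presheaf.stalk ξ) from f) =
      residue _ (σ r) / residue _ (σ s) := by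
    have h1 := smul_left_injective (ResidueField (X.presheaf.stalk ξ)) hne hrat
    rw [mul_comm (∏ i, residue _ (uB i : X.presheaf.stalk ξ)) (∏ i, residue _ (uA i : X.presheaf.stalk ξ)),
      mul_comm ((∏ i, residue _ (uA i : X.presheaf.stalk ξ)) * _)] at h1
    exact mul_right_cancel₀ (mul_ne_zero (hprod uA) (hprod uB)) h1
  have hmk : ∀ {t : X.presheaf.stalk x}, t ∉ (primeOf h).asIdeal →
      (Ideal.Quotient.mk (RingHom.ker (Cyc.specMap x ξ h)) t : Cyc.LocQuot x ξ h) ≠ 0 := fun ht h0 =>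
    ht (CycLib.ker_specMap h ▸ Ideal.Quotient.eq_zero_iff_mem.mp h0)
  have hsp : ∀ t : X.presheaf.stalk x, t ∉ (primeOf h).asIdeal →
      ((RatioAbs.ordQ (primeOf h) t).toNat : ℤ) = Cyc.ordAt x ξ h (Cyc.specMap x ξ h t) := fun t ht => by
    rw [← CycLib.algebraMap_locQuot_mk, CycLib.ordAt_algebraMap hd h hx (hmk ht)]
    congr 2
    show Ring.ord (X.presheaf.stalk x ⧸ (primeOf h).asIdeal) _ = _
    rw [CycLib.ord_eq_length, CycLib.ord_eq_length, CycLib.ker_specMap h]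
  have hne' : ∀ {t : X.presheaf.stalk x}, t ∉ (primeOf h).asIdeal → Cyc.specMap x ξ h t ≠ 0 := fun ht h0 =>
    hmk ht (Ideal.Quotient.eq_zero_iff_mem.mpr h0)
  rw [hsp r hr, hsp s hs, CycLib.divFun_eq δ f h hx]
  have hf' : f = Cyc.specMap x ξ h r * (Cyc.specMap x ξ h s)⁻¹ := hfs.trans (div_eq_mul_inv _ _)
  rw [hf', CycLib.ordAt_mul hd h hx (hne' hr) (inv_ne_zero (hne' hs)), CycLib.ordAt_inv hd h hx (hne' hs)]
  ring

/-- The main result. -/
theorem ratEquiv_homology (hd : Cyc.IsDimFun X δ) {k : ℤ} (hF : Cyc.CohLe δ (k + 1) F)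
    (hφψ : φ ≫ ψ = 0) (hψφ : ψ ≫ φ = 0)
    (h0 : ∀ x : X, Nontrivial ((ShortComplex.mk φ ψ hφψ).homology.presheaf.stalk x) → δ x ≤ k)
    (h1 : ∀ x : X, Nontrivial ((ShortComplex.mk ψ φ hψφ).homology.presheaf.stalk x) → δ x ≤ k)
    (γ₀ γ₁ : AlgebraicCycle X ℤ) (hγ₀ : ⇑γ₀ = Cyc.sheafFun δ k (ShortComplex.mk φ ψ hφψ).homology)
    (hγ₁ : ⇑γ₁ = Cyc.sheafFun δ k (ShortComplex.mk ψ φ hψφ).homology) : Cyc.RatEquiv δ k γ₀ γ₁ := by
  classical
  let I := {ξ : X // δ ξ = k + 1 ∧ Nontrivial (F.presheaf.stalk ξ)}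
  choose f hf0 hf using fun i : I => exists_data_stalk φ ψ hd hF hφψ hψφ h0 h1 i.2.1
  have hS : LFPts {ξ : X | δ ξ = k + 1 ∧ Nontrivial (F.presheaf.stalk ξ)} :=
    (lfPts_sheafFun hd hF).mono fun ξ hξ => (nontrivial_iff_sheafFun hd hF).2 hξ
  refine ⟨I, fun i => i.1, f, fun i => i.2.1, hf0, fun x => ?_, fun x => ?_⟩
  · obtain ⟨U, hxU, hU⟩ := hS x
    refine ⟨U, U.2, hxU, ?_⟩
    refine (hU.preimage (f := fun i : I => i.1) Subtype.val_injective.injOn).subset ?_
    rintro i ⟨y, hy, hyU⟩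
    exact ⟨i.2, (specializes_iff_mem_closure.2 hy).mem_open U.2 hyU⟩
  show γ₀ x - γ₁ x = _
  rw [hγ₀, hγ₁]
  by_cases hxk : δ x = k
  swap
  · rw [Cyc.sheafFun, Cyc.sheafFun, if_neg hxk, if_neg hxk, sub_zero]
    refine (finsum_eq_zero_of_forall_eq_zero fun i => CycLib.divFun_eq_zero_of_delta δ _ ?_).symm
    have := i.2.1
    omega
  obtain ⟨U, hxU, hU⟩ := hS x
  let J := {i : I // i.1 ⤳ x}
  haveI : Finite J := by
    have := hU.to_subtype
    refine Finite.of_injective (fun j : J => (⟨j.1.1, j.1.2, j.2.mem_open U.2 hxU⟩ :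
      ↥({ξ : X | δ ξ = k + 1 ∧ Nontrivial (F.presheaf.stalk ξ)} ∩ (U : Set X)))) ?_
    intro p p' hp
    have := congrArg Subtype.val hp
    exact Subtype.ext (Subtype.ext this)
  letI := Fintype.ofFinite J
  haveI : Module.Finite (X.presheaf.stalk x) (F.presheaf.stalk x) := QCoh.finite_stalk_of_isFT hF.1.1 hF.1.2 x
  haveI : IsNoetherian (X.presheaf.stalk x) (F.presheaf.stalk x) :=
    isNoetherian_of_isNoetherianRing_of_finite _ _
  have hsum : ∑ᶠ i, Cyc.divFun δ (i : I).1 (f i) x = ∑ j : J, Cyc.divFun δ j.1.1 (f j.1) x := by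
    rw [finsum_eq_sum_of_support_subset _ (s := (Finset.univ : Finset J).map ⟨Subtype.val, Subtype.val_injective⟩)
      ?_, Finset.sum_map]
    · rfl
    · intro i hi
      have hix : (i : I).1 ⤳ x := by
        by_contra hn
        exact hi (CycLib.divFun_eq_zero_of_not_specializes δ _ hn)
      exact Finset.mem_coe.2 (Finset.mem_map.2 ⟨⟨i, hix⟩, Finset.mem_univ _, rfl⟩)
  obtain ⟨e₀⟩ := exists_perH_stalk φ ψ hφψ x
  obtain ⟨e₁⟩ := exists_perH_stalk ψ φ hψφ x
  -- homology at `x` has finite length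
  have hfl : ∀ (θ θ' : F ⟶ F) (hθ : θ ≫ θ' = 0),
      (∀ y : X, Nontrivial ((ShortComplex.mk θ θ' hθ).homology.presheaf.stalk y) → δ y ≤ k) →
      Module.length (X.presheaf.stalk x) (CycAlg.perH (stk θ' x) (stk θ x)) < ⊤ := by
    intro θ θ' hθ hsupp
    refine PeriodicLocal.length_lt_top_of_torsion fun p hp z => ?_
    obtain ⟨y, hyx, hy⟩ := exists_point p.asIdeal
    have hne : y ≠ x := fun he => hp (PrimeSpectrum.ext (by
      subst he
      rw [← hy]
      ext t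
      rw [mem_primeOf, TopCat.Presheaf.stalkSpecializes_refl]
      exact (IsLocalRing.mem_maximalIdeal t).symm))
    have hlt := CycLib.delta_lt hd hyx hne
    have hr := range_eq_ker_of_subsingleton θ θ' hθ fun hn => by have := hsupp y hn; omega
    obtain ⟨⟨t, ht⟩, rfl⟩ := Submodule.mkQ_surjective _ z
    have ht' : F.presheaf.stalkSpecializes hyx t ∈ LinearMap.range (stk θ y) := by
      rw [hr, LinearMap.mem_ker, ← stk_specializes, LinearMap.mem_ker.mp ht, map_zero]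
    obtain ⟨w, hw⟩ := ht'
    obtain ⟨m, s, hs, hm⟩ := exists_lift_stalk hF.1.1 hyx w
    have h2 : F.presheaf.stalkSpecializes hyx (s • t - stk θ x m) = 0 := by
      rw [map_sub, ZeroSec.stalkSpecializes_smul, stk_specializes, ← hm, map_smul, hw, sub_self]
    obtain ⟨c, hc, hcz⟩ := exists_smul_eq_zero_stalk hF.1.1 hyx h2
    refine ⟨c * s, fun hmem => ?_, ?_⟩
    · rw [← hy] at hmem
      rcases (primeOf hyx).2.mem_or_mem hmem with h' | h'
      · exact hc h'
      · exact (mem_primeOf hyx s).1 h' hs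
    · rw [← map_smul, Submodule.mkQ_apply, Submodule.Quotient.mk_eq_zero]
      refine ⟨c • m, ?_⟩
      show stk θ x (c • m) = (c * s) • t
      rw [map_smul, mul_smul, ← sub_eq_zero, ← smul_sub, ← neg_sub, smul_neg, hcz, neg_zero]
  have hfin : CycAlg.FinCoh (X.presheaf.stalk x) (stk ψ x) (stk φ x) := ⟨hfl φ ψ hφψ h0, hfl ψ φ hψφ h1⟩
  have hper : CycAlg.IsPeriodic (stk ψ x) (stk φ x) :=
    ⟨LinearMap.ext fun t => by rw [LinearMap.comp_apply, ← stk_comp, hφψ, stk_zero, LinearMap.zero_apply],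
      LinearMap.ext fun t => by rw [LinearMap.comp_apply, ← stk_comp, hψφ, stk_zero, LinearMap.zero_apply]⟩
  have hmax : ∀ {y : X} (hy : y ⤳ x) (p : PrimeSpectrum (X.presheaf.stalk x)),
      p ≠ closedPoint _ → (primeOf hy).asIdeal = p.asIdeal → δ x < δ y := by
    intro y hy p hp he
    refine CycLib.delta_lt hd hy fun e => hp (PrimeSpectrum.ext ?_)
    subst e
    rw [← he]
    ext t
    rw [mem_primeOf, TopCat.Presheaf.stalkSpecializes_refl]
    exact (IsLocalRing.mem_maximalIdeal t).symm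
  have hloc : ∀ z : F.presheaf.stalk x, (∀ j : J, z ∈ spKer F j.2) → ∀ p : PrimeSpectrum (X.presheaf.stalk x),
      p ≠ closedPoint _ → ∃ s : X.presheaf.stalk x, s ∉ p.asIdeal ∧ s • z = 0 := by
    intro z hz p hp
    obtain ⟨y, hyx, hy⟩ := exists_point p.asIdeal
    have hlt := hmax hyx p hp hy
    have hz0 : F.presheaf.stalkSpecializes hyx z = 0 := by
      by_cases hn : Nontrivial (F.presheaf.stalk y)
      · have hle := hF.2 y hn
        exact hz ⟨⟨y, by omega, hn⟩, hyx⟩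
      · haveI := not_nontrivial_iff_subsingleton.mp hn
        exact Subsingleton.elim (α := F.presheaf.stalk y) _ _
    obtain ⟨s, hs, hsz⟩ := exists_smul_eq_zero_stalk hF.1.1 hyx hz0
    exact ⟨s, hy ▸ hs, hsz⟩
  have hsep : ∀ (j : J) (p : PrimeSpectrum (X.presheaf.stalk x)), p ≠ closedPoint _ → p ≠ primeOf j.2 →
      ∃ s : X.presheaf.stalk x, s ∉ p.asIdeal ∧ ∀ z : F.presheaf.stalk x, s • z ∈ spKer F j.2 := by
    intro j p hp hpj
    obtain ⟨y, hyx, hy⟩ := exists_point p.asIdeal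
    have hnle : ¬ (primeOf j.2).asIdeal ≤ p.asIdeal := fun hle => by
      rw [← hy] at hle
      have hsp := (primeOf_le_iff hyx j.2).1 hle
      have h1 := hmax hyx p hp hy
      rcases eq_or_ne j.1.1 y with e | e
      · subst e
        exact hpj (PrimeSpectrum.ext hy.symm)
      · have := CycLib.delta_lt hd hsp e
        have := j.1.2.1
        omega
    obtain ⟨t, htq, htp⟩ := Set.not_subset.mp hnle
    obtain ⟨n, hn⟩ := ENat.ne_top_iff_exists.mp (length_lt_top hd hF j.1.2.1).ne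
    refine ⟨t ^ n, fun hmem => htp (p.2.mem_of_pow_mem n hmem), fun z => ?_⟩
    show F.presheaf.stalkSpecializes j.2 (t ^ n • z) = 0
    rw [ZeroSec.stalkSpecializes_smul, map_pow]
    exact PeriodicLocal.pow_smul_eq_zero hn.symm ((mem_maximalIdeal _).mpr ((mem_primeOf j.2 t).1 htq)) _
  have hinj : Function.Injective fun j : J => primeOf j.2 := by
    intro p p' he
    exact Subtype.ext (Subtype.ext (primeOf_inj p.2 p'.2 (congrArg PrimeSpectrum.asIdeal he)))
  obtain ⟨hfinN, heq⟩ := PeriodicLocal.herbrand_eq_sum (ι := J) (stk ψ x) (stk φ x) hper hfin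
    (fun j => spKer F j.2) (fun j => primeOf j.2) (fun j => spKer_le_comap ψ j.2) (fun j => spKer_le_comap φ j.2)
    hloc hsep hinj
  rw [Cyc.sheafFun, Cyc.sheafFun, if_pos hxk, if_pos hxk, e₀.length_eq, e₁.length_eq]
  refine (heq.trans ?_).trans hsum.symm
  exact Finset.sum_congr rfl fun j _ =>
    herbrand_eq_divFun φ ψ hd hF hφψ hψφ j.2 (by have := j.1.2.1; omega) j.1.2.1 (hf j.1) (hfinN j)

end

end Groth.Agent.H23.PeriodicRat
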