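import Groth.Agent.KZ.Serre
import Groth.Agent.H23.PeriodicRat

/-! Periodic complexes from equalities of classes in `K₀` of a subcategory. -/

set_option autoImplicit false
set_option maxHeartbeats 400000
set_option backward.isDefEq.respectTransparency false
set_option backward.isDefEq.respectTransparency.types false

universe v u

open CategoryTheory CategoryTheory.Limits ZeroObject

namespace Groth.Agent.H23.K0Periodic

open Groth.Agent KZ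

section Abstract

variable {A : Type u} [Category.{v} A] [Abelian A] {P : ObjectProperty A}

/-- Heller's criterion in a subcategory closed under sums. -/
theorem exists_of_clSub_eq (h0 : P (0 : A)) (hbi : ∀ {X Y}, P X → P Y → P (X ⊞ Y)) {X Y : A} (hX : P X) (hY : P Y)
    (h : KZero.clSub P X = KZero.clSub P Y) :
    ∃ S T : ShortComplex A, S.ShortExact ∧ T.ShortExact ∧ P S.X₁ ∧ P S.X₂ ∧ P S.X₃ ∧ P T.X₁ ∧ P T.X₂ ∧ P T.X₃ ∧
      Nonempty (X ⊞ ((S.X₁ ⊞ S.X₃) ⊞ T.X₂) ≅ Y ⊞ (S.X₂ ⊞ (T.X₁ ⊞ T.X₃))) := by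
  classical
  let N : AddSubmonoid (IsoCls A) :=
    { carrier := {c | ∃ W, P W ∧ IsoCls.mk W = c}
      zero_mem' := ⟨0, h0, rfl⟩
      add_mem' := by
        rintro _ _ ⟨W, hW, rfl⟩ ⟨W', hW', rfl⟩
        exact ⟨W ⊞ W', hbi hW hW', rfl⟩ }
  let c : A → Algebra.GrothendieckAddGroup N := fun Z =>
    if hZ : P Z then Algebra.GrothendieckAddGroup.of (⟨IsoCls.mk Z, Z, hZ, rfl⟩ : N) else 0
  have hc : ∀ {Z W : A}, P Z → P W → c (Z ⊞ W) = c Z + c W := fun {Z W} hZ hW => by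
    simp only [c, dif_pos hZ, dif_pos hW, dif_pos (hbi hZ hW), ← map_add]
    rfl
  have hc0 : c 0 = 0 := by
    simp only [c, dif_pos h0]
    exact map_zero (Algebra.GrothendieckAddGroup.of (M := N))
  let δ : ShortComplex A → Algebra.GrothendieckAddGroup N := fun S => c S.X₂ - c S.X₁ - c S.X₃
  let good : ShortComplex A → Prop := fun S => S.ShortExact ∧ P S.X₁ ∧ P S.X₂ ∧ P S.X₃
  have hgood0 : good (ShortComplex.mk (𝟙 (0 : A)) (0 : (0 : A) ⟶ (0 : A)) comp_zero) :=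
    ⟨shortExact_zero, h0, h0, h0⟩
  have hgood : ∀ {S T}, good S → good T → good (scBiprod S T) ∧ δ (scBiprod S T) = δ S + δ T := by
    rintro S T ⟨hS, a1, a2, a3⟩ ⟨hT, b1, b2, b3⟩
    refine ⟨⟨scBiprod_shortExact hS hT, hbi a1 b1, hbi a2 b2, hbi a3 b3⟩, ?_⟩
    simp only [δ, scBiprod, hc a1 b1, hc a2 b2, hc a3 b3]
    abel
  let H : AddSubgroup (Algebra.GrothendieckAddGroup N) :=
    { carrier := {z | ∃ S T : ShortComplex A, good S ∧ good T ∧ z = δ S - δ T}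
      zero_mem' := ⟨_, _, hgood0, hgood0, (sub_self _).symm⟩
      add_mem' := by
        rintro _ _ ⟨S, T, hS, hT, rfl⟩ ⟨S', T', hS', hT', rfl⟩
        exact ⟨scBiprod S S', scBiprod T T', (hgood hS hS').1, (hgood hT hT').1,
          by rw [(hgood hS hS').2, (hgood hT hT').2]; abel⟩
      neg_mem' := by
        rintro _ ⟨S, T, hS, hT, rfl⟩
        exact ⟨T, S, hT, hS, by abel⟩ }
  obtain ⟨f, hf⟩ := exists_liftSub P (fun Z : A => QuotientAddGroup.mk' H (c Z))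
    (fun S hS a1 a2 a3 => by
      rw [← map_add, ← sub_eq_zero, ← map_sub, QuotientAddGroup.mk'_apply, QuotientAddGroup.eq_zero_iff]
      refine ⟨S, _, ⟨hS, a1, a2, a3⟩, hgood0, ?_⟩
      simp [δ, hc0]
      abel)
  have := congrArg f h
  rw [hf X hX, hf Y hY, ← sub_eq_zero, ← map_sub, QuotientAddGroup.mk'_apply,
    QuotientAddGroup.eq_zero_iff] at this
  obtain ⟨S, T, ⟨hS, a1, a2, a3⟩, ⟨hT, b1, b2, b3⟩, he⟩ := this
  have key : c (X ⊞ ((S.X₁ ⊞ S.X₃) ⊞ T.X₂)) = c (Y ⊞ (S.X₂ ⊞ (T.X₁ ⊞ T.X₃))) := by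
    rw [hc hX (hbi (hbi a1 a3) b2), hc (hbi a1 a3) b2, hc a1 a3, hc hY (hbi a2 (hbi b1 b3)),
      hc a2 (hbi b1 b3), hc b1 b3]
    simp only [δ] at he
    rw [← sub_eq_zero] at he ⊢
    rw [← he]
    abel
  simp only [c, dif_pos (hbi hX (hbi (hbi a1 a3) b2)), dif_pos (hbi hY (hbi a2 (hbi b1 b3)))] at key
  obtain ⟨w, hW'⟩ := (AddLocalization.addMonoidOf (⊤ : AddSubmonoid N)).eq_iff_exists.1 key
  obtain ⟨W, hW, hWw⟩ := w.1.2
  have hW'' := congrArg Subtype.val hW'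
  rw [AddSubmonoid.coe_add, AddSubmonoid.coe_add, ← hWw] at hW''
  have e : IsoCls.mk W + IsoCls.mk (X ⊞ ((S.X₁ ⊞ S.X₃) ⊞ T.X₂)) =
      IsoCls.mk W + IsoCls.mk (Y ⊞ (S.X₂ ⊞ (T.X₁ ⊞ T.X₃))) := hW''
  let S' := scBiprod (ShortComplex.mk (𝟙 W) (0 : W ⟶ (0 : A)) comp_zero) S
  refine ⟨S', T, scBiprod_shortExact (shortExact_id W) hS, hT, hbi hW a1, hbi hW a2, hbi h0 a3, b1, b2, b3,
    IsoCls.mk_eq_iff.1 ?_⟩
  simp only [S', scBiprod, ← IsoCls.mk_add] at e ⊢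
  change IsoCls.mk X + (IsoCls.mk W + IsoCls.mk S.X₁ + (0 + IsoCls.mk S.X₃) + IsoCls.mk T.X₂) =
    IsoCls.mk Y + (IsoCls.mk W + IsoCls.mk S.X₂ + (IsoCls.mk T.X₁ + IsoCls.mk T.X₃))
  rw [zero_add]
  convert e using 1 <;> abel

theorem exists_periodic (h0 : P (0 : A)) (hbi : ∀ {X Y}, P X → P Y → P (X ⊞ Y)) {a b : A} (ha : P a) (hb : P b)
    (h : KZero.clSub P a = KZero.clSub P b) :
    ∃ (M : A) (φ ψ : M ⟶ M) (h₁ : φ ≫ ψ = 0) (h₂ : ψ ≫ φ = 0), P M ∧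
      Nonempty ((ShortComplex.mk φ ψ h₁).homology ≅ b) ∧
      Nonempty ((ShortComplex.mk ψ φ h₂).homology ≅ a) := by
  obtain ⟨S, T, hS, hT, pS₁, -, pS₃, -, pT₂, -, ⟨θ⟩⟩ := exists_of_clSub_eq h0 hbi ha hb h
  let f : ((S.X₁ ⊞ S.X₃) ⊞ T.X₂) ⟶ (S.X₂ ⊞ (T.X₁ ⊞ T.X₃)) := biprod.desc (biprod.fst ≫ S.f ≫ biprod.inl)
    (T.g ≫ biprod.inr ≫ biprod.inr)
  let g : (S.X₂ ⊞ (T.X₁ ⊞ T.X₃)) ⟶ ((S.X₁ ⊞ S.X₃) ⊞ T.X₂) := biprod.desc (S.g ≫ biprod.inr ≫ biprod.inl)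
    (biprod.fst ≫ T.f ≫ biprod.inr)
  have hfg : f ≫ g = 0 := by ext <;> simp [f, g]
  have hgf : g ≫ f = 0 := by ext <;> simp [f, g]
  have := hS.mono_f; have := hT.mono_f; have := hS.epi_g; have := hT.epi_g
  have hex1 : (ShortComplex.mk f g hfg).Exact := by
    rw [ShortComplex.exact_iff_exact_up_to_refinements]
    intro W x hx
    change W ⟶ (S.X₂ ⊞ (T.X₁ ⊞ T.X₃)) at x
    change x ≫ g = 0 at hx
    have h1 : (x ≫ biprod.fst) ≫ S.g = 0 := by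
      simpa [g, biprod.desc_eq, Preadditive.add_comp, Preadditive.comp_add] using hx =≫ (biprod.fst ≫ biprod.snd)
    have h2 : x ≫ biprod.snd ≫ biprod.fst = 0 := by
      rw [← cancel_mono T.f]
      simpa [g, biprod.desc_eq, Preadditive.add_comp, Preadditive.comp_add] using hx =≫ biprod.snd
    obtain ⟨W', π, hπ, y, hy⟩ := surjective_up_to_refinements_of_epi T.g
      (x ≫ biprod.snd ≫ biprod.snd)
    refine ⟨W', π, hπ, biprod.lift (biprod.lift (π ≫ hS.exact.lift _ h1) 0) y, ?_⟩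
    dsimp
    refine biprod.hom_ext _ _ ?_ (biprod.hom_ext _ _ ?_ ?_)
    · simp [f]
    · simp [f, h2]
    · simp [f, hy]
  have hex2 : (ShortComplex.mk g f hgf).Exact := by
    rw [ShortComplex.exact_iff_exact_up_to_refinements]
    intro W x hx
    change W ⟶ ((S.X₁ ⊞ S.X₃) ⊞ T.X₂) at x
    change x ≫ f = 0 at hx
    have h1 : x ≫ biprod.fst ≫ biprod.fst = 0 := by
      rw [← cancel_mono S.f]
      simpa [f, biprod.desc_eq, Preadditive.add_comp, Preadditive.comp_add] using hx =≫ biprod.fst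
    have h2 : (x ≫ biprod.snd) ≫ T.g = 0 := by
      simpa [f, biprod.desc_eq, Preadditive.add_comp, Preadditive.comp_add] using hx =≫ (biprod.snd ≫ biprod.snd)
    obtain ⟨W', π, hπ, y, hy⟩ := surjective_up_to_refinements_of_epi S.g
      (x ≫ biprod.fst ≫ biprod.snd)
    refine ⟨W', π, hπ, biprod.lift y (biprod.lift (π ≫ hT.exact.lift _ h2) 0), ?_⟩
    dsimp
    refine biprod.hom_ext _ _ (biprod.hom_ext _ _ ?_ ?_) ?_
    · simp [g, h1]
    · simp [g, hy]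
    · simp [g]
  let p : a ⊞ ((S.X₁ ⊞ S.X₃) ⊞ T.X₂) ⟶ b ⊞ (S.X₂ ⊞ (T.X₁ ⊞ T.X₃)) := biprod.snd ≫ f ≫ biprod.inr
  let q : b ⊞ (S.X₂ ⊞ (T.X₁ ⊞ T.X₃)) ⟶ a ⊞ ((S.X₁ ⊞ S.X₃) ⊞ T.X₂) := biprod.snd ≫ g ≫ biprod.inr
  have wpq : p ≫ q = 0 := by simp [p, q, reassoc_of% hfg]
  have wqp : q ≫ p = 0 := by simp [p, q, reassoc_of% hgf]
  obtain ⟨eb⟩ := KZ.homology_biprod_zero (a := b) (b := a) (c := a) f g hfg hex1 p q rfl rfl wpq
  obtain ⟨ea⟩ := KZ.homology_biprod_zero (a := a) (b := b) (c := b) g f hgf hex2 q p rfl rfl wqp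
  have h₁ : (p ≫ θ.inv) ≫ θ.hom ≫ q = 0 := by simp [wpq]
  have h₂ : (θ.hom ≫ q) ≫ p ≫ θ.inv = 0 := by simp [reassoc_of% wqp]
  have i1 : ShortComplex.mk (p ≫ θ.inv) (θ.hom ≫ q) h₁ ≅ ShortComplex.mk p q wpq :=
    ShortComplex.isoMk (Iso.refl _) θ (Iso.refl _) (by simp) (by simp)
  have i2 : ShortComplex.mk (θ.hom ≫ q) (p ≫ θ.inv) h₂ ≅ ShortComplex.mk q p wqp :=
    ShortComplex.isoMk θ (Iso.refl _) θ (by simp) (by simp)
  exact ⟨_, p ≫ θ.inv, θ.hom ≫ q, h₁, h₂, hbi ha (hbi (hbi pS₁ pS₃) pT₂), ⟨ShortComplex.homologyMapIso i1 ≪≫ eb⟩,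
    ⟨ShortComplex.homologyMapIso i2 ≪≫ ea⟩⟩

end Abstract

section Coherent

open AlgebraicGeometry LocFinCoprod K0Swindle CycleClassK

variable {X : Scheme.{u}} [IsLocallyNoetherian X] {δ : X → ℤ}

theorem cohLe_biprod {a : ℤ} {A B : X.Modules} (hA : Cyc.CohLe δ a A) (hB : Cyc.CohLe δ a B) :
    Cyc.CohLe δ a (A ⊞ B) := by
  have hP := cohClosed_cohLe δ a
  have hs := (ShortComplex.Splitting.ofHasBinaryBiproduct A B).shortExact
  let T : ULift.{u} Bool → X.Modules := fun c => bif c.down then A else B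
  let g : ∐ T ⟶ A ⊞ B := Sigma.desc fun c => match c with
    | ⟨true⟩ => biprod.inl
    | ⟨false⟩ => biprod.inr
  have : Epi g := ⟨fun f f' h => biprod.hom_ext' _ _
    ((Sigma.ι_desc_assoc (f := T) _ ⟨true⟩ f).symm.trans
      ((Sigma.ι T ⟨true⟩ ≫= h).trans (Sigma.ι_desc_assoc (f := T) _ ⟨true⟩ f')))
    ((Sigma.ι_desc_assoc (f := T) _ ⟨false⟩ f).symm.trans
      ((Sigma.ι T ⟨false⟩ ≫= h).trans (Sigma.ι_desc_assoc (f := T) _ ⟨false⟩ f')))⟩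
  exact hP.quot g (QCoh.isQCoh_X₂ hs hA.1.1 hB.1.1) (hP.sigma (lf_of_finite T) fun c => by
    rcases c with ⟨_ | _⟩
    · exact hB
    · exact hA)

theorem clSub_biprod {a : ℤ} {A B : X.Modules} (hA : Cyc.CohLe δ a A) (hB : Cyc.CohLe δ a B) :
    KZero.clSub (Cyc.CohLe δ a) (A ⊞ B) =
      KZero.clSub (Cyc.CohLe δ a) A + KZero.clSub (Cyc.CohLe δ a) B :=
  KZ.clSub_ses _ (ShortComplex.Splitting.ofHasBinaryBiproduct A B).shortExact hA (cohLe_biprod hA hB) hB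

/-- An element killed in the quotient is a difference of classes of small modules. -/
theorem exists_small {a b : ℤ} (hba : b ≤ a) {z : KZero.K0sub (Cyc.CohLe δ a)}
    (hz : z ∈ AddSubgroup.closure {c | ∃ F : X.Modules, Cyc.CohLe δ b F ∧ c = KZero.clSub (Cyc.CohLe δ a) F}) :
    ∃ S T : X.Modules, Cyc.CohLe δ b S ∧ Cyc.CohLe δ b T ∧
      z = KZero.clSub (Cyc.CohLe δ a) S - KZero.clSub (Cyc.CohLe δ a) T := by
  obtain ⟨O, hO, hOb⟩ := (cohClosed_cohLe δ b).exists_zero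
  induction hz using AddSubgroup.closure_induction with
  | mem z hz =>
    obtain ⟨F, hF, rfl⟩ := hz
    exact ⟨F, O, hF, hOb, by rw [KZ.clSub_isZero _ hO, sub_zero]⟩
  | zero => exact ⟨O, O, hOb, hOb, by rw [sub_self]⟩
  | add z w _ _ ih ih' =>
    obtain ⟨S, T, hS, hT, rfl⟩ := ih
    obtain ⟨S', T', hS', hT', rfl⟩ := ih'
    refine ⟨S ⊞ S', T ⊞ T', cohLe_biprod hS hS', cohLe_biprod hT hT', ?_⟩
    rw [clSub_biprod (cohLe_mono hba hS) (cohLe_mono hba hS'), clSub_biprod (cohLe_mono hba hT) (cohLe_mono hba hT')]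
    abel
  | neg z _ ih =>
    obtain ⟨S, T, hS, hT, rfl⟩ := ih
    exact ⟨T, S, hT, hS, by abel⟩

/-- A cycle with class zero in `K₀(Coh_{≤k+1}/Coh_{≤k-1})` is rationally equivalent to zero. -/
theorem ratEquivZero_of_tK (hd : Cyc.IsDimFun X δ) {k : ℤ} (α : AlgebraicCycle X ℤ) (hα : α ∈ Cyc.Zk X δ k)
    (h : Cyc.toK0CohQuot δ (k + 1) (k - 1) (Cyc.cycleSheafPos ⇑α) =
      Cyc.toK0CohQuot δ (k + 1) (k - 1) (Cyc.cycleSheafNeg ⇑α)) : Cyc.RatEquivZero δ k α := by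
  classical
  set P := Cyc.cycleSheafPos ⇑α
  set N := Cyc.cycleSheafNeg ⇑α
  obtain ⟨hP, hN⟩ := cohLe_cyclePosNeg hd α hα
  have hk1 : k ≤ k + 1 := by omega
  have hz := (QuotientAddGroup.eq_iff_sub_mem).1 h
  obtain ⟨S, T, hS, hT, hST⟩ := exists_small (by omega) hz
  have hS' : Cyc.CohLe δ k S := cohLe_mono (by omega) hS
  have hT' : Cyc.CohLe δ k T := cohLe_mono (by omega) hT
  have hPT := cohLe_biprod hP hT'
  have hNS := cohLe_biprod hN hS'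
  have hcl : KZero.clSub (Cyc.CohLe δ (k + 1)) (P ⊞ T) = KZero.clSub (Cyc.CohLe δ (k + 1)) (N ⊞ S) := by
    rw [clSub_biprod (cohLe_mono hk1 hP) (cohLe_mono hk1 hT'), clSub_biprod (cohLe_mono hk1 hN) (cohLe_mono hk1 hS'),
      ← sub_eq_zero]
    rw [← sub_eq_zero] at hST
    rw [← hST]
    abel
  obtain ⟨M, φ, ψ, h₁, h₂, hM, ⟨eN⟩, ⟨eP⟩⟩ := exists_periodic
    ((cohClosed_cohLe δ (k + 1)).of_isZero (isZero_zero _)) (fun p q => cohLe_biprod p q)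
    (cohLe_mono hk1 hPT) (cohLe_mono hk1 hNS) hcl
  have hHP : Cyc.CohLe δ k (ShortComplex.mk ψ φ h₂).homology := (cohClosed_cohLe δ k).iso eP.symm hPT
  have hHN : Cyc.CohLe δ k (ShortComplex.mk φ ψ h₁).homology := (cohClosed_cohLe δ k).iso eN.symm hNS
  have hsmall : ∀ {F : X.Modules}, Cyc.CohLe δ (k - 1) F → Cyc.sheafFun δ k F = 0 := fun {F} hF => by
    funext x
    by_contra hne
    obtain ⟨hx, hn⟩ := nontrivial_of_sheafFun hne
    have := hF.2 x hn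
    omega
  have hsum : ∀ {H A B : X.Modules}, (H ≅ A ⊞ B) → Cyc.CohLe δ k A → Cyc.CohLe δ (k - 1) B →
      Cyc.sheafFun δ k H = Cyc.sheafFun δ k A := by
    intro H A B e hA hB
    have hB' : Cyc.CohLe δ k B := cohLe_mono (by omega) hB
    have hAB := cohLe_biprod hA hB'
    have hH : Cyc.CohLe δ k H := (cohClosed_cohLe δ k).iso e.symm hAB
    have es := CycLib.sheafFun_shortExact hd (ShortComplex.Splitting.ofHasBinaryBiproduct A B).shortExact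
      hA.1 hAB.1 hB'.1 hAB.2
    have ee := CycLib.sheafFun_shortExact hd (T := ShortComplex.mk (0 : (0 : X.Modules) ⟶ H) e.hom zero_comp)
      (KZ.shortExact_iso_zero e (isZero_zero _)) ((cohClosed_cohLe δ k).of_isZero (isZero_zero _)).1 hH.1 hAB.1 hH.2
    rw [hsmall ((cohClosed_cohLe δ (k - 1)).of_isZero (isZero_zero _)), zero_add] at ee
    rw [ee]
    exact es.trans (by rw [hsmall hB, add_zero])
  have hαk : ∀ x, α x ≠ 0 → δ x = k := fun x hx => by_contra fun hne => hx (hα x hne)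
  have fP : Cyc.sheafFun δ k (ShortComplex.mk ψ φ h₂).homology = fun x => max (α x) 0 := by
    rw [hsum eP hP hT]
    exact sheafFun_pos (⇑α) hd fun x hx => hαk x hx.ne'
  have fN : Cyc.sheafFun δ k (ShortComplex.mk φ ψ h₁).homology = fun x => max (-α x) 0 := by
    rw [hsum eN hN hS]
    exact sheafFun_pos (fun x => -α x) hd fun x hx => hαk x fun h0 => by simp [h0] at hx
  have hcyc : ∀ g : X → ℤ, (∀ x, α x = 0 → g x = 0) → ∃ γ : AlgebraicCycle X ℤ, ⇑γ = g := fun g hg =>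
    ⟨⟨g, Set.subset_univ _, fun z hz => by
      obtain ⟨t, ht, hf⟩ := α.supportLocallyFiniteWithinDomain z hz
      exact ⟨t, ht, hf.subset fun y hy => ⟨hy.1, fun h0 => hy.2 (hg y h0)⟩⟩⟩, rfl⟩
  obtain ⟨γP, hγP⟩ := hcyc (fun x => max (α x) 0) fun x hx => by simp [hx]
  obtain ⟨γN, hγN⟩ := hcyc (fun x => max (-α x) 0) fun x hx => by simp [hx]
  have key := PeriodicRat.ratEquiv_homology ψ φ hd hM h₂ h₁ (fun x hx => hHP.2 x hx) (fun x hx => hHN.2 x hx)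
    γP γN (hγP.trans fP.symm) (hγN.trans fN.symm)
  obtain ⟨I, ξ, f, e1, e2, e3, e4⟩ := key
  refine ⟨I, ξ, f, e1, e2, e3, fun x => ?_⟩
  rw [← e4 x]
  show α x = γP x - γN x
  rw [hγP, hγN]
  rcases le_total (α x) 0 with hx | hx
  · simp [max_eq_right hx, max_eq_left (neg_nonneg.2 hx)]
  · simp [max_eq_left hx, max_eq_right (neg_nonpos.2 hx)]

end Coherent

end Groth.Agent.H23.K0Periodic
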