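import Groth.Agent.H23.CycleClassK
import Groth.Agent.CycLib.RatSum

/-! Rational equivalence in `K₀(Coh_{≤k+1}/Coh_{≤k-1})`. -/

set_option autoImplicit false
set_option maxHeartbeats 400000
set_option backward.isDefEq.respectTransparency false
set_option backward.isDefEq.respectTransparency.types false

universe u

open CategoryTheory CategoryTheory.Limits AlgebraicGeometry TopologicalSpace Opposite

namespace Groth.Agent.H23.K0Rat

open Groth.Agent LocFinCoprod K0Swindle SkyPoint KFlatLib CycleClassK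

variable {X : Scheme.{u}}

section Alg

theorem relLen_restrictScalars {R A V : Type u} [CommRing R] [CommRing A] [AddCommGroup V] [Algebra R A]
    [Module R V] [Module A V] [IsScalarTower R A V] (h : Function.Surjective (algebraMap R A))
    (M N : Submodule A V) :
    IntThLib.relLen R (M.restrictScalars R) (N.restrictScalars R) = IntThLib.relLen A M N := by
  show Module.length R _ = Module.length A (↥M ⧸ N.submoduleOf M)
  rw [← Module.length_eq_of_surjective (S := R) (R := A) (M := ↥M ⧸ N.submoduleOf M) h]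
  exact (Submodule.Quotient.restrictScalarsEquiv R (N.submoduleOf M)).length_eq

/-- The order of a quotient as a difference of lengths in a lattice containing both generators. -/
theorem ord_eq_relLen {A K : Type u} [CommRing A] [IsDomain A] [IsNoetherianRing A] [Ring.KrullDimLE 1 A]
    [Field K] [Algebra A K] [IsFractionRing A K] (M : Submodule A K) [Submodule.IsLattice K M] {e f : K}
    (he : e ≠ 0) (hf : f ≠ 0) (heM : e ∈ M) (hfM : f ∈ M) :
    IntThLib.relLen A M (A ∙ e) ≠ ⊤ ∧ IntThLib.relLen A M (A ∙ f) ≠ ⊤ ∧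
      ((IntThLib.relLen A M (A ∙ f)).toNat : ℤ) - ((IntThLib.relLen A M (A ∙ e)).toNat : ℤ) =
        CycAlg.ordFrac A K (f / e) := by
  have hspan : ∀ {g : K}, g ≠ 0 → Submodule.IsLattice K (A ∙ g) := fun {g} hg =>
    ⟨Submodule.fg_span_singleton g, eq_top_iff.2 fun x _ => by
      have h : (x / g) • g ∈ Submodule.span K ((A ∙ g : Submodule A K) : Set K) :=
        Submodule.smul_mem _ _ (Submodule.subset_span (Submodule.mem_span_singleton_self g))
      rwa [smul_eq_mul, div_mul_cancel₀ x hg] at h⟩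
  haveI := hspan he
  haveI := hspan hf
  have le : ∀ {g : K}, g ∈ M → (A ∙ g) ≤ M := fun hg => (Submodule.span_singleton_le_iff_mem _ _).2 hg
  refine ⟨IntThLib.relLen_lattice_ne_top (K := K) Submodule.IsLattice.fg,
    IntThLib.relLen_lattice_ne_top (K := K) Submodule.IsLattice.fg, ?_⟩
  have hdet : LinearMap.det ((f / e) • (LinearMap.id : K →ₗ[K] K)) = f / e := by
    rw [LinearMap.det_smul, Module.finrank_self, pow_one, LinearMap.det_id, mul_one]
  have key := IntThLib.dist_map_eq_ordFrac_det (K := K) (A ∙ e) ((f / e) • LinearMap.id)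
    (by rw [hdet]; exact div_ne_zero hf he)
  rw [hdet, Submodule.map_span, Set.image_singleton] at key
  rw [show (((f / e) • (LinearMap.id : K →ₗ[K] K)).restrictScalars A) e = f from div_mul_cancel₀ f he] at key
  have h2 := IntThLib.dist_add (K := K) M (A ∙ e) (A ∙ f)
  rw [key, IntThLib.dist_of_le (le hfM), IntThLib.dist_of_le (le heM)] at h2
  omega

end Alg

theorem length_coker_stalk {T : ShortComplex X.Modules} (hT : T.ShortExact) (h₁ : Coh.IsQCoh T.X₁)
    (h₂ : Coh.IsQCoh T.X₂) (h₃ : Coh.IsQCoh T.X₃) (x : X) {V : Type u} [AddCommGroup V]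
    [Module (X.presheaf.stalk x) V] (Φ : T.X₂.presheaf.stalk x →ₗ[X.presheaf.stalk x] V)
    (hΦ : Function.Injective Φ) :
    Module.length (X.presheaf.stalk x) (T.X₃.presheaf.stalk x) =
      IntThLib.relLen (X.presheaf.stalk x) (LinearMap.range Φ) (LinearMap.range (Φ ∘ₗ stk T.f x)) := by
  obtain ⟨-, he, hs⟩ := CycLib.stalk_shortExact hT h₁ h₂ h₃ x
  have hs' : Function.Surjective (stk T.g x) := fun t => by
    obtain ⟨U, hU, hx, n, rfl⟩ := CycLib.exists_germ_affine T.X₃ t
    obtain ⟨b, hb⟩ := hs (T.X₃.presheaf.germ U x hx n)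
    exact ⟨b, hb⟩
  let e := LinearEquiv.ofInjective Φ hΦ
  let g : LinearMap.range Φ →ₗ[X.presheaf.stalk x] T.X₃.presheaf.stalk x := stk T.g x ∘ₗ e.symm.toLinearMap
  have hker : LinearMap.ker g =
      (LinearMap.range (Φ ∘ₗ stk T.f x)).submoduleOf (LinearMap.range Φ) := by
    ext v
    obtain ⟨w, rfl⟩ := e.surjective v
    simp only [g, LinearMap.mem_ker, LinearMap.comp_apply, LinearEquiv.coe_coe, LinearEquiv.symm_apply_apply,
      Submodule.submoduleOf, Submodule.mem_comap, Submodule.subtype_apply, LinearMap.mem_range]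
    constructor
    · intro h
      obtain ⟨a, ha⟩ := (he w).1 h
      exact ⟨a, (congrArg Φ ha).trans rfl⟩
    · rintro ⟨a, ha⟩
      exact (he w).2 ⟨a, hΦ ha⟩
  show _ = Module.length _ (↥(LinearMap.range Φ) ⧸ _)
  rw [← hker]
  exact (g.quotKerEquivOfSurjective (hs'.comp e.symm.surjective)).length_eq.symm

/-- The residue field at a point as a module over the local ring. -/
noncomputable abbrev kmod (ξ : X) : ModuleCat.{u} (X.presheaf.stalk ξ) :=
  ModuleCat.of (X.presheaf.stalk ξ) (IsLocalRing.ResidueField (X.presheaf.stalk ξ))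

theorem kmod_killed (ξ : X) : ∀ a ∈ IsLocalRing.maximalIdeal (X.presheaf.stalk ξ),
    ∀ v : kmod ξ, a • v = 0 := fun a ha v => by
  show a • (v : IsLocalRing.ResidueField (X.presheaf.stalk ξ)) = 0
  rw [Algebra.smul_def]
  exact mul_eq_zero_of_left (Ideal.Quotient.eq_zero_iff_mem.2 ha) _

theorem kmod_smul {ξ : X} (a : X.presheaf.stalk ξ) (v : kmod ξ) :
    a • v = (show X.residueField ξ from X.residue ξ a * (show X.residueField ξ from v)) :=
  Algebra.smul_def a (v : IsLocalRing.ResidueField (X.presheaf.stalk ξ))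

variable [IsLocallyNoetherian X] {δ : X → ℤ}

/-- A pair of modules realizing a principal divisor. -/
theorem exists_pair (hd : Cyc.IsDimFun X δ) (ξ : X) {f : X.residueField ξ} (hf : f ≠ 0) :
    ∃ (M : X.Modules) (a b : Cyc.closureStructureSheaf ξ ⟶ M), Mono a ∧ Mono b ∧ Coh.IsCoh M ∧
      (∀ x, Nontrivial (M.presheaf.stalk x) → ξ ⤳ x) ∧
      (Function.Surjective (stk a ξ) ∧ Function.Surjective (stk b ξ)) ∧
      ∀ x, ξ ⤳ x → δ x + 1 = δ ξ →
        ((Module.length (X.presheaf.stalk x) ((cokernel b).presheaf.stalk x)).toNat : ℤ) -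
          ((Module.length (X.presheaf.stalk x) ((cokernel a).presheaf.stalk x)).toNat : ℤ) =
            Cyc.divFun δ ξ f x := by
  obtain ⟨φ₁, hφ₁⟩ := exists_vecLin (kmod ξ) (1 : IsLocalRing.ResidueField (X.presheaf.stalk ξ))
    fun a ha => kmod_killed ξ a ha _
  obtain ⟨φ₂, hφ₂⟩ := exists_vecLin (kmod ξ) (show IsLocalRing.ResidueField (X.presheaf.stalk ξ) from f)
    fun a ha => kmod_killed ξ a ha _
  let O := Cyc.closureStructureSheaf ξ
  let T : ULift.{u} Bool → X.Modules := fun _ => O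
  let θ : ∐ T ⟶ (sky ξ).obj (kmod ξ) := Sigma.desc fun c => bif c.down then toSky φ₁ else toSky φ₂
  let ιM := Abelian.image.ι θ
  let a : O ⟶ Abelian.image θ := Sigma.ι T ⟨true⟩ ≫ Abelian.factorThruImage θ
  let b : O ⟶ Abelian.image θ := Sigma.ι T ⟨false⟩ ≫ Abelian.factorThruImage θ
  have ea : a ≫ ιM = toSky φ₁ := by simp [a, ιM, θ]
  have eb : b ≫ ιM = toSky φ₂ := by simp [b, ιM, θ]
  haveI : Mono (toSky φ₁) := mono_toSky φ₁ (by rw [hφ₁]; exact one_ne_zero)
  haveI : Mono (toSky φ₂) := mono_toSky φ₂ (by rw [hφ₂]; exact hf)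
  haveI ma : Mono a := mono_of_mono_fac ea
  haveI mb : Mono b := mono_of_mono_fac eb
  have hO : Coh.IsCoh O := isCoh_closure ξ
  have hM : Coh.IsCoh (Abelian.image θ) := isCoh_of_epi_image θ (isCoh_coprod (lf_of_finite T) fun _ => hO)
    (isQCoh_sky_of_killed (kmod_killed ξ))
  have hsurj : ∀ (g : O ⟶ Abelian.image θ) (φ : O.presheaf.stalk ξ →ₗ[X.presheaf.stalk ξ] kmod ξ),
      g ≫ ιM = toSky φ → (show X.residueField ξ from φ (gen ξ ξ)) ≠ 0 → Function.Surjective (stk g ξ) := by
    intro g φ e hne m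
    obtain ⟨r, hr⟩ := X.residue_surjective ξ
      ((show X.residueField ξ from evalAt (specializes_refl ξ) (kmod ξ) (stk ιM ξ m)) /
        (show X.residueField ξ from φ (gen ξ ξ)))
    refine ⟨r • gen ξ ξ, stk_injective_of_mono ιM ξ (evalAt_injective (specializes_refl ξ) ?_)⟩
    rw [← stk_comp, e, evalAt_toSky_gen, TopCat.Presheaf.stalkSpecializes_refl]
    show r • φ (gen ξ ξ) = _
    rw [kmod_smul, hr, div_mul_cancel₀ _ hne]
  have hsa : Function.Surjective (stk a ξ) := hsurj a φ₁ ea (by rw [hφ₁]; exact one_ne_zero)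
  have hsb : Function.Surjective (stk b ξ) := hsurj b φ₂ eb (by rw [hφ₂]; exact hf)
  refine ⟨Abelian.image θ, a, b, ma, mb, hM,
    fun x hx => specializes_of_nontrivial_sky (nontrivial_of_mono ιM hx), ⟨hsa, hsb⟩, fun x h hx => ?_⟩
  rw [CycLib.divFun_eq δ f h hx]
  letI : Algebra (X.presheaf.stalk x) (X.residueField ξ) := (Cyc.specMap x ξ h).toAlgebra
  haveI : IsScalarTower (X.presheaf.stalk x) (Cyc.LocQuot x ξ h) (X.residueField ξ) :=
    IsScalarTower.of_algebraMap_eq fun _ => rfl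
  haveI := CycLib.krullDimLE_locQuot hd h hx
  let Φ : (Abelian.image θ).presheaf.stalk x →ₗ[X.presheaf.stalk x] X.residueField ξ :=
    { toFun := fun t => (show X.residueField ξ from evalAt h (kmod ξ) (stk ιM x t))
      map_add' := fun s t => by rw [map_add, map_add]
      map_smul' := fun r t => by
        rw [map_smul, evalAt_smul, kmod_smul, RingHom.id_apply, Algebra.smul_def]
        rfl }
  have hΦ : Function.Injective Φ := fun s t e => stk_injective_of_mono ιM x (evalAt_injective h e)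
  have hgen : ∀ (g : O ⟶ Abelian.image θ) (φ : O.presheaf.stalk ξ →ₗ[X.presheaf.stalk ξ] kmod ξ),
      g ≫ ιM = toSky φ → ∀ r : X.presheaf.stalk x,
      Φ (stk g x (r • gen ξ x)) = r • (show X.residueField ξ from φ (gen ξ ξ)) := by
    intro g φ e r
    show (show X.residueField ξ from evalAt h (kmod ξ) (stk ιM x (stk g x (r • gen ξ x)))) = _
    rw [← stk_comp, e, evalAt_toSky_gen, kmod_smul, Algebra.smul_def]
    rfl
  let A := Cyc.LocQuot x ξ h
  have hres : ∀ g : X.residueField ξ,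
      (A ∙ g).restrictScalars (X.presheaf.stalk x) = (X.presheaf.stalk x) ∙ g := fun g =>
    Submodule.restrictScalars_span _ A Ideal.Quotient.mk_surjective _
  have hrange : ∀ (g : O ⟶ Abelian.image θ) (φ : O.presheaf.stalk ξ →ₗ[X.presheaf.stalk ξ] kmod ξ),
      g ≫ ιM = toSky φ → LinearMap.range (Φ ∘ₗ stk g x) =
        (A ∙ (show X.residueField ξ from φ (gen ξ ξ))).restrictScalars (X.presheaf.stalk x) := by
    intro g φ e
    rw [hres]
    ext v
    rw [Submodule.mem_span_singleton, LinearMap.mem_range]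
    constructor
    · rintro ⟨t, rfl⟩
      obtain ⟨r, rfl⟩ := exists_smul_gen ξ t
      exact ⟨r, (hgen g φ e r).symm⟩
    · rintro ⟨r, rfl⟩
      exact ⟨r • gen ξ x, hgen g φ e r⟩
  let L : Submodule A (X.residueField ξ) := (A ∙ (1 : X.residueField ξ)) ⊔ (A ∙ f)
  haveI : Submodule.IsLattice (X.residueField ξ) L :=
    ⟨(Submodule.fg_span_singleton _).sup (Submodule.fg_span_singleton _), eq_top_iff.2 fun y _ => by
      have h1 : y • (1 : X.residueField ξ) ∈ Submodule.span (X.residueField ξ) (L : Set (X.residueField ξ)) :=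
        Submodule.smul_mem _ _ (Submodule.subset_span
          (Submodule.mem_sup_left (Submodule.mem_span_singleton_self _)))
      rwa [smul_eq_mul, mul_one] at h1⟩
  have hrΦ : LinearMap.range Φ = L.restrictScalars (X.presheaf.stalk x) := by
    show _ = Submodule.restrictScalars _ (_ ⊔ _)
    have r1 : LinearMap.range (Φ ∘ₗ stk a x) =
        (A ∙ (1 : X.residueField ξ)).restrictScalars (X.presheaf.stalk x) := by
      rw [hrange a φ₁ ea, hφ₁]
    have r2 : LinearMap.range (Φ ∘ₗ stk b x) = (A ∙ f).restrictScalars (X.presheaf.stalk x) := by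
      rw [hrange b φ₂ eb, hφ₂]
    rw [Submodule.restrictScalars_sup, ← r1, ← r2]
    refine le_antisymm ?_ (sup_le (LinearMap.range_comp_le_range _ _) (LinearMap.range_comp_le_range _ _))
    rintro _ ⟨m, rfl⟩
    obtain ⟨p, rfl⟩ := stk_surjective_of_epi (Abelian.factorThruImage θ) x m
    have hp := stalk_sum T x Finset.univ (fun _ _ => Finset.mem_univ _) p
    rw [hp, map_sum, map_sum]
    refine Submodule.sum_mem _ fun c _ => ?_
    rcases c with ⟨_ | _⟩
    · exact Submodule.mem_sup_right ⟨_, (congrArg Φ (stk_comp _ _ x _))⟩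
    · exact Submodule.mem_sup_left ⟨_, (congrArg Φ (stk_comp _ _ x _))⟩
  have hseq : ∀ (g : O ⟶ Abelian.image θ) [Mono g],
      (ShortComplex.mk g (cokernel.π g) (cokernel.condition g)).ShortExact := fun g _ =>
    .mk' (ShortComplex.exact_of_g_is_cokernel _ (cokernelIsCokernel g)) inferInstance inferInstance
  have hq : ∀ g : O ⟶ Abelian.image θ, Coh.IsQCoh (cokernel g) := fun g =>
    QCoh.isQCoh_cokernel hO.1 hM.1 g
  have hsurjA : Function.Surjective (algebraMap (X.presheaf.stalk x) A) := Ideal.Quotient.mk_surjective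
  have la : Module.length (X.presheaf.stalk x) ((cokernel a).presheaf.stalk x) =
      IntThLib.relLen A L (A ∙ (1 : X.residueField ξ)) := by
    rw [length_coker_stalk (hseq a) hO.1 hM.1 (hq a) x Φ hΦ, hrΦ, hrange a φ₁ ea, hφ₁,
      relLen_restrictScalars hsurjA]
  have lb : Module.length (X.presheaf.stalk x) ((cokernel b).presheaf.stalk x) =
      IntThLib.relLen A L (A ∙ f) := by
    rw [length_coker_stalk (hseq b) hO.1 hM.1 (hq b) x Φ hΦ, hrΦ, hrange b φ₂ eb, hφ₂,
      relLen_restrictScalars hsurjA]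
  obtain ⟨-, -, e⟩ := ord_eq_relLen L (one_ne_zero (α := X.residueField ξ)) hf
    (Submodule.mem_sup_left (Submodule.mem_span_singleton_self _))
    (Submodule.mem_sup_right (Submodule.mem_span_singleton_self _))
  rw [la, lb, e, div_one]
  rfl

/-- The sheaf cycle of a locally finite sum. -/
theorem sheafFun_coprod (hd : Cyc.IsDimFun X δ) {k : ℤ} {J : Type u} {M : J → X.Modules} (hlf : LF M)
    (hM : ∀ j, Cyc.CohLe δ k (M j)) (x : X) :
    (Function.support fun j => Cyc.sheafFun δ k (M j) x).Finite ∧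
    Cyc.sheafFun δ k (∐ M) x = ∑ᶠ j, Cyc.sheafFun δ k (M j) x := by
  classical
  have hs : (Function.support fun j => Cyc.sheafFun δ k (M j) x) ⊆ (hlf.finite_at x).toFinset := fun j hj =>
    (hlf.finite_at x).mem_toFinset.2 (nontrivial_of_sheafFun hj).2
  refine ⟨(Finset.finite_toSet _).subset hs, ?_⟩
  rw [finsum_eq_sum_of_support_subset _ hs]
  by_cases hx : δ x = k
  · simp only [Cyc.sheafFun, if_pos hx]
    rw [length_stalk M x _ fun j hj => (hlf.finite_at x).mem_toFinset.2 hj, ← Nat.cast_sum]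
    refine congrArg Nat.cast ?_
    exact ENat.toNat_sum fun j _ => (length_lt_top hd (hM j) hx).ne
  · simp [Cyc.sheafFun, hx]

/-- Passing to a larger dimension. -/
theorem exists_quotMap (δ : X → ℤ) {a a' b : ℤ} (h : a ≤ a') :
    ∃ Q : Cyc.K0CohQuot δ a b →+ Cyc.K0CohQuot δ a' b,
      ∀ F, Cyc.CohLe δ a F → Q (Cyc.toK0CohQuot δ a b F) = Cyc.toK0CohQuot δ a' b F := by
  obtain ⟨g, hg⟩ := KZ.exists_liftSub (Cyc.CohLe δ a) (Cyc.toK0CohQuot δ a' b) fun S hS p q r =>
    tK_ses hS (cohLe_mono h p) (cohLe_mono h q) (cohLe_mono h r)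
  refine ⟨QuotientAddGroup.lift _ g ((AddSubgroup.closure_le _).2 ?_), fun F hF => hg F hF⟩
  rintro _ ⟨F, hF, rfl⟩
  show g _ = 0
  by_cases hFa : Cyc.CohLe δ a F
  · rw [hg F hFa, tK_small hF]
  · rw [KZero.clSub, dif_neg hFa, map_zero]

/-- A cycle rationally equivalent to zero has class zero. -/
theorem tK_pos_eq_neg (hd : Cyc.IsDimFun X δ) {k : ℤ} (α : AlgebraicCycle X ℤ) (hα : α ∈ Cyc.Zk X δ k)
    (h0 : Cyc.RatEquivZero δ k α) :
    Cyc.toK0CohQuot δ (k + 1) (k - 1) (Cyc.cycleSheafPos ⇑α) =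
      Cyc.toK0CohQuot δ (k + 1) (k - 1) (Cyc.cycleSheafNeg ⇑α) := by
  obtain ⟨I, ξ, f, hξ, hf, hloc, hα'⟩ := h0
  choose M a b ma mb hM hMs hsurj hlen using fun i => exists_pair hd (ξ i) (hf i)
  have hlfM : ∀ N : I → X.Modules, (∀ i x, Nontrivial ((N i).presheaf.stalk x) → ξ i ⤳ x) → LF N := by
    intro N hN x
    obtain ⟨U, hU, hxU, hfin⟩ := hloc x
    refine ⟨⟨U, hU⟩, hxU, hfin.subset ?_⟩
    rintro i ⟨y, hy, hn⟩
    exact ⟨y, specializes_iff_mem_closure.1 (hN i y hn), hy⟩
  have hle1 : ∀ {N : X.Modules} (i : I), Coh.IsCoh N → (∀ x, Nontrivial (N.presheaf.stalk x) → ξ i ⤳ x) →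
      Cyc.CohLe δ (k + 1) N := fun {N} i hN hs => ⟨hN, fun x hx => by
    rcases eq_or_ne (ξ i) x with h | h
    · rw [← h, hξ i]
    · exact (CycLib.delta_lt hd (hs x hx) h).le.trans (hξ i).le⟩
  have hc : ∀ (i : I) (g : Cyc.closureStructureSheaf (ξ i) ⟶ M i), Function.Surjective (stk g (ξ i)) →
      Cyc.CohLe δ k (cokernel g) ∧ ∀ x, Nontrivial ((cokernel g).presheaf.stalk x) → ξ i ⤳ x := by
    intro i g hg
    have hs : ∀ x, Nontrivial ((cokernel g).presheaf.stalk x) → ξ i ⤳ x := fun x hx =>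
      hMs i x (nontrivial_of_epi (cokernel.π g) hx)
    refine ⟨⟨QCoh.isCoh_cokernel (isCoh_closure _).1 (hM i) g, fun x hx => ?_⟩, hs⟩
    have hne : ξ i ≠ x := fun h => by
      subst h
      refine not_subsingleton_iff_nontrivial.2 hx (subsingleton_of_forall_eq 0 fun t => ?_)
      obtain ⟨m, rfl⟩ := stk_surjective_of_epi (cokernel.π g) _ t
      obtain ⟨c, rfl⟩ := hg m
      rw [← stk_comp, cokernel.condition, stk_zero]
    have := CycLib.delta_lt hd (hs x hx) hne
    have := hξ i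
    omega
  have hP := cohClosed_cohLe δ (k + 1)
  have hseq : ∀ (g : ∀ i, Cyc.closureStructureSheaf (ξ i) ⟶ M i), (∀ i, Mono (g i)) →
      (∀ i, Function.Surjective (stk (g i) (ξ i))) →
      Cyc.toK0CohQuot δ (k + 1) (k - 1) (∐ M) =
        Cyc.toK0CohQuot δ (k + 1) (k - 1) (∐ fun i => Cyc.closureStructureSheaf (ξ i)) +
          Cyc.toK0CohQuot δ (k + 1) (k - 1) (∐ fun i => cokernel (g i)) := by
    intro g hg hsg
    have e := cl_coprod_ses hP
      (fun i => ShortComplex.mk (g i) (cokernel.π (g i)) (cokernel.condition (g i)))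
      (fun i => .mk' (ShortComplex.exact_of_g_is_cokernel _ (cokernelIsCokernel (g i))) (hg i) inferInstance)
      (hlfM M hMs) (fun i => hle1 i (isCoh_closure _) fun x hx => specializes_of_nontrivial_closure hx)
      (fun i => hle1 i (hM i) (hMs i)) fun i => cohLe_mono (by omega) (hc i (g i) (hsg i)).1
    simp only [Cyc.toK0CohQuot, ← QuotientAddGroup.mk_add, e]
  have eab := (hseq a ma fun i => (hsurj i).1).symm.trans (hseq b mb fun i => (hsurj i).2)
  have eab' := add_left_cancel eab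
  have hA : Cyc.CohLe δ k (∐ fun i => cokernel (a i)) :=
    (cohClosed_cohLe δ k).sigma (hlfM _ fun i x hx => (hc i (a i) (hsurj i).1).2 x hx)
      fun i => (hc i (a i) (hsurj i).1).1
  have hB : Cyc.CohLe δ k (∐ fun i => cokernel (b i)) :=
    (cohClosed_cohLe δ k).sigma (hlfM _ fun i x hx => (hc i (b i) (hsurj i).2).2 x hx)
      fun i => (hc i (b i) (hsurj i).2).1
  obtain ⟨ψ, hψ, hinj, -⟩ := exists_equiv_cycles hd k
  obtain ⟨hp, hn⟩ := cohLe_cyclePosNeg hd α hα
  have key : Cyc.toK0CohQuot δ k (k - 1) (Cyc.cycleSheafPos ⇑α) -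
      Cyc.toK0CohQuot δ k (k - 1) (Cyc.cycleSheafNeg ⇑α) =
      Cyc.toK0CohQuot δ k (k - 1) (∐ fun i => cokernel (b i)) -
        Cyc.toK0CohQuot δ k (k - 1) (∐ fun i => cokernel (a i)) := by
    refine hinj ?_
    rw [map_sub, map_sub, hψ _ hp, hψ _ hn, hψ _ hB, hψ _ hA,
      sheafFun_pos_sub_neg hd ⇑α fun x hx => by_contra fun hne => hx (hα x hne)]
    funext x
    obtain ⟨fa, ea⟩ := sheafFun_coprod hd (hlfM _ fun i x hx => (hc i (a i) (hsurj i).1).2 x hx)
      (fun i => (hc i (a i) (hsurj i).1).1) x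
    obtain ⟨fb, eb⟩ := sheafFun_coprod hd (hlfM _ fun i x hx => (hc i (b i) (hsurj i).2).2 x hx)
      (fun i => (hc i (b i) (hsurj i).2).1) x
    rw [Pi.sub_apply, ea, eb, hα', ← finsum_sub_distrib fb fa]
    refine finsum_congr fun i => ?_
    by_cases hx : ξ i ⤳ x ∧ δ x + 1 = δ (ξ i)
    · have hxk : δ x = k := by have := hξ i; omega
      rw [← hlen i x hx.1 hx.2, Cyc.sheafFun, Cyc.sheafFun, if_pos hxk, if_pos hxk]
    · rw [Cyc.divFun, dif_neg hx]
      have hz : ∀ (g : Cyc.closureStructureSheaf (ξ i) ⟶ M i), Function.Surjective (stk g (ξ i)) →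
          Cyc.sheafFun δ k (cokernel g) x = 0 := fun g hg => by
        by_contra hne
        obtain ⟨h1, h2⟩ := nontrivial_of_sheafFun hne
        exact hx ⟨(hc i g hg).2 x h2, by rw [h1, hξ i]⟩
      rw [hz (a i) (hsurj i).1, hz (b i) (hsurj i).2, sub_zero]
  obtain ⟨Q, hQ⟩ := exists_quotMap (X := X) δ (a := k) (a' := k + 1) (b := k - 1) (by omega)
  have e := congrArg Q key
  rw [map_sub, map_sub, hQ _ hp, hQ _ hn, hQ _ hA, hQ _ hB, ← eab', sub_self] at e
  exact sub_eq_zero.1 e

end Groth.Agent.H23.K0Rat
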