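import Groth.Agent.H23.LocFinCoprod
import Groth.Agent.KZ.Basic
import Mathlib.Algebra.Homology.ShortComplex.Exact

/-! `K₀` of coherent modules with support conditions: locally finite sums and a telescope identity. -/

set_option autoImplicit false
set_option backward.isDefEq.respectTransparency false
set_option backward.isDefEq.respectTransparency.types false

universe u

open CategoryTheory CategoryTheory.Limits AlgebraicGeometry TopologicalSpace Opposite

namespace Groth.Agent.H23.K0Swindle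

open Groth.Agent LocFinCoprod

variable {X : Scheme.{u}}

/-- A class of coherent modules closed under subobjects, quotients and locally finite sums. -/
structure CohClosed (Q : ObjectProperty X.Modules) : Prop where
  coh : ∀ {F : X.Modules}, Q F → Coh.IsCoh F
  sub : ∀ {A B : X.Modules} (f : A ⟶ B) [Mono f], Coh.IsQCoh A → Q B → Q A
  quot : ∀ {A B : X.Modules} (f : A ⟶ B) [Epi f], Coh.IsQCoh B → Q A → Q B
  sigma : ∀ {J : Type u} {M : J → X.Modules}, LF M → (∀ j, Q (M j)) → Q (∐ M)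

/-- Coherent modules with support in a given set. -/
def Supp (S : Set X) : ObjectProperty X.Modules :=
  fun F => Coh.IsCoh F ∧ ∀ x : X, Nontrivial (F.presheaf.stalk x) → x ∈ S

theorem cohClosed_supp [IsLocallyNoetherian X] (S : Set X) : CohClosed (Supp S) where
  coh := fun h => h.1
  sub := fun {A B} f _ hA hB =>
    ⟨QCoh.isCoh_of_mono f hB.1 hA, fun x hx => hB.2 x (nontrivial_of_mono f hx)⟩
  quot := fun {A B} f _ hB hA =>
    ⟨QCoh.isCoh_of_epi f hA.1 hB, fun x hx => hA.2 x (nontrivial_of_epi f hx)⟩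
  sigma := fun hlf h => ⟨isCoh_coprod hlf fun j => (h j).1, fun x hx =>
    let ⟨j, hj⟩ := nontrivial_coprod _ hx
    (h j).2 x hj⟩

variable {Q : ObjectProperty X.Modules} (hQ : CohClosed Q)
include hQ

theorem CohClosed.iso {A B : X.Modules} (e : A ≅ B) (h : Q A) : Q B :=
  hQ.quot e.hom ((QCoh.isQCoh_iff_iso e).1 (hQ.coh h).1) h

theorem CohClosed.exists_zero : ∃ Z : X.Modules, IsZero Z ∧ Q Z :=
  ⟨∐ fun j : PEmpty.{u+1} => (isEmptyElim j : X.Modules),
    (IsZero.iff_id_eq_zero _).2 (Sigma.hom_ext _ _ fun j => j.elim),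
    hQ.sigma (fun x => ⟨⊤, trivial, Set.toFinite _⟩) fun j => j.elim⟩

theorem CohClosed.of_isZero {A : X.Modules} (h : IsZero A) : Q A := by
  obtain ⟨Z, hZ, hQZ⟩ := hQ.exists_zero
  exact hQ.iso (hZ.iso h) hQZ

theorem cl_iso {A B : X.Modules} (e : A ≅ B) (h : Q A) : KZero.clSub Q A = KZero.clSub Q B := by
  obtain ⟨Z, hZ, hQZ⟩ := hQ.exists_zero
  exact KZ.clSub_iso Q e h (hQ.iso e h) hZ hQZ

theorem CohClosed.ses {S : ShortComplex X.Modules} (hS : S.ShortExact) (h₁ : Coh.IsQCoh S.X₁)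
    (h₃ : Coh.IsQCoh S.X₃) (h₂ : Q S.X₂) : Q S.X₁ ∧ Q S.X₃ := by
  haveI := hS.mono_f
  haveI := hS.epi_g
  exact ⟨hQ.sub S.f h₁ h₂, hQ.quot S.g h₃ h₂⟩

theorem cl_coprod_ses {J : Type u} (S : J → ShortComplex X.Modules) (hS : ∀ j, (S j).ShortExact)
    (hlf : LF fun j => (S j).X₂) (h₁ : ∀ j, Q (S j).X₁) (h₂ : ∀ j, Q (S j).X₂) (h₃ : ∀ j, Q (S j).X₃) :
    KZero.clSub Q (∐ fun j => (S j).X₂) =
      KZero.clSub Q (∐ fun j => (S j).X₁) + KZero.clSub Q (∐ fun j => (S j).X₃) :=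
  KZ.clSub_ses Q (shortExact_coprod S hS)
    (hQ.sigma (hlf.mono fun j x hx => by
      haveI := (hS j).mono_f
      exact nontrivial_of_mono (S j).f hx) h₁)
    (hQ.sigma hlf h₂)
    (hQ.sigma (hlf.mono fun j x hx => by
      haveI := (hS j).epi_g
      exact nontrivial_of_epi (S j).g hx) h₃)

theorem cl_coprod_congr {J K : Type u} {M : J → X.Modules} {N : K → X.Modules} (e : J ≃ K)
    (w : ∀ j, N (e j) ≅ M j) (hlf : LF M) (h : ∀ j, Q (M j)) :
    KZero.clSub Q (∐ M) = KZero.clSub Q (∐ N) :=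
  cl_iso hQ (Limits.Sigma.whiskerEquiv e w) (hQ.sigma hlf h)

/-- A sum with only one non-zero summand. -/
noncomputable def singleIso {J : Type u} (M : J → X.Modules) (j₀ : J) (h : ∀ j, j ≠ j₀ → IsZero (M j)) :
    ∐ M ≅ M j₀ where
  hom := proj M j₀
  inv := Sigma.ι M j₀
  hom_inv_id := Sigma.hom_ext _ _ fun j => by
    by_cases hj : j = j₀
    · subst hj
      rw [← Category.assoc, ι_proj_self, Category.id_comp, Category.comp_id]
    · exact (h j hj).eq_of_src _ _
  inv_hom_id := ι_proj_self M j₀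

theorem cl_single {J : Type u} (M : J → X.Modules) (j₀ : J) (h : ∀ j, j ≠ j₀ → IsZero (M j))
    (h₀ : Q (M j₀)) : KZero.clSub Q (∐ M) = KZero.clSub Q (M j₀) :=
  (cl_iso hQ (singleIso M j₀ h).symm h₀).symm

/-- The telescope identity. -/
theorem swindle {I : Type u} (T : I → ℕ → X.Modules) (t : ∀ i n, T i (n + 1) ⟶ T i n)
    [∀ i n, Mono (t i n)] (hlf : LF fun p : I × ℕ => T p.1 p.2) (hT : ∀ i n, Q (T i n)) :
    KZero.clSub Q (∐ fun i => T i 0) = KZero.clSub Q (∐ fun p : I × ℕ => cokernel (t p.1 p.2)) := by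
  let P : I × ℕ → X.Modules := fun p => T p.1 p.2
  let P' : I × ℕ → X.Modules := fun p => T p.1 (p.2 + 1)
  let g : ∐ P ⟶ ∐ fun i => T i 0 := Sigma.desc fun p => match p with
    | (i, 0) => Sigma.ι (fun i => T i 0) i
    | (i, _ + 1) => 0
  let r : ∐ P ⟶ ∐ P' := Sigma.desc fun p => match p with
    | (_, 0) => 0
    | (i, n + 1) => Sigma.ι P' (i, n)
  let f : ∐ P' ⟶ ∐ P := Sigma.desc fun p => Sigma.ι P (p.1, p.2 + 1)
  let s : (∐ fun i => T i 0) ⟶ ∐ P := Sigma.desc fun i => Sigma.ι P (i, 0)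
  have w : f ≫ g = 0 := Sigma.hom_ext _ _ fun p => by simp [f, g]
  have hsplit : (ShortComplex.mk f g w).Splitting :=
    { r := r
      s := s
      f_r := Sigma.hom_ext _ _ fun p => by simp [f, r]
      s_g := Sigma.hom_ext _ _ fun i => by simp [s, g]
      id := Sigma.hom_ext _ _ fun p => by
        rcases p with ⟨i, _ | n⟩ <;> simp [f, g, r, s] }
  have h0 : LF fun i => T i 0 := hlf.comap (fun i : I => ((i, 0) : I × ℕ))
    (fun a b (h : ((a, 0) : I × ℕ) = (b, 0)) => (Prod.ext_iff.1 h).1) _ fun i x hx => hx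
  have h1 : LF P' := hlf.comap (fun p : I × ℕ => ((p.1, p.2 + 1) : I × ℕ))
    (fun (a b : I × ℕ) (h : ((a.1, a.2 + 1) : I × ℕ) = (b.1, b.2 + 1)) => Prod.ext (Prod.ext_iff.1 h).1 (Nat.succ_injective (Prod.ext_iff.1 h).2)) _
    fun i x hx => hx
  have e1 := KZ.clSub_ses Q hsplit.shortExact (hQ.sigma h1 fun p => hT _ _)
    (hQ.sigma hlf fun p => hT _ _) (hQ.sigma h0 fun i => hT _ _)
  have hc : ∀ p : I × ℕ, Q (cokernel (t p.1 p.2)) := fun p => hQ.quot (cokernel.π _)
    (QCoh.isQCoh_cokernel (hQ.coh (hT _ _)).1 (hQ.coh (hT _ _)).1 _) (hT _ _)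
  have e2 := cl_coprod_ses hQ
    (fun p : I × ℕ => ShortComplex.mk (t p.1 p.2) (cokernel.π (t p.1 p.2)) (cokernel.condition _))
    (fun p => .mk' (ShortComplex.exact_of_g_is_cokernel _ (cokernelIsCokernel _)) inferInstance inferInstance)
    hlf (fun p => hT _ _) (fun p => hT _ _) hc
  exact add_left_cancel (e1.symm.trans e2)

/-- A morphism changes the class by kernel and cokernel. -/
theorem cl_hom {A B : X.Modules} (f : A ⟶ B) (hA : Q A) (hB : Q B) :
    KZero.clSub Q A + KZero.clSub Q (cokernel f) = KZero.clSub Q B + KZero.clSub Q (kernel f) := by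
  have hk : Q (kernel f) := hQ.sub (kernel.ι f)
    (QCoh.isQCoh_kernel (hQ.coh hA).1 (hQ.coh hB).1 f) hA
  have hc : Q (cokernel f) := hQ.quot (cokernel.π f)
    (QCoh.isQCoh_cokernel (hQ.coh hA).1 (hQ.coh hB).1 f) hB
  have hi : Q (Abelian.image f) := hQ.sub (Abelian.image.ι f)
    (QCoh.isQCoh_kernel (hQ.coh hB).1 (hQ.coh hc).1 _) hB
  have e1 := KZ.clSub_ses Q (S := ShortComplex.mk (kernel.ι f) (Abelian.factorThruImage f)
      ((cancel_mono (Abelian.image.ι f)).1 (by simp)))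
    (.mk' (ShortComplex.exact_of_f_is_kernel _ (KernelFork.IsLimit.ofι' _ _ fun {W} g hg =>
      ⟨kernel.lift f g (by rw [← Abelian.image.fac f, ← Category.assoc, hg, zero_comp]),
        kernel.lift_ι _ _ _⟩)) inferInstance inferInstance) hk hA hi
  have e2 := KZ.clSub_ses Q (S := ShortComplex.mk (Abelian.image.ι f) (cokernel.π f) (kernel.condition _))
    (.mk' (ShortComplex.exact_of_f_is_kernel _ (kernelIsKernel _)) inferInstance inferInstance) hi hB hc
  rw [e1, e2]
  abel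

omit hQ in
/-- Enlarging the class of modules. -/
theorem exists_mapLe {P : ObjectProperty X.Modules} (h : ∀ F, Q F → P F) :
    ∃ f : KZero.K0sub Q →+ KZero.K0sub P, ∀ F, Q F → f (KZero.clSub Q F) = KZero.clSub P F :=
  KZ.exists_liftSub Q (KZero.clSub P) fun S hS a b c => KZ.clSub_ses P hS (h _ a) (h _ b) (h _ c)

end Groth.Agent.H23.K0Swindle
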