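import Groth.Agent.H23.InvStalk
import Groth.Agent.H23.ZeroSec
import Groth.Agent.H23.RatEquivPull

/-! Rational sections of invertible modules and the first Chern class cap. -/

set_option autoImplicit false
set_option linter.style.haveILetI false

universe u

open AlgebraicGeometry CategoryTheory TopologicalSpace Opposite

namespace Groth.Agent.H23.RatSec

open Groth.Agent Groth.Agent.AModX

variable {X : Scheme.{u}}

/-- A basis of a stalk. -/
def IsGen {L : X.Modules} {x : X} (t : L.presheaf.stalk x) : Prop :=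
  Submodule.span (X.presheaf.stalk x) {t} = ⊤ ∧ ∀ a : X.presheaf.stalk x, a • t = 0 → a = 0

theorem isGen_germ {L : X.Modules} {U : X.Opens} {e : Γ(L, U)} (he : InvX.IsFrame e) (x : X) (hx : x ∈ U) :
    IsGen (L.presheaf.germ U x hx e) := by
  refine ⟨eq_top_iff.2 fun m _ => ?_, fun r hr => ?_⟩
  · obtain ⟨V, hxV, n, rfl⟩ := L.presheaf.germ_exist m
    have hxW : x ∈ V ⊓ U := ⟨hxV, hx⟩
    obtain ⟨r, hr⟩ := he.exists_coord (inf_le_right : V ⊓ U ≤ U) (res L (inf_le_left : V ⊓ U ≤ V) n)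
    refine Submodule.mem_span_singleton.2 ⟨X.presheaf.germ (V ⊓ U) x hxW r, ?_⟩
    have h1 := congrArg (L.presheaf.germ (V ⊓ U) x hxW).hom hr
    erw [QCoh.germ_smul' L hxW] at h1
    rw [show (L.presheaf.germ (V ⊓ U) x hxW).hom (res L (inf_le_right : V ⊓ U ≤ U) e) = L.presheaf.germ U x hx e from
        L.presheaf.germ_res_apply (homOfLE inf_le_right) x hxW e,
      show (L.presheaf.germ (V ⊓ U) x hxW).hom (res L (inf_le_left : V ⊓ U ≤ V) n) = (L.presheaf.germ V x hxV).hom n from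
        L.presheaf.germ_res_apply (homOfLE inf_le_left) x hxW n] at h1
    exact h1.symm
  · obtain ⟨V, hxV, a, rfl⟩ := X.presheaf.germ_exist r
    have hxW : x ∈ V ⊓ U := ⟨hxV, hx⟩
    rw [← X.presheaf.germ_res_apply (homOfLE inf_le_left : V ⊓ U ⟶ V) x hxW a] at hr ⊢
    have h1 : (L.presheaf.germ (V ⊓ U) x hxW).hom
        ((resR (inf_le_left : V ⊓ U ≤ V) a) • res L (inf_le_right : V ⊓ U ≤ U) e) = 0 := by
      erw [QCoh.germ_smul' L hxW]
      rw [show (L.presheaf.germ (V ⊓ U) x hxW).hom (res L (inf_le_right : V ⊓ U ≤ U) e) = L.presheaf.germ U x hx e from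
        L.presheaf.germ_res_apply (homOfLE inf_le_right) x hxW e]
      exact hr
    obtain ⟨W', hxW', i, j, h2⟩ := L.presheaf.germ_eq x hxW hxW _ 0 (h1.trans (map_zero _).symm)
    have h3 : res L (leOfHom i) (resR (inf_le_left : V ⊓ U ≤ V) a • res L (inf_le_right : V ⊓ U ≤ U) e) = 0 :=
      h2.trans (map_zero _)
    rw [res_smul, res_res] at h3
    have h4 := (he W' ((leOfHom i).trans inf_le_right)).1 (h3.trans (zero_smul _ _).symm)
    rw [← X.presheaf.germ_res_apply i x hxW']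
    exact (congrArg _ h4).trans (map_zero (X.presheaf.germ W' x hxW').hom)

theorem IsGen.of_span {L : X.Modules} {x : X} {t t' : L.presheaf.stalk x} (h : IsGen t)
    (h' : Submodule.span (X.presheaf.stalk x) {t'} = ⊤) : ∃ u : X.presheaf.stalk x, IsUnit u ∧ t' = u • t := by
  obtain ⟨u, hu⟩ := Submodule.mem_span_singleton.1 (h.1.ge (Submodule.mem_top : t' ∈ ⊤))
  obtain ⟨r, hr⟩ := Submodule.mem_span_singleton.1 (h'.ge (Submodule.mem_top : t ∈ ⊤))
  refine ⟨u, IsUnit.of_mul_eq_one r ?_, hu.symm⟩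
  have := h.2 (r * u - 1) (by rw [sub_smul, mul_smul, hu, hr, one_smul, sub_self])
  rw [mul_comm]
  exact sub_eq_zero.1 this

theorem IsGen.smul_unit {L : X.Modules} {x : X} {t : L.presheaf.stalk x} (h : IsGen t) {u : X.presheaf.stalk x}
    (hu : IsUnit u) : IsGen (u • t) := by
  obtain ⟨v, hv⟩ := hu.exists_left_inv
  refine ⟨eq_top_iff.2 fun m _ => ?_, fun a ha => ?_⟩
  · obtain ⟨a, rfl⟩ := Submodule.mem_span_singleton.1 (h.1.ge (Submodule.mem_top : m ∈ ⊤))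
    exact Submodule.mem_span_singleton.2 ⟨a * v, by rw [← mul_smul, mul_assoc, hv, mul_one]⟩
  · have := h.2 (a * u) (by rw [mul_smul]; exact ha)
    exact (hu.mul_left_eq_zero).1 this

theorem exists_gen {L : X.Modules} (hL : PicF.IsInvertible L) (x : X) :
    ∃ t : L.presheaf.stalk x, IsGen t ∧ ∀ (ξ : X) (h : ξ ⤳ x), IsGen (L.presheaf.stalkSpecializes h t) := by
  obtain ⟨U, hx, e, he⟩ := InvX.exists_frame hL x
  refine ⟨L.presheaf.germ U x hx e, isGen_germ he x hx, fun ξ h => ?_⟩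
  rw [TopCat.Presheaf.germ_stalkSpecializes_apply]
  exact isGen_germ he ξ _

theorem isGen_of_span {L : X.Modules} (hL : PicF.IsInvertible L) {x : X} {t : L.presheaf.stalk x}
    (ht : Submodule.span (X.presheaf.stalk x) {t} = ⊤) :
    IsGen t ∧ ∀ (ξ : X) (h : ξ ⤳ x), IsGen (L.presheaf.stalkSpecializes h t) := by
  obtain ⟨t₀, h₀, h₀'⟩ := exists_gen hL x
  obtain ⟨u, hu, rfl⟩ := h₀.of_span ht
  refine ⟨h₀.smul_unit hu, fun ξ h => ?_⟩
  rw [ZeroSec.stalkSpecializes_smul]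
  exact (h₀' ξ h).smul_unit (hu.map (X.presheaf.stalkSpecializes h).hom)

variable {L : X.Modules}

/-- The class of a stalk element in the fibre. -/
noncomputable def cls (L : X.Modules) (ξ : X) (m : L.presheaf.stalk ξ) : Cyc.secFibre L ξ := Submodule.Quotient.mk m

theorem cls_smul {ξ : X} (a : X.presheaf.stalk ξ) (m : L.presheaf.stalk ξ) : cls L ξ (a • m) = a • cls L ξ m := rfl

theorem cls_smul_eq_iff {ξ : X} {g : L.presheaf.stalk ξ} (hg : IsGen g) (φ ψ : X.presheaf.stalk ξ) :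
    φ • cls L ξ g = ψ • cls L ξ g ↔ X.residue ξ φ = X.residue ξ ψ := by
  rw [← cls_smul, ← cls_smul]
  constructor
  · intro h
    have h' := (Submodule.Quotient.eq _).1 h
    rw [← sub_smul, ← hg.1, Submodule.mem_smul_span_singleton] at h'
    obtain ⟨m, hm, hm'⟩ := h'
    have := hg.2 (m - (φ - ψ)) (by rw [sub_smul, hm', sub_self])
    rw [sub_eq_zero] at this
    subst this
    exact Ideal.Quotient.eq.2 hm
  · intro h
    refine (Submodule.Quotient.eq _).2 ?_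
    rw [← sub_smul]
    exact Submodule.smul_mem_smul (Ideal.Quotient.eq.1 h) Submodule.mem_top

theorem exists_coord {ξ : X} {g : L.presheaf.stalk ξ} (hg : IsGen g) (s : Cyc.secFibre L ξ) :
    ∃ φ : X.presheaf.stalk ξ, s = φ • cls L ξ g := by
  obtain ⟨m, rfl⟩ := Submodule.Quotient.mk_surjective _ s
  obtain ⟨φ, hφ⟩ := Submodule.mem_span_singleton.1 (hg.1.ge (Submodule.mem_top : m ∈ ⊤))
  exact ⟨φ, by rw [← hφ]; rfl⟩

theorem residue_ne_zero {ξ : X} {g : L.presheaf.stalk ξ} (hg : IsGen g) {φ : X.presheaf.stalk ξ} :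
    X.residue ξ φ ≠ 0 ↔ φ • cls L ξ g ≠ 0 := by
  rw [ne_eq, ne_eq, ← zero_smul (X.presheaf.stalk ξ) (cls L ξ g), cls_smul_eq_iff hg, map_zero]

theorem exists_smul (hL : PicF.IsInvertible L) {ξ : X} {s : Cyc.secFibre L ξ} (hs : s ≠ 0)
    (s' : Cyc.secFibre L ξ) :
    ∃ φ : X.presheaf.stalk ξ, s' = φ • s ∧ (s' ≠ 0 → X.residue ξ φ ≠ 0) := by
  obtain ⟨g, hg, -⟩ := exists_gen hL ξ
  obtain ⟨a, rfl⟩ := exists_coord hg s
  obtain ⟨b, rfl⟩ := exists_coord hg s'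
  have ha := (residue_ne_zero hg).2 hs
  have hau : IsUnit a := by_contra fun h => ha (Ideal.Quotient.eq_zero_iff_mem.2 h)
  obtain ⟨v, hv⟩ := hau.exists_left_inv
  refine ⟨b * v, by rw [← mul_smul, mul_assoc, hv, mul_one], fun hb => ?_⟩
  rw [map_mul]
  exact mul_ne_zero ((residue_ne_zero hg).2 hb) ((IsUnit.of_mul_eq_one a hv).map (X.residue ξ).hom).ne_zero

variable [IsLocallyNoetherian X] {δ : X → ℤ}

theorem secOrdAt_eq (hL : PicF.IsInvertible L) (hd : Cyc.IsDimFun X δ) {x ξ : X} (h : ξ ⤳ x)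
    (hx : δ x + 1 = δ ξ) {t : L.presheaf.stalk x} (ht : Submodule.span (X.presheaf.stalk x) {t} = ⊤)
    {s : Cyc.secFibre L ξ} {φ : X.presheaf.stalk ξ} (hs : s = φ • cls L ξ (L.presheaf.stalkSpecializes h t))
    (hφ : X.residue ξ φ ≠ 0) :
    Cyc.secOrdAt L ξ x h s = Cyc.ordAt x ξ h (X.residue ξ φ) := by
  classical
  have ht' : ∃ t : L.presheaf.stalk x, Submodule.span (X.presheaf.stalk x) {t} = ⊤ := ⟨t, ht⟩
  rw [Cyc.secOrdAt, dif_pos ht']
  obtain ⟨hg, hg'⟩ := isGen_of_span hL (Classical.choose_spec ht')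
  obtain ⟨u, hu, hut⟩ := hg.of_span ht
  have hs' : s = (φ * X.presheaf.stalkSpecializes h u) •
      cls L ξ (L.presheaf.stalkSpecializes h (Classical.choose ht')) := by
    rw [hs, mul_smul, hut, ZeroSec.stalkSpecializes_smul, cls_smul]
  have hψ : ∃ ψ : X.presheaf.stalk ξ, s =
      ψ • (Submodule.Quotient.mk ((L.presheaf.stalkSpecializes h) (Classical.choose ht')) : Cyc.secFibre L ξ) := ⟨_, hs'⟩
  rw [dif_pos hψ]
  have h1 := Classical.choose_spec hψ
  have h2 := (cls_smul_eq_iff (hg' ξ h) _ _).1 (h1.symm.trans hs')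
  rw [h2, map_mul]
  have hune : Cyc.specMap x ξ h u ≠ 0 := (hu.map (Cyc.specMap x ξ h)).ne_zero
  refine (CycLib.ordAt_mul hd h hx hφ hune).trans ?_
  rw [CycLib.ordAt_eq_zero_of_isUnit hd h hx hu, add_zero]

/-- The divisor of a section in terms of coordinates at the point. -/
theorem secDivFun_eq (hL : PicF.IsInvertible L) (hd : Cyc.IsDimFun X δ) {x ξ : X} (h : ξ ⤳ x)
    {t : L.presheaf.stalk x} (ht : Submodule.span (X.presheaf.stalk x) {t} = ⊤)
    {s : Cyc.secFibre L ξ} {φ : X.presheaf.stalk ξ} (hs : s = φ • cls L ξ (L.presheaf.stalkSpecializes h t))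
    (hφ : X.residue ξ φ ≠ 0) :
    Cyc.secDivFun δ L ξ s x = Cyc.divFun δ ξ (X.residue ξ φ) x := by
  classical
  by_cases hx : δ x + 1 = δ ξ
  · rw [CycLib.divFun_eq δ _ h hx, show Cyc.secDivFun δ L ξ s x = Cyc.secOrdAt L ξ x h s from dif_pos ⟨h, hx⟩,
      secOrdAt_eq hL hd h hx ht hs hφ]
  · simp [Cyc.secDivFun, Cyc.divFun, hx]

theorem secDivFun_smul (hL : PicF.IsInvertible L) (hd : Cyc.IsDimFun X δ) {ξ : X} {s : Cyc.secFibre L ξ}
    (hs : s ≠ 0) {φ : X.presheaf.stalk ξ} (hφ : X.residue ξ φ ≠ 0) :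
    Cyc.secDivFun δ L ξ (φ • s) = Cyc.divFun δ ξ (X.residue ξ φ) + Cyc.secDivFun δ L ξ s := by
  classical
  funext x
  by_cases h : ξ ⤳ x
  swap
  · simp [Cyc.secDivFun, Cyc.divFun, h]
  obtain ⟨t, ht, ht'⟩ := exists_gen hL x
  obtain ⟨ψ, hψ⟩ := exists_coord (ht' ξ h) s
  have hψ0 : X.residue ξ ψ ≠ 0 := (residue_ne_zero (ht' ξ h)).2 (hψ ▸ hs)
  rw [Pi.add_apply, secDivFun_eq hL hd h ht.1 (φ := φ * ψ) (by rw [mul_smul, ← hψ])
    (by rw [map_mul]; exact mul_ne_zero hφ hψ0), secDivFun_eq hL hd h ht.1 hψ hψ0, map_mul,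
    CycLib.divFun_mul hd hφ hψ0, Pi.add_apply]

theorem divFun_zpow (hd : Cyc.IsDimFun X δ) {ξ : X} {f : X.residueField ξ} (hf : f ≠ 0) (n : ℤ) (x : X) :
    Cyc.divFun δ ξ (f ^ n) x = n * Cyc.divFun δ ξ f x := by
  obtain ⟨m, rfl | rfl⟩ := Int.eq_nat_or_neg n
  · rw [zpow_natCast, DivPull.divFun_pow hd hf]
  · rw [zpow_neg, zpow_natCast, CycLib.divFun_inv hd (pow_ne_zero m hf), Pi.neg_apply, DivPull.divFun_pow hd hf]
    ring

omit [IsLocallyNoetherian X] in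
theorem finite_specializing {α : X → ℤ}
    (hfin : ∀ z : X, ∃ U ∈ nhds z, (U ∩ Function.support α).Finite) (x : X) :
    {ξ : X | α ξ ≠ 0 ∧ ξ ⤳ x}.Finite := by
  obtain ⟨U, hU, hf⟩ := hfin x
  obtain ⟨V, hVU, hVo, hxV⟩ := mem_nhds_iff.1 hU
  exact hf.subset fun ξ hξ => ⟨hVU (hξ.2.mem_open hVo hxV), hξ.1⟩

omit [IsLocallyNoetherian X] in
theorem finite_support_c1Cap {α : X → ℤ} (hfin : ∀ z : X, ∃ U ∈ nhds z, (U ∩ Function.support α).Finite)
    (s : (ξ : X) → Cyc.secFibre L ξ) (x : X) :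
    (Function.support fun ξ : X => α ξ * Cyc.secDivFun δ L ξ (s ξ) x).Finite := by
  classical
  refine (finite_specializing hfin x).subset fun ξ hξ => ⟨left_ne_zero_of_mul hξ, ?_⟩
  by_contra hn
  refine right_ne_zero_of_mul hξ ?_
  simp [Cyc.secDivFun, hn]

/-- The cap does not depend on the sections, up to rational equivalence. -/
theorem ratEquiv_c1Cap (hL : PicF.IsInvertible L) (hd : Cyc.IsDimFun X δ) {α : X → ℤ} {k : ℤ}
    (hα : ∀ ξ, δ ξ ≠ k + 1 → α ξ = 0) (hfin : ∀ z : X, ∃ U ∈ nhds z, (U ∩ Function.support α).Finite)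
    {s t : (ξ : X) → Cyc.secFibre L ξ} (hs : ∀ ξ, s ξ ≠ 0) (ht : ∀ ξ, t ξ ≠ 0) {γ γ' : AlgebraicCycle X ℤ}
    (hγ : ⇑γ = Cyc.c1CapFun δ L α s) (hγ' : ⇑γ' = Cyc.c1CapFun δ L α t) : Cyc.RatEquiv δ k γ γ' := by
  classical
  choose φ hφ hφ0 using fun ξ => exists_smul hL (ht ξ) (s ξ)
  refine ⟨{ξ : X // α ξ ≠ 0}, fun i => i.1, fun i => X.residue i.1 (φ i.1) ^ α i.1,
    fun i => by_contra fun h => i.2 (hα _ h), fun i => zpow_ne_zero _ (hφ0 i.1 (hs _)), fun x => ?_, fun x => ?_⟩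
  · obtain ⟨U, hU, hf⟩ := hfin x
    obtain ⟨V, hVU, hVo, hxV⟩ := mem_nhds_iff.1 hU
    refine ⟨V, hVo, hxV, (hf.preimage Subtype.val_injective.injOn).subset ?_⟩
    rintro i ⟨w, hw, hwV⟩
    exact ⟨hVU ((specializes_iff_mem_closure.2 hw).mem_open hVo hwV), i.2⟩
  · rw [Function.locallyFinsuppWithin.coe_sub, Pi.sub_apply, congrFun hγ x, congrFun hγ' x]
    simp only [Cyc.c1CapFun]
    rw [← finsum_sub_distrib (finite_support_c1Cap hfin s x) (finite_support_c1Cap hfin t x)]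
    have e : ∀ ξ, α ξ * Cyc.secDivFun δ L ξ (s ξ) x - α ξ * Cyc.secDivFun δ L ξ (t ξ) x =
        if α ξ ≠ 0 then Cyc.divFun δ ξ (X.residue ξ (φ ξ) ^ α ξ) x else 0 := fun ξ => by
      split_ifs with h
      · rw [divFun_zpow hd (hφ0 ξ (hs ξ)), hφ ξ, secDivFun_smul hL hd (ht ξ) (hφ0 ξ (hs ξ)), Pi.add_apply]
        ring
      · rw [not_not] at h
        rw [h]
        ring
    rw [finsum_congr e]
    exact ((finsum_subtype_eq_finsum_cond (f := fun ξ => Cyc.divFun δ ξ (X.residue ξ (φ ξ) ^ α ξ) x)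
      (fun ξ => α ξ ≠ 0)).trans (finsum_congr fun ξ => finsum_eq_if)).symm

end Groth.Agent.H23.RatSec
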