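import Groth.Agent.H23.K0Rat
import Groth.Agent.H23.RatSec
import Groth.Agent.QCoh.TensorSections
import Groth.Agent.KFlatLib.Scheme.PullTensor
import Groth.Agent.KFlatLib.Scheme.Tensor
import Groth.Agent.QCoh.LocFree
import Groth.Agent.Lib.InvEnd

/-! Twisting by an invertible module in `K₀(Coh_{≤k+1}/Coh_{≤k-1})`. -/

set_option autoImplicit false
set_option maxHeartbeats 400000
set_option backward.isDefEq.respectTransparency false
set_option backward.isDefEq.respectTransparency.types false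

universe u

open CategoryTheory CategoryTheory.Limits AlgebraicGeometry TopologicalSpace Opposite MonoidalCategory
open scoped TensorProduct

namespace Groth.Agent.H23.K0TensorInv

open Groth.Agent LocFinCoprod K0Swindle SkyPoint KFlatLib CycleClassK K0Rat

variable {X : Scheme.{u}}

section Ten

variable (L : X.Modules)

/-- Tensoring with `L` on the right. -/
noncomputable def ten : X.Modules ⥤ X.Modules := DCoh.tensorBi.flip.obj L

instance : (ten L).Additive where
  map_add {A B f g} := by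
    show (DCoh.tensorBi.map (f + g)).app L = (DCoh.tensorBi.map f).app L + (DCoh.tensorBi.map g).app L
    rw [Functor.map_add]
    rfl

/-- `m ↦ m ⊗ t`. -/
noncomputable def sig (F : X.Modules) {x : X} (t : L.presheaf.stalk x) :
    F.presheaf.stalk x →ₗ[X.presheaf.stalk x] ((ten L).obj F).presheaf.stalk x :=
  (stalkTensorIso x F L).toLinearEquiv.toLinearMap ∘ₗ
    (TensorProduct.mk (X.presheaf.stalk x) (F.presheaf.stalk x) (L.presheaf.stalk x)).flip t

theorem sig_bijective (F : X.Modules) {x : X} {t : L.presheaf.stalk x} (ht : RatSec.IsGen t) :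
    Function.Bijective (sig L F t) := by
  let e : X.presheaf.stalk x ≃ₗ[X.presheaf.stalk x] L.presheaf.stalk x :=
    LinearEquiv.ofBijective (LinearMap.toSpanSingleton _ _ t)
      ⟨(injective_iff_map_eq_zero _).2 fun a ha => ht.2 a ha, fun m => by
        obtain ⟨a, ha⟩ := Submodule.mem_span_singleton.1 (ht.1.ge (Submodule.mem_top : m ∈ ⊤))
        exact ⟨a, ha⟩⟩
  let e' := (TensorProduct.rid (X.presheaf.stalk x) (F.presheaf.stalk x)).symm ≪≫ₗ
    TensorProduct.congr (LinearEquiv.refl _ _) e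
  have h : ∀ m, (TensorProduct.mk (X.presheaf.stalk x) (F.presheaf.stalk x) (L.presheaf.stalk x)).flip t m =
      e' m := fun m => by
    simp [e', e]
  refine (stalkTensorIso x F L).toLinearEquiv.bijective.comp ?_
  exact ⟨fun a b hab => e'.injective ((h a).symm.trans (hab.trans (h b))),
    fun y => let ⟨a, ha⟩ := e'.surjective y; ⟨a, (h a).trans ha⟩⟩

theorem stk_sig {F G : X.Modules} (f : F ⟶ G) {x : X} (t : L.presheaf.stalk x) (m : F.presheaf.stalk x) :
    stk ((ten L).map f) x (sig L F t m) = sig L G t (stk f x m) := by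
  have h := ConcreteCategory.congr_hom ((stalkTensorRightIso L x).inv.naturality f)
    (show ((DerSch.stalkFunctor X x ⋙ tensorRight ((DerSch.stalkFunctor X x).obj L)).obj F : Type u) from
      (show F.presheaf.stalk x from m) ⊗ₜ[X.presheaf.stalk x] (show L.presheaf.stalk x from t))
  exact h.symm

theorem spec_sig (F : X.Modules) {x ξ : X} (h : ξ ⤳ x) (t : L.presheaf.stalk x) (m : F.presheaf.stalk x) :
    spec ((ten L).obj F) h (sig L F t m) = sig L F (spec L h t) (spec F h m) := by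
  obtain ⟨U, hxU, a, rfl⟩ := F.presheaf.exists_germ_eq m
  obtain ⟨V, hxV, b, rfl⟩ := L.presheaf.exists_germ_eq t
  have hW : x ∈ U ⊓ V := ⟨hxU, hxV⟩
  rw [← TopCat.Presheaf.germ_res_apply (F := F.presheaf) (homOfLE (inf_le_left : U ⊓ V ≤ U)) x hW a,
    ← TopCat.Presheaf.germ_res_apply (F := L.presheaf) (homOfLE (inf_le_right : U ⊓ V ≤ V)) x hW b]
  generalize F.presheaf.map (homOfLE (inf_le_left : U ⊓ V ≤ U)).op a = a'
  generalize L.presheaf.map (homOfLE (inf_le_right : U ⊓ V ≤ V)).op b = b'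
  have e : ∀ (y : X) (hy : y ∈ U ⊓ V),
      sig L F (L.presheaf.germ (U ⊓ V) y hy b') (F.presheaf.germ (U ⊓ V) y hy a') =
        ((ten L).obj F).presheaf.germ (U ⊓ V) y hy (tmSh F L a' b') := fun y hy =>
    stalkTensorIso_gm F L (U ⊓ V) hy a' b'
  rw [spec_germ, spec_germ, e x hW, spec_germ]
  exact (e ξ _).symm

variable {L}

theorem nontrivial_ten (hL : PicF.IsInvertible L) (F : X.Modules) (x : X) :
    Nontrivial (((ten L).obj F).presheaf.stalk x) ↔ Nontrivial (F.presheaf.stalk x) := by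
  obtain ⟨t, ht, -⟩ := RatSec.exists_gen hL x
  exact (LinearEquiv.ofBijective _ (sig_bijective L F ht)).toEquiv.nontrivial_congr.symm

theorem length_ten (hL : PicF.IsInvertible L) (F : X.Modules) (x : X) :
    Module.length (X.presheaf.stalk x) (((ten L).obj F).presheaf.stalk x) =
      Module.length (X.presheaf.stalk x) (F.presheaf.stalk x) := by
  obtain ⟨t, ht, -⟩ := RatSec.exists_gen hL x
  exact (LinearEquiv.ofBijective _ (sig_bijective L F ht)).length_eq.symm

theorem sheafFun_ten (hL : PicF.IsInvertible L) (δ : X → ℤ) (k : ℤ) (F : X.Modules) :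
    Cyc.sheafFun δ k ((ten L).obj F) = Cyc.sheafFun δ k F := by
  funext x
  simp only [Cyc.sheafFun, length_ten hL]

theorem shortExact_ten (hL : PicF.IsInvertible L) {S : ShortComplex X.Modules} (hS : S.ShortExact) :
    (S.map (ten L)).ShortExact := by
  refine (shortExact_iff_stalk _).2 fun x => ?_
  obtain ⟨t, ht, -⟩ := RatSec.exists_gen hL x
  refine ShortComplex.shortExact_of_iso (S₁ := S.map (DerSch.stalkFunctor X x))
    (ShortComplex.isoMk (LinearEquiv.ofBijective _ (sig_bijective L S.X₁ ht)).toModuleIso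
      (LinearEquiv.ofBijective _ (sig_bijective L S.X₂ ht)).toModuleIso
      (LinearEquiv.ofBijective _ (sig_bijective L S.X₃ ht)).toModuleIso ?_ ?_)
    ((shortExact_iff_stalk S).1 hS x)
  · exact ModuleCat.hom_ext (LinearMap.ext fun m => stk_sig L S.f t m)
  · exact ModuleCat.hom_ext (LinearMap.ext fun m => stk_sig L S.g t m)

theorem isCoh_invertible (hL : PicF.IsInvertible L) : Coh.IsCoh L :=
  have h := InvEnd.isFinLocFreeOfRank_one hL
  have h' : FlatMod.IsFinLocFree L := fun x => let ⟨U, hx, hU⟩ := h x; ⟨U, 1, hx, hU⟩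
  ⟨QCoh.isQCoh_of_isFinLocFree h', QCoh.isFT_of_isFP (QCoh.isFP_of_isFinLocFree h')⟩

theorem isCoh_ten (hL : PicF.IsInvertible L) {F : X.Modules} (hF : Coh.IsCoh F) :
    Coh.IsCoh ((ten L).obj F) := by
  show Coh.IsCoh ((DCoh.tensorBi.obj F).obj L)
  refine QCoh.isCoh_iff.2 ⟨KFlatLib.isQCoh_tensor hF.1 (isCoh_invertible hL).1, fun U => ?_⟩
  haveI := QCoh.finite_sections hF U.2
  haveI := QCoh.finite_sections (isCoh_invertible hL) U.2
  exact Module.Finite.of_surjective (QCoh.tmLin F L U.1)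
    (QCoh.bijective_tmLin hF.1 (isCoh_invertible hL).1 U.2).2

theorem cohLe_ten (hL : PicF.IsInvertible L) {δ : X → ℤ} {k : ℤ} {F : X.Modules} (hF : Cyc.CohLe δ k F) :
    Cyc.CohLe δ k ((ten L).obj F) :=
  ⟨isCoh_ten hL hF.1, fun x hx => hF.2 x ((nontrivial_ten hL F x).1 hx)⟩

theorem isIso_tenCoprod (hL : PicF.IsInvertible L) {J : Type u} (M : J → X.Modules) :
    IsIso (Sigma.desc fun j => (ten L).map (Sigma.ι M j) : (∐ fun j => (ten L).obj (M j)) ⟶ (ten L).obj (∐ M)) := by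
  classical
  refine isIso_of_stalk _ fun x => ?_
  rw [ConcreteCategory.isIso_iff_bijective]
  obtain ⟨t, ht, -⟩ := RatSec.exists_gen hL x
  let N : J → X.Modules := fun j => (ten L).obj (M j)
  let c : ∐ N ⟶ (ten L).obj (∐ M) := Sigma.desc fun j => (ten L).map (Sigma.ι M j)
  have hc : ∀ j (m : (M j).presheaf.stalk x), stk c x (stk (Sigma.ι N j) x (sig L (M j) t m)) =
      sig L (∐ M) t (stk (Sigma.ι M j) x m) := fun j m => by
    rw [← stk_comp, Sigma.ι_desc]
    exact stk_sig L _ t m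
  have hb : Function.Bijective (stk c x) := by
    refine ⟨(injective_iff_map_eq_zero _).2 fun a ha => ?_, fun b => ?_⟩
    · obtain ⟨G, hG⟩ := exists_stalk_sum N x a
      choose m hm using fun j => (sig_bijective L (M j) ht).2 (stk (proj N j) x a)
      have h0 : sig L (∐ M) t (∑ j ∈ G, stk (Sigma.ι M j) x (m j)) = 0 := by
        rw [← ha, hG, map_sum, map_sum]
        exact Finset.sum_congr rfl fun j _ => by rw [← hc j (m j), hm j]
      have h1 : (∑ j ∈ G, stk (Sigma.ι M j) x (m j)) = 0 :=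
        (sig_bijective L (∐ M) ht).1 (h0.trans (map_zero _).symm)
      rw [hG]
      refine Finset.sum_eq_zero fun i hi => ?_
      have h2 := congrArg (stk (proj M i) x) h1
      rw [map_sum, map_zero, Finset.sum_eq_single i (fun j _ hj => by
        rw [← stk_comp, ι_proj_ne M hj, stk_zero]) (fun h => absurd hi h), ← stk_comp, ι_proj_self,
        stk_id] at h2
      rw [← hm i, h2, map_zero, map_zero]
    · obtain ⟨m, rfl⟩ := (sig_bijective L (∐ M) ht).2 b
      obtain ⟨G, hG⟩ := exists_stalk_sum M x m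
      refine ⟨∑ j ∈ G, stk (Sigma.ι N j) x (sig L (M j) t (stk (proj M j) x m)), ?_⟩
      conv_rhs => rw [hG]
      rw [map_sum, map_sum]
      exact Finset.sum_congr rfl fun j _ => hc j _
  exact hb

end Ten

variable [IsLocallyNoetherian X] {δ : X → ℤ}

/-- Two submodules of a skyscraper line and the lengths of their cokernels in the common span. -/
theorem exists_pair_gen (hd : Cyc.IsDimFun X δ) {ξ : X} {A B : X.Modules} (hA : Coh.IsCoh A) (hB : Coh.IsCoh B)
    (p : A ⟶ (sky ξ).obj (kmod ξ)) (q : B ⟶ (sky ξ).obj (kmod ξ)) [Mono p] [Mono q]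
    (e g : X → X.residueField ξ)
    (he : ∀ x, ξ ⤳ x → e x ≠ 0) (hg : ∀ x, ξ ⤳ x → g x ≠ 0)
    (hp : ∀ x (h : ξ ⤳ x), (∀ t, ∃ r : X.presheaf.stalk x,
        (show X.residueField ξ from evalAt h (kmod ξ) (stk p x t)) = Cyc.specMap x ξ h r * e x) ∧
      ∃ t, (show X.residueField ξ from evalAt h (kmod ξ) (stk p x t)) = e x)
    (hq : ∀ x (h : ξ ⤳ x), (∀ t, ∃ r : X.presheaf.stalk x,
        (show X.residueField ξ from evalAt h (kmod ξ) (stk q x t)) = Cyc.specMap x ξ h r * g x) ∧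
      ∃ t, (show X.residueField ξ from evalAt h (kmod ξ) (stk q x t)) = g x) :
    ∃ (M : X.Modules) (a : A ⟶ M) (b : B ⟶ M), Mono a ∧ Mono b ∧ Coh.IsCoh M ∧
      (∀ x, Nontrivial (M.presheaf.stalk x) → ξ ⤳ x) ∧
      (Function.Surjective (stk a ξ) ∧ Function.Surjective (stk b ξ)) ∧
      ∀ x (h : ξ ⤳ x), δ x + 1 = δ ξ →
        ((Module.length (X.presheaf.stalk x) ((cokernel b).presheaf.stalk x)).toNat : ℤ) -
          ((Module.length (X.presheaf.stalk x) ((cokernel a).presheaf.stalk x)).toNat : ℤ) =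
            Cyc.ordAt x ξ h (g x / e x) := by
  classical
  let T : ULift.{u} Bool → X.Modules := fun c => bif c.down then A else B
  let θ : ∐ T ⟶ (sky ξ).obj (kmod ξ) := Sigma.desc fun c =>
    match c with
    | ⟨true⟩ => p
    | ⟨false⟩ => q
  let ιM := Abelian.image.ι θ
  let a : A ⟶ Abelian.image θ := Sigma.ι T ⟨true⟩ ≫ Abelian.factorThruImage θ
  let b : B ⟶ Abelian.image θ := Sigma.ι T ⟨false⟩ ≫ Abelian.factorThruImage θ
  have ea : a ≫ ιM = p := by simp [a, ιM, θ]
  have eb : b ≫ ιM = q := by simp [b, ιM, θ]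
  haveI ma : Mono a := mono_of_mono_fac ea
  haveI mb : Mono b := mono_of_mono_fac eb
  have hT : Coh.IsCoh (∐ T) := isCoh_coprod (lf_of_finite T) fun c => by
    rcases c with ⟨_ | _⟩
    · exact hB
    · exact hA
  have hM : Coh.IsCoh (Abelian.image θ) :=
    isCoh_of_epi_image θ hT (isQCoh_sky_of_killed (kmod_killed ξ))
  have hsurj : ∀ {C : X.Modules} (c : C ⟶ Abelian.image θ) (r' : C ⟶ (sky ξ).obj (kmod ξ)) (v : X.residueField ξ),
      c ≫ ιM = r' → v ≠ 0 →
      (∃ t, (show X.residueField ξ from evalAt (specializes_refl ξ) (kmod ξ) (stk r' ξ t)) = v) →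
      Function.Surjective (stk c ξ) := by
    rintro C c r' v e' hv ⟨t, ht⟩ m
    obtain ⟨r, hr⟩ := X.residue_surjective ξ
      ((show X.residueField ξ from evalAt (specializes_refl ξ) (kmod ξ) (stk ιM ξ m)) / v)
    refine ⟨r • t, stk_injective_of_mono ιM ξ (evalAt_injective (specializes_refl ξ) ?_)⟩
    rw [← stk_comp, e', map_smul, evalAt_smul, TopCat.Presheaf.stalkSpecializes_refl]
    show r • evalAt (specializes_refl ξ) (kmod ξ) (stk r' ξ t) = _
    rw [kmod_smul]
    show (X.residue ξ r * (show X.residueField ξ from evalAt (specializes_refl ξ) (kmod ξ) (stk r' ξ t))) = _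
    rw [ht, hr, div_mul_cancel₀ _ hv]
  have hsa : Function.Surjective (stk a ξ) :=
    hsurj a p _ ea (he ξ (specializes_refl ξ)) (hp ξ (specializes_refl ξ)).2
  have hsb : Function.Surjective (stk b ξ) :=
    hsurj b q _ eb (hg ξ (specializes_refl ξ)) (hq ξ (specializes_refl ξ)).2
  refine ⟨Abelian.image θ, a, b, ma, mb, hM,
    fun x hx => specializes_of_nontrivial_sky (nontrivial_of_mono ιM hx), ⟨hsa, hsb⟩, fun x h hx => ?_⟩
  letI : Algebra (X.presheaf.stalk x) (X.residueField ξ) := (Cyc.specMap x ξ h).toAlgebra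
  haveI : IsScalarTower (X.presheaf.stalk x) (Cyc.LocQuot x ξ h) (X.residueField ξ) :=
    IsScalarTower.of_algebraMap_eq fun _ => rfl
  haveI := CycLib.krullDimLE_locQuot hd h hx
  let Φ : (Abelian.image θ).presheaf.stalk x →ₗ[X.presheaf.stalk x] X.residueField ξ :=
    { toFun := fun t => (show X.residueField ξ from evalAt h (kmod ξ) (stk ιM x t))
      map_add' := fun s t => by rw [map_add, map_add]
      map_smul' := fun r t => by
        rw [map_smul, evalAt_smul, kmod_smul, RingHom.id_apply, Algebra.smul_def]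
        rfl }
  have hΦ : Function.Injective Φ := fun s t e' => stk_injective_of_mono ιM x (evalAt_injective h e')
  let R := Cyc.LocQuot x ξ h
  have hres : ∀ v : X.residueField ξ,
      (R ∙ v).restrictScalars (X.presheaf.stalk x) = (X.presheaf.stalk x) ∙ v := fun v =>
    Submodule.restrictScalars_span _ R Ideal.Quotient.mk_surjective _
  have hrange : ∀ {C : X.Modules} (c : C ⟶ Abelian.image θ) (r' : C ⟶ (sky ξ).obj (kmod ξ)) (v : X.residueField ξ),
      c ≫ ιM = r' →
      ((∀ t, ∃ r : X.presheaf.stalk x,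
          (show X.residueField ξ from evalAt h (kmod ξ) (stk r' x t)) = Cyc.specMap x ξ h r * v) ∧
        ∃ t, (show X.residueField ξ from evalAt h (kmod ξ) (stk r' x t)) = v) →
      LinearMap.range (Φ ∘ₗ stk c x) = (R ∙ v).restrictScalars (X.presheaf.stalk x) := by
    rintro C c r' v e' ⟨h₁, t₀, h₂⟩
    have hΦc : ∀ t, Φ (stk c x t) = (show X.residueField ξ from evalAt h (kmod ξ) (stk r' x t)) := fun t => by
      show (show X.residueField ξ from evalAt h (kmod ξ) (stk ιM x (stk c x t))) = _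
      rw [← stk_comp, e']
    rw [hres]
    ext w
    rw [Submodule.mem_span_singleton, LinearMap.mem_range]
    constructor
    · rintro ⟨t, rfl⟩
      obtain ⟨r, hr⟩ := h₁ t
      refine ⟨r, ?_⟩
      rw [LinearMap.comp_apply, hΦc, hr, Algebra.smul_def]
      rfl
    · rintro ⟨r, rfl⟩
      refine ⟨r • t₀, ?_⟩
      rw [LinearMap.comp_apply, map_smul, map_smul, hΦc, h₂]
  let S : Submodule R (X.residueField ξ) := (R ∙ e x) ⊔ (R ∙ g x)
  haveI : Submodule.IsLattice (X.residueField ξ) S :=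
    ⟨(Submodule.fg_span_singleton _).sup (Submodule.fg_span_singleton _), eq_top_iff.2 fun y _ => by
      have h1 : (y / e x) • e x ∈ Submodule.span (X.residueField ξ) (S : Set (X.residueField ξ)) :=
        Submodule.smul_mem _ _ (Submodule.subset_span
          (Submodule.mem_sup_left (Submodule.mem_span_singleton_self _)))
      rwa [smul_eq_mul, div_mul_cancel₀ y (he x h)] at h1⟩
  have r1 := hrange a p (e x) ea (hp x h)
  have r2 := hrange b q (g x) eb (hq x h)
  have hrΦ : LinearMap.range Φ = S.restrictScalars (X.presheaf.stalk x) := by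
    show _ = Submodule.restrictScalars _ (_ ⊔ _)
    rw [Submodule.restrictScalars_sup, ← r1, ← r2]
    refine le_antisymm ?_ (sup_le (LinearMap.range_comp_le_range _ _) (LinearMap.range_comp_le_range _ _))
    rintro _ ⟨m, rfl⟩
    obtain ⟨w, rfl⟩ := stk_surjective_of_epi (Abelian.factorThruImage θ) x m
    have hw := stalk_sum T x Finset.univ (fun _ _ => Finset.mem_univ _) w
    rw [hw, map_sum, map_sum]
    refine Submodule.sum_mem _ fun c _ => ?_
    rcases c with ⟨_ | _⟩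
    · exact Submodule.mem_sup_right ⟨_, (congrArg Φ (stk_comp _ _ x _))⟩
    · exact Submodule.mem_sup_left ⟨_, (congrArg Φ (stk_comp _ _ x _))⟩
  have hR : Function.Surjective (algebraMap (X.presheaf.stalk x) R) := Ideal.Quotient.mk_surjective
  have la : Module.length (X.presheaf.stalk x) ((cokernel a).presheaf.stalk x) =
      IntThLib.relLen R S (R ∙ e x) := by
    rw [length_coker_stalk (T := ShortComplex.mk a (cokernel.π a) (cokernel.condition a))
        (.mk' (ShortComplex.exact_of_g_is_cokernel _ (cokernelIsCokernel a)) ma inferInstance)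
        hA.1 hM.1 (QCoh.isQCoh_cokernel hA.1 hM.1 a) x Φ hΦ, hrΦ, r1, relLen_restrictScalars hR]
  have lb : Module.length (X.presheaf.stalk x) ((cokernel b).presheaf.stalk x) =
      IntThLib.relLen R S (R ∙ g x) := by
    rw [length_coker_stalk (T := ShortComplex.mk b (cokernel.π b) (cokernel.condition b))
        (.mk' (ShortComplex.exact_of_g_is_cokernel _ (cokernelIsCokernel b)) mb inferInstance)
        hB.1 hM.1 (QCoh.isQCoh_cokernel hB.1 hM.1 b) x Φ hΦ, hrΦ, r2, relLen_restrictScalars hR]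
  obtain ⟨-, -, e'⟩ := ord_eq_relLen S (he x h) (hg x h)
    (Submodule.mem_sup_left (Submodule.mem_span_singleton_self _))
    (Submodule.mem_sup_right (Submodule.mem_span_singleton_self _))
  rw [la, lb, e']
  rfl

variable {L : X.Modules}

/-- The pair attached to a rational section of `L` on the closure of a point. -/
theorem exists_pair_sec (hd : Cyc.IsDimFun X δ) (hL : PicF.IsInvertible L) (ξ : X) (s : Cyc.secFibre L ξ)
    (hs : s ≠ 0) :
    ∃ (M : X.Modules) (a : Cyc.closureStructureSheaf ξ ⟶ M)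
      (b : (ten L).obj (Cyc.closureStructureSheaf ξ) ⟶ M), Mono a ∧ Mono b ∧ Coh.IsCoh M ∧
      (∀ x, Nontrivial (M.presheaf.stalk x) → ξ ⤳ x) ∧
      (Function.Surjective (stk a ξ) ∧ Function.Surjective (stk b ξ)) ∧
      ∀ x, ξ ⤳ x → δ x + 1 = δ ξ →
        ((Module.length (X.presheaf.stalk x) ((cokernel a).presheaf.stalk x)).toNat : ℤ) -
          ((Module.length (X.presheaf.stalk x) ((cokernel b).presheaf.stalk x)).toNat : ℤ) =
            Cyc.secDivFun δ L ξ s x := by
  classical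
  let O := Cyc.closureStructureSheaf ξ
  obtain ⟨tξ, htξ, -⟩ := RatSec.exists_gen hL ξ
  obtain ⟨c, hc⟩ := RatSec.exists_coord htξ s
  have hc0 : X.residue ξ c ≠ 0 := (RatSec.residue_ne_zero htξ).2 (hc ▸ hs)
  obtain ⟨φ₁, hφ₁⟩ := exists_vecLin (kmod ξ) (1 : IsLocalRing.ResidueField (X.presheaf.stalk ξ))
    fun a ha => kmod_killed ξ a ha _
  obtain ⟨φ₂, hφ₂⟩ := exists_vecLin (kmod ξ)
    (show IsLocalRing.ResidueField (X.presheaf.stalk ξ) from (X.residue ξ c)⁻¹)
    fun a ha => kmod_killed ξ a ha _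
  let ψ : ((ten L).obj O).presheaf.stalk ξ →ₗ[X.presheaf.stalk ξ] kmod ξ :=
    φ₂ ∘ₗ (LinearEquiv.ofBijective _ (sig_bijective L O htξ)).symm.toLinearMap
  have hψ : ∀ m, ψ (sig L O tξ m) = φ₂ m := fun m =>
    congrArg φ₂ ((LinearEquiv.ofBijective _ (sig_bijective L O htξ)).symm_apply_apply m)
  choose t ht ht' using fun x => RatSec.exists_gen hL x
  have hcoef : ∀ x : X, ∃ v : X.presheaf.stalk ξ, ∀ h : ξ ⤳ x, X.residue ξ v ≠ 0 ∧ spec L h (t x) = v • tξ := by
    intro x
    by_cases h : ξ ⤳ x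
    · obtain ⟨u, hu, e⟩ := htξ.of_span (ht' x ξ h).1
      exact ⟨u, fun h' => ⟨(hu.map (X.residue ξ).hom).ne_zero, e⟩⟩
    · exact ⟨0, fun h' => absurd h' h⟩
  choose v hv using hcoef
  let g : X → X.residueField ξ := fun x => X.residue ξ (v x) * (X.residue ξ c)⁻¹
  have hg : ∀ x, ξ ⤳ x → g x ≠ 0 := fun x h => mul_ne_zero (hv x h).1 (inv_ne_zero hc0)
  have eval1 : ∀ x (h : ξ ⤳ x) (r : X.presheaf.stalk x),
      (show X.residueField ξ from evalAt h (kmod ξ) (stk (toSky φ₁) x (r • gen ξ x))) =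
        Cyc.specMap x ξ h r * 1 := fun x h r => by
    rw [evalAt_toSky_gen, kmod_smul, hφ₁]
    rfl
  have eval2 : ∀ x (h : ξ ⤳ x) (r : X.presheaf.stalk x),
      (show X.residueField ξ from evalAt h (kmod ξ) (stk (toSky ψ) x (sig L O (t x) (r • gen ξ x)))) =
        Cyc.specMap x ξ h r * g x := fun x h r => by
    have e1 : sig L O (v x • tξ) (spec O h (r • gen ξ x)) = (v x) • sig L O tξ (spec O h (r • gen ξ x)) :=
      (congrArg (stalkTensorIso ξ O L).toLinearEquiv
        (TensorProduct.tmul_smul (v x) (spec O h (r • gen ξ x)) tξ)).trans (map_smul _ _ _)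
    rw [evalAt_toSky, spec_sig, (hv x h).2, e1, map_smul, hψ, spec_smul, spec_gen, map_smul, hφ₂,
      kmod_smul, kmod_smul]
    show X.residue ξ (v x) * (Cyc.specMap x ξ h r * (X.residue ξ c)⁻¹) = _ * (_ * _)
    ring
  haveI : Mono (toSky φ₁) := mono_toSky φ₁ (by rw [hφ₁]; exact one_ne_zero)
  haveI : Mono (toSky ψ) := mono_of_stk _ fun x => (injective_iff_map_eq_zero _).2 fun w hw => by
    obtain ⟨m, rfl⟩ := (sig_bijective L O (ht x)).2 w
    obtain ⟨r, rfl⟩ := exists_smul_gen ξ m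
    by_cases h : ξ ⤳ x
    · have h0 : Cyc.specMap x ξ h r * g x = 0 := by
        rw [← eval2 x h r, hw, map_zero]
      rw [smul_gen_eq_zero h r (Ideal.Quotient.eq_zero_iff_mem.1 ((mul_eq_zero.1 h0).resolve_right (hg x h))),
        map_zero]
    · haveI : Subsingleton ((Cyc.closureStructureSheaf ξ).presheaf.stalk x) :=
        not_nontrivial_iff_subsingleton.1 fun hn => h (specializes_of_nontrivial_closure hn)
      rw [Subsingleton.elim (α := (Cyc.closureStructureSheaf ξ).presheaf.stalk x) (r • gen ξ x) 0, map_zero]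
  obtain ⟨M, a, b, ma, mb, hM, hMs, hsurj, hlen⟩ := exists_pair_gen hd (isCoh_closure ξ)
    (isCoh_ten hL (isCoh_closure ξ)) (toSky φ₁) (toSky ψ) (fun _ => 1) g (fun _ _ => one_ne_zero) hg
    (fun x h => ⟨fun w => by
      obtain ⟨r, rfl⟩ := exists_smul_gen ξ w
      exact ⟨r, eval1 x h r⟩, ⟨(1 : X.presheaf.stalk x) • gen ξ x, by rw [eval1, map_one, one_mul]⟩⟩)
    (fun x h => ⟨fun w => by
      obtain ⟨m, rfl⟩ := (sig_bijective L O (ht x)).2 w
      obtain ⟨r, rfl⟩ := exists_smul_gen ξ m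
      exact ⟨r, eval2 x h r⟩,
      ⟨sig L O (t x) ((1 : X.presheaf.stalk x) • gen ξ x), by rw [eval2, map_one, one_mul]⟩⟩)
  refine ⟨M, a, b, ma, mb, hM, hMs, hsurj, fun x h hx => ?_⟩
  obtain ⟨vi, hvi⟩ := X.residue_surjective ξ ((X.residue ξ c) * (X.residue ξ (v x))⁻¹)
  have hres : X.residue ξ vi ≠ 0 := by
    rw [hvi]; exact mul_ne_zero hc0 (inv_ne_zero (hv x h).1)
  have hs' : s = vi • RatSec.cls L ξ (L.presheaf.stalkSpecializes h (t x)) := by
    show s = vi • RatSec.cls L ξ (spec L h (t x))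
    rw [(hv x h).2, RatSec.cls_smul, ← mul_smul, hc, RatSec.cls_smul_eq_iff htξ, map_mul, hvi,
      mul_assoc, inv_mul_cancel₀ (hv x h).1, mul_one]
  rw [RatSec.secDivFun_eq hL hd h (ht x).1 hs' hres, CycLib.divFun_eq δ _ h hx, hvi]
  have h1 := hlen x h hx
  rw [div_one] at h1
  have h2 := CycLib.ordAt_inv hd h hx (hg x h)
  have e3 : (g x)⁻¹ = X.residue ξ c * (X.residue ξ (v x))⁻¹ := by
    simp [g, mul_comm]
  rw [e3] at h2
  omega

theorem tK_ses_ten (hL : PicF.IsInvertible L) {a b : ℤ} {S : ShortComplex X.Modules} (hS : S.ShortExact)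
    (h₁ : Cyc.CohLe δ a S.X₁) (h₂ : Cyc.CohLe δ a S.X₂) (h₃ : Cyc.CohLe δ a S.X₃) :
    Cyc.toK0CohQuot δ a b ((ten L).obj S.X₂) =
      Cyc.toK0CohQuot δ a b ((ten L).obj S.X₁) + Cyc.toK0CohQuot δ a b ((ten L).obj S.X₃) := by
  have k₁ : Cyc.CohLe δ a ((ten L).obj S.X₁) := cohLe_ten hL h₁
  have k₂ : Cyc.CohLe δ a ((ten L).obj S.X₂) := cohLe_ten hL h₂
  have k₃ : Cyc.CohLe δ a ((ten L).obj S.X₃) := cohLe_ten hL h₃
  exact tK_ses (S := S.map (ten L)) (shortExact_ten hL hS) k₁ k₂ k₃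

theorem nontrivial_of_gen (ξ : X) : Nontrivial ((Cyc.closureStructureSheaf ξ).presheaf.stalk ξ) :=
  ⟨⟨gen ξ ξ, 0, gen_ne_zero ξ⟩⟩

/-- Summing over the copies of a point. -/
theorem finsum_sigma_card (β : X → ℤ) (hβ : ∀ x, 0 ≤ β x) (f : X → ℤ)
    (hf : ({x | 0 < β x} ∩ Function.support f).Finite) :
    ∑ᶠ x, β x * f x = ∑ᶠ j : (Σ ζ : {x : X // 0 < β x}, Fin (β ζ.1).toNat), f j.1.1 := by
  classical
  rw [finsum_eq_sum_of_support_subset _ (s := hf.toFinset) fun x hx => ?_,
    finsum_eq_sum_of_support_subset _ (s := (hf.toFinset.subtype fun x => 0 < β x).sigma fun _ => Finset.univ)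
      fun j hj => ?_,
    Finset.sum_sigma]
  · simp only [Finset.sum_const, Finset.card_univ, Fintype.card_fin]
    rw [Finset.sum_subtype_eq_sum_filter (f := fun x => (β x).toNat • f x), Finset.sum_filter]
    refine Finset.sum_congr rfl fun x hx => ?_
    rw [if_pos (show 0 < β x from (hf.mem_toFinset.1 hx).1)]
    simp [Int.toNat_of_nonneg (hβ x)]
  · rw [Finset.mem_coe, Finset.mem_sigma, Finset.mem_subtype, hf.mem_toFinset]
    exact ⟨⟨j.1.2, hj⟩, Finset.mem_univ _⟩
  · rw [Set.Finite.coe_toFinset]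
    refine ⟨lt_of_le_of_ne (hβ x) fun h => hx ?_, fun h => hx ?_⟩
    · show β x * f x = 0
      rw [← h, zero_mul]
    · show β x * f x = 0
      rw [h, mul_zero]

omit [IsLocallyNoetherian X] in
theorem finite_cap {S : Set X} (hS : LFPts S) (x : X)
    (s : (ξ : X) → Cyc.secFibre L ξ) :
    (S ∩ Function.support fun ξ => Cyc.secDivFun δ L ξ (s ξ) x).Finite := by
  obtain ⟨U, hx, hU⟩ := hS x
  refine hU.subset ?_
  rintro ξ ⟨hS', hξ⟩
  refine ⟨hS', ?_⟩
  by_contra hc
  refine hξ ?_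
  show Cyc.secDivFun δ L ξ (s ξ) x = 0
  rw [Cyc.secDivFun, dif_neg fun h => hc (h.1.mem_open U.2 hx)]

/-- Twisting by `L` changes a class by `c₁(L)` capped with its cycle. -/
theorem tK_tensor_sub (hd : Cyc.IsDimFun X δ) (hL : PicF.IsInvertible L) {k : ℤ} {F : X.Modules}
    (hF : Cyc.CohLe δ (k + 1) F) (s : (ξ : X) → Cyc.secFibre L ξ) (hs : ∀ ξ, s ξ ≠ 0)
    (γ : AlgebraicCycle X ℤ) (hγk : γ ∈ Cyc.Zk X δ k)
    (hγ : ⇑γ = Cyc.c1CapFun δ L (Cyc.sheafFun δ (k + 1) F) s) :
    Cyc.toK0CohQuot δ (k + 1) (k - 1) ((ten L).obj F) - Cyc.toK0CohQuot δ (k + 1) (k - 1) F =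
      Cyc.toK0CohQuot δ (k + 1) (k - 1) (Cyc.cycleSheafPos ⇑γ) -
        Cyc.toK0CohQuot δ (k + 1) (k - 1) (Cyc.cycleSheafNeg ⇑γ) := by
  classical
  obtain ⟨Q, hQ⟩ := exists_quotMap (X := X) δ (a := k) (a' := k + 1) (b := k - 1) (by omega)
  let D : X.Modules → Cyc.K0CohQuot δ (k + 1) (k - 1) := fun G =>
    Cyc.toK0CohQuot δ (k + 1) (k - 1) ((ten L).obj G) - Cyc.toK0CohQuot δ (k + 1) (k - 1) G
  obtain ⟨Df, hDf⟩ := KZ.exists_liftSub (Cyc.CohLe δ (k + 1)) D fun S hS a b c => by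
    show _ - _ = _ - _ + (_ - _)
    have h1 := tK_ses (b := k - 1) hS a b c
    have h2 := tK_ses_ten (b := k - 1) hL hS a b c
    rw [h1, h2]
    abel
  have hsmall : ∀ G, Cyc.CohLe δ k G → D G = 0 := fun G hG => sub_eq_zero.2 (by
    rw [← hQ G hG, ← hQ _ (cohLe_ten hL hG),
      tK_eq_of_sheafFun hd (cohLe_ten hL hG) hG (sheafFun_ten hL δ k G)])
  have hk' : k + 1 - 1 = k := by omega
  let Dq : Cyc.K0CohQuot δ (k + 1) k →+ Cyc.K0CohQuot δ (k + 1) (k - 1) :=
    QuotientAddGroup.lift _ Df ((AddSubgroup.closure_le _).2 (by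
      rintro _ ⟨G, hG, rfl⟩
      show Df _ = 0
      rw [hDf G (cohLe_mono (by omega) hG), hsmall G hG]))
  have hDq : ∀ G, Cyc.CohLe δ (k + 1) G → Dq (Cyc.toK0CohQuot δ (k + 1) k G) = D G := fun G hG => hDf G hG
  set β := Cyc.sheafFun δ (k + 1) F with hβdef
  have hβ : ∀ ξ, 0 < β ξ → δ ξ = k + 1 := fun ξ h => (nontrivial_of_sheafFun h.ne').1
  have hLF : LFPts {x | 0 < β x} := (lfPts_sheafFun hd hF).mono fun x h => ne_of_gt h
  have hP : Cyc.CohLe δ (k + 1) (Cyc.cycleSheafPos β) := cohLe_pos β hd hLF fun x h => (hβ x h).le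
  have step1 : D F = D (Cyc.cycleSheafPos β) := by
    have e := tK_eq_pos hd hF
    rw [hk'] at e
    rw [← hDq F hF, e, hDq _ hP]
  show D F = _
  rw [step1]
  let J := Σ ζ : {x : X // 0 < β x}, Fin (β ζ.1).toNat
  choose M a b ma mb hM hMs hsurj hlen using fun j : J => exists_pair_sec hd hL j.1.1 (s j.1.1) (hs _)
  have hlfJ : ∀ N : J → X.Modules, (∀ j x, Nontrivial ((N j).presheaf.stalk x) → j.1.1 ⤳ x) → LF N :=
    fun N hN x => by
      obtain ⟨U, hx, hU⟩ := lf_posFam β hLF x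
      refine ⟨U, hx, hU.subset ?_⟩
      rintro j ⟨y, hy, hn⟩
      exact ⟨j.1.1, (hN j y hn).mem_open U.2 hy, nontrivial_of_gen j.1.1⟩
  let A : J → X.Modules := fun j => Cyc.closureStructureSheaf j.1.1
  let B : J → X.Modules := fun j => (ten L).obj (Cyc.closureStructureSheaf j.1.1)
  have hBs : ∀ j x, Nontrivial ((B j).presheaf.stalk x) → j.1.1 ⤳ x := fun j x hx =>
    specializes_of_nontrivial_closure ((nontrivial_ten hL _ x).1 hx)
  have hle1 : ∀ {N : X.Modules} (j : J), Coh.IsCoh N → (∀ x, Nontrivial (N.presheaf.stalk x) → j.1.1 ⤳ x) →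
      Cyc.CohLe δ (k + 1) N := fun {N} j hN hs' => ⟨hN, fun x hx => by
    rcases eq_or_ne j.1.1 x with h | h
    · exact h ▸ (hβ _ j.1.2).le
    · exact (CycLib.delta_lt hd (hs' x hx) h).le.trans (hβ _ j.1.2).le⟩
  have hc : ∀ {N : X.Modules} (j : J) (g : N ⟶ M j), Coh.IsQCoh N → Function.Surjective (stk g j.1.1) →
      Cyc.CohLe δ k (cokernel g) ∧ ∀ x, Nontrivial ((cokernel g).presheaf.stalk x) → j.1.1 ⤳ x := by
    intro N j g hN hg
    have hs' : ∀ x, Nontrivial ((cokernel g).presheaf.stalk x) → j.1.1 ⤳ x := fun x hx =>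
      hMs j x (nontrivial_of_epi (cokernel.π g) hx)
    refine ⟨⟨QCoh.isCoh_cokernel hN (hM j) g, fun x hx => ?_⟩, hs'⟩
    have hne : j.1.1 ≠ x := fun h => by
      subst h
      refine not_subsingleton_iff_nontrivial.2 hx (subsingleton_of_forall_eq 0 fun w => ?_)
      obtain ⟨m, rfl⟩ := stk_surjective_of_epi (cokernel.π g) _ w
      obtain ⟨d, rfl⟩ := hg m
      rw [← stk_comp, cokernel.condition, stk_zero]
    have := CycLib.delta_lt hd (hs' x hx) hne
    have := hβ _ j.1.2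
    omega
  have hseq : ∀ (N : J → X.Modules) (g : ∀ j, N j ⟶ M j), (∀ j, Mono (g j)) → (∀ j, Coh.IsCoh (N j)) →
      (∀ j x, Nontrivial ((N j).presheaf.stalk x) → j.1.1 ⤳ x) →
      (∀ j, Function.Surjective (stk (g j) j.1.1)) →
      Cyc.toK0CohQuot δ (k + 1) (k - 1) (∐ M) = Cyc.toK0CohQuot δ (k + 1) (k - 1) (∐ N) +
        Cyc.toK0CohQuot δ (k + 1) (k - 1) (∐ fun j => cokernel (g j)) := by
    intro N g hg hN hNs hsg
    have e := cl_coprod_ses (cohClosed_cohLe δ (k + 1))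
      (fun j => ShortComplex.mk (g j) (cokernel.π (g j)) (cokernel.condition (g j)))
      (fun j => .mk' (ShortComplex.exact_of_g_is_cokernel _ (cokernelIsCokernel (g j))) (hg j) inferInstance)
      (hlfJ M hMs) (fun j => hle1 j (hN j) (hNs j)) (fun j => hle1 j (hM j) (hMs j))
      fun j => cohLe_mono (by omega) (hc j (g j) (hN j).1 (hsg j)).1
    simp only [Cyc.toK0CohQuot, ← QuotientAddGroup.mk_add, e]
  have hA' : ∀ j, Coh.IsCoh (A j) := fun j => isCoh_closure _
  have hB' : ∀ j, Coh.IsCoh (B j) := fun j => isCoh_ten hL (isCoh_closure _)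
  have ea := hseq A a ma hA' (fun j x hx => specializes_of_nontrivial_closure hx) fun j => (hsurj j).1
  have eb := hseq B b mb hB' hBs fun j => (hsurj j).2
  haveI := isIso_tenCoprod hL A
  have eT : Cyc.toK0CohQuot δ (k + 1) (k - 1) ((ten L).obj (Cyc.cycleSheafPos β)) =
      Cyc.toK0CohQuot δ (k + 1) (k - 1) (∐ B) :=
    (tK_of_cl_eq (cl_iso (cohClosed_cohLe δ (k + 1))
      (asIso (Sigma.desc fun j => (ten L).map (Sigma.ι A j)))
      ((cohClosed_cohLe δ (k + 1)).sigma (hlfJ B hBs) fun j => hle1 j (hB' j) (hBs j)))).symm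
  have hCa := fun j => hc j (a j) (hA' j).1 (hsurj j).1
  have hCb := fun j => hc j (b j) (hB' j).1 (hsurj j).2
  have hA : Cyc.CohLe δ k (∐ fun j => cokernel (a j)) :=
    (cohClosed_cohLe δ k).sigma (hlfJ _ fun j => (hCa j).2) fun j => (hCa j).1
  have hB : Cyc.CohLe δ k (∐ fun j => cokernel (b j)) :=
    (cohClosed_cohLe δ k).sigma (hlfJ _ fun j => (hCb j).2) fun j => (hCb j).1
  obtain ⟨hp, hn⟩ := cohLe_cyclePosNeg hd γ hγk
  obtain ⟨ψ, hψ, hinj, -⟩ := exists_equiv_cycles hd k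
  have key : Cyc.toK0CohQuot δ k (k - 1) (Cyc.cycleSheafPos ⇑γ) -
      Cyc.toK0CohQuot δ k (k - 1) (Cyc.cycleSheafNeg ⇑γ) =
      Cyc.toK0CohQuot δ k (k - 1) (∐ fun j => cokernel (a j)) -
        Cyc.toK0CohQuot δ k (k - 1) (∐ fun j => cokernel (b j)) := by
    refine hinj ?_
    rw [map_sub, map_sub, hψ _ hp, hψ _ hn, hψ _ hA, hψ _ hB,
      sheafFun_pos_sub_neg hd ⇑γ fun x hx => by_contra fun hne => hx (hγk x hne)]
    funext x
    obtain ⟨fa, ea'⟩ := sheafFun_coprod hd (hlfJ _ fun j => (hCa j).2) (fun j => (hCa j).1) x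
    obtain ⟨fb, eb'⟩ := sheafFun_coprod hd (hlfJ _ fun j => (hCb j).2) (fun j => (hCb j).1) x
    rw [Pi.sub_apply, ea', eb', hγ, ← finsum_sub_distrib fa fb, Cyc.c1CapFun]
    have hj : ∀ j : J, Cyc.sheafFun δ k (cokernel (a j)) x - Cyc.sheafFun δ k (cokernel (b j)) x =
        Cyc.secDivFun δ L j.1.1 (s j.1.1) x := fun j => by
      by_cases hx : j.1.1 ⤳ x ∧ δ x + 1 = δ j.1.1
      · have hxk : δ x = k := by have := hβ _ j.1.2; omega
        rw [← hlen j x hx.1 hx.2, Cyc.sheafFun, Cyc.sheafFun, if_pos hxk, if_pos hxk]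
      · rw [Cyc.secDivFun, dif_neg hx]
        have hz : ∀ {N : X.Modules} (g : N ⟶ M j), Cyc.CohLe δ k (cokernel g) →
            (∀ x, Nontrivial ((cokernel g).presheaf.stalk x) → j.1.1 ⤳ x) →
            Cyc.sheafFun δ k (cokernel g) x = 0 := fun g _ hg => by
          by_contra hne
          obtain ⟨h1, h2⟩ := nontrivial_of_sheafFun hne
          exact hx ⟨hg x h2, by rw [h1, hβ _ j.1.2]⟩
        rw [hz (a j) (hCa j).1 (hCa j).2, hz (b j) (hCb j).1 (hCb j).2, sub_zero]
    rw [finsum_congr hj]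
    exact (finsum_sigma_card β (fun ξ => sheafFun_nonneg δ (k + 1) F ξ)
      (fun ξ => Cyc.secDivFun δ L ξ (s ξ) x) (finite_cap (δ := δ) hLF x fun ξ => s ξ))
  have e := congrArg Q key
  rw [map_sub, map_sub, hQ _ hp, hQ _ hn, hQ _ hA, hQ _ hB] at e
  show Cyc.toK0CohQuot δ (k + 1) (k - 1) ((ten L).obj (Cyc.cycleSheafPos β)) -
    Cyc.toK0CohQuot δ (k + 1) (k - 1) (∐ A) = _
  rw [eT, e, sub_eq_sub_iff_add_eq_add]
  rw [ea] at eb
  rw [← eb]
  abel

end Groth.Agent.H23.K0TensorInv
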