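import Groth.Agent.H23.KoszCut
import Groth.Agent.H28.PBCohPush
import Groth.Agent.H28.PBAtlas
import Groth.Agent.RefX.Transfer
import Groth.Agent.H23.PicMul
import Groth.Prelude.Def_KDet

/-!
# The class of the zero scheme of a regular cosection
-/

set_option autoImplicit false
set_option linter.style.haveILetI false
set_option linter.unusedSectionVars false
set_option backward.isDefEq.respectTransparency false
set_option backward.isDefEq.respectTransparency.types false

universe v u

open CategoryTheory CategoryTheory.Limits AlgebraicGeometry TopologicalSpace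

noncomputable section

namespace Groth.Agent.H23.KoszCut

open Groth.Agent Groth.Agent.H28

variable {X : Scheme.{u}} [IsNoetherian X]

/-- The class of the cokernel of an exact complex is the alternating sum of the terms. -/
theorem clc_cokernel_eq_sum {L : ChainComplex X.Modules ℕ} {n : ℕ} (hc : ∀ k, Coh.IsCoh (L.X k))
    (hex : ∀ k, L.ExactAt (k + 1)) (h0 : ∀ k, n < k → IsZero (L.X k)) :
    KDet.clc X (cokernel (L.d 1 0)) = ∑ k ∈ Finset.range (n + 1), (-1 : ℤ) ^ k • KDet.clc X (L.X k) := by
  have hop : ∀ k, Coh.IsCoh (L.opcycles k) := fun k => by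
    have hh := L.opcyclesIsCokernel (k + 1) k (by simp)
    have h1 : Coh.IsQCoh (L.opcycles k) :=
      (QCoh.isQCoh_iff_iso ((cokernelIsCokernel (L.d (k + 1) k)).coconePointUniqueUpToIso hh)).1
        (QCoh.isQCoh_cokernel (hc (k + 1)).1 (hc k).1 _)
    exact QCoh.isCoh_of_epi (L.pOpcycles k) (hc k) h1
  have key : ∀ j k, k + j = n + 1 →
      KDet.clc X (L.opcycles k) = ∑ i ∈ Finset.range j, (-1 : ℤ) ^ i • KDet.clc X (L.X (k + i)) := by
    intro j
    induction j with
    | zero =>
      intro k hk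
      rw [Finset.range_zero, Finset.sum_empty]
      exact KZ.clSub_isZero _ (IsZero.of_epi (L.pOpcycles k) (h0 k (by omega)))
    | succ j ih =>
      intro k hk
      haveI : Mono (L.fromOpcycles (k + 1) k) := by
        have h' := (L.exactAt_iff' (k + 2) (k + 1) k (by simp) (by simp)).1 (hex k)
        have := h'.mono_fromOpcycles
        have e : L.fromOpcycles (k + 1) k = (L.opcyclesIsoSc' (k + 2) (k + 1) k (by simp) (by simp)).hom ≫
            (L.sc' (k + 2) (k + 1) k).fromOpcycles := by
          rw [← cancel_epi (L.pOpcycles (k + 1))]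
          rw [L.p_fromOpcycles, HomologicalComplex.pOpcycles_opcyclesIsoSc'_hom_assoc, ShortComplex.p_fromOpcycles]
          rfl
        rw [e]
        infer_instance
      let S := ShortComplex.mk (L.fromOpcycles (k + 1) k) (L.pOpcycles k)
        (by rw [← cancel_epi (L.pOpcycles (k + 1))]; simp)
      have hS : S.ShortExact := by
        refine .mk' ?_ inferInstance inferInstance
        refine ShortComplex.exact_of_g_is_cokernel _ (CokernelCofork.IsColimit.ofπ _ _
          (fun g hg => L.descOpcycles g (k + 1) (by simp) (by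
            rw [← L.p_fromOpcycles, Category.assoc]
            exact (congrArg _ hg).trans comp_zero))
          (fun g hg => L.p_descOpcycles _ _ _ _) (fun g hg b hb => ?_))
        rw [← cancel_epi (L.pOpcycles k), L.p_descOpcycles]
        exact hb
      have hses : KDet.clc X (L.X k) = KDet.clc X (L.opcycles (k + 1)) + KDet.clc X (L.opcycles k) :=
        KZ.clSub_ses (fun M : X.Modules => Coh.IsCoh M) hS (hop (k + 1)) (hc k) (hop k)
      rw [Finset.sum_range_succ', pow_zero, one_smul, add_zero, eq_sub_of_add_eq' hses.symm, ih (k + 1) (by omega),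
        sub_eq_add_neg, add_comm, ← Finset.sum_neg_distrib]
      refine congrArg (· + _) (Finset.sum_congr rfl fun i _ => ?_)
      rw [pow_succ, mul_neg_one, neg_smul, show k + 1 + i = k + (i + 1) by omega]
  have hcok : Coh.IsCoh (cokernel (L.d 1 0)) := QCoh.isCoh_cokernel (hc 1).1 (hc 0) _
  rw [show KDet.clc X (cokernel (L.d 1 0)) = KDet.clc X (L.opcycles 0) from
    PBCohPush.clc_iso ((cokernelIsCokernel _).coconePointUniqueUpToIso (L.opcyclesIsCokernel 1 0 (by simp)))
      hcok (hop 0), key (n + 1) 0 (by omega)]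
  simp only [zero_add]

variable {K : Type v} [CommRing K] [LambdaRing.LambdaOps K] {P : LambdaRing.PosStructure K}
  {φ : SGA6.Kvb X →+ K} {μ : K →+ SGA6.Kcoh X →+ SGA6.Kcoh X}

/-- Capping with `λ₋₁` gives the class of the zero scheme. -/
theorem cap_lamAlt (hK : KRR.IsModel X K P φ) (hμ : KDet.IsCap φ μ) {n : ℕ} {E' : X.Modules}
    (hE : FlatMod.IsFinLocFreeOfRank n E') {s : E' ⟶ Coh.structureModule X} (C : KoszSh.Cx E' s) {F : X.Modules}
    (hF : Coh.IsCoh F) (hreg : ∀ q : ℕ, 1 ≤ q → IsZero ((cx C F).homology q)) :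
    μ (KRR.lamAlt P (φ (KRR.cl X E'))) (KDet.clc X F) = KDet.clc X (FV C F) := by
  have hEl := KvbModel.lf_of_rank hE
  have hlf : ∀ p, FlatMod.IsFinLocFree (C.K.X p) := fun p => by
    obtain ⟨e⟩ := ExtSh.nonempty_iso_L (m := p) hEl (C.isExtPow p)
    exact PBAtlas.lf_of_iso e (ExtSh.isFinLocFree_L p hEl)
  have hc : ∀ p, Coh.IsCoh ((cx C F).X p) := fun p => by
    obtain ⟨c⟩ := H23.PicMul.comm (C.K.X p) F
    exact RefX.isCoh_of_iso c (CurveTensor.isCoh_tensor (hlf p) hF)
  have h0 : ∀ p, n < p → IsZero ((cx C F).X p) := fun p hp => by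
    obtain ⟨e⟩ := ExtSh.nonempty_iso_L (m := p) hEl (C.isExtPow p)
    exact (DCoh.tensorBi.obj F).map_isZero ((KvbModel.isZero_L hE hp).of_iso e.symm)
  have hex : ∀ k, (cx C F).ExactAt (k + 1) := fun k =>
    (HomologicalComplex.exactAt_iff_isZero_homology _ _).2 (hreg (k + 1) (by omega))
  have hrk : P.aug (φ (KRR.cl X E')) = (n : ℤ) := hK.aug_cl n E' hE
  rw [show KDet.clc X (FV C F) = KDet.clc X (cokernel ((cx C F).d 1 0)) from rfl, clc_cokernel_eq_sum hc hex h0,
    KRR.lamAlt, hrk, Int.toNat_natCast, map_sum, AddMonoidHom.finset_sum_apply]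
  refine Finset.sum_congr rfl fun i _ => ?_
  rw [hK.map_lam i E' (C.K.X i) hEl (hlf i) (C.isExtPow i),
    show (-1 : K) ^ i * φ (KRR.cl X (C.K.X i)) = ((-1 : ℤ) ^ i) • φ (KRR.cl X (C.K.X i)) by
      rw [zsmul_eq_mul]; push_cast; rfl,
    map_zsmul, AddMonoidHom.zsmul_apply, hμ.map_cl _ _ (hlf i) hF]
  obtain ⟨c⟩ := H23.PicMul.comm (C.K.X i) F
  exact congrArg (((-1 : ℤ) ^ i) • ·) (PBCohPush.clc_iso c (CurveTensor.isCoh_tensor (hlf i) hF) (hc i))

end Groth.Agent.H23.KoszCut
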