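import Groth.Prelude.Def_KoszulSh
import Groth.Prelude.Def_CInt
import Groth.Agent.S2868
import Groth.Agent.KoszTw16.Basic
import Groth.Agent.CurveTree.Ideal
import Groth.Agent.H23.SheafPush
import Groth.Agent.Lib.NegVanClosed
import Groth.Agent.H28.KvbModel
import Groth.Agent.H28.ExtSh
import Groth.Agent.H23.GammaCap.Deep
import Mathlib.RingTheory.KrullDimension.Regular

/-!
# A regular cosection cuts the support down
-/

set_option autoImplicit false
set_option linter.style.haveILetI false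
set_option linter.unusedSectionVars false
set_option backward.isDefEq.respectTransparency false
set_option backward.isDefEq.respectTransparency.types false
set_option maxHeartbeats 1000000

universe u

open CategoryTheory CategoryTheory.Limits AlgebraicGeometry TopologicalSpace
open exteriorPower
open scoped TensorProduct

noncomputable section

namespace Groth.Agent.H23.KoszCut

open Groth.Agent Groth.Agent.H28

section Algebra

variable {A B : Type u} [CommRing A] [CommRing B] [Algebra A B] (S : Submonoid A) [IsLocalization S B]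
  {M : Type u} [AddCommGroup M] [Module A M] {N : Type u} [AddCommGroup N] [Module A N] [Module B N]
  [IsScalarTower A B N]

/-- Vanishing of the first homology localizes. -/
theorem koszulH1Zero_localized (g : M →ₗ[A] N) [IsLocalizedModule S g] {n : ℕ} (f : Fin n → A)
    (h : CInt.KoszulH1Zero f M) : CInt.KoszulH1Zero (fun i => algebraMap A B (f i)) N := by
  classical
  intro m hm
  obtain ⟨t, ht⟩ := IsLocalizedModule.exist_integer_multiples_of_finite S g m
  choose v hv using ht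
  have hsum : g (∑ i, f i • v i) = 0 := by
    rw [map_sum]
    calc ∑ i, g (f i • v i) = ∑ i, (t : A) • (algebraMap A B (f i) • m i) := by
          refine Finset.sum_congr rfl fun i _ => ?_
          rw [map_smul, hv, algebraMap_smul, smul_comm]
      _ = 0 := by rw [← Finset.smul_sum, hm, smul_zero]
  obtain ⟨c, hc⟩ := (IsLocalizedModule.eq_iff_exists S g).1 (hsum.trans (map_zero g).symm)
  rw [smul_zero] at hc
  have hmem := h (fun i => (c : A) • v i) (by
    rw [← hc, Submonoid.smul_def, Finset.smul_sum]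
    exact Finset.sum_congr rfl fun i _ => smul_comm _ _ _)
  let G : (Fin n → M) →ₗ[A] (Fin n → N) := g.compLeft (Fin n)
  set T := Submodule.span B {v : Fin n → N | ∃ (i j : Fin n) (x : N), v = algebraMap A B (f j) • (Pi.single i x : Fin n → N) - algebraMap A B (f i) • (Pi.single j x : Fin n → N)}
  have hG : (fun i => (c : A) • v i) ∈ (T.restrictScalars A).comap G := by
    refine Submodule.span_le.2 ?_ hmem
    rintro _ ⟨i, j, x, rfl⟩
    refine Submodule.subset_span ⟨i, j, g x, ?_⟩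
    rw [algebraMap_smul, algebraMap_smul]
    funext k
    show g (f j • (Pi.single i x : Fin n → M) k - f i • (Pi.single j x : Fin n → M) k) = _
    rw [map_sub, map_smul, map_smul, Pi.sub_apply, Pi.smul_apply, Pi.smul_apply,
      Pi.apply_single (fun _ => g) (fun _ => map_zero g), Pi.apply_single (fun _ => g) (fun _ => map_zero g)]
  have hu : IsUnit (algebraMap A B ((c : A) * t)) := IsLocalization.map_units B (c * t)
  have hmm : m = hu.unit⁻¹.val • G (fun i => (c : A) • v i) := by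
    funext i
    show m i = hu.unit⁻¹.val • g ((c : A) • v i)
    rw [map_smul, hv, ← mul_smul (c : A) (t : A), ← algebraMap_smul B ((c : A) * t) (m i), ← mul_smul,
      IsUnit.val_inv_mul, one_smul]
  rw [hmm]
  exact T.smul_mem _ hG

end Algebra

variable {X : Scheme.{u}} {n : ℕ} {E' : X.Modules} {s : E' ⟶ Coh.structureModule X} (C : KoszSh.Cx E' s)
  (F : X.Modules)

/-- The complex of a cosection with values in a module. -/
abbrev cx : ChainComplex X.Modules ℕ :=
  (((DCoh.tensorBi (X := X)).obj F).mapHomologicalComplex (ComplexShape.down ℕ)).obj C.K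

theorem app_tmS {K K' : X.Modules} (g : K ⟶ K') {W : X.Opens} (m : Γ(F, W)) (w : Γ(K, W)) :
    (((DCoh.tensorBi (X := X)).obj F).map g).app W (QCoh.tmS F K m w) = QCoh.tmS F K' m (g.app W w) := by
  have h : ((DCoh.tensorBi (X := X)).obj F).map g = KoszTw.tensorMap (𝟙 F) g := by
    show _ = (DCoh.tensorBi.map (𝟙 F)).app _ ≫ _
    rw [CategoryTheory.Functor.map_id, NatTrans.id_app]
    exact (Category.id_comp _).symm
  rw [h]
  exact KoszTw.tensorMap_tmul (𝟙 F) g W m w

theorem isQCoh_term (hE : FlatMod.IsFinLocFree E') (p : ℕ) : Coh.IsQCoh (C.K.X p) := by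
  obtain ⟨e⟩ := ExtSh.nonempty_iso_L (m := p) hE (C.isExtPow p)
  exact (QCoh.isQCoh_iff_iso e).1 (QCoh.isQCoh_of_isFP (QCoh.isFP_of_isFinLocFree (ExtSh.isFinLocFree_L p hE)))

variable {W : X.Opens} (hW : IsAffineOpen W) (b : Module.Basis (Fin n) Γ(X, W) Γ(E', W))

/-- The values of the cosection on a basis. -/
abbrev val (s : E' ⟶ Coh.structureModule X) (i : Fin n) : Γ(X, W) := KoszSh.secForm s W (b i)

/-- The basic element in degree zero. -/
def u0 : Γ(C.K.X 0, W) := (C.loc 0 ⟨W, hW⟩).symm (ιMulti _ 0 Fin.elim0)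

/-- The basic elements in degree one. -/
def u1 (i : Fin n) : Γ(C.K.X 1, W) := (C.loc 1 ⟨W, hW⟩).symm (ιMulti _ 1 fun _ => b i)

theorem d_loc (p : ℕ) (e : Fin (p + 1) → Γ(E', W)) :
    (C.K.d (p + 1) p).app W ((C.loc (p + 1) ⟨W, hW⟩).symm (ιMulti _ (p + 1) e)) =
      (C.loc p ⟨W, hW⟩).symm (KoszSh.dGen (KoszSh.secForm s W) p e) :=
  C.rule p ⟨W, hW⟩ e

theorem d_u1 (i : Fin n) : (C.K.d 1 0).app W (u1 C hW b i) = val b s i • u0 C hW := by
  refine (d_loc C hW 0 _).trans ?_
  rw [show KoszSh.dGen (KoszSh.secForm s W) 0 (fun _ => b i) =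
    val b s i • ιMulti _ 0 Fin.elim0 from ?_, map_smul]
  · rfl
  · refine (Fin.sum_univ_one _).trans ?_
    refine congrArg₂ (fun (r : Γ(X, W)) w => r • w) ?_ (congrArg (ιMulti _ 0) (funext fun j : Fin 0 => j.elim0))
    simp

/-- Sections in degree zero. -/
theorem u0_bij (hE : FlatMod.IsFinLocFree E') (hF : Coh.IsQCoh F) :
    Function.Bijective fun m : Γ(F, W) => QCoh.tmS F (C.K.X 0) m (u0 C hW) := by
  let e0 : Γ(C.K.X 0, W) ≃ₗ[Γ(X, W)] Γ(X, W) := (C.loc 0 ⟨W, hW⟩).trans (zeroEquiv _ _)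
  let v : Γ(F, W) ≃ₗ[Γ(X, W)] Γ(F, W) ⊗[Γ(X, W)] Γ(C.K.X 0, W) :=
    (TensorProduct.rid Γ(X, W) Γ(F, W)).symm.trans (TensorProduct.congr (LinearEquiv.refl _ _) e0.symm)
  have h : (fun m : Γ(F, W) => QCoh.tmS F (C.K.X 0) m (u0 C hW)) = fun m => QCoh.tmLin F (C.K.X 0) W (v m) := by
    funext m
    simp only [v, LinearEquiv.trans_apply, TensorProduct.rid_symm_apply, TensorProduct.congr_tmul,
      LinearEquiv.refl_apply, QCoh.tmLin_tmul]
    congr 1
    refine e0.injective ?_
    rw [LinearEquiv.apply_symm_apply]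
    show zeroEquiv _ _ (C.loc 0 ⟨W, hW⟩ ((C.loc 0 ⟨W, hW⟩).symm _)) = 1
    rw [LinearEquiv.apply_symm_apply, zeroEquiv_ιMulti]
  rw [h]
  exact (QCoh.bijective_tmLin hF (isQCoh_term C hE 0) hW).comp v.bijective

/-- The sections in degree one. -/
def Ψ : (Fin n → Γ(F, W)) →ₗ[Γ(X, W)] Γ((cx C F).X 1, W) :=
  ∑ i : Fin n, (QCoh.tmLin F (C.K.X 1) W).comp
    ((TensorProduct.mk Γ(X, W) _ _).flip (u1 C hW b i) |>.comp (LinearMap.proj i))

theorem Ψ_apply (m : Fin n → Γ(F, W)) : Ψ C F hW b m = ∑ i, QCoh.tmS F (C.K.X 1) (m i) (u1 C hW b i) := by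
  exact LinearMap.sum_apply _ _ _

theorem Ψ_bij (hE : FlatMod.IsFinLocFree E') (hF : Coh.IsQCoh F) : Function.Bijective (Ψ C F hW b) := by
  let e1 : Γ(C.K.X 1, W) ≃ₗ[Γ(X, W)] (Fin n → Γ(X, W)) :=
    ((C.loc 1 ⟨W, hW⟩).trans (oneEquiv _ _)).trans b.equivFun
  let v : (Fin n → Γ(F, W)) ≃ₗ[Γ(X, W)] Γ(F, W) ⊗[Γ(X, W)] Γ(C.K.X 1, W) :=
    (TensorProduct.piScalarRight Γ(X, W) Γ(X, W) Γ(F, W) (Fin n)).symm.trans
      (TensorProduct.congr (LinearEquiv.refl _ _) e1.symm)
  have h : ∀ m, Ψ C F hW b m = QCoh.tmLin F (C.K.X 1) W (v m) := fun m => by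
    have hm : m = ∑ i, Pi.single i (m i) := (Finset.univ_sum_single m).symm
    conv_rhs => rw [hm]
    rw [map_sum, map_sum, Ψ_apply]
    refine Finset.sum_congr rfl fun i _ => ?_
    simp only [v, LinearEquiv.trans_apply, TensorProduct.piScalarRight_symm_single, TensorProduct.congr_tmul,
      LinearEquiv.refl_apply, QCoh.tmLin_tmul]
    congr 1
    refine e1.injective ?_
    rw [LinearEquiv.apply_symm_apply]
    show b.equivFun (oneEquiv _ _ (C.loc 1 ⟨W, hW⟩ ((C.loc 1 ⟨W, hW⟩).symm _))) = _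
    rw [LinearEquiv.apply_symm_apply, oneEquiv_ιMulti]
    funext j
    rw [Module.Basis.equivFun_self, Pi.single_apply]
    simp [eq_comm]
  exact (funext h : ⇑(Ψ C F hW b) = _) ▸ (QCoh.bijective_tmLin hF (isQCoh_term C hE 1) hW).comp v.bijective

theorem d_Ψ (m : Fin n → Γ(F, W)) :
    ((cx C F).d 1 0).app W (Ψ C F hW b m) = QCoh.tmS F (C.K.X 0) (∑ i, val b s i • m i) (u0 C hW) := by
  rw [Ψ_apply, map_sum, show QCoh.tmS F (C.K.X 0) (∑ i, val b s i • m i) (u0 C hW) =
    ∑ i, QCoh.tmS F (C.K.X 0) (val b s i • m i) (u0 C hW) from ?_]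
  · refine Finset.sum_congr rfl fun i _ => ?_
    rw [show ((cx C F).d 1 0).app W (QCoh.tmS F (C.K.X 1) (m i) (u1 C hW b i)) = _ from app_tmS F _ _ _, d_u1,
      QCoh.tmS_smul_left, QCoh.tmS_smul_right]
  · exact map_sum ((QCoh.tmLin F (C.K.X 0) W).comp ((TensorProduct.mk Γ(X, W) _ _).flip (u0 C hW)))
      (fun i => val b s i • m i) Finset.univ

include hW in
/-- Relations between the values come from the trivial ones. -/
theorem koszulH1Zero (hE : FlatMod.IsFinLocFree E') (hF : Coh.IsQCoh F) (h1 : IsZero ((cx C F).homology 1)) :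
    CInt.KoszulH1Zero (val b s) Γ(F, W) := by
  classical
  intro m hm
  have hq : ∀ p, Coh.IsQCoh ((cx C F).X p) := fun p => KFlatLib.isQCoh_tensor hF (isQCoh_term C hE p)
  have hz : ((cx C F).d 1 0).app W (Ψ C F hW b m) = 0 := by
    rw [d_Ψ, hm]
    exact map_zero ((QCoh.tmLin F (C.K.X 0) W).comp ((TensorProduct.mk Γ(X, W) _ _).flip (u0 C hW)))
  have hex : (cx C F).ExactAt 1 := (HomologicalComplex.exactAt_iff_isZero_homology _ _).2 h1
  have hex' := ((cx C F).exactAt_iff' 2 1 0 (by simp) (by simp)).1 hex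
  haveI : Epi (kernel.lift ((cx C F).d 1 0) ((cx C F).d 2 1) ((cx C F).d_comp_d 2 1 0)) :=
    ((cx C F).sc' 2 1 0).exact_iff_epi_kernel_lift.1 hex'
  obtain ⟨a, ha⟩ := CurveTree.exists_kernel_app ((cx C F).d 1 0) W _ hz
  obtain ⟨η, hη⟩ := QCoh.app_surjective_of_epi (hq 2) (QCoh.isQCoh_kernel (hq 1) (hq 0) _)
    (kernel.lift ((cx C F).d 1 0) ((cx C F).d 2 1) ((cx C F).d_comp_d 2 1 0)) hW a
  have hd : ((cx C F).d 2 1).app W η = Ψ C F hW b m := by
    rw [← ha, ← hη]
    exact congr(($((kernel.lift_ι ((cx C F).d 1 0) ((cx C F).d 2 1) ((cx C F).d_comp_d 2 1 0)).symm)).app W η)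
  obtain ⟨y, rfl⟩ := (QCoh.bijective_tmLin hF (isQCoh_term C hE 2) hW).2 η
  set R := Submodule.span Γ(X, W) {v : Fin n → Γ(F, W) | ∃ (i j : Fin n) (x : Γ(F, W)),
    v = val b s j • (Pi.single i x : Fin n → Γ(F, W)) - val b s i • (Pi.single j x : Fin n → Γ(F, W))}
  let dl : Γ((cx C F).X 2, W) →ₗ[Γ(X, W)] Γ((cx C F).X 1, W) :=
    { toFun := ((cx C F).d 2 1).app W
      map_add' := map_add _
      map_smul' := fun r z => Scheme.Modules.Hom.app_smul ((cx C F).d 2 1) r z }
  suffices hy : ∀ y, dl (QCoh.tmLin F (C.K.X 2) W y) ∈ R.map (Ψ C F hW b) by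
    obtain ⟨m', hm', he⟩ := hy y
    exact (Ψ_bij C F hW b hE hF).1 (he.trans hd) ▸ hm'
  have hpure : ∀ (x : Γ(F, W)) (a c : Fin n), dl (QCoh.tmS F (C.K.X 2) x ((C.loc 2 ⟨W, hW⟩).symm
      (ιMulti _ 2 ![b a, b c]))) ∈ R.map (Ψ C F hW b) := fun x a c => by
    refine ⟨val b s a • (Pi.single c x : Fin n → Γ(F, W)) - val b s c • (Pi.single a x : Fin n → Γ(F, W)),
      Submodule.subset_span ⟨c, a, x, rfl⟩, ?_⟩
    refine Eq.trans ?_ (app_tmS F _ _ _).symm
    rw [d_loc C hW 1, map_sub, map_smul, map_smul]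
    have hs : ∀ j : Fin n, Ψ C F hW b (Pi.single j x) = QCoh.tmS F (C.K.X 1) x (u1 C hW b j) := fun j => by
      rw [Ψ_apply, Finset.sum_eq_single j, Pi.single_eq_same]
      · intro k _ hk
        rw [Pi.single_eq_of_ne hk]
        exact LinearMap.map_zero ((QCoh.tmLin F (C.K.X 1) W).comp ((TensorProduct.mk Γ(X, W) _ _).flip (u1 C hW b k)))
      · simp
    rw [hs, hs]
    have hdg : KoszSh.dGen (KoszSh.secForm s W) 1 ![b a, b c] =
        val b s a • ιMulti _ 1 (fun _ => b c) - val b s c • ιMulti _ 1 (fun _ => b a) := by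
      refine (Fin.sum_univ_two _).trans ?_
      have h0 : (fun j : Fin 1 => ![b a, b c] ((0 : Fin 2).succAbove j)) = fun _ => b c := funext fun j => by
        fin_cases j; rfl
      have h1 : (fun j : Fin 1 => ![b a, b c] ((1 : Fin 2).succAbove j)) = fun _ => b a := funext fun j => by
        fin_cases j; rfl
      rw [h0, h1]
      simp [val, sub_eq_add_neg]
      exact neg_smul (val b s c) (ιMulti Γ(X, W) 1 fun _ => b a)
    rw [hdg, map_sub, map_smul, map_smul]
    show _ = QCoh.tmLin F (C.K.X 1) W (x ⊗ₜ (_ - _))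
    rw [TensorProduct.tmul_sub, map_sub, TensorProduct.tmul_smul, TensorProduct.tmul_smul, map_smul, map_smul]
    rfl
  intro y
  induction y using TensorProduct.induction_on with
  | zero => rw [map_zero, map_zero]; exact zero_mem _
  | add p q hp hq => rw [map_add, map_add]; exact add_mem hp hq
  | tmul x w =>
    suffices h : ∀ v : ↥(⋀[Γ(X, W)]^2 Γ(E', W)),
        dl (QCoh.tmLin F (C.K.X 2) W (x ⊗ₜ (C.loc 2 ⟨W, hW⟩).symm v)) ∈ R.map (Ψ C F hW b) by
      simpa using h (C.loc 2 ⟨W, hW⟩ w)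
    let L2 : ↥(⋀[Γ(X, W)]^2 Γ(E', W)) →ₗ[Γ(X, W)] Γ((cx C F).X 1, W) :=
      dl.comp ((QCoh.tmLin F (C.K.X 2) W).comp
        ((TensorProduct.mk Γ(X, W) _ _ x).comp (C.loc 2 ⟨W, hW⟩).symm.toLinearMap))
    intro v
    show v ∈ (R.map (Ψ C F hW b)).comap L2
    have := (b.exteriorPower 2).mem_span v
    refine Submodule.span_le.2 ?_ this
    rintro _ ⟨t, rfl⟩
    obtain ⟨a, c, ht⟩ : ∃ a c, (b.exteriorPower 2) t = ιMulti _ 2 ![b a, b c] := by
      refine ⟨Set.powersetCard.ofFinEmbEquiv.symm t 0, Set.powersetCard.ofFinEmbEquiv.symm t 1, ?_⟩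
      rw [exteriorPower.basis_apply]
      exact congrArg (ιMulti _ 2) (funext fun j => by fin_cases j <;> rfl)
    rw [SetLike.mem_coe, Submodule.mem_comap, ht]
    exact hpure x a c

/-- The zero scheme with values in `F`. -/
abbrev FV : X.Modules := cokernel (((DCoh.tensorBi (X := X)).obj F).map (C.K.d 1 0))

include hW in
/-- The values vanish where the zero scheme lives. -/
theorem val_notMem_basicOpen (hE : FlatMod.IsFinLocFree E') (hF : Coh.IsQCoh F) {z : X} (hz : z ∈ W)
    (hV : z ∈ CohB1.support (FV C F)) (i : Fin n) : z ∉ X.basicOpen (val b s i) := by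
  classical
  intro hi
  have hq : ∀ p, Coh.IsQCoh ((cx C F).X p) := fun p => KFlatLib.isQCoh_tensor hF (isQCoh_term C hE p)
  have hQ : Coh.IsQCoh (FV C F) := QCoh.isQCoh_cokernel (hq 1) (hq 0) _
  have hkill : ∀ t : Γ(FV C F, W), val b s i • t = 0 := fun t => by
    obtain ⟨t0, rfl⟩ := QCoh.app_surjective_of_epi (hq 0) hQ (cokernel.π _) hW t
    obtain ⟨m, rfl⟩ := (u0_bij C F hW hE hF).2 t0
    rw [← Scheme.Modules.Hom.app_smul]
    have h : ((cx C F).d 1 0).app W (Ψ C F hW b (Pi.single i m)) =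
        val b s i • QCoh.tmS F (C.K.X 0) m (u0 C hW) := by
      rw [d_Ψ, Finset.sum_eq_single i, Pi.single_eq_same, QCoh.tmS_smul_left]
      · intro k _ hk
        rw [Pi.single_eq_of_ne hk, smul_zero]
      · simp
    rw [show val b s i • QCoh.tmS F (C.K.X 0) m (u0 C hW) = _ from h.symm]
    exact congr(($(cokernel.condition (((DCoh.tensorBi (X := X)).obj F).map (C.K.d 1 0)))).app W
      (Ψ C F hW b (Pi.single i m)))
  letI := QCoh.stalkModule (FV C F) hz
  haveI := QCoh.isLocalizedModule_germLin hQ hW hz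
  have hmem : val b s i ∈ (hW.primeIdealOf ⟨z, hz⟩).asIdeal.primeCompl :=
    (QCoh.mem_basicOpen_iff_notMem hW hz _).1 hi
  refine hV (subsingleton_of_forall_eq 0 fun y => ?_)
  obtain ⟨⟨t, c⟩, hy⟩ := IsLocalizedModule.surj (hW.primeIdealOf ⟨z, hz⟩).asIdeal.primeCompl
    (QCoh.germLin (FV C F) hz) y
  have h0 := congrArg (fun v => (⟨_, hmem⟩ : (hW.primeIdealOf ⟨z, hz⟩).asIdeal.primeCompl) • v) hy
  simp only [Submonoid.smul_def, ← smul_assoc, smul_eq_mul, ← map_smul, hkill, map_zero] at h0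
  exact ((Module.End.isUnit_iff _).1 (IsLocalizedModule.map_units (QCoh.germLin (FV C F) hz)
    (⟨_, hmem⟩ * c : (hW.primeIdealOf ⟨z, hz⟩).asIdeal.primeCompl))).1 (h0.trans (map_zero _).symm)

variable [IsNoetherian X]

include C in
/-- Points of the zero scheme lie `n` steps below the support. -/
theorem deep_of_mem_zero (hE : FlatMod.IsFinLocFreeOfRank n E') (hF : Coh.IsCoh F)
    (h1 : IsZero ((cx C F).homology 1)) {z : X} (hz : z ∈ CohB1.support (FV C F)) :
    z ∈ CohB1.support F ∧ GammaCap.Deep (CohB1.support F) n z := by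
  classical
  have hEl := KvbModel.lf_of_rank hE
  obtain ⟨U₀, fr, hzU, hfr⟩ := KvbModel.frameAt_of_rank hE z
  obtain ⟨_, ⟨W, hW, rfl⟩, hzW, hle⟩ := X.isBasis_affineOpens.exists_subset_of_mem_open hzU U₀.2
  let bW := ExtBase.frameBasis hfr (hle : W ≤ U₀)
  let A := X.presheaf.stalk z
  let S := (hW.primeIdealOf ⟨z, hzW⟩).asIdeal.primeCompl
  letI := QCoh.stalkAlg (X := X) hzW
  letI := QCoh.stalkModule F hzW
  haveI := QCoh.isScalarTower_stalk F hzW
  haveI : IsLocalization S A := QCoh.isLocalization_stalk' hW hzW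
  haveI := QCoh.isLocalizedModule_germLin hF.1 hW hzW
  haveI := QCoh.finite_stalk_of_isFT hF.1 hF.2 z
  have hK : CInt.KoszulH1Zero (fun i => algebraMap Γ(X, W) A (val bW s i)) (F.presheaf.stalk z) :=
    koszulH1Zero_localized S (QCoh.germLin F hzW) _ (koszulH1Zero C F hW bW hEl hF.1 h1)
  have hmax : ∀ i, algebraMap Γ(X, W) A (val bW s i) ∈ IsLocalRing.maximalIdeal A := fun i hu =>
    val_notMem_basicOpen C F hW bW hEl hF.1 hzW hz i ((X.mem_basicOpen _ z hzW).2 hu)
  have hzF : z ∈ CohB1.support F := by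
    intro hsub
    refine hz (subsingleton_of_forall_eq 0 fun y => ?_)
    have hq : ∀ p, Coh.IsQCoh ((cx C F).X p) := fun p => KFlatLib.isQCoh_tensor hF.1 (isQCoh_term C hEl p)
    have hQ : Coh.IsQCoh (FV C F) := QCoh.isQCoh_cokernel (hq 1) (hq 0) _
    letI := QCoh.stalkModule (FV C F) hzW
    haveI := QCoh.isLocalizedModule_germLin hQ hW hzW
    obtain ⟨⟨t, c⟩, hy⟩ := IsLocalizedModule.surj S (QCoh.germLin (FV C F) hzW) y
    obtain ⟨t0, rfl⟩ := QCoh.app_surjective_of_epi (hq 0) hQ (cokernel.π _) hW t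
    obtain ⟨m, rfl⟩ := (u0_bij C F hW hEl hF.1).2 t0
    obtain ⟨f, hfS, hf⟩ := (QCoh.germ_eq_zero_iff hF.1 hW hzW m).1
      (@Subsingleton.elim (F.presheaf.stalk z) hsub _ _)
    refine ((Module.End.isUnit_iff _).1 (IsLocalizedModule.map_units (QCoh.germLin (FV C F) hzW)
      (⟨f, (QCoh.mem_basicOpen_iff_notMem hW hzW f).1 hfS⟩ * c : S))).1 (Eq.trans ?_ (map_zero _).symm)
    show ((⟨f, (QCoh.mem_basicOpen_iff_notMem hW hzW f).1 hfS⟩ * c : S)) • y = 0
    rw [mul_smul, hy, Submonoid.smul_def, ← map_smul, ← Scheme.Modules.Hom.app_smul, ← QCoh.tmS_smul_left]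
    rw [show f • m = 0 from hf]
    exact map_zero ((QCoh.germLin (FV C F) hzW).comp
      (({ toFun := (cokernel.π (((DCoh.tensorBi (X := X)).obj F).map (C.K.d 1 0))).app W
          map_add' := map_add _
          map_smul' := fun r v => Scheme.Modules.Hom.app_smul _ r v } :
        Γ((cx C F).X 0, W) →ₗ[Γ(X, W)] Γ(FV C F, W)).comp
        ((QCoh.tmLin F (C.K.X 0) W).comp ((TensorProduct.mk Γ(X, W) _ _).flip (u0 C hW)))))
  haveI : Nontrivial (F.presheaf.stalk z) := not_subsingleton_iff_nontrivial.1 hzF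
  have hweak := Groth.Agent.S2868.result (fun i => algebraMap Γ(X, W) A (val bW s i))
    (fun i => IsLocalRing.maximalIdeal_le_jacobson _ (hmax i)) (F.presheaf.stalk z) hK
  have hreg := (IsLocalRing.isRegular_iff_isWeaklyRegular_of_subset_maximalIdeal (M := F.presheaf.stalk z)
    (rs := List.ofFn fun i => algebraMap Γ(X, W) A (val bW s i)) (fun r hr => by
      obtain ⟨i, rfl⟩ := List.mem_ofFn.1 hr; exact hmax i)).2 hweak
  have hdim : (n : WithBot ℕ∞) ≤ Module.supportDim A (F.presheaf.stalk z) := by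
    rw [← Module.supportDim_add_length_eq_supportDim_of_isRegular _ hreg, List.length_ofFn]
    refine le_add_of_nonneg_left ?_
    haveI : Nontrivial (F.presheaf.stalk z ⧸
        Ideal.ofList (List.ofFn fun i => algebraMap Γ(X, W) A (val bW s i)) • (⊤ : Submodule A (F.presheaf.stalk z))) :=
      Submodule.Quotient.nontrivial_iff.2 hreg.top_ne_smul.symm
    exact (Order.krullDim_nonneg_iff).2 (Module.nonempty_support_of_nontrivial).to_subtype
  refine ⟨hzF, ?_⟩
  obtain ⟨T, i, hi, F', hF', ⟨e⟩, hrange⟩ := SheafPush.exists_closed_support F hF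
  haveI := hi
  haveI : IsLocallyNoetherian T := LocallyOfFiniteType.isLocallyNoetherian i
  obtain ⟨w, rfl⟩ := (hrange z).2 inferInstance
  letI : Module A (F'.presheaf.stalk w) := Module.compHom _ (i.stalkMap w).hom
  obtain ⟨E1⟩ := NegVanClosed.nonempty_stalk_push_equiv i F' w
  let E0 : F.presheaf.stalk (i w) ≃ₗ[A] F'.presheaf.stalk w := ((DerSch.stalkFunctor X (i w)).mapIso e).toLinearEquiv.trans E1
  haveI : Module.Finite A (F'.presheaf.stalk w) := Module.Finite.equiv E0
  rw [Module.supportDim_eq_of_equiv E0, Module.supportDim_eq_ringKrullDim_quotient_annihilator] at hdim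
  have hker : RingHom.ker (i.stalkMap w).hom ≤ Module.annihilator A (F'.presheaf.stalk w) := fun a ha =>
    Module.mem_annihilator.2 fun v => by
      show (i.stalkMap w).hom a • v = 0
      rw [RingHom.mem_ker.1 ha, zero_smul]
  have h2 : ringKrullDim (A ⧸ Module.annihilator A (F'.presheaf.stalk w)) ≤ ringKrullDim (T.presheaf.stalk w) :=
    ringKrullDim_le_of_surjective
      ((Ideal.Quotient.factor hker).comp
        (RingHom.quotientKerEquivOfSurjective (i.stalkMap_surjective w)).symm.toRingHom)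
      ((Ideal.Quotient.factor_surjective hker).comp
        (RingHom.quotientKerEquivOfSurjective (i.stalkMap_surjective w)).symm.surjective)
  refine ((GammaCap.deep_univ_iff.2 (hdim.trans h2)).map i i.isClosedEmbedding.injective).mono ?_
  rintro _ ⟨t, rfl⟩
  exact not_subsingleton_iff_nontrivial.2 ((hrange _).1 ⟨t, rfl⟩)

end Groth.Agent.H23.KoszCut
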