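import Groth.Agent.H23.KoszCut
import Groth.Agent.H23.GammaCap.Push
import Groth.Agent.QCoh.RpushClosed
import Groth.Agent.S0042
import Groth.Agent.S11319

/-!
# Higher direct images of sheaves finite over the codimension-one points
-/

set_option autoImplicit false
set_option linter.style.haveILetI false
set_option linter.unusedSectionVars false
set_option backward.isDefEq.respectTransparency false
set_option backward.isDefEq.respectTransparency.types false

universe u

open CategoryTheory CategoryTheory.Limits AlgebraicGeometry TopologicalSpace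

noncomputable section

namespace Groth.Agent.H23.KoszCut

open Groth.Agent Groth.Agent.H28

/-- A scheme without proper specializations has dimension zero. -/
theorem dim_le_zero_of_specializes {Z : Scheme.{u}} (h : ∀ a b : Z, a ⤳ b → a = b) :
    topologicalKrullDim ↥Z ≤ 0 := by
  refine Order.krullDim_nonpos_iff_forall_isMax.2 fun c c' hcc => ?_
  obtain ⟨a, ha⟩ := QuasiSober.sober c.isIrreducible' c.isClosed'
  obtain ⟨a', ha'⟩ := QuasiSober.sober c'.isIrreducible' c'.isClosed'
  have hmem : a ∈ closure {a'} := by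
    rw [ha'.def]
    exact hcc ha.mem
  obtain rfl := h a' a (specializes_iff_mem_closure.2 hmem)
  intro x hx
  have hx' : x ∈ closure {a'} := ha'.def.symm ▸ hx
  show x ∈ c.carrier
  rw [← ha.def]; exact hx'

variable {X Y : Scheme.{u}} [IsNoetherian X] [IsNoetherian Y] (π : X ⟶ Y) [IsProper π]
  [HasInjectiveResolutions X.Modules]

/-- Finite over `y` means no higher direct image there. -/
theorem notMem_support_rpush {G : X.Modules} (hG : Coh.IsCoh G) {y : Y}
    (h : ∀ a ∈ CohB1.support G, ∀ b ∈ CohB1.support G, π a = y → π b = y → a ⤳ b → a = b) {p : ℕ} (hp : 0 < p) :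
    y ∉ CohB1.support ((Coh.Rpush π p).obj G) := by
  obtain ⟨T, i, hi, G', hG', ⟨e⟩, hrange⟩ := SheafPush.exists_closed_support G hG
  haveI := hi
  haveI : HasInjectiveResolutions T.Modules := KFlatLib.hasInjectiveResolutions_modules
  have hd : topologicalKrullDim ↥((i ≫ π).fiber y) ≤ ((0 : ℕ) : WithBot ℕ∞) := by
    refine (dim_le_zero_of_specializes fun a b hab => ?_).trans (le_of_eq Nat.cast_zero.symm)
    have hmem : ∀ c, i ((i ≫ π).fiberι y c) ∈ CohB1.support G ∧ π (i ((i ≫ π).fiberι y c)) = y := fun c => by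
      refine ⟨not_subsingleton_iff_nontrivial.2 ((hrange _).1 ⟨_, rfl⟩), ?_⟩
      have hc := Set.mem_range_self (f := (i ≫ π).fiberι y) c
      rw [Scheme.Hom.range_fiberι] at hc
      exact hc
    exact ((i ≫ π).fiberι y).isEmbedding.injective (i.isClosedEmbedding.injective
      (h _ (hmem a).1 _ (hmem b).1 (hmem a).2 (hmem b).2 ((hab.map ((i ≫ π).fiberι y).continuous).map i.continuous)))
  have hz := Groth.Agent.S0042.result (i ≫ π) y 0 hd G' hG' p hp
  obtain ⟨eab⟩ := Groth.Agent.S11319.result (i ≫ π) G' p
  obtain ⟨ec⟩ := QCoh.nonempty_Rpush_affine_push i π hG'.1 p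
  let eT := (Coh.Rpush π p).mapIso e ≪≫ ec
  have h1 : IsZero (TopCat.Presheaf.stalk (Coh.toAb ((Coh.Rpush (i ≫ π) p).obj G')).obj y) :=
    hz.of_iso ((TopCat.Presheaf.stalkFunctor AddCommGrpCat y).mapIso ((sheafToPresheaf _ _).mapIso eab))
  have hs : Subsingleton (((Coh.Rpush (i ≫ π) p).obj G').presheaf.stalk y) :=
    AddCommGrpCat.subsingleton_of_isZero h1
  exact fun hy => hy (@Function.Injective.subsingleton _ _ _ ((DerSch.stalkFunctor Y y).mapIso eT).toLinearEquiv.injective hs)

end Groth.Agent.H23.KoszCut
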