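import Groth.Agent.H23.ExtCap
import Groth.Agent.H23.FlatPushPull
import Groth.Agent.H23.GysinClass

/-! Operations on Chow groups used for the Künneth construction of operational classes. -/

set_option autoImplicit false
set_option linter.style.haveILetI false

universe u

open CategoryTheory CategoryTheory.Limits AlgebraicGeometry

noncomputable section

namespace Groth.Agent.H23.Kron

open Groth.Agent FlatShift

section Maps

variable {A B C : Scheme.{u}} {δA : A → ℤ} {δB : B → ℤ} {δC : C → ℤ}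
  (hA : Cyc.IsSetup A δA) (hB : Cyc.IsSetup B δB) (hC : Cyc.IsSetup C δC)

/-- Push-forward is functorial. -/
theorem mapCH_mapCH (f : A ⟶ B) (g : B ⟶ C) [IsProper f] [IsProper g] (hf : Cyc.DeltaCompat f δA δB)
    (hg : Cyc.DeltaCompat g δB δC) (e : A ⟶ C) [IsProper e] (he : f ≫ g = e) (hde : Cyc.DeltaCompat e δA δC)
    (k : ℤ) (x : ChowOps.CH A δA k) :
    PushClass.mapCH g hB hC hg k (PushClass.mapCH f hA hB hf k x) = PushClass.mapCH e hA hC hde k x := by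
  obtain ⟨α, hα, rfl⟩ := Bivar.exists_rep x
  rw [PushClass.mapCH_cl, PushClass.mapCH_cl, PushClass.mapCH_cl]
  exact Bivar.cl_congr ((CycLib.map_map f g hf hg α).trans (CycLib.map_congr he δA δC α)) _ _

/-- Push-forward along the identity. -/
theorem mapCH_id (e : A ⟶ A) [IsProper e] (he : e = 𝟙 A) (hde : Cyc.DeltaCompat e δA δA) (k : ℤ)
    (x : ChowOps.CH A δA k) : PushClass.mapCH e hA hA hde k x = x := by
  obtain ⟨α, hα, rfl⟩ := Bivar.exists_rep x
  rw [PushClass.mapCH_cl]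
  exact Bivar.cl_congr ((CycLib.map_congr he δA δA α).trans (ExtCap.map_id' α)) _ _

/-- Pull-back is functorial. -/
theorem pullCH_pullCH {f : A ⟶ B} {g : B ⟶ C} [Flat f] [Flat g] {r s : ℤ} (hf : HasShift f δA δB r)
    (hg : HasShift g δB δC s) {e : A ⟶ C} [Flat e] (he : f ≫ g = e) {t : ℤ} (ht : t = s + r)
    (hd : HasShift e δA δC t) {k l m : ℤ} (hl : l = k + s) (hm : m = l + r) (hm' : m = k + t)
    (x : ChowOps.CH C δC k) :
    FlatClass.pullCH hf hB hA l m hm (FlatClass.pullCH hg hC hB k l hl x) =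
      FlatClass.pullCH hd hC hA k m hm' x := by
  subst he ht
  haveI := hA.1
  haveI := hB.1
  haveI := hC.1
  obtain ⟨α, hα, rfl⟩ := Bivar.exists_rep x
  have h1 := FlatClass.pullCycle_mem hg hB.2.2 hα hl
  rw [FlatClass.pullCH_cl hg hC hB hl hα rfl h1,
    FlatClass.pullCH_cl hf hB hA hm h1 rfl (FlatClass.pullCycle_mem hf hA.2.2 h1 hm),
    FlatClass.pullCH_cl hd hC hA hm' hα rfl (FlatClass.pullCycle_mem hd hA.2.2 hα hm')]
  exact Bivar.cl_congr (DFunLike.coe_injective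
    (FlatShift.pullFun_comp_of_le f g δA δB δC (hf.le hA.2.2) (hg.le hB.2.2) ⇑α)) _ _

end Maps

/-- Pull-back commutes with push-forward in a cartesian square. -/
theorem pullCH_mapCH {Y' Y X' X : Scheme.{u}} {q : Y' ⟶ Y} {f' : Y' ⟶ X'} {f : Y ⟶ X} {p : X' ⟶ X}
    (sq : IsPullback q f' f p) [IsProper f] [IsProper f'] [Flat p] [Flat q]
    {δ : X → ℤ} {δ' : X' → ℤ} {δY : Y → ℤ} {δY' : Y' → ℤ}
    (hX : Cyc.IsSetup X δ) (hX' : Cyc.IsSetup X' δ') (hY : Cyc.IsSetup Y δY) (hY' : Cyc.IsSetup Y' δY')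
    {c : ℤ} (hp : HasShift p δ' δ c) (hq : HasShift q δY' δY c) (hf : Cyc.DeltaCompat f δY δ)
    (hf' : Cyc.DeltaCompat f' δY' δ') {k l : ℤ} (hl : l = k + c) (x : ChowOps.CH Y δY k) :
    FlatClass.pullCH hp hX hX' k l hl (PushClass.mapCH f hY hX hf k x) =
      PushClass.mapCH f' hY' hX' hf' l (FlatClass.pullCH hq hY hY' k l hl x) := by
  haveI := hX'.1
  haveI := hY'.1
  haveI := hY.1
  obtain ⟨α, hα, rfl⟩ := Bivar.exists_rep x
  have h1 := FlatClass.pullCycle_mem hq hY'.2.2 hα hl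
  rw [PushClass.mapCH_cl, FlatClass.pullCH_cl hq hY hY' hl hα rfl h1, PushClass.mapCH_cl,
    FlatClass.pullCH_cl hp hX hX' hl (Bivar.cycMap_mem_Zk f δY δ k hα)
      (FlatShift.map_pullFun_baseChange sq hp hX'.2.2 hf hf' α _ rfl).symm
      (Bivar.cycMap_mem_Zk f' δY' δ' l h1)]

section Classes

variable {X Y : Scheme.{u}} {f : X ⟶ Y} {δX : X → ℤ} {δY : Y → ℤ} {p : ℤ} (hX : Cyc.IsSetup X δX)
  (hY : Cyc.IsSetup Y δY) (c : Bivar.Cl p f δX δY)

/-- A bivariant class commutes with push-forward. -/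
theorem cl_push (s t : Bivar.Sq f δX δY) (h : t.Y' ⟶ s.Y') [IsProper h] (h' : t.X' ⟶ s.X') [IsProper h']
    (w₁ : h ≫ s.g = t.g) (w₂ : h' ≫ s.f' = t.f' ≫ h) (w₃ : h' ≫ s.g' = t.g') (k : ℤ)
    (x : ChowOps.CH t.Y' t.δY' k) :
    c.op s k (PushClass.mapCH h (FlatClass.isSetup_Y' hY t) (FlatClass.isSetup_Y' hY s)
        (FlatClass.deltaCompat_homY h w₁) k x) =
      PushClass.mapCH h' (FlatClass.isSetup_X' hX t) (FlatClass.isSetup_X' hX s)
        (FlatClass.deltaCompat_homX h' w₃) (k - p) (c.op t k x) := by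
  obtain ⟨α, hα, rfl⟩ := Bivar.exists_rep x
  obtain ⟨β, hβ, e1, e2⟩ := c.push s t h h' w₁ w₂ w₃ k α hα
  rw [PushClass.mapCH_cl, e2, e1, PushClass.mapCH_cl]

/-- A bivariant class commutes with flat pull-back. -/
theorem cl_pull (s t : Bivar.Sq f δX δY) (h : t.Y' ⟶ s.Y') [Flat h] [LocallyOfFiniteType h] (h' : t.X' ⟶ s.X')
    [Flat h'] [LocallyOfFiniteType h'] (r : ℕ) (hr : Cyc.HasRelDim h r) (hr' : Cyc.HasRelDim h' r)
    (w₁ : h ≫ s.g = t.g) (w₂ : h' ≫ s.f' = t.f' ≫ h) (w₃ : h' ≫ s.g' = t.g') {k l : ℤ} (hl : l = k + r)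
    (x : ChowOps.CH s.Y' s.δY' k) :
    c.op t l (FlatClass.pullCH (hasShift_of_hasRelDim h hr (FlatClass.deltaCompat_homY h w₁))
        (FlatClass.isSetup_Y' hY s) (FlatClass.isSetup_Y' hY t) k l hl x) =
      FlatClass.pullCH (hasShift_of_hasRelDim h' hr' (FlatClass.deltaCompat_homX h' w₃))
        (FlatClass.isSetup_X' hX s) (FlatClass.isSetup_X' hX t) (k - p) (l - p)
        (show l - p = k - p + r by omega) (c.op s k x) := by
  subst hl
  haveI := (FlatClass.isSetup_Y' hY s).1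
  haveI := (FlatClass.isSetup_Y' hY t).1
  obtain ⟨α, hα, rfl⟩ := Bivar.exists_rep x
  obtain ⟨β, hβ, e1, e2⟩ := c.pull s t h h' r hr hr' w₁ w₂ w₃ k α hα
  have hsh := hasShift_of_hasRelDim h hr (FlatClass.deltaCompat_homY h w₁)
  have h1 := FlatClass.pullCycle_mem hsh (FlatClass.isSetup_Y' hY t).2.2 hα (l := k + r) rfl
  obtain ⟨β₁, hβ₁, eβ, e3⟩ := e2 _ rfl h1
  rw [FlatClass.pullCH_cl hsh (FlatClass.isSetup_Y' hY s) (FlatClass.isSetup_Y' hY t) rfl hα rfl h1, e3, e1,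
    FlatClass.pullCH_cl _ _ _ _ hβ eβ hβ₁]

end Classes

section Cast

variable {A B : Scheme.{u}} {δA : A → ℤ} {δB : B → ℤ}

theorem mapCH_cast (hA : Cyc.IsSetup A δA) (hB : Cyc.IsSetup B δB) (f : A ⟶ B) [IsProper f]
    (hf : Cyc.DeltaCompat f δA δB) {b b' : ℤ} (e : b = b') (x : ChowOps.CH A δA b) :
    PushClass.mapCH f hA hB hf b' (Bivar.chCast A δA e x) =
      Bivar.chCast B δB e (PushClass.mapCH f hA hB hf b x) := by
  subst e
  rfl

theorem pullCH_cast (hA : Cyc.IsSetup A δA) (hB : Cyc.IsSetup B δB) {f : A ⟶ B} [Flat f] {r : ℤ}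
    (hf : HasShift f δA δB r) {b b' c c' : ℤ} (e : b = b') (e' : c = c') (hc : c = b + r) (hc' : c' = b' + r)
    (x : ChowOps.CH B δB b) :
    FlatClass.pullCH hf hB hA b' c' hc' (Bivar.chCast B δB e x) =
      Bivar.chCast A δA e' (FlatClass.pullCH hf hB hA b c hc x) := by
  subst e e'
  rfl

theorem op_cast {X Y : Scheme.{u}} {f : X ⟶ Y} {δX : X → ℤ} {δY : Y → ℤ} {p : ℤ} (c : Bivar.Cl p f δX δY)
    (s : Bivar.Sq f δX δY) {b b' : ℤ} (e : b = b') (e' : b - p = b' - p) (x : ChowOps.CH s.Y' s.δY' b) :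
    c.op s b' (Bivar.chCast s.Y' s.δY' e x) = Bivar.chCast s.X' s.δX' e' (c.op s b x) := by
  subst e
  rfl

theorem chCast_chCast {a b c : ℤ} (e : a = b) (e' : b = c) (x : ChowOps.CH A δA a) :
    Bivar.chCast A δA e' (Bivar.chCast A δA e x) = Bivar.chCast A δA (e.trans e') x := by
  subst e e'
  rfl

end Cast

end Groth.Agent.H23.Kron
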