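import Groth.Agent.H23.KronBase
import Groth.Agent.H23.IntegralTest

/-! Exterior products with points as operations on Chow groups of schemes over a field. -/

set_option autoImplicit false
set_option linter.style.haveILetI false
set_option backward.isDefEq.respectTransparency false
set_option backward.isDefEq.respectTransparency.types false

universe u

open CategoryTheory CategoryTheory.Limits AlgebraicGeometry IsLocalRing

noncomputable section

namespace Groth.Agent.H23.Kron

open Groth.Agent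

/-- A scheme locally of finite type over a field with its dimension function. -/
structure KSch (K : Type u) [Field K] : Type (u + 1) where
  /-- the scheme -/
  Y : Scheme.{u}
  /-- the structure morphism -/
  p : Y ⟶ Spec (.of K)
  lft : LocallyOfFiniteType p
  /-- the dimension function -/
  δ : Y → ℤ
  compat : Cyc.DeltaCompat p δ (fun _ => 0)

namespace KSch

variable {K : Type u} [Field K]

instance (S : KSch K) : LocallyOfFiniteType S.p := S.lft

theorem setup (S : KSch K) : Cyc.IsSetup S.Y S.δ :=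
  SetupLFT.isSetup S.p (CycLib.isSetup_spec_field K) S.compat

theorem lft_hom {S T : KSch K} (h : T.Y ⟶ S.Y) (w : h ≫ S.p = T.p) : LocallyOfFiniteType h :=
  haveI : LocallyOfFiniteType (h ≫ S.p) := w ▸ T.lft
  locallyOfFiniteType_of_comp h S.p

/-- Morphisms over the field respect the dimension functions. -/
theorem compat_hom {S T : KSch K} (h : T.Y ⟶ S.Y) (w : h ≫ S.p = T.p) : Cyc.DeltaCompat h T.δ S.δ := by
  haveI := lft_hom h w
  have e : T.δ = fun t => S.δ (h t) + FibDim.rd h t := funext fun t => by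
    rw [CycLib.deltaCompat_eq T.p T.compat t, CycLib.deltaCompat_eq S.p S.compat, zero_add, zero_add,
      show FibDim.rd T.p t = FibDim.rd (h ≫ S.p) t by rw [w], FibDim.rd_comp h S.p]
    push_cast
    rfl
  rw [e]
  exact ChowDesc.deltaCompat_rd h S.δ

/-- The scheme with the induced dimension function. -/
def ofHom {Y : Scheme.{u}} (p : Y ⟶ Spec (.of K)) [LocallyOfFiniteType p] : KSch K :=
  ⟨Y, p, ‹_›, fun y => (FibDim.rd p y : ℤ), CycLib.deltaCompat_rd p⟩

end KSch

variable {K : Type u} [Field K] {X : Scheme.{u}} (pX : X ⟶ Spec (.of K)) [IsProper pX] {δX : X → ℤ}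
  (hδX : Cyc.DeltaCompat pX δX (fun _ => 0))

include hδX in
theorem setupX : Cyc.IsSetup X δX := SetupLFT.isSetup pX (CycLib.isSetup_spec_field K) hδX

/-- The base as a scheme over the field. -/
abbrev baseK : KSch K := ⟨X, pX, inferInstance, δX, hδX⟩

section Product

variable (S : KSch K)

/-- The product with `X`. -/
abbrev prod : Scheme.{u} := pullback pX S.p

/-- The first projection. -/
abbrev q₁ : prod pX S ⟶ X := pullback.fst pX S.p

/-- The second projection. -/
abbrev q₂ : prod pX S ⟶ S.Y := pullback.snd pX S.p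

theorem sqProd : IsPullback (q₁ pX S) (q₂ pX S) pX S.p := IsPullback.of_hasPullback pX S.p

/-- The product over the field. -/
abbrev prodK : KSch K := KSch.ofHom (q₂ pX S ≫ S.p)

include hδX in
theorem compat_q₁ : Cyc.DeltaCompat (q₁ pX S) (prodK pX S).δ δX :=
  KSch.compat_hom (S := baseK pX hδX) (T := prodK pX S) (q₁ pX S) pullback.condition

theorem compat_q₂ : Cyc.DeltaCompat (q₂ pX S) (prodK pX S).δ S.δ :=
  KSch.compat_hom (S := S) (T := prodK pX S) (q₂ pX S) rfl

variable {S} {T : KSch K} (h : T.Y ⟶ S.Y) (w : h ≫ S.p = T.p)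

/-- The product of the identity with a morphism. -/
def prodMap : prod pX T ⟶ prod pX S :=
  pullback.lift (q₁ pX T) (q₂ pX T ≫ h) (by rw [Category.assoc, w]; exact pullback.condition)

theorem prodMap_fst : prodMap pX h w ≫ q₁ pX S = q₁ pX T := pullback.lift_fst _ _ _

theorem prodMap_snd : prodMap pX h w ≫ q₂ pX S = q₂ pX T ≫ h := pullback.lift_snd _ _ _

theorem sqMap : IsPullback (prodMap pX h w) (q₂ pX T) (q₂ pX S) h :=
  IsPullback.of_right (h₁₂ := q₁ pX S) (h₂₂ := S.p)
    (by rw [prodMap_fst, w]; exact sqProd pX T) (prodMap_snd pX h w) (sqProd pX S)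

theorem prodMap_over : prodMap pX h w ≫ (prodK pX S).p = (prodK pX T).p := by
  show prodMap pX h w ≫ q₂ pX S ≫ S.p = q₂ pX T ≫ T.p
  rw [← Category.assoc, prodMap_snd, Category.assoc, w]

end Product

section Point

variable (x : X)

/-- The closure of a point. -/
def cV : Scheme.{u} := (CycLib.exists_closure_point x).choose

instance : IsIntegral (cV x) := (CycLib.exists_closure_point x).choose_spec.choose

/-- The closure of a point, inside. -/
def iV : cV x ⟶ X := (CycLib.exists_closure_point x).choose_spec.choose_spec.choose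

instance : IsClosedImmersion (iV x) := (CycLib.exists_closure_point x).choose_spec.choose_spec.choose_spec.1

theorem iV_gen : iV x (genericPoint (cV x)) = x :=
  (CycLib.exists_closure_point x).choose_spec.choose_spec.choose_spec.2.1

theorem iV_range : Set.range (iV x) = closure {x} :=
  (CycLib.exists_closure_point x).choose_spec.choose_spec.choose_spec.2.2

theorem hasRelDim_cV : Cyc.HasRelDim (iV x ≫ pX) (FibDim.rd pX x) :=
  (CycLib.hasRelDim_iff (iV x ≫ pX)).2 fun v hv => by
    haveI : Subsingleton ↥(Spec (CommRingCat.of K)) := FibDim.subsingleton_spec_field K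
    obtain rfl : genericPoint _ = v :=
      (FlatShift.fibMax_iff _ v).1 hv _ (Subsingleton.elim _ _) (genericPoint_specializes v)
    rw [FibDim.rd_comp, FibDim.rd_eq_zero_of_quasiFinite (iV x), iV_gen, add_zero]

variable (S : KSch K)

/-- The product of the closure of a point with a scheme. -/
abbrev qS : Scheme.{u} := pullback (q₁ pX S) (iV x)

/-- Its inclusion. -/
abbrev jS : qS pX x S ⟶ prod pX S := pullback.fst (q₁ pX S) (iV x)

/-- Its projection. -/
abbrev prS : qS pX x S ⟶ S.Y := jS pX x S ≫ q₂ pX S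

theorem sqQ : IsPullback (prS pX x S) (pullback.snd (q₁ pX S) (iV x)) S.p (iV x ≫ pX) :=
  (IsPullback.of_hasPullback (q₁ pX S) (iV x)).paste_horiz (sqProd pX S).flip

instance flat_prS : Flat (prS pX x S) := by
  haveI : Flat (iV x ≫ pX) := AlgStLib.OnePt.flat_of_field _
  exact MorphismProperty.of_isPullback (sqQ pX x S).flip ‹Flat (iV x ≫ pX)›

theorem hasRelDim_prS : Cyc.HasRelDim (prS pX x S) (FibDim.rd pX x) :=
  FibDim.hasRelDim_baseChange (sqQ pX x S).flip (hasRelDim_cV pX x)

/-- It as a scheme over the field. -/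
abbrev qK : KSch K := KSch.ofHom (prS pX x S ≫ S.p)

theorem compat_jS : Cyc.DeltaCompat (jS pX x S) (qK pX x S).δ (prodK pX S).δ :=
  KSch.compat_hom (S := prodK pX S) (T := qK pX x S) (jS pX x S) (Category.assoc _ _ _).symm

theorem compat_prS : Cyc.DeltaCompat (prS pX x S) (qK pX x S).δ S.δ :=
  KSch.compat_hom (S := S) (T := qK pX x S) (prS pX x S) rfl

theorem shift_prS : FlatShift.HasShift (prS pX x S) (qK pX x S).δ S.δ ((FibDim.rd pX x : ℕ) : ℤ) :=
  FlatShift.hasShift_of_hasRelDim (prS pX x S) (hasRelDim_prS pX x S) (compat_prS pX x S)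

/-- The exterior product with a point. -/
def ext (b k : ℤ) (hl : k = b + (FibDim.rd pX x : ℕ)) :
    ChowOps.CH S.Y S.δ b →+ ChowOps.CH (prod pX S) (prodK pX S).δ k :=
  (PushClass.mapCH (jS pX x S) (qK pX x S).setup (prodK pX S).setup (compat_jS pX x S) k).comp
    (FlatClass.pullCH (shift_prS pX x S) S.setup (qK pX x S).setup b k hl)

theorem ext_cast {b b' k k' : ℤ} (e : b = b') (e' : k = k') (hl : k = b + (FibDim.rd pX x : ℕ))
    (hl' : k' = b' + (FibDim.rd pX x : ℕ)) (y : ChowOps.CH S.Y S.δ b) :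
    ext pX x S b' k' hl' (Bivar.chCast S.Y S.δ e y) =
      Bivar.chCast (prod pX S) (prodK pX S).δ e' (ext pX x S b k hl y) := by
  subst e e'
  rfl

include hδX in
theorem delta_pt : δX x = (FibDim.rd pX x : ℕ) := by
  rw [CycLib.deltaCompat_eq pX hδX x, zero_add]

include hδX in
/-- The exterior product with a point, on cycles. -/
theorem ext_cl {b k : ℤ} (hl : k = b + (FibDim.rd pX x : ℕ)) {β : AlgebraicCycle S.Y ℤ}
    (hβ : β ∈ Cyc.Zk S.Y S.δ b) :
    ∃ (ζ : AlgebraicCycle (prod pX S) ℤ) (hζ : ζ ∈ Cyc.Zk (prod pX S) (prodK pX S).δ k),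
      ext pX x S b k hl (ChowOps.cl β hβ) = ChowOps.cl ζ hζ ∧
        ∀ t, ζ t = ExtCap.cross (q₁ pX S) (q₂ pX S) δX S.δ (prodK pX S).δ ⇑(IntegralTest.pointCyc x 1) ⇑β t := by
  classical
  haveI := S.setup.1
  haveI := (qK pX x S).setup.1
  have hXs := setupX pX hδX
  have h1 := FlatClass.pullCycle_mem (shift_prS pX x S) (qK pX x S).setup.2.2 hβ hl
  refine ⟨AlgebraicCycle.map (jS pX x S) (qK pX x S).δ (prodK pX S).δ
    (FlatClass.pullCycle (shift_prS pX x S) (qK pX x S).setup.2.2 β), Bivar.cycMap_mem_Zk _ _ _ k h1, ?_, fun t => ?_⟩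
  · rw [ext, AddMonoidHom.comp_apply, FlatClass.pullCH_cl (shift_prS pX x S) S.setup (qK pX x S).setup hl hβ rfl h1, PushClass.mapCH_cl]
  have hle : ∀ y : X, x ⤳ y → δX y ≤ δX x := fun y hy => CycLib.delta_le hXs.2.2 hy
  have hprod : (prodK pX S).δ t ≤ δX (q₁ pX S t) + S.δ (q₂ pX S t) :=
    (CrossProd.delta_prod (q₁ pX S) (q₂ pX S) pX S.p (sqProd pX S) hδX S.compat
      (Bivar.deltaCompat_comp (q₁ pX S) pX _ δX _ (compat_q₁ pX hδX S) hδX) t).1
  rw [CycLib.map_apply']
  by_cases ht : t ∈ Set.range (jS pX x S)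
  swap
  · rw [finsum_mem_eq_zero_of_forall_eq_zero (s := jS pX x S ⁻¹' {t}) fun w hw => absurd ⟨w, hw⟩ ht, ExtCap.cross]
    rw [IntegralTest.pointCyc_ne 1 fun e => ht ?_]
    · simp
    obtain ⟨w, hw, -⟩ := Scheme.Pullback.exists_preimage_pullback (f := q₁ pX S) (g := iV x) t (genericPoint _)
      (e.trans (iV_gen x).symm)
    exact ⟨w, hw⟩
  obtain ⟨w, rfl⟩ := ht
  rw [show jS pX x S ⁻¹' {jS pX x S w} = {w} from
      Set.ext fun v => ⟨fun hv => (jS pX x S).isEmbedding.injective hv, fun hv => congrArg _ hv⟩,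
    finsum_mem_singleton, AlgebraicCycle.mapCoeff,
    if_pos (CycLib.delta_eq_of_surjective _ (compat_jS pX x S) (CycLib.residueFieldMap_bijective _ w).2),
    CycLib.residueDegree_preimmersion, Nat.cast_one, mul_one]
  have hδw : (qK pX x S).δ w = (prodK pX S).δ (jS pX x S w) :=
    CycLib.delta_eq_of_surjective _ (compat_jS pX x S) (CycLib.residueFieldMap_bijective _ w).2
  have hq : q₁ pX S (jS pX x S w) = iV x (pullback.snd (q₁ pX S) (iV x) w) := GysinPb.apply_fst_eq _ _ w
  have hspec : x ⤳ q₁ pX S (jS pX x S w) := by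
    rw [hq]
    exact specializes_iff_mem_closure.2 (iV_range x ▸ Set.mem_range_self _)
  show Cyc.pullFun (prS pX x S) (qK pX x S).δ S.δ _ ⇑β w = _
  rw [Cyc.pullFun, ExtCap.cross, hδw]
  by_cases hx : q₁ pX S (jS pX x S w) = x
  swap
  · rw [IntegralTest.pointCyc_ne 1 hx, if_neg, zero_mul, zero_mul, ite_self]
    intro hd
    have := CycLib.delta_lt hXs.2.2 hspec (Ne.symm hx)
    have := delta_pt pX hδX x
    rw [show (prS pX x S) w = q₂ pX S (jS pX x S w) from rfl] at hd
    omega
  have hsnd : pullback.snd (q₁ pX S) (iV x) w = genericPoint (cV x) :=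
    (iV x).isEmbedding.injective (by rw [← hq, hx, iV_gen])
  have hlen := ExtCap.fibreLen_fst (q₂ pX S) (q₁ pX S) (iV x) w hsnd
  rw [sup_comm] at hlen
  have hδ : δX (q₁ pX S (jS pX x S w)) = (FibDim.rd pX x : ℕ) := by rw [hx, delta_pt pX hδX x]
  rw [hδ, show IntegralTest.pointCyc x 1 (q₁ pX S (jS pX x S w)) = 1 by rw [hx, IntegralTest.pointCyc_self],
    one_mul, add_comm ((FibDim.rd pX x : ℕ) : ℤ)]
  refine if_congr Iff.rfl ?_ rfl
  exact congrArg (fun n : ℕ∞ => β (q₂ pX S (jS pX x S w)) * (n.toNat : ℤ)) hlen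

end Point

section Natural

variable {S T : KSch K} (h : T.Y ⟶ S.Y) (w : h ≫ S.p = T.p) (x : X)

/-- The morphism on the products with the closure of a point. -/
def qMap : qS pX x T ⟶ qS pX x S :=
  pullback.lift (jS pX x T ≫ prodMap pX h w) (pullback.snd (q₁ pX T) (iV x))
    (by rw [Category.assoc, prodMap_fst]; exact pullback.condition)

theorem qMap_fst : qMap pX h w x ≫ jS pX x S = jS pX x T ≫ prodMap pX h w := pullback.lift_fst _ _ _

theorem qMap_snd : qMap pX h w x ≫ pullback.snd (q₁ pX S) (iV x) = pullback.snd (q₁ pX T) (iV x) :=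
  pullback.lift_snd _ _ _

theorem sqQMap : IsPullback (qMap pX h w x) (jS pX x T) (jS pX x S) (prodMap pX h w) :=
  IsPullback.of_right (h₁₂ := pullback.snd (q₁ pX S) (iV x)) (h₂₂ := q₁ pX S)
    (by rw [qMap_snd, prodMap_fst]; exact (IsPullback.of_hasPullback (q₁ pX T) (iV x)).flip)
    (qMap_fst pX h w x) (IsPullback.of_hasPullback (q₁ pX S) (iV x)).flip

theorem sqPrMap : IsPullback (qMap pX h w x) (prS pX x T) (prS pX x S) h :=
  (sqQMap pX h w x).paste_vert (sqMap pX h w)

theorem qMap_over : qMap pX h w x ≫ (qK pX x S).p = (qK pX x T).p := by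
  show qMap pX h w x ≫ prS pX x S ≫ S.p = prS pX x T ≫ T.p
  rw [← Category.assoc, (sqPrMap pX h w x).w, Category.assoc, w]

theorem compat_prodMap : Cyc.DeltaCompat (prodMap pX h w) (prodK pX T).δ (prodK pX S).δ :=
  KSch.compat_hom (S := prodK pX S) (T := prodK pX T) _ (prodMap_over pX h w)

theorem compat_qMap : Cyc.DeltaCompat (qMap pX h w x) (qK pX x T).δ (qK pX x S).δ :=
  KSch.compat_hom (S := qK pX x S) (T := qK pX x T) _ (qMap_over pX h w x)

instance isProper_prodMap [IsProper h] : IsProper (prodMap pX h w) :=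
  MorphismProperty.of_isPullback (sqMap pX h w).flip ‹IsProper h›

instance flat_prodMap [Flat h] : Flat (prodMap pX h w) :=
  MorphismProperty.of_isPullback (sqMap pX h w).flip ‹Flat h›

/-- Exterior products commute with proper push-forward. -/
theorem ext_push [IsProper h] (b k : ℤ) (hl : k = b + (FibDim.rd pX x : ℕ)) (y : ChowOps.CH T.Y T.δ b) :
    PushClass.mapCH (prodMap pX h w) (prodK pX T).setup (prodK pX S).setup (compat_prodMap pX h w) k
        (ext pX x T b k hl y) =
      ext pX x S b k hl (PushClass.mapCH h T.setup S.setup (KSch.compat_hom h w) b y) := by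
  haveI : IsProper (qMap pX h w x) := MorphismProperty.of_isPullback (sqPrMap pX h w x).flip ‹IsProper h›
  have he := Bivar.deltaCompat_comp (jS pX x T) (prodMap pX h w) _ _ _ (compat_jS pX x T) (compat_prodMap pX h w)
  simp only [ext, AddMonoidHom.comp_apply]
  rw [pullCH_mapCH (sqPrMap pX h w x).flip S.setup (qK pX x S).setup T.setup (qK pX x T).setup (shift_prS pX x S)
      (shift_prS pX x T) (KSch.compat_hom h w) (compat_qMap pX h w x) hl,
    mapCH_mapCH _ _ _ _ _ _ _ (jS pX x T ≫ prodMap pX h w) rfl he,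
    mapCH_mapCH _ _ _ _ _ _ _ (jS pX x T ≫ prodMap pX h w) (qMap_fst pX h w x) he]

theorem hasRelDim_prodMap [LocallyOfFiniteType h] {r : ℕ} (hr : Cyc.HasRelDim h r) :
    Cyc.HasRelDim (prodMap pX h w) r := by
  haveI : LocallyOfFiniteType (prodMap pX h w) := KSch.lft_hom (S := prodK pX S) (T := prodK pX T) _ (prodMap_over pX h w)
  exact FibDim.hasRelDim_baseChange (sqMap pX h w).flip hr

/-- Exterior products commute with flat pull-back. -/
theorem ext_pull [Flat h] [LocallyOfFiniteType h] [LocallyOfFiniteType (prodMap pX h w)] {r : ℕ}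
    (hr : Cyc.HasRelDim h r) {b k b' k' : ℤ} (hl : k = b + (FibDim.rd pX x : ℕ)) (hb : b' = b + r)
    (hk : k' = k + r) (hl' : k' = b' + (FibDim.rd pX x : ℕ)) (y : ChowOps.CH S.Y S.δ b) :
    FlatClass.pullCH (FlatShift.hasShift_of_hasRelDim (prodMap pX h w) (hasRelDim_prodMap pX h w hr)
        (compat_prodMap pX h w)) (prodK pX S).setup (prodK pX T).setup k k' hk (ext pX x S b k hl y) =
      ext pX x T b' k' hl' (FlatClass.pullCH (FlatShift.hasShift_of_hasRelDim h hr (KSch.compat_hom h w))
        S.setup T.setup b b' hb y) := by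
  haveI : Flat (qMap pX h w x) := MorphismProperty.of_isPullback (sqPrMap pX h w x).flip ‹Flat h›
  haveI : LocallyOfFiniteType (qMap pX h w x) := KSch.lft_hom (S := qK pX x S) (T := qK pX x T) _ (qMap_over pX h w x)
  have hq : FlatShift.HasShift (qMap pX h w x) (qK pX x T).δ (qK pX x S).δ r :=
    FlatShift.hasShift_of_hasRelDim _ (FibDim.hasRelDim_baseChange (sqPrMap pX h w x).flip hr)
      (compat_qMap pX h w x)
  have ht : FlatShift.HasShift (prS pX x T ≫ h) (qK pX x T).δ S.δ ((r : ℤ) + (FibDim.rd pX x : ℕ)) :=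
    (shift_prS pX x T).comp (FlatShift.hasShift_of_hasRelDim h hr (KSch.compat_hom h w))
  simp only [ext, AddMonoidHom.comp_apply]
  refine (pullCH_mapCH (sqQMap pX h w x) (prodK pX S).setup (prodK pX T).setup (qK pX x S).setup (qK pX x T).setup
      _ hq (compat_jS pX x S) (compat_jS pX x T) hk _).trans (congrArg _ ?_)
  refine (pullCH_pullCH (qK pX x T).setup (qK pX x S).setup S.setup hq (shift_prS pX x S) (e := prS pX x T ≫ h)
      (sqPrMap pX h w x).w (t := (r : ℤ) + (FibDim.rd pX x : ℕ)) (add_comm _ _) ht hl hk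
      (show k' = b + ((r : ℤ) + (FibDim.rd pX x : ℕ)) by omega) _).trans ?_
  exact (pullCH_pullCH (qK pX x T).setup T.setup S.setup (shift_prS pX x T)
      (FlatShift.hasShift_of_hasRelDim h hr (KSch.compat_hom h w)) (e := prS pX x T ≫ h) rfl rfl ht hb hl'
      (show k' = b + ((r : ℤ) + (FibDim.rd pX x : ℕ)) by omega) _).symm

variable {q : ℤ} (c : Bivar.Cl q h T.δ S.δ)

/-- The identity square. -/
abbrev sqI : Bivar.Sq h T.δ S.δ :=
  ⟨S.Y, T.Y, 𝟙 S.Y, h, 𝟙 T.Y, IsPullback.of_vert_isIso ⟨by simp⟩, inferInstance, S.δ, T.δ,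
    Bivar.deltaCompat_id _, Bivar.deltaCompat_id _⟩

/-- The square of the products. -/
abbrev sqP : Bivar.Sq h T.δ S.δ :=
  ⟨prod pX S, prod pX T, q₂ pX S, prodMap pX h w, q₂ pX T, sqMap pX h w, inferInstance, (prodK pX S).δ,
    (prodK pX T).δ, compat_q₂ pX S, compat_q₂ pX T⟩

/-- The square of the products with the closure of a point. -/
abbrev sqV : Bivar.Sq h T.δ S.δ :=
  ⟨qS pX x S, qS pX x T, prS pX x S, qMap pX h w x, prS pX x T, sqPrMap pX h w x, inferInstance, (qK pX x S).δ,
    (qK pX x T).δ, compat_prS pX x S, compat_prS pX x T⟩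

/-- Exterior products commute with bivariant classes. -/
theorem ext_class (b k : ℤ) (hl : k = b + (FibDim.rd pX x : ℕ)) (hl' : k - q = b - q + (FibDim.rd pX x : ℕ))
    (y : ChowOps.CH S.Y S.δ b) :
    c.op (sqP pX h w) k (ext pX x S b k hl y) = ext pX x T (b - q) (k - q) hl' (c.op (sqI h) b y) := by
  have h1 := cl_push T.setup S.setup c (sqP pX h w) (sqV pX h w x) (jS pX x S) (jS pX x T) rfl
    (qMap_fst pX h w x).symm rfl k (FlatClass.pullCH (shift_prS pX x S) S.setup (qK pX x S).setup b k hl y)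
  have h2 := cl_pull T.setup S.setup c (sqI h) (sqV pX h w x) (prS pX x S) (prS pX x T) (FibDim.rd pX x)
    (hasRelDim_prS pX x S) (hasRelDim_prS pX x T) (Category.comp_id _) (sqPrMap pX h w x).w.symm
    (Category.comp_id _) hl y
  exact h1.trans (congrArg _ h2)

end Natural

end Groth.Agent.H23.Kron
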