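import Groth.Agent.H23.KronOp

/-! The Kronecker functional of the class and uniqueness. -/

set_option autoImplicit false
set_option linter.style.haveILetI false
set_option backward.isDefEq.respectTransparency false
set_option backward.isDefEq.respectTransparency.types false

universe u

open CategoryTheory CategoryTheory.Limits AlgebraicGeometry IsLocalRing
open scoped TensorProduct DirectSum

noncomputable section

namespace Groth.Agent.H23.Kron

open Groth.Agent

variable (K : Type u) [Field K]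

/-- The point. -/
abbrev pointK : KSch K := ⟨Spec (.of K), 𝟙 _, inferInstance, fun _ => 0, Bivar.deltaCompat_id _⟩

/-- The class of the point. -/
def ptClass (b : ℤ) (hb : b = 0) : ChowOps.CH (pointK K).Y (pointK K).δ b :=
  ChowOps.cl (IntegralTest.pointCyc (closedPoint K) 1) (IntegralTest.pointCyc_mem _ 1 hb.symm)

variable {K} {X : Scheme.{u}} (pX : X ⟶ Spec (.of K)) [IsProper pX] {δX : X → ℤ}
  (hδX : Cyc.DeltaCompat pX δX (fun _ => 0))

/-- Cycle classes on a point. -/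
theorem point_classes {b : ℤ} (y : ChowOps.CH (pointK K).Y (pointK K).δ b) :
    y = 0 ∨ ∃ (hb : b = 0) (n : ℤ), y = n • ptClass K b hb := by
  haveI : Subsingleton ↥(Spec (CommRingCat.of K)) := FibDim.subsingleton_spec_field K
  obtain ⟨α, hα, rfl⟩ := Bivar.exists_rep y
  by_cases hb : b = 0
  · refine Or.inr ⟨hb, α (closedPoint K), ?_⟩
    rw [ptClass, ← ExtCap.cl_zsmul _ _ _ (ExtCap.zsmul_mem _ (IntegralTest.pointCyc_mem _ 1 hb.symm))]
    refine Bivar.cl_congr (DFunLike.coe_injective (funext fun z => ?_)) _ _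
    obtain rfl : z = closedPoint K := Subsingleton.elim _ _
    show α (closedPoint K) = α (closedPoint K) *
      IntegralTest.pointCyc (T := Spec (CommRingCat.of K)) (closedPoint K) 1 (closedPoint K)
    rw [IntegralTest.pointCyc_self, mul_one]
  · refine Or.inl ((Bivar.cl_congr ?_ hα ((ChowOps.zk _ _ b).zero_mem)).trans Bivar.cl_zero)
    exact DFunLike.coe_injective (funext fun z => hα z fun e => hb e.symm)

instance : IsIso (q₁ pX (pointK K)) := inferInstanceAs (IsIso (pullback.fst pX (𝟙 _)))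

include hδX in
/-- The exterior product of a point with the point. -/
theorem ext_ptClass (x : X) {b k : ℤ} (hb : b = 0) (hl : k = b + (FibDim.rd pX x : ℕ)) (hx : δX x = k) :
    PushClass.mapCH (q₁ pX (pointK K)) (prodK pX (pointK K)).setup (setupX pX hδX)
        (compat_q₁ pX hδX (pointK K)) k (ext pX x (pointK K) b k hl (ptClass K b hb)) =
      ChowOps.cl (IntegralTest.pointCyc x 1) (IntegralTest.pointCyc_mem x 1 hx) := by
  subst hb
  obtain ⟨ζ, hζ, e, hf⟩ := ext_cl pX hδX x (pointK K) hl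
    (IntegralTest.pointCyc_mem (closedPoint K) 1 (δ := (pointK K).δ) rfl)
  rw [ptClass, e, PushClass.mapCH_cl]
  refine Bivar.cl_congr (DFunLike.coe_injective (funext fun x' => ?_)) _ _
  haveI : Subsingleton ↥(Spec (CommRingCat.of K)) := FibDim.subsingleton_spec_field K
  have hd : ∀ t, (prodK pX (pointK K)).δ t = δX (q₁ pX (pointK K) t) := fun t =>
    CycLib.delta_eq_of_surjective _ (compat_q₁ pX hδX (pointK K)) (CycLib.residueFieldMap_bijective _ t).2
  obtain ⟨t, rfl⟩ := (q₁ pX (pointK K)).surjective x'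
  rw [show (prodK pX (pointK K)).δ = fun t => δX (q₁ pX (pointK K) t) from funext hd,
    CycLib.map_preimmersion_apply (q₁ pX (pointK K)) δX ζ t, hf, ExtCap.cross,
    if_pos (by rw [hd]; exact (add_zero _).symm),
    show IntegralTest.pointCyc (closedPoint K) 1 (q₂ pX (pointK K) t) = 1 by
      rw [show q₂ pX (pointK K) t = closedPoint K from Subsingleton.elim _ _, IntegralTest.pointCyc_self],
    mul_one]
  refine (congrArg _ ?_).trans (mul_one _)
  rw [GraphPull.map_maximalIdeal_of_isIso]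
  have hle : (maximalIdeal ((pointK K).Y.presheaf.stalk (q₂ pX (pointK K) t))).map
      ((q₂ pX (pointK K)).stalkMap t).hom ≤ maximalIdeal ((prod pX (pointK K)).presheaf.stalk t) :=
    haveI hl : IsLocalHom ((q₂ pX (pointK K)).stalkMap t).hom := inferInstance
    ((local_hom_TFAE ((q₂ pX (pointK K)).stalkMap t).hom).out 0 2).1 hl
  haveI : IsSimpleModule ((prod pX (pointK K)).presheaf.stalk t)
      ((prod pX (pointK K)).presheaf.stalk t ⧸ maximalIdeal ((prod pX (pointK K)).presheaf.stalk t)) :=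
    isSimpleModule_iff_isCoatom.2 (maximalIdeal.isMaximal _).out
  rw [(Submodule.quotEquivOfEq _ _ (sup_eq_left.2 hle)).length_eq, Module.length_eq_one]
  rfl

variable (κ : ∀ (S : KSch K) (a m : ℤ), ChowOps.CH X δX a →ₗ[ℤ] ChowOps.CH S.Y S.δ (m - a) →ₗ[ℤ]
    ChowOps.CH (prod pX S) (prodK pX S).δ m)
  (hκ : ∀ (S : KSch K) (a m : ℤ) (α : AlgebraicCycle X ℤ) (hα : α ∈ Cyc.Zk X δX a)
    (β : AlgebraicCycle S.Y ℤ) (hβ : β ∈ Cyc.Zk S.Y S.δ (m - a))
    (ζ : AlgebraicCycle (prod pX S) ℤ) (hζ : ζ ∈ Cyc.Zk (prod pX S) (prodK pX S).δ m),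
    (∀ t, ζ t = ExtCap.cross (q₁ pX S) (q₂ pX S) δX S.δ (prodK pX S).δ ⇑α ⇑β t) →
    κ S a m (ChowOps.cl α hα) (ChowOps.cl β hβ) = ChowOps.cl ζ hζ)
  (hbij : ∀ (S : KSch K) (m : ℤ), Function.Bijective
    (DirectSum.toModule ℤ ℤ (ChowOps.CH (prod pX S) (prodK pX S).δ m) (fun a : ℤ => TensorProduct.lift (κ S a m))))
  {p : ℤ} (φ : ChowOps.CH X δX p →+ ℤ)

include hδX hκ in
/-- Over a point the operation is the functional. -/
theorem opE_point (z : ChowOps.CH (prod pX (pointK K)) (prodK pX (pointK K)).δ p) :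
    opE pX κ hbij φ (pointK K) p z =
      φ (PushClass.mapCH (q₁ pX (pointK K)) (prodK pX (pointK K)).setup (setupX pX hδX)
        (compat_q₁ pX hδX (pointK K)) p z) • ptClass K (p - p) (sub_self p) := by
  refine hom_ext pX hδX κ hκ hbij (pointK K) p (opE pX κ hbij φ (pointK K) p)
    (((zmultiplesHom _) (ptClass K (p - p) (sub_self p))).comp (φ.comp (PushClass.mapCH (q₁ pX (pointK K))
      (prodK pX (pointK K)).setup (setupX pX hδX) (compat_q₁ pX hδX (pointK K)) p)))
    (fun x b hl y => ?_) z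
  rcases point_classes y with rfl | ⟨hb, n, rfl⟩
  · simp only [map_zero]
  simp only [map_zsmul]
  congr 1
  have hx : δX x = p := by rw [delta_pt pX hδX x]; omega
  rw [AddMonoidHom.comp_apply, AddMonoidHom.comp_apply, zmultiplesHom_apply, ext_ptClass pX hδX x hb hl hx,
    opE_ext pX hδX κ hκ hbij φ (pointK K) x hx hl (by omega), ptClass, Bivar.chCast_cl]
  rfl

include hδX hκ in
/-- The degree of the operation. -/
theorem push_kOp {S : KSch K} (g : S.Y ⟶ X) (hg : g ≫ pX = S.p) [IsProper g] [IsProper S.p]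
    (x : ChowOps.CH S.Y S.δ p) :
    PushClass.mapCH S.p S.setup (pointK K).setup
        (KSch.compat_hom (S := pointK K) (T := S) S.p (Category.comp_id _)) (p - p)
        (kOp pX κ hbij φ g hg p x) =
      φ (PushClass.mapCH g S.setup (setupX pX hδX) (KSch.compat_hom (S := baseK pX hδX) (T := S) g hg) p x) •
        ptClass K (p - p) (sub_self p) := by
  simp only [kOp, AddMonoidHom.comp_apply]
  rw [← opE_push pX hδX κ hκ hbij φ (S := pointK K) (T := S) S.p (Category.comp_id _) p,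
    opE_point pX hδX κ hκ hbij φ]
  have e1 := mapCH_mapCH (prodK pX S).setup (prodK pX (pointK K)).setup (setupX pX hδX)
    (prodMap pX (S := pointK K) (T := S) S.p (Category.comp_id _)) (q₁ pX (pointK K))
    (compat_prodMap pX (S := pointK K) (T := S) S.p (Category.comp_id _)) (compat_q₁ pX hδX (pointK K))
    (q₁ pX S) (prodMap_fst pX (S := pointK K) (T := S) S.p (Category.comp_id _)) (compat_q₁ pX hδX S) p
    (PushClass.mapCH (graph pX g hg) S.setup (prodK pX S).setup (compat_graph pX g hg) p x)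
  have e2 := mapCH_mapCH S.setup (prodK pX S).setup (setupX pX hδX) (graph pX g hg) (q₁ pX S)
    (compat_graph pX g hg) (compat_q₁ pX hδX S) g (graph_fst pX g hg)
    (KSch.compat_hom (S := baseK pX hδX) (T := S) g hg) p x
  exact congrArg (· • ptClass K (p - p) (sub_self p)) (congrArg φ (e1.trans e2))

include hδX hκ in
/-- The Kronecker functional. -/
theorem kron_spec (α : AlgebraicCycle X ℤ) (hα : α ∈ Cyc.Zk X δX p) (β : AlgebraicCycle X ℤ)
    (hβ : β ∈ Cyc.Zk X δX (p - p))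
    (h : (kronClass pX hδX κ hκ hbij φ).cap p (ChowOps.cl α hα) = ChowOps.cl β hβ) :
    φ (ChowOps.cl α hα) = ChowOps.deg pX δX β := by
  haveI : IsProper (ofSq pX hδX (Bivar.OSq.self X δX)).p := by
    show IsProper (𝟙 X ≫ pX)
    infer_instance
  have key := push_kOp pX hδX κ hκ hbij φ (S := ofSq pX hδX (Bivar.OSq.self X δX)) (𝟙 X) rfl (ChowOps.cl α hα)
  rw [show kOp pX κ hbij φ (S := ofSq pX hδX (Bivar.OSq.self X δX)) (𝟙 X) rfl p (ChowOps.cl α hα) =
      ChowOps.cl β hβ from h, mapCH_id _ (𝟙 X) rfl, PushClass.mapCH_cl, ptClass,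
    ← ExtCap.cl_zsmul _ _ _ (ExtCap.zsmul_mem _ (IntegralTest.pointCyc_mem _ 1 (sub_self p).symm))] at key
  have h0 := ExtCap.eq_zero_of_ratEquivZero_point
    (ClEq.ratEquiv_of_cl_eq (CycLib.isSetup_spec_field K).2.2 key) (closedPoint K)
  have h1 : AlgebraicCycle.map (𝟙 X ≫ pX) δX (fun _ => (0 : ℤ)) β (closedPoint K) =
    φ (ChowOps.cl α hα) * IntegralTest.pointCyc (T := Spec (CommRingCat.of K)) (closedPoint K) 1 (closedPoint K) :=
    sub_eq_zero.1 h0
  rw [IntegralTest.pointCyc_self, mul_one] at h1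
  rw [← h1]
  exact congrArg (fun C : AlgebraicCycle _ ℤ => C (closedPoint K))
    (CycLib.map_congr (Category.id_comp pX) δX (fun _ => (0 : ℤ)) β)

include hδX hκ in
theorem eq_kOp (c : Bivar.OpCl p X δX)
    (hc : ∀ (α : AlgebraicCycle X ℤ) (hα : α ∈ Cyc.Zk X δX p) (β : AlgebraicCycle X ℤ)
      (hβ : β ∈ Cyc.Zk X δX (p - p)),
      c.cap p (ChowOps.cl α hα) = ChowOps.cl β hβ → φ (ChowOps.cl α hα) = ChowOps.deg pX δX β)
    {S : KSch K} (g : S.Y ⟶ X) (hg : g ≫ pX = S.p) (hl : LocallyOfFiniteType g)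
    (hgδ : Cyc.DeltaCompat g S.δ δX) (k : ℤ) (z : ChowOps.CH S.Y S.δ k) :
    c.op ⟨S.Y, g, hl, S.δ, hgδ⟩ k z = kOp pX κ hbij φ g hg k z := by
  have hX := setupX pX hδX
  haveI : IsProper (q₂ pX S) := ExtCap.isProper_snd (sqProd pX S)
  obtain ⟨α, hα, rfl⟩ := Bivar.exists_rep z
  have hq₂ := compat_q₂ pX S
  obtain ⟨β₀, hβ₀, e1, e2⟩ := c.push (ExtCap.sP (sqProd pX S) (compat_q₁ pX hδX S)) ⟨S.Y, g, hl, S.δ, hgδ⟩
    (graph pX g hg) (graph_fst pX g hg) k α hα
  have e3 : PushClass.mapCH (q₂ pX S) (prodK pX S).setup S.setup hq₂ (k - p)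
      (c.op (ExtCap.sP (sqProd pX S) (compat_q₁ pX hδX S)) k (PushClass.mapCH (graph pX g hg) S.setup
        (prodK pX S).setup (compat_graph pX g hg) k (ChowOps.cl α hα))) =
      c.op ⟨S.Y, g, hl, S.δ, hgδ⟩ k (ChowOps.cl α hα) := by
    rw [PushClass.mapCH_cl, e2, PushClass.mapCH_cl, e1]
    refine Bivar.cl_congr ?_ _ _
    rw [CycLib.map_map _ (q₂ pX S) (compat_graph pX g hg) hq₂, CycLib.map_congr (graph_snd pX g hg)]
    exact ExtCap.map_id' β₀
  rw [← e3]
  refine hom_ext pX hδX κ hκ hbij S k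
    ((PushClass.mapCH (q₂ pX S) (prodK pX S).setup S.setup hq₂ (k - p)).comp
      (c.op (ExtCap.sP (sqProd pX S) (compat_q₁ pX hδX S)) k))
    (opE pX κ hbij φ S k) (fun x b hl y => ?_) _
  obtain ⟨v, hv, rfl⟩ := Bivar.exists_rep y
  obtain ⟨ζ, hζ, e, hf⟩ := ext_cl pX hδX x S hl hv
  obtain ⟨β, hβ, eβ⟩ := Bivar.exists_rep (c.cap (δX x)
    (ChowOps.cl (IntegralTest.pointCyc x 1) (IntegralTest.pointCyc_mem x 1 rfl)))
  have hv' : v ∈ Cyc.Zk S.Y S.δ (k - δX x) := by
    have e' : k - δX x = b := by rw [delta_pt pX hδX x]; omega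
    rw [e']
    exact hv
  obtain ⟨H, e4⟩ := ExtCap.cap_cross (sqProd pX S) hX S.setup (prodK pX S).setup hδX S.compat
    (compat_q₁ pX hδX S) c (IntegralTest.pointCyc_mem x 1 rfl) hβ eβ.symm hv' hζ hf
  rw [AddMonoidHom.comp_apply, e, e4, ← e]
  by_cases hx : δX x = p
  · subst hx
    have hd := hc _ (IntegralTest.pointCyc_mem x 1 rfl) β hβ eβ.symm
    rw [opE_ext pX hδX κ hκ hbij φ S x rfl hl (by rw [delta_pt pX hδX x]; omega), hd, Bivar.chCast_cl,
      ← ExtCap.cl_zsmul _ _ _ H]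
  · rw [opE_ext_ne pX hδX κ hκ hbij φ S x hx hl]
    have hd : ChowOps.deg pX δX β = 0 := ExtCap.deg_eq_zero pX (sub_ne_zero.2 hx) hβ
    exact (Bivar.cl_congr (by rw [hd, zero_smul]) _ ((ChowOps.zk _ _ _).zero_mem)).trans Bivar.cl_zero

include hδX hκ in
/-- Every class with that functional is the constructed one. -/
theorem eq_kronClass (c : Bivar.OpCl p X δX)
    (hc : ∀ (α : AlgebraicCycle X ℤ) (hα : α ∈ Cyc.Zk X δX p) (β : AlgebraicCycle X ℤ)
      (hβ : β ∈ Cyc.Zk X δX (p - p)),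
      c.cap p (ChowOps.cl α hα) = ChowOps.cl β hβ → φ (ChowOps.cl α hα) = ChowOps.deg pX δX β) :
    c = kronClass pX hδX κ hκ hbij φ :=
  Bivar.OpCl.ext (funext fun s => funext fun k => AddMonoidHom.ext fun z =>
    eq_kOp pX hδX κ hκ hbij φ c hc (S := ofSq pX hδX s) s.g rfl s.lft s.compat k z)

end Groth.Agent.H23.Kron
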