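import Groth.Agent.H23.KronGeom

/-! The operational class with a prescribed Kronecker functional. -/

set_option autoImplicit false
set_option linter.style.haveILetI false
set_option backward.isDefEq.respectTransparency false
set_option backward.isDefEq.respectTransparency.types false

universe u

open CategoryTheory CategoryTheory.Limits AlgebraicGeometry IsLocalRing
open scoped TensorProduct DirectSum

noncomputable section

namespace Groth.Agent.H23.Kron

open Groth.Agent

section Decomp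

variable {T : Scheme.{u}} {δ : T → ℤ} {k : ℤ}

/-- The class of a finite sum, any index. -/
theorem cl_sum' {ι : Type*} (s : Finset ι) (F : ι → ↥(ChowOps.zk T δ k))
    {α : AlgebraicCycle T ℤ} (hα : α ∈ Cyc.Zk T δ k) (e : α = ∑ i ∈ s, (F i : AlgebraicCycle T ℤ)) :
    ChowOps.cl α hα = ∑ i ∈ s, ChowOps.clHom T δ k (F i) := by
  rw [← map_sum]
  exact congrArg (ChowOps.clHom T δ k) (Subtype.ext (e.trans (AddSubmonoidClass.coe_finsetSum F s).symm))

/-- On a compact scheme a class is a combination of points. -/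
theorem exists_points [CompactSpace T] (x : ChowOps.CH T δ k) :
    ∃ (s : Finset {t : T // δ t = k}) (n : {t : T // δ t = k} → ℤ),
      x = ∑ t ∈ s, n t • ChowOps.cl (IntegralTest.pointCyc (t : T) 1) (IntegralTest.pointCyc_mem _ 1 t.2) := by
  classical
  obtain ⟨α, hα, rfl⟩ := Bivar.exists_rep x
  have hfin : (Function.support ⇑α).Finite := by
    have := α.locallyFiniteSupport.finite_inter_support_of_isCompact (isCompact_univ (X := T))
    rwa [Set.univ_inter] at this
  refine ⟨hfin.toFinset.attach.image fun t => ⟨t.1, by_contra fun h => (hfin.mem_toFinset.1 t.2) (hα _ h)⟩,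
    fun t => α t, ?_⟩
  refine (cl_sum' _ (fun t : {t : T // δ t = k} =>
    α t • (⟨IntegralTest.pointCyc (t : T) 1, IntegralTest.pointCyc_mem _ 1 t.2⟩ : ↥(ChowOps.zk T δ k))) hα ?_).trans
    (Finset.sum_congr rfl fun t _ => map_zsmul _ _ _)
  refine DFunLike.coe_injective (funext fun y => ?_)
  rw [Function.locallyFinsuppWithin.coe_sum, Finset.sum_apply]
  by_cases hy : α y = 0
  · rw [hy, Finset.sum_eq_zero fun t _ => ?_]
    show α t * IntegralTest.pointCyc (t : T) 1 y = 0
    by_cases e : y = (t : T)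
    · rw [← e, hy, zero_mul]
    · rw [IntegralTest.pointCyc_ne 1 e, mul_zero]
  · have hk : δ y = k := by_contra fun h => hy (hα y h)
    rw [Finset.sum_eq_single_of_mem (⟨y, hk⟩ : {t : T // δ t = k})]
    · show α y = α y * IntegralTest.pointCyc y 1 y
      rw [IntegralTest.pointCyc_self, mul_one]
    · exact Finset.mem_image.2 ⟨⟨y, hfin.mem_toFinset.2 hy⟩, Finset.mem_attach _ _, rfl⟩
    · intro t _ ht
      show α t * IntegralTest.pointCyc (t : T) 1 y = 0
      rw [IntegralTest.pointCyc_ne 1 fun e => ht (Subtype.ext e.symm), mul_zero]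

end Decomp

variable {K : Type u} [Field K] {X : Scheme.{u}} (pX : X ⟶ Spec (.of K)) [IsProper pX] {δX : X → ℤ}
  (hδX : Cyc.DeltaCompat pX δX (fun _ => 0))
  (κ : ∀ (S : KSch K) (a m : ℤ), ChowOps.CH X δX a →ₗ[ℤ] ChowOps.CH S.Y S.δ (m - a) →ₗ[ℤ]
    ChowOps.CH (prod pX S) (prodK pX S).δ m)
  (hκ : ∀ (S : KSch K) (a m : ℤ) (α : AlgebraicCycle X ℤ) (hα : α ∈ Cyc.Zk X δX a)
    (β : AlgebraicCycle S.Y ℤ) (hβ : β ∈ Cyc.Zk S.Y S.δ (m - a))
    (ζ : AlgebraicCycle (prod pX S) ℤ) (hζ : ζ ∈ Cyc.Zk (prod pX S) (prodK pX S).δ m),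
    (∀ t, ζ t = ExtCap.cross (q₁ pX S) (q₂ pX S) δX S.δ (prodK pX S).δ ⇑α ⇑β t) →
    κ S a m (ChowOps.cl α hα) (ChowOps.cl β hβ) = ChowOps.cl ζ hζ)
  (hbij : ∀ (S : KSch K) (m : ℤ), Function.Bijective
    (DirectSum.toModule ℤ ℤ (ChowOps.CH (prod pX S) (prodK pX S).δ m) (fun a : ℤ => TensorProduct.lift (κ S a m))))
  {p : ℤ} (φ : ChowOps.CH X δX p →+ ℤ)

include hδX hκ in
/-- The Künneth map on a point. -/
theorem kap_point (S : KSch K) (x : X) {a : ℤ} (ha : δX x = a) (k : ℤ)
    (hl : k = k - a + (FibDim.rd pX x : ℕ)) (y : ChowOps.CH S.Y S.δ (k - a)) :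
    κ S a k (ChowOps.cl (IntegralTest.pointCyc x 1) (IntegralTest.pointCyc_mem x 1 ha)) y =
      ext pX x S (k - a) k hl y := by
  obtain ⟨β, hβ, rfl⟩ := Bivar.exists_rep y
  obtain ⟨ζ, hζ, e, hf⟩ := ext_cl pX hδX x S hl hβ
  rw [e]
  exact hκ S a k _ _ β hβ ζ hζ hf

include hδX hκ hbij in
/-- Additive maps agreeing on exterior products with points are equal. -/
theorem hom_ext (S : KSch K) (k : ℤ) {M : Type*} [AddCommGroup M]
    (F G : ChowOps.CH (prod pX S) (prodK pX S).δ k →+ M)
    (h : ∀ (x : X) (b : ℤ) (hl : k = b + (FibDim.rd pX x : ℕ)) (y : ChowOps.CH S.Y S.δ b),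
      F (ext pX x S b k hl y) = G (ext pX x S b k hl y)) (z : ChowOps.CH (prod pX S) (prodK pX S).δ k) :
    F z = G z := by
  obtain ⟨d, rfl⟩ := (hbij S k).2 z
  induction d using DirectSum.induction_on with
  | zero => simp only [map_zero]
  | add d e hd he => simp only [map_add, hd, he]
  | of a t =>
    rw [← DirectSum.lof_eq_of ℤ, DirectSum.toModule_lof]
    induction t using TensorProduct.induction_on with
    | zero => simp only [map_zero]
    | add t t' ht ht' => simp only [map_add, ht, ht']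
    | tmul α y =>
      rw [TensorProduct.lift.tmul]
      haveI : CompactSpace X := QuasiCompact.compactSpace_of_compactSpace pX
      obtain ⟨s, n, rfl⟩ := exists_points α
      simp only [map_sum, map_zsmul, LinearMap.sum_apply, LinearMap.smul_apply]
      refine Finset.sum_congr rfl fun x _ => ?_
      have hx := delta_pt pX hδX (x : X)
      have hx2 := x.2
      rw [kap_point pX hδX κ hκ S (x : X) x.2 k (by omega) y, h]

/-- The functional applied to the component of degree `p`. -/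
def evalMap (S : KSch K) (m : ℤ) :
    (⨁ a : ℤ, ChowOps.CH X δX a ⊗[ℤ] ChowOps.CH S.Y S.δ (m - a)) →ₗ[ℤ] ChowOps.CH S.Y S.δ (m - p) :=
  (TensorProduct.lift ((LinearMap.lsmul ℤ (ChowOps.CH S.Y S.δ (m - p))).comp φ.toIntLinearMap)).comp
    (DirectSum.component ℤ ℤ (fun a : ℤ => ChowOps.CH X δX a ⊗[ℤ] ChowOps.CH S.Y S.δ (m - a)) p)

/-- The functional transported through the Künneth decomposition. -/
def opE (S : KSch K) (m : ℤ) : ChowOps.CH (prod pX S) (prodK pX S).δ m →+ ChowOps.CH S.Y S.δ (m - p) :=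
  ((evalMap φ S m).comp (LinearEquiv.ofBijective _ (hbij S m)).symm.toLinearMap).toAddMonoidHom

theorem opE_kap (S : KSch K) (a m : ℤ) (α : ChowOps.CH X δX a) (y : ChowOps.CH S.Y S.δ (m - a)) :
    opE pX κ hbij φ S m (κ S a m α y) =
      evalMap φ S m (DirectSum.lof ℤ ℤ (fun a : ℤ => ChowOps.CH X δX a ⊗[ℤ] ChowOps.CH S.Y S.δ (m - a)) a
        (α ⊗ₜ[ℤ] y)) := by
  refine congrArg (evalMap φ S m) ((LinearEquiv.symm_apply_eq _).2 ?_)
  rw [LinearEquiv.ofBijective_apply, DirectSum.toModule_lof, TensorProduct.lift.tmul]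

include hδX hκ in
/-- On a point of dimension `p`. -/
theorem opE_ext (S : KSch K) (x : X) (hx : δX x = p) {b m : ℤ} (hl : m = b + (FibDim.rd pX x : ℕ)) (e : b = m - p)
    (y : ChowOps.CH S.Y S.δ b) :
    opE pX κ hbij φ S m (ext pX x S b m hl y) =
      φ (ChowOps.cl (IntegralTest.pointCyc x 1) (IntegralTest.pointCyc_mem x 1 hx)) •
        Bivar.chCast S.Y S.δ e y := by
  subst e
  rw [← kap_point pX hδX κ hκ S x hx m hl y, opE_kap, evalMap, LinearMap.comp_apply, DirectSum.component.lof_self,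
    TensorProduct.lift.tmul]
  rfl

include hδX hκ in
/-- On a point of another dimension. -/
theorem opE_ext_ne (S : KSch K) (x : X) (hx : δX x ≠ p) {b m : ℤ} (hl : m = b + (FibDim.rd pX x : ℕ))
    (y : ChowOps.CH S.Y S.δ b) : opE pX κ hbij φ S m (ext pX x S b m hl y) = 0 := by
  have e : b = m - δX x := by rw [delta_pt pX hδX x]; omega
  subst e
  rw [← kap_point pX hδX κ hκ S x rfl m hl y, opE_kap, evalMap, LinearMap.comp_apply,
    DirectSum.component.of, dif_neg hx, map_zero]

section Natural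

variable {S T : KSch K} (h : T.Y ⟶ S.Y) (w : h ≫ S.p = T.p)

include hδX hκ in
theorem opE_push [IsProper h] (k : ℤ) (z : ChowOps.CH (prod pX T) (prodK pX T).δ k) :
    opE pX κ hbij φ S k
        (PushClass.mapCH (prodMap pX h w) (prodK pX T).setup (prodK pX S).setup (compat_prodMap pX h w) k z) =
      PushClass.mapCH h T.setup S.setup (KSch.compat_hom h w) (k - p) (opE pX κ hbij φ T k z) := by
  refine hom_ext pX hδX κ hκ hbij T k
    ((opE pX κ hbij φ S k).comp
      (PushClass.mapCH (prodMap pX h w) (prodK pX T).setup (prodK pX S).setup (compat_prodMap pX h w) k))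
    ((PushClass.mapCH h T.setup S.setup (KSch.compat_hom h w) (k - p)).comp (opE pX κ hbij φ T k))
    (fun x b hl y => ?_) z
  rw [AddMonoidHom.comp_apply, AddMonoidHom.comp_apply, ext_push pX h w x b k hl y]
  by_cases hx : δX x = p
  · have e : b = k - p := by rw [← hx, delta_pt pX hδX x]; omega
    rw [opE_ext pX hδX κ hκ hbij φ S x hx hl e, opE_ext pX hδX κ hκ hbij φ T x hx hl e, map_zsmul, mapCH_cast]
  · rw [opE_ext_ne pX hδX κ hκ hbij φ S x hx hl, opE_ext_ne pX hδX κ hκ hbij φ T x hx hl, map_zero]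

include hδX hκ in
theorem opE_pull [Flat h] [LocallyOfFiniteType h] [LocallyOfFiniteType (prodMap pX h w)] {r : ℕ}
    (hr : Cyc.HasRelDim h r) (k : ℤ) (z : ChowOps.CH (prod pX S) (prodK pX S).δ k) :
    opE pX κ hbij φ T (k + r)
        (FlatClass.pullCH (FlatShift.hasShift_of_hasRelDim (prodMap pX h w) (hasRelDim_prodMap pX h w hr)
          (compat_prodMap pX h w)) (prodK pX S).setup (prodK pX T).setup k (k + r) rfl z) =
      FlatClass.pullCH (FlatShift.hasShift_of_hasRelDim h hr (KSch.compat_hom h w)) S.setup T.setup (k - p)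
        (k + r - p) (by omega) (opE pX κ hbij φ S k z) := by
  refine hom_ext pX hδX κ hκ hbij S k
    ((opE pX κ hbij φ T (k + r)).comp (FlatClass.pullCH (FlatShift.hasShift_of_hasRelDim (prodMap pX h w)
      (hasRelDim_prodMap pX h w hr) (compat_prodMap pX h w)) (prodK pX S).setup (prodK pX T).setup k (k + r) rfl))
    ((FlatClass.pullCH (FlatShift.hasShift_of_hasRelDim h hr (KSch.compat_hom h w)) S.setup T.setup (k - p)
      (k + r - p) (by omega)).comp (opE pX κ hbij φ S k))
    (fun x b hl y => ?_) z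
  rw [AddMonoidHom.comp_apply, AddMonoidHom.comp_apply,
    ext_pull pX h w x hr hl (b' := b + r) rfl rfl (show k + (r : ℤ) = b + r + (FibDim.rd pX x : ℕ) by omega) y]
  by_cases hx : δX x = p
  · have e : b = k - p := by rw [← hx, delta_pt pX hδX x]; omega
    rw [opE_ext pX hδX κ hκ hbij φ S x hx hl e, opE_ext pX hδX κ hκ hbij φ T x hx _ (by omega), map_zsmul,
      pullCH_cast T.setup S.setup _ e (show b + (r : ℤ) = k + r - p by omega) rfl]
  · rw [opE_ext_ne pX hδX κ hκ hbij φ S x hx hl, opE_ext_ne pX hδX κ hκ hbij φ T x hx _, map_zero]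

include hδX hκ in
theorem opE_class {q : ℤ} (c : Bivar.Cl q h T.δ S.δ) (k : ℤ) (z : ChowOps.CH (prod pX S) (prodK pX S).δ k) :
    opE pX κ hbij φ T (k - q) (c.op (sqP pX h w) k z) =
      Bivar.chCast T.Y T.δ (show k - p - q = k - q - p by omega) (c.op (sqI h) (k - p) (opE pX κ hbij φ S k z)) := by
  refine hom_ext pX hδX κ hκ hbij S k ((opE pX κ hbij φ T (k - q)).comp (c.op (sqP pX h w) k))
    ((Bivar.chCast T.Y T.δ (show k - p - q = k - q - p by omega)).toAddMonoidHom.comp
      ((c.op (sqI h) (k - p)).comp (opE pX κ hbij φ S k)))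
    (fun x b hl y => ?_) z
  simp only [AddMonoidHom.comp_apply, AddEquiv.coe_toAddMonoidHom]
  rw [ext_class pX h w x c b k hl (by omega) y]
  by_cases hx : δX x = p
  · have e : b = k - p := by rw [← hx, delta_pt pX hδX x]; omega
    rw [opE_ext pX hδX κ hκ hbij φ S x hx hl e, opE_ext pX hδX κ hκ hbij φ T x hx _ (by omega), map_zsmul,
      map_zsmul, op_cast c (sqI h) e (by omega), chCast_chCast]
  · rw [opE_ext_ne pX hδX κ hκ hbij φ S x hx hl, opE_ext_ne pX hδX κ hκ hbij φ T x hx _, map_zero, map_zero]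

end Natural

section Graph

variable {S T : KSch K} (g : S.Y ⟶ X) (hg : g ≫ pX = S.p)

/-- The graph of a morphism to `X`. -/
def graph : S.Y ⟶ prod pX S := pullback.lift g (𝟙 _) (by rw [hg, Category.id_comp])

theorem graph_fst : graph pX g hg ≫ q₁ pX S = g := pullback.lift_fst _ _ _

theorem graph_snd : graph pX g hg ≫ q₂ pX S = 𝟙 _ := pullback.lift_snd _ _ _

instance : IsClosedImmersion (graph pX g hg) := by
  haveI : IsClosedImmersion (graph pX g hg ≫ q₂ pX S) := by rw [graph_snd]; infer_instance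
  exact IsClosedImmersion.of_comp (graph pX g hg) (q₂ pX S)

theorem compat_graph : Cyc.DeltaCompat (graph pX g hg) S.δ (prodK pX S).δ :=
  KSch.compat_hom (S := prodK pX S) (T := S) _
    (by show graph pX g hg ≫ q₂ pX S ≫ S.p = S.p; rw [← Category.assoc, graph_snd, Category.id_comp])

variable (g' : T.Y ⟶ X) (hg' : g' ≫ pX = T.p) (h : T.Y ⟶ S.Y) (hh : h ≫ g = g') (w : h ≫ S.p = T.p)

include hh in
theorem graph_natural : graph pX g' hg' ≫ prodMap pX h w = h ≫ graph pX g hg := by
  refine pullback.hom_ext ?_ ?_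
  · rw [Category.assoc, prodMap_fst, graph_fst, Category.assoc, graph_fst, hh]
  · rw [Category.assoc, prodMap_snd, ← Category.assoc, graph_snd, Category.id_comp, Category.assoc, graph_snd,
      Category.comp_id]

include hh in
theorem sqGraph : IsPullback h (graph pX g' hg') (graph pX g hg) (prodMap pX h w) :=
  IsPullback.of_bot (v₂₁ := q₂ pX T) (v₂₂ := q₂ pX S)
    (by rw [graph_snd, graph_snd]; exact IsPullback.of_vert_isIso ⟨by simp⟩)
    (graph_natural pX g hg g' hg' h hh w).symm (sqMap pX h w)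

end Graph

section Operation

variable {S T : KSch K} (g : S.Y ⟶ X) (hg : g ≫ pX = S.p) (g' : T.Y ⟶ X) (hg' : g' ≫ pX = T.p) (h : T.Y ⟶ S.Y)
  (hh : h ≫ g = g') (w : h ≫ S.p = T.p)

/-- The operation on a scheme over the field mapped to `X`. -/
def kOp (k : ℤ) : ChowOps.CH S.Y S.δ k →+ ChowOps.CH S.Y S.δ (k - p) :=
  (opE pX κ hbij φ S k).comp
    (PushClass.mapCH (graph pX g hg) S.setup (prodK pX S).setup (compat_graph pX g hg) k)

include hδX hκ hh in
theorem kOp_push [IsProper h] (k : ℤ) (x : ChowOps.CH T.Y T.δ k) :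
    kOp pX κ hbij φ g hg k (PushClass.mapCH h T.setup S.setup (KSch.compat_hom h w) k x) =
      PushClass.mapCH h T.setup S.setup (KSch.compat_hom h w) (k - p) (kOp pX κ hbij φ g' hg' k x) := by
  simp only [kOp, AddMonoidHom.comp_apply]
  rw [← opE_push pX hδX κ hκ hbij φ h w k]
  refine congrArg (opE pX κ hbij φ S k) ?_
  have he : Cyc.DeltaCompat (h ≫ graph pX g hg) T.δ (prodK pX S).δ :=
    Bivar.deltaCompat_comp h _ _ _ _ (KSch.compat_hom h w) (compat_graph pX g hg)
  rw [mapCH_mapCH _ _ _ h (graph pX g hg) _ _ (h ≫ graph pX g hg) rfl he,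
    mapCH_mapCH _ _ _ (graph pX g' hg') (prodMap pX h w) _ _ (h ≫ graph pX g hg)
      (graph_natural pX g hg g' hg' h hh w) he]

include hδX hκ hh in
theorem kOp_pull [Flat h] [LocallyOfFiniteType h] {r : ℕ} (hr : Cyc.HasRelDim h r) (k : ℤ)
    (x : ChowOps.CH S.Y S.δ k) :
    kOp pX κ hbij φ g' hg' (k + r)
        (FlatClass.pullCH (FlatShift.hasShift_of_hasRelDim h hr (KSch.compat_hom h w)) S.setup T.setup
          k (k + r) rfl x) =
      FlatClass.pullCH (FlatShift.hasShift_of_hasRelDim h hr (KSch.compat_hom h w)) S.setup T.setup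
          (k - p) (k + r - p) (by omega) (kOp pX κ hbij φ g hg k x) := by
  haveI : LocallyOfFiniteType (prodMap pX h w) :=
    KSch.lft_hom (S := prodK pX S) (T := prodK pX T) _ (prodMap_over pX h w)
  simp only [kOp, AddMonoidHom.comp_apply]
  rw [← opE_pull pX hδX κ hκ hbij φ h w hr k]
  refine congrArg (opE pX κ hbij φ T (k + r)) ?_
  exact (pullCH_mapCH (sqGraph pX g hg g' hg' h hh w) (prodK pX S).setup (prodK pX T).setup S.setup T.setup
    (FlatShift.hasShift_of_hasRelDim _ (hasRelDim_prodMap pX h w hr) (compat_prodMap pX h w))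
    (FlatShift.hasShift_of_hasRelDim h hr (KSch.compat_hom h w)) (compat_graph pX g hg)
    (compat_graph pX g' hg') rfl x).symm

include hδX hκ hh w in
theorem kOp_cl {q : ℤ} (c : Bivar.Cl q h T.δ S.δ) (k : ℤ) (x : ChowOps.CH S.Y S.δ k) :
    kOp pX κ hbij φ g' hg' (k - q) (c.op (sqI h) k x) =
      Bivar.chCast T.Y T.δ (show k - p - q = k - q - p by omega)
        (c.op (sqI h) (k - p) (kOp pX κ hbij φ g hg k x)) := by
  simp only [kOp, AddMonoidHom.comp_apply]
  refine Eq.trans (congrArg (opE pX κ hbij φ T (k - q)) ?_) (opE_class pX hδX κ hκ hbij φ h w c k _)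
  exact (cl_push T.setup S.setup c (sqP pX h w) (sqI h) (graph pX g hg) (graph pX g' hg')
    (graph_snd pX g hg) (graph_natural pX g hg g' hg' h hh w) (graph_snd pX g' hg') k x).symm

end Operation

section Assemble

/-- A test scheme as a scheme over the field. -/
abbrev ofSq (s : Bivar.OSq X δX) : KSch K :=
  haveI := s.lft
  ⟨s.Y, s.g ≫ pX, inferInstance, s.δ, Bivar.deltaCompat_comp s.g pX s.δ δX _ s.compat hδX⟩

/-- The operation. -/
def classOp (s : Bivar.OSq X δX) (k : ℤ) : ChowOps.CH s.Y s.δ k →+ ChowOps.CH s.Y s.δ (k - p) :=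
  kOp pX κ hbij φ (S := ofSq pX hδX s) s.g rfl k

theorem over_hom {s t : Bivar.OSq X δX} (h : t.Y ⟶ s.Y) (hh : h ≫ s.g = t.g) :
    h ≫ (ofSq pX hδX s).p = (ofSq pX hδX t).p := by
  show h ≫ s.g ≫ pX = t.g ≫ pX
  rw [← Category.assoc, hh]

include hκ in
/-- The class. -/
def kronClass : Bivar.OpCl p X δX where
  op := classOp pX hδX κ hbij φ
  push s t h _ hh k := by
    intro α hα
    obtain ⟨β, hβ, e⟩ := Bivar.exists_rep (classOp pX hδX κ hbij φ t k (ChowOps.cl α hα))
    refine ⟨β, hβ, e.symm, ?_⟩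
    have w := over_hom pX hδX h hh
    have h1 := kOp_push pX hδX κ hκ hbij φ (S := ofSq pX hδX s) (T := ofSq pX hδX t) s.g rfl t.g rfl h hh w k
      (ChowOps.cl α hα)
    rw [PushClass.mapCH_cl, show kOp pX κ hbij φ (S := ofSq pX hδX t) t.g rfl k (ChowOps.cl α hα) = ChowOps.cl β hβ
      from e.symm, PushClass.mapCH_cl] at h1
    exact h1
  pull s t h _ r hr hh k := by
    intro α hα
    haveI := s.lft
    haveI : LocallyOfFiniteType h := KSch.lft_hom (S := ofSq pX hδX s) (T := ofSq pX hδX t) h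
      (over_hom pX hδX h hh)
    obtain ⟨β, hβ, e⟩ := Bivar.exists_rep (classOp pX hδX κ hbij φ s k (ChowOps.cl α hα))
    refine ⟨β, hβ, e.symm, fun α₁ eα hα₁ => ?_⟩
    have hS := (ofSq pX hδX s).setup
    have hT := (ofSq pX hδX t).setup
    haveI := hS.1
    haveI := hT.1
    have w := over_hom pX hδX h hh
    have hc := FlatShift.hasShift_of_hasRelDim h hr (KSch.compat_hom (S := ofSq pX hδX s) (T := ofSq pX hδX t) h w)
    have hl : k + (r : ℤ) - p = k - p + r := by omega
    have hβ₁ := FlatClass.pullCycle_mem hc hT.2.2 hβ hl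
    refine ⟨FlatClass.pullCycle hc hT.2.2 β, hβ₁, rfl, ?_⟩
    have h1 := kOp_pull pX hδX κ hκ hbij φ (S := ofSq pX hδX s) (T := ofSq pX hδX t) s.g rfl t.g rfl h hh w hr k
      (ChowOps.cl α hα)
    rw [FlatClass.pullCH_cl hc hS hT rfl hα eα hα₁, show kOp pX κ hbij φ (S := ofSq pX hδX s) s.g rfl k
      (ChowOps.cl α hα) = ChowOps.cl β hβ from e.symm, FlatClass.pullCH_cl hc hS hT hl hβ rfl hβ₁] at h1
    exact h1
  gysin s t i _ hh L hL σ hσ k := by
    intro α hα
    let S := ofSq pX hδX s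
    let T := ofSq pX hδX t
    have w : i ≫ S.p = T.p := by show i ≫ s.g ≫ pX = t.g ≫ pX; rw [← Category.assoc, hh]
    haveI := S.setup.1
    obtain ⟨β, hβ, e⟩ := Bivar.exists_rep (classOp pX hδX κ hbij φ s k (ChowOps.cl α hα))
    refine ⟨β, hβ, e.symm, fun v hv γ eγ hγ => ?_⟩
    have hδ := KSch.compat_hom (S := S) (T := T) i w
    have hdi : t.δ = fun d => s.δ (i d) := ChowDesc.delta_closedImmersion i hh
    let c := GysinClass.gysin S.setup hL hσ hδ T.setup
    have hmem := GysinClass.gysinCycle_mem (i := i) (s := σ) hL S.setup.2.2 hdi hβ hv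
    have hmem' : GysinLib.gysinCycle hL S.setup.2.2 i σ β hv ∈ Cyc.Zk t.Y t.δ (k - 1 - p) := by
      rw [show k - 1 - p = k - p - 1 by omega]
      exact hmem
    refine ⟨GysinLib.gysinCycle hL S.setup.2.2 i σ β hv, hmem', fun d => rfl, ?_⟩
    have h1 : c.op (sqI (S := S) (T := T) i) k (ChowOps.cl α hα) = ChowOps.cl γ hγ :=
      GysinClass.op_cl S.setup hL hσ hδ (sqI (S := S) (T := T) i) hα hL
        ((Scheme.Modules.pullbackId (X := s.Y)).app L) hσ hv eγ hγ
    have h2 : c.op (sqI (S := S) (T := T) i) (k - p) (ChowOps.cl β hβ) =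
        ChowOps.cl (GysinLib.gysinCycle hL S.setup.2.2 i σ β hv) hmem :=
      GysinClass.op_cl S.setup hL hσ hδ (sqI (S := S) (T := T) i) hβ hL
        ((Scheme.Modules.pullbackId (X := s.Y)).app L) hσ hv (fun _ => rfl) hmem
    have h3 := kOp_cl pX hδX κ hκ hbij φ (S := S) (T := T) s.g rfl t.g rfl i hh w c k (ChowOps.cl α hα)
    rw [h1, show kOp pX κ hbij φ (S := S) s.g rfl k (ChowOps.cl α hα) = ChowOps.cl β hβ from e.symm, h2,
      Bivar.chCast_cl] at h3
    exact h3

end Assemble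

end Groth.Agent.H23.Kron
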