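import Groth.Agent.H23.ProdFun
import Groth.Agent.AModX.Res
import Mathlib.RingTheory.Flat.Basic

/-!
A cocycle of functions on a product which is a coboundary on both slices is a coboundary.
-/

universe u

open CategoryTheory Limits AlgebraicGeometry MonoidalCategory CartesianMonoidalCategory TopologicalSpace
  TensorProduct Opposite

namespace Groth.Agent.H23.KunnethH1

open Groth.Agent.AModX ProdFun

variable {k : Type u} [Field k]

section Cech

variable {X : Scheme.{u}} {I : Type*} (B : I → X.Opens)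

/-- A cocycle of functions. -/
def IsCocycle (c : ∀ a b, Γ(X, B a ⊓ B b)) : Prop :=
  ∀ a b d (Z : X.Opens) (h₁ : Z ≤ B a ⊓ B b) (h₂ : Z ≤ B b ⊓ B d) (h₃ : Z ≤ B a ⊓ B d),
    resR h₁ (c a b) + resR h₂ (c b d) = resR h₃ (c a d)

/-- A coboundary of functions. -/
def IsCobound (c : ∀ a b, Γ(X, B a ⊓ B b)) : Prop :=
  ∃ h : ∀ a, Γ(X, B a), ∀ a b, c a b = resR inf_le_right (h b) - resR inf_le_left (h a)

/-- The pullback of a family of functions. -/
noncomputable def pullC {Y : Scheme.{u}} (f : Y ⟶ X) (c : ∀ a b, Γ(X, B a ⊓ B b)) (a b : I) :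
    Γ(Y, f ⁻¹ᵁ B a ⊓ f ⁻¹ᵁ B b) :=
  f.appLE (B a ⊓ B b) _ (le_of_eq (Scheme.Hom.preimage_inf f).symm) (c a b)

theorem resR_sub {U V : X.Opens} (h : V ≤ U) (x y : Γ(X, U)) : resR h (x - y) = resR h x - resR h y :=
  map_sub _ x y

end Cech

theorem pullFun_res {X : Over (Spec (CommRingCat.of k))} {U U' : X.left.Opens} (e : U' ≤ (𝟙 X : X ⟶ X).left ⁻¹ᵁ U)
    (h : U' ≤ U) (a : Γ(X.left, U)) : pullFun (𝟙 X) e a = resR h a :=
  pullFun_id e a

theorem resR_pullFun {X Y : Over (Spec (CommRingCat.of k))} (f : Y ⟶ X) {U : X.left.Opens} {U' U'' : Y.left.Opens}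
    (e : U' ≤ f.left ⁻¹ᵁ U) (h : U'' ≤ U') (a : Γ(X.left, U)) :
    resR h (pullFun f e a) = pullFun f (h.trans e) a :=
  ConcreteCategory.congr_hom (f.left.appLE_map e (homOfLE h).op) a

theorem pullFun_resR {X Y : Over (Spec (CommRingCat.of k))} (f : Y ⟶ X) {U V : X.left.Opens} {U' : Y.left.Opens}
    (h : V ≤ U) (e : U' ≤ f.left ⁻¹ᵁ V) (a : Γ(X.left, U)) :
    pullFun f e (resR h a) = pullFun f (e.trans (fun _ hz => h hz)) a :=
  ConcreteCategory.congr_hom (f.left.map_appLE e (homOfLE h).op) a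

theorem pullC_eq {X Y : Over (Spec (CommRingCat.of k))} {I : Type*} (B : I → X.left.Opens) (f : Y ⟶ X)
    (c : ∀ a b, Γ(X.left, B a ⊓ B b)) (a b : I) (e : f.left ⁻¹ᵁ B a ⊓ f.left ⁻¹ᵁ B b ≤ f.left ⁻¹ᵁ (B a ⊓ B b)) :
    pullC B f.left c a b = pullFun f e (c a b) := rfl

/-- A tensor killed by all functionals vanishes. -/
theorem eq_zero_of_functionals {H R : Type u} [AddCommGroup H] [Module k H] [AddCommGroup R] [Module k R]
    (x : H ⊗[k] R) (h : ∀ φ : H →ₗ[k] k, TensorProduct.lid k R (φ.rTensor R x) = 0) : x = 0 := by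
  classical
  let b := Module.Free.chooseBasis k H
  refine (TensorProduct.equivFinsuppOfBasisLeft b).injective (Finsupp.ext fun i => ?_)
  have key : ∀ y : H ⊗[k] R, TensorProduct.equivFinsuppOfBasisLeft b y i =
      TensorProduct.lid k R ((b.coord i).rTensor R y) := by
    intro y
    induction y using TensorProduct.induction_on with
    | zero => simp
    | tmul a r => simp
    | add u v hu hv => simp [hu, hv]
  rw [key, h, map_zero, Finsupp.zero_apply]

section Pi

variable {Q : Type u} [Fintype Q] {F : Q → Type u} [∀ q, AddCommGroup (F q)] [∀ q, Module k (F q)]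
  {R : Type u} [AddCommGroup R] [Module k R]

theorem piLeft_apply [DecidableEq Q] (z : (∀ q, F q) ⊗[k] R) (q : Q) :
    TensorProduct.piLeft k R F z q = (LinearMap.proj q : (∀ q, F q) →ₗ[k] F q).rTensor R z := by
  induction z using TensorProduct.induction_on with
  | zero => simp
  | add x y hx hy => simp only [map_add, Pi.add_apply, hx, hy]
  | tmul a r =>
    simp only [TensorProduct.piLeft, LinearEquiv.trans_apply, TensorProduct.comm_tmul,
      TensorProduct.piRight_apply, TensorProduct.piRightHom_tmul, LinearEquiv.piCongrRight_apply]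
    rfl

theorem exists_comp (w : ∀ q, F q ⊗[k] R) :
    ∃ z : (∀ q, F q) ⊗[k] R, ∀ q, (LinearMap.proj q : (∀ q, F q) →ₗ[k] F q).rTensor R z = w q := by
  classical
  exact ⟨(TensorProduct.piLeft k R F).symm w, fun q => by rw [← piLeft_apply, LinearEquiv.apply_symm_apply]⟩

theorem ext_comp {z z' : (∀ q, F q) ⊗[k] R}
    (h : ∀ q, (LinearMap.proj q : (∀ q, F q) →ₗ[k] F q).rTensor R z =
      (LinearMap.proj q : (∀ q, F q) →ₗ[k] F q).rTensor R z') : z = z' := by
  classical
  exact (TensorProduct.piLeft k R F).injective (funext fun q => by rw [piLeft_apply, piLeft_apply, h])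

end Pi

theorem lr_eq_map {M M' N N' : Type u} [AddCommGroup M] [Module k M] [AddCommGroup M'] [Module k M']
    [AddCommGroup N] [Module k N] [AddCommGroup N'] [Module k N'] (f : M →ₗ[k] M') (g : N →ₗ[k] N') (z : M ⊗[k] N) :
    g.lTensor M' (f.rTensor N z) = TensorProduct.map f g z :=
  LinearMap.congr_fun (LinearMap.lTensor_comp_rTensor _ f g) z

theorem rl_comm {M M' N N' : Type u} [AddCommGroup M] [Module k M] [AddCommGroup M'] [Module k M']
    [AddCommGroup N] [Module k N] [AddCommGroup N'] [Module k N'] (f : M →ₗ[k] M') (g : N →ₗ[k] N') (z : M ⊗[k] N) :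
    f.rTensor N' (g.lTensor M z) = g.lTensor M' (f.rTensor N z) :=
  (LinearMap.congr_fun (LinearMap.rTensor_comp_lTensor _ f g) z).trans (lr_eq_map f g z).symm

variable {V W : Over (Spec (CommRingCat.of k))} {ι κ : Type u} (U : ι → V.left.Opens) (O : κ → W.left.Opens)

/-- The boxes of the two coverings. -/
noncomputable abbrev boxes (a : ι × κ) : (V ⊗ W).left.Opens := box (U a.1) (O a.2)

/-- The functions on pairwise intersections. -/
abbrev C1 : Type u := ∀ q : ι × ι, Γ(V.left, U q.1 ⊓ U q.2)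

/-- The differential. -/
noncomputable def delta : (∀ i, Γ(V.left, U i)) →ₗ[k] C1 U :=
  LinearMap.pi fun q =>
    (pullFun (𝟙 V) (show U q.1 ⊓ U q.2 ≤ (𝟙 V : V ⟶ V).left ⁻¹ᵁ U q.2 from inf_le_right)).toLinearMap ∘ₗ
        LinearMap.proj q.2 -
      (pullFun (𝟙 V) (show U q.1 ⊓ U q.2 ≤ (𝟙 V : V ⟶ V).left ⁻¹ᵁ U q.1 from inf_le_left)).toLinearMap ∘ₗ
        LinearMap.proj q.1

theorem rTensor_delta {R : Type u} [AddCommGroup R] [Module k R] (z : (∀ i, Γ(V.left, U i)) ⊗[k] R) (q : ι × ι) :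
    (LinearMap.proj q : C1 U →ₗ[k] _).rTensor R ((delta U).rTensor R z) =
      (pullFun (𝟙 V) (show U q.1 ⊓ U q.2 ≤ (𝟙 V : V ⟶ V).left ⁻¹ᵁ U q.2 from inf_le_right)).toLinearMap.rTensor R
          ((LinearMap.proj q.2 : (∀ i, Γ(V.left, U i)) →ₗ[k] _).rTensor R z) -
        (pullFun (𝟙 V) (show U q.1 ⊓ U q.2 ≤ (𝟙 V : V ⟶ V).left ⁻¹ᵁ U q.1 from inf_le_left)).toLinearMap.rTensor R
          ((LinearMap.proj q.1 : (∀ i, Γ(V.left, U i)) →ₗ[k] _).rTensor R z) := by
  rw [← LinearMap.rTensor_comp_apply, ← LinearMap.rTensor_comp_apply, ← LinearMap.rTensor_comp_apply,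
    ← LinearMap.sub_apply, ← LinearMap.rTensor_sub]
  rfl

/-- The comparison map, linearly. -/
noncomputable abbrev ψ (A : V.left.Opens) (B : W.left.Opens) :
    Γ(V.left, A) ⊗[k] Γ(W.left, B) →ₗ[k] Γ((V ⊗ W).left, box A B) :=
  (psi A B).toLinearMap

theorem resR_ψ {A A' : V.left.Opens} (hA : A' ≤ A) {B B' : W.left.Opens} (hB : B' ≤ B)
    (h : box A' B' ≤ box A B) (z : Γ(V.left, A) ⊗[k] Γ(W.left, B)) :
    resR h (ψ A B z) = ψ A' B' ((pullFun (𝟙 W) (show B' ≤ (𝟙 W : W ⟶ W).left ⁻¹ᵁ B from hB)).toLinearMap.lTensor _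
      ((pullFun (𝟙 V) (show A' ≤ (𝟙 V : V ⟶ V).left ⁻¹ᵁ A from hA)).toLinearMap.rTensor _ z)) := by
  refine (map_psi hA hB h z).trans ?_
  rw [lr_eq_map]
  rfl

theorem box_mono {A A' : V.left.Opens} (hA : A' ≤ A) {B B' : W.left.Opens} (hB : B' ≤ B) :
    box A' B' ≤ box A B := fun _ hz => ⟨hA hz.1, hB hz.2⟩

variable [IsProper V.hom] [IsProper W.hom] [Finite ι] (hcovU : ∀ x : V.left, ∃ i, x ∈ U i)
  (hcovO : ∀ x : W.left, ∃ j, x ∈ O j) (hU : ∀ i, IsAffineOpen (U i)) (hO : ∀ j, IsAffineOpen (O j))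
  (hV₀ : Function.Bijective V.hom.appTop) (hW₀ : Function.Bijective W.hom.appTop)
  (v₀ : 𝟙_ (Over (Spec (CommRingCat.of k))) ⟶ V) (w₀ : 𝟙_ (Over (Spec (CommRingCat.of k))) ⟶ W)

theorem algebraMap_top_bijective (X : Over (Spec (CommRingCat.of k))) (h : Function.Bijective X.hom.appTop) :
    Function.Bijective (algebraMap k Γ(X.left, ⊤)) := by
  show Function.Bijective (fun c => X.hom.appLE ⊤ ⊤ le_top ((Scheme.ΓSpecIso (CommRingCat.of k)).inv c))
  rw [show X.hom.appLE ⊤ ⊤ le_top = X.hom.appTop by simp [Scheme.Hom.appLE]]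
  exact h.comp (ConcreteCategory.bijective_of_isIso (Scheme.ΓSpecIso (CommRingCat.of k)).inv)

theorem bijective_algebraMap_unit :
    Function.Bijective (algebraMap k Γ((𝟙_ (Over (Spec (CommRingCat.of k)))).left, ⊤)) := by
  refine algebraMap_top_bijective _ ?_
  show Function.Bijective (Scheme.Hom.appTop (𝟙 (Spec (CommRingCat.of k))))
  simp only [Scheme.Hom.id_app]
  exact Function.bijective_id

omit [IsProper V.hom] [IsProper W.hom] [Finite ι] in
theorem unit_le (j : κ) (h : w₀.left (IsLocalRing.closedPoint k) ∈ O j) :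
    (⊤ : (𝟙_ (Over (Spec (CommRingCat.of k)))).left.Opens) ≤ w₀.left ⁻¹ᵁ O j := by
  intro z _
  show w₀.left z ∈ O j
  haveI : Subsingleton ↥(𝟙_ (Over (Spec (CommRingCat.of k)))).left :=
    inferInstanceAs (Subsingleton (PrimeSpectrum k))
  rwa [show z = IsLocalRing.closedPoint k from Subsingleton.elim _ _]

include hU hO hcovU hcovO hW₀ in
/-- The fibrewise class vanishes. -/
theorem exists_fibrewise (c : ∀ a b, Γ((V ⊗ W).left, boxes U O a ⊓ boxes U O b)) (hc : IsCocycle (boxes U O) c)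
    (hs : IsCobound (fun a => (lift (𝟙 V) (toUnit V ≫ w₀)).left ⁻¹ᵁ boxes U O a)
      (pullC (boxes U O) (lift (𝟙 V) (toUnit V ≫ w₀)).left c)) :
    ∃ h : ∀ a, Γ((V ⊗ W).left, boxes U O a), ∀ i i' j,
      c (i, j) (i', j) = resR inf_le_right (h (i', j)) - resR inf_le_left (h (i, j)) := by
  classical
  have := Fintype.ofFinite ι
  have hbox : ∀ (i i' : ι) (j : κ), box (U i ⊓ U i') (O j) ≤ boxes U O (i, j) ⊓ boxes U O (i', j) :=
    fun i i' j z hz => ⟨⟨hz.1.1, hz.2⟩, ⟨hz.1.2, hz.2⟩⟩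
  have hcp : ∀ i i', IsCompact ((U i ⊓ U i' : V.left.Opens) : Set V.left) := fun i i' => by
    haveI : V.left.IsSeparated := ⟨by rw [← Limits.terminal.comp_from V.hom]; infer_instance⟩
    exact ((hU i).inf (hU i')).isCompact
  have hw := fun (j : κ) (q : ι × ι) => (psi_bijective (U q.1 ⊓ U q.2) (hcp q.1 q.2) (O j) (hO j).isCompact).2
    (resR (hbox q.1 q.2 j) (c (q.1, j) (q.2, j)))
  choose w hw using hw
  have hz := fun j => exists_comp (k := k) (w j)
  choose z hz using hz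
  have hmk : ∀ j, (LinearMap.range (delta U)).mkQ.rTensor Γ(W.left, O j) (z j) = 0 := by
    intro j
    refine eq_zero_of_functionals _ fun φ => ?_
    rw [← LinearMap.rTensor_comp_apply]
    let Φ : C1 U →ₗ[k] k := φ ∘ₗ (LinearMap.range (delta U)).mkQ
    let r : ∀ j, Γ(W.left, O j) := fun j => TensorProduct.lid k _ (Φ.rTensor _ (z j))
    show r j = 0
    have hr : ∀ (j : κ) (Z : W.left.Opens) (h : Z ≤ O j), resR h (r j) =
        TensorProduct.lid k _ (Φ.rTensor _
          ((pullFun (𝟙 W) (show Z ≤ (𝟙 W : W ⟶ W).left ⁻¹ᵁ O j from h)).toLinearMap.lTensor _ (z j))) := by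
      intro j Z h
      rw [← pullFun_res (show Z ≤ (𝟙 W : W ⟶ W).left ⁻¹ᵁ O j from h) h]
      show (pullFun (𝟙 W) _).toLinearMap (TensorProduct.lid k _ (Φ.rTensor _ (z j))) = _
      induction z j using TensorProduct.induction_on with
      | zero => simp
      | add x y hx hy => simp only [map_add, hx, hy]
      | tmul a b =>
        simp only [LinearMap.rTensor_tmul, LinearMap.lTensor_tmul, TensorProduct.lid_tmul, map_smul]
    have hcompat : ∀ j j', resR (inf_le_left : O j ⊓ O j' ≤ O j) (r j) =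
        resR (inf_le_right : O j ⊓ O j' ≤ O j') (r j') := by
      intro j j'
      rw [hr, hr, ← sub_eq_zero, ← map_sub, ← map_sub]
      let Z := O j ⊓ O j'
      have hZc : IsCompact (Z : Set W.left) := by
        haveI : W.left.IsSeparated := ⟨by rw [← Limits.terminal.comp_from W.hom]; infer_instance⟩
        exact ((hO j).inf (hO j')).isCompact
      have hbox' : ∀ i, box (U i) Z ≤ boxes U O (i, j) ⊓ boxes U O (i, j') :=
        fun i y hy => ⟨⟨hy.1, hy.2.1⟩, ⟨hy.1, hy.2.2⟩⟩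
      have hE := fun i => (psi_bijective (U i) (hU i).isCompact Z hZc).2 (resR (hbox' i) (c (i, j) (i, j')))
      choose E' hE' using hE
      obtain ⟨E, hE⟩ := exists_comp (k := k) E'
      have key : (pullFun (𝟙 W) (show Z ≤ (𝟙 W : W ⟶ W).left ⁻¹ᵁ O j from inf_le_left)).toLinearMap.lTensor _ (z j) -
          (pullFun (𝟙 W) (show Z ≤ (𝟙 W : W ⟶ W).left ⁻¹ᵁ O j' from inf_le_right)).toLinearMap.lTensor _ (z j') =
          - (delta U).rTensor _ E := by
        refine ext_comp fun q => ?_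
        refine (psi_bijective (U q.1 ⊓ U q.2) (hcp q.1 q.2) Z hZc).1 ?_
        show ψ _ _ _ = ψ _ _ _
        rw [map_sub, map_sub, map_neg, map_neg, rTensor_delta, map_sub, hE, hE]
        have hA : ∀ (j₀ : κ) (h : Z ≤ O j₀), ψ (U q.1 ⊓ U q.2) Z
            ((LinearMap.proj q : C1 U →ₗ[k] _).rTensor _
              ((pullFun (𝟙 W) (show Z ≤ (𝟙 W : W ⟶ W).left ⁻¹ᵁ O j₀ from h)).toLinearMap.lTensor _ (z j₀))) =
            resR ((box_mono le_rfl h).trans (hbox q.1 q.2 j₀)) (c (q.1, j₀) (q.2, j₀)) := by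
          intro j₀ h
          rw [rl_comm, hz]
          have h1 := resR_ψ (A := U q.1 ⊓ U q.2) le_rfl h (box_mono le_rfl h) (w j₀ q)
          rw [show ψ (U q.1 ⊓ U q.2) (O j₀) (w j₀ q) = _ from hw j₀ q, resR_resR] at h1
          rw [h1]
          congr 2
          induction w j₀ q using TensorProduct.induction_on with
          | zero => simp
          | add x y hx hy => simp only [map_add, ← hx, ← hy]
          | tmul a b =>
            rw [LinearMap.rTensor_tmul, AlgHom.toLinearMap_apply, pullFun_res _ le_rfl, resR_self]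
        have hB : ∀ (i : ι) (h : U q.1 ⊓ U q.2 ≤ U i), ψ (U q.1 ⊓ U q.2) Z
            ((pullFun (𝟙 V) (show U q.1 ⊓ U q.2 ≤ (𝟙 V : V ⟶ V).left ⁻¹ᵁ U i from h)).toLinearMap.rTensor _ (E' i)) =
            resR ((box_mono h le_rfl).trans (hbox' i)) (c (i, j) (i, j')) := by
          intro i h
          have h1 := resR_ψ h (B := Z) le_rfl (box_mono h le_rfl) (E' i)
          rw [show ψ (U i) Z (E' i) = _ from hE' i, resR_resR] at h1
          rw [h1]
          congr 1
          induction E' i using TensorProduct.induction_on with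
          | zero => simp
          | add x y hx hy => simp only [map_add, ← hx, ← hy]
          | tmul a b =>
            rw [LinearMap.rTensor_tmul, LinearMap.lTensor_tmul, AlgHom.toLinearMap_apply,
              AlgHom.toLinearMap_apply, pullFun_res (show Z ≤ (𝟙 W : W ⟶ W).left ⁻¹ᵁ Z from le_rfl) le_rfl,
              resR_self]
        rw [hA j inf_le_left, hA j' inf_le_right, hB q.2 inf_le_right, hB q.1 inf_le_left]
        have e1 := hc (q.1, j) (q.2, j) (q.2, j') (box (U q.1 ⊓ U q.2) Z)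
          (fun y hy => ⟨⟨hy.1.1, hy.2.1⟩, ⟨hy.1.2, hy.2.1⟩⟩) (fun y hy => ⟨⟨hy.1.2, hy.2.1⟩, ⟨hy.1.2, hy.2.2⟩⟩)
          (fun y hy => ⟨⟨hy.1.1, hy.2.1⟩, ⟨hy.1.2, hy.2.2⟩⟩)
        have e2 := hc (q.1, j) (q.1, j') (q.2, j') (box (U q.1 ⊓ U q.2) Z)
          (fun y hy => ⟨⟨hy.1.1, hy.2.1⟩, ⟨hy.1.1, hy.2.2⟩⟩) (fun y hy => ⟨⟨hy.1.1, hy.2.2⟩, ⟨hy.1.2, hy.2.2⟩⟩)
          (fun y hy => ⟨⟨hy.1.1, hy.2.1⟩, ⟨hy.1.2, hy.2.2⟩⟩)
        linear_combination e1 - e2
      rw [key, map_neg, map_neg, ← LinearMap.rTensor_comp_apply,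
        show Φ ∘ₗ delta U = 0 by
          rw [LinearMap.comp_assoc, LinearMap.range_mkQ_comp, LinearMap.comp_zero],
        LinearMap.rTensor_zero, LinearMap.zero_apply, map_zero, neg_zero]
    obtain ⟨g, hg, -⟩ := W.left.sheaf.existsUnique_gluing' O ⊤ (fun j => homOfLE le_top)
      (fun x _ => Opens.mem_iSup.2 (hcovO x)) r fun j j' => hcompat j j'
    obtain ⟨lam, hlam⟩ := (algebraMap_top_bijective W hW₀).2 g
    have hrj : ∀ j, r j = algebraMap k _ lam := fun j => by
      rw [← AlgHom.commutes (pullFun (𝟙 W) (show O j ≤ (𝟙 W : W ⟶ W).left ⁻¹ᵁ ⊤ from le_top)) lam, hlam,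
        pullFun_res _ le_top]
      exact (hg j).symm
    obtain ⟨j₀, hj₀⟩ := hcovO (w₀.left (IsLocalRing.closedPoint k))
    let τ := lift (𝟙 V) (toUnit V ≫ w₀)
    have htop : (⊤ : (𝟙_ (Over (Spec (CommRingCat.of k)))).left.Opens) ≤ w₀.left ⁻¹ᵁ O j₀ := unit_le O w₀ j₀ hj₀
    let e0 := AlgEquiv.ofBijective (Algebra.ofId k Γ((𝟙_ (Over (Spec (CommRingCat.of k)))).left, ⊤))
      bijective_algebraMap_unit
    let ev : Γ(W.left, O j₀) →ₐ[k] k := e0.symm.toAlgHom.comp (pullFun w₀ htop)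
    have hlam0 : lam = 0 := by
      have h1 : ev (r j₀) = lam := by rw [hrj, AlgHom.commutes]; rfl
      have h2 : ev (r j₀) = Φ (TensorProduct.rid k _ (ev.toLinearMap.lTensor _ (z j₀))) := by
        show ev.toLinearMap (TensorProduct.lid k _ (Φ.rTensor _ (z j₀))) = _
        induction z j₀ using TensorProduct.induction_on with
        | zero => simp
        | add x y hx hy => simp only [map_add, hx, hy]
        | tmul a b =>
          simp only [LinearMap.rTensor_tmul, LinearMap.lTensor_tmul, TensorProduct.lid_tmul, TensorProduct.rid_tmul,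
            map_smul, smul_eq_mul]
          exact mul_comm _ _
      obtain ⟨hh, hhh⟩ := hs
      have hUle : ∀ i, U i ≤ τ.left ⁻¹ᵁ boxes U O (i, j₀) := by
        intro i x hx
        refine ⟨?_, ?_⟩
        · show (fst V W).left (τ.left x) ∈ U i
          rw [← Scheme.Hom.comp_apply, ← Over.comp_left, lift_fst]
          exact hx
        · show (snd V W).left (τ.left x) ∈ O j₀
          rw [← Scheme.Hom.comp_apply, ← Over.comp_left, lift_snd]
          exact htop (x := (toUnit V).left x) trivial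
      let d : ∀ i, Γ(V.left, U i) := fun i => resR (hUle i) (hh (i, j₀))
      have h3 : TensorProduct.rid k _ (ev.toLinearMap.lTensor _ (z j₀)) = delta U d := by
        funext q
        have hle : U q.1 ⊓ U q.2 ≤ τ.left ⁻¹ᵁ box (U q.1 ⊓ U q.2) (O j₀) :=
          fun x hx => ⟨⟨(hUle q.1 hx.1).1, (hUle q.2 hx.2).1⟩, (hUle q.1 hx.1).2⟩
        have h4 : ∀ t : Γ(V.left, U q.1 ⊓ U q.2) ⊗[k] Γ(W.left, O j₀),
            TensorProduct.rid k _ (ev.toLinearMap.lTensor _ t) =
              pullFun τ hle (psi (U q.1 ⊓ U q.2) (O j₀) t) := by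
          intro t
          induction t using TensorProduct.induction_on with
          | zero => simp
          | add x y hx hy => simp only [map_add, hx, hy]
          | tmul a b =>
            rw [LinearMap.lTensor_tmul, TensorProduct.rid_tmul, psi_tmul, map_mul, Algebra.smul_def, mul_comm]
            congr 1
            · have h5 : U q.1 ⊓ U q.2 ≤ (τ ≫ fst V W).left ⁻¹ᵁ (U q.1 ⊓ U q.2) := by
                rw [lift_fst]
                exact le_rfl
              rw [pullFun_pullFun _ _ _ _ h5,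
                pullFun_congr (lift_fst _ _) h5 (show U q.1 ⊓ U q.2 ≤ (𝟙 V : V ⟶ V).left ⁻¹ᵁ _ from le_rfl),
                pullFun_res _ le_rfl, resR_self]
            · have h5 : U q.1 ⊓ U q.2 ≤ (τ ≫ snd V W).left ⁻¹ᵁ O j₀ := by
                rw [Over.comp_left, Scheme.Hom.comp_preimage]
                exact fun x hx => (hle hx).2
              rw [pullFun_pullFun _ _ _ _ h5,
                pullFun_congr (lift_snd _ _) h5 (fun x _ => htop (x := (toUnit V).left x) trivial),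
                ← pullFun_pullFun (toUnit V) w₀ htop (show U q.1 ⊓ U q.2 ≤ (toUnit V).left ⁻¹ᵁ ⊤ from fun _ _ => trivial)]
              show algebraMap k _ (e0.symm (pullFun w₀ htop b)) = _
              obtain ⟨l, hl⟩ := bijective_algebraMap_unit.2 (pullFun w₀ htop b)
              rw [← hl, AlgHom.commutes]
              congr 1
              exact e0.symm_apply_apply l
        have hproj : ∀ t : C1 U ⊗[k] k, (TensorProduct.rid k _ t) q =
            TensorProduct.rid k _ ((LinearMap.proj q : C1 U →ₗ[k] _).rTensor k t) := by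
          intro t
          induction t using TensorProduct.induction_on with
          | zero => simp
          | add x y hx hy => simp only [map_add, ← hx, ← hy, Pi.add_apply]
          | tmul a b => simp
        rw [hproj, rl_comm, hz, h4, show psi (U q.1 ⊓ U q.2) (O j₀) (w j₀ q) = _ from hw j₀ q, pullFun_resR]
        have hle' : U q.1 ⊓ U q.2 ≤ τ.left ⁻¹ᵁ boxes U O (q.1, j₀) ⊓ τ.left ⁻¹ᵁ boxes U O (q.2, j₀) :=
          fun x hx => ⟨hUle q.1 hx.1, hUle q.2 hx.2⟩
        have h6 := congrArg (resR hle') (hhh (q.1, j₀) (q.2, j₀))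
        rw [resR_sub, resR_resR, resR_resR, pullC_eq (boxes U O) τ c _ _ (le_of_eq (Scheme.Hom.preimage_inf τ.left).symm),
          resR_pullFun] at h6
        rw [h6]
        show _ = pullFun (𝟙 V) _ (d q.2) - pullFun (𝟙 V) _ (d q.1)
        rw [pullFun_res _ inf_le_right, pullFun_res _ inf_le_left, resR_resR, resR_resR]
      rw [← h1, h2, h3]
      show (φ ∘ₗ (LinearMap.range (delta U)).mkQ) (delta U d) = 0
      rw [LinearMap.comp_apply, (Submodule.Quotient.mk_eq_zero _).2 (LinearMap.mem_range_self _ _) |> fun h =>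
        show (LinearMap.range (delta U)).mkQ (delta U d) = 0 from h, map_zero]
    rw [hrj, hlam0, map_zero]
  have hE := fun j => (rTensor_exact Γ(W.left, O j) (delta U).exact_map_mkQ_range
    (Submodule.mkQ_surjective _) (z j)).1 (hmk j)
  choose E hE using hE
  refine ⟨fun a => ψ _ _ ((LinearMap.proj a.1 : (∀ i, Γ(V.left, U i)) →ₗ[k] _).rTensor _ (E a.2)), fun i i' j => ?_⟩
  have heq : boxes U O (i, j) ⊓ boxes U O (i', j) = box (U i ⊓ U i') (O j) :=
    le_antisymm (fun y hy => ⟨⟨hy.1.1, hy.2.1⟩, hy.1.2⟩) (hbox i i' j)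
  have hinj : Function.Injective (resR (hbox i i' j)) := fun x y h => by
    have := congrArg (resR heq.le) h
    rwa [resR_resR, resR_resR, resR_self, resR_self] at this
  refine hinj ?_
  have h1 := hw j (i, i')
  rw [resR_sub, resR_resR, resR_resR, ← h1]
  show ψ (U i ⊓ U i') (O j) (w j (i, i')) = _
  rw [← hz j (i, i'), ← hE j, rTensor_delta, map_sub,
    resR_ψ (show U i ⊓ U i' ≤ U i' from inf_le_right) le_rfl,
    resR_ψ (show U i ⊓ U i' ≤ U i from inf_le_left) le_rfl]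
  have hid : ∀ t : Γ(V.left, U i ⊓ U i') ⊗[k] Γ(W.left, O j),
      (pullFun (𝟙 W) (show O j ≤ (𝟙 W : W ⟶ W).left ⁻¹ᵁ O j from le_rfl)).toLinearMap.lTensor _ t = t := by
    intro t
    induction t using TensorProduct.induction_on with
    | zero => simp
    | add x y hx hy => simp only [map_add, hx, hy]
    | tmul a b => rw [LinearMap.lTensor_tmul, AlgHom.toLinearMap_apply, pullFun_res _ le_rfl, resR_self]
  rw [hid, hid]

include hU hO hcovU hcovO hV₀ hW₀ in
/-- A cocycle which is a coboundary on both slices is a coboundary. -/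
theorem isCobound_of_slices (c : ∀ a b, Γ((V ⊗ W).left, boxes U O a ⊓ boxes U O b))
    (hc : IsCocycle (boxes U O) c)
    (hs₁ : IsCobound (fun a => (lift (toUnit W ≫ v₀) (𝟙 W)).left ⁻¹ᵁ boxes U O a)
      (pullC (boxes U O) (lift (toUnit W ≫ v₀) (𝟙 W)).left c))
    (hs₂ : IsCobound (fun a => (lift (𝟙 V) (toUnit V ≫ w₀)).left ⁻¹ᵁ boxes U O a)
      (pullC (boxes U O) (lift (𝟙 V) (toUnit V ≫ w₀)).left c)) :
    IsCobound (boxes U O) c := by
  classical
  obtain ⟨h, hh⟩ := exists_fibrewise U O hcovU hcovO hU hO hW₀ w₀ c hc hs₂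
  let c' : ∀ a b, Γ((V ⊗ W).left, boxes U O a ⊓ boxes U O b) :=
    fun a b => c a b - (resR inf_le_right (h b) - resR inf_le_left (h a))
  have hc' : IsCocycle (boxes U O) c' := by
    intro a b d Z h₁ h₂ h₃
    simp only [c', resR_sub, resR_resR]
    linear_combination hc a b d Z h₁ h₂ h₃
  have hzero : ∀ i i' j, c' (i, j) (i', j) = 0 := fun i i' j => sub_eq_zero.2 (hh i i' j)
  let σ := lift (toUnit W ≫ v₀) (𝟙 W)
  have hΩ : ∀ j j', ∃ q : Γ(W.left, O j ⊓ O j'), ∀ i,
      ∀ (Z : (V ⊗ W).left.Opens) (h₁ : Z ≤ boxes U O (i, j) ⊓ boxes U O (i, j'))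
        (h₂ : Z ≤ (snd V W).left ⁻¹ᵁ (O j ⊓ O j')),
        resR h₁ (c' (i, j) (i, j')) = pullFun (snd V W) h₂ q := by
    intro j j'
    let Ω := box (⊤ : V.left.Opens) (O j ⊓ O j')
    let B := fun i => box (U i) (O j ⊓ O j')
    have hB : ∀ i, B i ≤ boxes U O (i, j) ⊓ boxes U O (i, j') := fun i y hy => ⟨⟨hy.1, hy.2.1⟩, ⟨hy.1, hy.2.2⟩⟩
    obtain ⟨g, hg, -⟩ := (V ⊗ W).left.sheaf.existsUnique_gluing' B Ω
      (fun i => homOfLE (box_mono le_top le_rfl))
      (fun x hx => Opens.mem_iSup.2 ((hcovU ((fst V W).left x)).imp fun i hi => ⟨hi, hx.2⟩))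
      (fun i => resR (hB i) (c' (i, j) (i, j'))) fun i i' => by
        show resR inf_le_left (resR (hB i) _) = resR inf_le_right (resR (hB i') _)
        rw [resR_resR, resR_resR]
        let Z := B i ⊓ B i'
        have e1 := hc' (i, j) (i', j) (i', j') Z (fun y hy => ⟨(hB i hy.1).1, (hB i' hy.2).1⟩)
          (inf_le_right.trans (hB i')) (fun y hy => ⟨(hB i hy.1).1, (hB i' hy.2).2⟩)
        have e2 := hc' (i, j) (i, j') (i', j') Z (inf_le_left.trans (hB i))
          (fun y hy => ⟨(hB i hy.1).2, (hB i' hy.2).2⟩) (fun y hy => ⟨(hB i hy.1).1, (hB i' hy.2).2⟩)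
        rw [hzero i i' j, show ∀ (U₁ : (V ⊗ W).left.Opens) (hh : Z ≤ U₁), resR hh (0 : Γ((V ⊗ W).left, U₁)) = 0 from
          fun _ _ => map_zero _, zero_add] at e1
        rw [hzero i i' j', show ∀ (U₁ : (V ⊗ W).left.Opens) (hh : Z ≤ U₁), resR hh (0 : Γ((V ⊗ W).left, U₁)) = 0 from
          fun _ _ => map_zero _, add_zero] at e2
        exact e2.trans e1.symm
    have hcT : IsCompact ((⊤ : V.left.Opens) : Set V.left) := by
      haveI : CompactSpace V.left := QuasiCompact.compactSpace_of_compactSpace V.hom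
      simpa using isCompact_univ
    have hcO : IsCompact ((O j ⊓ O j' : W.left.Opens) : Set W.left) := by
      haveI : W.left.IsSeparated := ⟨by rw [← Limits.terminal.comp_from W.hom]; infer_instance⟩
      exact ((hO j).inf (hO j')).isCompact
    obtain ⟨t, rfl⟩ := (psi_bijective ⊤ hcT (O j ⊓ O j') hcO).2 g
    have ht : ∃ q, t = (1 : Γ(V.left, ⊤)) ⊗ₜ[k] q := by
      clear hg
      induction t using TensorProduct.induction_on with
      | zero => exact ⟨0, (TensorProduct.tmul_zero _ _).symm⟩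
      | add x y hx hy =>
        obtain ⟨a, rfl⟩ := hx
        obtain ⟨b, rfl⟩ := hy
        exact ⟨a + b, (TensorProduct.tmul_add _ _ _).symm⟩
      | tmul a b =>
        obtain ⟨l, rfl⟩ := (algebraMap_top_bijective V hV₀).2 a
        exact ⟨l • b, by rw [Algebra.algebraMap_eq_smul_one, TensorProduct.smul_tmul]⟩
    obtain ⟨q, rfl⟩ := ht
    refine ⟨q, fun i Z h₁ h₂ => ?_⟩
    have hZB : Z ≤ B i := fun y hy => ⟨(h₁ hy).1.1, h₂ hy⟩
    rw [← resR_resR (hB i) hZB]
    have h3 : resR (hB i) (c' (i, j) (i, j')) =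
        resR (box_mono le_top le_rfl) (psi ⊤ (O j ⊓ O j') ((1 : Γ(V.left, ⊤)) ⊗ₜ[k] q)) := (hg i).symm
    rw [h3, psi_tmul, map_one, one_mul, resR_resR, resR_pullFun]
  choose q hq using hΩ
  obtain ⟨hh1, hhh1⟩ := hs₁
  obtain ⟨i₀, hi₀⟩ := hcovU (v₀.left (IsLocalRing.closedPoint k))
  have hv : (⊤ : (𝟙_ (Over (Spec (CommRingCat.of k)))).left.Opens) ≤ v₀.left ⁻¹ᵁ U i₀ := unit_le U v₀ i₀ hi₀
  have hOle : ∀ j, O j ≤ σ.left ⁻¹ᵁ boxes U O (i₀, j) := by
    intro j x hx
    refine ⟨?_, ?_⟩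
    · show (fst V W).left (σ.left x) ∈ U i₀
      rw [← Scheme.Hom.comp_apply, ← Over.comp_left, lift_fst]
      exact hv (x := (toUnit W).left x) trivial
    · show (snd V W).left (σ.left x) ∈ O j
      rw [← Scheme.Hom.comp_apply, ← Over.comp_left, lift_snd]
      exact hx
  let d : ∀ j, Γ(W.left, O j) := fun j => resR (hOle j) (hh1 (i₀, j)) - pullFun σ (hOle j) (h (i₀, j))
  have hqd : ∀ j j', q j j' = resR inf_le_right (d j') - resR inf_le_left (d j) := by
    intro j j'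
    let Z := boxes U O (i₀, j) ⊓ boxes U O (i₀, j')
    have hσZ : O j ⊓ O j' ≤ σ.left ⁻¹ᵁ Z := fun x hx => ⟨hOle j hx.1, hOle j' hx.2⟩
    have hsnd : Z ≤ (snd V W).left ⁻¹ᵁ (O j ⊓ O j') := fun y hy => ⟨hy.1.2, hy.2.2⟩
    have h1 := congrArg (pullFun σ hσZ) (hq j j' i₀ Z le_rfl hsnd)
    have hid : O j ⊓ O j' ≤ (σ ≫ snd V W).left ⁻¹ᵁ (O j ⊓ O j') := by
      rw [lift_snd]
      exact le_rfl
    rw [resR_self, pullFun_pullFun _ _ _ _ hid,
      pullFun_congr (lift_snd _ _) hid (show O j ⊓ O j' ≤ (𝟙 W : W ⟶ W).left ⁻¹ᵁ (O j ⊓ O j') from le_rfl),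
      pullFun_res _ le_rfl, resR_self] at h1
    rw [← h1]
    simp only [c', map_sub, pullFun_resR]
    have hle' : O j ⊓ O j' ≤ σ.left ⁻¹ᵁ boxes U O (i₀, j) ⊓ σ.left ⁻¹ᵁ boxes U O (i₀, j') :=
      fun x hx => ⟨hOle j hx.1, hOle j' hx.2⟩
    have h2 := congrArg (resR hle') (hhh1 (i₀, j) (i₀, j'))
    rw [pullC_eq (boxes U O) σ c _ _ (le_of_eq (Scheme.Hom.preimage_inf σ.left).symm), resR_pullFun, resR_sub,
      resR_resR, resR_resR] at h2
    rw [h2]
    simp only [d, resR_sub, resR_resR, resR_pullFun]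
    ring
  refine ⟨fun a => h a + pullFun (snd V W) inf_le_right (d a.2), fun a b => ?_⟩
  obtain ⟨i, j⟩ := a
  obtain ⟨i', j'⟩ := b
  let Z := boxes U O (i, j) ⊓ boxes U O (i', j')
  have e1 := hc' (i, j) (i, j') (i', j') Z (fun y hy => ⟨hy.1, ⟨hy.1.1, hy.2.2⟩⟩)
    (fun y hy => ⟨⟨hy.1.1, hy.2.2⟩, hy.2⟩) le_rfl
  rw [hzero i i' j', show ∀ (U₁ : (V ⊗ W).left.Opens) (hh : Z ≤ U₁), resR hh (0 : Γ((V ⊗ W).left, U₁)) = 0 from
    fun _ _ => map_zero _, add_zero, resR_self,
    hq j j' i Z _ (fun y hy => ⟨hy.1.2, hy.2.2⟩), hqd] at e1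
  have e2 : c (i, j) (i', j') = c' (i, j) (i', j') + (resR inf_le_right (h (i', j')) - resR inf_le_left (h (i, j))) :=
    (sub_add_cancel _ _).symm
  rw [e2, ← e1]
  simp only [map_add, map_sub, pullFun_resR, resR_pullFun]
  ring

end Groth.Agent.H23.KunnethH1
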