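import Groth.Agent.IntThLib.Lattice
import Groth.Agent.IntThLib.DetLength

/-! The determinant invariant of a finite module over a one-dimensional local domain with respect to
a basis of its generic fibre. -/

set_option autoImplicit false
set_option linter.style.haveILetI false

universe u

open scoped nonZeroDivisors
open Groth.Agent

namespace Groth.Agent.H23.LatDet

variable {R : Type u} [CommRing R] [IsDomain R] [IsNoetherianRing R] [Ring.KrullDimLE 1 R]
variable (K : Type u) [Field K] [Algebra R K] [IsFractionRing R K]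
variable {M V : Type u} [AddCommGroup M] [Module R M]
  [AddCommGroup V] [Module K V] [Module R V] [IsScalarTower R K V]

/-- The data of a localization at the generic point. -/
structure IsGen (s : M →ₗ[R] V) : Prop where
  ker : ∀ m, s m = 0 → ∃ c : R, c ≠ 0 ∧ c • m = 0
  surj : ∀ v : V, ∃ c : R, c ≠ 0 ∧ ∃ m, s m = c • v

/-- A lift of a scalar multiple of a family. -/
def IsLift (s : M →ₗ[R] V) {ι : Type*} (e : ι → V) (a : R) (v : ι → M) : Prop :=
  a ≠ 0 ∧ ∀ i, s (v i) = a • e i

/-- The length of the quotient by the span of a family. -/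
noncomputable def colen {ι : Type*} (v : ι → M) : ℕ∞ :=
  Module.length R (M ⧸ Submodule.span R (Set.range v))

variable {ι : Type*}

theorem IsLift.smul {s : M →ₗ[R] V} {e : ι → V} {a : R} {v : ι → M} (h : IsLift s e a v) {b : R}
    (hb : b ≠ 0) : IsLift s e (b * a) (fun i => b • v i) :=
  ⟨mul_ne_zero hb h.1, fun i => by rw [map_smul, h.2, mul_smul]⟩

omit [IsNoetherianRing R] [Ring.KrullDimLE 1 R] in
theorem IsGen.exists_lift {s : M →ₗ[R] V} (hs : IsGen s) [Fintype ι] [DecidableEq ι] (e : ι → V) :
    ∃ a v, IsLift s e a v := by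
  choose c hc m hm using fun i => hs.surj (e i)
  refine ⟨∏ i, c i, fun i => (∏ j ∈ Finset.univ.erase i, c j) • m i,
    Finset.prod_ne_zero_iff.2 fun i _ => hc i, fun i => ?_⟩
  rw [map_smul, hm, smul_smul, Finset.prod_erase_mul _ _ (Finset.mem_univ i)]

variable {K}

omit [IsNoetherianRing R] [Ring.KrullDimLE 1 R] in
theorem li_smul {e : ι → V} (he : LinearIndependent K e) {a : R} (ha : a ≠ 0) :
    LinearIndependent R fun i => a • e i := by
  have haK : algebraMap R K a ≠ 0 := (map_ne_zero_iff _ (IsFractionRing.injective R K)).2 ha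
  have hK : LinearIndependent K fun i => algebraMap R K a • e i :=
    he.map' (LinearMap.lsmul K V (algebraMap R K a))
      (LinearMap.ker_eq_bot.2 (smul_right_injective V haK))
  simp only [algebraMap_smul] at hK
  exact hK.restrict_scalars' R

omit [IsNoetherianRing R] [Ring.KrullDimLE 1 R] in
theorem li_of_lift {s : M →ₗ[R] V} {e : ι → V} (he : LinearIndependent K e) {a : R} {v : ι → M}
    (h : IsLift s e a v) : LinearIndependent R v := by
  refine LinearIndependent.of_comp s ?_
  rw [show (s ∘ v) = fun i => a • e i from funext h.2]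
  exact li_smul he h.1

theorem relLen_top_eq (N : Submodule R M) : IntThLib.relLen R ⊤ N = Module.length R (M ⧸ N) :=
  (Submodule.Quotient.equiv _ _ Submodule.topEquiv (by
    ext x
    simp [Submodule.submoduleOf])).length_eq

omit [IsDomain R] [IsNoetherianRing R] [Ring.KrullDimLE 1 R] in
theorem relLen_sup (p q : Submodule R M) :
    IntThLib.relLen R (p ⊔ q) q = IntThLib.relLen R p (p ⊓ q) := by
  refine ((LinearMap.quotientInfEquivSupQuotient p q).length_eq.symm.trans ?_)
  refine (Submodule.quotEquivOfEq _ _ ?_).length_eq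
  rw [Submodule.submoduleOf, Submodule.comap_inf]

/-- Families with the same image have quotients of the same length. -/
theorem colen_eq_of_comp {s : M →ₗ[R] V} {e : ι → V} (he : LinearIndependent K e) {a : R} {v w : ι → M}
    (hv : IsLift s e a v) (hw : IsLift s e a w) : colen (R := R) v = colen (R := R) w := by
  have key : ∀ v : ι → M, IsLift s e a v → colen (R := R) v =
      IntThLib.relLen R (LinearMap.ker s) ⊥ +
        IntThLib.relLen R ⊤ (LinearMap.ker s ⊔ Submodule.span R (Set.range v)) := fun v hv => by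
    rw [colen, ← relLen_top_eq, IntThLib.relLen_add le_sup_right le_top, relLen_sup]
    congr 2
    rw [disjoint_iff.1]
    refine Submodule.disjoint_def.2 fun x hx hxv => ?_
    obtain ⟨c, rfl⟩ := Finsupp.mem_span_range_iff_exists_finsupp.1 hxv
    have hli := li_of_lift he hv
    have hli' : LinearIndependent R (s ∘ v) := by
      rw [show (s ∘ v) = fun i => a • e i from funext hv.2]
      exact li_smul he hv.1
    have h0 : Finsupp.linearCombination R (s ∘ v) c = 0 := by
      rw [Finsupp.linearCombination_apply]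
      rw [LinearMap.mem_ker, map_finsuppSum] at hx
      simpa [map_smul] using hx
    rw [linearIndependent_iff.1 hli' c h0]
    simp
  rw [key v hv, key w hw]
  congr 2
  refine le_antisymm (sup_le le_sup_left ?_) (sup_le le_sup_left ?_) <;>
    rw [Submodule.span_le, Set.range_subset_iff] <;> intro i
  · rw [show v i = (v i - w i) + w i from (sub_add_cancel _ _).symm]
    exact Submodule.add_mem_sup (LinearMap.mem_ker.2 (by rw [map_sub, hv.2, hw.2, sub_self]))
      (Submodule.subset_span ⟨i, rfl⟩)
  · rw [show w i = (w i - v i) + v i from (sub_add_cancel _ _).symm]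
    exact Submodule.add_mem_sup (LinearMap.mem_ker.2 (by rw [map_sub, hv.2, hw.2, sub_self]))
      (Submodule.subset_span ⟨i, rfl⟩)

variable [Fintype ι] [DecidableEq ι]

theorem colen_ne_top [Module.Finite R M] {s : M →ₗ[R] V} (hs : IsGen s) {e : Module.Basis ι K V} {a : R}
    {v : ι → M} (hv : IsLift s e a v) : colen (R := R) v ≠ ⊤ := by
  set N := Submodule.span R (Set.range v)
  have htor : ∀ m : M, ∃ c : R, c ≠ 0 ∧ c • m ∈ N := fun m => by
    obtain ⟨⟨d, hd⟩, hb⟩ := IsLocalization.exist_integer_multiples_of_finite R⁰ fun i => e.repr (s m) i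
    choose b hb using hb
    have h0 : s ((a * d) • m - ∑ i, b i • v i) = 0 := by
      rw [map_sub, map_smul, map_sum, sub_eq_zero]
      simp only [map_smul, hv.2]
      conv_lhs => rw [← e.sum_repr (s m), Finset.smul_sum]
      refine Finset.sum_congr rfl fun i _ => ?_
      rw [mul_smul, smul_comm (b i) a, ← algebraMap_smul K (b i), hb i, smul_assoc]
    obtain ⟨c, hc, hcm⟩ := hs.ker _ h0
    refine ⟨c * (a * d), mul_ne_zero hc (mul_ne_zero hv.1 (nonZeroDivisors.ne_zero hd)), ?_⟩
    rw [smul_sub, sub_eq_zero] at hcm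
    rw [mul_smul, hcm]
    exact N.smul_mem _ (N.sum_mem fun i _ => N.smul_mem _ (Submodule.subset_span ⟨i, rfl⟩))
  obtain ⟨n, g, hg⟩ := Module.Finite.exists_fin (R := R) (M := M)
  choose c hc hcm using fun i => htor (g i)
  refine IntThLib.length_ne_top_of_smul_eq_zero (a := ∏ i, c i)
    (Finset.prod_ne_zero_iff.2 fun i _ => hc i) fun q => ?_
  induction q using Submodule.Quotient.induction_on with
  | _ m =>
    rw [← Submodule.Quotient.mk_smul, Submodule.Quotient.mk_eq_zero]
    have hm : m ∈ Submodule.span R (Set.range g) := hg ▸ trivial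
    induction hm using Submodule.span_induction with
    | mem x hx =>
      obtain ⟨i, rfl⟩ := hx
      rw [← Finset.prod_erase_mul _ _ (Finset.mem_univ i), mul_smul]
      exact N.smul_mem _ (hcm i)
    | zero => simp
    | add x y _ _ hx hy => rw [smul_add]; exact N.add_mem hx hy
    | smul r x _ hx => rw [smul_comm]; exact N.smul_mem _ hx

/-- The order of an element of the fraction field. -/
noncomputable abbrev o (R : Type u) [CommRing R] {K : Type u} [Field K] [Algebra R K] (f : K) : ℤ :=
  CycAlg.ordFrac R K f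

theorem o_pow {f : K} (hf : f ≠ 0) (n : ℕ) : o R (f ^ n) = n * o R f := by
  induction n with
  | zero =>
    have h := IntThLib.ordFrac_mul (A := R) (one_ne_zero (α := K)) one_ne_zero
    rw [mul_one] at h
    simp only [pow_zero, Nat.cast_zero, zero_mul, o]
    omega
  | succ n ih =>
    rw [pow_succ, o, IntThLib.ordFrac_mul (pow_ne_zero n hf) hf]
    unfold o at ih
    rw [ih]
    push_cast
    ring

/-- Passing to the image of a square matrix. -/
theorem colen_matrix {s : M →ₗ[R] V} {e : ι → V} (he : LinearIndependent K e) {a : R} {v : ι → M}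
    (hv : IsLift s e a v) (G : Matrix ι ι R) (hG : G.det ≠ 0) :
    colen (R := R) (fun j => ∑ i, G i j • v i) = Ring.ord R G.det + colen (R := R) v := by
  set N := Submodule.span R (Set.range v)
  set L := Submodule.span R (Set.range fun j => ∑ i, G i j • v i)
  have hLN : L ≤ N := by
    rw [Submodule.span_le, Set.range_subset_iff]
    exact fun j => N.sum_mem fun i _ => N.smul_mem _ (Submodule.subset_span ⟨i, rfl⟩)
  rw [colen, colen, ← relLen_top_eq, ← relLen_top_eq, IntThLib.relLen_add hLN le_top]
  congr 1
  let Φ : (ι → R) ≃ₗ[R] N := (LinearEquiv.ofInjective (Fintype.linearCombination R v)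
    ((li_of_lift he hv).fintypeLinearCombination_injective)).trans
      (LinearEquiv.ofEq _ _ (Fintype.range_linearCombination R v))
  let n := Fintype.card ι
  let ee : ι ≃ Fin n := Fintype.equivFin ι
  let Φ' : (Fin n → R) ≃ₗ[R] N := (LinearEquiv.funCongrLeft R R ee).trans Φ
  let H := G.submatrix ee.symm ee.symm
  have hH : H.det = G.det := Matrix.det_submatrix_equiv_self _ _
  have e1 := IntThLib.length_coker_domain R H (by rwa [hH])
  rw [hH] at e1
  rw [IntThLib.relLen, ← e1]
  refine (Submodule.Quotient.equiv _ _ Φ' ?_).length_eq.symm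
  have hcomp : ∀ w : Fin n → R, (Φ' (H.mulVecLin w) : M) = ∑ j, w (ee j) • ∑ i, G i j • v i := fun w => by
    show ∑ i, (H.mulVecLin w) (ee i) • v i = _
    simp only [Matrix.mulVecLin_apply, Matrix.mulVec, dotProduct, H, Matrix.submatrix_apply,
      Equiv.symm_apply_apply, Finset.sum_smul, Finset.smul_sum, smul_smul]
    rw [Finset.sum_comm]
    refine (Fintype.sum_equiv ee _ _ fun j => ?_).symm
    simp [mul_comm]
  ext ⟨y, hy⟩
  simp only [Submodule.mem_map, LinearMap.mem_range, Submodule.submoduleOf, Submodule.mem_comap,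
    Submodule.subtype_apply]
  constructor
  · rintro ⟨_, ⟨w, rfl⟩, hw⟩
    have : (Φ' (H.mulVecLin w) : M) = y := congrArg Subtype.val hw
    rw [← this, hcomp]
    exact L.sum_mem fun j _ => L.smul_mem _ (Submodule.subset_span ⟨j, rfl⟩)
  · intro hyL
    obtain ⟨c, hc⟩ := (Submodule.mem_span_range_iff_exists_fun R).1 hyL
    exact ⟨_, ⟨c ∘ ee.symm, rfl⟩, Subtype.ext ((hcomp _).trans (by simpa using hc))⟩

theorem ord_cast {b : R} (hb : b ≠ 0) : o R (algebraMap R K b) = ((Ring.ord R b).toNat : ℤ) :=
  IntThLib.ordFrac_algebraMap hb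

variable (K) in
/-- The value of the invariant computed with a lift. -/
noncomputable def val (a : R) (v : ι → M) : ℤ :=
  ((colen (R := R) v).toNat : ℤ) - Fintype.card ι * o R (algebraMap R K a)

theorem val_smul [Module.Finite R M] {s : M →ₗ[R] V} (hs : IsGen s) {e : Module.Basis ι K V} {a : R}
    {v : ι → M} (hv : IsLift s e a v) {b : R} (hb : b ≠ 0) :
    val K (b * a) (fun i => b • v i) = val K a v := by
  have hdet : (Matrix.diagonal fun _ : ι => b).det = b ^ Fintype.card ι := by
    simp [Matrix.det_diagonal]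
  have h0 := colen_matrix e.linearIndependent hv (Matrix.diagonal fun _ : ι => b)
    (by rw [hdet]; exact pow_ne_zero _ hb)
  rw [hdet] at h0
  have hfun : (fun j => ∑ i, (Matrix.diagonal fun _ : ι => b) i j • v i) = fun j => b • v j := by
    funext j
    rw [Finset.sum_eq_single j (fun i _ hij => by rw [Matrix.diagonal_apply_ne _ hij, zero_smul])
      (fun h => absurd (Finset.mem_univ j) h), Matrix.diagonal_apply_eq]
  rw [hfun] at h0
  have hbK : algebraMap R K b ≠ 0 := (map_ne_zero_iff _ (IsFractionRing.injective R K)).2 hb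
  have haK : algebraMap R K a ≠ 0 := (map_ne_zero_iff _ (IsFractionRing.injective R K)).2 hv.1
  have h1 := ord_cast (K := K) (pow_ne_zero (Fintype.card ι) hb)
  rw [map_pow, o_pow hbK] at h1
  simp only [val]
  rw [h0, ENat.toNat_add (Ring.ord_ne_top (mem_nonZeroDivisors_of_ne_zero (pow_ne_zero _ hb)))
      (colen_ne_top hs hv), map_mul, o, IntThLib.ordFrac_mul hbK haK, Nat.cast_add, ← h1]
  simp only [o]
  ring

theorem val_eq [Module.Finite R M] {s : M →ₗ[R] V} (hs : IsGen s) (e : Module.Basis ι K V) {a b : R}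
    {v w : ι → M} (hv : IsLift s e a v) (hw : IsLift s e b w) : val K a v = val K b w := by
  rw [← val_smul hs hv hw.1, ← val_smul hs hw hv.1, val, val, mul_comm b a]
  congr 2
  have h1 := hv.smul hw.1
  have h2 := hw.smul hv.1
  rw [mul_comm b a] at h1
  rw [colen_eq_of_comp e.linearIndependent h1 h2]

/-- The invariant of a module with respect to a basis of its generic fibre. -/
noncomputable def d (s : M →ₗ[R] V) (e : Module.Basis ι K V) : ℤ := by
  classical
  exact if h : ∃ p : R × (ι → M), IsLift s e p.1 p.2 then val K h.choose.1 h.choose.2 else 0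

theorem d_eq [Module.Finite R M] {s : M →ₗ[R] V} (hs : IsGen s) (e : Module.Basis ι K V) {a : R}
    {v : ι → M} (hv : IsLift s e a v) : d s e = val K a v := by
  have h : ∃ p : R × (ι → M), IsLift s e p.1 p.2 := ⟨(a, v), hv⟩
  rw [d, dif_pos h]
  exact val_eq hs e h.choose_spec hv

theorem d_zero [Module.Finite R M] [IsEmpty ι] {s : M →ₗ[R] V} (hs : IsGen s) (e : Module.Basis ι K V) :
    d s e = ((Module.length R M).toNat : ℤ) := by
  rw [d_eq hs e (a := 1) (v := isEmptyElim) ⟨one_ne_zero, fun i => isEmptyElim i⟩, val, Fintype.card_eq_zero]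
  simp only [Nat.cast_zero, zero_mul, sub_zero, colen]
  have : Submodule.span R (Set.range (isEmptyElim : ι → M)) = ⊥ := by
    rw [Set.range_eq_empty, Submodule.span_empty]
  rw [(Submodule.quotEquivOfEqBot _ this).length_eq]

theorem d_reindex [Module.Finite R M] {s : M →ₗ[R] V} (hs : IsGen s) (e : Module.Basis ι K V) {κ : Type*}
    [Fintype κ] [DecidableEq κ] (σ : ι ≃ κ) : d s (e.reindex σ) = d s e := by
  obtain ⟨a, v, hv⟩ := hs.exists_lift e
  have hv' : IsLift s (e.reindex σ) a (v ∘ σ.symm) := ⟨hv.1, fun j => by simp [hv.2]⟩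
  rw [d_eq hs _ hv, d_eq hs _ hv', val, val, colen, colen, σ.symm.surjective.range_comp, Fintype.card_congr σ]

/-- Change of basis. -/
theorem d_change [Module.Finite R M] {s : M →ₗ[R] V} (hs : IsGen s) (e e' : Module.Basis ι K V) :
    d s e' = d s e + o R (e.det e') := by
  obtain ⟨⟨c, hc⟩, hG⟩ := IsLocalization.exist_integer_multiples_of_finite R⁰
    fun p : ι × ι => e.toMatrix e' p.1 p.2
  choose g hg using hG
  let G : Matrix ι ι R := fun i j => g (i, j)
  have hGmap : G.map (algebraMap R K) = algebraMap R K c • e.toMatrix e' := by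
    ext i j
    simp only [G, Matrix.map_apply, hg, Matrix.smul_apply, smul_eq_mul, Algebra.smul_def]
  have hcK : algebraMap R K c ≠ 0 :=
    (map_ne_zero_iff _ (IsFractionRing.injective R K)).2 (nonZeroDivisors.ne_zero hc)
  have hd0 : e.det e' ≠ 0 := (e.isUnit_det e').ne_zero
  have hdet : algebraMap R K G.det = (algebraMap R K c) ^ Fintype.card ι * e.det e' := by
    rw [RingHom.map_det, RingHom.mapMatrix_apply, hGmap, Matrix.det_smul, Module.Basis.det_apply]
  have hGd : G.det ≠ 0 := fun h0 => by
    rw [h0, map_zero] at hdet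
    exact mul_ne_zero (pow_ne_zero _ hcK) hd0 hdet.symm
  obtain ⟨a, v, hv⟩ := hs.exists_lift e
  have hw : IsLift s e' (a * c) fun j => ∑ i, G i j • v i := by
    refine ⟨mul_ne_zero hv.1 (nonZeroDivisors.ne_zero hc), fun j => ?_⟩
    simp only [map_sum, map_smul, hv.2]
    conv_rhs => rw [← e.sum_repr (e' j), Finset.smul_sum]
    refine Finset.sum_congr rfl fun i _ => ?_
    rw [smul_comm, mul_smul, ← algebraMap_smul K (G i j) (e i)]
    congr 1
    rw [show algebraMap R K (G i j) = algebraMap R K c * e.toMatrix e' i j from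
      congrFun (congrFun hGmap i) j, mul_smul, algebraMap_smul]
    rfl
  have haK : algebraMap R K a ≠ 0 := (map_ne_zero_iff _ (IsFractionRing.injective R K)).2 hv.1
  rw [d_eq hs e hv, d_eq hs e' hw, val, val, colen_matrix e.linearIndependent hv G hGd,
    ENat.toNat_add (Ring.ord_ne_top (mem_nonZeroDivisors_of_ne_zero hGd)) (colen_ne_top hs hv),
    Nat.cast_add, ← ord_cast (K := K) hGd, hdet, map_mul]
  simp only [o]
  rw [IntThLib.ordFrac_mul (pow_ne_zero _ hcK) hd0, IntThLib.ordFrac_mul haK hcK,
    show CycAlg.ordFrac R K (algebraMap R K c ^ Fintype.card ι) =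
      Fintype.card ι * CycAlg.ordFrac R K (algebraMap R K c) from o_pow hcK _]
  ring

section Exact

variable {MA MC VA VC : Type u} [AddCommGroup MA] [Module R MA] [AddCommGroup MC] [Module R MC]
  [AddCommGroup VA] [Module K VA] [Module R VA] [IsScalarTower R K VA]
  [AddCommGroup VC] [Module K VC] [Module R VC] [IsScalarTower R K VC]

/-- Additivity in short exact sequences. -/
theorem exists_d_add [Module.Finite R MA] [Module.Finite R M] [Module.Finite R MC]
    {sA : MA →ₗ[R] VA} {s : M →ₗ[R] V} {sC : MC →ₗ[R] VC} (hA : IsGen sA) (hB : IsGen s) (hC : IsGen sC)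
    {f : MA →ₗ[R] M} {g : M →ₗ[R] MC} (hf : Function.Injective f) (hfg : Function.Exact f g)
    (hg : Function.Surjective g) {φ : VA →ₗ[K] V} {ψ : V →ₗ[K] VC}
    (hsf : ∀ m, s (f m) = φ (sA m)) (hsg : ∀ m, sC (g m) = ψ (s m))
    {κ : Type*} [Fintype κ] [DecidableEq κ] (eA : Module.Basis ι K VA) (eC : Module.Basis κ K VC)
    (eB : Module.Basis (ι ⊕ κ) K V) (hl : ∀ i, eB (.inl i) = φ (eA i))
    (hr : ∀ j, ψ (eB (.inr j)) = eC j) : d s eB = d sA eA + d sC eC := by
  obtain ⟨a, u, hu⟩ := hA.exists_lift eA
  obtain ⟨b, w, hw⟩ := hB.exists_lift eB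
  let vA : ι → MA := fun i => b • u i
  let vR : κ → M := fun j => a • w (.inr j)
  have lA : IsLift sA eA (b * a) vA := hu.smul hw.1
  have lB : IsLift s eB (b * a) (Sum.elim (f ∘ vA) vR) := by
    refine ⟨lA.1, fun i => ?_⟩
    rcases i with i | j
    · show s (f (vA i)) = _
      rw [hsf, lA.2, hl, LinearMap.map_smul_of_tower]
    · show s (a • w (.inr j)) = _
      rw [map_smul, hw.2, smul_smul, mul_comm a b]
  have lC : IsLift sC eC (b * a) (g ∘ vR) := ⟨lA.1, fun j => by
    show sC (g (vR j)) = _
    rw [hsg, show s (vR j) = (b * a) • eB (.inr j) from lB.2 (.inr j), LinearMap.map_smul_of_tower, hr]⟩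
  set NA := Submodule.span R (Set.range vA)
  set NB := Submodule.span R (Set.range (Sum.elim (f ∘ vA) vR))
  set NC := Submodule.span R (Set.range (g ∘ vR))
  have hgf : ∀ m, g (f m) = 0 := hfg.apply_apply_eq_zero
  have hNA : NA ≤ NB.comap f := by
    rw [Submodule.span_le, Set.range_subset_iff]
    exact fun i => Submodule.subset_span ⟨.inl i, rfl⟩
  have hNB : NB ≤ NC.comap g := by
    rw [Submodule.span_le, Set.range_subset_iff]
    rintro (i | j)
    · show g (f (vA i)) ∈ NC
      rw [hgf]
      exact NC.zero_mem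
    · exact Submodule.subset_span ⟨j, rfl⟩
  let f' : (MA ⧸ NA) →ₗ[R] (M ⧸ NB) := Submodule.mapQ _ _ f hNA
  let g' : (M ⧸ NB) →ₗ[R] (MC ⧸ NC) := Submodule.mapQ _ _ g hNB
  have hf' : Function.Injective f' := by
    refine (injective_iff_map_eq_zero _).2 fun z hz => ?_
    induction z using Submodule.Quotient.induction_on with
    | _ m =>
      have hz' : f m ∈ NB := (Submodule.Quotient.mk_eq_zero _).1 hz
      obtain ⟨c, hc⟩ := (Submodule.mem_span_range_iff_exists_fun R).1 hz'
      rw [Fintype.sum_sum_type] at hc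
      simp only [Sum.elim_inl, Sum.elim_inr, Function.comp_apply] at hc
      have h0 : ∑ j, c (.inr j) • (g ∘ vR) j = 0 := by
        have h1 := congrArg g hc
        simp only [map_add, map_sum, map_smul, hgf, smul_zero, Finset.sum_const_zero, zero_add] at h1
        exact h1
      have hcz := Fintype.linearIndependent_iff.1 (li_of_lift eC.linearIndependent lC) _ h0
      simp only [hcz, zero_smul, Finset.sum_const_zero, add_zero] at hc
      simp only [← map_smul, ← map_sum] at hc
      rw [← hf hc, Submodule.Quotient.mk_eq_zero]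
      exact NA.sum_mem fun i _ => NA.smul_mem _ (Submodule.subset_span ⟨i, rfl⟩)
  have hg' : Function.Surjective g' := fun z => by
    induction z using Submodule.Quotient.induction_on with
    | _ m =>
      obtain ⟨n, rfl⟩ := hg m
      exact ⟨Submodule.Quotient.mk n, rfl⟩
  have hex : Function.Exact f' g' := by
    intro z
    induction z using Submodule.Quotient.induction_on with
    | _ m =>
      constructor
      · intro hz
        have hz' : g m ∈ NC := (Submodule.Quotient.mk_eq_zero _).1 hz
        obtain ⟨c, hc⟩ := (Submodule.mem_span_range_iff_exists_fun R).1 hz'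
        obtain ⟨n, hn⟩ := (hfg (m - ∑ j, c j • vR j)).1 (by
          rw [map_sub, sub_eq_zero, map_sum]
          simpa [map_smul] using hc.symm)
        refine ⟨Submodule.Quotient.mk n, ?_⟩
        show Submodule.Quotient.mk (f n) = _
        rw [Submodule.Quotient.eq, hn, sub_sub_cancel_left]
        exact NB.neg_mem (NB.sum_mem fun j _ => NB.smul_mem _ (Submodule.subset_span ⟨.inr j, rfl⟩))
      · rintro ⟨n, hn⟩
        induction n using Submodule.Quotient.induction_on with
        | _ n =>
          rw [← hn]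
          show Submodule.Quotient.mk (g (f n)) = _
          rw [hgf]
          rfl
  have hlen : colen (R := R) (Sum.elim (f ∘ vA) vR) = colen (R := R) vA + colen (R := R) (g ∘ vR) :=
    Module.length_eq_add_of_exact _ _ hf' hg' hex
  rw [d_eq hA eA lA, d_eq hB eB lB, d_eq hC eC lC, val, val, val, hlen,
    ENat.toNat_add (colen_ne_top hA lA) (colen_ne_top hC lC), Nat.cast_add, Fintype.card_sum, Nat.cast_add]
  ring

end Exact

end Groth.Agent.H23.LatDet
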