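import Groth.Prelude.Def_LiftSq
import Groth.Prelude.Def_FibCat2

/-! Permanence of unique lifting under composition and base change. -/

universe v₈ u₈ v₇ u₇ v₆ u₆ v₅ u₅ v₄ u₄ v₃ u₃ v₂ u₂ v u

open CategoryTheory

namespace Groth.Agent.H23

variable {C : Type u} [Category.{v} C]

section Whisker

variable {𝒲 : BasedCategory.{v₂, u₂} C} {𝒳 : BasedCategory.{v₃, u₃} C} {𝒴 : BasedCategory.{v₄, u₄} C}

def whiskerLeftIso (F : 𝒲 ⥤ᵇ 𝒳) {G H : 𝒳 ⥤ᵇ 𝒴} (α : G ≅ H) :
    BasedFunctor.comp F G ≅ BasedFunctor.comp F H where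
  hom := BasedCategory.whiskerLeft F α.hom
  inv := BasedCategory.whiskerLeft F α.inv
  hom_inv_id := by rw [← LiftSq.whiskerLeft_comp', α.hom_inv_id, LiftSq.whiskerLeft_id']
  inv_hom_id := by rw [← LiftSq.whiskerLeft_comp', α.inv_hom_id, LiftSq.whiskerLeft_id']

def whiskerRightIso {F G : 𝒲 ⥤ᵇ 𝒳} (α : F ≅ G) (H : 𝒳 ⥤ᵇ 𝒴) :
    BasedFunctor.comp F H ≅ BasedFunctor.comp G H where
  hom := BasedCategory.whiskerRight α.hom H
  inv := BasedCategory.whiskerRight α.inv H
  hom_inv_id := by rw [← LiftSq.whiskerRight_comp', α.hom_inv_id, LiftSq.whiskerRight_id']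
  inv_hom_id := by rw [← LiftSq.whiskerRight_comp', α.inv_hom_id, LiftSq.whiskerRight_id']

end Whisker

theorem shift_inv0 {D : Type*} [Category D] {a b c : D} {p : a ⟶ b} {p' : b ⟶ a} (h : p' ≫ p = 𝟙 b)
    {q : b ⟶ c} {s : a ⟶ c} (e : p ≫ q = s) : q = p' ≫ s := by
  rw [← e, ← Category.assoc, h, Category.id_comp]

section Comp

variable {𝒜 : BasedCategory.{v₂, u₂} C} {ℬ : BasedCategory.{v₃, u₃} C}
  {𝒳 : BasedCategory.{v₄, u₄} C} {𝒴 : BasedCategory.{v₅, u₅} C} {𝒵 : BasedCategory.{v₆, u₆} C}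

theorem liftsUniquely_comp {j : 𝒜 ⥤ᵇ ℬ} {f : 𝒳 ⥤ᵇ 𝒴} {g : 𝒴 ⥤ᵇ 𝒵}
    (hf : LiftSq.LiftsUniquely j f) (hg : LiftSq.LiftsUniquely j g) :
    LiftSq.LiftsUniquely j (BasedFunctor.comp f g) := by
  intro sq
  let sqg : LiftSq.Sq j g := ⟨BasedFunctor.comp sq.top f, sq.bot, sq.iso⟩
  constructor
  · obtain ⟨⟨e⟩, -⟩ := hg sqg
    let sqf : LiftSq.Sq j f := ⟨sq.top, e.fn, e.isoTop⟩
    obtain ⟨⟨d⟩, -⟩ := hf sqf
    refine ⟨{ fn := d.fn, isoTop := d.isoTop, isoBot := e.isoBot ≪≫ whiskerRightIso d.isoBot g, w := ?_ }⟩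
    have h1 := e.w
    have h2 : BasedCategory.whiskerLeft j d.isoBot.hom ≫ BasedCategory.whiskerRight d.isoTop.hom f
      = e.isoTop.hom := d.w
    rw [← h2, LiftSq.whiskerRight_comp'] at h1
    change BasedCategory.whiskerLeft j (e.isoBot.hom ≫ BasedCategory.whiskerRight d.isoBot.hom g) ≫ _ = _
    rw [LiftSq.whiskerLeft_comp', Category.assoc]
    exact h1
  · intro d d'
    let pr : (d : sq.Lift) → sqg.Lift := fun d =>
      { fn := BasedFunctor.comp d.fn f, isoTop := whiskerRightIso d.isoTop f, isoBot := d.isoBot, w := d.w }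
    have ug := (hg sqg).2
    obtain ⟨uθ⟩ := ug (pr d) (pr d')
    obtain ⟨uθ'⟩ := ug (pr d') (pr d)
    obtain ⟨u1⟩ := ug (pr d) (pr d)
    obtain ⟨u2⟩ := ug (pr d') (pr d')
    let θ := uθ.default
    let θ' := uθ'.default
    have hl : θ.hom ≫ θ'.hom = 𝟙 _ :=
      congrArg LiftSq.Sq.Lift.Hom.hom ((u1.uniq (θ ≫ θ')).trans (u1.uniq (𝟙 _)).symm)
    have hr : θ'.hom ≫ θ.hom = 𝟙 _ :=
      congrArg LiftSq.Sq.Lift.Hom.hom ((u2.uniq (θ' ≫ θ)).trans (u2.uniq (𝟙 _)).symm)
    let θi : BasedFunctor.comp d.fn f ≅ BasedFunctor.comp d'.fn f := ⟨θ.hom, θ'.hom, hl, hr⟩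
    let sqf : LiftSq.Sq j f := ⟨sq.top, BasedFunctor.comp d'.fn f, whiskerRightIso d'.isoTop f⟩
    let a : sqf.Lift :=
      { fn := d.fn, isoTop := d.isoTop, isoBot := θi.symm, w := θ'.w_top }
    let a' : sqf.Lift :=
      { fn := d'.fn, isoTop := d'.isoTop, isoBot := Iso.refl _, w := by
          change BasedCategory.whiskerLeft j (𝟙 (BasedFunctor.comp d'.fn f)) ≫ _ =
            (whiskerRightIso d'.isoTop f).hom
          rw [LiftSq.whiskerLeft_id']; exact Category.id_comp _ }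
    obtain ⟨ua⟩ := (hf sqf).2 a a'
    let η := ua.default
    have hη : BasedCategory.whiskerRight η.hom f = θ.hom := by
      have h := η.w_bot
      change θ'.hom ≫ BasedCategory.whiskerRight η.hom f = 𝟙 _ at h
      exact (shift_inv0 hl h).trans (Category.comp_id _)
    refine ⟨{ default := ⟨η.hom, η.w_top, ?_⟩, uniq := ?_ }⟩
    · have h := θ.w_bot
      rw [← hη] at h
      exact h
    · intro η'
      apply LiftSq.Sq.Lift.hom_ext
      have hθ : BasedCategory.whiskerRight η'.hom f = θ.hom := by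
        let θ'' : pr d ⟶ pr d' :=
          ⟨BasedCategory.whiskerRight η'.hom f, by
            have h := congrArg (fun t => BasedCategory.whiskerRight t f) η'.w_top
            simp only [LiftSq.whiskerRight_comp'] at h
            exact h, η'.w_bot⟩
        exact congrArg LiftSq.Sq.Lift.Hom.hom (uθ.uniq θ'')
      let η'' : a ⟶ a' := ⟨η'.hom, η'.w_top, by
        change θ'.hom ≫ BasedCategory.whiskerRight η'.hom f = 𝟙 _
        rw [hθ]; exact hr⟩
      exact congrArg (fun t : a ⟶ a' => t.hom) (ua.uniq η'')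

end Comp

section BaseChange

variable {𝒜 : BasedCategory.{v₂, u₂} C} {ℬ : BasedCategory.{v₃, u₃} C}
  {𝒳 : BasedCategory.{v₄, u₄} C} {𝒴 : BasedCategory.{v₅, u₅} C} {𝒴' : BasedCategory.{v₆, u₆} C}

open FibCat

theorem square_glue {D : Type*} [Category D] {a b b' c c' : D} {p : a ⟶ b} {i : b ⟶ b'} {q : b' ⟶ c'}
    {q' : b ⟶ c} {i' : c ⟶ c'} {s : a ⟶ c} (hw : q' ≫ i' = i ≫ q) (e : p ≫ q' = s) :
    (p ≫ i) ≫ q = s ≫ i' := by
  rw [Category.assoc, ← hw, ← Category.assoc, e]

theorem inv_square {D : Type*} [Category D] {a a' b b' : D} {p : a ⟶ b} {p' : b ⟶ a} (hp : p' ≫ p = 𝟙 b)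
    {q : a' ⟶ b'} {q' : b' ⟶ a'} (hq : q ≫ q' = 𝟙 a') {i : a ⟶ a'} {i' : b ⟶ b'}
    (h : p ≫ i' = i ≫ q) : p' ≫ i = i' ≫ q' := by
  calc p' ≫ i = p' ≫ (i ≫ q) ≫ q' := by rw [Category.assoc, hq, Category.comp_id]
    _ = i' ≫ q' := by rw [← h, Category.assoc, ← Category.assoc, hp, Category.id_comp]

theorem app_hom_inv {F G : 𝒳 ⥤ᵇ 𝒴} (α : F ≅ G) (x : 𝒳.obj) :
    α.hom.toNatTrans.app x ≫ α.inv.toNatTrans.app x = 𝟙 _ :=
  ((BasedNatTrans.forgetful _ _).mapIso α |>.app x).hom_inv_id

theorem app_inv_hom {F G : 𝒳 ⥤ᵇ 𝒴} (α : F ≅ G) (x : 𝒳.obj) :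
    α.inv.toNatTrans.app x ≫ α.hom.toNatTrans.app x = 𝟙 _ :=
  ((BasedNatTrans.forgetful _ _).mapIso α |>.app x).inv_hom_id

variable {f : 𝒳 ⥤ᵇ 𝒴} {y : 𝒴' ⥤ᵇ 𝒴}

/-- A morphism of functors into a fibre product from its two components. -/
def fpHom {F G : ℬ ⥤ᵇ fp y f}
    (a : BasedFunctor.comp F (fpFst y f) ⟶ BasedFunctor.comp G (fpFst y f))
    (b : BasedFunctor.comp F (fpSnd y f) ⟶ BasedFunctor.comp G (fpSnd y f))
    (h : ∀ x, y.map (a.toNatTrans.app x) ≫ (G.obj x).obj.iso.hom =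
      (F.obj x).obj.iso.hom ≫ f.map (b.toNatTrans.app x)) : F ⟶ G where
  toNatTrans :=
    { app := fun x => ObjectProperty.homMk ⟨a.toNatTrans.app x, b.toNatTrans.app x, h x⟩
      naturality := fun x x' g => by
        apply ObjectProperty.hom_ext
        apply Limits.CategoricalPullback.hom_ext
        · exact a.toNatTrans.naturality g
        · exact b.toNatTrans.naturality g }
  isHomLift' := fun x => by
    have hd : (fp y f).p.obj (F.obj x) = ℬ.p.obj x := F.w_obj x
    rw [← BasedFunctor.isHomLift_iff (fpFst y f)]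
    exact a.isHomLift' x

theorem fpHom_ext {F G : ℬ ⥤ᵇ fp y f} {α β : F ⟶ G}
    (h1 : ∀ x, (α.toNatTrans.app x).hom.fst = (β.toNatTrans.app x).hom.fst)
    (h2 : ∀ x, (α.toNatTrans.app x).hom.snd = (β.toNatTrans.app x).hom.snd) : α = β := by
  apply BasedNatTrans.homCategory.ext
  apply NatTrans.ext
  funext x
  apply ObjectProperty.hom_ext
  exact Limits.CategoricalPullback.hom_ext (h1 x) (h2 x)

/-- An isomorphism of functors into a fibre product from its two components. -/
def fpIsoMk {F G : ℬ ⥤ᵇ fp y f}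
    (a : BasedFunctor.comp F (fpFst y f) ≅ BasedFunctor.comp G (fpFst y f))
    (b : BasedFunctor.comp F (fpSnd y f) ≅ BasedFunctor.comp G (fpSnd y f))
    (h : ∀ x, y.map (a.hom.toNatTrans.app x) ≫ (G.obj x).obj.iso.hom =
      (F.obj x).obj.iso.hom ≫ f.map (b.hom.toNatTrans.app x)) : F ≅ G where
  hom := fpHom a.hom b.hom h
  inv := fpHom a.inv b.inv (fun x => by
    have e1 : y.map (a.inv.toNatTrans.app x) ≫ y.map (a.hom.toNatTrans.app x) = 𝟙 _ := by
      rw [← Functor.map_comp, app_inv_hom]; exact y.toFunctor.map_id _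
    have e2 : f.map (b.hom.toNatTrans.app x) ≫ f.map (b.inv.toNatTrans.app x) = 𝟙 _ := by
      rw [← Functor.map_comp, app_hom_inv]; exact f.toFunctor.map_id _
    exact inv_square e1 e2 (h x))
  hom_inv_id := fpHom_ext (fun x => app_hom_inv a x) (fun x => app_hom_inv b x)
  inv_hom_id := fpHom_ext (fun x => app_inv_hom a x) (fun x => app_inv_hom b x)

theorem liftsUniquely_fpFst {j : 𝒜 ⥤ᵇ ℬ} (hf : LiftSq.LiftsUniquely j f) :
    LiftSq.LiftsUniquely j (fpFst y f) := by
  intro sq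
  let sq' : LiftSq.Sq j f :=
    ⟨BasedFunctor.comp sq.top (fpSnd y f), BasedFunctor.comp sq.bot y,
      whiskerRightIso sq.iso y ≪≫ whiskerLeftIso sq.top (fpIso y f)⟩
  constructor
  · obtain ⟨⟨d⟩, -⟩ := hf sq'
    refine ⟨{ fn := fpLift sq.bot d.fn d.isoBot, isoTop := fpIsoMk sq.iso d.isoTop ?_,
              isoBot := Iso.refl _, w := ?_ }⟩
    · intro x
      exact (congrArg (fun t => t.toNatTrans.app x) d.w).symm
    · change BasedCategory.whiskerLeft j (𝟙 _) ≫ _ = sq.iso.hom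
      rw [LiftSq.whiskerLeft_id', Category.id_comp]
      apply BasedNatTrans.homCategory.ext
      ext x
      rfl
  · intro d d'
    let pr : sq.Lift → sq'.Lift := fun d =>
      { fn := BasedFunctor.comp d.fn (fpSnd y f)
        isoTop := whiskerRightIso d.isoTop (fpSnd y f)
        isoBot := whiskerRightIso d.isoBot y ≪≫ whiskerLeftIso d.fn (fpIso y f)
        w := by
          apply BasedNatTrans.homCategory.ext
          ext x
          have h := congrArg (fun t => y.map (t.toNatTrans.app x)) d.w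
          have hw := (d.isoTop.hom.toNatTrans.app x).hom.w
          change (y.map (d.isoBot.hom.toNatTrans.app (j.obj x)) ≫ (d.fn.obj (j.obj x)).obj.iso.hom) ≫
            f.map (d.isoTop.hom.toNatTrans.app x).hom.snd =
            y.map (sq.iso.hom.toNatTrans.app x) ≫ (sq.top.obj x).obj.iso.hom
          change y.map (d.isoBot.hom.toNatTrans.app (j.obj x) ≫ (d.isoTop.hom.toNatTrans.app x).hom.fst) = _ at h
          rw [Functor.map_comp] at h
          exact square_glue hw h }
    obtain ⟨uη⟩ := (hf sq').2 (pr d) (pr d')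
    let η := uη.default
    refine ⟨{ default := ⟨fpHom (d.isoBot.inv ≫ d'.isoBot.hom) η.hom ?_, ?_, ?_⟩, uniq := ?_ }⟩
    · intro x
      have h := congrArg (fun t => t.toNatTrans.app x) η.w_bot
      change (y.map (d.isoBot.hom.toNatTrans.app x) ≫ (d.fn.obj x).obj.iso.hom) ≫ f.map (η.hom.toNatTrans.app x)
        = y.map (d'.isoBot.hom.toNatTrans.app x) ≫ (d'.fn.obj x).obj.iso.hom at h
      change y.map (d.isoBot.inv.toNatTrans.app x ≫ d'.isoBot.hom.toNatTrans.app x) ≫ _ = _
      rw [Functor.map_comp]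
      refine (Category.assoc _ _ _).trans ?_
      refine ((shift_inv0 ?_ ((Category.assoc _ _ _).symm.trans h)).symm : _)
      rw [← Functor.map_comp, app_inv_hom]
      exact y.toFunctor.map_id _
    · apply fpHom_ext
      · intro x
        have h := congrArg (fun t => t.toNatTrans.app x) d.w
        have h' := congrArg (fun t => t.toNatTrans.app x) d'.w
        change d.isoBot.hom.toNatTrans.app (j.obj x) ≫ (d.isoTop.hom.toNatTrans.app x).hom.fst = sq.iso.hom.toNatTrans.app x at h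
        change d'.isoBot.hom.toNatTrans.app (j.obj x) ≫ (d'.isoTop.hom.toNatTrans.app x).hom.fst = sq.iso.hom.toNatTrans.app x at h'
        change (d.isoBot.inv.toNatTrans.app (j.obj x) ≫ d'.isoBot.hom.toNatTrans.app (j.obj x)) ≫
          (d'.isoTop.hom.toNatTrans.app x).hom.fst = (d.isoTop.hom.toNatTrans.app x).hom.fst
        refine (Category.assoc _ _ _).trans ((congrArg (fun t => _ ≫ t) h').trans ?_)
        exact (shift_inv0 (app_inv_hom d.isoBot (j.obj x)) h).symm
      · intro x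
        exact congrArg (fun t => t.toNatTrans.app x) η.w_top
    · apply BasedNatTrans.homCategory.ext
      ext x
      exact (Category.assoc _ _ _).symm.trans
        ((congrArg (· ≫ d'.isoBot.hom.toNatTrans.app x) (app_hom_inv d.isoBot x)).trans (Category.id_comp _))
    · intro θ
      apply LiftSq.Sq.Lift.hom_ext
      apply fpHom_ext
      · intro x
        have h := congrArg (fun t => t.toNatTrans.app x) θ.w_bot
        change d.isoBot.hom.toNatTrans.app x ≫ (θ.hom.toNatTrans.app x).hom.fst = d'.isoBot.hom.toNatTrans.app x at h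
        change (θ.hom.toNatTrans.app x).hom.fst = d.isoBot.inv.toNatTrans.app x ≫ d'.isoBot.hom.toNatTrans.app x
        exact shift_inv0 (app_inv_hom d.isoBot x) h
      · intro x
        let θ' : pr d ⟶ pr d' :=
          ⟨BasedCategory.whiskerRight θ.hom (fpSnd y f),
            by
              apply BasedNatTrans.homCategory.ext
              ext x
              exact congrArg (fun t => (t.toNatTrans.app x).hom.snd) θ.w_top,
            by
              apply BasedNatTrans.homCategory.ext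
              ext x
              have h := congrArg (fun t => y.map (t.toNatTrans.app x)) θ.w_bot
              have hw := (θ.hom.toNatTrans.app x).hom.w
              change (y.map (d.isoBot.hom.toNatTrans.app x) ≫ (d.fn.obj x).obj.iso.hom) ≫
                f.map (θ.hom.toNatTrans.app x).hom.snd =
                y.map (d'.isoBot.hom.toNatTrans.app x) ≫ (d'.fn.obj x).obj.iso.hom
              change y.map (d.isoBot.hom.toNatTrans.app x ≫ (θ.hom.toNatTrans.app x).hom.fst) = _ at h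
              rw [Functor.map_comp] at h
              exact square_glue hw h⟩
        have := congrArg LiftSq.Sq.Lift.Hom.hom (uη.uniq θ')
        exact congrArg (fun t => t.toNatTrans.app x) this

end BaseChange

end Groth.Agent.H23
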