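import Groth.Agent.H23.RatEquivPull
import Groth.Agent.H23.FlatClass
import Groth.Agent.CycLib.DivPush
import Mathlib.AlgebraicGeometry.AffineTransitionLimit

/-! Cycles on a limit of schemes with affine flat transition maps. -/

set_option autoImplicit false
set_option linter.style.haveILetI false

universe u

open AlgebraicGeometry CategoryTheory CategoryTheory.Limits IsLocalRing

namespace Groth.Agent.H23.LimCyc

open Groth.Agent FlatShift FiniteFibreSum DivPull C1Pull

variable {J : Type u} [Category.{u} J] [IsCofiltered J] (D : J ⥤ Scheme.{u}) (c : Cone D) (hc : IsLimit c)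
  [∀ {i j} (f : i ⟶ j), IsAffineHom (D.map f)] [∀ i, CompactSpace (D.obj i)]

/-- The projection to a stage. -/
noncomputable abbrev π (i : J) : c.pt ⟶ D.obj i := c.π.app i

theorem w_apply {i j : J} (f : j ⟶ i) (x : c.pt) : π D c i x = D.map f (π D c j x) := by
  have e := c.w f
  show c.π.app i x = _
  rw [← e]
  rfl

theorem stalk_congr {X Y : Scheme.{u}} {u v : X ⟶ Y} (e : u = v) (x : X) (a : Y.presheaf.stalk (u x)) :
    ∃ a' : Y.presheaf.stalk (v x), (v.stalkMap x).hom a' = (u.stalkMap x).hom a := by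
  subst e
  exact ⟨a, rfl⟩

omit [IsCofiltered J] [∀ {i j} (f : i ⟶ j), IsAffineHom (D.map f)] [∀ i, CompactSpace (D.obj i)] in
theorem stalk_of_section {P Q O Xj : Scheme.{u}} (ι' : Q ⟶ P) [IsOpenImmersion ι'] (κ : O ⟶ Xj) [IsOpenImmersion κ]
    (e : Q ⟶ O) (p : P ⟶ Xj) (hw : e ≫ κ = ι' ≫ p) (t : Γ(O, ⊤)) (W : P.Opens) (s : Γ(P, W))
    (hle : (⊤ : Q.Opens) ≤ ι' ⁻¹ᵁ W)
    (ht : e.appTop.hom t = (Q.presheaf.map (homOfLE hle).op).hom ((ι'.app W).hom s)) (x₀ : Q) (hx : ι' x₀ ∈ W) :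
    ∃ a : Xj.presheaf.stalk (p (ι' x₀)), (p.stalkMap (ι' x₀)).hom a = P.presheaf.germ W (ι' x₀) hx s := by
  obtain ⟨a0, ha0⟩ := (ConcreteCategory.bijective_of_isIso (κ.stalkMap (e x₀))).2
    (O.presheaf.germ ⊤ (e x₀) trivial t)
  obtain ⟨a, ha⟩ := stalk_congr hw x₀ a0
  refine ⟨a, (ConcreteCategory.bijective_of_isIso (ι'.stalkMap x₀)).1 ?_⟩
  rw [Scheme.Hom.stalkMap_comp, Scheme.Hom.stalkMap_comp] at ha
  refine ha.trans ?_
  show (e.stalkMap x₀).hom ((κ.stalkMap (e x₀)).hom a0) = _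
  rw [show (κ.stalkMap (e x₀)).hom a0 = _ from ha0]
  refine (Scheme.Hom.germ_stalkMap_apply e ⊤ x₀ trivial t).trans ?_
  refine (congrArg (Q.presheaf.germ ⊤ x₀ trivial) ht).trans ?_
  refine (TopCat.Presheaf.germ_res_apply _ _ _ _ _).trans ?_
  exact (Scheme.Hom.germ_stalkMap_apply ι' W x₀ hx s).symm

theorem exists_stage_stalk (hc : IsLimit c) (x : c.pt) (g : c.pt.presheaf.stalk x) :
    ∃ (i : J) (a : (D.obj i).presheaf.stalk (π D c i x)), ((π D c i).stalkMap x).hom a = g := by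
  obtain ⟨W, hxW, s, rfl⟩ := c.pt.presheaf.exists_germ_eq (x := x) g
  obtain ⟨_, ⟨i, V, hV, rfl⟩, hxV, hVW⟩ :=
    TopologicalSpace.Opens.isBasis_iff_nbhd.1 (isBasis_preimage_isAffineOpen D c hc) hxW
  have (j : Over i) : IsAffine ((opensDiagram D i V).obj j) := hV.preimage (D.map _)
  let O : Scheme.{u} := ↑(π D c i ⁻¹ᵁ V)
  have hle : (⊤ : O.Opens) ≤ (π D c i ⁻¹ᵁ V).ι ⁻¹ᵁ W := fun y _ => hVW y.2
  obtain ⟨j, t, ht⟩ := exists_appTop_π_eq_of_isAffine_of_isLimit _ _ (isLimitOpensCone D c hc i V)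
    ((O.presheaf.map (homOfLE hle).op).hom (((π D c i ⁻¹ᵁ V).ι.app W).hom s))
  obtain ⟨a, ha⟩ := stalk_of_section (π D c i ⁻¹ᵁ V).ι ((opensDiagramι D i V).app j) ((opensCone D c i V).π.app j)
    (π D c j.left) (Scheme.Hom.resLE_comp_ι _ _) t W s hle ht ⟨x, hxV⟩ hxW
  exact ⟨j.left, a, ha⟩

theorem exists_lift {i j : J} (f : j ⟶ i) {x : c.pt} (a : (D.obj i).presheaf.stalk (π D c i x)) :
    ∃ b : (D.obj j).presheaf.stalk (π D c j x),
      ((π D c j).stalkMap x).hom b = ((π D c i).stalkMap x).hom a := by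
  obtain ⟨a', ha'⟩ := stalk_congr (c.w f).symm x a
  refine ⟨((D.map f).stalkMap (π D c j x)).hom a', ?_⟩
  rw [← ha', Scheme.Hom.stalkMap_comp]
  rfl

theorem exists_stage_maximal (hc : IsLimit c) [IsLocallyNoetherian c.pt] (x : c.pt) :
    ∃ i : J, ∀ (j : J) (_ : j ⟶ i), fibreLen (π D c j) x = 1 := by
  classical
  obtain ⟨S, hS⟩ := (IsNoetherian.noetherian (maximalIdeal (c.pt.presheaf.stalk x)) :
    (maximalIdeal (c.pt.presheaf.stalk x)).FG)
  choose i a ha using fun g : S => exists_stage_stalk D c hc x g.1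
  obtain ⟨i₀, hi₀⟩ := IsCofiltered.inf_objs_exists (Finset.univ.image i)
  refine ⟨i₀, fun j f => ?_⟩
  have hm : Ideal.map ((π D c j).stalkMap x).hom (maximalIdeal ((D.obj j).presheaf.stalk (π D c j x))) =
      maximalIdeal (c.pt.presheaf.stalk x) := by
    refine le_antisymm (((IsLocalRing.local_hom_TFAE ((π D c j).stalkMap x).hom).out 0 2).1
      (inferInstance : IsLocalHom ((π D c j).stalkMap x).hom)) ?_
    conv_lhs => rw [← hS]
    refine Ideal.span_le.2 fun g hg => ?_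
    obtain ⟨b, hb⟩ := exists_lift D c (f ≫ (hi₀ (X := i ⟨g, hg⟩) (by simp)).some) (a ⟨g, hg⟩)
    rw [show g = ((π D c j).stalkMap x).hom b from (ha ⟨g, hg⟩).symm.trans hb.symm]
    refine Ideal.mem_map_of_mem _ ?_
    rw [mem_maximalIdeal, mem_nonunits_iff]
    intro hu
    have := hu.map ((π D c j).stalkMap x).hom
    rw [hb, ha ⟨g, hg⟩] at this
    exact (mem_maximalIdeal _).1 (hS ▸ Ideal.subset_span hg) this
  rw [fibreLen, hm]
  exact Module.length_eq_one_iff.2 (isSimpleModule_iff_isCoatom.2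
    (Ideal.isMaximal_def.1 inferInstance))

theorem exists_stage_closure (hc : IsLimit c) [TopologicalSpace.NoetherianSpace c.pt] (x : c.pt) :
    ∃ i : J, ∀ y, π D c i x ⤳ π D c i y → x ⤳ y := by
  let C : J → TopologicalSpace.Closeds c.pt := fun i =>
    ⟨π D c i ⁻¹' closure {π D c i x}, isClosed_closure.preimage (π D c i).continuous⟩
  obtain ⟨_, ⟨i, rfl⟩, hi⟩ := wellFounded_lt.has_min (Set.range C) ⟨_, IsCofiltered.nonempty.some, rfl⟩
  refine ⟨i, fun y hy => ?_⟩
  rw [specializes_iff_forall_open]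
  intro U hU hyU
  obtain ⟨_, ⟨i', V, hV, rfl⟩, hyV, hVU⟩ := TopologicalSpace.Opens.isBasis_iff_nbhd.1
    (isBasis_preimage_isAffineOpen D c hc) (U := ⟨U, hU⟩) hyU
  let l := IsCofiltered.min i i'
  have hle : ∀ (m : J) (f : l ⟶ m), C l ≤ C m := fun m f z hz => by
    show π D c m z ∈ closure {π D c m x}
    rw [← specializes_iff_mem_closure, w_apply D c f z, w_apply D c f x]
    exact (specializes_iff_mem_closure.2 hz).map (D.map f).continuous
  have heq : C l = C i := le_antisymm (hle i (IsCofiltered.minToLeft i i')) (by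
    by_contra hn
    exact hi (C l) ⟨l, rfl⟩ (lt_of_le_not_ge (hle i (IsCofiltered.minToLeft i i')) hn))
  have hy' : y ∈ C i' := hle i' (IsCofiltered.minToRight i i') (heq ▸ specializes_iff_mem_closure.1 hy)
  exact hVU ((specializes_iff_mem_closure.2 hy').mem_open V.2 hyV)

/-- From some stage on a point is the only fibre-maximal point over its image, of multiplicity one. -/
theorem exists_good (hc : IsLimit c) [IsLocallyNoetherian c.pt] (x : c.pt) :
    ∃ i : J, ∀ (j : J) (_ : j ⟶ i), fibreLen (π D c j) x = 1 ∧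
      ∀ z, π D c j z = π D c j x → (FibDim.FibMax (π D c j) z ↔ z = x) := by
  haveI := Scheme.compactSpace_of_isLimit D c hc
  haveI : IsNoetherian c.pt := ⟨⟩
  obtain ⟨i₁, h1⟩ := exists_stage_maximal D c hc x
  obtain ⟨i₂, h2⟩ := exists_stage_closure D c hc x
  refine ⟨IsCofiltered.min i₁ i₂, fun j f => ⟨h1 j (f ≫ IsCofiltered.minToLeft i₁ i₂), fun z hz => ?_⟩⟩
  have key : ∀ w, π D c j w = π D c j x → x ⤳ w := fun w hw => h2 w (by
    rw [w_apply D c (f ≫ IsCofiltered.minToRight i₁ i₂) w, w_apply D c (f ≫ IsCofiltered.minToRight i₁ i₂) x, hw])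
  constructor
  · intro hm
    exact (hm x (key z hz) hz.symm).symm
  · rintro rfl w hw e
    exact (hw.antisymm (key w e)).eq

variable [∀ i, Flat (π D c i)] [∀ {i j} (f : i ⟶ j), Flat (D.map f)] [∀ i, IsLocallyNoetherian (D.obj i)]
  [IsLocallyNoetherian c.pt] {δ : (i : J) → D.obj i → ℤ} {δ' : c.pt → ℤ}
  (hd' : Cyc.IsDimFun c.pt δ') (hd : ∀ i, Cyc.IsDimFun (D.obj i) (δ i))
  (hsf : ∀ {i j : J} (f : i ⟶ j), HasShift (D.map f) (δ i) (δ j) 0)
  (hsh : ∀ i, HasShift (π D c i) δ' (δ i) 0)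

include hd' hsh in
theorem exists_pull_zero (hc : IsLimit c) (hd : ∀ i, Cyc.IsDimFun (D.obj i) (δ i))
    (hsf : ∀ {i j : J} (f : i ⟶ j), HasShift (D.map f) (δ i) (δ j) 0) (i : J) (α : AlgebraicCycle (D.obj i) ℤ)
    (h0 : Cyc.pullFun (π D c i) δ' (δ i) 0 ⇑α = 0) :
    ∃ (j : J) (f : j ⟶ i), Cyc.pullFun (D.map f) (δ j) (δ i) 0 ⇑α = 0 := by
  classical
  have hfin : (Function.support ⇑α).Finite := by
    have := α.locallyFiniteSupport.finite_inter_support_of_isCompact isCompact_univ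
    rwa [Set.univ_inter] at this
  let U : (D.obj i).Opens := ⟨(⋃ x ∈ Function.support ⇑α, closure {x})ᶜ,
    (hfin.isClosed_biUnion fun x _ => isClosed_closure).isOpen_compl⟩
  have hU : π D c i ⁻¹ᵁ U = ⊤ := by
    refine TopologicalSpace.Opens.ext (Set.eq_univ_iff_forall.2 fun y => ?_)
    show π D c i y ∈ (⋃ x ∈ Function.support ⇑α, closure {x})ᶜ
    rw [Set.mem_compl_iff, Set.mem_iUnion₂]
    rintro ⟨x, hx, hxy⟩
    obtain ⟨z, -, rfl⟩ := (Flat.generalizingMap (π D c i)) (specializes_iff_mem_closure.2 hxy)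
    obtain ⟨w, -, hwe, hwm⟩ := exists_fibMax_gen (π D c i) z
    have := congrFun h0 w
    rw [pullFun_eq (hsh i) hd', if_pos hwm, Pi.zero_apply, mul_eq_zero] at this
    rcases this with h | h
    · rw [hwe] at h
      exact hx h
    · rcases ENat.toNat_eq_zero.1 (Int.natCast_eq_zero.1 h) with h | h
      · rw [fibreLen, Module.length_eq_zero_iff, Submodule.Quotient.subsingleton_iff] at h
        exact (IsLocalRing.maximalIdeal.isMaximal _).ne_top (top_le_iff.1 (h.ge.trans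
          (((IsLocalRing.local_hom_TFAE ((π D c i).stalkMap w).hom).out 0 2).1
            (inferInstance : IsLocalHom ((π D c i).stalkMap w).hom))))
      · exact fibreLen_ne_top _ hwm h
  obtain ⟨j, f, hj⟩ := exists_map_eq_top D c hc U hU
  refine ⟨j, f, funext fun z => ?_⟩
  rw [pullFun_eq (hsf f) (hd j)]
  split_ifs
  · refine mul_eq_zero_of_left ?_ _
    by_contra hne
    exact (hj.ge (Set.mem_univ z) : D.map f z ∈ U) (Set.mem_biUnion hne (subset_closure rfl))
  · rfl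

include hd' hsh in
theorem exists_descent (hc : IsLimit c) {k : ℤ} (α' : AlgebraicCycle c.pt ℤ) (hα' : α' ∈ Cyc.Zk c.pt δ' k) :
    ∃ (i : J) (α : AlgebraicCycle (D.obj i) ℤ), α ∈ Cyc.Zk (D.obj i) (δ i) k ∧
      Cyc.pullFun (π D c i) δ' (δ i) 0 ⇑α = ⇑α' := by
  classical
  haveI := Scheme.compactSpace_of_isLimit D c hc
  have hfin : (Function.support ⇑α').Finite := by
    have := α'.locallyFiniteSupport.finite_inter_support_of_isCompact isCompact_univ
    rwa [Set.univ_inter] at this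
  choose i hi using exists_good D c hc
  obtain ⟨j, hj⟩ := IsCofiltered.inf_objs_exists (hfin.toFinset.image i)
  have hg : ∀ x ∈ Function.support ⇑α', fibreLen (π D c j) x = 1 ∧
      ∀ z, π D c j z = π D c j x → (FibDim.FibMax (π D c j) z ↔ z = x) := fun x hx =>
    hi x j (hj (X := i x) (Finset.mem_image_of_mem _ (hfin.mem_toFinset.2 hx))).some
  let A : D.obj j → ℤ := fun y => ∑ x ∈ hfin.toFinset, if π D c j x = y then α' x else 0
  have hA : ∀ y, A y ≠ 0 → ∃ x ∈ Function.support ⇑α', π D c j x = y := fun y hy => by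
    obtain ⟨x, hx, hne⟩ := Finset.exists_ne_zero_of_sum_ne_zero hy
    refine ⟨x, hfin.mem_toFinset.1 hx, ?_⟩
    by_contra hn
    exact hne (if_neg hn)
  have hlf : ∀ z : D.obj j, ∃ U ∈ nhds z, (U ∩ Function.support A).Finite := fun z =>
    ⟨Set.univ, Filter.univ_mem, (hfin.image (π D c j)).subset fun y hy => by
      obtain ⟨x, hx, rfl⟩ := hA y hy.2
      exact Set.mem_image_of_mem _ hx⟩
  refine ⟨j, ⟨A, Set.subset_univ _, fun z _ => hlf z⟩, fun y hy => ?_, funext fun z => ?_⟩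
  · by_contra hne
    obtain ⟨x, hx, rfl⟩ := hA y hne
    have hm := ((hg x hx).2 x rfl).2 rfl
    have e := (hsh j).eq_of_fibMax hm
    refine hx (hα' x ?_)
    omega
  · rw [pullFun_eq (hsh j) hd']
    show (if _ then A (π D c j z) * _ else 0) = _
    by_cases hm : FibDim.FibMax (π D c j) z
    · rw [if_pos hm]
      by_cases hz : α' z = 0
      · rw [hz]
        refine mul_eq_zero_of_left (Finset.sum_eq_zero fun x hx => if_neg fun e => ?_) _
        have := ((hg x (hfin.mem_toFinset.1 hx)).2 z e.symm).1 hm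
        exact hfin.mem_toFinset.1 hx (this ▸ hz)
      · rw [(hg z hz).1, show A (π D c j z) = α' z from ?_]
        · simp
        refine (Finset.sum_eq_single z (fun x hx hne => if_neg fun e => ?_) fun h => absurd (hfin.mem_toFinset.2 hz) h).trans
          (if_pos rfl)
        exact hne (((hg z hz).2 x e).1 (((hg x (hfin.mem_toFinset.1 hx)).2 x rfl).2 rfl))
    · rw [if_neg hm]
      by_contra hz
      exact hm (((hg z (Ne.symm hz)).2 z rfl).2 rfl)

include hd' hd hsf hsh in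
theorem exists_ratEquiv_descent (hc : IsLimit c) {k : ℤ} (i : J) (α : AlgebraicCycle (D.obj i) ℤ)
    (α' : AlgebraicCycle c.pt ℤ) (hα' : ⇑α' = Cyc.pullFun (π D c i) δ' (δ i) 0 ⇑α)
    (h0 : Cyc.RatEquivZero δ' k α') :
    ∃ (j : J) (f : j ⟶ i) (αj : AlgebraicCycle (D.obj j) ℤ),
      ⇑αj = Cyc.pullFun (D.map f) (δ j) (δ i) 0 ⇑α ∧ Cyc.RatEquivZero (δ j) k αj := by
  classical
  haveI := Scheme.compactSpace_of_isLimit D c hc
  obtain ⟨ι, ξ, g, h1, h2, h3, h4⟩ := h0
  haveI : Finite ι := by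
    choose U hUo hxU hUf using h3
    obtain ⟨t, ht⟩ := CompactSpace.elim_nhds_subcover U fun x => (hUo x).mem_nhds (hxU x)
    refine Set.finite_univ_iff.1 ((t.finite_toSet.biUnion fun x _ => hUf x).subset fun l _ => ?_)
    obtain ⟨x, hx, hxl⟩ := Set.mem_iUnion₂.1 (ht.ge (Set.mem_univ (ξ l)))
    exact Set.mem_biUnion hx ⟨ξ l, subset_closure rfl, hxl⟩
  haveI := Fintype.ofFinite ι
  choose G hG using fun l => Ideal.Quotient.mk_surjective (g l)
  choose iA a ha using fun l => exists_stage_stalk D c hc (ξ l) (G l)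
  choose iG hiG using fun l => exists_good D c hc (ξ l)
  obtain ⟨j, hj⟩ := IsCofiltered.inf_objs_exists (insert i (Finset.univ.image iA ∪ Finset.univ.image iG))
  let f : j ⟶ i := (hj (X := i) (by simp)).some
  have hg := fun l => hiG l j (hj (X := iG l) (by simp)).some
  choose b hb using fun l => exists_lift D c (hj (X := iA l) (by simp)).some (a l)
  let ξj : ι → D.obj j := fun l => π D c j (ξ l)
  let gj : (l : ι) → (D.obj j).residueField (ξj l) := fun l => (D.obj j).residue (ξj l) (b l)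
  have hgj : ∀ l, pullRes (π D c j) (rfl : π D c j (ξ l) = ξj l) (gj l) = g l := fun l => by
    rw [pullRes_rfl, ← residue_stalkMap, hb, ha, ← hG l]
    rfl
  have hgj0 : ∀ l, gj l ≠ 0 := fun l h => h2 l (by rw [← hgj l, h]; simp [pullRes])
  have hδj : ∀ l, δ j (ξj l) = k + 1 := fun l => by
    have := (hsh j).eq_of_fibMax (((hg l).2 (ξ l) rfl).2 rfl)
    rw [← h1 l, this, add_zero]
  let A := FlatClass.pullCycle (hsf f) (hd j) α
  let B : AlgebraicCycle (D.obj j) ℤ := ∑ l : ι, CycLib.divCycle (hd j) (ξj l) (gj l) (hgj0 l)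
  have hB : ∀ y, B y = ∑ l : ι, Cyc.divFun (δ j) (ξj l) (gj l) y := fun y => by
    show (∑ l : ι, CycLib.divCycle (hd j) (ξj l) (gj l) (hgj0 l) : AlgebraicCycle (D.obj j) ℤ) y = _
    induction (Finset.univ : Finset ι) using Finset.induction with
    | empty => simp
    | insert l s hl ih =>
      rw [Finset.sum_insert hl, Finset.sum_insert hl, Function.locallyFinsuppWithin.coe_add, Pi.add_apply, ih]
      rfl
  have hBrat : Cyc.RatEquivZero (δ j) k B := ⟨ι, ξj, gj, hδj, hgj0,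
    fun y => ⟨Set.univ, isOpen_univ, trivial, Set.toFinite _⟩, fun y => by rw [hB, finsum_eq_sum_of_fintype]⟩
  have hzero : Cyc.pullFun (π D c j) δ' (δ j) 0 ⇑(A - B) = 0 := by
    funext z
    have e1 : Cyc.pullFun (π D c j) δ' (δ j) 0 ⇑A z = α' z := by
      show Cyc.pullFun (π D c j) δ' (δ j) 0 (Cyc.pullFun (D.map f) (δ j) (δ i) 0 ⇑α) z = _
      rw [hα', pullFun_comp_of_le (π D c j) (D.map f) δ' (δ j) (δ i) (fun x => (hsh j).le hd' x)
        (fun y => (hsf f).le (hd j) y), c.w f, add_zero]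
    have e2 : ∀ l, Cyc.pullFun (π D c j) δ' (δ j) 0 (Cyc.divFun (δ j) (ξj l) (gj l)) z =
        Cyc.divFun δ' (ξ l) (g l) z := fun l => by
      rw [pullFun_divFun (π D c j) (hsh j) (hd j) hd' (hgj0 l) z]
      have hset : {w : c.pt | π D c j w = ξj l ∧ FibDim.FibMax (π D c j) w} = {ξ l} :=
        Set.ext fun w => ⟨fun h => ((hg l).2 w h.1).1 h.2, fun h => h ▸ ⟨rfl, ((hg l).2 (ξ l) rfl).2 rfl⟩⟩
      rw [hset, finsum_mem_singleton, term, dif_pos rfl, hgj, (hg l).1]
      simp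
    rw [Pi.zero_apply, pullFun_eq (hsh j) hd', Function.locallyFinsuppWithin.coe_sub, Pi.sub_apply, hB]
    rw [pullFun_eq (hsh j) hd'] at e1
    have e3 : ∑ l : ι, Cyc.divFun δ' (ξ l) (g l) z = α' z := by rw [h4, finsum_eq_sum_of_fintype]
    rw [Finset.sum_congr rfl fun l _ => (e2 l).symm] at e3
    simp only [pullFun_eq (hsh j) hd'] at e3
    by_cases hm : FibDim.FibMax (π D c j) z
    · simp only [if_pos hm] at e1 e3 ⊢
      rw [sub_mul, Finset.sum_mul, e1, e3, sub_self]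
    · rw [if_neg hm]
  obtain ⟨l, f', hl⟩ := exists_pull_zero D c hd' hsh hc hd hsf j (A - B) hzero
  let C := FlatClass.pullCycle (hsf f') (hd l) B
  refine ⟨l, f' ≫ f, C, funext fun z => ?_,
    ratEquivZero_pull (D.map f') (hsf f') (hd j) (hd l) hBrat C rfl |> fun h => by simpa using h⟩
  have h := congrFun hl z
  rw [Pi.zero_apply, pullFun_eq (hsf f') (hd l), Function.locallyFinsuppWithin.coe_sub, Pi.sub_apply] at h
  rw [D.map_comp, show (0 : ℤ) = 0 + 0 from rfl,
    ← pullFun_comp_of_le (D.map f') (D.map f) (δ l) (δ j) (δ i) (fun x => (hsf f').le (hd l) x)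
      (fun y => (hsf f).le (hd j) y), pullFun_eq (hsf f') (hd l)]
  show Cyc.pullFun (D.map f') (δ l) (δ j) 0 ⇑B z = _
  rw [pullFun_eq (hsf f') (hd l)]
  by_cases hm : FibDim.FibMax (D.map f') z
  · simp only [if_pos hm] at h ⊢
    rw [sub_mul, sub_eq_zero] at h
    exact h.symm
  · simp only [if_neg hm]

end Groth.Agent.H23.LimCyc
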