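import Groth.Agent.H23.DetHat
import Groth.Agent.H23.GammaCap.Push

/-!
# Classes whose determinant is trivial near a point
-/

set_option autoImplicit false
set_option linter.style.haveILetI false
set_option linter.unusedSectionVars false
set_option backward.isDefEq.respectTransparency false
set_option backward.isDefEq.respectTransparency.types false

universe u

open CategoryTheory CategoryTheory.Limits AlgebraicGeometry TopologicalSpace

noncomputable section

namespace Groth.Agent.H23.LocTriv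

open Groth.Agent CodimOneRank WeilDet

variable {Y : Scheme.{u}} [IsNoetherian Y] [IsIntegral Y]

/-- The divisors missing the generalizations of `y`. -/
def Van (y : Y) : AddSubgroup (P Y → ℤ) where
  carrier := {g | ∀ x : P Y, x.1 ⤳ y → g x = 0}
  zero_mem' := fun _ _ => rfl
  add_mem' := fun {a b} ha hb x hx => by show a x + b x = 0; rw [ha x hx, hb x hx, add_zero]
  neg_mem' := fun {a} ha x hx => by show -a x = 0; rw [ha x hx, neg_zero]

/-- The classes with trivial determinant near `y`. -/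
def Triv (φ : SGA6.Kcoh Y →+ (P Y → ℤ) ⧸ Pr Y) (y : Y) : AddSubgroup (SGA6.Kcoh Y) :=
  ((Van y).map (QuotientAddGroup.mk' (Pr Y))).comap φ

variable {φ : SGA6.Kcoh Y →+ (P Y → ℤ) ⧸ Pr Y}
  (hφ : ∀ F : Y.Modules, Coh.IsCoh F → φ (KDet.clc Y F) = clsD F)

include hφ in
/-- A module missing the points of codimension one over `y` is trivial near `y`. -/
theorem clc_mem {y : Y} {G : Y.Modules} (hG : Coh.IsCoh G)
    (h : ∀ w ∈ CohB1.support G, ¬ w ⤳ y) : KDet.clc Y G ∈ Triv φ y := by
  haveI : Subsingleton (G.presheaf.stalk (genericPoint Y)) :=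
    not_not.1 fun hm => h _ hm (RefX.specializes_genericPoint y)
  refine ⟨_, ?_, ((hφ G hG).trans (clsD_of_subsingleton hG)).symm⟩
  intro x hx
  show ((Module.length _ _).toNat : ℤ) = 0
  rw [show Module.length (Y.presheaf.stalk x.1) (G.presheaf.stalk x.1) = 0 from
    KZ.CycleClass.len_eq_zero fun hm => h x.1 hm hx]
  rfl

include hφ in
/-- Direct images of modules missing the fibre are trivial near the point. -/
theorem push_mem {X : Scheme.{u}} [IsNoetherian X] (π : X ⟶ Y) [IsProper π] [HasInjectiveResolutions X.Modules]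
    {N : ℕ} {gc : SGA6.Kcoh X →+ SGA6.Kcoh Y} (hgc : KRR.IsPushCoh π N gc) {y : Y} {G : X.Modules}
    (hG : Coh.IsCoh G) (h : ∀ w ∈ CohB1.support G, π w ≠ y) : gc (KDet.clc X G) ∈ Triv φ y := by
  rw [show gc (KDet.clc X G) = _ from hgc.2 G hG]
  refine sum_mem fun j _ => AddSubgroup.zsmul_mem _ ?_ _
  refine clc_mem hφ (QCoh.isCoh_Rpush_of_finiteness π hG j
    fun A _ _ Z _ _ M hM k => Groth.Agent.S0002.result A Z M hM k) fun w hw hwy => ?_
  have hcl : IsClosed (π '' CohB1.support G) := π.isClosedMap _ (QCoh.isClosed_support_of_isFT hG.1 hG.2)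
  obtain ⟨x, hx, hxy⟩ := hwy.mem_closed hcl (GammaCap.support_rpush_subset π hG j hw)
  exact h x hx hxy

variable [RefFun.Law Y] {dh : SGA6.Kcoh Y →+ Additive (RefFun.Ref1Set Y)}

include hφ in
/-- A class trivial near every point has invertible determinant. -/
theorem exists_invertible (hY : Pi1.IsNormalScheme Y) (hdh : KDet.IsDetHat Y dh) {c : SGA6.Kcoh Y}
    (h : ∀ y, c ∈ Triv φ y) :
    ∃ (I : Y.Modules) (hR : RefHull.IsRef1 I), PicF.IsInvertible I ∧
      dh c = Additive.ofMul (RefFun.cls I hR) := by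
  obtain ⟨F, hF, A, ⟨v, hv, hvA⟩, hφA, hdA⟩ := DetHat.good_all dh hY hdh hφ c
  refine ⟨F, hF, ?_, hdA⟩
  refine PrincipalAt.isInvertible_of_principal hY hF hv hvA ?_ fun y => ?_
  · intro V hV
    refine (RefX.finite_secOrd (RefX.hasFrames_of_isRef1 hY hF) hv hV).subset ?_
    rintro z ⟨hzV, hz1, hz⟩
    exact ⟨hzV, hz1, by rwa [hvA z hz1]⟩
  · obtain ⟨g, hg, hgc⟩ := h y
    rw [hφA] at hgc
    obtain ⟨f, hf, hfe⟩ := QuotientAddGroup.eq_iff_sub_mem.1 hgc.symm
    obtain ⟨ψ, rfl⟩ : ∃ ψ : Y.functionField, Y.residue (genericPoint Y) ψ = f :=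
      Ideal.Quotient.mk_surjective f
    have hψ : ψ ≠ 0 := fun h0 => hf (by rw [h0]; exact map_zero _)
    refine ⟨ψ, hψ, fun z hz hzy => ?_⟩
    have hd1 : Dim1 z := by
      show ringKrullDim _ = 1
      rw [ringKrullDim_stalk_eq_coheight, hz]
      rfl
    have h2 : A z - g ⟨z, hd1⟩ = RefX.ordK z ψ := congrFun hfe ⟨z, hd1⟩
    rw [hg ⟨z, hd1⟩ hzy, sub_zero, RefX.ordK_eq hz hψ] at h2
    exact h2

end Groth.Agent.H23.LocTriv
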