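import Groth.Agent.H23.ZCorrComp
import Groth.Agent.H23.GysinPb
import Groth.Agent.H23.GysinSq
import Groth.Prelude.Def_P1

/-!
The fibre of a family of cycles over a rational point as the cycle of a scheme-theoretic slice.
-/

set_option autoImplicit false
set_option linter.style.haveILetI false
set_option backward.isDefEq.respectTransparency false

universe u

open CategoryTheory CategoryTheory.Limits AlgebraicGeometry IsLocalRing

namespace Groth.Agent.H23.ZCorrSlice

variable {k : Type u} [Field k] {X W : Scheme.{u}} (p : X ⟶ Spec (CommRingCat.of k))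
  (q₀ : W ⟶ Spec (CommRingCat.of k)) (u : Spec (CommRingCat.of k) ⟶ W) (hu : u ≫ q₀ = 𝟙 _)

theorem slice_fst : AlgEqCyc.slice p q₀ u hu ≫ pullback.fst p q₀ = 𝟙 X := pullback.lift_fst _ _ _

theorem slice_snd : AlgEqCyc.slice p q₀ u hu ≫ pullback.snd p q₀ = p ≫ u := pullback.lift_snd _ _ _

theorem isPullback_slice : IsPullback (AlgEqCyc.slice p q₀ u hu) p (pullback.snd p q₀) u := by
  refine IsPullback.of_right ?_ (slice_snd p q₀ u hu) (IsPullback.of_hasPullback p q₀)
  rw [slice_fst, hu]
  exact IsPullback.of_horiz_isIso ⟨by simp⟩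

theorem isClosedImmersion_slice [IsSeparated q₀] : IsClosedImmersion (AlgEqCyc.slice p q₀ u hu) := by
  haveI : IsClosedImmersion (u ≫ q₀) := by rw [hu]; infer_instance
  haveI : IsClosedImmersion u := IsClosedImmersion.of_comp u q₀
  exact MorphismProperty.of_isPullback (isPullback_slice p q₀ u hu).flip (inferInstance : IsClosedImmersion u)

/-- The slice is cut out by the maximal ideal of the point. -/
theorem ker_slice [IsSeparated q₀] (x : X) :
    RingHom.ker ((AlgEqCyc.slice p q₀ u hu).stalkMap x).hom =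
      (maximalIdeal (W.presheaf.stalk (pullback.snd p q₀ (AlgEqCyc.slice p q₀ u hu x)))).map
        ((pullback.snd p q₀).stalkMap (AlgEqCyc.slice p q₀ u hu x)).hom := by
  haveI : IsClosedImmersion (u ≫ q₀) := by rw [hu]; infer_instance
  haveI : IsClosedImmersion u := IsClosedImmersion.of_comp u q₀
  have h := isPullback_slice p q₀ u hu
  have key : ∀ (w : X ⟶ pullback p q₀), w = AlgEqCyc.slice p q₀ u hu →
      RingHom.ker (w.stalkMap x).hom =
        (maximalIdeal (W.presheaf.stalk (pullback.snd p q₀ (w x)))).map ((pullback.snd p q₀).stalkMap (w x)).hom →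
      RingHom.ker ((AlgEqCyc.slice p q₀ u hu).stalkMap x).hom =
        (maximalIdeal (W.presheaf.stalk (pullback.snd p q₀ (AlgEqCyc.slice p q₀ u hu x)))).map
          ((pullback.snd p q₀).stalkMap (AlgEqCyc.slice p q₀ u hu x)).hom := by
    rintro w rfl e
    exact e
  refine key _ h.isoPullback_hom_fst ?_
  rw [GysinSq.ker_stalkMap_iso_comp, GysinPb.ker_stalkMap_fst]
  let z := h.isoPullback.hom x
  let d := pullback.snd (pullback.snd p q₀) u z
  have hk : RingHom.ker (u.stalkMap d).hom = maximalIdeal _ := by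
    have hd : genericPoint ↥(Spec (CommRingCat.of k)) = d :=
      @Subsingleton.elim _ (inferInstanceAs (Subsingleton (PrimeSpectrum k))) _ _
    have hf : IsField ((Spec (CommRingCat.of k)).presheaf.stalk d) := by
      rw [← hd]
      exact Field.toIsField (Spec (CommRingCat.of k)).functionField
    letI := hf.toField
    haveI : (RingHom.ker (u.stalkMap d).hom).IsMaximal :=
      RingHom.ker_isMaximal_of_surjective _ (u.stalkMap_surjective d)
    exact IsLocalRing.eq_maximalIdeal ‹_›
  rw [hk, GysinPb.baseMap, CommRingCat.hom_comp]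
  erw [← Ideal.map_map]
  congr 1
  refine IsLocalRing.map_maximalIdeal_of_surjective _ ?_
  have e : Function.Bijective (W.presheaf.stalkCongr (.of_eq
      (GysinPb.apply_fst_eq (pullback.snd p q₀) u z).symm)).hom.hom := ConcreteCategory.bijective_of_isIso _
  exact e.2

theorem map_ker_specMap {P : Scheme.{u}} {v v' w : P} (e : v = v') (h' : w ⤳ v') (h : w ⤳ v) :
    (RingHom.ker (Cyc.specMap v' w h')).map (P.presheaf.stalkSpecializes (specializes_of_eq e)).hom =
      RingHom.ker (Cyc.specMap v w h) := by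
  subst e
  rw [TopCat.Presheaf.stalkSpecializes_refl]
  exact Ideal.map_id _

/-- The length of the slice of an integral closed subscheme is the multiplicity of the fibre cycle. -/
theorem length_eq_fibreMult {E P C Z : Scheme.{u}} (g₀ : P ⟶ C) (s : E ⟶ P) [IsClosedImmersion s]
    (hs : ∀ x, RingHom.ker (s.stalkMap x).hom =
      (maximalIdeal (C.presheaf.stalk (g₀ (s x)))).map (g₀.stalkMap (s x)).hom)
    [IsIntegral Z] (ι : Z ⟶ P) [IsClosedImmersion ι] (z : ↥(pullback s ι))
    (h : ι (genericPoint Z) ⤳ s (pullback.fst s ι z)) :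
    (Module.length ((pullback s ι).presheaf.stalk z) ((pullback s ι).presheaf.stalk z)).toNat =
      AlgEqCyc.fibreMult g₀ _ (ι (genericPoint Z)) h := by
  let x := pullback.fst s ι z
  let d := pullback.snd s ι z
  let v := s x
  let K := RingHom.ker (Cyc.specMap v (ι (genericPoint Z)) h)
  let g := (g₀.stalkMap v).hom
  let J : Ideal (Cyc.LocQuot v (ι (genericPoint Z)) h) :=
    (maximalIdeal (C.presheaf.stalk (g₀ v))).map ((Ideal.Quotient.mk K).comp g)
  let Λ : P.presheaf.stalk v →+* (pullback s ι).presheaf.stalk z :=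
    ((pullback.fst s ι).stalkMap z).hom.comp (s.stalkMap x).hom
  have hsurj : Function.Surjective Λ :=
    ((pullback.fst s ι).stalkMap_surjective z).comp (s.stalkMap_surjective x)
  have hsp : ι (genericPoint Z) ⤳ ι d := ((genericPoint_spec Z).specializes trivial).map ι.continuous
  have hker : RingHom.ker Λ = J.comap (Ideal.Quotient.mk K) := by
    have h1 : RingHom.ker Λ = (RingHom.ker ((pullback.fst s ι).stalkMap z).hom).comap (s.stalkMap x).hom :=
      (RingHom.comap_ker _ _).symm
    rw [h1, GysinPb.ker_stalkMap_fst, GysinPb.baseMap, CommRingCat.hom_comp]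
    erw [← Ideal.map_map, ← AlgEqPts.ker_specMap_section ι d hsp,
      map_ker_specMap (GysinPb.apply_fst_eq s ι z) hsp h, Ideal.comap_map_of_surjective _ (s.stalkMap_surjective x)]
    rw [← RingHom.ker_eq_comap_bot, hs x]
    show _ = ((maximalIdeal _).map ((Ideal.Quotient.mk K).comp g)).comap _
    rw [← Ideal.map_map, Ideal.comap_map_of_surjective _ Ideal.Quotient.mk_surjective, ← RingHom.ker_eq_comap_bot,
      Ideal.mk_ker, sup_comm]

  letI := Λ.toAlgebra
  let O := P.presheaf.stalk v
  let L := (pullback s ι).presheaf.stalk z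
  let gl : O →ₗ[O] (O ⧸ K) ⧸ J := Algebra.linearMap O ((O ⧸ K) ⧸ J)
  have hg : Function.Surjective gl := Ideal.Quotient.mk_surjective.comp Ideal.Quotient.mk_surjective
  have hgk : LinearMap.ker gl = RingHom.ker Λ := by
    ext o
    rw [hker, LinearMap.mem_ker]
    exact Ideal.Quotient.eq_zero_iff_mem
  let e1 : (O ⧸ RingHom.ker Λ) ≃ₗ[O] (O ⧸ K) ⧸ J :=
    (Submodule.quotEquivOfEq _ _ hgk.symm).trans (gl.quotKerEquivOfSurjective hg)
  let e2 : (O ⧸ RingHom.ker Λ) ≃ₗ[O] L :=
    (Submodule.quotEquivOfEq _ _ rfl).trans ((Algebra.linearMap O L).quotKerEquivOfSurjective hsurj)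
  unfold AlgEqCyc.fibreMult
  exact congrArg ENat.toNat (((Module.length_eq_of_surjective (S := O) (R := L) (M := L) hsurj).symm.trans
    e2.length_eq.symm).trans e1.length_eq)

/-- The cycle of the slice. -/
theorem subschemeFun_eq_mult [IsAlgClosed k] [IsSeparated q₀] {Z : Scheme.{u}} [IsIntegral Z] (ι : Z ⟶ pullback p q₀)
    [IsClosedImmersion ι] (δ : X → ℤ) (x : X) (hx : δ x = 0) :
    Cyc.subschemeFun δ 0 (pullback.fst (AlgEqCyc.slice p q₀ u hu) ι) x =
      (ZCorrComp.mult p q₀ u hu (ι (genericPoint Z)) x : ℤ) := by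
  classical
  haveI := isClosedImmersion_slice p q₀ u hu
  let s := AlgEqCyc.slice p q₀ u hu
  haveI : IsClosedImmersion s := ‹_›
  show Cyc.subschemeFun δ 0 (pullback.fst s ι) x = _
  rw [Cyc.subschemeFun, if_pos hx]
  by_cases hz : ∃ z, pullback.fst s ι z = x
  · obtain ⟨z, rfl⟩ := hz
    have hset : {y | pullback.fst s ι y = pullback.fst s ι z} = ({z} : Set _) :=
      Set.eq_singleton_iff_unique_mem.2 ⟨rfl, fun y hy => (pullback.fst s ι).isClosedEmbedding.injective hy⟩
    rw [hset, finsum_mem_singleton]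
    have h : ι (genericPoint Z) ⤳ s (pullback.fst s ι z) := by
      rw [GysinPb.apply_fst_eq s ι z]
      exact ((genericPoint_spec Z).specializes trivial).map ι.continuous
    rw [ZCorrComp.mult, dif_pos h, length_eq_fibreMult (pullback.snd p q₀) s (ker_slice p q₀ u hu) ι z h]
  · have hset : {y | pullback.fst s ι y = x} = (∅ : Set _) :=
      Set.eq_empty_iff_forall_notMem.2 fun y hy => hz ⟨y, hy⟩
    rw [hset, finsum_mem_empty, ZCorrComp.mult, dif_neg]
    · rfl
    intro h
    have hmem : s x ∈ Set.range ι := by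
      refine ι.isClosedEmbedding.isClosed_range.stableUnderSpecialization h ⟨_, rfl⟩
    obtain ⟨y, hy⟩ := hmem
    obtain ⟨z, hz1, -⟩ := Scheme.Pullback.exists_preimage_pullback x y hy.symm
    exact hz ⟨z, hz1⟩

/-- The cycle of a closed subscheme does not see isomorphisms of the source. -/
theorem subschemeFun_iso_comp {E F : Scheme.{u}} (a : E ⟶ F) [IsIso a] (i : F ⟶ X) (δ : X → ℤ) (m : ℤ) :
    Cyc.subschemeFun δ m (a ≫ i) = Cyc.subschemeFun δ m i := by
  funext x
  simp only [Cyc.subschemeFun]
  split_ifs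
  · refine finsum_mem_eq_of_bijOn (fun y => a y) ⟨fun y hy => ?_, a.homeomorph.injective.injOn, fun y hy => ?_⟩
      fun y _ => ?_
    · exact hy
    · obtain ⟨e, rfl⟩ := a.homeomorph.surjective y
      exact ⟨e, hy, rfl⟩
    · have h1 : Function.Bijective (a.stalkMap y).hom := ConcreteCategory.bijective_of_isIso (a.stalkMap y)
      letI := (a.stalkMap y).hom.toAlgebra
      rw [← Module.length_eq_of_surjective (S := F.presheaf.stalk (a y)) (R := E.presheaf.stalk y)
        (M := E.presheaf.stalk y) h1.2,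
        ← (LinearEquiv.ofBijective (Algebra.linearMap (F.presheaf.stalk (a y)) (E.presheaf.stalk y)) h1).length_eq]
  · rfl

end Groth.Agent.H23.ZCorrSlice
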