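import Groth.Agent.H23.P1Proper
import Groth.Agent.H23.InterAssoc
import Groth.Agent.H23.ProjFormula
import Groth.Agent.H23.FlatShift
import Groth.Agent.H23.Isogeny

/-!
# Vertical cycles and hyperplane cuts on the projective line over a variety
-/

set_option autoImplicit false
set_option linter.style.haveILetI false
set_option backward.isDefEq.respectTransparency.types false

universe u

open AlgebraicGeometry CategoryTheory CategoryTheory.Limits IsLocalRing TopologicalSpace

namespace Groth.Agent.H23.P1Vert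

open Groth.Agent

variable {X : Scheme.{u}}

theorem toBase_sect (i : Fin (1 + 1)) (x : X) : CohB1.ProjSpaceOver.toBase 1 X (P1.sect X i x) = x := by
  rw [← Scheme.Hom.comp_apply, P1Sect.sect_toBase]
  rfl

theorem sect_ne_sect (x y : X) : P1.sect X 0 x ≠ P1.sect X 1 y := fun h =>
  P1Fam.sect_ne 0 x (h ▸ P1Sect.sect_mem X 1 y)

/-- A specialisation of a point of a section is on the section. -/
theorem eq_sect_of_specializes {i : Fin (1 + 1)} {x : X} {p : CohB1.ProjSpaceOver 1 X} (h : P1.sect X i x ⤳ p) :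
    p = P1.sect X i (CohB1.ProjSpaceOver.toBase 1 X p) := by
  obtain ⟨x', rfl⟩ := (P1.sect X i).isClosedEmbedding.isClosed_range.stableUnderSpecialization h ⟨x, rfl⟩
  rw [toBase_sect]

theorem toP1_sect {Y : Scheme.{u}} (g : X ⟶ Y) (i : Fin (1 + 1)) : P1.sect X i ≫ P1.toP1 g = g ≫ P1.sect Y i := by
  have h1 : P1.toP1 g ≫ pullback.fst _ _ = pullback.fst _ _ := (pullback.lift_fst _ _ _).trans (Category.comp_id _)
  have h2 : P1.toP1 g ≫ pullback.snd _ _ = pullback.snd _ _ ≫ g := pullback.lift_snd _ _ _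
  apply pullback.hom_ext
  · exact ((Category.assoc _ _ _).trans ((congrArg (P1.sect X i ≫ ·) h1).trans (pullback.lift_fst _ _ _))).trans
      ((congrArg (· ≫ P1.point i) (specULiftZIsTerminal.hom_ext _ (g ≫ specULiftZIsTerminal.from Y))).trans
        ((Category.assoc _ _ _).trans ((congrArg (g ≫ ·) (pullback.lift_fst _ _ _).symm).trans (Category.assoc _ _ _).symm)))
  · exact ((Category.assoc _ _ _).trans ((congrArg (P1.sect X i ≫ ·) h2).trans
      ((Category.assoc _ _ _).symm.trans ((congrArg (· ≫ g) (pullback.lift_snd _ _ _)).trans (Category.id_comp g))))).trans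
      ((Category.comp_id g).symm.trans ((congrArg (g ≫ ·) (pullback.lift_snd _ _ _).symm).trans (Category.assoc _ _ _).symm))

variable {K : Type u} [Field K] (f : X ⟶ Spec (CommRingCat.of K)) [Smooth f] [IsIntegral X] {δ : X → ℤ}
  {δP : ↥(CohB1.ProjSpaceOver 1 X) → ℤ} (hX : Cyc.IsSetup X δ) (hδ : Cyc.DeltaCompat f δ (fun _ => 0)) {n : ℤ}
  (hn : δ (genericPoint X) = n) (hP : Cyc.DeltaCompat (CohB1.ProjSpaceOver.toBase 1 X) δP δ)

include f hX hδ hn hP

/-- The fibres of the projective line are at most one-dimensional. -/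
theorem le_delta (q : CohB1.ProjSpaceOver 1 X) : δP q ≤ δ (CohB1.ProjSpaceOver.toBase 1 X q) + 1 := by
  haveI := hX.1
  haveI := P1Proper.isIntegral f
  haveI := (SetupLFT.isSetup _ hX hP).1
  obtain ⟨a, ha, ha'⟩ := PointPrime.dim_stalk f hδ hn (CohB1.ProjSpaceOver.toBase 1 X q)
  obtain ⟨b, hb, hb'⟩ := PointPrime.dim_stalk (CohB1.ProjSpaceOver.toBase 1 X ≫ f)
    (P1Proper.deltaCompat_comp f hδ hP) (P1Proper.delta_generic f hδ hP hX hn) q
  have h := Isogeny.ringKrullDim_le_of_flat ((CohB1.ProjSpaceOver.toBase 1 X).stalkMap q).hom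
    (Flat.stalkMap _ q)
  rw [ha, hb] at h
  have : a ≤ b := by exact_mod_cast h
  omega

/-- Cutting by a section drops the dimension at most by one. -/
theorem exists_cut {i : Fin (1 + 1)} {y : CohB1.ProjSpaceOver 1 X} {x : X} (h : y ⤳ P1.sect X i x) :
    ∃ q, y ⤳ q ∧ q ⤳ P1.sect X i x ∧ q ∈ Set.range (P1.sect X i) ∧ δP y ≤ δP q + 1 := by
  classical
  haveI := hX.1
  haveI := (SetupLFT.isSetup _ hX hP).1
  have hdP := (SetupLFT.isSetup _ hX hP).2.2
  obtain ⟨b, hb, hb'⟩ := PointPrime.dim_quot_prime (CohB1.ProjSpaceOver.toBase 1 X ≫ f)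
    (P1Proper.deltaCompat_comp f hδ hP) h
  let A := (CohB1.ProjSpaceOver 1 X).presheaf.stalk (P1.sect X i x)
  let t : A := (CohB1.ProjSpaceOver 1 X).presheaf.germ _ _ (P1Sect.sect_mem X i x) (P1Sect.c X i)
  let I : Ideal A := (CDiv6.primeOf h).asIdeal ⊔ Ideal.span {t}
  have ht : t ∈ maximalIdeal A := fun hu => P1Fam.sect_ne i x ((P1Sect.mem_other_iff' X i _).2 hu)
  haveI := (CDiv6.primeOf h).2
  have hdim : (b : WithBot ℕ∞) ≤ ringKrullDim (A ⧸ I) + 1 := by
    haveI : Nontrivial (A ⧸ (CDiv6.primeOf h).asIdeal) := Ideal.Quotient.nontrivial_iff.2 (CDiv6.primeOf h).2.ne_top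
    haveI : IsLocalRing (A ⧸ (CDiv6.primeOf h).asIdeal) :=
      IsLocalRing.of_surjective' (Ideal.Quotient.mk _) Ideal.Quotient.mk_surjective
    have h1 := ringKrullDim_le_ringKrullDim_quotient_add_card
      ({Ideal.Quotient.mk (CDiv6.primeOf h).asIdeal t} : Finset (A ⧸ (CDiv6.primeOf h).asIdeal)) (by
        rw [Finset.coe_singleton, Set.singleton_subset_iff, SetLike.mem_coe]
        rw [← Ideal.jacobson_bot, IsLocalRing.jacobson_eq_maximalIdeal ⊥ bot_ne_top]
        haveI := IsLocalHom.of_surjective (Ideal.Quotient.mk (CDiv6.primeOf h).asIdeal) Ideal.Quotient.mk_surjective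
        exact map_nonunit (Ideal.Quotient.mk (CDiv6.primeOf h).asIdeal) t ht)
    rw [hb, Finset.card_singleton, Nat.cast_one, Finset.coe_singleton] at h1
    refine h1.trans_eq (congrArg (· + 1) ?_)
    rw [show Ideal.span {Ideal.Quotient.mk (CDiv6.primeOf h).asIdeal t} =
      (Ideal.span {t}).map (Ideal.Quotient.mk (CDiv6.primeOf h).asIdeal) by rw [Ideal.map_span, Set.image_singleton]]
    exact ringKrullDim_eq_of_ringEquiv (DoubleQuot.quotQuotEquivQuotSup _ _)
  have hItop : I ≠ ⊤ := ne_top_of_le_ne_top (maximalIdeal.isMaximal A).ne_top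
    (sup_le (IsLocalRing.le_maximalIdeal (CDiv6.primeOf h).2.ne_top)
      (by rw [Ideal.span_le, Set.singleton_subset_iff]; exact ht))
  haveI : Nonempty (PrimeSpectrum.zeroLocus (R := A) (I : Set A)) :=
    ⟨⟨⟨maximalIdeal A, inferInstance⟩, (PrimeSpectrum.mem_zeroLocus _ _).2 (IsLocalRing.le_maximalIdeal hItop)⟩⟩
  have hlen : ((b - 1 : ℕ) : WithBot ℕ∞) ≤ Order.krullDim (PrimeSpectrum.zeroLocus (R := A) (I : Set A)) := by
    rw [← ringKrullDim_quotient]
    rcases Nat.eq_zero_or_pos b with hb0 | hb0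
    · subst hb0
      rw [ringKrullDim_quotient]
      exact_mod_cast Order.krullDim_nonneg
    · obtain ⟨c, rfl⟩ : ∃ c, b = c + 1 := ⟨b - 1, by omega⟩
      push_cast at hdim
      rw [Nat.add_sub_cancel]
      generalize ringKrullDim (A ⧸ I) = d at hdim ⊢
      induction d with
      | bot => rw [WithBot.bot_add] at hdim; exact absurd hdim (not_le.2 (WithBot.bot_lt_iff_ne_bot.2 (by exact WithBot.coe_ne_bot)))
      | coe d => cases d with
        | top => exact le_top
        | coe d =>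
          have : (c + 1 : ℕ) ≤ d + 1 := by exact_mod_cast hdim
          exact_mod_cast (by omega : c ≤ d)
  obtain ⟨s, hs⟩ := Order.le_krullDim_iff.1 hlen
  choose pt hpt hpt' using fun j => StalkPrimes.exists_point (x := P1.sect X i x) (s j).1.asIdeal
  have hmem : ∀ j, y ⤳ pt j ∧ pt j ∈ Set.range (P1.sect X i) := fun j => by
    have hle := (PrimeSpectrum.mem_zeroLocus _ _).1 (s j).2
    rw [← hpt' j] at hle
    refine ⟨(StalkPrimes.primeOf_le_iff (hpt j) h).1 fun a ha => hle (Ideal.mem_sup_left ha),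
      (P1Sect.range_sect X i).ge ⟨(hpt j).mem_open (P1Sect.V X i).2 (P1Sect.sect_mem X i x), fun hu => ?_⟩⟩
    refine (CDiv6.mem_primeOf (hpt j) t).1 (hle (Ideal.mem_sup_right (Ideal.mem_span_singleton_self t))) ?_
    rwa [TopCat.Presheaf.germ_stalkSpecializes_apply]
  have hchain : ∀ j : Fin (s.length + 1), δP (pt j) + (j : ℤ) ≤ δP (pt 0) := fun j => by
    induction j using Fin.induction with
    | zero => simp
    | succ j ih =>
      have hlt : (s j.castSucc).1.asIdeal < (s j.succ).1.asIdeal := s.step j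
      rw [← hpt' j.castSucc, ← hpt' j.succ] at hlt
      have hsp := (StalkPrimes.primeOf_le_iff (hpt j.succ) (hpt j.castSucc)).1 hlt.le
      have := CycLib.delta_lt hdP hsp fun e => hlt.not_ge
        ((StalkPrimes.primeOf_le_iff (hpt j.castSucc) (hpt j.succ)).2 (specializes_of_eq e.symm))
      simp only [Fin.val_succ, Fin.val_castSucc] at ih ⊢
      push_cast
      omega
  refine ⟨pt 0, (hmem 0).1, hpt 0, (hmem 0).2, ?_⟩
  have h1 := hchain (Fin.last _)
  have h2 := CycLib.delta_le hdP (hpt (Fin.last _))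
  simp only [Fin.val_last, hs] at h1
  omega

/-- The generic point of the line over a point. -/
theorem exists_vert (v : X) : ∃ ζ : CohB1.ProjSpaceOver 1 X, CohB1.ProjSpaceOver.toBase 1 X ζ = v ∧
    δP ζ = δ v + 1 ∧ ∀ q, v ⤳ CohB1.ProjSpaceOver.toBase 1 X q → ζ ⤳ q := by
  haveI := hX.1
  haveI := (SetupLFT.isSetup _ hX hP).1
  have hdP := (SetupLFT.isSetup _ hX hP).2.2
  haveI : IsIntegral (CohB1.ProjSpaceOver 1 (Spec (X.residueField v))) :=
    inferInstanceAs (IsIntegral (CohB1.ProjSpaceOver 1 (Spec (CommRingCat.of (X.residueField v)))))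
  let g := P1.toP1 (X.fromSpecResidueField v)
  let ζ := g (genericPoint _)
  have h := P1Conn.isPullback_toP1 (X.fromSpecResidueField v)
  have hζ : CohB1.ProjSpaceOver.toBase 1 X ζ = v := by
    show CohB1.ProjSpaceOver.toBase 1 X (g _) = v
    rw [← Scheme.Hom.comp_apply, h.w, Scheme.Hom.comp_apply]
    exact Scheme.fromSpecResidueField_apply v _
  have hfib : ∀ q, CohB1.ProjSpaceOver.toBase 1 X q = v → ζ ⤳ q := fun q hq => by
    obtain ⟨z, rfl, -⟩ := Scheme.exists_preimage_of_isPullback h q (IsLocalRing.closedPoint (X.residueField v))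
      (hq.trans (Scheme.fromSpecResidueField_apply v _).symm)
    exact (genericPoint_specializes z).map g.continuous
  refine ⟨ζ, hζ, le_antisymm (by simpa only [hζ] using le_delta f hX hδ hn hP ζ) ?_, fun q hq => ?_⟩
  · obtain ⟨j, hj⟩ : ∃ j : Fin (1 + 1), ζ ∉ Set.range (P1.sect X j) := by
      by_contra hc
      push Not at hc
      obtain ⟨⟨a, ha⟩, b, hb⟩ := hc 0, hc 1
      exact sect_ne_sect a b (ha.trans hb.symm)
    have := CycLib.delta_lt hdP (hfib _ (toBase_sect j v)) fun e => hj ⟨v, e.symm⟩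
    rw [P1Fam.delta_sect hP] at this
    omega
  · obtain ⟨q', hq', e⟩ := CycLib.exists_generization (CohB1.ProjSpaceOver.toBase 1 X) hq
    exact (hfib q' e).trans hq'

omit f hX hδ hn hP in
theorem lfPts_indicator {Z : Scheme.{u}} (z : Z) :
    CycleClassK.LFPts (Function.support (Set.indicator {z} (1 : Z → ℤ))) := fun _ =>
  ⟨⊤, trivial, (Set.finite_singleton z).subset fun _ hw => Set.support_indicator_subset hw.1⟩

/-- The pull-back of a prime cycle is a multiple of the line over it. -/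
theorem pullFun_indicator {v : X} {ζ : CohB1.ProjSpaceOver 1 X} (hζ : CohB1.ProjSpaceOver.toBase 1 X ζ = v)
    (hζd : δP ζ = δ v + 1) (hgen : ∀ q, v ⤳ CohB1.ProjSpaceOver.toBase 1 X q → ζ ⤳ q) :
    Cyc.pullFun (CohB1.ProjSpaceOver.toBase 1 X) δP δ 1 (Set.indicator {v} 1) =
      (Cyc.pullFun (CohB1.ProjSpaceOver.toBase 1 X) δP δ 1 (Set.indicator {v} 1) ζ) • Set.indicator {ζ} (1 : ↥(CohB1.ProjSpaceOver 1 X) → ℤ) := by
  classical
  funext q
  by_cases hq : q = ζ
  · subst hq
    simp
  rw [Pi.smul_apply, Set.indicator_of_notMem (fun h => hq (Set.mem_singleton_iff.1 h)), smul_zero, Cyc.pullFun]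
  split_ifs with hd
  · rw [Set.indicator_of_notMem, zero_mul]
    intro hmem
    have e := Set.mem_singleton_iff.1 hmem
    refine hq (CycLib.eq_of_delta_le (SetupLFT.isSetup _ hX hP).2.2 (hgen q (specializes_of_eq e.symm)) ?_).symm
    rw [hd, e, hζd]
  · rfl

omit f hX hδ hn hP

open Classical in
/-- The generic points of the components of a closed set are locally finite. -/
theorem lfPts_maximal {Z : Scheme.{u}} [IsLocallyNoetherian Z] {T : Set Z} (hT : IsClosed T) :
    CycleClassK.LFPts {q | q ∈ T ∧ ∀ z ∈ T, z ⤳ q → z = q} := by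
  intro z
  obtain ⟨U, hU, hzU, -⟩ := exists_isAffineOpen_mem_and_subset (x := z) (U := (⊤ : Z.Opens)) trivial
  haveI : IsNoetherianRing Γ(Z, U) := IsLocallyNoetherian.component_noetherian ⟨U, hU⟩
  haveI : TopologicalSpace.NoetherianSpace ↥U := noetherianSpace_of_isAffineOpen U hU
  obtain ⟨S, hSf, hSirr, hS⟩ := TopologicalSpace.NoetherianSpace.exists_finite_set_closeds_irreducible
    (⟨Subtype.val ⁻¹' T, hT.preimage continuous_subtype_val⟩ : TopologicalSpace.Closeds ↥U)
  lift S to Finset (TopologicalSpace.Closeds ↥U) using hSf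
  have hirr : ∀ t ∈ S, IsIrreducible (closure (Subtype.val '' (t : Set ↥U))) := fun t ht =>
    ((hSirr t ht).image _ continuous_subtype_val.continuousOn).closure
  let g : S → Z := fun t => (hirr t.1 t.2).genericPoint
  refine ⟨U, hzU, (Set.finite_range g).subset ?_⟩
  rintro y ⟨⟨hyT, hymax⟩, hyU⟩
  have hmemy : (⟨y, hyU⟩ : ↥U) ∈ (sSup ↑S : TopologicalSpace.Closeds ↥U) := by
    rw [← hS]
    exact hyT
  rw [← Finset.sup_id_eq_sSup, ← SetLike.mem_coe, TopologicalSpace.Closeds.coe_finset_sup, Finset.sup_eq_iSup,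
    Set.iSup_eq_iUnion] at hmemy
  simp only [Set.iSup_eq_iUnion, Set.mem_iUnion, Function.comp_apply, id_eq] at hmemy
  obtain ⟨t, ht, hyt⟩ := hmemy
  have hgen := (hirr t ht).isGenericPoint_genericPoint isClosed_closure
  refine ⟨⟨t, ht⟩, hymax _ (closure_minimal ?_ hT hgen.mem) (hgen.specializes (subset_closure ⟨⟨y, hyU⟩, hyt, rfl⟩))⟩
  rintro _ ⟨w, hw, rfl⟩
  exact (le_sSup (show t ∈ (↑S : Set _) from ht)).trans hS.ge hw

end Groth.Agent.H23.P1Vert
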