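import Groth.Agent.H23.GenTranslate
import Groth.Agent.VarDim.Basic
import Mathlib.RingTheory.TensorProduct.Finite
import Mathlib.Algebra.MvPolynomial.Funext

/-!
# Incidence with a generic matrix: the dimension bound
-/

set_option autoImplicit false
set_option linter.style.haveILetI false

universe u

namespace Groth.Agent.H23.MoveLine

open MvPolynomial
open scoped TensorProduct

variable {k : Type u} [Field k]

/-- For a general value of the parameters a family of small dimension has no `e` independent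
functions on its fibre. -/
theorem exists_not_algebraicIndependent {A R : Type u} [CommRing A] [Algebra k A] [Algebra.FiniteType k A]
    [CommRing R] [Algebra k R] [Algebra A R] [IsScalarTower k A R] [Module.Finite A R]
    {ρ : Type u} [Fintype ρ] {e : ℕ} (φ : ρ → R) (z : Fin e → R)
    (hdim : ringKrullDim A < ((Fintype.card ρ + e : ℕ) : WithBot ℕ∞)) :
    ∃ h : MvPolynomial ρ k, h ≠ 0 ∧ ∀ (L : Type u) [CommRing L] [Algebra k L] (ψ : R →ₐ[k] L) (g : ρ → k),
      (∀ i, ψ (φ i) = algebraMap k L (g i)) → MvPolynomial.aeval g h ≠ 0 →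
        ¬ AlgebraicIndependent k fun i => ψ (z i) := by
  classical
  let eq : Fin e ⊕ ρ ≃ Fin (Fintype.card ρ + e) :=
    (Equiv.sumComm _ _).trans ((Equiv.sumCongr (Fintype.equivFin ρ) (Equiv.refl _)).trans finSumFinEquiv)
  let v : Fin e ⊕ ρ → R := Sum.elim z φ
  obtain ⟨H, hH, hzero⟩ :=
    GenTranslate.exists_ne_zero_map_eq_zero hdim (MvPolynomial.aeval (R := k) fun i => v (eq.symm i))
  let F := MvPolynomial.rename eq.symm H
  have hF : MvPolynomial.aeval v F = 0 := by
    rw [MvPolynomial.aeval_rename]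
    exact hzero
  let G := MvPolynomial.sumAlgEquiv k (Fin e) ρ F
  have hG : G ≠ 0 := by
    simpa [G, F] using (map_ne_zero_iff _ (MvPolynomial.rename_injective _ eq.symm.injective)).2 hH
  obtain ⟨m, hm⟩ := MvPolynomial.ne_zero_iff.1 hG
  refine ⟨G.coeff m, hm, fun L _ _ ψ g hψ hne hind => ?_⟩
  let Ev : MvPolynomial (Fin e) (MvPolynomial ρ k) →ₐ[k] MvPolynomial (Fin e) k :=
    MvPolynomial.mapAlgHom (MvPolynomial.aeval g)
  have key : ((MvPolynomial.aeval fun i => ψ (z i)).comp Ev).comp
      (MvPolynomial.sumAlgEquiv k (Fin e) ρ).toAlgHom = ψ.comp (MvPolynomial.aeval v) := by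
    refine MvPolynomial.algHom_ext fun i => ?_
    rcases i with i | i
    · simp [Ev, v]
    · simp [Ev, v, hψ]
  have h0 : (MvPolynomial.aeval fun i => ψ (z i)) (Ev G) = 0 := by
    refine (AlgHom.congr_fun key F).trans ?_
    rw [AlgHom.comp_apply, hF, map_zero]
  have h1 : Ev G = 0 := hind (by rw [h0, map_zero])
  apply hne
  have h2 := congrArg (MvPolynomial.coeff m) h1
  simpa [Ev, MvPolynomial.coeff_map] using h2

/-- Finitely many non-zero polynomials are non-zero at some point with coordinates in an infinite field. -/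
theorem exists_eval_ne_zero [Infinite k] {ρ J : Type*} [Finite J] (h : J → MvPolynomial ρ k) (hh : ∀ j, h j ≠ 0) :
    ∃ g : ρ → k, ∀ j, MvPolynomial.aeval g (h j) ≠ 0 := by
  classical
  cases nonempty_fintype J
  have hp : ∏ j, h j ≠ 0 := Finset.prod_ne_zero_iff.2 fun j _ => hh j
  by_contra hne
  push Not at hne
  refine hp (MvPolynomial.funext fun g => ?_)
  obtain ⟨j, hj⟩ := hne g
  rw [map_zero, map_prod]
  exact Finset.prod_eq_zero (Finset.mem_univ j) hj

/-- Points of `A`, of `B`, and an auxiliary parameter, carried by `M = S + g` to proportional vectors: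
for general `g` at most `e - 1` independent functions. -/
theorem exists_line_bound {A B : Type u} [CommRing A] [Algebra k A] [CommRing B] [Algebra k B]
    {c d : ℕ} (a : MvPolynomial (ULift.{u} (Fin c)) k →ₐ[k] A) (ha : a.toRingHom.Finite)
    (b : MvPolynomial (ULift.{u} (Fin d)) k →ₐ[k] B) (hb : b.toRingHom.Finite)
    {U : Type u} [Fintype U] (S : MvPolynomial U k)
    {n : ℕ} (x : Fin n → A) (y : Fin n → B) (i₀ : Fin n) (hx : x i₀ = 1)
    {e : ℕ} (z : Fin e → MvPolynomial U k ⊕ Fin n) (he : c + d + Fintype.card U + 1 < n + e) :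
    ∃ h : MvPolynomial (ULift.{u} (Fin n × Fin n)) k, h ≠ 0 ∧
      ∀ (L : Type u) [CommRing L] [Algebra k L] (fA : A →ₐ[k] L) (fB : B →ₐ[k] L) (σ : U → L) (μ : L)
        (g : Fin n → Fin n → k),
        (∀ l, MvPolynomial.aeval σ S * fA (x l) + ∑ q, algebraMap k L (g l q) * fA (x q) = μ * fB (y l)) →
        MvPolynomial.aeval (fun p : ULift.{u} (Fin n × Fin n) => g p.down.1 p.down.2) h ≠ 0 →
          ¬ AlgebraicIndependent k fun i => Sum.elim (MvPolynomial.aeval σ) (fun l => fB (y l)) (z i) := by
  classical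
  let E : Type u := (U ⊕ PUnit.{u + 1}) ⊕ ULift.{u} (Fin n × {q : Fin n // q ≠ i₀})
  let R := MvPolynomial E (A ⊗[k] B)
  let Z : Type u := (ULift.{u} (Fin c) ⊕ ULift.{u} (Fin d)) ⊕ E
  let iA : A →ₐ[k] R :=
    (IsScalarTower.toAlgHom k (A ⊗[k] B) R).comp Algebra.TensorProduct.includeLeft
  let iB : B →ₐ[k] R :=
    (IsScalarTower.toAlgHom k (A ⊗[k] B) R).comp Algebra.TensorProduct.includeRight
  let base : Z → R := Sum.elim (Sum.elim (fun i => iA (a (X i))) fun i => iB (b (X i))) X
  letI : Algebra (MvPolynomial Z k) R := (MvPolynomial.aeval base).toRingHom.toAlgebra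
  haveI : IsScalarTower k (MvPolynomial Z k) R :=
    IsScalarTower.of_algebraMap_eq fun r => ((MvPolynomial.aeval base).commutes r).symm
  -- `R` is finite over the polynomial ring
  have hiA : ∀ r, IsIntegral (MvPolynomial Z k) (iA r) := fun r => by
    obtain ⟨p, hp, hr⟩ := ha.to_isIntegral r
    let ε : MvPolynomial (ULift.{u} (Fin c)) k →+* MvPolynomial Z k :=
      (MvPolynomial.rename (fun i => (Sum.inl (Sum.inl i) : Z))).toRingHom
    refine ⟨p.map ε, hp.map ε, ?_⟩
    have hε : (algebraMap (MvPolynomial Z k) R).comp ε = iA.toRingHom.comp a.toRingHom := by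
      refine MvPolynomial.ringHom_ext (fun q => ?_) fun i => ?_
      · show (MvPolynomial.aeval base) (rename _ (C q)) = iA (a (C q))
        rw [rename_C, aeval_C, MvPolynomial.algHom_C, AlgHom.commutes]
      · show (MvPolynomial.aeval base) (rename _ (X i)) = iA (a (X i))
        rw [rename_X, aeval_X]
        rfl
    rw [Polynomial.eval₂_map, hε]
    refine (Polynomial.hom_eval₂ p a.toRingHom iA.toRingHom r).symm.trans ?_
    rw [hr, map_zero]
  have hiB : ∀ r, IsIntegral (MvPolynomial Z k) (iB r) := fun r => by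
    obtain ⟨p, hp, hr⟩ := hb.to_isIntegral r
    let ε : MvPolynomial (ULift.{u} (Fin d)) k →+* MvPolynomial Z k :=
      (MvPolynomial.rename (fun i => (Sum.inl (Sum.inr i) : Z))).toRingHom
    refine ⟨p.map ε, hp.map ε, ?_⟩
    have hε : (algebraMap (MvPolynomial Z k) R).comp ε = iB.toRingHom.comp b.toRingHom := by
      refine MvPolynomial.ringHom_ext (fun q => ?_) fun i => ?_
      · show (MvPolynomial.aeval base) (rename _ (C q)) = iB (b (C q))
        rw [rename_C, aeval_C, MvPolynomial.algHom_C, AlgHom.commutes]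
      · show (MvPolynomial.aeval base) (rename _ (X i)) = iB (b (X i))
        rw [rename_X, aeval_X]
        rfl
    rw [Polynomial.eval₂_map, hε]
    refine (Polynomial.hom_eval₂ p b.toRingHom iB.toRingHom r).symm.trans ?_
    rw [hr, map_zero]
  haveI hint : Algebra.IsIntegral (MvPolynomial Z k) R := ⟨fun r => by
    induction r using MvPolynomial.induction_on with
    | C t =>
      induction t using TensorProduct.induction_on with
      | zero => rw [map_zero]; exact isIntegral_zero
      | tmul p q =>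
        have e1 : (MvPolynomial.C (p ⊗ₜ[k] q) : R) = iA p * iB q := by
          show _ = MvPolynomial.C (p ⊗ₜ[k] (1 : B)) * MvPolynomial.C ((1 : A) ⊗ₜ[k] q)
          rw [← map_mul, Algebra.TensorProduct.tmul_mul_tmul, mul_one, one_mul]
        rw [e1]
        exact (hiA p).mul (hiB q)
      | add p q hp hq => rw [map_add]; exact hp.add hq
    | add p q hp hq => exact hp.add hq
    | mul_X p i hp =>
      refine hp.mul ?_
      have : (X i : R) = algebraMap (MvPolynomial Z k) R (X (Sum.inr i)) :=
        (aeval_X base (Sum.inr i)).symm.trans rfl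
      rw [this]
      exact isIntegral_algebraMap⟩
  haveI : Algebra.FiniteType k A :=
    ⟨(RingHom.finiteType_algebraMap.1 (a.comp_algebraMap ▸
      ha.finiteType.comp (RingHom.finiteType_algebraMap.2 inferInstance))).out⟩
  haveI : Algebra.FiniteType k B :=
    ⟨(RingHom.finiteType_algebraMap.1 (b.comp_algebraMap ▸
      hb.finiteType.comp (RingHom.finiteType_algebraMap.2 inferInstance))).out⟩
  haveI : Algebra.FiniteType k (A ⊗[k] B) := Algebra.FiniteType.trans (S := A) inferInstance inferInstance
  haveI : Algebra.FiniteType k R := Algebra.FiniteType.trans (S := A ⊗[k] B) inferInstance inferInstance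
  haveI : Algebra.FiniteType (MvPolynomial Z k) R :=
    Algebra.FiniteType.of_restrictScalars_finiteType k _ _
  haveI : Module.Finite (MvPolynomial Z k) R := Algebra.IsIntegral.finite
  -- the matrix of a point
  let lam : R := X (Sum.inl (Sum.inr PUnit.unit))
  let σR : U → R := fun u => X (Sum.inl (Sum.inl u))
  let gR : Fin n → {q : Fin n // q ≠ i₀} → R := fun l q => X (Sum.inr ⟨(l, q)⟩)
  let φ : ULift.{u} (Fin n × Fin n) → R := fun p =>
    if hp : p.down.2 = i₀ then
      lam * iB (y p.down.1) - MvPolynomial.aeval σR S * iA (x p.down.1) -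
        ∑ q : {q : Fin n // q ≠ i₀}, gR p.down.1 q * iA (x q)
    else gR p.down.1 ⟨p.down.2, hp⟩
  let zR : Fin e → R := fun i => Sum.elim (MvPolynomial.aeval σR) (fun l => iB (y l)) (z i)
  have hdim : ringKrullDim (MvPolynomial Z k) <
      ((Fintype.card (ULift.{u} (Fin n × Fin n)) + e : ℕ) : WithBot ℕ∞) := by
    rw [MvPolynomial.ringKrullDim_of_isNoetherianRing, ringKrullDim_eq_zero_of_field, zero_add]
    norm_cast
    obtain ⟨m, rfl⟩ : ∃ m, n = m + 1 := ⟨n - 1, by have := i₀.isLt; omega⟩
    simp only [Z, E, Nat.card_eq_fintype_card, Fintype.card_sum, Fintype.card_ulift, Fintype.card_fin,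
      Fintype.card_prod, Fintype.card_punit, Fintype.card_subtype_compl, Fintype.card_subtype_eq]
    simp only [Nat.add_sub_cancel, Nat.mul_add, Nat.add_mul, Nat.one_mul, Nat.mul_one]
    omega
  obtain ⟨h, hh, H⟩ := exists_not_algebraicIndependent (k := k) (A := MvPolynomial Z k) φ zR hdim
  refine ⟨h, hh, fun L _ _ fA fB σ μ g hrel hne => ?_⟩
  let ψ0 : A ⊗[k] B →ₐ[k] L := Algebra.TensorProduct.lift fA fB fun _ _ => Commute.all _ _
  let vE : E → L := Sum.elim (Sum.elim σ fun _ => μ) fun p => algebraMap k L (g p.down.1 p.down.2)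
  let ψ : R →ₐ[k] L :=
    { MvPolynomial.eval₂Hom ψ0.toRingHom vE with
      commutes' := fun r => by
        show MvPolynomial.eval₂Hom ψ0.toRingHom vE (algebraMap k R r) = _
        rw [IsScalarTower.algebraMap_apply k (A ⊗[k] B) R, MvPolynomial.algebraMap_eq,
          MvPolynomial.eval₂Hom_C]
        exact ψ0.commutes r }
  have hA : ∀ r, ψ (iA r) = fA r := fun r => by
    show MvPolynomial.eval₂Hom ψ0.toRingHom vE (MvPolynomial.C (r ⊗ₜ[k] (1 : B))) = _
    rw [MvPolynomial.eval₂Hom_C]
    simp [ψ0]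
  have hB : ∀ r, ψ (iB r) = fB r := fun r => by
    show MvPolynomial.eval₂Hom ψ0.toRingHom vE (MvPolynomial.C ((1 : A) ⊗ₜ[k] r)) = _
    rw [MvPolynomial.eval₂Hom_C]
    simp [ψ0]
  have hX : ∀ i, ψ (X i) = vE i := fun i => MvPolynomial.eval₂Hom_X' _ _ _
  have hS : ∀ P, ψ (MvPolynomial.aeval σR P) = MvPolynomial.aeval σ P := fun P => by
    rw [← AlgHom.comp_apply, MvPolynomial.comp_aeval]
    exact congrArg (fun v => MvPolynomial.aeval v P) (funext fun u => hX _)
  have hφ : ∀ p, ψ (φ p) = algebraMap k L (g p.down.1 p.down.2) := by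
    intro p
    by_cases hp : p.down.2 = i₀
    · simp only [φ, dif_pos hp, map_sub, map_mul, map_sum, hA, hB, hS, lam, gR, hX, vE, Sum.elim_inl,
        Sum.elim_inr]
      have := hrel p.down.1
      rw [Fintype.sum_eq_add_sum_subtype_ne (a := i₀), hx, map_one, mul_one] at this
      rw [hp]
      linear_combination (-this)
    · simp only [φ, dif_neg hp, gR, hX, vE, Sum.elim_inr]
  have := H L ψ (fun p => g p.down.1 p.down.2) hφ hne
  convert this using 2
  funext i
  rcases hz : z i with P | l
  · simp only [zR, hz, Sum.elim_inl, hS]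
  · simp only [zR, hz, Sum.elim_inr, hB]

end Groth.Agent.H23.MoveLine
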