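import Groth.Agent.H23.PnChart
import Groth.Agent.H23.P1Proper
import Groth.Agent.H23.PointPrime
import Groth.Agent.ProjPt.Poly
import Groth.Prelude.Def_P1

/-!
# Charts and field valued points of `P^N × P^1`
-/

set_option autoImplicit false
set_option linter.style.haveILetI false
set_option backward.isDefEq.respectTransparency false
set_option backward.isDefEq.respectTransparency.types false

universe u

open CategoryTheory CategoryTheory.Limits AlgebraicGeometry
open HomogeneousLocalization (Away)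

noncomputable section

namespace Groth.Agent.H23.MoveLine

open Groth.Agent.ZetaLib

variable (N : ℕ) (K : Type u) [Field K]

local notation "PP" => CohB1.ProjSpace N K
local notation "𝒢" => CohB1.polyGrading N K

/-- The ring of a chart of `P^N`. -/
abbrev Pj (j : Fin (N + 1)) : Type u := MvPolynomial (PnChart.Idx N j) K

/-- The chart ring map. -/
def theta (j : Fin (N + 1)) : Away 𝒢 (MvPolynomial.X j) →+* Pj N K j :=
  (RingEquiv.ofBijective (PnChart.fromChart N K j)
    ⟨PnChart.fromChart_injective N K j, PnChart.fromChart_surjective N K j⟩).symm.toRingHom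

theorem theta_mk (j : Fin (N + 1)) (m : ℕ) (f : MvPolynomial (Fin (N + 1)) K) (hf : f ∈ 𝒢 (m • 1)) :
    theta N K j (Away.mk 𝒢 (X_mem_one N K j) m f hf) = PnChart.dh N K j f := by
  rw [theta, RingEquiv.toRingHom_eq_coe, RingEquiv.coe_toRingHom, RingEquiv.symm_apply_eq]
  refine HomogeneousLocalization.val_injective _ ?_
  have h : (PnChart.fromChart N K j).comp (PnChart.dh N K j) = dehom N K j := by
    apply MvPolynomial.ringHom_ext
    · intro c
      simp [PnChart.fromChart, PnChart.dh, dehom]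
    · intro l
      by_cases hl : l = j
      · subst hl; simp [PnChart.fromChart, PnChart.dh, dehom, PnChart.coord_self]
      · simp [PnChart.fromChart, PnChart.dh, dehom, hl]
  show _ = (PnChart.fromChart N K j (PnChart.dh N K j f)).val
  rw [← RingHom.comp_apply, h]
  have hu : IsUnit (algebraMap (MvPolynomial (Fin (N + 1)) K)
      (Localization (Submonoid.powers (MvPolynomial.X j : MvPolynomial (Fin (N + 1)) K))) (MvPolynomial.X j) ^ m) :=
    (IsLocalization.map_units _ (⟨MvPolynomial.X j, 1, pow_one _⟩ :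
      Submonoid.powers (MvPolynomial.X j : MvPolynomial (Fin (N + 1)) K))).pow m
  refine hu.mul_left_injective ?_
  show _ * _ = _ * _
  have hh : f.IsHomogeneous m := by
    have := (MvPolynomial.mem_homogeneousSubmodule _ _).1 hf
    rwa [smul_eq_mul, mul_one] at this
  rw [val_dehom_mul N K j hh]
  rw [Away.val_mk, ← Localization.mk_one_eq_algebraMap, ← Localization.mk_one_eq_algebraMap,
    Localization.mk_pow, Localization.mk_mul, Localization.mk_eq_mk_iff, Localization.r_iff_exists]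
  exact ⟨1, by simp [mul_comm]⟩

/-- The chart of `P^N`. -/
def pj (j : Fin (N + 1)) : Spec (CommRingCat.of (Pj N K j)) ⟶ PP :=
  Spec.map (CommRingCat.ofHom (theta N K j)) ≫ chart N K j

theorem theta_bijective (j : Fin (N + 1)) : Function.Bijective (theta N K j) := RingEquiv.bijective _

instance isOpenImmersion_pj (j : Fin (N + 1)) : IsOpenImmersion (pj N K j) := by
  have : IsIso (CommRingCat.ofHom (theta N K j)) :=
    (ConcreteCategory.isIso_iff_bijective _).2 (theta_bijective N K j)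
  unfold pj
  infer_instance

theorem opensRange_pj (j : Fin (N + 1)) :
    (pj N K j).opensRange = Proj.basicOpen 𝒢 (MvPolynomial.X j) := by
  have : IsIso (CommRingCat.ofHom (theta N K j)) :=
    (ConcreteCategory.isIso_iff_bijective _).2 (theta_bijective N K j)
  exact (Scheme.Hom.opensRange_comp_of_isIso (Spec.map (CommRingCat.ofHom (theta N K j))) (chart N K j)).trans
    (Proj.opensRange_awayι _ _ _ _)

theorem exists_pj (x : PP) : ∃ (j : Fin (N + 1)) (p : Spec (CommRingCat.of (Pj N K j))), pj N K j p = x := by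
  obtain ⟨j, hj⟩ := exists_mem_chart (n := N) (k := K) x
  exact ⟨j, (opensRange_pj N K j).ge ((mem_range_chart j x).1 hj)⟩

theorem pj_toSpec (j : Fin (N + 1)) :
    pj N K j ≫ CohB1.ProjSpace.toSpec N K = Spec.map (CommRingCat.ofHom (algebraMap K (Pj N K j))) := by
  have he : CommRingCat.ofHom (base N K j) ≫ CommRingCat.ofHom (theta N K j) =
      CommRingCat.ofHom (algebraMap K (Pj N K j)) := by
    refine CommRingCat.hom_ext (RingHom.ext fun c => ?_)
    show theta N K j (base N K j c) = MvPolynomial.C c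
    rw [theta, RingEquiv.toRingHom_eq_coe, RingEquiv.coe_toRingHom, RingEquiv.symm_apply_eq]
    show _ = PnChart.fromChart N K j (MvPolynomial.C c)
    rw [PnChart.fromChart, MvPolynomial.eval₂Hom_C]
  rw [pj, Category.assoc, chart_toSpec, ← Spec.map_comp, he]

variable {N K}

/-- A point of a chart: the homogeneous polynomials vanishing there are those whose dehomogenisation does. -/
theorem mem_pj_iff (j : Fin (N + 1)) (p : Spec (CommRingCat.of (Pj N K j))) {f : MvPolynomial (Fin (N + 1)) K}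
    {d : ℕ} (hf : f.IsHomogeneous d) (hd : 0 < d) :
    pj N K j p ∈ Proj.basicOpen 𝒢 f ↔ PnChart.dh N K j f ∉ p.asIdeal := by
  have hf' : f ∈ 𝒢 d := (MvPolynomial.mem_homogeneousSubmodule _ _).2 hf
  have h := Proj.awayι_preimage_basicOpen 𝒢 (X_mem_one N K j) one_pos hf' hd
  have h' : Spec.map (CommRingCat.ofHom (theta N K j)) p ∈
      (Proj.awayι 𝒢 (MvPolynomial.X j) (X_mem_one N K j) one_pos) ⁻¹ᵁ Proj.basicOpen 𝒢 f ↔ _ :=
    (SetLike.ext_iff.1 h _)
  refine h'.trans ?_
  show HomogeneousLocalization.Away.isLocalizationElem (X_mem_one N K j) hf' ∉ Ideal.comap (theta N K j) p.asIdeal ↔ _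
  rw [Ideal.mem_comap, HomogeneousLocalization.Away.isLocalizationElem, theta_mk]
  simp only [pow_one]

section Points

variable {L : Type u} [Field L] [Algebra K L]

/-- Evaluation at normalised coordinates. -/
def evj (j : Fin (N + 1)) (v : Fin (N + 1) → L) : Pj N K j →ₐ[K] L :=
  MvPolynomial.aeval fun l => v l.down.1 / v j

theorem evj_dh (j : Fin (N + 1)) (v : Fin (N + 1) → L) (hv : v j ≠ 0) {f : MvPolynomial (Fin (N + 1)) K} {d : ℕ}
    (hf : f.IsHomogeneous d) : evj j v (PnChart.dh N K j f) * v j ^ d = MvPolynomial.aeval v f := by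
  have h1 : evj j v (PnChart.dh N K j f) = MvPolynomial.aeval (fun l => (v j)⁻¹ * v l) f := by
    show evj j v ((MvPolynomial.aeval _ : MvPolynomial (Fin (N + 1)) K →ₐ[K] Pj N K j) f) = _
    rw [← AlgHom.comp_apply, MvPolynomial.comp_aeval]
    refine congrArg (fun w => MvPolynomial.aeval w f) (funext fun l => ?_)
    by_cases hl : l = j
    · subst hl; simp [evj, inv_mul_cancel₀ hv]
    · simp [evj, hl, div_eq_inv_mul]
  rw [h1]
  show MvPolynomial.eval₂Hom (algebraMap K L) (fun l => (v j)⁻¹ * v l) f * _ =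
    MvPolynomial.eval₂Hom (algebraMap K L) v f
  rw [ProjPt.eval₂Hom_scale _ v _ _ (fun _ => rfl) hf, mul_comm, ← mul_assoc, ← mul_pow, mul_inv_cancel₀ hv, one_pow, one_mul]

/-- The point with coordinates `v`, read in a chart. -/
def pnt (j : Fin (N + 1)) (v : Fin (N + 1) → L) : Spec (CommRingCat.of L) ⟶ PP :=
  Spec.map (CommRingCat.ofHom (evj (K := K) j v).toRingHom) ≫ pj N K j

/-- Vanishing at the point. -/
theorem mem_pnt_iff (j : Fin (N + 1)) (v : Fin (N + 1) → L) (hv : v j ≠ 0)
    {f : MvPolynomial (Fin (N + 1)) K} {d : ℕ} (hf : f.IsHomogeneous d) (hd : 0 < d)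
    (z : Spec (CommRingCat.of L)) :
    pnt j v z ∈ Proj.basicOpen 𝒢 f ↔ MvPolynomial.aeval v f ≠ 0 := by
  refine (mem_pj_iff j _ hf hd).trans ?_
  show evj j v (PnChart.dh N K j f) ∉ z.asIdeal ↔ _
  rw [show z.asIdeal = ⊥ from (Ideal.eq_bot_or_top _).resolve_right z.2.ne_top, Ideal.mem_bot, ← evj_dh j v hv hf]
  simp [hv]

/-- The point does not depend on the chart. -/
theorem pnt_indep (i j : Fin (N + 1)) (v : Fin (N + 1) → L) (hi : v i ≠ 0) (hj : v j ≠ 0) :
    pnt (K := K) i v = pnt j v := by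
  let W := Spec (CommRingCat.of L)
  let f : MvPolynomial (Fin (N + 1)) K →+* Γ(W, ⊤) :=
    (Scheme.ΓSpecIso (CommRingCat.of L)).inv.hom.comp (MvPolynomial.aeval v).toRingHom
  have hu : ∀ l, v l ≠ 0 → IsUnit (f (MvPolynomial.X l)) := fun l hl =>
    (Ne.isUnit (by simpa using hl) : IsUnit (MvPolynomial.aeval v (MvPolynomial.X l : MvPolynomial (Fin (N + 1)) K))).map
      (Scheme.ΓSpecIso (CommRingCat.of L)).inv.hom
  have key : ∀ l (hl : v l ≠ 0), pnt (K := K) l v =
      ProjPt.pt 𝒢 f (X_mem_one N K l) one_pos (hu l hl) := by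
    intro l hl
    have hu' : IsUnit ((MvPolynomial.aeval v).toRingHom (MvPolynomial.X l : MvPolynomial (Fin (N + 1)) K)) :=
      Ne.isUnit (by simpa using hl)
    have e1 : ((evj (K := K) l v).toRingHom).comp (theta N K l) = ProjPt.coordHom 𝒢 (MvPolynomial.aeval v).toRingHom hu' := by
      refine RingHom.ext fun a => ?_
      obtain ⟨m, g, hg, rfl⟩ := HomogeneousLocalization.Away.mk_surjective 𝒢 (X_mem_one N K l) a
      refine ((ProjPt.coordHom_mk_eq_iff 𝒢 _ hu' (X_mem_one N K l) m g hg _).2 ?_).symm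
      rw [RingHom.comp_apply, theta_mk]
      have hh : g.IsHomogeneous m := by
        have := (MvPolynomial.mem_homogeneousSubmodule _ _).1 hg
        rwa [smul_eq_mul, mul_one] at this
      show evj l v (PnChart.dh N K l g) * (MvPolynomial.aeval v (MvPolynomial.X l)) ^ m = MvPolynomial.aeval v g
      rw [MvPolynomial.aeval_X]
      exact evj_dh l v hl hh
    have e2 : ProjPt.coordHom 𝒢 f (hu l hl) =
        (Scheme.ΓSpecIso (CommRingCat.of L)).inv.hom.comp (ProjPt.coordHom 𝒢 (MvPolynomial.aeval v).toRingHom hu') :=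
      (ProjPt.comp_coordHom 𝒢 _ _ hu').symm
    rw [ProjPt.pt, e2, CommRingCat.ofHom_comp, Spec.map_comp, Category.assoc, ← e1, CommRingCat.ofHom_comp,
      Spec.map_comp, Category.assoc, CommRingCat.ofHom_hom, toSpecΓ_SpecMap_ΓSpecIso_inv_assoc]
    rfl
  rw [key i hi, key j hj]
  exact ProjPt.pt_indep 𝒢 f _ _ _ _ _ _

/-- Evaluation in a chart of the line. -/
def evp1 (e : Fin (1 + 1)) (w : Fin (1 + 1) → L) : Polynomial P1.R0.{u} →+* L :=
  Polynomial.eval₂RingHom (P1Charts.up L) (w (1 - e) / w e)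

theorem chartZ_indep (e e' : Fin (1 + 1)) (w : Fin (1 + 1) → L) (he : w e ≠ 0) (he' : w e' ≠ 0) :
    Spec.map (CommRingCat.ofHom (evp1 e w)) ≫ P1Charts.chartZ e =
      Spec.map (CommRingCat.ofHom (evp1 e' w)) ≫ P1Charts.chartZ e' := by
  let W := Spec (CommRingCat.of L)
  let f0 : MvPolynomial (Fin (1 + 1)) P1.R0.{u} →+* L := MvPolynomial.eval₂Hom (P1Charts.up L) w
  let f : MvPolynomial (Fin (1 + 1)) P1.R0.{u} →+* Γ(W, ⊤) :=
    (Scheme.ΓSpecIso (CommRingCat.of L)).inv.hom.comp f0
  have hu : ∀ l, w l ≠ 0 → IsUnit (f (P1.T l)) := fun l hl =>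
    (Ne.isUnit (by simpa [f0] using hl) : IsUnit (f0 (P1.T l))).map (Scheme.ΓSpecIso (CommRingCat.of L)).inv.hom
  have key : ∀ l (hl : w l ≠ 0), Spec.map (CommRingCat.ofHom (evp1 l w)) ≫ P1Charts.chartZ l =
      ProjPt.pt P1.grading f (P1.X_mem l) one_pos (hu l hl) := by
    intro l hl
    have hu' : IsUnit (f0 (P1.T l)) := Ne.isUnit (by simpa [f0] using hl)
    have e1 : (evp1 l w).comp (P1Charts.θ l) = ProjPt.coordHom P1.grading f0 hu' := by
      refine RingHom.ext fun a => ?_
      obtain ⟨m, g, hg, rfl⟩ := HomogeneousLocalization.Away.mk_surjective P1.grading (P1.X_mem l) a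
      refine ((ProjPt.coordHom_mk_eq_iff P1.grading _ hu' (P1.X_mem l) m g hg _).2 ?_).symm
      rw [RingHom.comp_apply, P1Charts.θ_mk]
      have hh : g.IsHomogeneous m := by
        have := (MvPolynomial.mem_homogeneousSubmodule _ _).1 hg
        rwa [smul_eq_mul, mul_one] at this
      have h2 : (evp1 l w).comp (P1Charts.ev l) =
          MvPolynomial.eval₂Hom (P1Charts.up L) fun i => (w l)⁻¹ * w i := by
        refine MvPolynomial.ringHom_ext (fun c => ?_) fun i => ?_
        · simp [evp1, P1Charts.ev]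
        · fin_cases l <;> fin_cases i <;> simp_all [evp1, P1Charts.ev, div_eq_inv_mul]
      rw [← RingHom.comp_apply, h2, ProjPt.eval₂Hom_scale _ w _ _ (fun _ => rfl) hh]
      show _ = f0 g
      simp only [f0, MvPolynomial.eval₂Hom_X']
      rw [mul_comm, ← mul_assoc, ← mul_pow, mul_inv_cancel₀ hl, one_pow, one_mul]
    have e2 : ProjPt.coordHom P1.grading f (hu l hl) =
        (Scheme.ΓSpecIso (CommRingCat.of L)).inv.hom.comp (ProjPt.coordHom P1.grading f0 hu') :=
      (ProjPt.comp_coordHom P1.grading _ _ hu').symm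
    rw [ProjPt.pt, e2, CommRingCat.ofHom_comp, Spec.map_comp, Category.assoc, ← e1, CommRingCat.ofHom_comp,
      Spec.map_comp, Category.assoc, CommRingCat.ofHom_hom, toSpecΓ_SpecMap_ΓSpecIso_inv_assoc]
    rfl
  rw [key e he, key e' he']
  exact ProjPt.pt_indep P1.grading f _ _ _ _ _ _

end Points

section Product

variable (N K)

/-- `P^N × P^1`. -/
abbrev PP1 : Scheme.{u} := CohB1.ProjSpaceOver 1 (CohB1.ProjSpace N K)

/-- The charts of `P^N × P^1`. -/
def cje (j : Fin (N + 1)) (e : Fin (1 + 1)) : Spec (CommRingCat.of (Polynomial (Pj N K j))) ⟶ PP1 N K :=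
  P1Charts.chart (Pj N K j) e ≫ P1.toP1 (pj N K j)

theorem cje_toBase (j : Fin (N + 1)) (e : Fin (1 + 1)) :
    cje N K j e ≫ CohB1.ProjSpaceOver.toBase 1 PP = Spec.map (CommRingCat.ofHom Polynomial.C) ≫ pj N K j := by
  show (P1Charts.chart _ e ≫ P1.toP1 (pj N K j)) ≫ pullback.snd _ _ = _
  rw [Category.assoc, P1.toP1, pullback.lift_snd]
  show P1Charts.chart _ e ≫ CohB1.ProjSpaceOver.toBase 1 _ ≫ pj N K j = _
  rw [← Category.assoc, P1Charts.chart_toBase]

theorem cje_fst (j : Fin (N + 1)) (e : Fin (1 + 1)) :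
    cje N K j e ≫ pullback.fst _ _ =
      Spec.map (CommRingCat.ofHom (P1Charts.upX (Pj N K j))) ≫ P1Charts.chartZ e := by
  show (P1Charts.chart _ e ≫ P1.toP1 (pj N K j)) ≫ pullback.fst _ _ = _
  rw [Category.assoc, P1.toP1, pullback.lift_fst, Category.comp_id]
  exact P1Charts.chart_fst _ e

theorem isPullback_toP1 {X Y : Scheme.{u}} (g : X ⟶ Y) :
    IsPullback (P1.toP1 g) (CohB1.ProjSpaceOver.toBase 1 X) (CohB1.ProjSpaceOver.toBase 1 Y) g := by
  refine IsPullback.of_right ?_ (pullback.lift_snd _ _ _) (IsPullback.of_hasPullback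
    (CohB1.ProjSpace.toSpec 1 (ULift.{u} ℤ)) (specULiftZIsTerminal.from Y))
  rw [P1.toP1, pullback.lift_fst, Category.comp_id, specULiftZIsTerminal.hom_ext
    (g ≫ specULiftZIsTerminal.from Y) (specULiftZIsTerminal.from X)]
  exact IsPullback.of_hasPullback _ _

instance isOpenImmersion_cje (j : Fin (N + 1)) (e : Fin (1 + 1)) : IsOpenImmersion (cje N K j e) := by
  haveI : IsOpenImmersion (P1.toP1 (pj N K j)) :=
    MorphismProperty.of_isPullback (P := @IsOpenImmersion) (isPullback_toP1 (pj N K j)).flip inferInstance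
  unfold cje
  infer_instance

theorem exists_cje_of_mem (z : PP1 N K) (j : Fin (N + 1))
    (hz : CohB1.ProjSpaceOver.toBase 1 PP z ∈ (pj N K j).opensRange) :
    ∃ (e : Fin (1 + 1)) (q : Spec (CommRingCat.of (Polynomial (Pj N K j)))), cje N K j e q = z := by
  obtain ⟨p, hp⟩ := hz
  obtain ⟨t, ht, -⟩ := Scheme.Pullback.exists_preimage_pullback
    (f := CohB1.ProjSpaceOver.toBase 1 PP) (g := pj N K j) z p hp.symm
  obtain ⟨e, q, hq⟩ := P1Charts.exists_chart _ ((isPullback_toP1 (pj N K j)).isoPullback.inv t)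
  refine ⟨e, q, ?_⟩
  rw [cje, Scheme.Hom.comp_apply, hq, ← Scheme.Hom.comp_apply, IsPullback.isoPullback_inv_fst]
  exact ht

/-- A chart at `0` exists at the points of the zero section. -/
theorem exists_cje (z : PP1 N K) : ∃ (j : Fin (N + 1)) (e : Fin (1 + 1))
    (q : Spec (CommRingCat.of (Polynomial (Pj N K j)))), cje N K j e q = z := by
  obtain ⟨j, p, hp⟩ := exists_pj N K (CohB1.ProjSpaceOver.toBase 1 PP z)
  exact ⟨j, exists_cje_of_mem N K z j ⟨p, hp⟩⟩

variable {N K} {L : Type u} [Field L] [Algebra K L]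

/-- The point with coordinates `v`, `w`, read in a chart. -/
def pnt1 (j : Fin (N + 1)) (e : Fin (1 + 1)) (v : Fin (N + 1) → L) (w : Fin (1 + 1) → L) :
    Spec (CommRingCat.of L) ⟶ PP1 N K :=
  Spec.map (CommRingCat.ofHom (Polynomial.eval₂RingHom (evj (K := K) j v).toRingHom (w (1 - e) / w e))) ≫
    cje N K j e

theorem pnt1_toBase (j : Fin (N + 1)) (e : Fin (1 + 1)) (v : Fin (N + 1) → L) (w : Fin (1 + 1) → L) :
    pnt1 (K := K) j e v w ≫ CohB1.ProjSpaceOver.toBase 1 PP = pnt j v := by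
  rw [pnt1, Category.assoc, cje_toBase, ← Spec.map_comp_assoc, ← CommRingCat.ofHom_comp, pnt]
  congr
  exact RingHom.ext fun a => Polynomial.eval₂_C _ _

/-- The point does not depend on the charts. -/
theorem pnt1_indep (i j : Fin (N + 1)) (e e' : Fin (1 + 1)) (v : Fin (N + 1) → L) (w : Fin (1 + 1) → L)
    (hi : v i ≠ 0) (hj : v j ≠ 0) (he : w e ≠ 0) (he' : w e' ≠ 0) :
    pnt1 (K := K) i e v w = pnt1 j e' v w := by
  refine pullback.hom_ext ?_ ?_
  · have key : ∀ l (ε : Fin (1 + 1)), pnt1 (K := K) l ε v w ≫ pullback.fst _ _ =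
        Spec.map (CommRingCat.ofHom (evp1 ε w)) ≫ P1Charts.chartZ ε := by
      intro l ε
      rw [pnt1, Category.assoc, cje_fst, ← Spec.map_comp_assoc, ← CommRingCat.ofHom_comp]
      congr
      refine Polynomial.ringHom_ext (fun c => ?_) ?_
      · obtain ⟨c⟩ := c
        show (Polynomial.eval₂RingHom (evj (K := K) l v).toRingHom (w (1 - ε) / w ε))
            (P1Charts.upX (Pj N K l) (Polynomial.C ⟨c⟩)) = evp1 ε w (Polynomial.C ⟨c⟩)
        simp only [evp1, P1Charts.upX, Polynomial.coe_mapRingHom, Polynomial.map_C, Polynomial.coe_eval₂RingHom,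
          Polynomial.eval₂_C, RingHom.comp_apply]
        exact map_intCast _ _
      · simp [evp1, P1Charts.upX]
    rw [key, key]
    exact chartZ_indep e e' w he he'
  · show pnt1 (K := K) i e v w ≫ CohB1.ProjSpaceOver.toBase 1 PP = pnt1 j e' v w ≫ CohB1.ProjSpaceOver.toBase 1 PP
    rw [pnt1_toBase, pnt1_toBase, pnt_indep i j v hi hj]

end Product

/-- A dimension function over a field at a point of an affine open. -/
theorem delta_eq_dim {X : Scheme.{u}} (f : X ⟶ Spec (CommRingCat.of K)) [LocallyOfFiniteType f] {δ : X → ℤ}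
    (hδ : Cyc.DeltaCompat f δ (fun _ => 0)) {R : Type u} [CommRing R] [Algebra K R]
    (j : Spec (CommRingCat.of R) ⟶ X) [IsOpenImmersion j]
    (hj : j ≫ f = Spec.map (CommRingCat.ofHom (algebraMap K R))) (p : Spec (CommRingCat.of R)) :
    ∃ b : ℕ, ringKrullDim (R ⧸ p.asIdeal) = b ∧ δ (j p) = b := by
  haveI : LocallyOfFiniteType (j ≫ f) := inferInstance
  refine ⟨VarDim.deg (j ≫ f) p, ?_, ?_⟩
  · refine Eq.trans ?_ (VarDim.topologicalKrullDim_closure_singleton (j ≫ f) p)
    let q : Spec (CommRingCat.of (R ⧸ p.asIdeal)) ⟶ Spec (CommRingCat.of R) :=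
      Spec.map (CommRingCat.ofHom (Ideal.Quotient.mk p.asIdeal))
    have hcl : Topology.IsClosedEmbedding (PrimeSpectrum.comap (Ideal.Quotient.mk p.asIdeal)) :=
      PrimeSpectrum.isClosedEmbedding_comap_of_surjective _ _ Ideal.Quotient.mk_surjective
    have hr : Set.range (PrimeSpectrum.comap (Ideal.Quotient.mk p.asIdeal)) = closure ({p} : Set (PrimeSpectrum R)) := by
      rw [range_comap_of_surjective _ _ Ideal.Quotient.mk_surjective, Ideal.mk_ker,
        PrimeSpectrum.closure_singleton]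
    rw [← PrimeSpectrum.topologicalKrullDim_eq_ringKrullDim]
    exact IsHomeomorph.topologicalKrullDim_eq _ ((hcl.isEmbedding.toHomeomorph.trans (Homeomorph.setCongr hr)).isHomeomorph)
  · rw [PointPrime.deg_eq f hδ (j p)]
    have h := VarDim.deg_comp_eq j f p
    have h0 : VarDim.fdeg j p = 0 := by rw [VarDim.fdeg, VarDim.rdeg_preimmersion, map_zero]
    omega

theorem delta_pj {δP : PP → ℤ} (hδP : Cyc.DeltaCompat (CohB1.ProjSpace.toSpec N K) δP (fun _ => 0))
    [LocallyOfFiniteType (CohB1.ProjSpace.toSpec N K)] (j : Fin (N + 1)) (p : Spec (CommRingCat.of (Pj N K j))) :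
    ∃ b : ℕ, ringKrullDim (Pj N K j ⧸ p.asIdeal) = b ∧ δP (pj N K j p) = b :=
  delta_eq_dim _ hδP (pj N K j) (pj_toSpec N K j) p

theorem cje_toSpec (j : Fin (N + 1)) (e : Fin (1 + 1)) :
    cje N K j e ≫ CohB1.ProjSpaceOver.toBase 1 PP ≫ CohB1.ProjSpace.toSpec N K =
      Spec.map (CommRingCat.ofHom (algebraMap K (Polynomial (Pj N K j)))) := by
  rw [← Category.assoc, cje_toBase, Category.assoc, pj_toSpec, ← Spec.map_comp]
  rfl

theorem delta_cje {δP : PP → ℤ} (hδP : Cyc.DeltaCompat (CohB1.ProjSpace.toSpec N K) δP (fun _ => 0))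
    {δ' : PP1 N K → ℤ} (hδ' : Cyc.DeltaCompat (CohB1.ProjSpaceOver.toBase 1 PP) δ' δP)
    [LocallyOfFiniteType (CohB1.ProjSpace.toSpec N K)] (j : Fin (N + 1)) (e : Fin (1 + 1))
    (q : Spec (CommRingCat.of (Polynomial (Pj N K j)))) :
    ∃ b : ℕ, ringKrullDim (Polynomial (Pj N K j) ⧸ q.asIdeal) = b ∧ δ' (cje N K j e q) = b :=
  delta_eq_dim _ (P1Proper.deltaCompat_comp (CohB1.ProjSpace.toSpec N K) hδP hδ') (cje N K j e) (cje_toSpec j e) q

end Groth.Agent.H23.MoveLine
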