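import Groth.Agent.H23.MoveLineChart
import Mathlib.LinearAlgebra.Matrix.Adjugate
import Mathlib.RingTheory.Valuation.LocalSubring

/-!
# The moved family of a point along a line of matrices
-/

set_option autoImplicit false
set_option linter.style.haveILetI false
set_option linter.unusedSectionVars false
set_option backward.isDefEq.respectTransparency false
set_option backward.isDefEq.respectTransparency.types false

universe u

open CategoryTheory CategoryTheory.Limits AlgebraicGeometry
open MvPolynomial (aeval IsHomogeneous)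

noncomputable section

namespace Groth.Agent.H23.MoveLine

variable {N : ℕ} {K : Type u} [Field K]

local notation "PP" => CohB1.ProjSpace N K
local notation "Pol" => MvPolynomial (Fin (N + 1)) K

/-- Every element of a chart ring is the dehomogenisation of a form. -/
theorem exists_dh (j : Fin (N + 1)) (p : Pj N K j) :
    ∃ (n : ℕ) (f : Pol), f.IsHomogeneous n ∧ PnChart.dh N K j f = p := by
  obtain ⟨z, rfl⟩ := (theta_bijective N K j).2 p
  obtain ⟨m, f, hf, rfl⟩ := HomogeneousLocalization.Away.mk_surjective (CohB1.polyGrading N K) (ZetaLib.X_mem_one N K j) z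
  refine ⟨m, f, ?_, (theta_mk N K j m f hf).symm⟩
  have := (MvPolynomial.mem_homogeneousSubmodule _ _).1 hf
  rwa [smul_eq_mul, mul_one] at this

theorem dh_X_self (j : Fin (N + 1)) : PnChart.dh N K j (MvPolynomial.X j) = 1 := by simp [PnChart.dh]

/-- Dehomogenisation is injective in each degree. -/
theorem dh_injective (j : Fin (N + 1)) {n : ℕ} {f f' : Pol} (hf : f.IsHomogeneous n) (hf' : f'.IsHomogeneous n)
    (h : (PnChart.dh N K j f : Pj N K j) = PnChart.dh N K j f') : f = f' := by
  have hm : f ∈ CohB1.polyGrading N K (n • 1) := by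
    rw [smul_eq_mul, mul_one]; exact (MvPolynomial.mem_homogeneousSubmodule _ _).2 hf
  have hm' : f' ∈ CohB1.polyGrading N K (n • 1) := by
    rw [smul_eq_mul, mul_one]; exact (MvPolynomial.mem_homogeneousSubmodule _ _).2 hf'
  have h' := congrArg HomogeneousLocalization.val ((theta_bijective N K j).1
    ((theta_mk N K j n f hm).trans (h.trans (theta_mk N K j n f' hm').symm)))
  rw [HomogeneousLocalization.Away.val_mk, HomogeneousLocalization.Away.val_mk, Localization.mk_eq_mk_iff,
    Localization.r_iff_exists] at h'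
  obtain ⟨⟨c, m, rfl⟩, hc⟩ := h'
  exact mul_left_cancel₀ (pow_ne_zero n (MvPolynomial.X_ne_zero j)) (mul_left_cancel₀ (pow_ne_zero m (MvPolynomial.X_ne_zero j)) hc)

variable {L0 : Type u} [Field L0] [Algebra K L0] (g : Fin (N + 1) → Fin (N + 1) → K) (a : Fin (N + 1) → L0)
  (j0 : Fin (N + 1))

/-- The function field of the family. -/
abbrev L1 (L0 : Type u) [Field L0] : Type u := FractionRing (Polynomial L0)

/-- The moving vector. -/
def mP (l : Fin (N + 1)) : Polynomial L0 :=
  Polynomial.C (a l) + Polynomial.X * Polynomial.C (∑ q, algebraMap K L0 (g l q) * a q)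

/-- The parameter. -/
def Tv : L1 L0 := algebraMap (Polynomial L0) (L1 L0) Polynomial.X

/-- The constants of the family. -/
def ι0 : L0 →ₐ[K] L1 L0 := IsScalarTower.toAlgHom K L0 (L1 L0)

/-- The moving vector, as functions of the family. -/
def mv (l : Fin (N + 1)) : L1 L0 := algebraMap (Polynomial L0) (L1 L0) (mP g a l)

/-- The coordinates of the parameter. -/
def wv : Fin (1 + 1) → L1 L0 := fun e => if e = 0 then 1 else Tv

theorem wv_ne (e : Fin (1 + 1)) : (wv e : L1 L0) ≠ 0 := by
  unfold wv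
  split_ifs
  · exact one_ne_zero
  · exact (map_ne_zero_iff _ (IsFractionRing.injective _ _)).2 Polynomial.X_ne_zero

theorem mv_eq (l : Fin (N + 1)) :
    mv g a l = ι0 (K := K) (a l) + Tv * ∑ q, algebraMap K (L1 L0) (g l q) * ι0 (K := K) (a q) := by
  have h : ∀ x : L0, ι0 (K := K) x = algebraMap (Polynomial L0) (L1 L0) (Polynomial.C x) := fun x =>
    IsScalarTower.algebraMap_apply L0 (Polynomial L0) (L1 L0) x
  simp only [mv, mP, map_add, map_mul, h, Tv, map_sum]
  congr 2

/-- Evaluation of a chart at the generic point of the family. -/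
def evQ (j : Fin (N + 1)) (e : Fin (1 + 1)) : Polynomial (Pj N K j) →+* L1 L0 :=
  Polynomial.eval₂RingHom (evj (K := K) j (mv g a)).toRingHom (wv (1 - e) / wv e)

/-- The generic point of the family. -/
def xi : PP1 N K := pnt1 (K := K) j0 0 (mv g a) wv (IsLocalRing.closedPoint (L1 L0))

variable (ha : a j0 = 1)

include ha

theorem mv_j0_ne : mv g a j0 ≠ 0 := by
  refine (map_ne_zero_iff _ (IsFractionRing.injective _ _)).2 fun h => ?_
  have := congrArg (Polynomial.eval 0) h
  simp [mP, ha] at this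

theorem pnt1_eq (j : Fin (N + 1)) (e : Fin (1 + 1)) (hj : mv g a j ≠ 0) :
    cje N K j e (Spec.map (CommRingCat.ofHom (evQ g a j e)) (IsLocalRing.closedPoint (L1 L0))) = xi g a j0 := by
  show pnt1 (K := K) j e (mv g a) wv (IsLocalRing.closedPoint (L1 L0)) = _
  rw [pnt1_indep j j0 e 0 (mv g a) wv hj (mv_j0_ne g a j0 ha) (wv_ne e) (wv_ne 0)]
  rfl

theorem mv_ne_of_mem (j : Fin (N + 1))
    (hj : CohB1.ProjSpaceOver.toBase 1 PP (xi g a j0) ∈ (pj N K j).opensRange) : mv g a j ≠ 0 := by
  rw [opensRange_pj, xi, ← Scheme.Hom.comp_apply, pnt1_toBase] at hj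
  simpa using (mem_pnt_iff j0 (mv g a) (mv_j0_ne g a j0 ha) (MvPolynomial.isHomogeneous_X K j) one_pos _).1 hj

/-- Specialisations of the generic point, read in a chart. -/
theorem ker_le_of_specializes (j : Fin (N + 1)) (e : Fin (1 + 1))
    (q : Spec (CommRingCat.of (Polynomial (Pj N K j)))) (h : xi g a j0 ⤳ cje N K j e q) :
    mv g a j ≠ 0 ∧ RingHom.ker (evQ g a j e) ≤ q.asIdeal := by
  have hj : mv g a j ≠ 0 := by
    refine mv_ne_of_mem g a j0 ha j ((h.map (CohB1.ProjSpaceOver.toBase 1 PP).continuous).mem_open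
      (pj N K j).opensRange.isOpen ?_)
    rw [← Scheme.Hom.comp_apply, cje_toBase, Scheme.Hom.comp_apply]
    exact ⟨_, rfl⟩
  refine ⟨hj, ?_⟩
  rw [← pnt1_eq g a j0 ha j e hj] at h
  have h' := (cje N K j e).isOpenEmbedding.isInducing.specializes_iff.1 h
  have h'' := (PrimeSpectrum.le_iff_specializes _ _).2 h'
  refine le_trans (le_of_eq ?_) h''
  rw [RingHom.ker_eq_comap_bot]
  show _ = Ideal.comap (evQ g a j e) (IsLocalRing.maximalIdeal (L1 L0))
  rw [IsLocalRing.maximalIdeal_eq_bot]

theorem specializes_of_ker_le (j : Fin (N + 1)) (e : Fin (1 + 1)) (hj : mv g a j ≠ 0)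
    (q : Spec (CommRingCat.of (Polynomial (Pj N K j)))) (h : RingHom.ker (evQ g a j e) ≤ q.asIdeal) :
    xi g a j0 ⤳ cje N K j e q := by
  rw [← pnt1_eq g a j0 ha j e hj]
  refine Specializes.map ((PrimeSpectrum.le_iff_specializes
    (Spec.map (CommRingCat.ofHom (evQ g a j e)) (IsLocalRing.closedPoint (L1 L0))) q).1 ?_) (cje N K j e).continuous
  show Ideal.comap (evQ g a j e) (IsLocalRing.maximalIdeal (L1 L0)) ≤ q.asIdeal
  rw [IsLocalRing.maximalIdeal_eq_bot, ← RingHom.ker_eq_comap_bot]
  exact h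

omit ha in
/-- Clearing denominators at the parameter zero. -/
theorem exists_clear (j : Fin (N + 1)) (hj : mv g a j ≠ 0) (F : Polynomial (Pj N K j)) :
    ∃ (n : ℕ) (f : Pol) (G : Polynomial L0), f.IsHomogeneous n ∧ PnChart.dh N K j f = F.eval 0 ∧
      algebraMap (Polynomial L0) (L1 L0) G = evQ g a j 0 F * mv g a j ^ n ∧ G.eval 0 = aeval a f := by
  let P : Polynomial (Pj N K j) → Prop := fun F => ∃ (n : ℕ) (f : Pol) (G : Polynomial L0),
    f.IsHomogeneous n ∧ PnChart.dh N K j f = F.eval 0 ∧
      algebraMap (Polynomial L0) (L1 L0) G = evQ g a j 0 F * mv g a j ^ n ∧ G.eval 0 = aeval a f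
  have hm0 : (mP g a j).eval 0 = a j := by simp [mP]
  have hlift : ∀ {F}, P F → ∀ k, ∃ (n : ℕ) (f : Pol) (G : Polynomial L0), k ≤ n ∧ f.IsHomogeneous n ∧
      PnChart.dh N K j f = F.eval 0 ∧
      algebraMap (Polynomial L0) (L1 L0) G = evQ g a j 0 F * mv g a j ^ n ∧ G.eval 0 = aeval a f := by
    rintro F ⟨n, f, G, h1, h2, h3, h4⟩ k
    refine ⟨n + k, f * MvPolynomial.X j ^ k, G * mP g a j ^ k, by omega, ?_, ?_, ?_, ?_⟩
    · simpa using h1.mul ((MvPolynomial.isHomogeneous_X K j).pow k)
    · rw [map_mul, map_pow, dh_X_self, one_pow, mul_one, h2]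
    · rw [map_mul, map_pow, h3, pow_add]
      show _ * mv g a j ^ k = _
      ring
    · simp [h4, hm0]
  have hadd : ∀ {F F'}, P F → P F' → P (F + F') := by
    intro F F' hF hF'
    obtain ⟨n, f, G, h1, h2, h3, h4⟩ := hF
    obtain ⟨n', f', G', hn, h1', h2', h3', h4'⟩ := hlift hF' n
    obtain ⟨k, rfl⟩ := Nat.le.dest hn
    refine ⟨n + k, f * MvPolynomial.X j ^ k + f', G * mP g a j ^ k + G', ?_, ?_, ?_, ?_⟩
    · exact MvPolynomial.IsHomogeneous.add (by simpa using h1.mul ((MvPolynomial.isHomogeneous_X K j).pow k)) h1'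
    · rw [map_add, map_mul, map_pow, dh_X_self, one_pow, mul_one, h2, h2', Polynomial.eval_add]
    · rw [map_add, map_mul, map_pow, h3, h3', map_add, pow_add]
      show _ * mv g a j ^ k + _ = _
      ring
    · simp [h4, h4', hm0]
  have hmul : ∀ {F F'}, P F → P F' → P (F * F') := by
    rintro F F' ⟨n, f, G, h1, h2, h3, h4⟩ ⟨n', f', G', h1', h2', h3', h4'⟩
    refine ⟨n + n', f * f', G * G', h1.mul h1', ?_, ?_, by simp [h4, h4']⟩
    · rw [map_mul, h2, h2', Polynomial.eval_mul]
    · rw [map_mul, h3, h3', map_mul, pow_add]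
      ring
  have hev : ∀ p : Pj N K j, evQ g a j 0 (Polynomial.C p) = evj j (mv g a) p := fun p => Polynomial.eval₂_C _ _
  have hC : ∀ p : Pj N K j, P (Polynomial.C p) := fun p => by
    induction p using MvPolynomial.induction_on with
    | C c =>
      refine ⟨0, MvPolynomial.C c, Polynomial.C (algebraMap K L0 c), MvPolynomial.isHomogeneous_C _ _, ?_, ?_, ?_⟩
      · simp [PnChart.dh]
      · rw [hev, pow_zero, mul_one, ← MvPolynomial.algebraMap_eq, AlgHom.commutes,
          IsScalarTower.algebraMap_apply K L0 (L1 L0), IsScalarTower.algebraMap_apply L0 (Polynomial L0) (L1 L0)]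
        rfl
      · simp
    | add p q hp hq => rw [map_add]; exact hadd hp hq
    | mul_X p l hp =>
      rw [map_mul]
      refine hmul hp ⟨1, MvPolynomial.X l.down.1, mP g a l.down.1, MvPolynomial.isHomogeneous_X _ _, ?_, ?_, ?_⟩
      · simp [PnChart.dh, l.down.2]
      · rw [hev, pow_one]
        show mv g a l.down.1 = evj j (mv g a) (MvPolynomial.X l) * _
        rw [evj, MvPolynomial.aeval_X, div_mul_cancel₀ _ hj]
      · simp [mP]
  induction F using Polynomial.induction_on with
  | C p => exact hC p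
  | add F F' hF hF' => exact hadd hF hF'
  | monomial k p h =>
    rw [pow_succ, ← mul_assoc]
    refine hmul h ⟨0, 0, Polynomial.X, MvPolynomial.isHomogeneous_zero _ _ _, by simp, ?_, by simp⟩
    rw [pow_zero, mul_one]
    show _ = evQ g a j 0 Polynomial.X
    rw [evQ, Polynomial.coe_eval₂RingHom, Polynomial.eval₂_X]
    simp [wv, Tv]

omit ha in
/-- The line of matrices, over a ring with a parameter. -/
def lineMat {R : Type*} [CommRing R] [Algebra K R] (t : R) : Matrix (Fin (N + 1)) (Fin (N + 1)) R :=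
  1 + t • Matrix.of fun l q => algebraMap K R (g l q)

omit ha in
theorem mv_eq_mulVec : mv g a = (lineMat g (Tv : L1 L0)).mulVec fun l => ι0 (K := K) (a l) := by
  funext l
  rw [mv_eq, lineMat, Matrix.add_mulVec, Matrix.one_mulVec, Matrix.smul_mulVec, Pi.add_apply, Pi.smul_apply, smul_eq_mul]
  rfl

omit ha in
theorem adj_mulVec (x : Fin (N + 1) → L1 L0) :
    (lineMat g (Tv : L1 L0)).adjugate.mulVec ((lineMat g (Tv : L1 L0)).mulVec x) =
      (lineMat g (Tv : L1 L0)).det • x := by
  rw [Matrix.mulVec_mulVec, Matrix.adjugate_mul, Matrix.smul_mulVec, Matrix.one_mulVec]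

omit ha in
theorem lineMat_map {R R' : Type*} [CommRing R] [CommRing R'] [Algebra K R] [Algebra K R'] (φ : R →+* R')
    (hφ : ∀ c, φ (algebraMap K R c) = algebraMap K R' c) (t : R) :
    φ.mapMatrix (lineMat g t) = lineMat g (φ t) := by
  ext l q
  simp [lineMat, Matrix.one_apply, apply_ite φ, hφ]

omit ha in
theorem det_ne : (lineMat g (Tv : L1 L0)).det ≠ 0 := by
  have h1 : (lineMat g (Tv : L1 L0)).det =
      algebraMap (Polynomial L0) (L1 L0) (lineMat g (Polynomial.X : Polynomial L0)).det := by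
    rw [RingHom.map_det, lineMat_map g _ (fun c => (IsScalarTower.algebraMap_apply K (Polynomial L0) (L1 L0) c).symm)]
    rfl
  rw [h1]
  refine (map_ne_zero_iff _ (IsFractionRing.injective _ _)).2 fun h => ?_
  have := congrArg (Polynomial.evalRingHom 0) h
  rw [RingHom.map_det, lineMat_map g _ (fun c => by simp [IsScalarTower.algebraMap_apply K L0 (Polynomial L0)]), map_zero] at this
  simp [lineMat] at this

omit ha in
/-- A form vanishing at `a` lifts to the family. -/
theorem exists_lift (j : Fin (N + 1)) (hj : mv g a j ≠ 0) {n : ℕ} {f : Pol} (hf : f.IsHomogeneous n)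
    (hfa : aeval a f = 0) :
    ∃ F : Polynomial (Pj N K j), evQ g a j 0 F = 0 ∧ F.eval 0 = PnChart.dh N K j f := by
  let Y : Fin (N + 1) → Polynomial (Pj N K j) := fun l => Polynomial.C (PnChart.dh N K j (MvPolynomial.X l))
  refine ⟨aeval ((lineMat g (Polynomial.X : Polynomial (Pj N K j))).adjugate.mulVec Y) f, ?_, ?_⟩
  · have hK : ∀ c, evQ g a j 0 (algebraMap K (Polynomial (Pj N K j)) c) = algebraMap K (L1 L0) c := fun c => by
      rw [IsScalarTower.algebraMap_apply K (Pj N K j) (Polynomial (Pj N K j)), Polynomial.algebraMap_eq, evQ,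
        Polynomial.coe_eval₂RingHom, Polynomial.eval₂_C]
      exact AlgHom.commutes _ c
    let φ : Polynomial (Pj N K j) →ₐ[K] L1 L0 := { evQ g a j 0 with commutes' := hK }
    show φ (aeval _ f) = 0
    rw [← AlgHom.comp_apply, MvPolynomial.comp_aeval]
    have hX : evQ g a j 0 Polynomial.X = (Tv : L1 L0) := by
      rw [evQ, Polynomial.coe_eval₂RingHom, Polynomial.eval₂_X]
      simp [wv]
    have hv : (fun l => φ ((lineMat g (Polynomial.X : Polynomial (Pj N K j))).adjugate.mulVec Y l)) =
        fun l => ((mv g a j)⁻¹ * (lineMat g (Tv : L1 L0)).det) * ι0 (K := K) (a l) := by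
      funext l
      show (evQ g a j 0) _ = _
      rw [RingHom.map_mulVec, ← RingHom.mapMatrix_apply, RingHom.map_adjugate, lineMat_map g _ hK, hX]
      have hY : (evQ g a j 0) ∘ Y = (mv g a j)⁻¹ • mv g a := by
        funext q
        show evQ g a j 0 (Polynomial.C _) = (mv g a j)⁻¹ * mv g a q
        rw [evQ, Polynomial.coe_eval₂RingHom, Polynomial.eval₂_C]
        show evj j (mv g a) (PnChart.dh N K j (MvPolynomial.X q)) = _
        by_cases hq : q = j
        · subst hq
          rw [dh_X_self, map_one, inv_mul_cancel₀ hj]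
        · simp [PnChart.dh, evj, hq, div_eq_inv_mul]
      rw [hY, Matrix.mulVec_smul, mv_eq_mulVec, adj_mulVec, Pi.smul_apply, Pi.smul_apply, smul_eq_mul, smul_eq_mul]
      rw [← mv_eq_mulVec]
      ring
    rw [hv]
    refine (ProjPt.eval₂Hom_scale (algebraMap K (L1 L0)) (fun l => ι0 (K := K) (a l)) _ _ (fun _ => rfl) hf).trans ?_
    show _ * aeval (fun l => ι0 (K := K) (a l)) f = 0
    rw [← MvPolynomial.comp_aeval_apply, hfa, map_zero, mul_zero]
  · show Polynomial.evalRingHom 0 _ = _
    let φ : Polynomial (Pj N K j) →ₐ[K] Pj N K j :=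
      { Polynomial.evalRingHom 0 with commutes' := fun c => by simp [IsScalarTower.algebraMap_apply K (Pj N K j) (Polynomial (Pj N K j))] }
    show φ (aeval _ f) = _
    rw [← AlgHom.comp_apply, MvPolynomial.comp_aeval]
    have : (fun l => φ ((lineMat g (Polynomial.X : Polynomial (Pj N K j))).adjugate.mulVec Y l)) =
        fun l => PnChart.dh N K j (MvPolynomial.X l) := by
      funext l
      show Polynomial.evalRingHom 0 _ = _
      rw [RingHom.map_mulVec, ← RingHom.mapMatrix_apply, RingHom.map_adjugate, lineMat_map g _ (fun c => φ.commutes c)]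
      simp [lineMat, Y, Function.comp_def, φ]
    rw [this]
    show MvPolynomial.aeval _ f = (MvPolynomial.aeval _ : Pol →ₐ[K] Pj N K j) f
    congr 2
    funext l
    simp [PnChart.dh]

/-- The family has one dimension more. -/
theorem trdeg_eq (c : ℕ) (hc : Algebra.trdeg K L0 = c)
    (hgen : ∀ x : L0, ∃ p q : Pj N K j0, evj j0 a q ≠ 0 ∧ x * evj j0 a q = evj j0 a p) :
    ringKrullDim (Polynomial (Pj N K j0) ⧸ RingHom.ker (evQ g a j0 0)) = (c + 1 : ℕ) := by
  let φ : Polynomial (Pj N K j0) →ₐ[K] L1 L0 := { evQ g a j0 0 with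
    commutes' := fun c => by
      show evQ g a j0 0 _ = _
      rw [IsScalarTower.algebraMap_apply K (Pj N K j0) (Polynomial (Pj N K j0)), Polynomial.algebraMap_eq, evQ,
        Polynomial.coe_eval₂RingHom, Polynomial.eval₂_C]
      exact AlgHom.commutes _ c }
  haveI : (RingHom.ker φ).IsPrime := RingHom.ker_isPrime φ
  let D := Polynomial (Pj N K j0) ⧸ RingHom.ker φ
  obtain ⟨n, hn, hn'⟩ := VarDim.exists_dim_eq_trdeg K D
  let ψ : D →ₐ[K] L1 L0 := Ideal.Quotient.liftₐ (RingHom.ker φ) φ fun x hx => hx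
  have hinj : Function.Injective ψ := by
    rw [injective_iff_map_eq_zero]
    rintro ⟨x⟩ hx
    exact Ideal.Quotient.eq_zero_iff_mem.2 hx
  letI : Algebra D (L1 L0) := ψ.toRingHom.toAlgebra
  haveI : @IsScalarTower K D (L1 L0) Algebra.toSMul Algebra.toSMul Algebra.toSMul :=
    IsScalarTower.of_algebraMap_eq (R := K) (S := D) (A := L1 L0) fun x => (ψ.commutes x).symm
  haveI : FaithfulSMul D (L1 L0) := (faithfulSMul_iff_algebraMap_injective _ _).2 hinj
  let F : Subfield (L1 L0) := Subfield.closure (Set.range φ)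
  have hT : (Tv : L1 L0) ∈ F := Subfield.subset_closure ⟨Polynomial.X, by
    show evQ g a j0 0 Polynomial.X = _
    rw [evQ, Polynomial.coe_eval₂RingHom, Polynomial.eval₂_X]
    simp [wv]⟩
  have hK : ∀ c : K, algebraMap K (L1 L0) c ∈ F := fun c => Subfield.subset_closure ⟨algebraMap K _ c, φ.commutes c⟩
  let r : Fin (N + 1) → L1 L0 := fun q => mv g a q / mv g a j0
  have hr : ∀ q, r q ∈ F := fun q => by
    refine Subfield.subset_closure ⟨Polynomial.C (PnChart.dh N K j0 (MvPolynomial.X q)), ?_⟩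
    show evQ g a j0 0 _ = _
    rw [evQ, Polynomial.coe_eval₂RingHom, Polynomial.eval₂_C]
    show evj j0 (mv g a) _ = _
    by_cases hq : q = j0
    · subst hq
      rw [dh_X_self, map_one]
      exact (div_self (mv_j0_ne g a q ha)).symm
    · simp [PnChart.dh, evj, hq, r]
  letI : Algebra K F := ((algebraMap K (L1 L0)).codRestrict F hK).toAlgebra
  let tF : F := ⟨Tv, hT⟩
  have hmapF : F.subtype.mapMatrix (lineMat g tF) = lineMat g (Tv : L1 L0) :=
    lineMat_map g F.subtype (fun c => rfl) tF
  have hs : ∀ l, ((lineMat g (Tv : L1 L0)).adjugate.mulVec r) l ∈ F := fun l => by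
    have : ((lineMat g (Tv : L1 L0)).adjugate.mulVec r) l =
        F.subtype (((lineMat g tF).adjugate.mulVec fun q => (⟨r q, hr q⟩ : F)) l) := by
      rw [RingHom.map_mulVec, ← RingHom.mapMatrix_apply, RingHom.map_adjugate, hmapF]
      rfl
    rw [this]
    exact SetLike.coe_mem _
  have hs' : ∀ l, ((lineMat g (Tv : L1 L0)).adjugate.mulVec r) l =
      (lineMat g (Tv : L1 L0)).det * ι0 (K := K) (a l) / mv g a j0 := fun l => by
    have : r = (mv g a j0)⁻¹ • mv g a := funext fun q => by simp [r, div_eq_inv_mul]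
    rw [this, Matrix.mulVec_smul, mv_eq_mulVec, adj_mulVec, ← mv_eq_mulVec, Pi.smul_apply, Pi.smul_apply,
      smul_eq_mul, smul_eq_mul]
    ring
  have hal : ∀ l, ι0 (K := K) (a l) ∈ F := fun l => by
    have h0 := hs' j0
    rw [ha, map_one, mul_one] at h0
    have e : ι0 (K := K) (a l) = ((lineMat g (Tv : L1 L0)).adjugate.mulVec r) l /
        ((lineMat g (Tv : L1 L0)).adjugate.mulVec r) j0 := by
      rw [h0, hs' l]
      have := det_ne g (L0 := L0)
      have := mv_j0_ne g a j0 ha
      field_simp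
    rw [e]
    exact div_mem (hs l) (hs j0)
  have hev : ∀ p : Pj N K j0, ι0 (K := K) (evj j0 a p) ∈ F := fun p => by
    induction p using MvPolynomial.induction_on with
    | C c => rw [← MvPolynomial.algebraMap_eq, AlgHom.commutes, AlgHom.commutes]; exact hK c
    | add p q hp hq => rw [map_add, map_add]; exact add_mem hp hq
    | mul_X p l hp =>
      have hX : evj j0 a (MvPolynomial.X l : Pj N K j0) = a l.down.1 := by simp [evj, ha]
      rw [map_mul, map_mul, hX]
      exact mul_mem hp (hal _)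
  have hL0 : ∀ x : L0, ι0 (K := K) x ∈ F := fun x => by
    obtain ⟨p, q, hq, hx⟩ := hgen x
    have : ι0 (K := K) x = ι0 (K := K) (evj j0 a p) / ι0 (K := K) (evj j0 a q) := by
      rw [eq_div_iff ((map_ne_zero (ι0 (K := K) (L0 := L0))).2 hq), ← map_mul, hx]
    rw [this]
    exact div_mem (hev p) (hev q)
  have hpoly : ∀ P : Polynomial L0, algebraMap (Polynomial L0) (L1 L0) P ∈ F := fun P => by
    induction P using Polynomial.induction_on with
    | C x => exact hL0 x
    | add p q hp hq => rw [map_add]; exact add_mem hp hq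
    | monomial n x h => rw [pow_succ, ← mul_assoc, map_mul]; exact mul_mem h hT
  have htop : ∀ x : L1 L0, x ∈ F := fun x => by
    obtain ⟨p, q, -, rfl⟩ := IsFractionRing.div_surjective (A := Polynomial L0) x
    exact div_mem (hpoly p) (hpoly q)
  haveI : IsFractionRing D (L1 L0) := IsFractionRing.of_field D (L1 L0) fun x => by
    obtain ⟨y, hy, z, hz, rfl⟩ := Subfield.mem_closure_iff.1 (htop x)
    have hcl : Subring.closure (Set.range φ) ≤ φ.toRingHom.range := Subring.closure_le.2 fun w hw => hw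
    obtain ⟨y, rfl⟩ := hcl hy
    obtain ⟨z, rfl⟩ := hcl hz
    exact ⟨Ideal.Quotient.mk _ y, Ideal.Quotient.mk _ z, rfl⟩
  haveI : Algebra.IsAlgebraic D (L1 L0) := IsLocalization.isAlgebraic _ (nonZeroDivisors D)
  have e1 := trdeg_add_eq K D (A := L1 L0)
  rw [trdeg_eq_zero (R := D) (A := L1 L0), add_zero, hn'] at e1
  haveI : Algebra.IsAlgebraic (Polynomial L0) (L1 L0) := IsLocalization.isAlgebraic _ (nonZeroDivisors (Polynomial L0))
  have e2 := trdeg_add_eq K (Polynomial L0) (A := L1 L0)
  rw [trdeg_eq_zero (R := Polynomial L0) (A := L1 L0), add_zero] at e2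
  have e3 := trdeg_add_eq K L0 (A := Polynomial L0)
  rw [hc, Polynomial.trdeg_of_isDomain] at e3
  have : (n : Cardinal.{u}) = ((c + 1 : ℕ) : Cardinal.{u}) := by rw [e1, ← e2, ← e3]; push_cast; rfl
  rw [Nat.cast_inj] at this
  rw [← this]
  exact hn

end Groth.Agent.H23.MoveLine
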