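import Groth.Agent.H23.P1Charts
import Groth.Agent.H23.P1Conn
import Groth.Agent.H23.GysinPb
import Groth.Agent.H23.GysinSq

/-! The two sections of the projective line, cut out by the affine coordinates. -/

set_option autoImplicit false
set_option linter.style.haveILetI false

universe u

open AlgebraicGeometry CategoryTheory CategoryTheory.Limits IsLocalRing

namespace Groth.Agent.H23.P1Sect

open Groth.Agent

section Affine

variable {A B : Type u} [CommRing A] [CommRing B]

/-- A ring element as a germ. -/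
noncomputable abbrev toGerm (a : A) (p : Spec (CommRingCat.of A)) : (Spec (CommRingCat.of A)).presheaf.stalk p :=
  (Spec (CommRingCat.of A)).presheaf.germ ⊤ p trivial ((Scheme.ΓSpecIso (CommRingCat.of A)).inv a)

theorem stalkMap_toGerm (φ : A →+* B) (q : Spec (CommRingCat.of B)) (a : A) :
    ((Spec.map (CommRingCat.ofHom φ)).stalkMap q).hom (toGerm a (Spec.map (CommRingCat.ofHom φ) q)) =
      toGerm (φ a) q := by
  refine (Scheme.Hom.germ_stalkMap_apply (Spec.map (CommRingCat.ofHom φ)) ⊤ q trivial _).trans ?_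
  exact congrArg ((Spec (CommRingCat.of B)).presheaf.germ ⊤ q trivial)
    (congrArg (fun m : CommRingCat.of A ⟶ _ => m.hom a) (Scheme.ΓSpecIso_inv_naturality (CommRingCat.ofHom φ))).symm

theorem toGerm_mem_iff (a : A) (p : Spec (CommRingCat.of A)) :
    toGerm a p ∈ maximalIdeal _ ↔ a ∈ PrimeSpectrum.asIdeal (R := A) p := by
  letI : Algebra A ((Spec (CommRingCat.of A)).presheaf.stalk p) := StructureSheaf.stalkAlgebra A p
  haveI : IsLocalization.AtPrime ((Spec (CommRingCat.of A)).presheaf.stalk p) (PrimeSpectrum.asIdeal (R := A) p) :=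
    StructureSheaf.IsLocalization.to_stalk (CommRingCat.of A) p
  exact IsLocalization.AtPrime.to_map_mem_maximal_iff _ (PrimeSpectrum.asIdeal (R := A) p) a

theorem ker_specMap {φ : A →+* B} (hφ : Function.Surjective φ) {e : A} (hk : RingHom.ker φ = Ideal.span {e})
    (q : Spec (CommRingCat.of B)) :
    RingHom.ker ((Spec.map (CommRingCat.ofHom φ)).stalkMap q).hom =
      Ideal.span {toGerm e (Spec.map (CommRingCat.ofHom φ) q)} := by
  refine le_antisymm (fun z hz => ?_) ?_
  · let p := Spec.map (CommRingCat.ofHom φ) q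
    letI : Algebra A ((Spec (CommRingCat.of A)).presheaf.stalk p) := StructureSheaf.stalkAlgebra A p
    haveI : IsLocalization.AtPrime ((Spec (CommRingCat.of A)).presheaf.stalk p) (PrimeSpectrum.asIdeal (R := A) p) :=
      StructureSheaf.IsLocalization.to_stalk (CommRingCat.of A) p
    letI : Algebra B ((Spec (CommRingCat.of B)).presheaf.stalk q) := StructureSheaf.stalkAlgebra B q
    haveI : IsLocalization.AtPrime ((Spec (CommRingCat.of B)).presheaf.stalk q) (PrimeSpectrum.asIdeal (R := B) q) :=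
      StructureSheaf.IsLocalization.to_stalk (CommRingCat.of B) q
    obtain ⟨⟨a, s⟩, h⟩ := IsLocalization.surj (PrimeSpectrum.asIdeal (R := A) p).primeCompl z
    have ha : toGerm (φ a) q = 0 := by
      rw [← stalkMap_toGerm]
      show ((Spec.map (CommRingCat.ofHom φ)).stalkMap q).hom (algebraMap A _ a) = 0
      rw [← h, map_mul, show ((Spec.map (CommRingCat.ofHom φ)).stalkMap q).hom z = 0 from hz, zero_mul]
    obtain ⟨⟨b, hb⟩, hba⟩ := (IsLocalization.map_eq_zero_iff (PrimeSpectrum.asIdeal (R := B) q).primeCompl _ _).1 ha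
    obtain ⟨b', rfl⟩ := hφ b
    obtain ⟨c, hc⟩ := Ideal.mem_span_singleton'.1 (hk.le (show b' * a ∈ RingHom.ker φ by
      rw [RingHom.mem_ker, map_mul]; exact hba))
    have hu : IsUnit (algebraMap A ((Spec (CommRingCat.of A)).presheaf.stalk p) (b' * s.1)) :=
      IsLocalization.map_units _ (⟨_, Submonoid.mul_mem _ (show b' ∈ (PrimeSpectrum.asIdeal (R := A) p).primeCompl from
        hb) s.2⟩ : (PrimeSpectrum.asIdeal (R := A) p).primeCompl)
    refine (Ideal.unit_mul_mem_iff_mem _ hu).1 ?_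
    refine Ideal.mem_span_singleton'.2 ⟨algebraMap A _ c, ?_⟩
    show _ * algebraMap A _ e = _
    rw [← map_mul, hc, map_mul, map_mul, ← h]
    ring
  · rw [Ideal.span_le, Set.singleton_subset_iff]
    show ((Spec.map (CommRingCat.ofHom φ)).stalkMap q).hom _ = 0
    rw [stalkMap_toGerm, show φ e = 0 from hk.ge (Ideal.subset_span rfl), toGerm, map_zero, map_zero]

variable {P : Scheme.{u}}

/-- A ring element as a section over the image of an affine chart. -/
noncomputable def secOf (j : Spec (CommRingCat.of A) ⟶ P) [IsOpenImmersion j] (a : A) : Γ(P, j ''ᵁ ⊤) :=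
  (j.appIso ⊤).inv ((Scheme.ΓSpecIso (CommRingCat.of A)).inv a)

theorem mem_image_top (j : Spec (CommRingCat.of A) ⟶ P) [IsOpenImmersion j] (p : Spec (CommRingCat.of A)) :
    j p ∈ j ''ᵁ ⊤ := ⟨p, trivial, rfl⟩

theorem stalkMap_secOf (j : Spec (CommRingCat.of A) ⟶ P) [IsOpenImmersion j] (a : A) (p : Spec (CommRingCat.of A)) :
    (j.stalkMap p).hom (P.presheaf.germ (j ''ᵁ ⊤) (j p) (mem_image_top j p) (secOf j a)) = toGerm a p := by
  refine (Scheme.Hom.germ_stalkMap_apply j _ p _ _).trans ?_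
  rw [secOf]
  refine (congrArg _ (congrArg (fun m => m.hom ((Scheme.ΓSpecIso (CommRingCat.of A)).inv a))
    (Scheme.Hom.appIso_inv_app j ⊤))).trans ?_
  exact TopCat.Presheaf.germ_res_apply _ _ _ _ _

theorem stalkMap_secOf_comp (j : Spec (CommRingCat.of A) ⟶ P) [IsOpenImmersion j] (a : A) (φ : A →+* B)
    {k : Spec (CommRingCat.of B) ⟶ P} (h : k = Spec.map (CommRingCat.ofHom φ) ≫ j) (q : Spec (CommRingCat.of B))
    (hq : k q ∈ j ''ᵁ ⊤) :
    (k.stalkMap q).hom (P.presheaf.germ (j ''ᵁ ⊤) (k q) hq (secOf j a)) = toGerm (φ a) q := by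
  subst h
  rw [Scheme.Hom.stalkMap_comp]
  exact (congrArg ((Spec.map (CommRingCat.ofHom φ)).stalkMap q).hom
    (stalkMap_secOf j a (Spec.map (CommRingCat.ofHom φ) q))).trans (stalkMap_toGerm φ q a)

end Affine

/-- The projective line over the integers. -/
noncomputable abbrev PZ : Scheme.{u} := CohB1.ProjSpace 1 P1.R0.{u}

/-- The chart. -/
noncomputable abbrev jZ (i : Fin (1 + 1)) :
    Spec (CommRingCat.of (HomogeneousLocalization.Away P1.grading.{u} (P1.T i))) ⟶ PZ.{u} :=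
  Proj.awayι P1.grading.{u} (P1.T i) (P1.X_mem i) one_pos

instance isOpenImmersion_jZ (i : Fin (1 + 1)) : IsOpenImmersion (jZ.{u} i) :=
  inferInstanceAs (IsOpenImmersion (Proj.awayι P1.grading.{u} (P1.T i) (P1.X_mem i) one_pos))

/-- The coordinate on a chart. -/
noncomputable abbrev eZ (i : Fin (1 + 1)) : HomogeneousLocalization.Away P1.grading.{u} (P1.T i) :=
  HomogeneousLocalization.Away.isLocalizationElem (P1.X_mem i) (P1.X_mem (1 - i))

theorem θ_eZ (i : Fin (1 + 1)) : P1Charts.θ.{u} i (eZ i) = Polynomial.X := by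
  rw [eZ, HomogeneousLocalization.Away.isLocalizationElem, P1Charts.θ_mk]
  fin_cases i <;> simp [P1Charts.ev]

theorem evalAway_eq (i : Fin (1 + 1)) :
    P1.evalAway.{u} i = (Polynomial.evalRingHom 0).comp (P1Charts.θ i) := by
  refine RingHom.ext fun a => ?_
  obtain ⟨n, p, hp, rfl⟩ := HomogeneousLocalization.Away.mk_surjective P1.grading (P1.X_mem i) a
  rw [RingHom.comp_apply, P1Charts.θ_mk]
  simp only [P1.evalAway, RingHom.comp_apply, HomogeneousLocalization.algebraMap_apply,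
    HomogeneousLocalization.Away.val_mk]
  rw [Localization.mk_eq_mk', IsLocalization.Away.lift, IsLocalization.lift_mk'_spec]
  have e : (MvPolynomial.aeval (Pi.single i (1 : P1.R0.{u}) : Fin (1 + 1) → P1.R0.{u})).toRingHom =
      (Polynomial.evalRingHom 0).comp (P1Charts.ev i) := by
    apply MvPolynomial.ringHom_ext
    · intro r
      simp [P1Charts.ev]
    · intro j
      fin_cases i <;> fin_cases j <;> simp [P1Charts.ev]
  simp only [e, RingHom.comp_apply]
  simp [P1Charts.ev]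

theorem evalAway_surjective (i : Fin (1 + 1)) : Function.Surjective (P1.evalAway.{u} i) := by
  rw [evalAway_eq]
  have h1 : Function.Surjective (Polynomial.evalRingHom (0 : P1Charts.Z.{u})) :=
    fun r => ⟨Polynomial.C r, Polynomial.eval_C⟩
  intro r
  obtain ⟨p, rfl⟩ := h1 r
  obtain ⟨a, rfl⟩ := (P1Charts.θ_bijective i).2 p
  exact ⟨a, rfl⟩

theorem ker_evalAway (i : Fin (1 + 1)) : RingHom.ker (P1.evalAway.{u} i) = Ideal.span {eZ i} := by
  rw [evalAway_eq, ← RingHom.comap_ker]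
  have hk : RingHom.ker (Polynomial.evalRingHom (0 : P1.R0.{u})) = Ideal.span {Polynomial.X} :=
    Polynomial.ker_evalRingHom 0 |>.trans (by rw [map_zero, sub_zero])
  rw [hk, ← θ_eZ i, ← Set.image_singleton, ← Ideal.map_span, Ideal.comap_map_of_bijective _ (P1Charts.θ_bijective i)]

theorem preimage_basicOpen (i : Fin (1 + 1)) :
    jZ i ⁻¹ᵁ Proj.basicOpen P1.grading.{u} (P1.T (1 - i)) = PrimeSpectrum.basicOpen (eZ i) :=
  Proj.awayι_preimage_basicOpen _ (P1.X_mem i) one_pos (P1.X_mem (1 - i)) one_pos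

theorem image_top (i : Fin (1 + 1)) : jZ.{u} i ''ᵁ ⊤ = Proj.basicOpen P1.grading (P1.T i) :=
  (Scheme.Hom.image_top_eq_opensRange _).trans (Proj.opensRange_awayι _ _ _ _)

/-- The coordinate as a section. -/
noncomputable def cZ (i : Fin (1 + 1)) : Γ(PZ.{u}, jZ i ''ᵁ ⊤) := secOf (jZ i) (eZ i)

theorem cover (y : PZ.{u}) : ∃ i, y ∈ jZ.{u} i ''ᵁ ⊤ := by
  obtain ⟨i, hi⟩ := TopologicalSpace.Opens.mem_iSup.1 (P1Charts.iSup_chartZ.{u}.ge (Set.mem_univ y))
  rw [P1Charts.opensRange_chartZ] at hi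
  exact ⟨i, by rw [image_top]; exact hi⟩

theorem mem_other_iff (i : Fin (1 + 1)) {y : PZ.{u}} (hy : y ∈ jZ i ''ᵁ ⊤) :
    y ∈ jZ.{u} (1 - i) ''ᵁ ⊤ ↔ IsUnit (PZ.presheaf.germ _ y hy (cZ i)) := by
  obtain ⟨q, -, rfl⟩ := hy
  rw [image_top]
  refine Iff.trans (show _ ↔ q ∈ PrimeSpectrum.basicOpen (eZ i) by rw [← preimage_basicOpen]; rfl) ?_
  refine Iff.trans ?_ (isUnit_map_iff ((jZ i).stalkMap q).hom _)
  refine Iff.trans ?_ (Iff.of_eq (congrArg IsUnit (stalkMap_secOf (jZ i) (eZ i) q))).symm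
  show ¬ eZ i ∈ PrimeSpectrum.asIdeal (R := _) q ↔ _
  rw [← toGerm_mem_iff, mem_maximalIdeal, mem_nonunits_iff, not_not]

theorem sub_sub_self' (i : Fin (1 + 1)) : 1 - (1 - i) = i := by fin_cases i <;> rfl

theorem cZ_mul {y : PZ.{u}} (h0 : y ∈ jZ 0 ''ᵁ ⊤) (h1 : y ∈ jZ 1 ''ᵁ ⊤) :
    PZ.presheaf.germ _ y h0 (cZ 0) * PZ.presheaf.germ _ y h1 (cZ 1) = 1 := by
  let g := P1.grading.{u}
  let k : Spec (CommRingCat.of (HomogeneousLocalization.Away g (P1.T 0 * P1.T 1))) ⟶ PZ.{u} :=
    Proj.awayι g (P1.T 0 * P1.T 1) (SetLike.mul_mem_graded (P1.X_mem 0) (P1.X_mem 1)) (show 0 < 1 + 1 by norm_num)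
  let φ0 := HomogeneousLocalization.awayMap g (f := P1.T 0) (P1.X_mem 1) (x := P1.T 0 * P1.T 1) rfl
  let φ1 := HomogeneousLocalization.awayMap g (f := P1.T 1) (P1.X_mem 0) (x := P1.T 0 * P1.T 1) (mul_comm _ _)
  haveI : IsOpenImmersion k := inferInstanceAs (IsOpenImmersion (Proj.awayι g _ _ _))
  have e0 : k = Spec.map (CommRingCat.ofHom φ0) ≫ jZ 0 := (Proj.SpecMap_awayMap_awayι g _ _ _ _).symm
  have e1 : k = Spec.map (CommRingCat.ofHom φ1) ≫ jZ 1 := (Proj.SpecMap_awayMap_awayι g _ _ _ _).symm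
  have hy : y ∈ k.opensRange := by
    rw [show k.opensRange = Proj.basicOpen g (P1.T 0 * P1.T 1) from Proj.opensRange_awayι _ _ _ _,
      Proj.basicOpen_mul]
    rw [image_top] at h0 h1
    exact ⟨h0, h1⟩
  obtain ⟨q, rfl⟩ := hy
  apply (ConcreteCategory.bijective_of_isIso (k.stalkMap q)).1
  show (k.stalkMap q).hom _ = (k.stalkMap q).hom _
  rw [map_mul, map_one]
  erw [stalkMap_secOf_comp (jZ 0) (eZ 0) φ0 e0 q h0, stalkMap_secOf_comp (jZ 1) (eZ 1) φ1 e1 q h1]
  rw [← map_mul ((Spec _).presheaf.germ ⊤ q trivial).hom, ← map_mul (Scheme.ΓSpecIso _).inv.hom]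
  rw [show φ0 (eZ 0) * φ1 (eZ 1) = 1 from ?_, map_one, map_one]
  apply HomogeneousLocalization.val_injective
  rw [HomogeneousLocalization.val_mul, HomogeneousLocalization.val_one]
  simp only [φ0, φ1, eZ, HomogeneousLocalization.Away.isLocalizationElem, HomogeneousLocalization.Away.mk]
  erw [HomogeneousLocalization.val_awayMap_mk, HomogeneousLocalization.val_awayMap_mk]
  rw [Localization.mk_mul, ← Localization.mk_one, Localization.mk_eq_mk_iff, Localization.r_iff_exists]
  refine ⟨1, ?_⟩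
  simp
  ring

variable (X : Scheme.{u})

/-- The projection to the projective line over the integers. -/
noncomputable abbrev pr : CohB1.ProjSpaceOver 1 X ⟶ PZ.{u} := pullback.fst _ _

/-- The chart domains. -/
noncomputable abbrev V (i : Fin (1 + 1)) : (CohB1.ProjSpaceOver 1 X).Opens := pr X ⁻¹ᵁ (jZ i ''ᵁ ⊤)

/-- The coordinate on a chart domain. -/
noncomputable def c (i : Fin (1 + 1)) : Γ(CohB1.ProjSpaceOver 1 X, V X i) := (pr X).app _ (cZ i)

theorem germ_c (i : Fin (1 + 1)) (p : CohB1.ProjSpaceOver 1 X) (hp : p ∈ V X i) :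
    (CohB1.ProjSpaceOver 1 X).presheaf.germ _ p hp (c X i) =
      ((pr X).stalkMap p).hom (PZ.presheaf.germ _ (pr X p) hp (cZ i)) :=
  (Scheme.Hom.germ_stalkMap_apply (pr X) _ p hp _).symm

theorem mem_other_iff' (i : Fin (1 + 1)) {p : CohB1.ProjSpaceOver 1 X} (hp : p ∈ V X i) :
    p ∈ V X (1 - i) ↔ IsUnit ((CohB1.ProjSpaceOver 1 X).presheaf.germ _ p hp (c X i)) := by
  rw [germ_c, isUnit_map_iff]
  exact mem_other_iff i hp

theorem c_mul {p : CohB1.ProjSpaceOver 1 X} (h0 : p ∈ V X 0) (h1 : p ∈ V X 1) :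
    (CohB1.ProjSpaceOver 1 X).presheaf.germ _ p h0 (c X 0) *
      (CohB1.ProjSpaceOver 1 X).presheaf.germ _ p h1 (c X 1) = 1 := by
  rw [germ_c, germ_c, ← map_mul, cZ_mul, map_one]

theorem cover' (p : CohB1.ProjSpaceOver 1 X) : ∃ i, p ∈ V X i := cover (pr X p)

theorem sect_toBase (i : Fin (1 + 1)) : P1.sect X i ≫ CohB1.ProjSpaceOver.toBase 1 X = 𝟙 X :=
  pullback.lift_snd _ _ _

theorem isPullback_sect (i : Fin (1 + 1)) :
    IsPullback (P1.sect X i) (specULiftZIsTerminal.from X) (pr X) (P1.point i) := by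
  have h1 : IsPullback (P1.sect X i ≫ CohB1.ProjSpaceOver.toBase 1 X) (specULiftZIsTerminal.from X)
      (specULiftZIsTerminal.from X) (P1.point i ≫ CohB1.ProjSpace.toSpec 1 P1.R0.{u}) := by
    rw [sect_toBase, specULiftZIsTerminal.hom_ext (P1.point i ≫ CohB1.ProjSpace.toSpec 1 P1.R0.{u}) (𝟙 _)]
    exact IsPullback.of_horiz_isIso ⟨by simp⟩
  exact IsPullback.of_right h1 (pullback.lift_fst _ _ _)
    (IsPullback.of_hasPullback (CohB1.ProjSpace.toSpec 1 P1.R0.{u}) (specULiftZIsTerminal.from X)).flip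

instance isClosedImmersion_point (i : Fin (1 + 1)) : IsClosedImmersion (P1.point.{u} i) := by
  haveI : IsProper (CohB1.ProjSpace.toSpec 1 P1.R0.{u}) := P1Charts.isProper_toSpec
  have h : P1.point.{u} i ≫ CohB1.ProjSpace.toSpec 1 P1.R0.{u} = 𝟙 _ := specULiftZIsTerminal.hom_ext _ _
  haveI : IsClosedImmersion (P1.point.{u} i ≫ CohB1.ProjSpace.toSpec 1 P1.R0.{u}) := by rw [h]; infer_instance
  exact IsClosedImmersion.of_comp (P1.point i) (CohB1.ProjSpace.toSpec 1 P1.R0.{u})

instance isClosedImmersion_sect (i : Fin (1 + 1)) : IsClosedImmersion (P1.sect X i) :=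
  MorphismProperty.of_isPullback (isPullback_sect X i).flip inferInstance

theorem range_sect (i : Fin (1 + 1)) : Set.range (P1.sect X i) =
    {p | ∃ hp : p ∈ V X i, ¬ IsUnit ((CohB1.ProjSpaceOver 1 X).presheaf.germ _ p hp (c X i))} := by
  have h := isPullback_sect X i
  have hr : Set.range (P1.sect X i) = pr X ⁻¹' Set.range (P1.point.{u} i) := by
    rw [← h.isoPullback_hom_fst, Scheme.Hom.comp_base, TopCat.coe_comp, Set.range_comp,
      Set.range_eq_univ.2 h.isoPullback.hom.surjective, Set.image_univ, Scheme.Pullback.range_fst]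
  have hp : Set.range (P1.point.{u} i) = jZ i '' PrimeSpectrum.zeroLocus {eZ i} := by
    rw [P1.point, Scheme.Hom.comp_base, TopCat.coe_comp, Set.range_comp]
    refine congrArg (Set.image (jZ i)) ?_
    refine (range_comap_of_surjective _ _ (evalAway_surjective i)).trans ?_
    rw [ker_evalAway, PrimeSpectrum.zeroLocus_span]
  rw [hr, hp]
  ext p
  simp only [Set.mem_preimage, Set.mem_setOf_eq]
  constructor
  · rintro ⟨q, hq, e⟩
    have hV : p ∈ V X i := ⟨q, trivial, e⟩
    refine ⟨hV, fun hu => ?_⟩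
    have := (mem_other_iff' X i hV).2 hu
    change pr X p ∈ jZ (1 - i) ''ᵁ ⊤ at this
    rw [← e, image_top] at this
    have h' : q ∈ PrimeSpectrum.basicOpen (eZ i) := by rw [← preimage_basicOpen]; exact this
    exact h' (Set.singleton_subset_iff.1 hq)
  · rintro ⟨hV, hu'⟩
    obtain ⟨q, -, e⟩ := id hV
    refine ⟨q, Set.singleton_subset_iff.2 ?_, e⟩
    by_contra hn
    refine hu' ((mem_other_iff' X i hV).1 ?_)
    show pr X p ∈ jZ (1 - i) ''ᵁ ⊤
    rw [← e, image_top]
    have h' : q ∈ PrimeSpectrum.basicOpen (eZ i) := hn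
    rw [← preimage_basicOpen] at h'
    exact h'

theorem sect_mem (i : Fin (1 + 1)) (x : X) : P1.sect X i x ∈ V X i :=
  ((range_sect X i).le ⟨x, rfl⟩).1

theorem ker_point (i : Fin (1 + 1)) (d : Spec (CommRingCat.of P1.R0.{u})) (hd : P1.point i d ∈ jZ i ''ᵁ ⊤) :
    RingHom.ker ((P1.point.{u} i).stalkMap d).hom = Ideal.span {PZ.presheaf.germ _ _ hd (cZ i)} := by
  let q := Spec.map (CommRingCat.ofHom (P1.evalAway.{u} i)) d
  have e : ((jZ i).stalkMap q).hom (PZ.presheaf.germ _ _ hd (cZ i)) = toGerm (eZ i) q := stalkMap_secOf (jZ i) (eZ i) q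
  unfold P1.point
  rw [Scheme.Hom.stalkMap_comp]
  show RingHom.ker (((Spec.map (CommRingCat.ofHom (P1.evalAway.{u} i))).stalkMap d).hom.comp
    ((jZ i).stalkMap q).hom) = _
  rw [← RingHom.comap_ker, ker_specMap (evalAway_surjective i) (ker_evalAway i)]
  have hb := ConcreteCategory.bijective_of_isIso ((jZ i).stalkMap q)
  show Ideal.comap ((jZ i).stalkMap q).hom (Ideal.span {toGerm (eZ i) q}) = _
  rw [← e, ← Set.image_singleton (f := ((jZ i).stalkMap q).hom), ← Ideal.map_span,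
    Ideal.comap_map_of_bijective _ hb]
  rfl

theorem ker_sect (i : Fin (1 + 1)) (x : X) :
    RingHom.ker ((P1.sect X i).stalkMap x).hom =
      Ideal.span {(CohB1.ProjSpaceOver 1 X).presheaf.germ _ (P1.sect X i x) (sect_mem X i x) (c X i)} := by
  have h := isPullback_sect X i
  have key : ∀ (w : X ⟶ CohB1.ProjSpaceOver 1 X), w = P1.sect X i → ∀ hx : w x ∈ V X i,
      RingHom.ker (w.stalkMap x).hom = Ideal.span {(CohB1.ProjSpaceOver 1 X).presheaf.germ _ (w x) hx (c X i)} →
      RingHom.ker ((P1.sect X i).stalkMap x).hom =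
        Ideal.span {(CohB1.ProjSpaceOver 1 X).presheaf.germ _ (P1.sect X i x) (sect_mem X i x) (c X i)} := by
    rintro w rfl hx e
    exact e
  refine key _ h.isoPullback_hom_fst (by
    have := sect_mem X i x
    rwa [← h.isoPullback_hom_fst] at this) ?_
  rw [GysinSq.ker_stalkMap_iso_comp, GysinPb.ker_stalkMap_fst]
  let z := h.isoPullback.hom x
  have hz : pr X (pullback.fst (pr X) (P1.point i) z) = P1.point i (pullback.snd (pr X) (P1.point i) z) :=
    GysinPb.apply_fst_eq _ _ z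
  have hd : P1.point i (pullback.snd (pr X) (P1.point i) z) ∈ jZ i ''ᵁ ⊤ := by
    rw [← hz]
    have := sect_mem X i x
    rw [← h.isoPullback_hom_fst] at this
    exact this
  rw [ker_point i _ hd, Ideal.map_span, Set.image_singleton, GysinPb.baseMap]
  refine congrArg (fun t => Ideal.span {t}) ?_
  rw [germ_c]
  refine congrArg ((pr X).stalkMap (pullback.fst (pr X) (P1.point i) z)).hom ?_
  exact TopCat.Presheaf.germ_stalkSpecializes_apply (C := CommRingCat) (F := PZ.presheaf) hd _ (cZ i)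

end Groth.Agent.H23.P1Sect
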