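import Groth.Agent.H23.MoveLineBound
import Groth.Agent.H23.MoveLinePoint
import Groth.Agent.H23.P1Sect

/-!
# Specialisations of the moved point, and their dimensions
-/

set_option autoImplicit false
set_option linter.style.haveILetI false
set_option linter.unusedSectionVars false
set_option backward.isDefEq.respectTransparency false
set_option backward.isDefEq.respectTransparency.types false

universe u

open CategoryTheory CategoryTheory.Limits AlgebraicGeometry
open MvPolynomial (aeval IsHomogeneous)

noncomputable section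

namespace Groth.Agent.H23.MoveLine

variable {N : ℕ} {K : Type u} [Field K]

local notation "PP" => CohB1.ProjSpace N K
local notation "Pol" => MvPolynomial (Fin (N + 1)) K

/-- The coordinates of the parameter in a chart. -/
def om {L : Type*} [One L] (t : L) (e i : Fin (1 + 1)) : L := if i = e then 1 else t

/-- The chart coordinates. -/
abbrev yc (j : Fin (N + 1)) (l : Fin (N + 1)) : Polynomial (Pj N K j) :=
  Polynomial.C (PnChart.dh N K j (MvPolynomial.X l))

section Residue

variable {L0 : Type u} [Field L0] [Algebra K L0] (g : Fin (N + 1) → Fin (N + 1) → K) (a : Fin (N + 1) → L0)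
  (j0 : Fin (N + 1)) (ha : a j0 = 1)

include ha

/-- A specialisation of the moved point comes from a point of the original subvariety. -/
theorem exists_residue (j : Fin (N + 1)) (e : Fin (1 + 1)) (q : Spec (CommRingCat.of (Polynomial (Pj N K j))))
    (h : xi g a j0 ⤳ cje N K j e q) :
    ∃ (L : Type u) (_ : Field L) (_ : Algebra K L) (v : Polynomial (Pj N K j) →ₐ[K] L) (b : Fin (N + 1) → L)
      (i0 : Fin (N + 1)) (μ : L), RingHom.ker v.toRingHom = q.asIdeal ∧ b i0 = 1 ∧ a i0 ≠ 0 ∧
      (∀ (n : ℕ) (f : Pol), f.IsHomogeneous n → aeval a f = 0 → aeval b f = 0) ∧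
      ∀ l, om (v Polynomial.X) e 0 * b l + om (v Polynomial.X) e 1 * ∑ p, algebraMap K L (g l p) * b p =
        μ * v (yc j l) := by
  classical
  obtain ⟨hj, hker⟩ := ker_le_of_specializes g a j0 ha j e q h
  let φ := evQ g a j e
  let A : Subring (L1 L0) := φ.range
  let P : Ideal A := q.asIdeal.map φ.rangeRestrict
  have hk : RingHom.ker φ.rangeRestrict ≤ q.asIdeal := fun x hx => hker (by
    rw [RingHom.mem_ker] at hx ⊢
    exact congrArg Subtype.val hx)
  haveI : P.IsPrime := Ideal.map_isPrime_of_surjective φ.rangeRestrict_surjective hk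
  obtain ⟨R, hR⟩ := LocalSubring.exists_le_valuationSubring (LocalSubring.ofPrime A P)
  have hAR : ∀ x, φ x ∈ R := fun x => hR.1 (LocalSubring.le_ofPrime A P ⟨x, rfl⟩)
  have hKR : ∀ c : K, algebraMap K (L1 L0) c ∈ R := fun c => by
    have := hAR (Polynomial.C (algebraMap K (Pj N K j) c))
    rwa [show φ (Polynomial.C (algebraMap K (Pj N K j) c)) = algebraMap K (L1 L0) c from
      (Polynomial.eval₂_C _ _).trans (AlgHom.commutes _ c)] at this
  letI : Algebra K R := ((algebraMap K (L1 L0)).codRestrict R hKR).toAlgebra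
  let π : R →+* IsLocalRing.ResidueField R := IsLocalRing.residue R
  letI : Algebra K (IsLocalRing.ResidueField R) := (π.comp (algebraMap K R)).toAlgebra
  let π' : R →ₐ[K] IsLocalRing.ResidueField R := { π with commutes' := fun c => rfl }
  let φR : Polynomial (Pj N K j) →ₐ[K] R :=
    { φ.codRestrict R hAR with
      commutes' := fun c => Subtype.ext (by
        show φ (algebraMap K (Polynomial (Pj N K j)) c) = algebraMap K (L1 L0) c
        rw [IsScalarTower.algebraMap_apply K (Pj N K j) (Polynomial (Pj N K j))]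
        exact (Polynomial.eval₂_C _ _).trans (AlgHom.commutes _ c)) }
  -- the normalisation of the generic coordinates
  let α : Fin (N + 1) → L1 L0 := fun l => ι0 (K := K) (a l)
  obtain ⟨i0, -, hmax⟩ := Finset.exists_max_image Finset.univ (fun l => R.valuation (α l)) Finset.univ_nonempty
  have hα0 : α i0 ≠ 0 := fun h0 => by
    have := hmax j0 (Finset.mem_univ _)
    simp only [h0, map_zero, α, ha, map_one] at this
    exact not_lt.2 this zero_lt_one
  have hb : ∀ l, α l / α i0 ∈ R := fun l => by
    refine (R.valuation_le_one_iff _).1 ?_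
    rw [map_div₀]
    exact (div_le_one₀ (zero_lt_iff.2 ((map_ne_zero R.valuation).2 hα0))).2 (hmax l (Finset.mem_univ _))
  let bR : Fin (N + 1) → R := fun l => ⟨α l / α i0, hb l⟩
  let t := φ Polynomial.X
  have ht : t = wv (1 - e) / wv e := Polynomial.eval₂_X _ _
  have hom : ∀ i, om t e i = wv i / wv e := fun i => by
    rw [om, ht]
    split_ifs with h'
    · rw [h', div_self (wv_ne e)]
    · congr 2
      fin_cases i <;> fin_cases e <;> simp_all
  have hy : ∀ l, φ (yc j l) = mv g a l / mv g a j := fun l => by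
    show Polynomial.eval₂ _ _ (Polynomial.C _) = _
    rw [Polynomial.eval₂_C]
    show evj j (mv g a) _ = _
    by_cases hl : l = j
    · subst hl
      rw [dh_X_self, map_one, div_self hj]
    · simp [PnChart.dh, evj, hl]
  let μ : L1 L0 := mv g a j / wv e / α i0
  have hrel : ∀ l, om t e 0 * (α l / α i0) + om t e 1 * ∑ p, algebraMap K (L1 L0) (g l p) * (α p / α i0) =
      μ * φ (yc j l) := by
    intro l
    have hs : ∑ p, algebraMap K (L1 L0) (g l p) * (α p / α i0) =
        (∑ p, algebraMap K (L1 L0) (g l p) * α p) / α i0 := by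
      rw [Finset.sum_div]
      exact Finset.sum_congr rfl fun p _ => mul_div_assoc' _ _ _
    have hw0 : (wv 0 : L1 L0) = 1 := if_pos rfl
    have hw1 : (wv 1 : L1 L0) = Tv := if_neg (by simp)
    rw [hom, hom, hy, hs, hw0, hw1, mv_eq g a l]
    simp only [μ, α]
    have := wv_ne e (L0 := L0)
    have hα : ι0 (K := K) (a i0) ≠ 0 := hα0
    field_simp
  have hμ : μ ∈ R := by
    have h1 := hrel j
    rw [hy, div_self hj, mul_one] at h1
    rw [← h1]
    have homR : ∀ i, om t e i ∈ R := fun i => by
      rw [om]; split_ifs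
      · exact one_mem _
      · exact hAR _
    exact add_mem (mul_mem (homR 0) (hb j)) (mul_mem (homR 1)
      (sum_mem fun p _ => mul_mem (hKR _) (hb p)))
  refine ⟨IsLocalRing.ResidueField R, inferInstance, inferInstance, π'.comp φR, fun l => π (bR l), i0,
    π ⟨μ, hμ⟩, ?_, ?_, fun h0 => hα0 (by simp [α, h0]), ?_, ?_⟩
  · ext x
    rw [RingHom.mem_ker]
    show π (φR x) = 0 ↔ _
    rw [IsLocalRing.residue_eq_zero_iff]
    let inc : A →+* (LocalSubring.ofPrime A P).toSubring := Subring.inclusion (LocalSubring.le_ofPrime A P)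
    have hloc : IsLocalHom (Subring.inclusion hR.1) := hR.2
    have e1 : (φR x : R) ∈ IsLocalRing.maximalIdeal R ↔
        inc (φ.rangeRestrict x) ∈ IsLocalRing.maximalIdeal (LocalSubring.ofPrime A P).toSubring := by
      rw [IsLocalRing.mem_maximalIdeal, IsLocalRing.mem_maximalIdeal, mem_nonunits_iff, mem_nonunits_iff]
      exact not_congr (isUnit_map_iff (Subring.inclusion hR.1) (inc (φ.rangeRestrict x)))
    rw [e1]
    show algebraMap A (LocalSubring.ofPrime A P).toSubring (φ.rangeRestrict x) ∈ _ ↔ _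
    rw [IsLocalization.AtPrime.to_map_mem_maximal_iff (LocalSubring.ofPrime A P).toSubring P]
    refine ⟨fun hx => ?_, Ideal.mem_map_of_mem _⟩
    obtain ⟨x', hx', heq⟩ := (Ideal.mem_map_iff_of_surjective _ φ.rangeRestrict_surjective).1 hx
    have : x - x' ∈ q.asIdeal := hk (by rw [RingHom.mem_ker, map_sub, heq, sub_self])
    simpa using q.asIdeal.add_mem this hx'
  · show π (bR i0) = 1
    rw [show bR i0 = 1 from Subtype.ext (div_self hα0), map_one]
  · intro n f hf hfa
    have h1 : aeval (fun l => ((bR l : R) : L1 L0)) f = 0 := by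
      have e0 : aeval α f = 0 := by rw [← MvPolynomial.comp_aeval_apply, hfa, map_zero]
      have e2 := ProjPt.eval₂Hom_scale (algebraMap K (L1 L0)) α (fun l => α l / α i0) ((α i0)⁻¹)
        (fun l => div_eq_inv_mul _ _) hf
      exact e2.trans (by rw [show MvPolynomial.eval₂Hom (algebraMap K (L1 L0)) α f = 0 from e0, mul_zero])
    let val : R →ₐ[K] L1 L0 := { R.subtype with commutes' := fun c => rfl }
    have h2 : aeval bR f = (0 : R) := Subtype.ext (by
      show val (aeval bR f) = val 0
      rw [MvPolynomial.comp_aeval_apply, map_zero]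
      exact h1)
    show aeval (fun l => π' (bR l)) f = 0
    rw [← MvPolynomial.comp_aeval_apply, h2, map_zero]
  · intro l
    let omR : Fin (1 + 1) → R := fun i => om (φR Polynomial.X) e i
    have homv : ∀ i, ((omR i : R) : L1 L0) = om t e i := fun i => by
      simp only [omR, om]; split_ifs <;> rfl
    have homπ : ∀ i, π (omR i) = om (π' (φR Polynomial.X)) e i := fun i => by
      simp only [omR, om]; split_ifs
      · exact map_one π
      · rfl
    have h1 : omR 0 * bR l + omR 1 * ∑ p, algebraMap K R (g l p) * bR p = ⟨μ, hμ⟩ * φR (yc j l) :=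
      Subtype.ext (by
        show ((omR 0 : R) : L1 L0) * _ + ((omR 1 : R) : L1 L0) * R.subtype (∑ p, algebraMap K R (g l p) * bR p) = _
        rw [homv, homv, map_sum]
        exact hrel l)
    have h2 := congrArg π h1
    simp only [map_add, map_mul, map_sum, homπ] at h2
    exact h2

end Residue

/-- Chart `1` contains the points off the zero section. -/
theorem exists_cje_one (j : Fin (N + 1)) (e : Fin (1 + 1)) (q : Spec (CommRingCat.of (Polynomial (Pj N K j))))
    (h : e = 0 → Polynomial.X ∉ q.asIdeal) :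
    ∃ q', cje N K j 1 q' = cje N K j e q := by
  have he : e = 0 ∨ e = 1 := by fin_cases e <;> simp
  rcases he with rfl | rfl
  swap
  · exact ⟨q, rfl⟩
  let D := Polynomial (Pj N K j) ⧸ q.asIdeal
  let L := FractionRing D
  let φ : Polynomial (Pj N K j) →ₐ[K] L :=
    (IsScalarTower.toAlgHom K D L).comp (Ideal.Quotient.mkₐ K q.asIdeal)
  let v : Fin (N + 1) → L := fun l => φ (yc j l)
  let w : Fin (1 + 1) → L := fun i => if i = 0 then 1 else φ Polynomial.X
  have hv : v j = 1 := by simp [v, yc, dh_X_self]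
  have hX : φ Polynomial.X ≠ 0 := by
    intro h0
    have : algebraMap D L (Ideal.Quotient.mk _ Polynomial.X) = 0 := h0
    rw [map_eq_zero_iff _ (IsFractionRing.injective D L), Ideal.Quotient.eq_zero_iff_mem] at this
    exact h rfl this
  have key : (Polynomial.eval₂RingHom (evj (K := K) j v).toRingHom (w (1 - 0) / w 0)) = φ.toRingHom := by
    refine Polynomial.ringHom_ext (fun p => ?_) ?_
    · rw [Polynomial.coe_eval₂RingHom, Polynomial.eval₂_C]
      refine AlgHom.congr_fun (MvPolynomial.algHom_ext (f := evj (K := K) j v)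
        (g := φ.comp (IsScalarTower.toAlgHom K (Pj N K j) (Polynomial (Pj N K j)))) fun l => ?_) p
      simp [evj, hv, v, yc, PnChart.dh, l.down.2]
    · simp [w]
  refine ⟨Spec.map (CommRingCat.ofHom (Polynomial.eval₂RingHom (evj (K := K) j v).toRingHom (w (1 - 1) / w 1)))
    (IsLocalRing.closedPoint L), ?_⟩
  show pnt1 (K := K) j 1 v w (IsLocalRing.closedPoint L) = _
  rw [pnt1_indep j j 1 0 v w (by simp [hv]) (by simp [hv]) (by simp [w, hX]) (by simp [w])]
  show cje N K j 0 (Spec.map (CommRingCat.ofHom (Polynomial.eval₂RingHom _ _)) _) = _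
  rw [key]
  congr 1
  refine PrimeSpectrum.ext ?_
  show Ideal.comap φ.toRingHom (IsLocalRing.maximalIdeal L) = q.asIdeal
  rw [IsLocalRing.maximalIdeal_eq_bot]
  ext x
  show algebraMap D L (Ideal.Quotient.mk _ x) = 0 ↔ _
  rw [map_eq_zero_iff _ (IsFractionRing.injective D L), Ideal.Quotient.eq_zero_iff_mem]

/-- Noether normalisation with the dimension as number of variables. -/
theorem exists_noether (A : Type u) [CommRing A] [IsDomain A] [Algebra K A] [Algebra.FiniteType K A] {c : ℕ}
    (hc : ringKrullDim A = c) :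
    ∃ a : MvPolynomial (ULift.{u} (Fin c)) K →ₐ[K] A, a.toRingHom.Finite := by
  obtain ⟨s, gA, hinj, hfin⟩ := exists_finite_inj_algHom_of_fg K A
  letI : Algebra (MvPolynomial (Fin s) K) A := gA.toRingHom.toAlgebra
  haveI : FaithfulSMul (MvPolynomial (Fin s) K) A := (faithfulSMul_iff_algebraMap_injective _ _).2 hinj
  haveI : Module.Finite (MvPolynomial (Fin s) K) A := hfin
  have h1 := VarDim.ringKrullDim_eq_of_isIntegral (R := MvPolynomial (Fin s) K) (S := A)
  rw [MvPolynomial.ringKrullDim_of_isNoetherianRing, ringKrullDim_eq_zero_of_field, zero_add, hc,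
    Nat.card_fin] at h1
  obtain rfl : c = s := by exact_mod_cast h1
  exact ⟨gA.comp (MvPolynomial.renameEquiv K Equiv.ulift).toAlgHom,
    hfin.comp (RingHom.Finite.of_surjective _ (MvPolynomial.renameEquiv K Equiv.ulift).surjective)⟩

/-- Independent elements among generators. -/
theorem exists_algebraicIndependent_gen {D : Type u} [CommRing D] [IsDomain D] [Algebra K D] {G : Type u} [Finite G]
    (gen : G → D) (htop : Algebra.adjoin K (Set.range gen) = ⊤) {m e : ℕ} (hm : Algebra.trdeg K D = m) (he : e ≤ m) :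
    ∃ z : Fin e → G, AlgebraicIndependent K fun i => gen (z i) := by
  haveI : Algebra.IsAlgebraic (Algebra.adjoin K (Set.range gen)) D :=
    ⟨fun x => isAlgebraic_algebraMap (⟨x, htop ▸ Algebra.mem_top⟩ : Algebra.adjoin K (Set.range gen))⟩
  obtain ⟨T, hTs, hT⟩ := exists_isTranscendenceBasis_subset (R := K) (Set.range gen)
  have hTc : Cardinal.mk T = m := hT.cardinalMk_eq_trdeg.trans hm
  have hfinT : T.Finite := (Set.finite_range gen).subset hTs
  obtain ⟨emb⟩ : Nonempty (Fin e ↪ T) := by
    haveI := hfinT.fintype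
    rw [Function.Embedding.nonempty_iff_card_le, Fintype.card_fin]
    rw [Cardinal.mk_fintype, Nat.cast_inj] at hTc
    omega
  choose z hz' using fun i => hTs (emb i).2
  refine ⟨z, ?_⟩
  have := hT.1.comp emb emb.injective
  simpa only [Function.comp_def, hz'] using this

/-- The dimension bound for a general matrix, in a pair of charts. -/
theorem exists_chart_bound (i0 j : Fin (N + 1)) (pA : Ideal (Pj N K i0)) [pA.IsPrime] (pB : Ideal (Pj N K j))
    [pB.IsPrime] {c d : ℕ} (hc : ringKrullDim (Pj N K i0 ⧸ pA) = c) (hd : ringKrullDim (Pj N K j ⧸ pB) = d)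
    (U : Type u) [Fintype U] (S : MvPolynomial U K) {e : ℕ} (he : c + d + Fintype.card U < N + e) :
    ∃ h : MvPolynomial (ULift.{u} (Fin (N + 1) × Fin (N + 1))) K, h ≠ 0 ∧
      ∀ (g : Fin (N + 1) → Fin (N + 1) → K), aeval (fun p : ULift.{u} _ => g p.down.1 p.down.2) h ≠ 0 →
      ∀ (L : Type u) [Field L] [Algebra K L] (v : Polynomial (Pj N K j) →ₐ[K] L) (b : Fin (N + 1) → L) (μ : L),
        b i0 = 1 → (∀ p ∈ pA, evj i0 b p = 0) → (∀ p ∈ pB, v (Polynomial.C p) = 0) →
        (∃ σ : U → L, aeval σ S = v Polynomial.X) →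
        (∀ l, v Polynomial.X * b l + ∑ p, algebraMap K L (g l p) * b p = μ * v (yc j l)) →
          ∃ m : ℕ, ringKrullDim (Polynomial (Pj N K j) ⧸ RingHom.ker v.toRingHom) = m ∧ m < e := by
  classical
  haveI : Algebra.FiniteType K (Pj N K i0 ⧸ pA) :=
    Algebra.FiniteType.of_surjective (Ideal.Quotient.mkₐ K pA) Ideal.Quotient.mk_surjective
  haveI : Algebra.FiniteType K (Pj N K j ⧸ pB) :=
    Algebra.FiniteType.of_surjective (Ideal.Quotient.mkₐ K pB) Ideal.Quotient.mk_surjective
  obtain ⟨fa, hfa⟩ := exists_noether (K := K) (Pj N K i0 ⧸ pA) hc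
  obtain ⟨fb, hfb⟩ := exists_noether (K := K) (Pj N K j ⧸ pB) hd
  let G := Option (PnChart.Idx N j)
  let co : G → MvPolynomial U K ⊕ Fin (N + 1) := fun o => o.elim (Sum.inl S) fun l => Sum.inr l.down.1
  let coP : G → Polynomial (Pj N K j) := fun o => o.elim Polynomial.X fun l => yc j l.down.1
  have H : ∀ z : Fin e → G, ∃ h : MvPolynomial (ULift.{u} (Fin (N + 1) × Fin (N + 1))) K, h ≠ 0 ∧ _ := fun z =>
    exists_line_bound fa hfa fb hfb S (fun l => Ideal.Quotient.mk pA (PnChart.dh N K i0 (MvPolynomial.X l)))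
      (fun l => Ideal.Quotient.mk pB (PnChart.dh N K j (MvPolynomial.X l))) i0
      (by rw [dh_X_self, map_one]) (fun i => co (z i)) (by omega)
  choose h hne hz using H
  refine ⟨∏ z, h z, Finset.prod_ne_zero_iff.2 fun z _ => hne z, fun g hg L _ _ v b μ hb hA hB hS hrel => ?_⟩
  haveI : (RingHom.ker v.toRingHom).IsPrime := RingHom.ker_isPrime _
  let D := Polynomial (Pj N K j) ⧸ RingHom.ker v.toRingHom
  obtain ⟨m, hm, hm'⟩ := VarDim.exists_dim_eq_trdeg K D
  refine ⟨m, hm, not_le.1 fun hle => ?_⟩
  let gen : G → D := fun o => Ideal.Quotient.mk _ (coP o)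
  have htop : Algebra.adjoin K (Set.range gen) = ⊤ := by
    refine top_le_iff.1 fun x _ => ?_
    obtain ⟨x, rfl⟩ := Ideal.Quotient.mk_surjective x
    have hC : ∀ p : Pj N K j, Ideal.Quotient.mk (RingHom.ker v.toRingHom) (Polynomial.C p) ∈
        Algebra.adjoin K (Set.range gen) := fun p => by
      induction p using MvPolynomial.induction_on with
      | C r => exact Subalgebra.algebraMap_mem _ r
      | add p q hp hq => rw [map_add, map_add]; exact add_mem hp hq
      | mul_X p l hp =>
        rw [map_mul, map_mul]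
        refine mul_mem hp (Algebra.subset_adjoin ⟨some l, ?_⟩)
        simp [gen, coP, yc, PnChart.dh, l.down.2]
    induction x using Polynomial.induction_on with
    | C p => exact hC p
    | add p q hp hq => rw [map_add]; exact add_mem (hp trivial) (hq trivial)
    | monomial n p h' =>
      rw [pow_succ, ← mul_assoc, map_mul]
      exact mul_mem (h' trivial) (Algebra.subset_adjoin ⟨none, rfl⟩)
  obtain ⟨z, hind⟩ := exists_algebraicIndependent_gen gen htop hm' hle
  let ψ : D →ₐ[K] L := Ideal.Quotient.liftₐ _ v fun x hx => hx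
  have hψ : Function.Injective ψ := by
    rw [injective_iff_map_eq_zero]
    rintro ⟨x⟩ hx
    exact Ideal.Quotient.eq_zero_iff_mem.2 hx
  have hind' := (AlgHom.algebraicIndependent_iff ψ hψ).2 hind
  obtain ⟨σ, hσ⟩ := hS
  let fA : (Pj N K i0 ⧸ pA) →ₐ[K] L := Ideal.Quotient.liftₐ pA (evj i0 b) hA
  let fB : (Pj N K j ⧸ pB) →ₐ[K] L :=
    Ideal.Quotient.liftₐ pB (v.comp (IsScalarTower.toAlgHom K (Pj N K j) (Polynomial (Pj N K j)))) hB
  have hfAx : ∀ l, fA (Ideal.Quotient.mk pA (PnChart.dh N K i0 (MvPolynomial.X l))) = b l := fun l => by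
    show evj i0 b (PnChart.dh N K i0 (MvPolynomial.X l)) = _
    by_cases hl : l = i0
    · subst hl; rw [dh_X_self, map_one, hb]
    · simp [PnChart.dh, evj, hl, hb]
  have hfBy : ∀ l, fB (Ideal.Quotient.mk pB (PnChart.dh N K j (MvPolynomial.X l))) = v (yc j l) := fun l => rfl
  have := hz z L fA fB σ μ g (fun l => by simp only [hσ, hfAx, hfBy]; exact hrel l)
    ((Finset.prod_ne_zero_iff.1 (by rwa [map_prod] at hg)) z (Finset.mem_univ z))
  refine this ?_
  convert hind' using 1
  funext i
  show _ = v (coP (z i))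
  rcases z i with _ | l
  · simp [co, coP, hσ]
  · simp [co, coP]
    rfl

end Groth.Agent.H23.MoveLine
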