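import Groth.Agent.H23.CurveRegular
import Groth.Agent.H23.StalkPrimes
import Groth.Agent.H23.SetupLFT
import Groth.Agent.H23.RatSec
import Groth.Agent.CycLib.Div
import Groth.Agent.CycLib.P1Div
import Groth.Agent.GrpSchLib.SmoothRegular
import Groth.Agent.GalDescX.SchemeQuot
import Groth.Agent.ProjCl17.HProj
import Groth.Prelude.Def_RelProj
import Mathlib.RingTheory.Ideal.Quotient.Operations
import Mathlib.Topology.NoetherianSpace
import Mathlib.RingTheory.Length

/-! Moving zero cycles into a given open. -/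

set_option autoImplicit false
set_option linter.style.haveILetI false
set_option backward.isDefEq.respectTransparency false
set_option backward.isDefEq.respectTransparency.types false

universe u

open AlgebraicGeometry CategoryTheory IsLocalRing TopologicalSpace

namespace Groth.Agent.H23.MoveZero

open Groth.Agent CDiv6 StalkPrimes

variable {X : Scheme.{u}}

theorem algebraMap_ordFrac_one [IsLocallyNoetherian X] {δ : X → ℤ} (hd : Cyc.IsDimFun X δ) {x ξ : X}
    (h : ξ ⤳ x) (hx : δ x + 1 = δ ξ) {a : X.presheaf.stalk x}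
    (hgen : ∀ b ∈ maximalIdeal (X.presheaf.stalk x),
      ∃ c, Ideal.Quotient.mk (RingHom.ker (Cyc.specMap x ξ h)) b = c * Ideal.Quotient.mk _ a)
    (ha : a ∈ maximalIdeal (X.presheaf.stalk x)) (ha0 : Cyc.specMap x ξ h a ≠ 0) :
    Cyc.ordAt x ξ h (Cyc.specMap x ξ h a) = 1 := by
  let π := Ideal.Quotient.mk (RingHom.ker (Cyc.specMap x ξ h))
  have hne : π a ≠ 0 := fun e => ha0 (Ideal.Quotient.eq_zero_iff_mem.1 e)
  rw [← CycLib.algebraMap_locQuot_mk, CycLib.ordAt_algebraMap hd h hx hne]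
  have hker : RingHom.ker (Cyc.specMap x ξ h) ≤ maximalIdeal (X.presheaf.stalk x) :=
    IsLocalRing.le_maximalIdeal (RingHom.ker_ne_top _)
  have he : Ideal.span {π a} = (maximalIdeal (X.presheaf.stalk x)).map π := by
    refine le_antisymm ((Ideal.span_singleton_le_iff_mem _).2 (Ideal.mem_map_of_mem π ha)) ?_
    refine Ideal.map_le_iff_le_comap.2 fun b hb => ?_
    obtain ⟨c, hc⟩ := hgen b hb
    exact Ideal.mem_span_singleton'.2 ⟨c, hc.symm⟩
  haveI : (Ideal.span {π a}).IsMaximal := he ▸ Ideal.IsMaximal.map_of_surjective_of_ker_le Ideal.Quotient.mk_surjective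
    (by rw [Ideal.mk_ker]; exact hker)
  haveI : IsSimpleModule (Cyc.LocQuot x ξ h) (Cyc.LocQuot x ξ h ⧸ Ideal.span {π a}) :=
    isSimpleModule_iff_isCoatom.2 (Ideal.IsMaximal.out)
  rw [Ring.ord, Module.length_eq_one]
  rfl

/-- A finite set all of whose points are closed. -/
theorem finite_of_closed_points {T : Type*} [TopologicalSpace T] [NoetherianSpace T] [QuasiSober T] {S : Set T}
    (hS : IsClosed S) (hpts : ∀ x ∈ S, IsClosed ({x} : Set T)) : S.Finite := by
  obtain ⟨F, hFfin, hFc, hFi, hFu⟩ := NoetherianSpace.exists_finite_set_isClosed_irreducible hS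
  rw [hFu]
  refine hFfin.sUnion fun Z hZ => ?_
  obtain ⟨g, hg⟩ := QuasiSober.sober (hFi Z hZ) (hFc Z hZ)
  have hgS : g ∈ S := hFu ▸ ⟨Z, hZ, hg.mem⟩
  refine (Set.finite_singleton g).subset fun y hy => ?_
  rw [← hg.def, (hpts g hgS).closure_eq] at hy
  exact hy

/-- The divisor of a function with prescribed orders at finitely many closed points. -/
theorem exists_curve_fun {k : Type u} [Field k] [Infinite k] (f : X ⟶ Spec (CommRingCat.of k))
    [LocallyOfFiniteType f] [Smooth f] [IsIntegral X] [NoetherianSpace X] {δ : X → ℤ} (hd : Cyc.IsDimFun X δ)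
    (hnn : ∀ x, 0 ≤ δ x) (hAF : ∀ T : Set X, T.Finite → ∃ U : X.Opens, IsAffineOpen U ∧ T ⊆ U)
    (U : X.Opens) (hU : (U : Set X).Nonempty) {p : X} (hp : δ p = 0) (hpU : p ∉ U) :
    ∃ (η : X) (φ : X.residueField η), φ ≠ 0 ∧ δ η = 1 ∧ Cyc.divFun δ η φ p = 1 ∧
      ∀ x, x ∉ U → x ≠ p → Cyc.divFun δ η φ x = 0 := by
  haveI : IsLocallyNoetherian X := LocallyOfFiniteType.isLocallyNoetherian f
  haveI := GrpSchLib.isRegularLocalRing_stalk_of_smooth f p
  let R := X.presheaf.stalk p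
  obtain ⟨V, hV, hpV, -⟩ := exists_isAffineOpen_mem_and_subset (x := p) (U := ⊤) trivial
  let σ : k →+* R := ((Scheme.ΓSpecIso (CommRingCat.of k)).inv ≫ f.appTop ≫ X.presheaf.germ ⊤ p trivial).hom
  have hgen : genericPoint X ∈ U := ((genericPoint_spec X).mem_open_set_iff U.2).2 (by simpa using hU)
  obtain ⟨I, hI⟩ := (PrimeSpectrum.isClosed_iff_zeroLocus_ideal (X.fromSpecStalk p ⁻¹' (U : Set X)ᶜ)).1
    (U.2.isClosed_compl.preimage (X.fromSpecStalk p).continuous)
  have hI0 : I ≠ ⊥ := by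
    rintro rfl
    rw [Submodule.bot_coe, PrimeSpectrum.zeroLocus_singleton_zero] at hI
    have h1 : primeOf (genericPoint_specializes p) ∈ X.fromSpecStalk p ⁻¹' (U : Set X)ᶜ := hI.ge (Set.mem_univ _)
    rw [Set.mem_preimage, fromSpecStalk_primeOf] at h1
    exact h1 hgen
  obtain ⟨g, hgI, hg0⟩ := Submodule.exists_mem_ne_zero_of_ne_bot hI0
  have hgm : g ∈ maximalIdeal R := by
    have h1 : (primeOf (specializes_rfl (x := p))) ∈ X.fromSpecStalk p ⁻¹' (U : Set X)ᶜ := by
      rw [Set.mem_preimage, fromSpecStalk_primeOf]; exact hpU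
    have h2 := hI.le h1 hgI
    exact IsLocalRing.le_maximalIdeal (Ideal.IsPrime.ne_top (primeOf specializes_rfl).2) h2
  obtain ⟨P, hP, hgP, hreg, hdim⟩ := CurveRegular.exists_curve σ hgm hg0
  haveI := hreg
  obtain ⟨η, hη, hηP⟩ := exists_point (X := X) P
  have hηU : η ∈ U := by
    by_contra hc
    have h1 : primeOf hη ∈ X.fromSpecStalk p ⁻¹' (U : Set X)ᶜ := by
      rw [Set.mem_preimage, fromSpecStalk_primeOf]; exact hc
    exact hgP (hηP ▸ hI.le h1 hgI)
  have hker : RingHom.ker (Cyc.specMap p η hη) = P := (CycLib.ker_specMap hη).trans hηP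
  have hδη : δ η = 1 := by
    have h1 := CycLib.ringKrullDim_locQuot hη
    rw [ringKrullDim_eq_of_ringEquiv (Ideal.quotEquivOfEq hker), hdim] at h1
    have h2 : DimFormula.cd η p = 1 := by exact_mod_cast h1.symm
    have h3 := CycLib.cd_eq hd hη
    rw [h2, hp] at h3
    push_cast at h3
    omega
  have hT : (closure {η} ∩ (U : Set X)ᶜ).Finite := by
    refine finite_of_closed_points (isClosed_closure.inter U.2.isClosed_compl) fun x ⟨hx, hxU⟩ => ?_
    have hsp : η ⤳ x := specializes_iff_mem_closure.2 hx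
    have hlt := CycLib.delta_lt hd hsp fun e => hxU (e ▸ hηU)
    refine closure_subset_iff_isClosed.1 fun y hy => ?_
    by_contra hne
    have h4 := CycLib.delta_lt hd (specializes_iff_mem_closure.2 hy) (fun e => hne e.symm)
    have := hnn y
    omega
  obtain ⟨O, hO, hTO⟩ := hAF (insert p (closure {η} ∩ (U : Set X)ᶜ)) (hT.insert p)
  have hpO : p ∈ O := hTO (Set.mem_insert _ _)
  letI := X.presheaf.algebra_section_stalk ⟨p, hpO⟩
  haveI := hO.isLocalization_stalk ⟨p, hpO⟩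
  let M := (hO.primeIdealOf ⟨p, hpO⟩).asIdeal
  have hclosed : ∀ x ∈ insert p (closure {η} ∩ (U : Set X)ᶜ), IsClosed ({x} : Set X) := by
    intro x hx
    refine closure_subset_iff_isClosed.1 fun y hy => ?_
    by_contra hne
    have h4 := CycLib.delta_lt hd (specializes_iff_mem_closure.2 hy) (fun e => hne e.symm)
    have := hnn y
    rcases hx with rfl | ⟨hx, hxU⟩
    · omega
    · have := CycLib.delta_lt hd (specializes_iff_mem_closure.2 hx) fun e => hxU (e ▸ hηU)
      omega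
  haveI hM : M.IsMaximal := hO.primeIdealOf_isMaximal_of_isClosed ⟨p, hpO⟩ (hclosed p (Set.mem_insert _ _))
  -- a generator of the maximal ideal of the curve germ
  haveI : IsLocalRing (R ⧸ P) := inferInstance
  obtain ⟨π, hπ⟩ : ∃ π, maximalIdeal (R ⧸ P) = Ideal.span {π} := by
    have h1 := IsRegularLocalRing.spanFinrank_maximalIdeal (R := R ⧸ P)
    rw [hdim] at h1
    have h2 : (maximalIdeal (R ⧸ P)).spanFinrank = 1 := by exact_mod_cast h1
    obtain ⟨s, hs, hspan⟩ := Submodule.FG.exists_span_set_encard_eq_spanFinrank (IsNoetherian.noetherian (maximalIdeal (R ⧸ P)))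
    rw [h2, Nat.cast_one] at hs
    obtain ⟨π, rfl⟩ := Set.encard_eq_one.1 hs
    exact ⟨π, hspan.symm⟩
  obtain ⟨a, rfl⟩ := Ideal.Quotient.mk_surjective π
  have hmR : (maximalIdeal R).map (Ideal.Quotient.mk P) = maximalIdeal (R ⧸ P) :=
    IsLocalRing.map_maximalIdeal_of_surjective _ Ideal.Quotient.mk_surjective
  have ha : a ∈ maximalIdeal R := by
    have h1 : Ideal.Quotient.mk P a ∈ maximalIdeal (R ⧸ P) := hπ.ge (Ideal.mem_span_singleton_self _)
    rw [mem_maximalIdeal, mem_nonunits_iff] at h1 ⊢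
    exact fun hu => h1 (hu.map _)
  obtain ⟨⟨b, s⟩, hbs⟩ := IsLocalization.surj M.primeCompl a
  obtain ⟨t, ht⟩ : ∃ t : Γ(X, O), (s : Γ(X, O)) * t - 1 ∈ M ^ 2 := by
    have h1 : M ^ 2 ⊔ Ideal.span {(s : Γ(X, O))} = ⊤ := by
      by_contra h
      obtain ⟨N, hN, hle⟩ := Ideal.exists_le_maximal _ h
      have hMN : M ≤ N := fun y hy => hN.isPrime.mem_of_pow_mem 2 (hle (Ideal.mem_sup_left (Ideal.pow_mem_pow hy 2)))
      rw [← hM.eq_of_le hN.ne_top hMN] at hle
      exact s.2 (hle (Ideal.mem_sup_right (Ideal.mem_span_singleton_self _)))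
    obtain ⟨u, hu, v, hv, huv⟩ := Submodule.mem_sup.1 (h1.ge (Submodule.mem_top (x := (1 : Γ(X, O)))))
    obtain ⟨t, rfl⟩ := Ideal.mem_span_singleton'.1 hv
    refine ⟨t, ?_⟩
    have e : (s : Γ(X, O)) * t - 1 = - u := by linear_combination huv
    rw [e]
    exact neg_mem hu
  classical
  let F : Finset X := hT.toFinset.erase p
  have hFO : ∀ x ∈ F, x ∈ O := fun x hx => hTO (Set.mem_insert_of_mem _ (hT.mem_toFinset.1 (Finset.mem_erase.1 hx).2))
  let N : X → Ideal Γ(X, O) := fun x => if hx : x ∈ O then (hO.primeIdealOf ⟨x, hx⟩).asIdeal else ⊤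
  have hN : M ^ 2 ⊔ F.inf N = ⊤ := by
    by_contra h
    obtain ⟨m, hm, hle⟩ := Ideal.exists_le_maximal _ h
    have hMm : M = m := hM.eq_of_le hm.ne_top fun y hy =>
      hm.isPrime.mem_of_pow_mem 2 (hle (Ideal.mem_sup_left (Ideal.pow_mem_pow hy 2)))
    obtain ⟨x, hx, hxm⟩ := hm.isPrime.inf_le'.1 ((le_sup_right (a := M ^ 2)).trans hle)
    simp only [N, dif_pos (hFO x hx)] at hxm
    haveI := hO.primeIdealOf_isMaximal_of_isClosed ⟨x, hFO x hx⟩
      (hclosed x (Set.mem_insert_of_mem _ (hT.mem_toFinset.1 (Finset.mem_erase.1 hx).2)))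
    have h1 := Ideal.IsMaximal.eq_of_le inferInstance hm.ne_top hxm
    rw [← hMm] at h1
    have h2 : (⟨x, hFO x hx⟩ : O) = ⟨p, hpO⟩ := hO.isoSpec.hom.homeomorph.injective (PrimeSpectrum.ext h1)
    exact (Finset.mem_erase.1 hx).1 (congrArg Subtype.val h2)
  obtain ⟨u, hu, v, hv, huv⟩ := Submodule.mem_sup.1 (hN.ge (Submodule.mem_top (x := (1 : Γ(X, O)))))
  let φ₀ : Γ(X, O) := b * t * v + u
  have hφp : X.presheaf.germ O p hpO φ₀ - a ∈ maximalIdeal R ^ 2 := by
    show algebraMap Γ(X, O) R φ₀ - a ∈ _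
    have hM2 : ∀ y ∈ M ^ 2, algebraMap Γ(X, O) R y ∈ maximalIdeal R ^ 2 := fun y hy => by
      rw [← IsLocalization.AtPrime.map_eq_maximalIdeal M R, ← Ideal.map_pow]
      exact Ideal.mem_map_of_mem _ hy
    have e : algebraMap Γ(X, O) R φ₀ - a = a * algebraMap Γ(X, O) R ((s : Γ(X, O)) * t - 1) +
        algebraMap Γ(X, O) R (u * (1 - b * t)) := by
      have hv' : v = 1 - u := by linear_combination huv
      simp only [φ₀, hv', map_add, map_mul, map_sub, map_one]
      linear_combination -(algebraMap Γ(X, O) R t) * hbs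
    rw [e]
    exact add_mem (Ideal.mul_mem_left _ _ (hM2 _ ht)) (hM2 _ (Ideal.mul_mem_right _ _ hu))
  -- the value at the generic point of the curve
  have hηO : η ∈ O := hη.mem_open O.2 hpO
  let q := Ideal.Quotient.mk P
  obtain ⟨c, hc⟩ : ∃ c, q (X.presheaf.germ O p hpO φ₀) = q a * (1 + q a * c) := by
    have h1 : q (X.presheaf.germ O p hpO φ₀ - a) ∈ Ideal.span {q a * q a} := by
      rw [← Ideal.span_singleton_mul_span_singleton, ← hπ, ← hmR, ← Ideal.map_mul, ← pow_two]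
      exact Ideal.mem_map_of_mem _ hφp
    obtain ⟨c, hc⟩ := Ideal.mem_span_singleton'.1 h1
    exact ⟨c, by rw [map_sub] at hc; linear_combination -hc⟩
  have hunit : IsUnit (1 + q a * c) := by
    by_contra hnu
    have h1 : q a * c ∈ maximalIdeal (R ⧸ P) := Ideal.mul_mem_right _ _ (hπ.ge (Ideal.mem_span_singleton_self _))
    have := sub_mem ((mem_maximalIdeal _).2 hnu) h1
    rw [add_sub_cancel_right] at this
    exact (maximalIdeal.isMaximal (R ⧸ P)).ne_top ((Ideal.eq_top_iff_one _).2 this)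
  have hqa : q a ≠ 0 := by
    intro h0
    rw [Ideal.span_singleton_eq_bot.2 h0] at hπ
    have h1 := IsRegularLocalRing.spanFinrank_maximalIdeal (R := R ⧸ P)
    rw [hdim, hπ, Submodule.spanFinrank_bot] at h1
    exact absurd h1 (by norm_num)
  have hφ0 : Cyc.specMap p η hη (X.presheaf.germ O p hpO φ₀) ≠ 0 := fun h0 => by
    haveI := RegLoc6.isDomain_of_isRegularLocalRing (R ⧸ P)
    have h1 : q (X.presheaf.germ O p hpO φ₀) = 0 := Ideal.Quotient.eq_zero_iff_mem.2 (hker ▸ h0)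
    rw [hc] at h1
    exact mul_ne_zero hqa hunit.ne_zero h1
  refine ⟨η, X.evaluation O η hηO φ₀, ?_, hδη, ?_, ?_⟩
  · rwa [← CycLib.specMap_germ hη O hpO]
  · rw [CycLib.divFun_eq δ _ hη (by omega), ← CycLib.specMap_germ hη O hpO]
    have hmem : X.presheaf.germ O p hpO φ₀ ∈ maximalIdeal R := by
      have h1 := add_mem (Ideal.pow_le_self two_ne_zero hφp) ha
      rwa [sub_add_cancel] at h1
    refine algebraMap_ordFrac_one hd hη (by omega) (fun y hy => ?_) hmem hφ0
    obtain ⟨e, he⟩ := Ideal.mem_span_singleton'.1 (hπ.le (hmR ▸ Ideal.mem_map_of_mem q hy))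
    obtain ⟨w, hw⟩ := hunit
    obtain ⟨d, hd'⟩ := Ideal.Quotient.mk_surjective (I := P) (e * (w⁻¹ : (R ⧸ P)ˣ))
    refine ⟨Ideal.Quotient.mk _ d, ?_⟩
    rw [← map_mul, Ideal.Quotient.eq, hker, ← Ideal.Quotient.eq]
    show q y = q (d * _)
    rw [map_mul, hc, ← hw, show q d = _ from hd', mul_comm (q a), ← mul_assoc, mul_assoc e, Units.inv_mul, mul_one, he]
  · intro x hxU hxp
    by_cases h : η ⤳ x ∧ δ x + 1 = δ η
    swap
    · exact dif_neg h
    have hxT : x ∈ closure {η} ∩ (U : Set X)ᶜ := ⟨specializes_iff_mem_closure.1 h.1, hxU⟩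
    have hxF : x ∈ F := Finset.mem_erase.2 ⟨hxp, hT.mem_toFinset.2 hxT⟩
    rw [CycLib.divFun_eq δ _ h.1 h.2, ← CycLib.specMap_germ h.1 O (hFO x hxF)]
    refine CycLib.ordAt_eq_zero_of_isUnit hd h.1 h.2 ?_
    letI := X.presheaf.algebra_section_stalk ⟨x, hFO x hxF⟩
    haveI := hO.isLocalization_stalk ⟨x, hFO x hxF⟩
    refine IsLocalization.map_units (X.presheaf.stalk x) (⟨φ₀, fun hmem => ?_⟩ :
      (hO.primeIdealOf ⟨x, hFO x hxF⟩).asIdeal.primeCompl)
    have hvN : v ∈ (hO.primeIdealOf ⟨x, hFO x hxF⟩).asIdeal := by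
      have := Finset.inf_le (f := N) hxF hv
      simpa only [N, dif_pos (hFO x hxF)] using this
    have h1 : u ∈ (hO.primeIdealOf ⟨x, hFO x hxF⟩).asIdeal := by
      have := sub_mem hmem (Ideal.mul_mem_left _ (b * t) hvN)
      simpa [φ₀] using this
    have h2 := add_mem h1 hvN
    rw [huv] at h2
    exact (hO.primeIdealOf ⟨x, hFO x hxF⟩).2.ne_top ((Ideal.eq_top_iff_one _).2 h2)

/-- Every zero cycle moves into a given non-empty open. -/
theorem exists_move {k : Type u} [Field k] [Infinite k] (f : X ⟶ Spec (CommRingCat.of k)) [LocallyOfFiniteType f]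
    [Smooth f] [IsIntegral X] [CompactSpace X] (δ : X → ℤ) (hδ : Cyc.DeltaCompat f δ (fun _ => 0))
    (hAF : ∀ T : Set X, T.Finite → ∃ U : X.Opens, IsAffineOpen U ∧ T ⊆ U) (U : X.Opens) (hU : (U : Set X).Nonempty)
    (z : AlgebraicCycle X ℤ) (hz : ∀ x, δ x ≠ 0 → z x = 0) :
    ∃ z' : AlgebraicCycle X ℤ, (∀ x, δ x ≠ 0 → z' x = 0) ∧ (∀ w, z' w ≠ 0 → w ∈ U) ∧ Cyc.RatEquiv δ 0 z z' := by
  classical
  have hS : Cyc.IsSetup X δ := SetupLFT.isSetup f (CycLib.isSetup_spec_field k) hδ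
  haveI := hS.1
  haveI : IsNoetherian X := ⟨⟩
  have hnn : ∀ x, 0 ≤ δ x := fun x => by obtain ⟨n, -, hn⟩ := hδ x; simp only at hn; omega
  have hfin : (Function.support ⇑z).Finite := by
    choose N hN hNf using fun x : X => z.supportLocallyFiniteWithinDomain' x trivial
    obtain ⟨s, hs⟩ := isCompact_univ.elim_nhds_subcover N fun x _ => hN x
    refine (s.finite_toSet.biUnion fun x _ => hNf x).subset fun y hy => ?_
    obtain ⟨x, hx, hyx⟩ := Set.mem_iUnion₂.1 (hs.2 (Set.mem_univ y))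
    exact Set.mem_iUnion₂.2 ⟨x, hx, hyx, hy⟩
  let B : Finset X := hfin.toFinset.filter fun x => x ∉ U
  have hB : ∀ p : {p // p ∈ B}, δ p.1 = 0 ∧ p.1 ∉ U := fun p => by
    obtain ⟨h1, h2⟩ := Finset.mem_filter.1 p.2
    exact ⟨by_contra fun h => (hfin.mem_toFinset.1 h1) (hz _ h), h2⟩
  choose η φ hφ hη hp hoff using fun p : {p // p ∈ B} =>
    exists_curve_fun f hS.2.2 hnn hAF U hU (hB p).1 (hB p).2
  let z' : AlgebraicCycle X ℤ := z - ∑ p : {p // p ∈ B}, z p.1 • CycLib.divCycle hS.2.2 (η p) (φ p) (hφ p)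
  have hz' : ∀ x, z' x = z x - ∑ p : {p // p ∈ B}, z p.1 * Cyc.divFun δ (η p) (φ p) x := fun x => by
    simp only [z', Function.locallyFinsuppWithin.coe_sub, Pi.sub_apply, Function.locallyFinsuppWithin.coe_sum,
      Finset.sum_apply, Function.locallyFinsuppWithin.coe_zsmul, Pi.smul_apply, CycLib.coe_divCycle, smul_eq_mul]
  have hdeg : ∀ x, δ x ≠ 0 → ∀ p, Cyc.divFun δ (η p) (φ p) x = 0 := fun x hx p => dif_neg fun h => hx (by
    have := hη p; omega)
  refine ⟨z', fun x hx => ?_, fun w hw => ?_, ?_⟩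
  · rw [hz', hz x hx, Finset.sum_eq_zero fun p _ => by rw [hdeg x hx p, mul_zero], sub_zero]
  · by_contra hwU
    refine hw ?_
    rw [hz']
    by_cases hwB : w ∈ B
    · rw [Finset.sum_eq_single (⟨w, hwB⟩ : {p // p ∈ B}) (fun p _ hne => by
        rw [hoff p w hwU fun e => hne (Subtype.ext e.symm), mul_zero])
        (fun h => absurd (Finset.mem_univ _) h)]
      show z w - z w * Cyc.divFun δ (η ⟨w, hwB⟩) (φ ⟨w, hwB⟩) w = 0
      rw [hp ⟨w, hwB⟩, mul_one, sub_self]
    · have h0 : z w = 0 := by_contra fun h => hwB (Finset.mem_filter.2 ⟨hfin.mem_toFinset.2 h, hwU⟩)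
      rw [h0, Finset.sum_eq_zero fun p _ => by
        rw [hoff p w hwU fun e => hwB (e ▸ p.2), mul_zero], sub_zero]
  · refine ⟨{p // p ∈ B}, η, fun p => φ p ^ z p.1, fun p => by rw [hη p]; norm_num,
      fun p => zpow_ne_zero _ (hφ p), fun x => ⟨Set.univ, isOpen_univ, trivial, Set.toFinite _⟩, fun x => ?_⟩
    rw [Function.locallyFinsuppWithin.coe_sub, Pi.sub_apply, hz', sub_sub_cancel, finsum_eq_sum_of_fintype]
    exact Finset.sum_congr rfl fun p _ => (RatSec.divFun_zpow hS.2.2 (hφ p) _ x).symm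

end Groth.Agent.H23.MoveZero
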