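import Groth.Agent.H23.CapFlat
import Groth.Agent.H23.FibreVanish
import Groth.Prelude.Def_AlgEqCyc

/-!
Multiplicities of fibres: invariance under immersions, and transitivity along a regular curve in the base.
-/

set_option autoImplicit false
set_option linter.style.haveILetI false
set_option backward.isDefEq.respectTransparency false

universe u

open AlgebraicGeometry CategoryTheory IsLocalRing
open scoped Pointwise TensorProduct

namespace Groth.Agent.H23.MultTrans

open Groth.Agent CDiv6 StalkPrimes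

variable {P S : Scheme.{u}} (g : P ⟶ S)

/-- The ideal cutting the fibre on the closure of `ξ`. -/
noncomputable def fibIdeal {x ξ : P} (h : ξ ⤳ x) : Ideal (P.presheaf.stalk x) :=
  (primeOf h).asIdeal ⊔ (maximalIdeal (S.presheaf.stalk (g x))).map (g.stalkMap x).hom

theorem fibreMult_eq {x ξ : P} (h : ξ ⤳ x) :
    AlgEqCyc.fibreMult g x ξ h =
      (Module.length (P.presheaf.stalk x) (P.presheaf.stalk x ⧸ fibIdeal g h)).toNat := by
  unfold AlgEqCyc.fibreMult
  congr 1
  rw [← Ideal.map_map]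
  have e : fibIdeal g h = RingHom.ker (Cyc.specMap x ξ h) ⊔
      (maximalIdeal (S.presheaf.stalk (g x))).map (g.stalkMap x).hom := by
    rw [fibIdeal, CycLib.ker_specMap]
  rw [e]
  exact (DoubleQuot.quotQuotEquivQuotSupₐ (P.presheaf.stalk x) _ _).toLinearEquiv.length_eq

theorem fibreMult_congr {x x' ξ ξ' : P} (ex : x' = x) (eξ : ξ' = ξ) (h' : ξ' ⤳ x') (h : ξ ⤳ x) :
    AlgEqCyc.fibreMult g x' ξ' h' = AlgEqCyc.fibreMult g x ξ h := by
  subst ex eξ
  rfl

/-- Fibre multiplicities do not see immersions of the family. -/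
theorem fibreMult_preimmersion {P' S' : Scheme.{u}} (g' : P' ⟶ S') (j : P' ⟶ P) [IsPreimmersion j] (e : S' ⟶ S)
    [IsPreimmersion e] (w : g' ≫ e = j ≫ g) {x ξ : P'} (h : ξ ⤳ x) :
    AlgEqCyc.fibreMult g' x ξ h = AlgEqCyc.fibreMult g (j x) (j ξ) (h.map j.continuous) := by
  rw [fibreMult_eq, fibreMult_eq]
  congr 1
  let O := P.presheaf.stalk (j x)
  let O' := P'.presheaf.stalk x
  let φ : O →+* O' := (j.stalkMap x).hom
  have hφ : Function.Surjective φ := j.stalkMap_surjective x
  let J := fibIdeal g (h.map j.continuous)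
  have hcomp : ∀ (u : P' ⟶ S), u = j ≫ g →
      (maximalIdeal (S.presheaf.stalk (u x))).map (u.stalkMap x).hom =
        ((maximalIdeal (S.presheaf.stalk (g (j x)))).map (g.stalkMap (j x)).hom).map φ := by
    rintro u rfl
    rw [Scheme.Hom.stalkMap_comp, CommRingCat.hom_comp, ← Ideal.map_map]
    rfl
  have hm : (maximalIdeal (S'.presheaf.stalk (g' x))).map (g'.stalkMap x).hom =
      ((maximalIdeal (S.presheaf.stalk (g (j x)))).map (g.stalkMap (j x)).hom).map φ := by
    rw [← hcomp _ w, Scheme.Hom.stalkMap_comp]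
    show _ = (maximalIdeal _).map ((g'.stalkMap x).hom.comp (e.stalkMap (g' x)).hom)
    exact (congrArg (Ideal.map (g'.stalkMap x).hom)
      (IsLocalRing.map_maximalIdeal_of_surjective _ (e.stalkMap_surjective (g' x)))).symm.trans (Ideal.map_map _ _)
  have hp : (primeOf h).asIdeal = (primeOf (h.map j.continuous)).asIdeal.map φ := by
    rw [← comap_primeOf j h, Ideal.map_comap_of_surjective _ hφ]
  have hJ : fibIdeal g' h = J.map φ := by
    rw [show J = (primeOf (h.map j.continuous)).asIdeal ⊔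
      (maximalIdeal (S.presheaf.stalk (g (j x)))).map (g.stalkMap (j x)).hom from rfl, Ideal.map_sup, ← hp, ← hm]
    rfl
  have hker : RingHom.ker φ ≤ J := by
    refine le_trans ?_ le_sup_left
    rw [← comap_primeOf j h]
    intro a ha
    rw [Ideal.mem_comap]
    exact (RingHom.mem_ker.1 ha : φ a = 0) ▸ (primeOf h).asIdeal.zero_mem
  rw [hJ]
  letI := φ.toAlgebra
  let f : O →ₗ[O] O' ⧸ J.map φ := Algebra.linearMap O (O' ⧸ J.map φ)
  have hf : Function.Surjective f := Ideal.Quotient.mk_surjective.comp hφ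
  have hfk : LinearMap.ker f = J := by
    ext a
    rw [LinearMap.mem_ker]
    refine Ideal.Quotient.eq_zero_iff_mem.trans ?_
    show φ a ∈ J.map φ ↔ _
    rw [← Ideal.mem_comap, Ideal.comap_map_of_surjective _ hφ, ← RingHom.ker_eq_comap_bot, sup_eq_left.2 hker]
  rw [← Module.length_eq_of_surjective (S := O) (R := O') (M := O' ⧸ J.map φ) hφ]
  exact ((Submodule.quotEquivOfEq _ _ hfk.symm).trans (f.quotKerEquivOfSurjective hf)).length_eq.symm

/-- An element regular modulo an ideal of the base stays regular along a flat map. -/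
theorem mem_map_of_smul_mem {B R : Type u} [CommRing B] [CommRing R] [Algebra B R] [Module.Flat B R] (I : Ideal B)
    {σ : B} (hσ : ∀ b, σ * b ∈ I → b ∈ I) {a : R} (ha : algebraMap B R σ * a ∈ I.map (algebraMap B R)) :
    a ∈ I.map (algebraMap B R) := by
  let φ : (B ⧸ I) →ₗ[B] B ⧸ I := LinearMap.lsmul B (B ⧸ I) σ
  have hφ : Function.Injective φ := by
    refine (injective_iff_map_eq_zero φ).2 fun b hb => ?_
    obtain ⟨b, rfl⟩ := Ideal.Quotient.mk_surjective b
    exact Ideal.Quotient.eq_zero_iff_mem.2 (hσ b (Ideal.Quotient.eq_zero_iff_mem.1 hb))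
  have h := Module.Flat.lTensor_preserves_injective_linearMap (M := R) φ hφ
  have h0 : ∀ b : R, b ∈ I.map (algebraMap B R) ↔ b ⊗ₜ[B] (Ideal.Quotient.mk I 1) = 0 := fun b => by
    rw [← (TensorProduct.tensorQuotEquivQuotSMul R I).map_eq_zero_iff,
      TensorProduct.tensorQuotEquivQuotSMul_tmul_mk, one_smul, Submodule.Quotient.mk_eq_zero,
      Ideal.smul_top_eq_map]
    rfl
  refine (h0 a).2 (h ?_)
  rw [LinearMap.lTensor_tmul, map_zero]
  show a ⊗ₜ[B] (σ • Ideal.Quotient.mk I 1) = 0
  rw [TensorProduct.tmul_smul, TensorProduct.smul_tmul', Algebra.smul_def]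
  exact (h0 _).1 ha

/-- A cyclic module modulo an element. -/
theorem length_quot_smul_span {A : Type u} [CommRing A] (J : Ideal A) (f : A) :
    Module.length A ((A ⧸ J) ⧸ f • (⊤ : Submodule A (A ⧸ J))) = Module.length A (A ⧸ (J ⊔ Ideal.span {f})) := by
  let π : A →ₗ[A] (A ⧸ J) ⧸ f • (⊤ : Submodule A (A ⧸ J)) :=
    (Submodule.mkQ _).comp (Ideal.Quotient.mkₐ A J).toLinearMap
  have hπ : Function.Surjective π := (Submodule.mkQ_surjective _).comp Ideal.Quotient.mk_surjective
  have hk : LinearMap.ker π = J ⊔ Ideal.span {f} := by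
    ext a
    rw [LinearMap.mem_ker]
    show Submodule.Quotient.mk (Ideal.Quotient.mk J a) = 0 ↔ _
    rw [Submodule.Quotient.mk_eq_zero, Submodule.mem_smul_pointwise_iff_exists]
    constructor
    · rintro ⟨m, -, hm⟩
      obtain ⟨m, rfl⟩ := Ideal.Quotient.mk_surjective m
      have h : a - m * f ∈ J := by
        refine Ideal.Quotient.eq.1 (hm.symm.trans ?_)
        rw [Algebra.smul_def, mul_comm m f]
        rfl
      exact Submodule.mem_sup.2 ⟨_, h, m * f, Ideal.mem_span_singleton'.2 ⟨m, rfl⟩, sub_add_cancel _ _⟩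
    · intro ha
      obtain ⟨c, hc, d, hd, rfl⟩ := Submodule.mem_sup.1 ha
      obtain ⟨m, rfl⟩ := Ideal.mem_span_singleton'.1 hd
      refine ⟨Ideal.Quotient.mk J m, trivial, ?_⟩
      rw [Algebra.smul_def, map_add, Ideal.Quotient.eq_zero_iff_mem.2 hc, zero_add, mul_comm m f]
      rfl
  exact ((Submodule.quotEquivOfEq _ _ hk.symm).trans (π.quotKerEquivOfSurjective hπ)).length_eq.symm

variable [IsLocallyNoetherian P] [IsLocallyNoetherian S]

/-- A point over a regular curve germ in the base lies over the closed point or over the generic one. -/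
theorem eq_or_eq_of_curve {v η : S} (hη : η ⤳ v) {σ : S.presheaf.stalk v}
    (hσ : (primeOf hη).asIdeal ⊔ Ideal.span {σ} = maximalIdeal _) {w : S} (hw : w ⤳ v) (hwη : η ⤳ w) :
    w = v ∨ w = η := by
  let Q := (primeOf hw).asIdeal
  let I := (primeOf hη).asIdeal
  have hIQ : I ≤ Q := (primeOf_le_iff hw hη).2 hwη
  by_cases hs : σ ∈ Q
  · left
    refine (primeOf_inj hw (specializes_refl v) ?_)
    rw [ZeroSec.primeOf_refl']
    refine le_antisymm (le_maximalIdeal (primeOf hw).2.ne_top) ?_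
    rw [← hσ]
    exact sup_le hIQ ((Ideal.span_singleton_le_iff_mem (I := Q)).2 hs)
  · right
    refine (primeOf_inj hw hη ?_)
    refine le_antisymm ?_ hIQ
    refine Submodule.le_of_le_smul_of_le_jacobson_bot (I := maximalIdeal (S.presheaf.stalk v)) (IsNoetherian.noetherian Q)
      (maximalIdeal_le_jacobson _) fun a ha => ?_
    have hm : a ∈ I ⊔ Ideal.span {σ} := hσ ▸ le_maximalIdeal (primeOf hw).2.ne_top ha
    obtain ⟨c, hc, d, hd, rfl⟩ := Submodule.mem_sup.1 hm
    obtain ⟨b, rfl⟩ := Ideal.mem_span_singleton'.1 hd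
    have hb : b ∈ Q := ((primeOf hw).2.mem_or_mem ((Ideal.add_mem_iff_right Q (hIQ hc)).1 ha)).resolve_right hs
    refine Submodule.mem_sup.2 ⟨c, hc, b * σ, ?_, rfl⟩
    rw [smul_eq_mul, mul_comm (maximalIdeal _)]
    exact Ideal.mul_mem_mul hb (hσ ▸ Ideal.mem_sup_right (Ideal.mem_span_singleton_self σ))

set_option maxHeartbeats 800000 in
/-- Transitivity of fibre multiplicities along a regular curve germ `η ⤳ g x`. -/
theorem fibreMult_trans {x ξ : P} (h : ξ ⤳ x)
    (hiso : ∀ z : P, ξ ⤳ z → z ⤳ x → g z = g x → z = x)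
    (hflat : ((Ideal.Quotient.mk (RingHom.ker (Cyc.specMap x ξ h))).comp (g.stalkMap x).hom).Flat)
    {η : S} (hη : η ⤳ g x) {σ : S.presheaf.stalk (g x)} (hσ : (primeOf hη).asIdeal ⊔ Ideal.span {σ} = maximalIdeal _)
    (hne : η ≠ g x) (s : Finset P) (hs : ∀ ζ, ζ ∈ s ↔ ξ ⤳ ζ ∧ ζ ⤳ x ∧ g ζ = η)
    [∀ ζ : P, Decidable (ξ ⤳ ζ)] [∀ ζ : P, Decidable (ζ ⤳ x)] :
    AlgEqCyc.fibreMult g x ξ h = ∑ ζ ∈ s,
      if h' : ξ ⤳ ζ ∧ ζ ⤳ x then AlgEqCyc.fibreMult g ζ ξ h'.1 * AlgEqCyc.fibreMult g x ζ h'.2 else 0 := by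
  classical
  let A := P.presheaf.stalk x
  let B := S.presheaf.stalk (g x)
  let gs : B →+* A := (g.stalkMap x).hom
  let p := (primeOf h).asIdeal
  let I := (primeOf hη).asIdeal
  let J : Ideal A := p ⊔ I.map gs
  let M := A ⧸ J
  let f : A := gs σ
  have hσI : ∀ b, σ * b ∈ I → b ∈ I := fun b hb => ((primeOf hη).2.mem_or_mem hb).resolve_left fun hs' => hne (by
    refine primeOf_inj hη (specializes_refl _) ?_
    rw [ZeroSec.primeOf_refl', ← hσ, sup_eq_left.2 ((Ideal.span_singleton_le_iff_mem (I := I)).2 hs')])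
  -- regularity
  have hinj : LinearMap.ker (LinearMap.lsmul A M f) = ⊥ := by
    refine LinearMap.ker_eq_bot'.2 fun a ha => ?_
    obtain ⟨a, rfl⟩ := Ideal.Quotient.mk_surjective a
    rw [LinearMap.lsmul_apply] at ha
    have ha' : f * a ∈ J := Ideal.Quotient.eq_zero_iff_mem.1 ha
    refine Ideal.Quotient.eq_zero_iff_mem.2 ?_
    have hk : RingHom.ker (Cyc.specMap x ξ h) = p := CycLib.ker_specMap h
    let π := Ideal.Quotient.mk (RingHom.ker (Cyc.specMap x ξ h))
    have hmap : J.map π = I.map (π.comp gs) := by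
      rw [Ideal.map_sup, ← Ideal.map_map, show p.map π = ⊥ by rw [← hk]; exact Ideal.map_quotient_self _, bot_sup_eq]
    letI : Algebra B (Cyc.LocQuot x ξ h) := (π.comp gs).toAlgebra
    haveI : Module.Flat B (Cyc.LocQuot x ξ h) := hflat
    have h1 : π a ∈ J.map π := by
      rw [hmap]
      refine mem_map_of_smul_mem (R := Cyc.LocQuot x ξ h) I hσI ?_
      show π f * π a ∈ I.map (π.comp gs)
      rw [← map_mul, ← hmap]
      exact Ideal.mem_map_of_mem _ ha'
    rw [← Ideal.mem_comap, Ideal.comap_map_of_surjective _ Ideal.Quotient.mk_surjective, ← RingHom.ker_eq_comap_bot,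
      Ideal.mk_ker, hk, sup_eq_left.2 (le_sup_left : p ≤ J)] at h1
    exact h1
  -- the fibre ideal
  have hmax : (maximalIdeal B).map gs = I.map gs ⊔ Ideal.span {f} := by
    rw [← hσ, Ideal.map_sup, Ideal.map_span, Set.image_singleton]
  have hfib : fibIdeal g h = J ⊔ Ideal.span {f} := by
    show p ⊔ (maximalIdeal B).map gs = _
    rw [hmax, sup_assoc]
  have eM : Module.length A (M ⧸ f • (⊤ : Submodule A M)) = Module.length A (A ⧸ fibIdeal g h) := by
    rw [hfib]
    exact length_quot_smul_span J f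
  have hsuppM : ∀ q : PrimeSpectrum A, q ∈ Module.support A M ↔ J ≤ q.asIdeal := fun q => by
    rw [Module.support_eq_zeroLocus, Ideal.annihilator_quotient, PrimeSpectrum.mem_zeroLocus, SetLike.coe_subset_coe]
  -- points of the support
  have hq : ∀ q : PrimeSpectrum A, J ≤ q.asIdeal → ∃ (z : P) (hz : z ⤳ x), primeOf hz = q ∧ ξ ⤳ z ∧ η ⤳ g z := fun q hJ => by
    obtain ⟨z, hz, e⟩ := exists_point q.asIdeal
    refine ⟨z, hz, PrimeSpectrum.ext e, (primeOf_le_iff hz h).1 (e ▸ le_sup_left.trans hJ), ?_⟩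
    exact (map_le_iff g hz hη).1 (e ▸ le_sup_right.trans hJ)
  have htop : ∀ q : PrimeSpectrum A, J ≤ q.asIdeal → f ∈ q.asIdeal → q = IsLocalRing.closedPoint A := fun q hJ hf => by
    obtain ⟨z, hz, rfl, h1, -⟩ := hq q hJ
    have h2 : g x ⤳ g z := by
      refine (map_le_iff g hz (specializes_refl (g x))).1 ?_
      rw [ZeroSec.primeOf_refl', hmax]
      exact sup_le (le_sup_right.trans hJ) ((Ideal.span_singleton_le_iff_mem (I := (primeOf hz).asIdeal)).2 hf)
    obtain rfl := hiso z h1 hz ((hz.map g.continuous).antisymm h2).eq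
    exact PrimeSpectrum.ext (ZeroSec.primeOf_refl' _)
  have h0 : Module.supportDim A (M ⧸ f • (⊤ : Submodule A M)) ≤ 0 := by
    haveI : Subsingleton (Module.support A (M ⧸ f • (⊤ : Submodule A M))) := ⟨fun a b => by
      have key : ∀ c : Module.support A (M ⧸ f • (⊤ : Submodule A M)), c.1 = IsLocalRing.closedPoint A := fun c => by
        obtain ⟨q, hc⟩ := c
        rw [Module.support_quotSMulTop] at hc
        obtain ⟨hqM, hqf⟩ := hc
        exact htop q ((hsuppM q).1 hqM) (by simpa [PrimeSpectrum.mem_zeroLocus] using hqf)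
      exact Subtype.ext ((key a).trans (key b).symm)⟩
    exact Order.krullDim_nonpos_of_subsingleton
  have hfm : f ∈ maximalIdeal A := by
    refine map_nonunit (g.stalkMap x).hom σ ?_
    rw [← hσ]
    exact Ideal.mem_sup_right (Ideal.mem_span_singleton_self σ)
  have h1 : Module.supportDim A M ≤ 1 :=
    (Module.supportDim_le_supportDim_quotSMulTop_succ hfm).trans (by simpa using add_le_add h0 le_rfl)
  have key := CycLib.length_quot_smul (M := M) f h1 h0
  rw [hinj, Module.length_eq_zero (R := A) (M := (⊥ : Submodule A M)), zero_add, eM] at key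
  let S' := (CycLib.finite_support_ne_max h1).toFinset
  have hS' : ∀ q, q ∈ S' ↔ q ∈ Module.support A M ∧ q.asIdeal ≠ maximalIdeal A := fun q =>
    (CycLib.finite_support_ne_max h1).mem_toFinset
  rw [finsum_cond_eq_sum_of_cond_iff (t := S') _ (fun {q} _ => (hS' q).symm)] at key
  let Pr : P → PrimeSpectrum A := fun ζ => if hz : ζ ⤳ x then primeOf hz else IsLocalRing.closedPoint A
  have hmem : ∀ ζ ∈ s, Pr ζ ∈ S' := fun ζ hζ => by
    obtain ⟨a, b, c⟩ := (hs ζ).1 hζ
    simp only [Pr, dif_pos b]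
    refine (hS' _).2 ⟨(hsuppM _).2 (sup_le ((primeOf_le_iff b h).2 a) ((map_le_iff g b hη).2 (c ▸ specializes_refl _))),
      fun e => hne ?_⟩
    rw [← c, primeOf_inj b (specializes_refl x) (e.trans (ZeroSec.primeOf_refl' x).symm)]
  have hbij : s.image Pr = S' := by
    refine Finset.Subset.antisymm (Finset.image_subset_iff.2 hmem) fun q hqS => ?_
    obtain ⟨hqM, hqm⟩ := (hS' q).1 hqS
    obtain ⟨z, hz, rfl, a, b⟩ := hq q ((hsuppM q).1 hqM)
    rcases eq_or_eq_of_curve hη hσ (hz.map g.continuous) b with e | e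
    · obtain rfl : z = x := hiso z a hz e
      exact absurd (ZeroSec.primeOf_refl' _) hqm
    · exact Finset.mem_image.2 ⟨z, (hs z).2 ⟨a, hz, e⟩, dif_pos hz⟩
  have hinjOn : Set.InjOn Pr s := fun a ha b hb e => by
    have h2 := ((hs a).1 ha).2.1
    have h3 := ((hs b).1 hb).2.1
    simp only [Pr, dif_pos h2, dif_pos h3] at e
    exact primeOf_inj h2 h3 (congrArg PrimeSpectrum.asIdeal e)
  rw [fibreMult_eq, key, ← hbij, Finset.sum_image hinjOn, ENat.toNat_sum]
  · refine Finset.sum_congr rfl fun ζ hζ => ?_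
    obtain ⟨a, b, c⟩ := (hs ζ).1 hζ
    rw [dif_pos ⟨a, b⟩, fibreMult_eq, fibreMult_eq, ENat.toNat_mul, mul_comm]
    have eP : Pr ζ = primeOf b := dif_pos b
    rw [eP]
    congr 1
    · letI := (P.presheaf.stalkSpecializes b).hom.toAlgebra
      haveI := isLocalization_primeOf b
      rw [CapFlat.length_localized_cyclic (S := P.presheaf.stalk ζ) J (primeOf b).asIdeal]
      refine congrArg (fun K : Ideal (P.presheaf.stalk ζ) =>
        (Module.length (P.presheaf.stalk ζ) (P.presheaf.stalk ζ ⧸ K)).toNat) ?_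
      show J.map (P.presheaf.stalkSpecializes b).hom = fibIdeal g a
      rw [Ideal.map_sup, fibIdeal]
      congr 1
      · have e1 : (primeOf a).asIdeal.comap (P.presheaf.stalkSpecializes b).hom = p := by
          ext r
          rw [Ideal.mem_comap, mem_primeOf, mem_primeOf]
          rw [show (P.presheaf.stalkSpecializes a).hom ((P.presheaf.stalkSpecializes b).hom r) =
            (P.presheaf.stalkSpecializes h).hom r from
              congr($(P.presheaf.stalkSpecializes_comp a b).hom r)]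
        rw [← e1]
        exact IsLocalization.map_under (primeOf b).asIdeal.primeCompl (P.presheaf.stalk ζ) (primeOf a).asIdeal
      · have hgζ : g ζ ⤳ g x := b.map g.continuous
        have e2 : (maximalIdeal (S.presheaf.stalk (g ζ))) = I.map (S.presheaf.stalkSpecializes hgζ).hom := by
          subst c
          letI := (S.presheaf.stalkSpecializes hgζ).hom.toAlgebra
          haveI := isLocalization_primeOf hgζ
          exact (IsLocalization.AtPrime.map_eq_maximalIdeal _ _).symm
        rw [e2, Ideal.map_map, Ideal.map_map, ← CommRingCat.hom_comp, ← CommRingCat.hom_comp,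
          Scheme.Hom.stalkSpecializes_stalkMap g ζ x b]
    · rw [CycLib.ord_eq_length]
      refine congrArg (fun K : Ideal A => (Module.length A (A ⧸ K)).toNat) ?_
      show (primeOf b).asIdeal ⊔ Ideal.span {f} = (primeOf b).asIdeal ⊔ (maximalIdeal B).map gs
      rw [hmax, ← sup_assoc, sup_eq_left.2 (show I.map gs ≤ (primeOf b).asIdeal from
        (map_le_iff g b hη).2 (c ▸ specializes_refl _))]
  · intro ζ hζ
    obtain ⟨a, b, c⟩ := (hs ζ).1 hζ
    have hqS := hmem ζ hζ
    obtain ⟨hqM, hqm⟩ := (hS' _).1 hqS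
    refine WithTop.mul_ne_top ?_ (CycLib.length_localized_ne_top_of_minimal _ fun q hq' hle =>
      CycLib.eq_of_le_of_ne_max h1 hq' hle hqm)
    rw [CycLib.ord_eq_length]
    refine CycLib.length_ne_top_of_support fun q hq' => ?_
    rw [Module.support_eq_zeroLocus, Ideal.annihilator_quotient, PrimeSpectrum.mem_zeroLocus, SetLike.coe_subset_coe,
      sup_le_iff, Ideal.span_le, Set.singleton_subset_iff] at hq'
    exact htop q (((hsuppM _).1 hqM).trans hq'.1) hq'.2

end Groth.Agent.H23.MultTrans
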