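import Groth.Agent.H28.ExtSh
import Groth.Agent.H28.KvbModel
import Groth.Agent.InvX.Tensor
import Groth.Agent.InvX.GenLocusPull
import Groth.Agent.PicNormLib.Main
import Groth.Agent.H23.PicMul

/-!
# Determinants of direct images of inverse invertible modules under a finite locally free morphism
-/

set_option autoImplicit false
set_option linter.style.haveILetI false
set_option backward.isDefEq.respectTransparency false
set_option backward.isDefEq.respectTransparency.types false

universe u

open CategoryTheory AlgebraicGeometry TopologicalSpace Opposite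

namespace Groth.Agent.H23.NormDet

open Groth.Agent Groth.Agent.AModX Groth.Agent.H28

variable {X Y : Scheme.{u}} (π : X ⟶ Y) {L M : X.Modules} {n : ℕ}

/-- The direct image. -/
noncomputable abbrev P (L : X.Modules) : Y.Modules := (Coh.push π).obj L

lemma comb_smul {U : Y.Opens} (b : Fin n → Γ(P π (Coh.structureModule X), U)) (e : Γ(L, π ⁻¹ᵁ U))
    {W : Y.Opens} (h : W ≤ U) (c : Fin n → Γ(Y, W)) :
    H23.Frame.comb (P π L) (fun i => (show Γ(P π L, U) from (show Γ(X, π ⁻¹ᵁ U) from b i) • e)) W h c =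
      (show Γ(X, π ⁻¹ᵁ W) from H23.Frame.comb (P π (Coh.structureModule X)) b W h c) •
        res L (π.preimage_mono h) e := by
  refine Eq.symm ((Finset.sum_smul (s := Finset.univ)
    (f := fun i => π.app W (c i) * resR (π.preimage_mono h) (show Γ(X, π ⁻¹ᵁ U) from b i))
    (x := res L (π.preimage_mono h) e)).trans ?_)
  refine Finset.sum_congr rfl fun i _ => ?_
  rw [mul_smul, ← res_smul]
  rfl

/-- A frame of the direct image of the structure sheaf times a generator is a frame of the direct image. -/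
lemma isFrame_smul {U : Y.Opens} {b : Fin n → Γ(P π (Coh.structureModule X), U)}
    (hb : H23.Frame.IsFrame (P π (Coh.structureModule X)) b) {e : Γ(L, π ⁻¹ᵁ U)} (he : InvX.IsFrame e) :
    H23.Frame.IsFrame (P π L) (fun i => (show Γ(P π L, U) from (show Γ(X, π ⁻¹ᵁ U) from b i) • e)) := by
  intro W h
  refine (congrArg Function.Bijective (funext fun c => ?_)).mp ((he _ (π.preimage_mono h)).comp (hb W h))
  exact (comb_smul π b e h c).symm

/-- Alternating maps on a free module are multiples of the determinant. -/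
lemma alt_eq_det {R A N : Type u} [CommRing R] [AddCommGroup A] [Module R A] [AddCommGroup N] [Module R N]
    (B : Module.Basis (Fin n) R A) (f : A [⋀^Fin n]→ₗ[R] N) (v : Fin n → A) : f v = B.det v • f B := by
  have h : f = ((LinearMap.toSpanSingleton R N (f B)).compAlternatingMap B.det) := by
    refine Module.Basis.ext_alternating B fun i hi => ?_
    let σ : Equiv.Perm (Fin n) := Equiv.ofBijective i (Finite.injective_iff_bijective.1 hi)
    change f (B ∘ σ) = B.det (B ∘ σ) • f B
    rw [f.map_perm, B.det.map_perm, Module.Basis.det_self, smul_assoc, one_smul]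
  exact DFunLike.congr_fun h v

section Local

variable {U : Y.Opens} {b : Fin n → Γ(P π (Coh.structureModule X), U)}

/-- Multiplication by a generator on sections. -/
noncomputable def smulLin {W : Y.Opens} (e : Γ(L, π ⁻¹ᵁ W)) :
    Γ(P π (Coh.structureModule X), W) →ₗ[Γ(Y, W)] Γ(P π L, W) where
  toFun a := (show Γ(P π L, W) from (show Γ(X, π ⁻¹ᵁ W) from a) • e)
  map_add' a a' := add_smul (show Γ(X, π ⁻¹ᵁ W) from a) (show Γ(X, π ⁻¹ᵁ W) from a') e
  map_smul' c a := mul_smul (π.app W c) (show Γ(X, π ⁻¹ᵁ W) from a) e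

/-- Multiplication on sections. -/
noncomputable def mulLin {W : Y.Opens} (u : Γ(X, π ⁻¹ᵁ W)) :
    Γ(P π (Coh.structureModule X), W) →ₗ[Γ(Y, W)] Γ(P π (Coh.structureModule X), W) where
  toFun a := (show Γ(P π (Coh.structureModule X), W) from u * (show Γ(X, π ⁻¹ᵁ W) from a))
  map_add' a a' := mul_add u (show Γ(X, π ⁻¹ᵁ W) from a) (show Γ(X, π ⁻¹ᵁ W) from a')
  map_smul' c a := mul_left_comm u (π.app W c) (show Γ(X, π ⁻¹ᵁ W) from a)

lemma det_mulLin_mul {W : Y.Opens} (u v : Γ(X, π ⁻¹ᵁ W)) (huv : u * v = 1) :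
    LinearMap.det (mulLin π u) * LinearMap.det (mulLin π v) = 1 := by
  rw [← LinearMap.det_comp]
  have : (mulLin π u).comp (mulLin π v) = LinearMap.id := LinearMap.ext fun a => by
    show u * (v * (show Γ(X, π ⁻¹ᵁ W) from a)) = (show Γ(X, π ⁻¹ᵁ W) from a)
    rw [← mul_assoc, huv, one_mul]
  rw [this, LinearMap.det_id]

/-- The top wedge of a frame times a generator. -/
noncomputable def wedge (b : Fin n → Γ(P π (Coh.structureModule X), U)) (e : Γ(L, π ⁻¹ᵁ U)) :
    Γ(ExtBase.L (P π L) n, U) :=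
  ExtBase.mu (P π L) n U fun i => (show Γ(P π L, U) from (show Γ(X, π ⁻¹ᵁ U) from b i) • e)

lemma isFrame_wedge (hb : H23.Frame.IsFrame (P π (Coh.structureModule X)) b) {e : Γ(L, π ⁻¹ᵁ U)}
    (he : InvX.IsFrame e) : InvX.IsFrame (wedge π b e) :=
  ExtBase.isFrame_wedge (isFrame_smul π hb he)

lemma res_wedge {W : Y.Opens} (h : W ≤ U) (e : Γ(L, π ⁻¹ᵁ U)) :
    res _ h (wedge π b e) = wedge π (fun i => res (P π (Coh.structureModule X)) h (b i))
      (res L (π.preimage_mono h) e) := by
  refine (ExtBase.mu_res (P π L) n U W h _).trans (congrArg _ (funext fun i => ?_))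
  exact res_smul (π.preimage_mono h) (show Γ(X, π ⁻¹ᵁ U) from b i) e

/-- Change of frame and of generator. -/
lemma wedge_change {U' W : Y.Opens} (hW : W ≤ U) (hW' : W ≤ U')
    (hb : H23.Frame.IsFrame (P π (Coh.structureModule X)) b)
    (b' : Fin n → Γ(P π (Coh.structureModule X), U')) (e : Γ(L, π ⁻¹ᵁ U)) (e' : Γ(L, π ⁻¹ᵁ U'))
    (u : Γ(X, π ⁻¹ᵁ W)) (hu : res L (π.preimage_mono hW') e' = u • res L (π.preimage_mono hW) e) :
    res _ hW' (wedge π b' e') =
      (LinearMap.det (mulLin π u) *
        (ExtBase.frameBasis hb hW).det fun i => res (P π (Coh.structureModule X)) hW' (b' i)) •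
        res _ hW (wedge π b e) := by
  rw [res_wedge, res_wedge]
  let B := ExtBase.frameBasis hb hW
  let f : Γ(P π (Coh.structureModule X), W) [⋀^Fin n]→ₗ[Γ(Y, W)] Γ(ExtBase.L (P π L) n, W) :=
    (ExtBase.mu (P π L) n W).compLinearMap (smulLin π (res L (π.preimage_mono hW) e))
  let v : Fin n → Γ(P π (Coh.structureModule X), W) := fun i => res (P π (Coh.structureModule X)) hW' (b' i)
  have h1 : wedge π v (res L (π.preimage_mono hW') e') = f (mulLin π u ∘ v) := by
    refine congrArg (ExtBase.mu (P π L) n W) (funext fun i => ?_)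
    show (show Γ(X, π ⁻¹ᵁ W) from v i) • res L (π.preimage_mono hW') e' =
      (u * (show Γ(X, π ⁻¹ᵁ W) from v i)) • res L (π.preimage_mono hW) e
    rw [hu, ← mul_smul, mul_comm]
  have h2 : wedge π (fun i => res (P π (Coh.structureModule X)) hW (b i)) (res L (π.preimage_mono hW) e) = f B := by
    refine congrArg (ExtBase.mu (P π L) n W) (funext fun i => ?_)
    show _ = (show Γ(X, π ⁻¹ᵁ W) from B i) • res L (π.preimage_mono hW) e
    rw [show B i = _ from ExtBase.frameBasis_apply hb hW i]
  rw [h1, h2]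
  refine (alt_eq_det B f _).trans (congrArg (· • f B) ?_)
  exact Module.Basis.det_comp B (mulLin π u) v

end Local

/-- The tensor product of the determinants for inverse modules is the square of that of the structure sheaf. -/
theorem nonempty_iso [IsFinite π] (hO : FlatMod.IsFinLocFreeOfRank n (P π (Coh.structureModule X)))
    (hL : PicF.IsInvertible L) (hM : PicF.IsInvertible M) (φ : CohB1.tensorMod L M ≅ Coh.structureModule X) :
    Nonempty (CohB1.tensorMod (ExtBase.L (P π L) n) (ExtBase.L (P π M) n) ≅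
      CohB1.tensorMod (ExtBase.L (P π (Coh.structureModule X)) n)
        (ExtBase.L (P π (Coh.structureModule X)) n)) := by
  -- local data
  have hloc : ∀ y : Y, ∃ (U : Y.Opens) (_ : y ∈ U) (b : Fin n → Γ(P π (Coh.structureModule X), U))
      (_ : H23.Frame.IsFrame (P π (Coh.structureModule X)) b) (e : Γ(L, π ⁻¹ᵁ U)) (f : Γ(M, π ⁻¹ᵁ U)),
      InvX.IsFrame e ∧ InvX.IsFrame f ∧
        φ.hom.app _ (InvX.tmul e f) = (show Γ(Coh.structureModule X, π ⁻¹ᵁ U) from (1 : Γ(X, π ⁻¹ᵁ U))) := by
    intro y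
    obtain ⟨V₁, b, hy₁, hb⟩ := KvbModel.frameAt_of_rank hO y
    obtain ⟨V₂, hy₂, e, he⟩ := PicNormLib.exists_frame_near_fibre π hL y
    obtain ⟨V₃, hy₃, f, hf⟩ := PicNormLib.exists_frame_near_fibre π hM y
    let U := V₁ ⊓ V₂ ⊓ V₃
    have h1 : U ≤ V₁ := inf_le_left.trans inf_le_left
    have he' := he.res (π.preimage_mono (inf_le_left.trans inf_le_right : U ≤ V₂))
    have hf' := hf.res (π.preimage_mono (inf_le_right : U ≤ V₃))
    have ht := (InvX.isFrame_tmul he' hf').map_iso φ
    obtain ⟨c, hc⟩ := ht.exists_coord le_rfl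
      (show Γ(Coh.structureModule X, π ⁻¹ᵁ U) from (1 : Γ(X, π ⁻¹ᵁ U)))
    rw [AModX.res_self] at hc
    have hcu : IsUnit c := IsUnit.of_mul_eq_one _ hc.symm
    refine ⟨U, ⟨⟨hy₁, hy₂⟩, hy₃⟩, fun i => res _ h1 (b i), fun W h => ?_, _, _, he', hf'.isUnit_smul hcu, ?_⟩
    · refine (congrArg Function.Bijective (funext fun d => ?_)).mp (hb W (h.trans h1))
      exact Finset.sum_congr rfl fun i _ => congrArg (d i • ·) (AModX.res_res h1 h (b i)).symm
    · rw [InvX.tmul_smul_right, Scheme.Modules.Hom.app_smul]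
      exact hc.symm
  choose U hyU b hb e f he hf hef using hloc
  let A := CohB1.tensorMod (ExtBase.L (P π L) n) (ExtBase.L (P π M) n)
  let PO := P π (Coh.structureModule X)
  let B := CohB1.tensorMod (ExtBase.L PO n) (ExtBase.L PO n)
  let one' : ∀ y, Γ(Coh.structureModule X, π ⁻¹ᵁ U y) := fun y => (1 : Γ(X, π ⁻¹ᵁ U y))
  let a : ∀ y, Γ(A, U y) := fun y => InvX.tmul (wedge π (b y) (e y)) (wedge π (b y) (f y))
  let o : ∀ y, Γ(B, U y) := fun y => InvX.tmul (wedge π (b y) (one' y)) (wedge π (b y) (one' y))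
  have ha : ∀ y, InvX.IsFrame (a y) := fun y =>
    InvX.isFrame_tmul (isFrame_wedge π (hb y) (he y)) (isFrame_wedge π (hb y) (hf y))
  have ho : ∀ y, InvX.IsFrame (o y) := fun y =>
    InvX.isFrame_tmul (isFrame_wedge π (hb y) (InvX.isFrame_one _)) (isFrame_wedge π (hb y) (InvX.isFrame_one _))
  have hcov : ∀ y, ∃ y', y ∈ U y' := fun y => ⟨y, hyU y⟩
  -- the transition functions agree
  have key : ∀ (y y' : Y) (W : Y.Opens) (h : W ≤ U y) (h' : W ≤ U y'), ∃ g : Γ(Y, W),
      res A h' (a y') = g • res A h (a y) ∧ res B h' (o y') = g • res B h (o y) := by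
    intro y y' W h h'
    obtain ⟨u, hu⟩ := (he y).exists_coord (π.preimage_mono h) (res L (π.preimage_mono h') (e y'))
    obtain ⟨v, hv⟩ := (hf y).exists_coord (π.preimage_mono h) (res M (π.preimage_mono h') (f y'))
    have huv : u * v = 1 := by
      have h1 : ∀ z (hz : W ≤ U z), φ.hom.app (π ⁻¹ᵁ W)
          (InvX.tmul (res L (π.preimage_mono hz) (e z)) (res M (π.preimage_mono hz) (f z))) =
            (show Γ(Coh.structureModule X, π ⁻¹ᵁ W) from (1 : Γ(X, π ⁻¹ᵁ W))) := fun z hz => by
        rw [← InvX.res_tmul, AModX.app_res, hef]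
        exact map_one (resR (π.preimage_mono hz))
      have h2 := h1 y' h'
      rw [hu, hv, InvX.tmul_smul_left, InvX.tmul_smul_right, ← mul_smul, Scheme.Modules.Hom.app_smul, h1 y h] at h2
      exact (mul_one (u * v)).symm.trans h2
    let δ := (ExtBase.frameBasis (hb y) h).det fun i => res PO h' (b y' i)
    refine ⟨δ * δ, ?_, ?_⟩
    · show res A h' (InvX.tmul _ _) = _
      rw [InvX.res_tmul, wedge_change π h h' (hb y) (b y') (e y) (e y') u hu,
        wedge_change π h h' (hb y) (b y') (f y) (f y') v hv, InvX.tmul_smul_left, InvX.tmul_smul_right,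
        ← mul_smul, InvX.res_tmul]
      congr 1
      rw [mul_mul_mul_comm, det_mulLin_mul π u v huv, one_mul]
    · have h1 : res (Coh.structureModule X) (π.preimage_mono h') (one' y') =
          (1 : Γ(X, π ⁻¹ᵁ W)) • res (Coh.structureModule X) (π.preimage_mono h) (one' y) :=
        (map_one (resR (π.preimage_mono h'))).trans
          (((one_smul Γ(X, π ⁻¹ᵁ W) (res (Coh.structureModule X) (π.preimage_mono h) (one' y))).trans
            (map_one (resR (π.preimage_mono h)))).symm)
      show res B h' (InvX.tmul _ _) = _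
      rw [InvX.res_tmul, wedge_change π h h' (hb y) (b y') (one' y) (one' y') 1 h1,
        InvX.tmul_smul_left, InvX.tmul_smul_right, ← mul_smul, InvX.res_tmul]
      congr 1
      rw [mul_mul_mul_comm, det_mulLin_mul π 1 1 (one_mul 1), one_mul]
  have hc : ∀ (y y' : Y) (W : Y.Opens) (h : W ≤ U y) (h' : W ≤ U y') (g : Γ(Y, W)),
      res A h' (a y') = g • res A h (a y) → res B h' (o y') = g • res B h (o y) := fun y y' W h h' g hg => by
    obtain ⟨g', h1, h2⟩ := key y y' W h h'
    rwa [(ha y).coord_unique h (hg.symm.trans h1)]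
  have hc' : ∀ (y y' : Y) (W : Y.Opens) (h : W ≤ U y) (h' : W ≤ U y') (g : Γ(Y, W)),
      res B h' (o y') = g • res B h (o y) → res A h' (a y') = g • res A h (a y) := fun y y' W h h' g hg => by
    obtain ⟨g', h1, h2⟩ := key y y' W h h'
    rwa [(ho y).coord_unique h (hg.symm.trans h2)]
  refine ⟨{ hom := InvX.ofFrames hcov ha (n := o) hc
            inv := InvX.ofFrames hcov ho (n := a) hc'
            hom_inv_id := ?_
            inv_hom_id := ?_ }⟩
  · refine InvX.hom_ext_of_frames _ hcov a ha fun y => ?_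
    rw [Scheme.Modules.Hom.id_app, Scheme.Modules.Hom.comp_app, ConcreteCategory.comp_apply, InvX.ofFrames_app,
      InvX.ofFrames_app]
    rfl
  · refine InvX.hom_ext_of_frames _ hcov o ho fun y => ?_
    rw [Scheme.Modules.Hom.id_app, Scheme.Modules.Hom.comp_app, ConcreteCategory.comp_apply, InvX.ofFrames_app,
      InvX.ofFrames_app]
    rfl

end Groth.Agent.H23.NormDet
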