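import Groth.Agent.H23.QCCrit
import Mathlib.RingTheory.NoetherNormalization
import Mathlib.RingTheory.AlgebraicIndependent.Basic

/-!
# Points with values in a big algebraically closed field
-/

open AlgebraicGeometry CategoryTheory CategoryTheory.Limits

universe u

namespace Groth.Agent.H23.OmegaPts

theorem exists_injective_algHom (K Ω B : Type u) [Field K] [Field Ω] [IsAlgClosed Ω] [Algebra K Ω]
    (t : ℕ → Ω) (ht : AlgebraicIndependent K t) [CommRing B] [IsDomain B] [Algebra K B]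
    [Algebra.FiniteType K B] : ∃ φ : B →ₐ[K] Ω, Function.Injective φ := by
  obtain ⟨s, g, hg, hint⟩ := exists_integral_inj_algHom_of_fg K B
  let τ : MvPolynomial (Fin s) K →ₐ[K] Ω := MvPolynomial.aeval fun i : Fin s => t i
  have hτ : Function.Injective τ :=
    (ht.comp (fun i : Fin s => (i : ℕ)) Fin.val_injective)
  letI := g.toRingHom.toAlgebra
  letI := τ.toRingHom.toAlgebra
  haveI : Algebra.IsIntegral (MvPolynomial (Fin s) K) B := ⟨hint⟩
  haveI : FaithfulSMul (MvPolynomial (Fin s) K) B :=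
    (faithfulSMul_iff_algebraMap_injective _ _).mpr hg
  haveI : FaithfulSMul (MvPolynomial (Fin s) K) Ω :=
    (faithfulSMul_iff_algebraMap_injective _ _).mpr hτ
  haveI : Module.IsTorsionFree (MvPolynomial (Fin s) K) B := inferInstance
  haveI : Module.IsTorsionFree (MvPolynomial (Fin s) K) Ω := inferInstance
  let ψ : B →ₐ[MvPolynomial (Fin s) K] Ω := IsAlgClosed.lift
  have hψ : Function.Injective ψ := by
    rw [RingHom.injective_iff_ker_eq_bot]
    refine Ideal.eq_bot_of_comap_eq_bot (R := MvPolynomial (Fin s) K) ?_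
    rw [eq_bot_iff]
    intro p hp
    rw [Ideal.mem_comap, RingHom.mem_ker] at hp
    have : algebraMap (MvPolynomial (Fin s) K) Ω p = 0 := (ψ.commutes p).symm.trans hp
    exact hτ (by rw [map_zero]; exact this)
  refine ⟨{ ψ.toRingHom with commutes' := fun c => ?_ }, hψ⟩
  have h1 : algebraMap K B c = algebraMap (MvPolynomial (Fin s) K) B (algebraMap K _ c) :=
    (g.commutes c).symm
  show ψ (algebraMap K B c) = algebraMap K Ω c
  rw [h1, ψ.commutes]
  exact τ.commutes c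

theorem exists_point_over {K : Type u} [Field K] (Ω : Type u) [Field Ω] [IsAlgClosed Ω]
    [Algebra K Ω] (t : ℕ → Ω) (ht : AlgebraicIndependent K t) {Y : Scheme.{u}}
    (pY : Y ⟶ Spec (CommRingCat.of K)) [LocallyOfFiniteType pY] (y : Y) :
    ∃ η : Spec (CommRingCat.of Ω) ⟶ Y,
      η ≫ pY = Spec.map (CommRingCat.ofHom (algebraMap K Ω)) ∧ ∀ p, η p = y := by
  obtain ⟨V, hV, hy, -⟩ := exists_isAffineOpen_mem_and_subset (x := y) (U := ⊤) trivial
  let ρ : CommRingCat.of K ⟶ Γ(Y, V) :=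
    (Scheme.ΓSpecIso _).inv ≫ pY.appLE ⊤ V le_top
  have hρ : RingHom.FiniteType ρ.hom := by
    have h := pY.finiteType_appLE (isAffineOpen_top _) hV (le_top : V ≤ pY ⁻¹ᵁ ⊤)
    exact h.comp (RingHom.FiniteType.of_surjective _
      (Scheme.ΓSpecIso (CommRingCat.of K)).symm.commRingCatIsoToRingEquiv.surjective)
  letI := ρ.hom.toAlgebra
  haveI : Algebra.FiniteType K Γ(Y, V) := hρ
  let q := hV.primeIdealOf ⟨y, hy⟩
  haveI : Algebra.FiniteType K (Γ(Y, V) ⧸ q.asIdeal) :=
    Algebra.FiniteType.of_surjective (Ideal.Quotient.mkₐ K q.asIdeal)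
      Ideal.Quotient.mk_surjective
  obtain ⟨φ, hφ⟩ := exists_injective_algHom K Ω (Γ(Y, V) ⧸ q.asIdeal) t ht
  let χ : Γ(Y, V) ⟶ CommRingCat.of Ω :=
    CommRingCat.ofHom (φ.toRingHom.comp (Ideal.Quotient.mk q.asIdeal))
  refine ⟨Spec.map χ ≫ hV.fromSpec, ?_, fun p => ?_⟩
  · have h1 : hV.fromSpec ≫ pY = Spec.map ρ := by
      rw [Spec.map_comp, ← IsAffineOpen.SpecMap_appLE_fromSpec pY (isAffineOpen_top _) hV le_top,
        IsAffineOpen.fromSpec_top, Scheme.isoSpec_Spec_inv]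
    rw [Category.assoc, h1, ← Spec.map_comp]
    congr 1
    ext c
    exact φ.commutes c
  · have hp : Spec.map χ p = q := by
      apply PrimeSpectrum.ext
      show Ideal.comap χ.hom p.asIdeal = q.asIdeal
      rw [Ideal.eq_bot_of_prime p.asIdeal]
      ext a
      rw [Ideal.mem_comap, Ideal.mem_bot, CommRingCat.hom_ofHom, RingHom.comp_apply]
      exact (map_eq_zero_iff φ hφ).trans Ideal.Quotient.eq_zero_iff_mem
    rw [Scheme.Hom.comp_apply, hp]
    exact hV.fromSpec_primeIdealOf ⟨y, hy⟩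

theorem surjective_iff {K : Type u} [Field K] (Ω : Type u) [Field Ω] [IsAlgClosed Ω]
    [Algebra K Ω] (t : ℕ → Ω) (ht : AlgebraicIndependent K t) {X Y : Scheme.{u}}
    (pX : X ⟶ Spec (CommRingCat.of K)) (pY : Y ⟶ Spec (CommRingCat.of K))
    [LocallyOfFiniteType pX] [LocallyOfFiniteType pY] (f : X ⟶ Y) (hf : f ≫ pY = pX) :
    Surjective f ↔ ∀ y : Spec (CommRingCat.of Ω) ⟶ Y,
      y ≫ pY = Spec.map (CommRingCat.ofHom (algebraMap K Ω)) →
        ∃ x : Spec (CommRingCat.of Ω) ⟶ X, x ≫ f = y := by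
  haveI : LocallyOfFiniteType (f ≫ pY) := hf ▸ ‹_›
  haveI : LocallyOfFiniteType f := locallyOfFiniteType_of_comp f pY
  refine ⟨fun _ y _ => QCCrit.exists_geomPoint_lift f Ω y, fun h => ⟨fun y => ?_⟩⟩
  obtain ⟨η, hη, hy⟩ := exists_point_over Ω t ht pY y
  obtain ⟨x, hx⟩ := h η hη
  exact ⟨x (IsLocalRing.closedPoint Ω), by rw [← Scheme.Hom.comp_apply, hx, hy]⟩

end Groth.Agent.H23.OmegaPts
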