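import Groth.Agent.H23.RatOn

/-! Rational equivalences extend from an open subscheme. -/

set_option autoImplicit false
set_option linter.style.haveILetI false

universe u

open AlgebraicGeometry CategoryTheory TopologicalSpace

namespace Groth.Agent.H23.RatOn

open Groth.Agent

theorem extendOpen {X W : Scheme.{u}} [IsLocallyNoetherian X] (j : W ⟶ X) [IsOpenImmersion j] {δ : X → ℤ}
    {δW : W → ℤ} (hδ : ∀ w, δW w = δ (j w)) {k : ℤ} {G : W → ℤ} (h : ZeroOn δW k Set.univ G) :
    ∃ G' : X → ℤ, ZeroOn δ k Set.univ G' ∧ ∀ w, G' (j w) = G w := by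
  classical
  obtain ⟨ι, ξ, f, h1, h2, -, h4, h5⟩ := h
  haveI : IsLocallyNoetherian W := LocallyOfFiniteType.isLocallyNoetherian j
  choose g hg using fun i => (CycLib.residueFieldMap_bijective j (ξ i)).2 (f i)
  refine ⟨fun x => ∑ᶠ i, Cyc.divFun δ (j (ξ i)) (g i) x, ⟨ι, fun i => j (ξ i), g, fun i => ?_,
    fun i h0 => h2 i (by rw [← hg i, h0, map_zero]), fun i => trivial, fun x => ?_, fun x => rfl⟩, fun w => ?_⟩
  · rw [← hδ]; exact h1 i
  · obtain ⟨V, hV, hxV, -⟩ := exists_isAffineOpen_mem_and_subset (x := x) (U := (⊤ : X.Opens)) trivial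
    haveI : IsNoetherianRing Γ(X, V) := IsLocallyNoetherian.component_noetherian ⟨V, hV⟩
    have hc : IsCompact ((V : Set X) ∩ Set.range j) := by
      have h1 : IsCompact ((fun y : (V : Set X) => (y : X)) ⁻¹' Set.range j) := by
        haveI : NoetherianSpace (V : Set X) := noetherianSpace_of_isAffineOpen V hV
        exact NoetherianSpace.isCompact _
      have h2 := h1.image continuous_subtype_val
      convert h2 using 1
      ext y
      exact ⟨fun hy => ⟨⟨y, hy.1⟩, hy.2, rfl⟩, by rintro ⟨z, hz, rfl⟩; exact ⟨z.2, hz⟩⟩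
    have hc' : IsCompact (j ⁻¹' (V : Set X)) := by
      rw [j.isOpenEmbedding.isEmbedding.isCompact_iff, Set.image_preimage_eq_inter_range]
      exact hc
    choose N hNo hwN hNf using h4
    obtain ⟨s, hs⟩ := hc'.elim_finite_subcover N hNo fun w _ => Set.mem_iUnion.2 ⟨w, hwN w⟩
    refine ⟨V, V.2, hxV, (s.finite_toSet.biUnion fun w _ => hNf w).subset ?_⟩
    rintro i ⟨y, hy, hyV⟩
    have hi : ξ i ∈ j ⁻¹' (V : Set X) := (specializes_iff_mem_closure.2 hy).mem_open V.2 hyV
    obtain ⟨w, hw, hiN⟩ := Set.mem_iUnion₂.1 (hs hi)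
    exact Set.mem_biUnion hw ⟨ξ i, subset_closure rfl, hiN⟩
  · rw [h5]
    exact finsum_congr fun i => by
      rw [← hg i, CycLib.divFun_preimmersion j 0 (fun z => by rw [add_zero]; exact hδ z)]

end Groth.Agent.H23.RatOn
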