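import Groth.Agent.H23.PeriodicRatio
import Groth.Agent.CycLib.Periodic
import Groth.Agent.CycLib.FinLen

/-! Splitting a periodic complex over a local ring along the one-dimensional primes of its support. -/

set_option linter.unusedSectionVars false
set_option maxHeartbeats 400000

namespace Groth.Agent.H23.PeriodicLocal

open CycDet IsLocalRing CycAlg Groth.Agent.CycLib PeriodicRatio

universe u

section Sum

variable {R : Type u} [CommRing R] {ι : Type u} [Fintype ι]
  {N : ι → Type u} [∀ i, AddCommGroup (N i)] [∀ i, Module R (N i)]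

/-- The cohomology of a product of periodic complexes. -/
theorem exists_perH_pi (φ ψ : ∀ i, N i →ₗ[R] N i) :
    Nonempty (perH (LinearMap.pi fun i => φ i ∘ₗ LinearMap.proj i : (∀ i, N i) →ₗ[R] ∀ i, N i)
        (LinearMap.pi fun i => ψ i ∘ₗ LinearMap.proj i) ≃ₗ[R] ∀ i, perH (φ i) (ψ i)) := by
  set Φ : (∀ i, N i) →ₗ[R] ∀ i, N i := LinearMap.pi fun i => φ i ∘ₗ LinearMap.proj i
  set Ψ : (∀ i, N i) →ₗ[R] ∀ i, N i := LinearMap.pi fun i => ψ i ∘ₗ LinearMap.proj i
  let F : LinearMap.ker Φ →ₗ[R] ∀ i, perH (φ i) (ψ i) := LinearMap.pi fun i =>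
    Periodic.cl (φ i) (ψ i) ∘ₗ ((LinearMap.proj i ∘ₗ (LinearMap.ker Φ).subtype).codRestrict _
      fun z => LinearMap.mem_ker.mpr (congrFun (LinearMap.mem_ker.mp z.2) i))
  have hs : Function.Surjective F := fun y => by
    choose z hz using fun i => Periodic.cl_surjective (φ i) (ψ i) (y i)
    exact ⟨⟨fun i => (z i : N i), LinearMap.mem_ker.mpr (funext fun i => LinearMap.mem_ker.mp (z i).2)⟩,
      funext hz⟩
  have hk : LinearMap.ker F = (LinearMap.range Ψ).submoduleOf (LinearMap.ker Φ) := by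
    ext z
    constructor
    · intro h
      choose n hn using fun i => Periodic.cl_eq_zero.mp (congrFun (LinearMap.mem_ker.mp h) i)
      exact ⟨fun i => n i, funext hn⟩
    · rintro ⟨n, hn⟩
      exact LinearMap.mem_ker.mpr (funext fun i => Periodic.cl_eq_zero.mpr ⟨n i, congrFun hn i⟩)
  exact ⟨(Submodule.quotEquivOfEq _ _ hk.symm).trans (F.quotKerEquivOfSurjective hs)⟩

theorem herbrand_pi (φ ψ : ∀ i, N i →ₗ[R] N i)
    (h : FinCoh R (LinearMap.pi fun i => φ i ∘ₗ LinearMap.proj i : (∀ i, N i) →ₗ[R] ∀ i, N i)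
      (LinearMap.pi fun i => ψ i ∘ₗ LinearMap.proj i)) :
    (∀ i, FinCoh R (φ i) (ψ i)) ∧
      herbrand R (LinearMap.pi fun i => φ i ∘ₗ LinearMap.proj i : (∀ i, N i) →ₗ[R] ∀ i, N i)
        (LinearMap.pi fun i => ψ i ∘ₗ LinearMap.proj i) = ∑ i, herbrand R (φ i) (ψ i) := by
  obtain ⟨e⟩ := exists_perH_pi φ ψ
  obtain ⟨e'⟩ := exists_perH_pi ψ φ
  obtain ⟨h1, h2⟩ := h
  rw [e.length_eq, Module.length_pi_of_fintype] at h1
  rw [e'.length_eq, Module.length_pi_of_fintype] at h2
  have f1 := WithTop.sum_ne_top.mp h1.ne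
  have f2 := WithTop.sum_ne_top.mp h2.ne
  refine ⟨fun i => ⟨lt_top_iff_ne_top.mpr (f1 i (Finset.mem_univ i)),
    lt_top_iff_ne_top.mpr (f2 i (Finset.mem_univ i))⟩, ?_⟩
  simp only [herbrand]
  rw [e.length_eq, e'.length_eq, Module.length_pi_of_fintype, Module.length_pi_of_fintype,
    ENat.toNat_sum f1, ENat.toNat_sum f2, Finset.sum_sub_distrib, Nat.cast_sum, Nat.cast_sum]

variable [IsNoetherianRing R] [IsLocalRing R] {M : Type u} [AddCommGroup M] [Module R M] [Module.Finite R M]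

omit [∀ i, AddCommGroup (N i)] [∀ i, Module R (N i)] in
/-- A finite module killed locally away from the closed point has finite length. -/
theorem length_lt_top_of_torsion {W : Type u} [AddCommGroup W] [Module R W] [Module.Finite R W]
    (h : ∀ p : PrimeSpectrum R, p ≠ closedPoint R → ∀ w : W, ∃ s : R, s ∉ p.asIdeal ∧ s • w = 0) :
    Module.length R W < ⊤ := by
  refine lt_top_iff_ne_top.mpr (length_ne_top_of_support fun p hp => ?_)
  obtain ⟨w, hw⟩ := Module.mem_support_iff'.mp hp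
  by_contra hne
  obtain ⟨s, hs, hsw⟩ := h p hne w
  exact hw s hs hsw

omit [∀ i, AddCommGroup (N i)] [∀ i, Module R (N i)] in
/-- The Herbrand quotient is the sum over quotients that split the module off the closed point. -/
theorem herbrand_eq_sum (φ ψ : M →ₗ[R] M) (hper : IsPeriodic φ ψ) (hfin : FinCoh R φ ψ)
    (K : ι → Submodule R M) (q : ι → PrimeSpectrum R)
    (hφ : ∀ i, K i ≤ (K i).comap φ) (hψ : ∀ i, K i ≤ (K i).comap ψ)
    (hloc : ∀ z, (∀ i, z ∈ K i) → ∀ p : PrimeSpectrum R, p ≠ closedPoint R →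
      ∃ s : R, s ∉ p.asIdeal ∧ s • z = 0)
    (hsep : ∀ i, ∀ p : PrimeSpectrum R, p ≠ closedPoint R → p ≠ q i →
      ∃ s : R, s ∉ p.asIdeal ∧ ∀ z : M, s • z ∈ K i) (hq : Function.Injective q) :
    (∀ i, FinCoh R ((K i).mapQ (K i) φ (hφ i)) ((K i).mapQ (K i) ψ (hψ i))) ∧
      herbrand R φ ψ = ∑ i, herbrand R ((K i).mapQ (K i) φ (hφ i)) ((K i).mapQ (K i) ψ (hψ i)) := by
  classical
  set φq := fun i => (K i).mapQ (K i) φ (hφ i)
  set ψq := fun i => (K i).mapQ (K i) ψ (hψ i)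
  set Φ : (∀ i, M ⧸ K i) →ₗ[R] ∀ i, M ⧸ K i := LinearMap.pi fun i => φq i ∘ₗ LinearMap.proj i
  set Ψ : (∀ i, M ⧸ K i) →ₗ[R] ∀ i, M ⧸ K i := LinearMap.pi fun i => ψq i ∘ₗ LinearMap.proj i
  set Θ : M →ₗ[R] ∀ i, M ⧸ K i := LinearMap.pi fun i => (K i).mkQ
  have cφ : Φ ∘ₗ Θ = Θ ∘ₗ φ := LinearMap.ext fun z => funext fun i => rfl
  have cψ : Ψ ∘ₗ Θ = Θ ∘ₗ ψ := LinearMap.ext fun z => funext fun i => rfl
  have hper' : IsPeriodic Φ Ψ := by
    constructor <;> refine LinearMap.ext fun v => funext fun i => ?_ <;>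
      obtain ⟨w, hw⟩ := Submodule.mkQ_surjective _ (v i)
    · show φq i (ψq i (v i)) = 0
      rw [← hw]
      show Submodule.Quotient.mk (φ (ψ w)) = 0
      rw [show φ (ψ w) = 0 from LinearMap.congr_fun hper.1 w]
      rfl
    · show ψq i (φq i (v i)) = 0
      rw [← hw]
      show Submodule.Quotient.mk (ψ (φ w)) = 0
      rw [show ψ (φ w) = 0 from LinearMap.congr_fun hper.2 w]
      rfl
  have : IsNoetherian R M := isNoetherian_of_isNoetherianRing_of_finite R M
  have hker : Module.length R (LinearMap.ker Θ) < ⊤ := by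
    refine length_lt_top_of_torsion fun p hp z => ?_
    obtain ⟨s, hs, hsz⟩ := hloc z (fun i =>
      (Submodule.Quotient.mk_eq_zero _).mp (congrFun (LinearMap.mem_ker.mp z.2) i)) p hp
    exact ⟨s, hs, Subtype.ext hsz⟩
  have hcok : Module.length R ((∀ i, M ⧸ K i) ⧸ LinearMap.range Θ) < ⊤ := by
    refine length_lt_top_of_torsion fun p hp w => ?_
    obtain ⟨v, rfl⟩ := Submodule.mkQ_surjective _ w
    have h1 : ∀ i, ∀ m : M, ∃ s : R, s ∉ p.asIdeal ∧
        s • Pi.single i ((K i).mkQ m) ∈ LinearMap.range Θ := fun i m => by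
      have hex : ∀ k, p ≠ q k → ∃ s : R, s ∉ p.asIdeal ∧ ∀ z : M, s • z ∈ K k := fun k hk => hsep k p hp hk
      by_cases hpi : p = q i
      · have hk : ∀ k ∈ Finset.univ.erase i, ∃ s : R, s ∉ p.asIdeal ∧ ∀ z : M, s • z ∈ K k :=
          fun k hk => hex k fun e => (Finset.mem_erase.mp hk).1 (hq (e.symm.trans hpi))
        choose! s hs hsz using hk
        refine ⟨∏ k ∈ Finset.univ.erase i, s k,
          Submonoid.prod_mem p.asIdeal.primeCompl fun k hk => hs k hk,
          (∏ k ∈ Finset.univ.erase i, s k) • m, funext fun k => ?_⟩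
        rcases eq_or_ne k i with rfl | hki
        · rw [Pi.smul_apply, Pi.single_eq_same]
          rfl
        · rw [Pi.smul_apply, Pi.single_eq_of_ne hki, smul_zero]
          show Submodule.Quotient.mk _ = 0
          rw [Submodule.Quotient.mk_eq_zero]
          obtain ⟨t, ht⟩ := Finset.dvd_prod_of_mem s (Finset.mem_erase.mpr ⟨hki, Finset.mem_univ k⟩)
          rw [ht, mul_smul]
          exact hsz k (Finset.mem_erase.mpr ⟨hki, Finset.mem_univ k⟩) _
      · obtain ⟨s, hs, hsz⟩ := hex i hpi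
        refine ⟨s, hs, ?_⟩
        rw [← Pi.single_smul, ← map_smul, show (K i).mkQ (s • m) = 0 from
          (Submodule.Quotient.mk_eq_zero _).mpr (hsz m), Pi.single_zero]
        exact zero_mem _
    choose m hm using fun i => Submodule.mkQ_surjective (K i) (v i)
    choose s hs hsv using fun i => h1 i (m i)
    refine ⟨∏ i, s i, Submonoid.prod_mem p.asIdeal.primeCompl fun i _ => hs i, ?_⟩
    rw [← map_smul, Submodule.mkQ_apply, Submodule.Quotient.mk_eq_zero, ← Finset.univ_sum_single v, Finset.smul_sum]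
    refine Submodule.sum_mem _ fun i _ => ?_
    obtain ⟨t, ht⟩ := Finset.dvd_prod_of_mem s (Finset.mem_univ i)
    rw [ht, mul_comm, mul_smul, ← hm i]
    exact Submodule.smul_mem _ _ (hsv i)
  obtain ⟨hfin', heq⟩ := Periodic.eq_of_ker_coker hper hper' cφ cψ hfin hker hker hcok hcok
  rw [sub_self, sub_self, sub_zero, sub_zero] at heq
  obtain ⟨hf, hsum⟩ := herbrand_pi φq ψq hfin'
  exact ⟨hf, heq.trans hsum⟩

end Sum

section Point

variable {S : Type u} [CommRing S] [IsLocalRing S] {V : Type u} [AddCommGroup V] [Module S V]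

/-- Elements of the maximal ideal act nilpotently on a module of finite length. -/
theorem pow_smul_eq_zero {l : ℕ} (hl : Module.length S V = l) {t : S} (ht : t ∈ maximalIdeal S) (v : V) :
    t ^ l • v = 0 := by
  obtain ⟨e, hs⟩ := exists_strict l V hl
  have key : ∀ m ≤ l, spanBefore S V e.1 m ≤ LinearMap.ker ((t ^ m) • (LinearMap.id : V →ₗ[S] V)) := by
    intro m
    induction m with
    | zero =>
      intro _
      rw [spanBefore_zero]
      exact bot_le
    | succ m ih =>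
      intro hm
      rw [show m + 1 = ((⟨m, hm⟩ : Fin l) : ℕ) + 1 from rfl, spanBefore_succ]
      refine sup_le (fun z hz => ?_) (Submodule.span_le.mpr (Set.singleton_subset_iff.mpr ?_))
      · have h0 : t ^ m • z = 0 := ih (by omega) hz
        show t ^ (m + 1) • z = 0
        rw [pow_succ', mul_smul, h0, smul_zero]
      · have h0 : t ^ m • t • e.1 ⟨m, hm⟩ = 0 := ih (by omega) (e.2 ⟨m, hm⟩ t ht)
        show t ^ (m + 1) • e.1 ⟨m, hm⟩ = 0
        rw [pow_succ, mul_smul, h0]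
  have h := key l le_rfl
  rw [spanBefore_last _ le_rfl, (strict_iff_span e.2 hl).mp hs] at h
  exact h trivial

/-- Scaling the entries of a tuple by units. -/
theorem clsT_scale {l : ℕ} (u : Fin l → Sˣ) (e : Fin l → V) :
    clsT S (fun i => (u i : S) • e i) = (∏ i, residue S (u i : S)) • clsT S e := by
  classical
  suffices ∀ s : Finset (Fin l), clsT S (fun i => if i ∈ s then (u i : S) • e i else e i) =
      (∏ i ∈ s, residue S (u i : S)) • clsT S e by simpa using this Finset.univ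
  intro s
  induction s using Finset.induction_on with
  | empty => simp
  | insert a s ha ih =>
    rw [Finset.prod_insert ha, mul_smul, ← ih]
    refine clsT_smul a (u a) (fun j hj => ?_) ?_
    · simp [hj]
    · simp [ha]

theorem prod_cat {K : Type*} [CommMonoid K] {a b l : ℕ} (h : a + b = l) (P : Fin a → K) (Q : Fin b → K) :
    ∏ i, cat h P Q i = (∏ i, P i) * ∏ i, Q i := by
  subst h
  rw [Fin.prod_univ_add]
  simp [cat]

theorem clsT_cat_scale {a b l : ℕ} (h : a + b = l) (u : Fin a → Sˣ) (v : Fin b → Sˣ) (P : Fin a → V)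
    (Q : Fin b → V) :
    clsT S (cat h (fun i => (u i : S) • P i) (fun i => (v i : S) • Q i)) =
      ((∏ i, residue S (u i : S)) * ∏ i, residue S (v i : S)) • clsT S (cat h P Q) := by
  subst h
  have e : cat rfl (fun i => (u i : S) • P i) (fun i => (v i : S) • Q i) =
      fun t => ((cat rfl u v t : Sˣ) : S) • cat rfl P Q t := by
    funext t
    induction t using Fin.addCases with
    | left i => simp [cat]
    | right i => simp [cat]
  rw [e, clsT_scale]
  congr 1
  rw [← prod_cat (rfl : a + b = a + b)]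
  exact Finset.prod_congr rfl fun t _ => congrFun (comp_cat (fun w : Sˣ => residue S (w : S)) rfl u v) t

/-- The data at a generic point: adapted tuples and the ratio of their symbols. -/
theorem exists_data (hV : Module.length S V ≠ ⊤) (Φ Ψ : V →ₗ[S] V)
    (hI : LinearMap.range Φ = LinearMap.ker Ψ) (hJ : LinearMap.range Ψ = LinearMap.ker Φ) :
    ∃ (l a b : ℕ) (h : a + b = l) (h' : b + a = l) (A : Fin a → V) (B : Fin b → V) (f : ResidueField S),
      Module.length S V = l ∧ f ≠ 0 ∧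
      (IsAdmissible S V (Φ ∘ A) ∧ Strict S (Φ ∘ A) ∧ Submodule.span S (Set.range (Φ ∘ A)) = LinearMap.ker Ψ) ∧
      (IsAdmissible S V (Ψ ∘ B) ∧ Strict S (Ψ ∘ B) ∧ Submodule.span S (Set.range (Ψ ∘ B)) = LinearMap.ker Φ) ∧
      clsT S (cat h' (Ψ ∘ B) A) ≠ 0 ∧
      clsT S (cat h (Φ ∘ A) B) = f • clsT S (cat h' (Ψ ∘ B) A) := by
  have half : ∀ Φ Ψ : V →ₗ[S] V, LinearMap.range Φ = LinearMap.ker Ψ →
      ∃ (a : ℕ) (A : Fin a → V), Module.length S (LinearMap.ker Ψ) = a ∧ IsAdmissible S V (Φ ∘ A) ∧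
        Strict S (Φ ∘ A) ∧ Submodule.span S (Set.range (Φ ∘ A)) = LinearMap.ker Ψ := by
    intro Φ Ψ hI
    have hfl : IsFiniteLength S (LinearMap.ker Ψ) := Module.length_ne_top_iff.mp
      (ne_top_of_le_ne_top hV (Module.length_le_of_injective _ (Submodule.injective_subtype _)))
    obtain ⟨e, he⟩ := exists_strict _ (LinearMap.ker Ψ) (length_eq_toNat hfl)
    have hspan := (strict_iff_span e.2 (length_eq_toNat hfl)).mp he
    choose A hA using fun i => (hI.symm ▸ (e.1 i).2 : (e.1 i : V) ∈ LinearMap.range Φ)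
    have hΦA : (Φ ∘ A : _ → V) = (LinearMap.ker Ψ).subtype ∘ e.1 := funext hA
    have hmap : ∀ m, spanBefore S V (Φ ∘ A) m =
        (spanBefore S (LinearMap.ker Ψ) e.1 m).map (LinearMap.ker Ψ).subtype := fun m => by
      rw [PeriodicRatio.map_spanBefore, hΦA]
    refine ⟨_, A, length_eq_toNat hfl, fun i r hr => ?_, fun i hi => ?_, ?_⟩
    · rw [hmap, show r • (Φ ∘ A) i = (LinearMap.ker Ψ).subtype (r • e.1 i) by rw [hΦA, map_smul]; rfl]
      exact Submodule.mem_map_of_mem (e.2 i r hr)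
    · rw [hmap, show (Φ ∘ A) i = (LinearMap.ker Ψ).subtype (e.1 i) by rw [hΦA]; rfl] at hi
      obtain ⟨w, hw, hwe⟩ := hi
      exact he i (Submodule.injective_subtype _ hwe ▸ hw)
    · rw [hΦA, Set.range_comp, ← Submodule.map_span, hspan, Submodule.map_subtype_top]
  obtain ⟨a, A, ha, hA⟩ := half Φ Ψ hI
  obtain ⟨b, B, hb, hB⟩ := half Ψ Φ hJ
  have hl : Module.length S V = ((a + b : ℕ) : ℕ∞) := by
    rw [Periodic.length_ker_add_range Ψ, hJ, ha, hb, Nat.cast_add]
  obtain ⟨wa, ws⟩ := cat_adm_strict (Ψ := Ψ) (rfl : a + b = a + b) hA.2.2 hA.1 hA.2.1 hB.1 hB.2.1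
  obtain ⟨wa', ws'⟩ := cat_adm_strict (Ψ := Φ) (Nat.add_comm b a) hB.2.2 hB.1 hB.2.1 hA.1 hA.2.1
  have h1 : clsT S (cat rfl (Φ ∘ A) B) ≠ 0 := by
    rw [show clsT S (cat rfl (Φ ∘ A) B) = cls ⟨_, wa⟩ from clsT_adm ⟨_, wa⟩]
    exact cls_ne_zero hl _ ws
  have h2 : clsT S (cat (Nat.add_comm b a) (Ψ ∘ B) A) = cls ⟨_, wa'⟩ := clsT_adm ⟨_, wa'⟩
  obtain ⟨f, hf⟩ := exists_smul_cls hl ⟨_, wa'⟩ ws' (clsT S (cat rfl (Φ ∘ A) B))
  rw [← h2] at hf
  refine ⟨a + b, a, b, rfl, Nat.add_comm b a, A, B, f, hl, ?_, hA, hB, ?_, hf.symm⟩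
  · rintro rfl
    exact h1 (by rw [← hf, zero_smul])
  · intro h0
    exact h1 (by rw [← hf, h0, smul_zero])

end Point

end Groth.Agent.H23.PeriodicLocal
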