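import Groth.Agent.H23.RatioAbs
import Groth.Prelude.Def_CycAlg

/-! The Herbrand quotient of a periodic complex as the order of a ratio of symbols. -/

set_option linter.unusedSectionVars false
set_option maxHeartbeats 400000

namespace Groth.Agent.H23.PeriodicRatio

open CycDet IsLocalRing IntThLib Groth.Agent.CycLib RatioAbs

universe u

variable {R : Type u} [CommRing R] [IsNoetherianRing R] [IsLocalRing R] (q : PrimeSpectrum R)
  (S : Type u) [CommRing S] [Algebra R S] [IsLocalization.AtPrime S q.asIdeal] [IsLocalRing S]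
  {N : Type u} [AddCommGroup N] [Module R N]
  {V : Type u} [AddCommGroup V] [Module R V] [Module S V] [IsScalarTower R S V]
  (jm : N →ₗ[R] V)

section Cat

variable {A : Type*} [CommRing A] [IsLocalRing A] {W : Type*} [AddCommGroup W] [Module A W] {a b l : ℕ}

/-- Concatenation of two tuples. -/
def cat {W : Type*} (h : a + b = l) (P : Fin a → W) (Q : Fin b → W) : Fin l → W :=
  Fin.append P Q ∘ Fin.cast h.symm

theorem comp_cat {W W' : Type*} (f : W → W') (h : a + b = l) (P : Fin a → W) (Q : Fin b → W) :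
    f ∘ cat h P Q = cat h (f ∘ P) (f ∘ Q) := by
  subst h
  funext t
  induction t using Fin.addCases with
  | left i => simp [cat]
  | right i => simp [cat]

theorem cat_left {W : Type*} (h : a + b = l) (P : Fin a → W) (Q : Fin b → W) (i : Fin a) :
    cat h P Q (Fin.cast h (Fin.castAdd b i)) = P i := by
  subst h
  simp [cat]

theorem cat_right {W : Type*} (h : a + b = l) (P : Fin a → W) (Q : Fin b → W) (i : Fin b) :
    cat h P Q (Fin.cast h (Fin.natAdd a i)) = Q i := by
  subst h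
  simp [cat]

theorem span_cat_left (h : a + b = l) (P : Fin a → W) (Q : Fin b → W) {k : ℕ} (hk : k ≤ a) :
    spanBefore A W (cat h P Q) k = spanBefore A W P k := by
  subst h
  unfold spanBefore
  congr 1
  ext z
  simp only [Set.mem_image, Set.mem_ofPred_eq]
  constructor
  · rintro ⟨t, ht, rfl⟩
    induction t using Fin.addCases with
    | left i => exact ⟨i, ht, by simp [cat]⟩
    | right i => simp only [Fin.val_natAdd] at ht; omega
  · rintro ⟨i, hi, rfl⟩
    exact ⟨Fin.castAdd b i, hi, by simp [cat]⟩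

theorem span_cat_right (h : a + b = l) (P : Fin a → W) (Q : Fin b → W) (m : ℕ) :
    spanBefore A W (cat h P Q) (a + m) = Submodule.span A (Set.range P) ⊔ spanBefore A W Q m := by
  subst h
  unfold spanBefore
  rw [← Submodule.span_union]
  congr 1
  ext z
  simp only [Set.mem_image, Set.mem_ofPred_eq, Set.mem_union, Set.mem_range]
  constructor
  · rintro ⟨t, ht, rfl⟩
    induction t using Fin.addCases with
    | left i => exact Or.inl ⟨i, by simp [cat]⟩
    | right i =>
      simp only [Fin.val_natAdd] at ht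
      exact Or.inr ⟨i, by omega, by simp [cat]⟩
  · rintro (⟨i, rfl⟩ | ⟨i, hi, rfl⟩)
    · exact ⟨Fin.castAdd b i, by simp only [Fin.val_castAdd]; omega, by simp [cat]⟩
    · exact ⟨Fin.natAdd a i, by simp only [Fin.val_natAdd]; omega, by simp [cat]⟩

theorem map_spanBefore {W' : Type*} [AddCommGroup W'] [Module A W'] (f : W →ₗ[A] W') (Q : Fin b → W) (m : ℕ) :
    (spanBefore A W Q m).map f = spanBefore A W' (f ∘ Q) m := by
  rw [spanBefore, spanBefore, Submodule.map_span, Set.image_comp]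

/-- If `P` spans the kernel of `Ψ`, a span is the preimage of a span. -/
theorem span_cat_comap {Ψ : W →ₗ[A] W} (h : a + b = l) (P : Fin a → W) (Q : Fin b → W)
    (hP : Submodule.span A (Set.range P) = LinearMap.ker Ψ) (m : ℕ) :
    spanBefore A W (cat h P Q) (a + m) = (spanBefore A W (Ψ ∘ Q) m).comap Ψ := by
  rw [span_cat_right, ← map_spanBefore, Submodule.comap_map_eq, hP, sup_comm]

theorem cat_adm_strict {Ψ : W →ₗ[A] W} (h : a + b = l) {P : Fin a → W} {Q : Fin b → W}
    (hP : Submodule.span A (Set.range P) = LinearMap.ker Ψ) (hPa : IsAdmissible A W P) (hPs : Strict A P)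
    (hQa : IsAdmissible A W (Ψ ∘ Q)) (hQs : Strict A (Ψ ∘ Q)) :
    IsAdmissible A W (cat h P Q) ∧ Strict A (cat h P Q) := by
  subst h
  constructor
  · intro t r hr
    induction t using Fin.addCases with
    | left i =>
      rw [Fin.val_castAdd, span_cat_left _ _ _ i.2.le]
      simpa [cat] using hPa i r hr
    | right i =>
      rw [Fin.val_natAdd, span_cat_comap (Ψ := Ψ) _ _ _ hP, Submodule.mem_comap, map_smul]
      simpa [cat] using hQa i r hr
  · intro t
    induction t using Fin.addCases with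
    | left i =>
      rw [Fin.val_castAdd, span_cat_left _ _ _ i.2.le]
      simpa [cat] using hPs i
    | right i =>
      rw [Fin.val_natAdd, span_cat_comap (Ψ := Ψ) _ _ _ hP, Submodule.mem_comap]
      simpa [cat] using hQs i

end Cat

/-- A gap measured inside a submodule. -/
noncomputable def gapIn (Z : Submodule R N) {n : ℕ} (u : Fin n → N) (k : ℕ) : ℕ∞ :=
  relLen R (sat S jm u (k + 1) ⊓ Z) ((sat S jm u k ⊓ Z) ⊔ spanBefore R N u (k + 1))

/-- The total gap inside a submodule. -/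
noncomputable def T (Z : Submodule R N) {n : ℕ} (u : Fin n → N) : ℕ∞ :=
  ∑ k ∈ Finset.range n, gapIn S jm Z u k

omit [IsNoetherianRing R] in
theorem relLen_comap (f : N →ₗ[R] N) (M L : Submodule R N) (hL : LinearMap.ker f ≤ L)
    (_hLM : L ≤ M.comap f) : relLen R (M.comap f) L = relLen R (M ⊓ LinearMap.range f) (L.map f) := by
  let g : ↥(M.comap f) →ₗ[R] ↥(M ⊓ LinearMap.range f) :=
    (f ∘ₗ (M.comap f).subtype).codRestrict _ fun z => ⟨z.2, LinearMap.mem_range_self f _⟩
  let g' : ↥(M.comap f) →ₗ[R] ↥(M ⊓ LinearMap.range f) ⧸ (L.map f).submoduleOf (M ⊓ LinearMap.range f) :=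
    Submodule.mkQ _ ∘ₗ g
  have hs : Function.Surjective g' := fun z => by
    obtain ⟨⟨z, hz, w, rfl⟩, rfl⟩ := Submodule.mkQ_surjective _ z
    exact ⟨⟨w, hz⟩, rfl⟩
  have hk : LinearMap.ker g' = L.submoduleOf (M.comap f) := by
    ext z
    rw [LinearMap.mem_ker]
    show Submodule.Quotient.mk (g z) = 0 ↔ (z : N) ∈ L
    rw [Submodule.Quotient.mk_eq_zero]
    show f (z : N) ∈ L.map f ↔ _
    constructor
    · rintro ⟨w, hw, hwz⟩
      have : (z : N) - w ∈ L := hL (by rw [LinearMap.mem_ker, map_sub, hwz, sub_self])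
      simpa using add_mem this hw
    · exact fun hz => Submodule.mem_map_of_mem hz
  exact ((Submodule.quotEquivOfEq _ _ hk.symm).trans (g'.quotKerEquivOfSurjective hs)).length_eq

variable {Φ Ψ : V →ₗ[S] V} {φ ψ : N →ₗ[R] N} {a b l : ℕ}

omit q [IsLocalization.AtPrime S q.asIdeal] in
theorem sat_zero (hj : Function.Injective jm) {n : ℕ} (u : Fin n → N) : sat S jm u 0 = ⊥ := by
  refine eq_bot_iff.mpr fun z hz => ?_
  replace hz : jm z ∈ spanBefore S V (loc jm u) 0 := hz
  rw [spanBefore_zero, Submodule.mem_bot] at hz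
  exact hj (hz.trans (map_zero jm).symm)

omit q [IsLocalization.AtPrime S q.asIdeal] in
theorem telescope (hj : Function.Injective jm) (Z : Submodule R N) {n : ℕ} (u : Fin n → N)
    (hu : ∀ i, u i ∈ Z) : ∀ m, m ≤ n →
    ∑ k ∈ Finset.range m, gap S jm u k =
      ∑ k ∈ Finset.range m, gapIn S jm Z u k + relLen R (sat S jm u m) (sat S jm u m ⊓ Z) := by
  intro m
  induction m with
  | zero =>
    intro _
    rw [sat_zero S jm hj, bot_inf_eq, relLen_self]
    simp
  | succ m ih =>
    intro hm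
    rw [Finset.sum_range_succ, Finset.sum_range_succ, ih (by omega), add_assoc, add_assoc]
    congr 1
    set s := sat S jm u m
    set s' := sat S jm u (m + 1)
    set U := spanBefore R N u (m + 1)
    have hUZ : U ≤ Z := Submodule.span_le.mpr (by rintro _ ⟨i, -, rfl⟩; exact hu i)
    have hUs : U ≤ s' := spanBefore_le_sat S jm u (m + 1)
    have hss : s ≤ s' := sat_mono S jm u (Nat.le_succ m)
    have h1 : s ⊔ ((s ⊓ Z) ⊔ U) = s ⊔ U := by rw [← sup_assoc, sup_inf_self]
    have h2 : s ⊓ ((s ⊓ Z) ⊔ U) = s ⊓ Z :=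
      le_antisymm (le_inf inf_le_left (inf_le_right.trans (sup_le inf_le_right hUZ)))
        (le_inf inf_le_left le_sup_left)
    have h3 : relLen R (s ⊔ U) ((s ⊓ Z) ⊔ U) = relLen R s (s ⊓ Z) := by
      rw [← h1, relLen_sup_inf, h2]
    show relLen R s (s ⊓ Z) + relLen R s' (s ⊔ U) =
      relLen R (s' ⊓ Z) ((s ⊓ Z) ⊔ U) + relLen R s' (s' ⊓ Z)
    rw [← h3, ← relLen_add (sup_le (inf_le_left.trans le_sup_left) le_sup_right) (sup_le hss hUs),
      ← relLen_add (sup_le (le_inf (inf_le_left.trans hss) inf_le_right) (le_inf hUs hUZ)) inf_le_left]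

omit q [IsLocalization.AtPrime S q.asIdeal] in
/-- The total gap of a tuple adapted to `Φ` and `Ψ`. -/
theorem total_cat (hj : Function.Injective jm) (hψ : ∀ n, jm (ψ n) = Ψ (jm n))
    (hψφ : ∀ n, ψ (φ n) = 0) (h : a + b = l) (A : Fin a → N) (B : Fin b → N)
    (hP : Submodule.span S (Set.range (loc jm (φ ∘ A))) = LinearMap.ker Ψ) :
    total S jm (cat h (φ ∘ A) B) = T S jm (LinearMap.range φ) (φ ∘ A) +
      relLen R (LinearMap.ker ψ) (LinearMap.range φ) + T S jm (LinearMap.range ψ) (ψ ∘ B) := by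
  subst h
  set w := cat rfl (φ ∘ A) B
  have hloc : loc jm w = cat rfl (loc jm (φ ∘ A)) (loc jm B) := comp_cat _ _ _ _
  have hleft : ∀ k, k ≤ a → sat S jm w k = sat S jm (φ ∘ A) k := fun k hk => by
    unfold sat
    rw [hloc, span_cat_left _ _ _ hk]
  have hcomp : (Ψ ∘ loc jm B : Fin b → V) = loc jm (ψ ∘ B) := funext fun i => (hψ (B i)).symm
  have hright : ∀ m, sat S jm w (a + m) = (sat S jm (ψ ∘ B) m).comap ψ := fun m => by
    ext z
    show jm z ∈ spanBefore S V (loc jm w) (a + m) ↔ jm (ψ z) ∈ spanBefore S V (loc jm (ψ ∘ B)) m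
    rw [hloc, span_cat_comap (Ψ := Ψ) _ _ _ hP, Submodule.mem_comap, hcomp, hψ]
  have hrφ : LinearMap.range φ ≤ LinearMap.ker ψ := by
    rintro _ ⟨n, rfl⟩
    exact hψφ n
  have hsa : sat S jm (φ ∘ A) a = LinearMap.ker ψ := by
    ext z
    show jm z ∈ spanBefore S V (loc jm (φ ∘ A)) a ↔ _
    rw [spanBefore_last _ le_rfl, hP, LinearMap.mem_ker, LinearMap.mem_ker, ← hψ,
      map_eq_zero_iff jm hj]
  rw [RatioAbs.total, Finset.sum_range_add]
  congr 1
  · rw [show ∑ k ∈ Finset.range a, gap S jm w k = ∑ k ∈ Finset.range a, gap S jm (φ ∘ A) k from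
      Finset.sum_congr rfl fun k hk => by
        rw [Finset.mem_range] at hk
        unfold gap
        rw [hleft _ hk, hleft _ hk.le, span_cat_left _ _ _ hk],
      telescope S jm hj _ (φ ∘ A) (fun i => LinearMap.mem_range_self φ _) a le_rfl, hsa,
      inf_eq_right.mpr hrφ]
    rfl
  · refine Finset.sum_congr rfl fun m hm => ?_
    rw [Finset.mem_range] at hm
    show relLen R (sat S jm w (a + m + 1)) (sat S jm w (a + m) ⊔ spanBefore R N w (a + m + 1)) = _
    rw [add_assoc, hright, hright, relLen_comap]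
    · show _ = relLen R _ _
      congr 1
      rw [Submodule.map_sup, Submodule.map_comap_eq, inf_comm, span_cat_right, Submodule.map_sup,
        Submodule.map_span, map_spanBefore]
      rw [show Submodule.span R (ψ '' Set.range (φ ∘ A)) = ⊥ from Submodule.span_eq_bot.mpr (by
        rintro _ ⟨_, ⟨i, rfl⟩, rfl⟩
        exact hψφ _), bot_sup_eq]
    · exact le_sup_of_le_left fun z hz => by
        rw [Submodule.mem_comap, LinearMap.mem_ker.mp hz]
        exact zero_mem _
    · refine sup_le (Submodule.comap_mono (sat_mono S jm _ (Nat.le_succ m))) ?_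
      rw [← hright]
      exact spanBefore_le_sat S jm w (a + (m + 1))

include q in
theorem smul_sat_succ {n : ℕ} {u : Fin n → N} (hu : IsAdmissible S V (loc jm u)) (k : Fin n) {z : N}
    (hz : z ∈ sat S jm u (k + 1)) {r : R} (hr : r ∈ q.asIdeal) : r • z ∈ sat S jm u k := by
  obtain ⟨c, s, hs, h⟩ := sat_succ q S jm k hz
  refine (smul_mem_sat q S jm hs).mp ?_
  have e : s • r • z = r • (s • z - c • u k) + c • r • u k := by
    rw [smul_sub, smul_comm r s z, smul_comm r c (u k), sub_add_cancel]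
  rw [e]
  exact add_mem (Submodule.smul_mem _ _ h) (Submodule.smul_mem _ _ (smul_self_mem q S jm hu k hr))

include q in
theorem gapIn_ne_top [Ring.KrullDimLE 1 (R ⧸ q.asIdeal)] [Module.Finite R N] (Z : Submodule R N) {n : ℕ}
    {u : Fin n → N} (hu : IsAdmissible S V (loc jm u)) (huZ : ∀ i, u i ∈ Z) (k : Fin n) :
    gapIn S jm Z u k ≠ ⊤ := by
  classical
  have : IsNoetherian R N := isNoetherian_of_isNoetherianRing_of_finite R N
  set M := sat S jm u ((k : ℕ) + 1) ⊓ Z
  set L := (sat S jm u k ⊓ Z) ⊔ spanBefore R N u ((k : ℕ) + 1)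
  show Module.length R (↥M ⧸ L.submoduleOf M) ≠ ⊤
  let Q := ↥M ⧸ L.submoduleOf M
  have htors : Module.IsTorsionBySet R Q (q.asIdeal : Set R) := fun x r => by
    obtain ⟨z, rfl⟩ := Submodule.mkQ_surjective _ x
    rw [Submodule.mkQ_apply, ← Submodule.Quotient.mk_smul, Submodule.Quotient.mk_eq_zero]
    show (r : R) • (z : N) ∈ L
    exact Submodule.mem_sup_left ⟨smul_sat_succ q S jm hu k z.2.1 r.2, Z.smul_mem _ z.2.2⟩
  have hx : ∀ x : Q, ∃ s : R, s ∉ q.asIdeal ∧ s • x = 0 := fun x => by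
    obtain ⟨z, rfl⟩ := Submodule.mkQ_surjective _ x
    obtain ⟨c, s, hs, h⟩ := sat_succ q S jm k z.2.1
    refine ⟨s, hs, ?_⟩
    rw [Submodule.mkQ_apply, ← Submodule.Quotient.mk_smul, Submodule.Quotient.mk_eq_zero]
    show s • (z : N) ∈ L
    rw [show s • (z : N) = (s • (z : N) - c • u k) + c • u k by abel]
    exact Submodule.add_mem_sup ⟨h, sub_mem (Z.smul_mem _ z.2.2) (Z.smul_mem _ (huZ k))⟩
      (Submodule.smul_mem _ _ (mem_spanBefore (Nat.lt_succ_self _)))
  obtain ⟨G, hG⟩ := (Module.Finite.fg_top (R := R) (M := Q))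
  choose s hs hsz using hx
  have hp : (∏ x ∈ G, s x) ∉ q.asIdeal :=
    Submonoid.prod_mem q.asIdeal.primeCompl fun x _ => hs x
  have hall : ∀ x : Q, (∏ x ∈ G, s x) • x = 0 := fun x => by
    have hle : (⊤ : Submodule R Q) ≤ LinearMap.ker ((∏ x ∈ G, s x) • (LinearMap.id : Q →ₗ[R] Q)) := by
      rw [← hG, Submodule.span_le]
      intro y hy
      obtain ⟨t, ht⟩ := Finset.dvd_prod_of_mem s hy
      show (∏ x ∈ G, s x) • y = 0
      rw [ht, mul_comm, mul_smul, hsz, smul_zero]
    exact hle trivial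
  let : Module (R ⧸ q.asIdeal) Q := htors.module
  have : IsScalarTower R (R ⧸ q.asIdeal) Q := htors.isScalarTower
  have : Module.Finite (R ⧸ q.asIdeal) Q := Module.Finite.of_restrictScalars_finite R _ Q
  show Module.length R Q ≠ ⊤
  rw [Module.length_eq_of_surjective (S := R) (R := R ⧸ q.asIdeal) (M := Q) Ideal.Quotient.mk_surjective]
  exact length_ne_top_of_smul_eq_zero (mt Ideal.Quotient.eq_zero_iff_mem.mp hp) fun x =>
    (Module.IsTorsionBySet.mk_smul htors _ x).trans (hall x)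

include q in
theorem T_ne_top [Ring.KrullDimLE 1 (R ⧸ q.asIdeal)] [Module.Finite R N] (Z : Submodule R N) {n : ℕ}
    {u : Fin n → N} (hu : IsAdmissible S V (loc jm u)) (huZ : ∀ i, u i ∈ Z) :
    T S jm Z u ≠ ⊤ :=
  WithTop.sum_ne_top.mpr fun k hk =>
    gapIn_ne_top q S jm Z hu huZ ⟨k, Finset.mem_range.mp hk⟩

include q in
/-- The ratio of the two symbols of an exact periodic complex computes the Herbrand quotient. -/
theorem key [Ring.KrullDimLE 1 (R ⧸ q.asIdeal)] [Module.Finite R N] (hj : Function.Injective jm)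
    (hφ : ∀ n, jm (φ n) = Φ (jm n)) (hψ : ∀ n, jm (ψ n) = Ψ (jm n))
    (hψφ : ∀ n, ψ (φ n) = 0) (hφψ : ∀ n, φ (ψ n) = 0)
    (hl : Module.length S V = l) (h : a + b = l) (h' : b + a = l) (A : Fin a → N) (B : Fin b → N)
    (hA : IsAdmissible S V (Φ ∘ loc jm A)) (hAs : Strict S (Φ ∘ loc jm A))
    (hAspan : Submodule.span S (Set.range (Φ ∘ loc jm A)) = LinearMap.ker Ψ)
    (hB : IsAdmissible S V (Ψ ∘ loc jm B)) (hBs : Strict S (Ψ ∘ loc jm B))
    (hBspan : Submodule.span S (Set.range (Ψ ∘ loc jm B)) = LinearMap.ker Φ)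
    (h0 : Module.length R (CycAlg.perH ψ φ) ≠ ⊤) (h1 : Module.length R (CycAlg.perH φ ψ) ≠ ⊤) :
    ∃ r s : R, r ∉ q.asIdeal ∧ s ∉ q.asIdeal ∧
      clsT S (cat h (Φ ∘ loc jm A) (loc jm B)) =
        (residue S (algebraMap R S r) / residue S (algebraMap R S s)) •
          clsT S (cat h' (Ψ ∘ loc jm B) (loc jm A)) ∧
      CycAlg.herbrand R ψ φ = ((ordQ q r).toNat : ℤ) - ((ordQ q s).toNat : ℤ) := by
  have eA : (Φ ∘ loc jm A : Fin a → V) = loc jm (φ ∘ A) := funext fun i => (hφ (A i)).symm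
  have eB : (Ψ ∘ loc jm B : Fin b → V) = loc jm (ψ ∘ B) := funext fun i => (hψ (B i)).symm
  have e₁ : cat h (Φ ∘ loc jm A) (loc jm B) = loc jm (cat h (φ ∘ A) B) := by rw [eA]; exact (comp_cat _ _ _ _).symm
  have e₂ : cat h' (Ψ ∘ loc jm B) (loc jm A) = loc jm (cat h' (ψ ∘ B) A) := by rw [eB]; exact (comp_cat _ _ _ _).symm
  obtain ⟨wa, ws⟩ := cat_adm_strict (Ψ := Ψ) h hAspan hA hAs hB hBs
  obtain ⟨wa', ws'⟩ := cat_adm_strict (Ψ := Φ) h' hBspan hB hBs hA hAs
  rw [e₁] at wa ws ⊢
  rw [e₂] at wa' ws' ⊢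
  obtain ⟨r, s, hr, hs, hcls, htot⟩ :=
    RatioAbs.prop_all q S jm wa' ws' hl (Nat.zero_add l) _ wa ws fun j hj => absurd hj (Nat.not_lt_zero _)
  refine ⟨r, s, hr, hs, hcls, ?_⟩
  rw [total_cat S jm (Ψ := Ψ) hj hψ hψφ h A B (eA ▸ hAspan),
    total_cat S jm (Ψ := Φ) hj hφ hφψ h' B A (eB ▸ hBspan)] at htot
  have t1 := T_ne_top q S jm (LinearMap.range φ) (u := φ ∘ A) (eA ▸ hA) fun i => LinearMap.mem_range_self φ _
  have t2 := T_ne_top q S jm (LinearMap.range ψ) (u := ψ ∘ B) (eB ▸ hB) fun i => LinearMap.mem_range_self ψ _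
  have hord : ∀ {x : R}, x ∉ q.asIdeal → ordQ q x ≠ ⊤ := fun hx =>
    Ring.ord_ne_top (mem_nonZeroDivisors_of_ne_zero (mt Ideal.Quotient.eq_zero_iff_mem.mp hx))
  have or' := hord hr
  have os := hord hs
  show ((Module.length R (CycAlg.perH ψ φ)).toNat : ℤ) - ((Module.length R (CycAlg.perH φ ψ)).toNat : ℤ) = _
  change _ + Module.length R (CycAlg.perH ψ φ) + _ + _ = _ + Module.length R (CycAlg.perH φ ψ) + _ + _ at htot
  lift T S jm (LinearMap.range φ) (φ ∘ A) to ℕ using t1 with x hx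
  lift T S jm (LinearMap.range ψ) (ψ ∘ B) to ℕ using t2 with y hy
  lift ordQ q r to ℕ using or' with c hc
  lift ordQ q s to ℕ using os with d hd
  lift Module.length R (CycAlg.perH ψ φ) to ℕ using h0 with p hp
  lift Module.length R (CycAlg.perH φ ψ) to ℕ using h1 with p' hp'
  simp only [ENat.toNat_natCast]
  have : x + p + y + d = y + p' + x + c := by exact_mod_cast htot
  omega

end Groth.Agent.H23.PeriodicRatio
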