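import Mathlib.AlgebraicGeometry.AffineScheme
import Mathlib.RingTheory.Localization.Away.Basic

/-!
# A non-affine union of two basic opens
-/

open AlgebraicGeometry CategoryTheory

universe u

namespace Groth.Agent.H23.PlaneCx

theorem not_isAffineOpen_sup {R : CommRingCat.{u}} [IsDomain R] (s t : R) (hsp : Prime s)
    (ht0 : t ≠ 0) (hst : ¬ s ∣ t) (hproper : ∀ c d : R, c * s + d * t ≠ 1) :
    ¬ IsAffineOpen (X := Spec R) (PrimeSpectrum.basicOpen s ⊔ PrimeSpectrum.basicOpen t) := by
  intro hU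
  let U : (Spec R).Opens := PrimeSpectrum.basicOpen s ⊔ PrimeSpectrum.basicOpen t
  replace hU : IsAffineOpen U := hU
  have hs0 : s ≠ 0 := hsp.ne_zero
  -- restriction maps commute with the maps from the ring
  have res : ∀ {V W : (Spec R).Opens} (h : W ≤ V) (r : R),
      ((Spec R).presheaf.map (homOfLE h).op).hom (algebraMap R Γ(Spec R, V) r) =
        algebraMap R Γ(Spec R, W) r := by
    intro V W h r
    simp only [IsAffineOpen.algebraMap_Spec_obj]
    show ((((Scheme.ΓSpecIso R).inv ≫ (Spec R).presheaf.map (homOfLE le_top).op) ≫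
      (Spec R).presheaf.map (homOfLE h).op).hom) r = _
    rw [Category.assoc, ← Functor.map_comp]
    rfl
  -- the two coordinates generate the unit ideal
  have hb : ∀ r : R, (Spec R).basicOpen (algebraMap R Γ(Spec R, U) r) =
      U ⊓ PrimeSpectrum.basicOpen r := by
    intro r
    rw [IsAffineOpen.algebraMap_Spec_obj, CommRingCat.hom_comp, RingHom.comp_apply, Scheme.basicOpen_res,
      basicOpen_eq_of_affine]
  have hspan : Ideal.span ({algebraMap R Γ(Spec R, U) s, algebraMap R Γ(Spec R, U) t} :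
      Set Γ(Spec R, U)) = ⊤ := by
    rw [← hU.self_le_iSup_basicOpen_iff]
    refine sup_le (le_iSup_of_le ⟨_, Set.mem_insert _ _⟩ ?_)
      (le_iSup_of_le ⟨_, Set.mem_insert_of_mem _ rfl⟩ ?_)
    · rw [hb]; exact le_inf le_sup_left le_rfl
    · rw [hb]; exact le_inf le_sup_right le_rfl
  obtain ⟨a, b, hab⟩ := Ideal.mem_span_pair.1 ((Ideal.eq_top_iff_one _).1 hspan)
  let Ds : (Spec R).Opens := PrimeSpectrum.basicOpen s
  let Dt : (Spec R).Opens := PrimeSpectrum.basicOpen t
  let W : (Spec R).Opens := PrimeSpectrum.basicOpen (s * t)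
  have hWs : W ≤ Ds := PrimeSpectrum.basicOpen_mul_le_left _ _
  have hWt : W ≤ Dt := PrimeSpectrum.basicOpen_mul_le_right _ _
  have hinjW : Function.Injective (algebraMap R Γ(Spec R, W)) :=
    IsLocalization.injective (M := Submonoid.powers (s * t))
      Γ(Spec R, PrimeSpectrum.basicOpen (s * t))
      (powers_le_nonZeroDivisors_of_noZeroDivisors (mul_ne_zero hs0 ht0))
  have hinjS : Function.Injective (algebraMap R Γ(Spec R, Ds)) :=
    IsLocalization.injective (M := Submonoid.powers s) Γ(Spec R, PrimeSpectrum.basicOpen s)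
      (powers_le_nonZeroDivisors_of_noZeroDivisors hs0)
  -- a section over U restricts to a polynomial on D(s)
  have ext : ∀ x : Γ(Spec R, U), ∃ c : R,
      ((Spec R).presheaf.map (homOfLE (le_sup_left : Ds ≤ U)).op).hom x =
        algebraMap R Γ(Spec R, Ds) c := by
    intro x
    obtain ⟨⟨a1, ⟨_, n, rfl⟩⟩, h1⟩ := IsLocalization.surj (Submonoid.powers s)
      (((Spec R).presheaf.map (homOfLE (le_sup_left : Ds ≤ U)).op).hom x :
        Γ(Spec R, PrimeSpectrum.basicOpen s))
    obtain ⟨⟨a2, ⟨_, m, rfl⟩⟩, h2⟩ := IsLocalization.surj (Submonoid.powers t)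
      (((Spec R).presheaf.map (homOfLE (le_sup_right : Dt ≤ U)).op).hom x :
        Γ(Spec R, PrimeSpectrum.basicOpen t))
    dsimp only at h1 h2
    have e1 := congrArg ((Spec R).presheaf.map (homOfLE hWs).op).hom h1
    have e2 := congrArg ((Spec R).presheaf.map (homOfLE hWt).op).hom h2
    rw [map_mul, res hWs, res hWs] at e1
    rw [map_mul, res hWt, res hWt] at e2
    have er : ((Spec R).presheaf.map (homOfLE hWs).op).hom
        (((Spec R).presheaf.map (homOfLE (le_sup_left : Ds ≤ U)).op).hom x) =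
        ((Spec R).presheaf.map (homOfLE hWt).op).hom
        (((Spec R).presheaf.map (homOfLE (le_sup_right : Dt ≤ U)).op).hom x) := by
      rw [← RingHom.comp_apply, ← RingHom.comp_apply, ← CommRingCat.hom_comp,
        ← CommRingCat.hom_comp, ← Functor.map_comp, ← Functor.map_comp]
      rfl
    have key : a1 * t ^ m = a2 * s ^ n := hinjW (by
      rw [map_mul, map_mul, ← e1, ← e2, er]
      ring)
    obtain ⟨c, rfl⟩ : s ^ n ∣ a1 :=
      hsp.pow_dvd_of_dvd_mul_right n (fun h => hst (hsp.dvd_of_dvd_pow h))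
        ⟨a2, key.trans (mul_comm _ _)⟩
    refine ⟨c, ?_⟩
    have hu : IsUnit (algebraMap R Γ(Spec R, Ds) (s ^ n)) :=
      IsLocalization.map_units Γ(Spec R, PrimeSpectrum.basicOpen s)
        (⟨s ^ n, n, rfl⟩ : Submonoid.powers s)
    refine hu.mul_right_cancel ?_
    rw [h1, map_mul, mul_comm]
  obtain ⟨c, hc⟩ := ext a
  obtain ⟨d, hd⟩ := ext b
  have h := congrArg ((Spec R).presheaf.map (homOfLE (le_sup_left : Ds ≤ U)).op).hom hab
  rw [map_add, map_mul, map_mul, map_one, hc, hd, res, res, ← map_mul, ← map_mul, ← map_add,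
    ← map_one (algebraMap R Γ(Spec R, Ds))] at h
  exact hproper c d (hinjS h)

end Groth.Agent.H23.PlaneCx
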