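import Groth.Agent.H23.P1Charts
import Groth.Prelude.Def_W4c5nonratstablectREq

/-!
Two points of an open of projective space over a field are joined by a line.
-/

universe u

open CategoryTheory Limits AlgebraicGeometry

namespace Groth.Agent.H23.PnLine

/-- The base ring. -/
abbrev Z : Type u := ULift.{u} ℤ

variable (B : Type u) [CommRing B]

/-- The base map. -/
noncomputable abbrev up : Z.{u} →+* B := (Int.castRingHom B).comp ULift.ringEquiv.toRingHom

theorem up_unique (g : Z.{u} →+* B) : g = up B := by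
  refine RingHom.ext fun r => ?_
  obtain ⟨r⟩ := r
  exact (eq_intCast (g.comp (ULift.ringEquiv (R := ℤ)).symm.toRingHom) r)

variable {n : ℕ} {B}

local notation "𝒜" => CohB1.polyGrading n Z

variable {l : MvPolynomial (Fin (n + 1)) Z.{u}} (hl : l ∈ CohB1.polyGrading n Z.{u} 1)

/-- The coordinate ratio. -/
noncomputable def coord (m : Fin (n + 1)) : HomogeneousLocalization.Away 𝒜 l :=
  HomogeneousLocalization.Away.mk 𝒜 hl 1 (MvPolynomial.X m)
    (by rw [one_smul]; exact (MvPolynomial.mem_homogeneousSubmodule 1 _).mpr (MvPolynomial.isHomogeneous_X _ m))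

theorem eval₂_scale {R : Type*} [CommRing R] (f : Z.{u} →+* R) (c : R) (g : Fin (n + 1) → R) {d : ℕ}
    {p : MvPolynomial (Fin (n + 1)) Z.{u}} (hp : p.IsHomogeneous d) :
    MvPolynomial.eval₂ f (fun i => c * g i) p = c ^ d * MvPolynomial.eval₂ f g p := by
  rw [MvPolynomial.eval₂_eq, MvPolynomial.eval₂_eq, Finset.mul_sum]
  refine Finset.sum_congr rfl fun e he => ?_
  have h := hp (MvPolynomial.mem_support_iff.1 he)
  rw [Finsupp.weight_apply, Finsupp.sum] at h
  simp only [Pi.one_apply, smul_eq_mul, mul_one] at h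
  simp only [mul_pow, Finset.prod_mul_distrib, Finset.prod_pow_eq_pow_sum, h]
  ring

theorem mk_eq_eval (d : ℕ) (p : MvPolynomial (Fin (n + 1)) Z.{u})
    (hp : p ∈ CohB1.polyGrading n Z.{u} (d • 1)) :
    HomogeneousLocalization.Away.mk 𝒜 hl d p hp = MvPolynomial.eval₂ (up _) (coord hl) p := by
  apply HomogeneousLocalization.val_injective
  let ι := algebraMap (MvPolynomial (Fin (n + 1)) Z.{u}) (Localization.Away l)
  let V := algebraMap (HomogeneousLocalization.Away 𝒜 l) (Localization.Away l)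
  change _ = V (MvPolynomial.eval₂ (up _) (coord hl) p)
  rw [MvPolynomial.hom_eval₂, up_unique _ (V.comp (up _))]
  have hc : (⇑V ∘ coord hl) = fun m => IsLocalization.Away.invSelf (S := Localization.Away l) l * ι (MvPolynomial.X m) := by
    funext m
    simp only [Function.comp_apply, V, coord, HomogeneousLocalization.algebraMap_apply,
      HomogeneousLocalization.Away.val_mk, Localization.mk_eq_mk', IsLocalization.Away.invSelf, pow_one]
    rw [mul_comm, IsLocalization.mul_mk'_eq_mk'_of_mul, mul_one]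
  rw [show (fun i => V (coord hl i)) = _ from hc]
  rw [eval₂_scale (up _) _ _ ((MvPolynomial.mem_homogeneousSubmodule _ _).1 hp)]
  have hev : MvPolynomial.eval₂ (up (Localization.Away l)) (fun m => ι (MvPolynomial.X m)) p = ι p := by
    have := MvPolynomial.ringHom_ext (f := MvPolynomial.eval₂Hom (up (Localization.Away l)) (fun m => ι (MvPolynomial.X m)))
      (g := ι) (fun r => by rw [MvPolynomial.eval₂Hom_C]; exact (RingHom.congr_fun (up_unique _ (ι.comp MvPolynomial.C)) r).symm)
      (fun m => by rw [MvPolynomial.eval₂Hom_X'])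
    exact RingHom.congr_fun this p
  rw [hev, HomogeneousLocalization.Away.val_mk, Localization.mk_eq_mk', IsLocalization.mk'_eq_iff_eq_mul, smul_eq_mul, mul_one]
  have h1 : IsLocalization.Away.invSelf (S := Localization.Away l) l ^ d * ι (l ^ d) = 1 := by
    rw [map_pow, ← mul_pow, mul_comm _ (ι l), IsLocalization.Away.mul_invSelf, one_pow]
  show ι p = _ * ι (l ^ d)
  rw [mul_comm _ (ι p), mul_assoc, h1, mul_one]

theorem mk_self : HomogeneousLocalization.Away.mk 𝒜 hl 1 l (by rw [one_smul]; exact hl) = 1 := by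
  apply HomogeneousLocalization.val_injective
  rw [HomogeneousLocalization.Away.val_mk, HomogeneousLocalization.val_one, Localization.mk_eq_mk']
  simp

/-- The map given by a normalised vector. -/
noncomputable def vecHom (v : Fin (n + 1) → B) (hv : MvPolynomial.eval₂ (up B) v l = 1) :
    HomogeneousLocalization.Away 𝒜 l →+* B :=
  (IsLocalization.Away.lift (S := Localization.Away l) l
      (g := MvPolynomial.eval₂Hom (up B) v) (by rw [MvPolynomial.coe_eval₂Hom, hv]; exact isUnit_one)).comp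
    (algebraMap (HomogeneousLocalization.Away 𝒜 l) (Localization.Away l))

theorem vecHom_coord (v : Fin (n + 1) → B) (hv : MvPolynomial.eval₂ (up B) v l = 1) (m : Fin (n + 1)) :
    vecHom v hv (coord hl m) = v m := by
  simp only [vecHom, RingHom.comp_apply, coord, HomogeneousLocalization.algebraMap_apply,
    HomogeneousLocalization.Away.val_mk]
  rw [Localization.mk_eq_mk', IsLocalization.Away.lift, IsLocalization.lift_mk'_spec]
  simp [hv]

include hl in
theorem hom_ext {g g' : HomogeneousLocalization.Away 𝒜 l →+* B}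
    (h : ∀ m, g (coord hl m) = g' (coord hl m)) : g = g' := by
  refine RingHom.ext fun a => ?_
  obtain ⟨d, p, hp, rfl⟩ := HomogeneousLocalization.Away.mk_surjective 𝒜 hl a
  rw [mk_eq_eval hl d p hp, MvPolynomial.hom_eval₂, MvPolynomial.hom_eval₂, up_unique B (g.comp _),
    up_unique B (g'.comp _)]
  congr 1
  exact funext h

theorem eval_coord (g : HomogeneousLocalization.Away 𝒜 l →+* B) :
    MvPolynomial.eval₂ (up B) (fun m => g (coord hl m)) l = 1 := by
  have := congrArg g ((mk_eq_eval hl 1 l (by rw [one_smul]; exact hl)).symm.trans (mk_self hl))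
  rw [map_one, MvPolynomial.hom_eval₂, up_unique B (g.comp _)] at this
  exact this

variable {k : Type u} [Field k] {K : Type u} [Field K] [Algebra k K]

local notation "Pn" => CohB1.ProjSpaceOver n (Spec (CommRingCat.of k))

/-- The image of a point in the projective space over the integers. -/
noncomputable def toProj (V : (Pn).Opens) (P : REq.Pts (V.ι ≫ CohB1.ProjSpaceOver.toBase n (Spec (CommRingCat.of k))) K) :
    Spec (CommRingCat.of K) ⟶ Proj 𝒜 :=
  P.1 ≫ V.ι ≫ pullback.fst _ _

include hl in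
open Polynomial in
theorem link (V : (Pn).Opens) (S : Finset (Fin (n + 1)))
    (hS : (∑ m ∈ S, MvPolynomial.X m : MvPolynomial (Fin (n + 1)) Z.{u}) = l)
    (A A' : REq.Pts (V.ι ≫ CohB1.ProjSpaceOver.toBase n (Spec (CommRingCat.of k))) K)
    (hA : Set.range (toProj V A) ⊆ (Proj.basicOpen 𝒜 l : Set (Proj 𝒜)))
    (hA' : Set.range (toProj V A') ⊆ (Proj.basicOpen 𝒜 l : Set (Proj 𝒜))) :
    REq.ElemLink (V.ι ≫ CohB1.ProjSpaceOver.toBase n (Spec (CommRingCat.of k))) K A A' := by
  let aw := Proj.awayι 𝒜 l hl one_pos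
  have hpt : ∀ P : REq.Pts (V.ι ≫ CohB1.ProjSpaceOver.toBase n (Spec (CommRingCat.of k))) K,
      Set.range (toProj V P) ⊆ (Proj.basicOpen 𝒜 l : Set (Proj 𝒜)) →
      ∃ a : Fin (n + 1) → K, ∃ ha : MvPolynomial.eval₂ (up K) a l = 1,
        Spec.map (CommRingCat.ofHom (vecHom a ha)) ≫ aw = toProj V P := by
    intro P hP
    have hr : Set.range (toProj V P) ⊆ Set.range aw := by
      refine hP.trans ?_
      rw [← Proj.opensRange_awayι 𝒜 l hl one_pos]
      rfl
    let φ := Spec.preimage (IsOpenImmersion.lift aw (toProj V P) hr)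
    refine ⟨_, eval_coord hl φ.hom, ?_⟩
    have e : vecHom _ (eval_coord hl φ.hom) = φ.hom := hom_ext hl fun m => vecHom_coord hl _ _ m
    rw [e, CommRingCat.ofHom_hom, Spec.map_preimage, IsOpenImmersion.lift_fac]
  obtain ⟨a, ha, hal⟩ := hpt A hA
  obtain ⟨b, hb, hbl⟩ := hpt A' hA'
  have hsum : ∀ {R : Type u} [CommRing R] (v : Fin (n + 1) → R), MvPolynomial.eval₂ (up R) v l = ∑ m ∈ S, v m := by
    intro R _ v
    rw [← hS, MvPolynomial.eval₂_sum]
    simp only [MvPolynomial.eval₂_X]
  let v : Fin (n + 1) → K[X] := fun m => C (a m) + Polynomial.X * C (b m - a m)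
  have hv : MvPolynomial.eval₂ (up K[X]) v l = 1 := by
    rw [hsum] at ha hb ⊢
    simp only [v, Finset.sum_add_distrib, ← Finset.mul_sum, map_sub, Finset.sum_sub_distrib, ← map_sum, ha, hb,
      map_one, sub_self, mul_zero, add_zero]
  let L : Spec (CommRingCat.of K[X]) ⟶ Pn :=
    pullback.lift (Spec.map (CommRingCat.ofHom (vecHom v hv)) ≫ aw)
      (Spec.map (CommRingCat.ofHom (C : K →+* K[X])) ≫ REq.specMap k K) (specULiftZIsTerminal.hom_ext _ _)
  let c := P1Charts.chart K 0
  let W : (Spec (CommRingCat.of K[X])).Opens := L ⁻¹ᵁ V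
  have hlift : ∀ (t : K) (P : REq.Pts (V.ι ≫ CohB1.ProjSpaceOver.toBase n (Spec (CommRingCat.of k))) K)
      (p : Fin (n + 1) → K) (hp : MvPolynomial.eval₂ (up K) p l = 1),
      (∀ m, a m + t * (b m - a m) = p m) →
      Spec.map (CommRingCat.ofHom (vecHom p hp)) ≫ aw = toProj V P →
      ∃ s : Spec (CommRingCat.of K) ⟶ (c ''ᵁ W : (REq.P1K K).Opens),
        s ≫ (c ''ᵁ W).ι ≫ REq.P1K.toSpec K = 𝟙 _ ∧
        s ≫ (c.isoImage W).inv ≫ (L ∣_ V) = P.1 := by
    intro t P p hp hval hpP
    let e := Spec.map (CommRingCat.ofHom (evalRingHom t))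
    have hC : CommRingCat.ofHom (C : K →+* K[X]) ≫ CommRingCat.ofHom (evalRingHom t) = 𝟙 _ := by
      ext r; simp
    have h : e ≫ L = P.1 ≫ V.ι := by
      apply pullback.hom_ext
      · refine Eq.trans ?_ ((hpP.trans rfl).trans (Category.assoc _ _ _).symm)
        show (_ ≫ pullback.lift _ _ _) ≫ pullback.fst _ _ = _
        rw [Category.assoc, pullback.lift_fst, ← Category.assoc, ← Spec.map_comp, ← CommRingCat.ofHom_comp]
        congr 3
        refine hom_ext hl fun m => ?_
        rw [RingHom.comp_apply, vecHom_coord, vecHom_coord, ← hval]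
        simp [v]
      · show (_ ≫ pullback.lift _ _ _) ≫ pullback.snd _ _ = _
        rw [Category.assoc, pullback.lift_snd, ← Category.assoc, ← Spec.map_comp, hC, Spec.map_id, Category.id_comp]
        exact (P.2.symm.trans (Category.assoc _ _ _).symm)
    have hr : Set.range e ⊆ Set.range W.ι := by
      rw [Scheme.Opens.range_ι]
      rintro _ ⟨y, rfl⟩
      show L (e y) ∈ V
      rw [← Scheme.Hom.comp_apply, h]
      exact (P.1 y).2
    refine ⟨IsOpenImmersion.lift W.ι e hr ≫ (c.isoImage W).hom, ?_, ?_⟩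
    · rw [Category.assoc, Scheme.Hom.isoImage_hom_ι_assoc, IsOpenImmersion.lift_fac_assoc]
      change e ≫ c ≫ CohB1.ProjSpaceOver.toBase 1 _ = 𝟙 _
      rw [P1Charts.chart_toBase, ← Spec.map_comp, hC, Spec.map_id]
    · rw [Category.assoc, Iso.hom_inv_id_assoc, ← cancel_mono V.ι, Category.assoc, morphismRestrict_ι,
        IsOpenImmersion.lift_fac_assoc, h]
  obtain ⟨s, hs, hs'⟩ := hlift 0 A a ha (fun m => by simp) hal
  obtain ⟨s', ht, ht'⟩ := hlift 1 A' b hb (fun m => by ring) hbl
  refine ⟨c ''ᵁ W, (c.isoImage W).inv ≫ (L ∣_ V), s, s', ?_, hs, ht, hs', ht'⟩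
  rw [Category.assoc, Iso.inv_comp_eq, Scheme.Hom.isoImage_hom_ι_assoc, morphismRestrict_ι_assoc]
  congr 1
  change L ≫ _ = c ≫ CohB1.ProjSpaceOver.toBase 1 _ ≫ _
  rw [reassoc_of% (P1Charts.chart_toBase K 0)]
  exact pullback.lift_snd _ _ _

theorem elemLink (V : (Pn).Opens)
    (A A' : REq.Pts (V.ι ≫ CohB1.ProjSpaceOver.toBase n (Spec (CommRingCat.of k))) K) :
    REq.ElemLink (V.ι ≫ CohB1.ProjSpaceOver.toBase n (Spec (CommRingCat.of k))) K A A' := by
  classical
  let pt : ↥(Spec (CommRingCat.of K)) := IsLocalRing.closedPoint K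
  let q : REq.Pts (V.ι ≫ CohB1.ProjSpaceOver.toBase n (Spec (CommRingCat.of k))) K → Proj 𝒜 :=
    fun P => toProj V P pt
  have hrange : ∀ P f, q P ∈ Proj.basicOpen 𝒜 f →
      Set.range (toProj V P) ⊆ (Proj.basicOpen 𝒜 f : Set (Proj 𝒜)) := by
    rintro P f h _ ⟨y, rfl⟩
    rwa [Subsingleton.elim (α := Spec (CommRingCat.of K)) y pt]
  have hX : ∀ m, (MvPolynomial.X m : MvPolynomial (Fin (n + 1)) Z.{u}) ∈ CohB1.polyGrading n Z.{u} 1 :=
    fun m => (MvPolynomial.mem_homogeneousSubmodule 1 _).mpr (MvPolynomial.isHomogeneous_X _ m)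
  have hcov : (⨆ m, Proj.basicOpen 𝒜 (MvPolynomial.X m)) = ⊤ := by
    refine Proj.iSup_basicOpen_eq_top' _ _ (fun i => ⟨1, hX i⟩) ?_
    refine top_le_iff.1 fun p _ => ?_
    induction p using MvPolynomial.induction_on with
    | C r => exact Subalgebra.algebraMap_mem _ (⟨MvPolynomial.C r, MvPolynomial.isHomogeneous_C _ _⟩ : CohB1.polyGrading n Z.{u} 0)
    | add a b ha hb => exact add_mem (ha trivial) (hb trivial)
    | mul_X a j ha => exact mul_mem (ha trivial) (Algebra.subset_adjoin ⟨j, rfl⟩)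
  obtain ⟨i, hi⟩ := TopologicalSpace.Opens.mem_iSup.1 (hcov.ge (Set.mem_univ (q A)))
  obtain ⟨j, hj⟩ := TopologicalSpace.Opens.mem_iSup.1 (hcov.ge (Set.mem_univ (q A')))
  by_cases h1 : q A ∈ Proj.basicOpen 𝒜 (MvPolynomial.X j)
  · exact link (hX j) V {j} (Finset.sum_singleton _ _) A A' (hrange _ _ h1) (hrange _ _ hj)
  by_cases h2 : q A' ∈ Proj.basicOpen 𝒜 (MvPolynomial.X i)
  · exact link (hX i) V {i} (Finset.sum_singleton _ _) A A' (hrange _ _ hi) (hrange _ _ h2)
  have hij : i ≠ j := fun h => h1 (h ▸ hi)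
  refine link (add_mem (hX i) (hX j)) V {i, j} (Finset.sum_pair hij) A A' (hrange _ _ ?_) (hrange _ _ ?_)
  · rw [Proj.mem_basicOpen] at h1 hi ⊢
    push Not at h1
    exact fun h => hi ((Ideal.add_mem_iff_left _ h1).1 h)
  · rw [Proj.mem_basicOpen] at h2 hj ⊢
    push Not at h2
    exact fun h => hj ((Ideal.add_mem_iff_right _ h2).1 h)

end Groth.Agent.H23.PnLine
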