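import Groth.Agent.H23.K0Rat
import Groth.Agent.H23.CycleClassK
import Groth.Agent.CycLib.RatSum

/-! Two maps from the structure sheaf of a closure whose cokernels differ by a principal divisor. -/

set_option autoImplicit false
set_option maxHeartbeats 400000
set_option backward.isDefEq.respectTransparency false
set_option backward.isDefEq.respectTransparency.types false

universe u

open CategoryTheory CategoryTheory.Limits AlgebraicGeometry TopologicalSpace Opposite

namespace Groth.Agent.H23.PrincipalPair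

open Groth.Agent LocFinCoprod K0Swindle SkyPoint KFlatLib CycleClassK

variable {X : Scheme.{u}}

variable [IsLocallyNoetherian X]

theorem exists_pair (ξ : X) {f : X.residueField ξ} (hf : f ≠ 0) :
    ∃ (M : X.Modules) (a b : Cyc.closureStructureSheaf ξ ⟶ M), Mono a ∧ Mono b ∧ Coh.IsCoh M ∧
      (∀ x, Nontrivial (M.presheaf.stalk x) → ξ ⤳ x) ∧
      (Function.Surjective (stk a ξ) ∧ Function.Surjective (stk b ξ)) ∧
      ∀ x, ∀ h : ξ ⤳ x, Ring.KrullDimLE 1 (Cyc.LocQuot x ξ h) →
        ((Module.length (X.presheaf.stalk x) ((cokernel b).presheaf.stalk x)).toNat : ℤ) -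
          ((Module.length (X.presheaf.stalk x) ((cokernel a).presheaf.stalk x)).toNat : ℤ) =
            Cyc.ordAt x ξ h f := by
  obtain ⟨φ₁, hφ₁⟩ := exists_vecLin (K0Rat.kmod ξ) (1 : IsLocalRing.ResidueField (X.presheaf.stalk ξ))
    fun a ha => K0Rat.kmod_killed ξ a ha _
  obtain ⟨φ₂, hφ₂⟩ := exists_vecLin (K0Rat.kmod ξ) (show IsLocalRing.ResidueField (X.presheaf.stalk ξ) from f)
    fun a ha => K0Rat.kmod_killed ξ a ha _
  let O := Cyc.closureStructureSheaf ξ
  let T : ULift.{u} Bool → X.Modules := fun _ => O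
  let θ : ∐ T ⟶ (sky ξ).obj (K0Rat.kmod ξ) := Sigma.desc fun c => bif c.down then toSky φ₁ else toSky φ₂
  let ιM := Abelian.image.ι θ
  let a : O ⟶ Abelian.image θ := Sigma.ι T ⟨true⟩ ≫ Abelian.factorThruImage θ
  let b : O ⟶ Abelian.image θ := Sigma.ι T ⟨false⟩ ≫ Abelian.factorThruImage θ
  have ea : a ≫ ιM = toSky φ₁ := by simp [a, ιM, θ]
  have eb : b ≫ ιM = toSky φ₂ := by simp [b, ιM, θ]
  haveI : Mono (toSky φ₁) := mono_toSky φ₁ (by rw [hφ₁]; exact one_ne_zero)
  haveI : Mono (toSky φ₂) := mono_toSky φ₂ (by rw [hφ₂]; exact hf)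
  haveI ma : Mono a := mono_of_mono_fac ea
  haveI mb : Mono b := mono_of_mono_fac eb
  have hO : Coh.IsCoh O := isCoh_closure ξ
  have hM : Coh.IsCoh (Abelian.image θ) := isCoh_of_epi_image θ (isCoh_coprod (lf_of_finite T) fun _ => hO)
    (isQCoh_sky_of_killed (K0Rat.kmod_killed ξ))
  have hsurj : ∀ (g : O ⟶ Abelian.image θ) (φ : O.presheaf.stalk ξ →ₗ[X.presheaf.stalk ξ] K0Rat.kmod ξ),
      g ≫ ιM = toSky φ → (show X.residueField ξ from φ (gen ξ ξ)) ≠ 0 → Function.Surjective (stk g ξ) := by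
    intro g φ e hne m
    obtain ⟨r, hr⟩ := X.residue_surjective ξ
      ((show X.residueField ξ from evalAt (specializes_refl ξ) (K0Rat.kmod ξ) (stk ιM ξ m)) /
        (show X.residueField ξ from φ (gen ξ ξ)))
    refine ⟨r • gen ξ ξ, stk_injective_of_mono ιM ξ (evalAt_injective (specializes_refl ξ) ?_)⟩
    rw [← stk_comp, e, evalAt_toSky_gen, TopCat.Presheaf.stalkSpecializes_refl]
    show r • φ (gen ξ ξ) = _
    rw [K0Rat.kmod_smul, hr, div_mul_cancel₀ _ hne]
  have hsa : Function.Surjective (stk a ξ) := hsurj a φ₁ ea (by rw [hφ₁]; exact one_ne_zero)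
  have hsb : Function.Surjective (stk b ξ) := hsurj b φ₂ eb (by rw [hφ₂]; exact hf)
  refine ⟨Abelian.image θ, a, b, ma, mb, hM,
    fun x hx => specializes_of_nontrivial_sky (nontrivial_of_mono ιM hx), ⟨hsa, hsb⟩, fun x h hx => ?_⟩
  letI : Algebra (X.presheaf.stalk x) (X.residueField ξ) := (Cyc.specMap x ξ h).toAlgebra
  haveI : IsScalarTower (X.presheaf.stalk x) (Cyc.LocQuot x ξ h) (X.residueField ξ) :=
    IsScalarTower.of_algebraMap_eq fun _ => rfl
  haveI := hx
  let Φ : (Abelian.image θ).presheaf.stalk x →ₗ[X.presheaf.stalk x] X.residueField ξ :=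
    { toFun := fun t => (show X.residueField ξ from evalAt h (K0Rat.kmod ξ) (stk ιM x t))
      map_add' := fun s t => by rw [map_add, map_add]
      map_smul' := fun r t => by
        rw [map_smul, evalAt_smul, K0Rat.kmod_smul, RingHom.id_apply, Algebra.smul_def]
        rfl }
  have hΦ : Function.Injective Φ := fun s t e => stk_injective_of_mono ιM x (evalAt_injective h e)
  have hgen : ∀ (g : O ⟶ Abelian.image θ) (φ : O.presheaf.stalk ξ →ₗ[X.presheaf.stalk ξ] K0Rat.kmod ξ),
      g ≫ ιM = toSky φ → ∀ r : X.presheaf.stalk x,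
      Φ (stk g x (r • gen ξ x)) = r • (show X.residueField ξ from φ (gen ξ ξ)) := by
    intro g φ e r
    show (show X.residueField ξ from evalAt h (K0Rat.kmod ξ) (stk ιM x (stk g x (r • gen ξ x)))) = _
    rw [← stk_comp, e, evalAt_toSky_gen, K0Rat.kmod_smul, Algebra.smul_def]
    rfl
  let A := Cyc.LocQuot x ξ h
  have hres : ∀ g : X.residueField ξ,
      (A ∙ g).restrictScalars (X.presheaf.stalk x) = (X.presheaf.stalk x) ∙ g := fun g =>
    Submodule.restrictScalars_span _ A Ideal.Quotient.mk_surjective _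
  have hrange : ∀ (g : O ⟶ Abelian.image θ) (φ : O.presheaf.stalk ξ →ₗ[X.presheaf.stalk ξ] K0Rat.kmod ξ),
      g ≫ ιM = toSky φ → LinearMap.range (Φ ∘ₗ stk g x) =
        (A ∙ (show X.residueField ξ from φ (gen ξ ξ))).restrictScalars (X.presheaf.stalk x) := by
    intro g φ e
    rw [hres]
    ext v
    rw [Submodule.mem_span_singleton, LinearMap.mem_range]
    constructor
    · rintro ⟨t, rfl⟩
      obtain ⟨r, rfl⟩ := exists_smul_gen ξ t
      exact ⟨r, (hgen g φ e r).symm⟩
    · rintro ⟨r, rfl⟩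
      exact ⟨r • gen ξ x, hgen g φ e r⟩
  let L : Submodule A (X.residueField ξ) := (A ∙ (1 : X.residueField ξ)) ⊔ (A ∙ f)
  haveI : Submodule.IsLattice (X.residueField ξ) L :=
    ⟨(Submodule.fg_span_singleton _).sup (Submodule.fg_span_singleton _), eq_top_iff.2 fun y _ => by
      have h1 : y • (1 : X.residueField ξ) ∈ Submodule.span (X.residueField ξ) (L : Set (X.residueField ξ)) :=
        Submodule.smul_mem _ _ (Submodule.subset_span
          (Submodule.mem_sup_left (Submodule.mem_span_singleton_self _)))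
      rwa [smul_eq_mul, mul_one] at h1⟩
  have hrΦ : LinearMap.range Φ = L.restrictScalars (X.presheaf.stalk x) := by
    show _ = Submodule.restrictScalars _ (_ ⊔ _)
    have r1 : LinearMap.range (Φ ∘ₗ stk a x) =
        (A ∙ (1 : X.residueField ξ)).restrictScalars (X.presheaf.stalk x) := by
      rw [hrange a φ₁ ea, hφ₁]
    have r2 : LinearMap.range (Φ ∘ₗ stk b x) = (A ∙ f).restrictScalars (X.presheaf.stalk x) := by
      rw [hrange b φ₂ eb, hφ₂]
    rw [Submodule.restrictScalars_sup, ← r1, ← r2]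
    refine le_antisymm ?_ (sup_le (LinearMap.range_comp_le_range _ _) (LinearMap.range_comp_le_range _ _))
    rintro _ ⟨m, rfl⟩
    obtain ⟨p, rfl⟩ := stk_surjective_of_epi (Abelian.factorThruImage θ) x m
    have hp := stalk_sum T x Finset.univ (fun _ _ => Finset.mem_univ _) p
    rw [hp, map_sum, map_sum]
    refine Submodule.sum_mem _ fun c _ => ?_
    rcases c with ⟨_ | _⟩
    · exact Submodule.mem_sup_right ⟨_, (congrArg Φ (stk_comp _ _ x _))⟩
    · exact Submodule.mem_sup_left ⟨_, (congrArg Φ (stk_comp _ _ x _))⟩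
  have hseq : ∀ (g : O ⟶ Abelian.image θ) [Mono g],
      (ShortComplex.mk g (cokernel.π g) (cokernel.condition g)).ShortExact := fun g _ =>
    .mk' (ShortComplex.exact_of_g_is_cokernel _ (cokernelIsCokernel g)) inferInstance inferInstance
  have hq : ∀ g : O ⟶ Abelian.image θ, Coh.IsQCoh (cokernel g) := fun g =>
    QCoh.isQCoh_cokernel hO.1 hM.1 g
  have hsurjA : Function.Surjective (algebraMap (X.presheaf.stalk x) A) := Ideal.Quotient.mk_surjective
  have la : Module.length (X.presheaf.stalk x) ((cokernel a).presheaf.stalk x) =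
      IntThLib.relLen A L (A ∙ (1 : X.residueField ξ)) := by
    rw [K0Rat.length_coker_stalk (hseq a) hO.1 hM.1 (hq a) x Φ hΦ, hrΦ, hrange a φ₁ ea, hφ₁,
      K0Rat.relLen_restrictScalars hsurjA]
  have lb : Module.length (X.presheaf.stalk x) ((cokernel b).presheaf.stalk x) =
      IntThLib.relLen A L (A ∙ f) := by
    rw [K0Rat.length_coker_stalk (hseq b) hO.1 hM.1 (hq b) x Φ hΦ, hrΦ, hrange b φ₂ eb, hφ₂,
      K0Rat.relLen_restrictScalars hsurjA]
  obtain ⟨-, -, e⟩ := K0Rat.ord_eq_relLen L (one_ne_zero (α := X.residueField ξ)) hf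
    (Submodule.mem_sup_left (Submodule.mem_span_singleton_self _))
    (Submodule.mem_sup_right (Submodule.mem_span_singleton_self _))
  rw [la, lb, e, div_one]
  rfl

end Groth.Agent.H23.PrincipalPair
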