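import Groth.Agent.H23.PrincipalAt
import Groth.Agent.H23.StalkPrimes
import Groth.Agent.ParaFX.UfdIff

/-!
# Cycles principal on the punctured spectrum of a parafactorial local ring
-/

set_option autoImplicit false
set_option linter.style.haveILetI false

universe u

open CategoryTheory CategoryTheory.Limits AlgebraicGeometry TopologicalSpace Opposite IsLocalRing

namespace Groth.Agent.H23.PrincipalPara

open Groth.Agent Groth.Agent.AModX Groth.Agent.InvX Groth.Agent.ParaFX

noncomputable section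

variable {R : CommRingCat.{u}} [IsDomain R] {q : Ideal R} [IsNoetherianRing R] [IsLocalRing R]

local notation "X" => Spec R
local notation "K" => FractionRing R
local notation "ι₀" => algebraMap R (FractionRing R)

/-- If the sheaf of a saturated ideal is trivial off the closed point, the ideal is principal. -/
theorem exists_eq_span_of_saturated (hd : (2 : ℕ∞) ≤ LocCoh.depth R R)
    (hsat : ∀ a : R, (∀ f ∈ maximalIdeal R, ∃ n : ℕ, f ^ n * a ∈ q) → a ∈ q)
    (hm : ∃ f ∈ maximalIdeal R, f ≠ 0)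
    (φ : (idSheaf q).restrict (FEt.puncturedSpec R).ι ≅ Coh.structureModule (FEt.puncturedSpec R : Scheme.{u})) :
    ∃ a, q = Ideal.span {a} := by
  set U := FEt.puncturedSpec R with hU
  set L := (idSheaf q).restrict U.ι with hL
  let z0 : Γ(idSheaf q, U.ι ''ᵁ ⊤) := (InvX.one φ.inv : Γ(L, ⊤))
  have hmem : ∀ f ∈ maximalIdeal R, bo f ≤ U := fun f hf x hx hxU =>
    hx (by rw [Set.mem_singleton_iff.1 hxU]; exact hf)
  have htop : ∀ f ∈ maximalIdeal R, bo f ≤ U.ι ''ᵁ ⊤ := fun f hf => by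
    rw [Scheme.Opens.ι_image_top]; exact hmem f hf
  let s : ∀ f ∈ maximalIdeal R, Γ(idSheaf q, bo f) := fun f hf => res (idSheaf q) (htop f hf) z0
  have hgenA : ∀ (f : R) (hf : f ∈ maximalIdeal R),
      Function.Bijective (fun r : Γ(X, bo f) => r • s f hf) := by
    intro f hf
    obtain ⟨W, hW⟩ : ∃ W : (U : Scheme.{u}).Opens, U.ι ''ᵁ W = bo f := ⟨U.ι ⁻¹ᵁ bo f, by
      rw [Scheme.Hom.image_preimage_eq_opensRange_inf, Scheme.Opens.opensRange_ι]
      exact inf_eq_right.2 (hmem f hf)⟩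
    have key : ∀ (V : (Spec R).Opens) (hV : V ≤ U.ι ''ᵁ ⊤), U.ι ''ᵁ W = V →
        Function.Bijective (fun r : Γ(X, V) => r • res (idSheaf q) hV z0) := by
      rintro V hV rfl
      have hb : Function.Bijective (φ.inv.app W) :=
        (ConcreteCategory.isIso_iff_bijective _).1 (Scheme.Modules.Hom.isIso_iff_isIso_app.1 inferInstance W)
      have e : (fun r : Γ(X, U.ι ''ᵁ W) => r • res (idSheaf q) hV z0) =
          fun r => (show Γ(idSheaf q, U.ι ''ᵁ W) from φ.inv.app W r) := by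
        funext r
        refine Eq.symm ((InvX.app_eq_smul φ.inv (W := W) r).trans ?_)
        exact H23.Frame.restrict_smul U W r _
      rw [e]
      exact hb
    exact key _ _ hW
  -- one element of the fraction field
  obtain ⟨f₁, hf₁, hf₁0⟩ := hm
  let x := ev q f₁ hf₁0 (s f₁ hf₁)
  have hsx : ∀ (f : R) (hf : f ∈ maximalIdeal R) (hf0 : f ≠ 0), ev q f hf0 (s f hf) = x := by
    intro f hf hf0
    have hp : f * f₁ ∈ maximalIdeal R := Ideal.mul_mem_right _ _ hf
    have h1 : bo (f * f₁) ≤ bo f := PrimeSpectrum.basicOpen_mul_le_left f f₁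
    have h2 : bo (f * f₁) ≤ bo f₁ := PrimeSpectrum.basicOpen_mul_le_right f f₁
    have hne : f * f₁ ≠ 0 := mul_ne_zero hf0 hf₁0
    have e1 : ev q (f * f₁) hne (s (f * f₁) hp) = ev q f hf0 (s f hf) := by
      rw [← ev_res f (f * f₁) hf0 hne h1]
      exact congrArg (ev q (f * f₁) hne) (res_res (M := idSheaf q) (htop f hf) h1 z0).symm
    have e2 : ev q (f * f₁) hne (s (f * f₁) hp) = x := by
      simp only [x]
      rw [← ev_res f₁ (f * f₁) hf₁0 hne h2]
      exact congrArg (ev q (f * f₁) hne) (res_res (M := idSheaf q) (htop f₁ hf₁) h2 z0).symm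
    rw [← e1, e2]
  obtain ⟨a, ha⟩ := mem_range_of_locally hd x fun f hf hf0 => by
    obtain ⟨n, b, -, hb⟩ := exists_num f hf0 (show Sec q f from s f hf)
    exact ⟨n, b, by rw [← hsx f hf hf0]; exact hb⟩
  have haq : a ∈ q := hsat a fun f hf => by
    rcases eq_or_ne f 0 with rfl | hf0
    · exact ⟨1, by simp⟩
    obtain ⟨n, b, -, hb⟩ := exists_num f hf0 (show Sec q f from s f hf)
    have : f ^ n * a = b := IsFractionRing.injective R K (by
      rw [map_mul, map_pow, ha, ← hsx f hf hf0]; exact hb)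
    exact ⟨n, this ▸ b.2⟩
  refine ⟨a, le_antisymm (fun b hb => ?_) ((Ideal.span_singleton_le_iff_mem _).2 haq)⟩
  rw [Ideal.mem_span_singleton]
  rcases eq_or_ne a 0 with rfl | ha0
  · obtain ⟨r, hr⟩ := (hgenA f₁ hf₁).2 (show Γ(idSheaf q, bo f₁) from toSec q f₁ ⟨b, hb⟩)
    have hs0 : s f₁ hf₁ = 0 := ev_injective f₁ hf₁0 (by
      rw [hsx f₁ hf₁ hf₁0, ← ha, map_zero]; exact (map_zero _).symm)
    simp only [hs0, smul_zero] at hr
    have := congrArg (ev q f₁ hf₁0) hr.symm
    rw [ev_toSec] at this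
    change ι₀ b = ev q f₁ hf₁0 (0 : Sec q f₁) at this
    rw [map_zero, IsFractionRing.to_map_eq_zero_iff] at this
    rw [this]
  refine dvd_of_locally hd (fun u v h => mul_left_cancel₀ ha0 h) fun f hf => ?_
  rcases eq_or_ne f 0 with rfl | hf0
  · exact ⟨1, by simp⟩
  obtain ⟨r, hr⟩ := (hgenA f hf).2 (show Γ(idSheaf q, bo f) from toSec q f ⟨b, hb⟩)
  obtain ⟨n, c, hc⟩ := smul_num f r
  refine ⟨n, c, IsFractionRing.injective R K ?_⟩
  have h1 : (algebraMap R Γ(X, bo f) c) • s f hf =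
      (algebraMap R Γ(X, bo f) (f ^ n)) • (show Γ(idSheaf q, bo f) from toSec q f ⟨b, hb⟩) := by
    rw [← hc, mul_smul]
    exact congrArg _ hr
  have h2 : c • (show Sec q f from s f hf) = f ^ n • toSec q f ⟨b, hb⟩ := h1
  have h3 := congrArg (ev q f hf0) h2
  rw [map_smul, map_smul, ev_toSec, hsx f hf hf0, ← ha, Algebra.smul_def, Algebra.smul_def, ← map_mul,
    ← map_mul] at h3
  rw [← h3, mul_comm]

end

open Groth.Agent.H23.PrincipalAt

set_option backward.isDefEq.respectTransparency false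
set_option backward.isDefEq.respectTransparency.types false

variable {X : Scheme.{u}} [IsIntegral X] [IsLocallyNoetherian X] (hX : Pi1.IsNormalScheme X)

/-- The rational function of an element of a local ring. -/
noncomputable abbrev al {x : X} (a : X.presheaf.stalk x) : X.functionField := algebraMap (X.presheaf.stalk x) X.functionField a

omit [IsLocallyNoetherian X] in
theorem al_ne_zero {x : X} {a : X.presheaf.stalk x} (ha : a ≠ 0) : al a ≠ 0 :=
  (map_ne_zero_iff _ (IsFractionRing.injective (X.presheaf.stalk x) X.functionField)).2 ha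

theorem ord_al_nonneg {x z : X} (h : z ⤳ x) (a : X.presheaf.stalk x) :
    0 ≤ Scheme.ord (al a) z := by
  rcases eq_or_ne a 0 with rfl | ha
  · simp [al]
  · exact CDiv6.ord_toK_nonneg h ha

theorem ord_al_mul {x z : X} {a b : X.presheaf.stalk x} (ha : a ≠ 0) (hb : b ≠ 0) :
    Scheme.ord (al (a * b)) z = Scheme.ord (al a) z + Scheme.ord (al b) z := by
  rw [al, map_mul, Scheme.ord_mul (al_ne_zero ha) (al_ne_zero hb)]

theorem ord_al_pow {x z : X} {a : X.presheaf.stalk x} (ha : a ≠ 0) (n : ℕ) :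
    Scheme.ord (al (a ^ n)) z = n * Scheme.ord (al a) z := by
  induction n with
  | zero => simp [al, ord_one]
  | succ n ih => rw [pow_succ, ord_al_mul (pow_ne_zero n ha) ha, ih]; push_cast; ring

theorem ord_al_prod {x z : X} (T : Finset X) (t : X → X.presheaf.stalk x) (e : X → ℕ)
    (ht : ∀ w ∈ T, t w ≠ 0) :
    Scheme.ord (al (∏ w ∈ T, t w ^ e w)) z = ∑ w ∈ T, (e w : ℤ) * Scheme.ord (al (t w)) z := by
  classical
  induction T using Finset.induction with
  | empty => simp [al, ord_one]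
  | insert a s ha ih =>
    have h1 : ∀ w ∈ s, t w ≠ 0 := fun w hw => ht w (Finset.mem_insert_of_mem hw)
    rw [Finset.prod_insert ha, Finset.sum_insert ha,
      ord_al_mul (pow_ne_zero _ (ht a (Finset.mem_insert_self _ _)))
        (Finset.prod_ne_zero_iff.2 fun w hw => pow_ne_zero _ (h1 w hw)),
      ord_al_pow (ht a (Finset.mem_insert_self _ _)), ih h1]

include hX in
/-- The elements of order at least the cycle form an ideal. -/
noncomputable def ideal (D : X → ℤ) (x : X) : Ideal (X.presheaf.stalk x) where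
  carrier := {a | a = 0 ∨ ∀ z : X, Order.coheight z = 1 → z ⤳ x → D z ≤ Scheme.ord (al a) z}
  zero_mem' := Or.inl rfl
  add_mem' := by
    rintro a b (rfl | ha) hb
    · simpa using hb
    rcases hb with rfl | hb
    · simpa using Or.inr ha
    by_cases hab : a + b = 0
    · exact Or.inl hab
    refine Or.inr fun z hz hzx => ?_
    haveI := CDiv6.isDVR_of_coheight_one hX hz
    have h1 : al a + al b ≠ 0 := by rw [← map_add]; exact al_ne_zero hab
    have h2 := Scheme.ord_add (x := z) h1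
    rw [al, map_add]
    exact le_trans (le_min (ha z hz hzx) (hb z hz hzx)) h2
  smul_mem' := by
    rintro c a (rfl | ha)
    · exact Or.inl (mul_zero c)
    by_cases hc : c = 0
    · exact Or.inl (by rw [hc, zero_smul])
    by_cases ha0 : a = 0
    · exact Or.inl (by rw [ha0, smul_zero])
    refine Or.inr fun z hz hzx => ?_
    rw [smul_eq_mul, ord_al_mul hc ha0]
    have := ord_al_nonneg hzx c
    have := ha z hz hzx
    omega

theorem mem_ideal {D : X → ℤ} {x : X} {a : X.presheaf.stalk x} :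
    a ∈ ideal hX D x ↔ a = 0 ∨ ∀ z : X, Order.coheight z = 1 → z ⤳ x → D z ≤ Scheme.ord (al a) z := Iff.rfl

omit [IsLocallyNoetherian X] in
theorem exists_num_den {x y : X} (hy : y ⤳ x) {φ : X.functionField} (h : CDiv6.Reg y φ) :
    ∃ c s : X.presheaf.stalk x, s ∉ (CDiv6.primeOf hy).asIdeal ∧ al s * φ = al c := by
  obtain ⟨w, rfl⟩ := h
  letI := (X.presheaf.stalkSpecializes hy).hom.toAlgebra
  haveI := StalkPrimes.isLocalization_primeOf hy
  obtain ⟨⟨c, s⟩, hcs⟩ := IsLocalization.surj (CDiv6.primeOf hy).asIdeal.primeCompl w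
  refine ⟨c, s, s.2, ?_⟩
  have h1 := congrArg (algebraMap (X.presheaf.stalk y) X.functionField) hcs
  rw [map_mul] at h1
  rw [al, al, ← CDiv6.algebraMap_specializes hy, ← CDiv6.algebraMap_specializes hy, mul_comm]
  exact h1

theorem ord_eq_zero_of_notMem {x y z : X} (hy : y ⤳ x) (hz : z ⤳ y) {s : X.presheaf.stalk x}
    (hs : s ∉ (CDiv6.primeOf hy).asIdeal) : Scheme.ord (al s) z = 0 := by
  have hs0 : s ≠ 0 := fun h => hs (h ▸ Ideal.zero_mem _)
  exact CDiv6.ord_toK_eq_zero (hz.trans hy) hs0 fun hm =>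
    hs ((StalkPrimes.primeOf_le_iff hy (hz.trans hy)).2 hz hm)

include hX in
/-- Near a non closed point of the local spectrum the ideal is principal. -/
theorem exists_local_generator {D : X → ℤ} (hfin : LocFin D) {x y : X} (hy : y ⤳ x)
    (hD : ∀ z : X, Order.coheight z = 1 → z ⤳ x → 0 ≤ D z) (h : PrincipalAt D y) :
    ∃ g ∈ ideal hX D x, g ≠ 0 ∧ (∀ z : X, Order.coheight z = 1 → z ⤳ y → Scheme.ord (al g) z = D z) ∧
      ∀ b ∈ ideal hX D x, ∃ s ∉ (CDiv6.primeOf hy).asIdeal, ∃ e, s * b = e * g := by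
  classical
  obtain ⟨φ, hφ, hφD⟩ := h
  obtain ⟨c, s, hs, hcs⟩ := exists_num_den hy (CDiv6.reg_of_forall_ord_nonneg hX hφ fun z hz hz1 => by
    rw [← hφD z hz1 hz]; exact hD z hz1 (hz.trans hy))
  have hs0 : s ≠ 0 := fun h => hs (h ▸ Ideal.zero_mem _)
  have hc0 : c ≠ 0 := fun h => mul_ne_zero (al_ne_zero hs0) hφ (by rw [hcs, h, al, map_zero])
  have hcD : ∀ z : X, Order.coheight z = 1 → z ⤳ y → Scheme.ord (al c) z = D z := fun z hz hzy => by
    rw [← hcs, Scheme.ord_mul (al_ne_zero hs0) hφ, ord_eq_zero_of_notMem hy hzy hs, hφD z hz hzy, zero_add]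
  obtain ⟨_, ⟨V, hV, rfl⟩, hxV, -⟩ :=
    X.isBasis_affineOpens.exists_subset_of_mem_open (Set.mem_univ x) isOpen_univ
  have hT : {z : X | Order.coheight z = 1 ∧ z ⤳ x ∧ ¬ z ⤳ y ∧ D z ≠ 0}.Finite :=
    (hfin V hV).subset fun z ⟨h1, h2, _, h3⟩ => ⟨h2.mem_open V.2 hxV, h1, h3⟩
  have hex : ∀ w : X, ∃ t : X.presheaf.stalk x, t ∉ (CDiv6.primeOf hy).asIdeal ∧
      ∀ hw : w ⤳ x, ¬ w ⤳ y → t ∈ (CDiv6.primeOf hw).asIdeal := by
    intro w
    by_cases hw : w ⤳ x ∧ ¬ w ⤳ y
    · obtain ⟨t, h1, h2⟩ := SetLike.not_le_iff_exists.1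
        (fun hle => hw.2 ((StalkPrimes.primeOf_le_iff hy hw.1).1 hle))
      exact ⟨t, h2, fun _ _ => h1⟩
    · exact ⟨1, fun h1 => (CDiv6.primeOf hy).isPrime.ne_top ((Ideal.eq_top_iff_one _).2 h1),
        fun h1 h2 => absurd ⟨h1, h2⟩ hw⟩
  choose t ht htw using hex
  have ht0 : ∀ w, t w ≠ 0 := fun w h => ht w (h ▸ Ideal.zero_mem _)
  obtain ⟨P, hP⟩ : ∃ P, P = ∏ w ∈ hT.toFinset, t w ^ (D w).toNat := ⟨_, rfl⟩
  have hP0 : P ≠ 0 := hP ▸ Finset.prod_ne_zero_iff.2 fun w _ => pow_ne_zero _ (ht0 w)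
  have hgy : ∀ z : X, Order.coheight z = 1 → z ⤳ y → Scheme.ord (al (c * P)) z = D z := fun z hz hzy => by
    rw [ord_al_mul hc0 hP0, hcD z hz hzy, hP, ord_al_prod _ _ _ fun w _ => ht0 w,
      Finset.sum_eq_zero fun w _ => by rw [ord_eq_zero_of_notMem hy hzy (ht w), mul_zero], add_zero]
  have hgI : c * P ∈ ideal hX D x := Or.inr fun z hz hzx => by
    by_cases hzy : z ⤳ y
    · exact (hgy z hz hzy).ge
    rw [ord_al_mul hc0 hP0, hP, ord_al_prod _ _ _ fun w _ => ht0 w]
    have hc1 := ord_al_nonneg hzx c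
    have hnn : ∀ w ∈ hT.toFinset, 0 ≤ ((D w).toNat : ℤ) * Scheme.ord (al (t w)) z := fun w _ =>
      mul_nonneg (by positivity) (ord_al_nonneg hzx (t w))
    by_cases hD0 : D z = 0
    · have := Finset.sum_nonneg hnn
      omega
    have hzT : z ∈ hT.toFinset := hT.mem_toFinset.2 ⟨hz, hzx, hzy, hD0⟩
    have h1 := Finset.single_le_sum hnn hzT
    have h2 : 1 ≤ Scheme.ord (al (t z)) z := CDiv6.one_le_ord_toK hX hzx hz (ht0 z) (htw z hzx hzy)
    have h3 : (D z).toNat * 1 ≤ ((D z).toNat : ℤ) * Scheme.ord (al (t z)) z :=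
      mul_le_mul_of_nonneg_left h2 (by positivity)
    have h4 := hD z hz hzx
    omega
  refine ⟨c * P, hgI, mul_ne_zero hc0 hP0, hgy, fun b hb => ?_⟩
  by_cases hb0 : b = 0
  · exact ⟨1, fun h1 => (CDiv6.primeOf hy).isPrime.ne_top ((Ideal.eq_top_iff_one _).2 h1), 0,
      by rw [hb0, mul_zero, zero_mul]⟩
  have hg := al_ne_zero (mul_ne_zero hc0 hP0)
  obtain ⟨e, σ, hσ, heσ⟩ := exists_num_den hy (φ := al b * (al (c * P))⁻¹)
    (CDiv6.reg_of_forall_ord_nonneg hX (mul_ne_zero (al_ne_zero hb0) (inv_ne_zero hg)) fun z hz hz1 => by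
      rw [Scheme.ord_mul (al_ne_zero hb0) (inv_ne_zero hg), ord_inv hg, hgy z hz1 hz]
      rcases hb with h | h
      · exact absurd h hb0
      · have := h z hz1 (hz.trans hy)
        omega)
  refine ⟨σ, hσ, e, IsFractionRing.injective (X.presheaf.stalk x) X.functionField ?_⟩
  rw [map_mul, map_mul, ← show al σ * (al b * (al (c * P))⁻¹) = algebraMap _ _ e from heσ]
  field_simp

include hX in
/-- An effective cycle principal off the closed point of a parafactorial local ring is principal. -/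
theorem principalAt_of_punctured_effective {D : X → ℤ} (hfin : LocFin D) {x : X}
    (hdim : (2 : WithBot ℕ∞) ≤ ringKrullDim (X.presheaf.stalk x))
    (hpar : ParaF.IsParafactorialLocalRing (X.presheaf.stalk x))
    (hD : ∀ z : X, Order.coheight z = 1 → z ⤳ x → 0 ≤ D z)
    (h : ∀ y : X, y ⤳ x → y ≠ x → PrincipalAt D y) : PrincipalAt D x := by
  classical
  haveI := (hX x).1
  haveI := (hX x).2
  have hpic := ((ParaFX.isParafactorialLocalRing_iff (X.presheaf.stalk x)).1 hpar).2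
  have hgen : ∀ p : PrimeSpectrum (X.presheaf.stalk x), p.asIdeal ≠ maximalIdeal (X.presheaf.stalk x) →
      ∃ (y : X) (hy : y ⤳ x), y ≠ x ∧ (CDiv6.primeOf hy).asIdeal = p.asIdeal := by
    intro p hp
    obtain ⟨y, hy, hyp⟩ := StalkPrimes.exists_point p.asIdeal
    refine ⟨y, hy, fun h => hp ?_, hyp⟩
    subst h
    rw [← hyp]
    ext a
    rw [CDiv6.mem_primeOf, TopCat.Presheaf.stalkSpecializes_refl, IsLocalRing.mem_maximalIdeal, mem_nonunits_iff]
    rfl
  have hinv : PicF.IsInvertible ((ParaFX.idSheaf (R := X.presheaf.stalk x) (ideal hX D x)).restrict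
      (FEt.puncturedSpec (X.presheaf.stalk x)).ι) := by
    refine ParaFX.isInvertible_restrict_idSheaf _ fun p hp => ?_
    obtain ⟨y, hy, hne, hyp⟩ := hgen p fun h => hp (PrimeSpectrum.ext h)
    obtain ⟨g, hgI, hg0, -, hgb⟩ := exists_local_generator hX hfin hy hD (h y hy hne)
    obtain ⟨G, hG⟩ := (IsNoetherian.noetherian (ideal hX D x) : (ideal hX D x).FG)
    choose! s hs e he using hgb
    refine ⟨∏ b ∈ G, s b, ⟨g, hgI⟩, fun hmem => ?_, hg0, fun b hb => ⟨1, ?_⟩⟩
    · obtain ⟨b, hb, hbp⟩ := p.isPrime.prod_mem_iff.1 hmem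
      exact hs b (hG ▸ Submodule.subset_span hb) (hyp ▸ hbp)
    · have hle : ideal hX D x ≤ Submodule.comap (LinearMap.mulLeft _ (∏ b ∈ G, s b)) (Ideal.span {g}) := by
        conv_lhs => rw [← hG]
        rw [Submodule.span_le]
        intro b hbG
        rw [SetLike.mem_coe, Submodule.mem_comap, LinearMap.mulLeft_apply,
          ← Finset.prod_erase_mul G s hbG, mul_assoc, he b (hG ▸ Submodule.subset_span hbG), ← mul_assoc]
        exact Ideal.mem_span_singleton'.2 ⟨_, rfl⟩
      obtain ⟨c, hc⟩ := Ideal.mem_span_singleton'.1 (hle hb)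
      exact ⟨c, by rw [pow_one]; exact hc.symm⟩
  obtain ⟨φ⟩ := hpic _ hinv
  have hm : ∀ z : X, Order.coheight z = 1 → ∀ hz : z ⤳ x,
      ∃ f ∈ maximalIdeal (X.presheaf.stalk x), f ∉ (CDiv6.primeOf hz).asIdeal := by
    intro z hz1 hz
    refine SetLike.not_le_iff_exists.1 fun hle => ?_
    have h1 : (CDiv6.primeOf hz).asIdeal = maximalIdeal _ :=
      ((maximalIdeal.isMaximal _).eq_of_le (CDiv6.primeOf hz).isPrime.ne_top hle).symm
    rw [← IsLocalRing.maximalIdeal_height_eq_ringKrullDim, ← h1, CDiv6.height_primeOf, hz1] at hdim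
    exact absurd (WithBot.coe_le_coe.1 hdim) (by decide)
  have hm0 : ∃ f ∈ maximalIdeal (X.presheaf.stalk x), f ≠ 0 := by
    by_contra hc
    push Not at hc
    have hb : maximalIdeal (X.presheaf.stalk x) = ⊥ := (Submodule.eq_bot_iff _).2 hc
    rw [← IsLocalRing.maximalIdeal_height_eq_ringKrullDim, hb, Ideal.height_bot] at hdim
    exact absurd (WithBot.coe_le_coe.1 hdim) (by decide)
  obtain ⟨a, ha⟩ := exists_eq_span_of_saturated (R := X.presheaf.stalk x) (q := ideal hX D x)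
    (ParaFX.two_le_depth_of_normal _ hdim) (fun a hfa => by
      by_cases ha0 : a = 0
      · exact ha0 ▸ Ideal.zero_mem _
      refine Or.inr fun z hz hzx => ?_
      obtain ⟨f, hfm, hfz⟩ := hm z hz hzx
      obtain ⟨n, hn⟩ := hfa f hfm
      have hf0 : f ≠ 0 := fun h => hfz (h ▸ Ideal.zero_mem _)
      rcases hn with h0 | h0
      · exact absurd h0 (mul_ne_zero (pow_ne_zero n hf0) ha0)
      have := h0 z hz hzx
      rw [ord_al_mul (pow_ne_zero n hf0) ha0, ord_al_pow hf0,
        ord_eq_zero_of_notMem hzx (specializes_rfl) hfz, mul_zero, zero_add] at this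
      exact this) hm0 φ
  obtain ⟨η, hη, hη'⟩ : ∃ (η : X) (hη : η ⤳ x), η ≠ x :=
    ⟨genericPoint X, RefX.specializes_genericPoint x, fun h => by
      rw [← h, ringKrullDim_stalk_eq_coheight, RefX.coheight_genericPoint] at hdim
      exact absurd (WithBot.coe_le_coe.1 hdim) (by decide)⟩
  have ha0 : a ≠ 0 := fun h0 => by
    obtain ⟨g, hgI, hg0, -, -⟩ := exists_local_generator hX hfin hη hD (h η hη hη')
    rw [ha, h0, Ideal.span_singleton_zero] at hgI
    exact hg0 hgI
  refine ⟨al a, al_ne_zero ha0, fun z hz hzx => le_antisymm ?_ ?_⟩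
  · rcases (show a ∈ ideal hX D x from ha ▸ Ideal.mem_span_singleton_self a) with h0 | h0
    · exact absurd h0 ha0
    · exact h0 z hz hzx
  · have hzne : z ≠ x := fun hzx' => by
      rw [← hzx', ringKrullDim_stalk_eq_coheight, hz] at hdim
      exact absurd (WithBot.coe_le_coe.1 hdim) (by decide)
    obtain ⟨g, hgI, hg0, hgz, -⟩ := exists_local_generator hX hfin hzx hD (h z hzx hzne)
    rw [ha] at hgI
    obtain ⟨e, rfl⟩ := Ideal.mem_span_singleton'.1 hgI
    have := hgz z hz specializes_rfl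
    rw [ord_al_mul (left_ne_zero_of_mul hg0) ha0] at this
    have := ord_al_nonneg hzx e
    omega

include hX in
/-- A cycle principal off the closed point of a parafactorial local ring is principal. -/
theorem principalAt_of_punctured {D : X → ℤ} (hfin : LocFin D) {x : X}
    (hdim : (2 : WithBot ℕ∞) ≤ ringKrullDim (X.presheaf.stalk x))
    (hpar : ParaF.IsParafactorialLocalRing (X.presheaf.stalk x))
    (h : ∀ y : X, y ⤳ x → y ≠ x → PrincipalAt D y) : PrincipalAt D x := by
  classical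
  haveI := (hX x).1
  obtain ⟨_, ⟨V, hV, rfl⟩, hxV, -⟩ :=
    X.isBasis_affineOpens.exists_subset_of_mem_open (Set.mem_univ x) isOpen_univ
  have hT : {z : X | Order.coheight z = 1 ∧ z ⤳ x ∧ D z ≠ 0}.Finite :=
    (hfin V hV).subset fun z ⟨h1, h2, h3⟩ => ⟨h2.mem_open V.2 hxV, h1, h3⟩
  have hex : ∀ w : X, ∃ t : X.presheaf.stalk x, t ≠ 0 ∧
      ∀ hw : w ⤳ x, Order.coheight w = 1 → t ∈ (CDiv6.primeOf hw).asIdeal := by
    intro w
    by_cases hw : w ⤳ x ∧ Order.coheight w = 1
    · have h0 : (CDiv6.primeOf hw.1).asIdeal ≠ ⊥ := fun h0 => by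
        have h1 := CDiv6.height_primeOf hw.1
        rw [h0, Ideal.height_bot, hw.2] at h1
        exact zero_ne_one h1
      obtain ⟨t, ht, ht0⟩ := Submodule.exists_mem_ne_zero_of_ne_bot h0
      exact ⟨t, ht0, fun _ _ => ht⟩
    · exact ⟨1, one_ne_zero, fun h1 h2 => absurd ⟨h1, h2⟩ hw⟩
  choose t ht0 ht using hex
  obtain ⟨g, hg⟩ : ∃ g, g = ∏ w ∈ hT.toFinset, t w ^ (D w).natAbs := ⟨_, rfl⟩
  have hg0 : g ≠ 0 := hg ▸ Finset.prod_ne_zero_iff.2 fun w _ => pow_ne_zero _ (ht0 w)
  have hga := al_ne_zero hg0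
  have hfin' : LocFin (D + fun z => Scheme.ord (al g) z) := fun W hW =>
    ((hfin W hW).union (locFin_ord hga W hW)).subset fun z ⟨h1, h2, h3⟩ => by
      by_cases h0 : D z = 0
      · exact Or.inr ⟨h1, h2, by simpa [h0] using h3⟩
      · exact Or.inl ⟨h1, h2, h0⟩
  have key := principalAt_of_punctured_effective hX hfin' hdim hpar (fun z hz hzx => ?_)
    fun y hy hne => (h y hy hne).add ⟨al g, hga, fun z _ _ => rfl⟩
  · have hgp : PrincipalAt (fun z => Scheme.ord (al g) z) x := ⟨al g, hga, fun z _ _ => rfl⟩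
    refine (key.add hgp.neg).congr
      fun z _ _ => ?_
    simp
  · have hnn : ∀ w ∈ hT.toFinset, 0 ≤ ((D w).natAbs : ℤ) * Scheme.ord (al (t w)) z := fun w _ =>
      mul_nonneg (by positivity) (ord_al_nonneg hzx (t w))
    rw [Pi.add_apply, hg, ord_al_prod _ _ _ fun w _ => ht0 w]
    by_cases hD0 : D z = 0
    · have := Finset.sum_nonneg hnn
      omega
    have h1 := Finset.single_le_sum hnn (hT.mem_toFinset.2 ⟨hz, hzx, hD0⟩)
    have h2 : 1 ≤ Scheme.ord (al (t z)) z := CDiv6.one_le_ord_toK hX hzx hz (ht0 z) (ht z hzx hz)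
    have h3 : (D z).natAbs * 1 ≤ ((D z).natAbs : ℤ) * Scheme.ord (al (t z)) z :=
      mul_le_mul_of_nonneg_left h2 (by positivity)
    omega

end Groth.Agent.H23.PrincipalPara
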