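import Groth.Agent.S1616
import Groth.Agent.SeesawX.PnSpec

/-!
# A product of two closed subschemes of projective spaces is one
-/

set_option autoImplicit false
set_option linter.style.haveILetI false
set_option backward.isDefEq.respectTransparency.types false

universe u

open AlgebraicGeometry CategoryTheory CategoryTheory.Limits

noncomputable section

namespace Groth.Agent.H23.ProdEmbed

open Groth.Agent

/-- The product of two closed subschemes of projective spaces embeds in a projective space. -/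
theorem exists_embedding {K : Type u} [Field K] {X Y : Scheme.{u}} {fX : X ⟶ Spec (CommRingCat.of K)}
    {fY : Y ⟶ Spec (CommRingCat.of K)} {N M : ℕ} (ιX : X ⟶ CohB1.ProjSpace N K) [IsClosedImmersion ιX]
    (hιX : ιX ≫ CohB1.ProjSpace.toSpec N K = fX) (ιY : Y ⟶ CohB1.ProjSpace M K) [IsClosedImmersion ιY]
    (hιY : ιY ≫ CohB1.ProjSpace.toSpec M K = fY) :
    ∃ (L : ℕ) (ι : pullback fX fY ⟶ CohB1.ProjSpace L K), IsClosedImmersion ι ∧
      ι ≫ CohB1.ProjSpace.toSpec L K = pullback.fst fX fY ≫ fX := by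
  obtain ⟨a, ha, -⟩ := SeesawX.PnSpec.exists_iso N K
  obtain ⟨b, hb, -⟩ := SeesawX.PnSpec.exists_iso M K
  obtain ⟨c, hc, -⟩ := SeesawX.PnSpec.exists_iso (N * M + N + M) K
  obtain ⟨φ, hφ, hφb⟩ := S1616.result (Spec (CommRingCat.of K)) N M
  have h1 : ιX ≫ a.inv ≫ CohB1.ProjSpaceOver.toBase N (Spec (CommRingCat.of K)) = fX := by
    rw [← ha, Iso.inv_hom_id_assoc, hιX]
  have h2 : ιY ≫ b.inv ≫ CohB1.ProjSpaceOver.toBase M (Spec (CommRingCat.of K)) = fY := by
    rw [← hb, Iso.inv_hom_id_assoc, hιY]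
  let m := pullback.map fX fY (CohB1.ProjSpaceOver.toBase N (Spec (CommRingCat.of K)))
    (CohB1.ProjSpaceOver.toBase M (Spec (CommRingCat.of K))) (ιX ≫ a.inv) (ιY ≫ b.inv) (𝟙 _)
    (by rw [Category.comp_id, Category.assoc, h1]) (by rw [Category.comp_id, Category.assoc, h2])
  haveI : IsClosedImmersion m := MorphismProperty.pullbackMap (P := @IsClosedImmersion)
    (show IsClosedImmersion (ιX ≫ a.inv) by infer_instance) (show IsClosedImmersion (ιY ≫ b.inv) by infer_instance)
    (by rw [Category.assoc, h1]) (by rw [Category.assoc, h2])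
  haveI := hφ
  refine ⟨N * M + N + M, m ≫ φ ≫ c.hom, inferInstance, ?_⟩
  rw [Category.assoc, Category.assoc, hc, hφb, ← Category.assoc, pullback.lift_fst, Category.assoc, Category.assoc, h1]

end Groth.Agent.H23.ProdEmbed
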