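import Groth.Agent.S18811
import Mathlib.LinearAlgebra.TensorProduct.Basis

/-!
Functions on a product of two opens over a field.
-/

universe u

open CategoryTheory Limits AlgebraicGeometry MonoidalCategory CartesianMonoidalCategory TopologicalSpace
  TensorProduct Opposite

namespace Groth.Agent.H23.ProdFun

variable {k : Type u} [Field k] {X Y X' Y' : Over (Spec (CommRingCat.of k))}

/-- The functions on an open as an algebra over the field. -/
noncomputable instance algebraOpen (X : Over (Spec (CommRingCat.of k))) (U : X.left.Opens) :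
    Algebra k Γ(X.left, U) :=
  ((Scheme.ΓSpecIso (CommRingCat.of k)).inv ≫ X.hom.appLE ⊤ U le_top).hom.toAlgebra

theorem algebraMap_def (X : Over (Spec (CommRingCat.of k))) (U : X.left.Opens) (c : k) :
    algebraMap k Γ(X.left, U) c = X.hom.appLE ⊤ U le_top ((Scheme.ΓSpecIso (CommRingCat.of k)).inv c) := rfl

/-- Pullback of functions. -/
noncomputable def pullFun (g : X' ⟶ X) {U : X.left.Opens} {U' : X'.left.Opens} (e : U' ≤ g.left ⁻¹ᵁ U) :
    Γ(X.left, U) →ₐ[k] Γ(X'.left, U') :=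
  { (g.left.appLE U U' e).hom with
    commutes' := fun c => by
      show g.left.appLE U U' e (X.hom.appLE ⊤ U le_top _) = X'.hom.appLE ⊤ U' le_top _
      rw [← CommRingCat.comp_apply, Scheme.Hom.appLE_comp_appLE]
      simp only [Over.w] }

theorem pullFun_apply (g : X' ⟶ X) {U : X.left.Opens} {U' : X'.left.Opens} (e : U' ≤ g.left ⁻¹ᵁ U)
    (a : Γ(X.left, U)) : pullFun g e a = g.left.appLE U U' e a := rfl

theorem pullFun_congr {g g' : X' ⟶ X} (h : g = g') {U : X.left.Opens} {U' : X'.left.Opens}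
    (e : U' ≤ g.left ⁻¹ᵁ U) (e' : U' ≤ g'.left ⁻¹ᵁ U) (a : Γ(X.left, U)) :
    pullFun g e a = pullFun g' e' a := by
  subst h
  rfl

theorem pullFun_pullFun {X'' : Over (Spec (CommRingCat.of k))} (g' : X'' ⟶ X') (g : X' ⟶ X)
    {U : X.left.Opens} {U' : X'.left.Opens} {U'' : X''.left.Opens}
    (e : U' ≤ g.left ⁻¹ᵁ U) (e' : U'' ≤ g'.left ⁻¹ᵁ U') (e'' : U'' ≤ (g' ≫ g).left ⁻¹ᵁ U) (a : Γ(X.left, U)) :
    pullFun g' e' (pullFun g e a) = pullFun (g' ≫ g) e'' a := by
  rw [pullFun_apply, pullFun_apply, pullFun_apply, ← CommRingCat.comp_apply, Scheme.Hom.appLE_comp_appLE]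
  rfl

/-- Restriction of functions. -/
theorem pullFun_id {U U' : X.left.Opens} (e : U' ≤ (𝟙 X : X ⟶ X).left ⁻¹ᵁ U) (a : Γ(X.left, U)) :
    pullFun (𝟙 X) e a = X.left.presheaf.map (homOfLE (show U' ≤ U from e)).op a := by
  rw [pullFun_apply]
  simp [Scheme.Hom.appLE]
  rfl

/-- The product of two opens. -/
noncomputable abbrev box (U : X.left.Opens) (V : Y.left.Opens) : (X ⊗ Y).left.Opens :=
  (fst X Y).left ⁻¹ᵁ U ⊓ (snd X Y).left ⁻¹ᵁ V

/-- The comparison map to the functions on a box. -/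
noncomputable def psi (U : X.left.Opens) (V : Y.left.Opens) :
    Γ(X.left, U) ⊗[k] Γ(Y.left, V) →ₐ[k] Γ((X ⊗ Y).left, box U V) :=
  Algebra.TensorProduct.lift (pullFun (fst X Y) inf_le_left) (pullFun (snd X Y) inf_le_right)
    fun _ _ => .all _ _

theorem psi_tmul (U : X.left.Opens) (V : Y.left.Opens) (a : Γ(X.left, U)) (b : Γ(Y.left, V)) :
    psi U V (a ⊗ₜ b) = pullFun (fst X Y) inf_le_left a * pullFun (snd X Y) inf_le_right b :=
  Algebra.TensorProduct.lift_tmul _ _ _ _ _

theorem box_le (g : X' ⟶ X) (h : Y' ⟶ Y) {U : X.left.Opens} {U' : X'.left.Opens} (e : U' ≤ g.left ⁻¹ᵁ U)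
    {V : Y.left.Opens} {V' : Y'.left.Opens} (e' : V' ≤ h.left ⁻¹ᵁ V) :
    box U' V' ≤ (g ⊗ₘ h).left ⁻¹ᵁ box U V := by
  have h1 : (g ⊗ₘ h).left ⁻¹ᵁ ((fst X Y).left ⁻¹ᵁ U) = (fst X' Y').left ⁻¹ᵁ (g.left ⁻¹ᵁ U) := by
    rw [← Scheme.Hom.comp_preimage, ← Scheme.Hom.comp_preimage, ← Over.comp_left, ← Over.comp_left, tensorHom_fst]
  have h2 : (g ⊗ₘ h).left ⁻¹ᵁ ((snd X Y).left ⁻¹ᵁ V) = (snd X' Y').left ⁻¹ᵁ (h.left ⁻¹ᵁ V) := by
    rw [← Scheme.Hom.comp_preimage, ← Scheme.Hom.comp_preimage, ← Over.comp_left, ← Over.comp_left, tensorHom_snd]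
  rw [Scheme.Hom.preimage_inf]
  refine le_inf (le_trans inf_le_left ?_) (le_trans inf_le_right ?_)
  · rw [h1]; intro z hz; exact e hz
  · rw [h2]; intro z hz; exact e' hz

/-- The comparison map is natural. -/
theorem pullFun_psi (g : X' ⟶ X) (h : Y' ⟶ Y) {U : X.left.Opens} {U' : X'.left.Opens} (e : U' ≤ g.left ⁻¹ᵁ U)
    {V : Y.left.Opens} {V' : Y'.left.Opens} (e' : V' ≤ h.left ⁻¹ᵁ V)
    (z : Γ(X.left, U) ⊗[k] Γ(Y.left, V)) :
    pullFun (g ⊗ₘ h) (box_le g h e e') (psi U V z) =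
      psi U' V' (Algebra.TensorProduct.map (pullFun g e) (pullFun h e') z) := by
  induction z using TensorProduct.induction_on with
  | zero => simp
  | add x y hx hy => simp only [map_add, hx, hy]
  | tmul a b =>
    rw [Algebra.TensorProduct.map_tmul, psi_tmul, psi_tmul, map_mul]
    congr 1
    · have h3 : box U' V' ≤ ((g ⊗ₘ h) ≫ fst X Y).left ⁻¹ᵁ U := by
        rw [Over.comp_left, Scheme.Hom.comp_preimage]
        exact (box_le g h e e').trans (Scheme.Hom.preimage_mono _ inf_le_left)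
      have h4 : box U' V' ≤ (fst X' Y' ≫ g).left ⁻¹ᵁ U := by
        rw [Over.comp_left, Scheme.Hom.comp_preimage]
        exact inf_le_left.trans (show (fst X' Y').left ⁻¹ᵁ U' ≤ (fst X' Y').left ⁻¹ᵁ (g.left ⁻¹ᵁ U) from fun z hz => e hz)
      rw [pullFun_pullFun _ _ _ _ h3, pullFun_pullFun _ _ _ _ h4]
      exact pullFun_congr (tensorHom_fst g h) _ _ a
    · have h3 : box U' V' ≤ ((g ⊗ₘ h) ≫ snd X Y).left ⁻¹ᵁ V := by
        rw [Over.comp_left, Scheme.Hom.comp_preimage]
        exact (box_le g h e e').trans (Scheme.Hom.preimage_mono _ inf_le_right)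
      have h4 : box U' V' ≤ (snd X' Y' ≫ h).left ⁻¹ᵁ V := by
        rw [Over.comp_left, Scheme.Hom.comp_preimage]
        exact inf_le_right.trans (show (snd X' Y').left ⁻¹ᵁ V' ≤ (snd X' Y').left ⁻¹ᵁ (h.left ⁻¹ᵁ V) from fun z hz => e' hz)
      rw [pullFun_pullFun _ _ _ _ h3, pullFun_pullFun _ _ _ _ h4]
      exact pullFun_congr (tensorHom_snd g h) _ _ b

/-- The comparison map is natural for restriction. -/
theorem map_psi {U U' : X.left.Opens} (e : U' ≤ U) {V V' : Y.left.Opens} (e' : V' ≤ V) (he : box U' V' ≤ box U V)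
    (z : Γ(X.left, U) ⊗[k] Γ(Y.left, V)) :
    (X ⊗ Y).left.presheaf.map (homOfLE he).op (psi U V z) =
      psi U' V' (Algebra.TensorProduct.map (pullFun (𝟙 X) (show U' ≤ (𝟙 X : X ⟶ X).left ⁻¹ᵁ U from e))
        (pullFun (𝟙 Y) (show V' ≤ (𝟙 Y : Y ⟶ Y).left ⁻¹ᵁ V from e')) z) := by
  rw [← pullFun_psi (𝟙 X) (𝟙 Y) (show U' ≤ (𝟙 X : X ⟶ X).left ⁻¹ᵁ U from e)
    (show V' ≤ (𝟙 Y : Y ⟶ Y).left ⁻¹ᵁ V from e'),
    pullFun_congr (id_tensorHom_id X Y) _ (show box U' V' ≤ (𝟙 (X ⊗ Y) : X ⊗ Y ⟶ X ⊗ Y).left ⁻¹ᵁ box U V from he),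
    pullFun_id]

/-- The comparison map to the global functions on a product. -/
noncomputable def psiTop (X Y : Over (Spec (CommRingCat.of k))) :
    Γ(X.left, ⊤) ⊗[k] Γ(Y.left, ⊤) →ₐ[k] Γ((X ⊗ Y).left, ⊤) :=
  Algebra.TensorProduct.lift (pullFun (fst X Y) (le_of_eq rfl)) (pullFun (snd X Y) (le_of_eq rfl))
    fun _ _ => .all _ _

theorem pullFun_top (g : X' ⟶ X) (a : Γ(X.left, ⊤)) (h : (⊤ : X'.left.Opens) ≤ g.left ⁻¹ᵁ ⊤) :
    pullFun g h a = g.left.appTop a := by
  show g.left.appLE ⊤ ⊤ h a = _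
  rw [show g.left.appLE ⊤ ⊤ h = g.left.appTop by simp [Scheme.Hom.appLE]]

theorem psiTop_bijective (X Y : Over (Spec (CommRingCat.of k))) [QuasiCompact X.hom] [IsSeparated X.hom]
    [QuasiCompact Y.hom] [IsSeparated Y.hom] : Function.Bijective (psiTop X Y) := by
  letI : X.left.Over (Spec (CommRingCat.of k)) := ⟨X.hom⟩
  letI : Y.left.Over (Spec (CommRingCat.of k)) := ⟨Y.hom⟩
  haveI : CompactSpace X.left := (quasiCompact_iff_compactSpace X.hom).mp inferInstance
  haveI : CompactSpace Y.left := (quasiCompact_iff_compactSpace Y.hom).mp inferInstance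
  haveI : IsAffineHom (pullback.diagonal (X.left ↘ Spec (CommRingCat.of k))) := by
    show IsAffineHom (pullback.diagonal X.hom); infer_instance
  haveI : IsAffineHom (pullback.diagonal (Y.left ↘ Spec (CommRingCat.of k))) := by
    show IsAffineHom (pullback.diagonal Y.hom); infer_instance
  have H : IsPushout X.hom.appTop Y.hom.appTop (pullback.fst X.hom Y.hom).appTop (pullback.snd X.hom Y.hom).appTop :=
    Groth.Agent.S18811.result k X.left Y.left
  let e : Γ(Spec (CommRingCat.of k), ⊤) ≅ CommRingCat.of k := Scheme.ΓSpecIso _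
  have hA : ∀ T : Over (Spec (CommRingCat.of k)),
      CommRingCat.ofHom (algebraMap k Γ(T.left, ⊤)) = e.inv ≫ T.hom.appTop := fun T => by
    rw [show T.hom.appTop = T.hom.appLE ⊤ ⊤ le_top by simp [Scheme.Hom.appLE]]
    rfl
  have H' : IsPushout (CommRingCat.ofHom (algebraMap k Γ(X.left, ⊤)))
      (CommRingCat.ofHom (algebraMap k Γ(Y.left, ⊤)))
      (pullback.fst X.hom Y.hom).appTop (pullback.snd X.hom Y.hom).appTop := by
    rw [hA, hA]
    exact H.of_iso e (Iso.refl _) (Iso.refl _) (Iso.refl _) (by simp) (by simp) (by simp) (by simp)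
  have hpo := CommRingCat.isPushout_tensorProduct k Γ(X.left, ⊤) Γ(Y.left, ⊤)
  let ε := hpo.isoIsPushout _ _ H'
  have h1 : ∀ a, ε.hom (a ⊗ₜ[k] (1 : Γ(Y.left, ⊤))) = (pullback.fst X.hom Y.hom).appTop a := fun a =>
    congr($(IsPushout.inl_isoIsPushout_hom _ _ hpo H') a)
  have h2 : ∀ b, ε.hom ((1 : Γ(X.left, ⊤)) ⊗ₜ[k] b) = (pullback.snd X.hom Y.hom).appTop b := fun b =>
    congr($(IsPushout.inr_isoIsPushout_hom _ _ hpo H') b)
  have he : ⇑(psiTop X Y) = ⇑ε.hom := by
    funext z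
    induction z using TensorProduct.induction_on with
    | zero =>
      refine (map_zero _).trans ?_
      exact (map_zero ε.hom.hom).symm
    | tmul a b =>
      rw [psiTop, Algebra.TensorProduct.lift_tmul, pullFun_top, pullFun_top]
      conv_rhs => rw [show a ⊗ₜ[k] b = (a ⊗ₜ[k] (1 : Γ(Y.left, ⊤))) * ((1 : Γ(X.left, ⊤)) ⊗ₜ[k] b) by simp]
      refine Eq.trans ?_ (map_mul ε.hom.hom _ _).symm
      exact (congrArg₂ (· * ·) (h1 a) (h2 b)).symm
    | add s t hs ht =>
      refine (map_add _ _ _).trans ?_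
      refine Eq.trans ?_ (map_add ε.hom.hom _ _).symm
      exact congrArg₂ (· + ·) hs ht
  rw [he]
  exact ConcreteCategory.bijective_of_isIso ε.hom

/-- An open as a scheme over the field. -/
noncomputable abbrev sub (U : X.left.Opens) : Over (Spec (CommRingCat.of k)) := Over.mk (U.ι ≫ X.hom)

/-- The inclusion of an open. -/
noncomputable abbrev incl (U : X.left.Opens) : sub U ⟶ X := Over.homMk U.ι rfl

/-- The functions on an open are the global functions of the open subscheme. -/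
theorem pullFun_incl_bijective (U : X.left.Opens) (h : (⊤ : (sub U).left.Opens) ≤ (incl U).left ⁻¹ᵁ U) :
    Function.Bijective (pullFun (incl U) h) := by
  show Function.Bijective (U.ι.appLE U ⊤ h)
  have h1 : U.ι.appLE (U.ι ''ᵁ ⊤) ⊤ (U.ι.preimage_image_eq ⊤).ge = (U.ι.appIso ⊤).hom :=
    (U.ι.appIso_hom' ⊤).symm
  have h2 : U.ι.appLE U ⊤ h = X.left.presheaf.map (eqToHom U.ι_image_top).op ≫ U.ι.appLE (U.ι ''ᵁ ⊤) ⊤
      (U.ι.preimage_image_eq ⊤).ge := by
    rw [Scheme.Hom.map_appLE]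
  rw [h2, h1]
  exact (ConcreteCategory.bijective_of_isIso _)

theorem range_inclProd (U : X.left.Opens) (V : Y.left.Opens) :
    Set.range (incl U ⊗ₘ incl V).left = (box U V : Set ↥((X ⊗ Y).left)) := by
  have h := Scheme.Pullback.range_map (f := (sub U).hom) (g := (sub V).hom) (f' := X.hom) (g' := Y.hom)
    (i₁ := U.ι) (i₂ := V.ι) (i₃ := 𝟙 _) (Category.comp_id _) (Category.comp_id _)
  have he : (incl U ⊗ₘ incl V).left = pullback.map (sub U).hom (sub V).hom X.hom Y.hom U.ι V.ι (𝟙 _)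
      (Category.comp_id _) (Category.comp_id _) := by
    apply pullback.hom_ext <;> simp [pullback.map] <;>
      first | exact (pullback.lift_fst _ _ _).symm | exact (pullback.lift_snd _ _ _).symm
  rw [he, h, Scheme.Opens.range_ι, Scheme.Opens.range_ι]
  rfl

/-- The functions on a box are the tensor product of the functions on the factors. -/
theorem psi_bijective [IsSeparated X.hom] [IsSeparated Y.hom] (U : X.left.Opens) (hU : IsCompact (U : Set X.left))
    (V : Y.left.Opens) (hV : IsCompact (V : Set Y.left)) : Function.Bijective (psi U V) := by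
  haveI : CompactSpace (sub U).left := isCompact_iff_compactSpace.1 hU
  haveI : CompactSpace (sub V).left := isCompact_iff_compactSpace.1 hV
  haveI : QuasiCompact (sub U).hom := (quasiCompact_iff_compactSpace _).2 inferInstance
  haveI : QuasiCompact (sub V).hom := (quasiCompact_iff_compactSpace _).2 inferInstance
  haveI : IsSeparated (sub U).hom := inferInstanceAs (IsSeparated (U.ι ≫ X.hom))
  haveI : IsSeparated (sub V).hom := inferInstanceAs (IsSeparated (V.ι ≫ Y.hom))
  let j := incl U ⊗ₘ incl V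
  haveI : IsOpenImmersion j.left := by
    have he : j.left = pullback.map (sub U).hom (sub V).hom X.hom Y.hom U.ι V.ι (𝟙 _)
        (Category.comp_id _) (Category.comp_id _) := by
      apply pullback.hom_ext <;> simp [j, pullback.map] <;>
        first | exact (pullback.lift_fst _ _ _).symm | exact (pullback.lift_snd _ _ _).symm
    rw [he]
    infer_instance
  have hr : j.left ''ᵁ ⊤ = box U V := by
    rw [Scheme.Hom.image_top_eq_opensRange]
    exact Opens.ext (range_inclProd U V)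
  have hU0 : (⊤ : (sub U).left.Opens) ≤ (incl U).left ⁻¹ᵁ U := U.ι_preimage_self.ge
  have hV0 : (⊤ : (sub V).left.Opens) ≤ (incl V).left ⁻¹ᵁ V := V.ι_preimage_self.ge
  have ht : (⊤ : (sub U ⊗ sub V).left.Opens) ≤ j.left ⁻¹ᵁ box U V := by
    rw [← hr]
    exact (j.left.preimage_image_eq ⊤).ge
  have hj : Function.Bijective (pullFun j ht) := by
    show Function.Bijective (j.left.appLE (box U V) ⊤ ht)
    have h2 : j.left.appLE (box U V) ⊤ ht = (X ⊗ Y).left.presheaf.map (eqToHom hr).op ≫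
        j.left.appLE (j.left ''ᵁ ⊤) ⊤ (j.left.preimage_image_eq ⊤).ge := by
      rw [Scheme.Hom.map_appLE]
    rw [h2, ← j.left.appIso_hom' ⊤]
    exact ConcreteCategory.bijective_of_isIso _
  let mU := (pullFun (incl U) hU0).toLinearMap
  let mV := (pullFun (incl V) hV0).toLinearMap
  have key : ∀ z, pullFun j ht (psi U V z) = psiTop (sub U) (sub V)
      (TensorProduct.map mU mV z) := by
    intro z
    induction z using TensorProduct.induction_on with
    | zero => simp
    | add x y hx hy => simp only [map_add, hx, hy]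
    | tmul a b =>
      rw [psi_tmul, map_mul, TensorProduct.map_tmul]
      refine Eq.trans ?_ (Algebra.TensorProduct.lift_tmul _ _ _ _ _).symm
      congr 1
      · have h3 : (⊤ : (sub U ⊗ sub V).left.Opens) ≤ (fst (sub U) (sub V) ≫ incl U).left ⁻¹ᵁ U := by
          rw [Over.comp_left, Scheme.Hom.comp_preimage]
          exact fun z _ => hU0 trivial
        rw [pullFun_pullFun _ _ _ _ (by rw [tensorHom_fst]; exact h3),
          pullFun_congr (tensorHom_fst _ _) _ h3]
        exact (pullFun_pullFun (fst (sub U) (sub V)) (incl U) hU0 (le_of_eq rfl) h3 a).symm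
      · have h3 : (⊤ : (sub U ⊗ sub V).left.Opens) ≤ (snd (sub U) (sub V) ≫ incl V).left ⁻¹ᵁ V := by
          rw [Over.comp_left, Scheme.Hom.comp_preimage]
          exact fun z _ => hV0 trivial
        rw [pullFun_pullFun _ _ _ _ (by rw [tensorHom_snd]; exact h3),
          pullFun_congr (tensorHom_snd _ _) _ h3]
        exact (pullFun_pullFun (snd (sub U) (sub V)) (incl V) hV0 (le_of_eq rfl) h3 b).symm
  have hm : Function.Bijective (TensorProduct.map mU mV) :=
    (TensorProduct.congr (LinearEquiv.ofBijective mU (pullFun_incl_bijective U hU0))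
      (LinearEquiv.ofBijective mV (pullFun_incl_bijective V hV0))).bijective
  have hb : Function.Bijective (pullFun j ht ∘ psi U V) := by
    rw [show pullFun j ht ∘ psi U V = _ from funext key]
    exact (psiTop_bijective (sub U) (sub V)).comp hm
  exact (Function.Bijective.of_comp_iff' hj _).1 hb

end Groth.Agent.H23.ProdFun
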