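import Groth.Agent.SBAut.Linear
import Mathlib.FieldTheory.IsAlgClosed.AlgebraicClosure

/-!
# Natural automorphisms of projective space are linear, over any field
-/

universe u

open MvPolynomial Matrix

noncomputable section

namespace Groth.Agent.H23.ProjAut

open Groth.Agent.SBAut

variable {K : Type u} [Field K] {n : ℕ}

theorem exists_matrix_field (G G' : NatMap K n)
    (hinv : ∀ (R : Type u) [CommRing R] [IsLocalRing R] [Algebra K R] (v : Fin n → R), IsUni v →
      Rel (G'.app R (G.app R v)) v) :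
    ∃ M : Matrix (Fin n) (Fin n) K, IsUnit M.det ∧
      ∀ (R : Type u) [CommRing R] [IsLocalRing R] [Algebra K R] (v : Fin n → R), IsUni v →
        Rel (G.app R v) (v ᵥ* M.map (algebraMap K R)) := by
  classical
  rcases Nat.lt_or_ge n 2 with hn | hn
  · refine ⟨1, by simp, fun R _ _ _ v _ i j => ?_⟩
    obtain rfl : i = j := Fin.ext (by omega)
    rfl
  obtain ⟨f, d, hd, hf0, hev⟩ := exists_rep G (by omega)
  obtain ⟨f', d', hd', hf0', hev'⟩ := exists_rep G' (by omega)
  let h : Fin n → Poly K n := fun i => aeval f (f' i)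
  have hh : ∀ (R : Type u) [CommRing R] [IsLocalRing R] [Algebra K R] (a : Fin n → R), IsUni a →
      IsUni (fun i => aeval a (h i)) ∧ Rel (fun i => aeval a (h i)) a := by
    intro R _ _ _ a ha
    obtain ⟨hu, hr⟩ := hev R a ha
    obtain ⟨hu', hr'⟩ := hev' R _ hu
    have heq : (fun i => aeval a (h i)) = fun i => aeval (fun l => aeval a (f l)) (f' i) :=
      funext fun i => (comp_aeval_apply f (aeval a) (f' i))
    rw [heq]
    exact ⟨hu', (hr'.symm.trans (G'.uni _ _ hu) (G'.rel R _ _ hu (G.uni _ _ ha) hr.symm)).trans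
      (G'.uni _ _ (G.uni _ _ ha)) (hinv R a ha)⟩
  let i0 : Fin n := ⟨0, by omega⟩
  let i1 : Fin n := ⟨1, by omega⟩
  have hrelP : ∀ i j, h i * X j = h j * X i := by
    intro i j
    have hxF : IsUni (fun i => algebraMap (Poly K n) (Frac K n) (X i)) :=
      isUni_of_ne_zero (i := i0) ((map_ne_zero_iff _ (IsFractionRing.injective _ _)).mpr (X_ne_zero i0))
    have h1 := (hh (Frac K n) _ hxF).2 i j
    have he : ∀ g, aeval (fun i => algebraMap (Poly K n) (Frac K n) (X i)) g = algebraMap (Poly K n) (Frac K n) g :=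
      fun g => by
        have : aeval (fun i => algebraMap (Poly K n) (Frac K n) (X i)) = IsScalarTower.toAlgHom K (Poly K n) (Frac K n) :=
          algHom_ext fun i => by simp
        rw [this]; rfl
    simp only [he, ← map_mul] at h1
    exact IsFractionRing.injective _ _ h1
  obtain ⟨c, hc⟩ := exists_eq_mul_X hn hrelP
  have hcnz : ∀ (L : Type u) [Field L] [Algebra K L] (a : Fin n → L), a ≠ 0 → aeval a c ≠ 0 := by
    intro L _ _ a ha h0
    obtain ⟨i, hi⟩ := Function.ne_iff.mp ha
    obtain ⟨j, hj⟩ := (hh L a (isUni_of_ne_zero hi)).1.exists_ne_zero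
    refine hj ?_
    show aeval a (h j) = 0
    rw [hc, map_mul, h0, zero_mul]
  have hc0 : c ≠ 0 := fun h0 => hcnz K (Pi.single i0 1) (by simp) (by simp [h0])
  have hcu : IsUnit c := by
    by_contra hnu
    obtain ⟨p, hpm⟩ := UniqueFactorizationMonoid.exists_mem_factors hc0 hnu
    have hp := UniqueFactorizationMonoid.prime_of_factor p hpm
    have hpc := UniqueFactorizationMonoid.dvd_of_mem_factors hpm
    have hzero : ∀ a ∈ zeroLocus (AlgebraicClosure K) (Ideal.span {p}), a = 0 := by
      intro a ha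
      by_contra hne
      refine hcnz (AlgebraicClosure K) a hne ?_
      obtain ⟨q, rfl⟩ := hpc
      rw [map_mul, (mem_zeroLocus_iff.mp ha) p (Ideal.subset_span rfl), zero_mul]
    have hX : ∀ i, p ∣ X i := by
      intro i
      haveI := (Ideal.span_singleton_prime hp.ne_zero).mpr hp
      rw [← Ideal.mem_span_singleton, ← IsPrime.vanishingIdeal_zeroLocus (K := AlgebraicClosure K) (Ideal.span {p}),
        mem_vanishingIdeal_iff]
      intro a ha
      simp [hzero a ha]
    have h2 : (X i0 : Poly K n) ∣ X i1 :=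
      ((hp.irreducible.associated_of_dvd (X_prime (i := i0)).irreducible (hX i0)).symm.dvd).trans (hX i1)
    obtain ⟨q, hq⟩ := h2
    have := congrArg (aeval (Pi.single i1 (1 : K))) hq
    simp [i0, i1, Fin.ext_iff] at this
  obtain ⟨r, hr, hcr⟩ := isUnit_iff_eq_C_of_isReduced.mp hcu
  have hd1 : d = 1 := by
    have h1 : (h i0).IsHomogeneous (d * d') := (hd' i0).aeval f hd
    have h2 : (h i0).IsHomogeneous 1 := by
      rw [hc, hcr]; exact (isHomogeneous_X K i0).C_mul r
    have h3 : h i0 ≠ 0 := by rw [hc]; exact mul_ne_zero hc0 (X_ne_zero _)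
    exact (Nat.eq_one_of_mul_eq_one_right (h1.inj_right h2 h3))
  subst hd1
  let M : Matrix (Fin n) (Fin n) K := fun j i => coeff (Finsupp.single j 1) (f i)
  have hM : ∀ (R : Type u) [CommRing R] [Algebra K R] (a : Fin n → R),
      (fun i => aeval a (f i)) = a ᵥ* M.map (algebraMap K R) := by
    intro R _ _ a
    funext i
    conv_lhs => rw [eq_linear (hd i)]
    simp only [map_sum, map_mul, aeval_C, aeval_X, Matrix.vecMul, dotProduct, Matrix.map_apply, M]
    exact Finset.sum_congr rfl fun j _ => mul_comm _ _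
  refine ⟨M, ?_, fun R _ _ _ v hv => ?_⟩
  · rw [isUnit_iff_ne_zero]
    intro hdet
    obtain ⟨a, ha, ha'⟩ := Matrix.exists_vecMul_eq_zero_iff.mpr hdet
    obtain ⟨i, hi⟩ := Function.ne_iff.mp ha
    obtain ⟨l, hl⟩ := (hev K a (isUni_of_ne_zero hi)).1.exists_ne_zero
    refine hl ?_
    have := congrFun (hM K a) l
    rw [this, show M.map (algebraMap K K) = M from rfl, ha']
    rfl
  · rw [← hM]
    exact (hev R v hv).2

end Groth.Agent.H23.ProjAut
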