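import Groth.Agent.H23.AffineVanish
import Groth.Agent.CycLib.Div

/-! Cycles on stratified schemes with quasi-affine strata. -/

set_option autoImplicit false

universe u

open AlgebraicGeometry CategoryTheory TopologicalSpace

namespace Groth.Agent.H23.StratCycles

open Groth.Agent RatOn Homotopy

theorem isDimFun_immersion {W X : Scheme.{u}} (j : W ⟶ X) [IsImmersion j] {δ : X → ℤ}
    (hd : Cyc.IsDimFun X δ) : Cyc.IsDimFun W (fun w => δ (j w)) := by
  intro a b hab hne
  have hinj := j.isEmbedding.injective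
  refine ⟨CycLib.delta_lt hd (hab.map j.continuous) (hinj.ne hne), fun h => ?_⟩
  refine (hd _ _ (hab.map j.continuous) (hinj.ne hne)).2 fun z h1 h2 => ?_
  obtain ⟨O, C, hO, hC, e⟩ := IsImmersion.isLocallyClosed_range (f := j)
  have ha : j a ∈ O ∩ C := e ▸ Set.mem_range_self a
  have hb : j b ∈ O ∩ C := e ▸ Set.mem_range_self b
  obtain ⟨z, rfl⟩ : z ∈ Set.range j := e.symm ▸ ⟨h2.mem_open hO hb.1, h1.mem_closed hC ha.2⟩
  rcases h z (j.isEmbedding.isInducing.specializes_iff.1 h1) (j.isEmbedding.isInducing.specializes_iff.1 h2) with rfl | rfl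
  exacts [Or.inl rfl, Or.inr rfl]

variable (K : Type u) [Field K] (m : ℕ)

instance locallyOfFiniteType_specPoly :
    LocallyOfFiniteType (Spec.map (CommRingCat.ofHom (algebraMap K (MvPolynomial (Fin m) K)))) :=
  (HasRingHomProperty.Spec_iff (P := @LocallyOfFiniteType)).2 (RingHom.finiteType_algebraMap.2 inferInstance)

theorem exists_polyIso : ∃ e : 𝔸(ULift.{u} (Fin m); Spec (CommRingCat.of K)) ≅ Spec (CommRingCat.of (MvPolynomial (Fin m) K)),
    e.hom ≫ Spec.map (CommRingCat.ofHom (algebraMap K (MvPolynomial (Fin m) K))) =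
      𝔸(ULift.{u} (Fin m); Spec (CommRingCat.of K)) ↘ Spec (CommRingCat.of K) := by
  let φ : CommRingCat.of (MvPolynomial (Fin m) K) ≅ CommRingCat.of (MvPolynomial (ULift.{u} (Fin m)) K) :=
    (MvPolynomial.renameEquiv K Equiv.ulift.{u}.symm).toRingEquiv.toCommRingCatIso
  refine ⟨AffineSpace.SpecIso _ _ ≪≫ Scheme.Spec.mapIso φ.op, ?_⟩
  have h := AffineSpace.SpecIso_inv_over (n := ULift.{u} (Fin m)) (CommRingCat.of K)
  rw [Iso.inv_comp_eq] at h
  refine (Category.assoc _ _ _).trans (Eq.trans ?_ h.symm)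
  congr 1
  show Spec.map φ.hom ≫ Spec.map _ = _
  rw [← Spec.map_comp]
  congr 1
  refine CommRingCat.hom_ext (RingHom.ext fun x => ?_)
  exact (MvPolynomial.renameEquiv K Equiv.ulift.{u}.symm).commutes x

/-- A point of a quasi-affine stratum other than the generic one is, modulo rational equivalence, supported off
the stratum. -/
theorem exists_off_stratum {X : Scheme.{u}} [IsLocallyNoetherian X] [CompactSpace X] {δ : X → ℤ}
    (hd : Cyc.IsDimFun X δ) {V : (Spec (CommRingCat.of (MvPolynomial (Fin m) K))).Opens}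
    (e : (V : Scheme.{u}) ⟶ X) [IsImmersion e] (η w : ↥(V : Scheme.{u})) (hη : ∀ v, e η ⤳ e v) (hw : w ≠ η)
    {k : ℤ} (hk : δ (e w) = k) :
    ∃ G : X → ℤ, (∀ x, G x ≠ 0 → δ x = k ∧ e η ⤳ x ∧ x ∉ Set.range e) ∧ (Function.support G).Finite ∧
      ZeroOn δ k Set.univ fun x => single (e w) x - G x := by
  classical
  let P := Spec (CommRingCat.of (MvPolynomial (Fin m) K))
  let c := Spec.map (CommRingCat.ofHom (algebraMap K (MvPolynomial (Fin m) K)))
  obtain ⟨φ, hφ⟩ := exists_polyIso K m
  let δP : P → ℤ := fun p => (FibDim.rd c p : ℤ)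
  haveI : IsLocallyNoetherian P := LocallyOfFiniteType.isLocallyNoetherian c
  haveI : IsLocallyNoetherian (V : Scheme.{u}) := LocallyOfFiniteType.isLocallyNoetherian (V.ι ≫ c)
  have hdP : Cyc.IsDimFun P δP :=
    CycLib.isDimFun_of_deltaCompat c (CycLib.isSetup_spec_field K) (CycLib.deltaCompat_rd c)
  have hd1 := isDimFun_immersion V.ι hdP
  have hd2 := isDimFun_immersion e hd
  have hgen : ∀ v, η ⤳ v := fun v => e.isEmbedding.isInducing.specializes_iff.1 (hη v)
  have hconst : ∀ v, δ (e v) = δP (V.ι v) + (δ (e η) - δP (V.ι η)) := fun v => by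
    have h1 := CycLib.cd_eq hd1 (hgen v)
    have h2 := CycLib.cd_eq hd2 (hgen v)
    omega
  let k' := δP (V.ι w)
  let a : AlgebraicCycle P ℤ :=
    { toFun := single (V.ι w)
      supportWithinDomain' := fun _ _ => trivial
      supportLocallyFiniteWithinDomain' := fun y _ => ⟨Set.univ, Filter.univ_mem,
        (Set.finite_singleton (V.ι w)).subset fun z hz => by_contra fun h => hz.2 (if_neg h)⟩ }
  have hk' : k' ≠ (m : ℤ) := by
    have h1 := CycLib.delta_lt hd1 (hgen w) (Ne.symm hw)
    obtain ⟨q, hq⟩ := φ.hom.homeomorph.surjective (V.ι η)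
    have h2 : δP (φ.hom q) ≤ m := by
      show (FibDim.rd c (φ.hom q) : ℤ) ≤ m
      rw [← rd_iso_comp φ c q, hφ]
      exact_mod_cast FibDim.rd_affineSpace_le m q
    rw [show φ.hom q = V.ι η from hq] at h2
    simp only [k'] at h1 ⊢
    omega
  obtain ⟨ι, ζ, f, h1, h2, h3, h4⟩ := AffineVanish.ratEquivZero m c φ hφ (CycLib.deltaCompat_rd c) hk' a
    (fun x hx => if_neg fun h => hx (by rw [h]))
  haveI : Finite ι := by
    choose U hUo hxU hUf using h3
    obtain ⟨s, hs⟩ := isCompact_univ.elim_finite_subcover U hUo fun x _ => Set.mem_iUnion.2 ⟨x, hxU x⟩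
    rw [← Set.finite_univ_iff]
    refine (s.finite_toSet.biUnion fun x _ => hUf x).subset fun i _ => ?_
    obtain ⟨x, hx, hiU⟩ := Set.mem_iUnion₂.1 (hs (Set.mem_univ (ζ i)))
    exact Set.mem_biUnion hx ⟨ζ i, subset_closure rfl, hiU⟩
  let T := {i : ι // ζ i ∈ Set.range V.ι}
  haveI : Fintype T := Fintype.ofFinite T
  choose v hv using fun t : T => t.2
  have hg : ∀ t : T, ∃ g : X.residueField (e (v t)), g ≠ 0 ∧ ∀ x : ↥(V : Scheme.{u}),
      Cyc.divFun δ (e (v t)) g (e x) = Cyc.divFun δP (ζ t.1) (f t.1) (V.ι x) := fun t => by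
    obtain ⟨f', hf'0, hf'⟩ : ∃ f' : P.residueField (V.ι (v t)), f' ≠ 0 ∧
        Cyc.divFun δP (V.ι (v t)) f' = Cyc.divFun δP (ζ t.1) (f t.1) := by
      rw [hv t]
      exact ⟨_, h2 t.1, rfl⟩
    obtain ⟨g, hg⟩ := (CycLib.residueFieldMap_bijective e (v t)).2 (V.ι.residueFieldMap (v t) f')
    refine ⟨g, fun h0 => ?_, fun x => ?_⟩
    · rw [h0, map_zero] at hg
      exact hf'0 ((map_eq_zero _).1 hg.symm)
    · rw [← CycLib.divFun_preimmersion e 0 (δW := fun x => δ (e x)) (fun z => (add_zero _).symm), hg,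
        CycLib.divFun_preimmersion V.ι (δ (e η) - δP (V.ι η)) hconst, hf']
  choose g hg0 hg using hg
  let G : X → ℤ := fun x => single (e w) x - ∑ t, Cyc.divFun δ (e (v t)) (g t) x
  have hδt : ∀ t : T, δ (e (v t)) = k + 1 := fun t => by
    have e1 := hconst (v t)
    have e2 := hconst w
    have e3 : δP (ζ t.1) = k' + 1 := h1 t.1
    rw [hv t, e3] at e1
    simp only [k'] at e1
    omega
  refine ⟨G, fun x hx => ?_, ?_, ⟨T, fun t => e (v t), g, hδt, hg0, fun _ => trivial,
    fun x => ⟨Set.univ, isOpen_univ, trivial, Set.toFinite _⟩, fun x => ?_⟩⟩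
  · have hxne : x ∉ Set.range e := by
      rintro ⟨y, rfl⟩
      refine hx ?_
      simp only [G, hg]
      have hy := h4 (V.ι y)
      have hsupp : (Function.support fun i => Cyc.divFun δP (ζ i) (f i) (V.ι y)) ⊆
          {i | ζ i ∈ Set.range V.ι} := fun i hi => by
        have := specializes_iff_mem_closure.2 (CycLib.mem_closure_of_divFun_ne_zero hi)
        exact this.mem_open V.ι.isOpenEmbedding.isOpen_range ⟨y, rfl⟩
      rw [← finsum_mem_univ, finsum_mem_inter_support_eq' _ _ {i | ζ i ∈ Set.range V.ι}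
        (fun i hi => by simp only [Set.mem_univ, true_iff]; exact hsupp hi), ← finsum_subtype_eq_finsum_cond] at hy
      replace hy := hy.trans (finsum_eq_sum_of_fintype (fun t : T => Cyc.divFun δP (ζ t.1) (f t.1) (V.ι y)))
      rw [sub_eq_zero]
      refine Eq.trans ?_ hy
      show single (e w) (e y) = single (V.ι w) (V.ι y)
      simp only [single, e.isEmbedding.injective.eq_iff, V.ι.isEmbedding.injective.eq_iff]
    obtain ⟨t, ht⟩ : ∃ t, Cyc.divFun δ (e (v t)) (g t) x ≠ 0 := by
      by_contra hn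
      push Not at hn
      refine hx ?_
      simp only [G, single, hn, Finset.sum_const_zero, sub_zero]
      rw [if_neg fun h => hxne ⟨w, h.symm⟩]
    refine ⟨?_, (hη (v t)).trans (specializes_iff_mem_closure.2 (CycLib.mem_closure_of_divFun_ne_zero ht)), hxne⟩
    have hd' : e (v t) ⤳ x ∧ δ x + 1 = δ (e (v t)) := by
      by_contra h
      exact ht (dif_neg h)
    have := hδt t
    omega
  · have hfin : ∀ t : T, (Function.support (Cyc.divFun δ (e (v t)) (g t))).Finite := fun t => by
      obtain ⟨s, hs⟩ := isCompact_univ.elim_finite_subcover (fun U : X.affineOpens => (U.1 : Set X))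
        (fun U => U.1.isOpen) fun x _ => by
          obtain ⟨U, hU, hxU, -⟩ := exists_isAffineOpen_mem_and_subset (x := x) (U := ⊤) trivial
          exact Set.mem_iUnion.2 ⟨⟨U, hU⟩, hxU⟩
      refine (s.finite_toSet.biUnion fun U _ =>
        CycLib.finite_divFun_support hd U.2 (hg0 t)).subset fun x hx => ?_
      obtain ⟨U, hU, hxU⟩ := Set.mem_iUnion₂.1 (hs (Set.mem_univ x))
      exact Set.mem_biUnion hU ⟨hxU, hx⟩
    refine ((Set.finite_singleton (e w)).union (Set.finite_iUnion hfin)).subset fun x hx => ?_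
    by_contra hc
    simp only [Set.mem_union, Set.mem_singleton_iff, Set.mem_iUnion, Function.mem_support, not_or, not_exists,
      not_not] at hc
    exact hx (by simp [G, single, hc.1, hc.2])
  · rw [finsum_eq_sum_of_fintype]
    simp [G]

/-- Cycles on a scheme with quasi-affine strata are equivalent to combinations of the closed strata. -/
theorem exists_strata {X : Scheme.{u}} [IsLocallyNoetherian X] [CompactSpace X] {δ : X → ℤ}
    (hd : Cyc.IsDimFun X δ) {ι : Type} [Finite ι] (U : ι → Set X) (ξ : ι → X)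
    (hcov : ∀ x : X, ∃ i, x ∈ U i) (hdisj : ∀ i j, i ≠ j → Disjoint (U i) (U j))
    (hgen : ∀ i, ξ i ∈ U i ∧ U i ⊆ closure {ξ i})
    (hstrat : ∀ i j, (closure (U i) ∩ U j).Nonempty → U j ⊆ closure (U i))
    (hqa : ∀ i, ∃ (m : ℕ) (V : (Spec (CommRingCat.of (MvPolynomial (Fin m) K))).Opens)
      (e : (V : Scheme.{u}) ⟶ X), IsImmersion e ∧ Set.range e = U i)
    (k : ℤ) (α : AlgebraicCycle X ℤ) (hα : α ∈ Cyc.Zk X δ k) :
    ∃ β : AlgebraicCycle X ℤ, β ∈ Cyc.Zk X δ k ∧ (∀ x : X, β x ≠ 0 → ∃ i, x = ξ i) ∧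
      Cyc.RatEquiv δ k α β := by
  classical
  let Good : (X → ℤ) → Prop := fun G => ∃ b : X → ℤ, (∀ x, b x ≠ 0 → δ x = k ∧ ∃ i, x = ξ i) ∧
    ZeroOn δ k Set.univ fun x => G x - b x
  have hcomb : ∀ (s : Finset X) (G : X → ℤ), (∀ x, G x ≠ 0 → x ∈ s) → (∀ x ∈ s, G x ≠ 0 → Good (single x)) →
      Good G := by
    intro s
    induction s using Finset.induction_on with
    | empty =>
      intro G hG _
      refine ⟨0, fun x hx => absurd rfl hx, RatOn.congr (RatOn.zero _) fun x => ?_⟩
      by_contra h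
      exact Finset.notMem_empty x (hG x (by simpa using h))
    | @insert a s ha ih =>
      intro G hG hs
      let G' : X → ℤ := fun x => G x - G a * single a x
      have hG'a : G' a = 0 := by simp [G', single]
      have hG' : ∀ x, x ≠ a → G' x = G x := fun x hx => by simp [G', single, hx]
      obtain ⟨b', hb', hz'⟩ := ih G' (fun x hx => by
          have hxa : x ≠ a := fun h => hx (h ▸ hG'a)
          exact (Finset.mem_insert.1 (hG x (hG' x hxa ▸ hx))).resolve_left hxa)
        fun x hx hxG => hs x (Finset.mem_insert_of_mem hx) (hG' x (fun h => ha (h ▸ hx)) ▸ hxG)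
      by_cases hGa : G a = 0
      · exact ⟨b', hb', RatOn.congr hz' fun x => by simp [G', hGa]⟩
      obtain ⟨b, hb, hz⟩ := hs a (Finset.mem_insert_self a s) hGa
      refine ⟨fun x => b' x + G a * b x, fun x hx => ?_, RatOn.congr (RatOn.add hd hz' hz 1 (G a)) fun x => ?_⟩
      · by_cases h1 : b' x = 0
        · exact hb x fun h2 => hx (by simp [h1, h2])
        · exact hb' x h1
      · simp only [G']
        ring
  have hclo : ∀ i, closure (U i) ⊆ closure {ξ i} := fun i => closure_minimal (hgen i).2 isClosed_closure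
  have hsp : ∀ i j, (closure (U i) ∩ U j).Nonempty → ξ i ⤳ ξ j := fun i j h =>
    specializes_iff_mem_closure.2 (hclo i (hstrat i j h (hgen j).1))
  have main : ∀ (n : ℤ) (i : ι) (z : X), δ (ξ i) - k ≤ n → z ∈ U i → δ z = k → Good (single z) := by
    intro n
    by_cases hn : n < 0
    · intro i z hi hz hk
      have := CycLib.delta_le hd (specializes_iff_mem_closure.2 ((hgen i).2 hz))
      omega
    lift n to ℕ using (not_lt.1 hn)
    clear hn
    induction n using Nat.strong_induction_on with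
    | _ n ih =>
      intro i z hi hz hk
      by_cases hzi : z = ξ i
      · refine ⟨single z, fun x hx => ?_, RatOn.congr (RatOn.zero _) fun x => sub_self _⟩
        have : x = z := by_contra fun h => hx (if_neg h)
        exact ⟨this ▸ hk, i, this.trans hzi⟩
      obtain ⟨m, V, e, he, hr⟩ := hqa i
      haveI := he
      obtain ⟨w, rfl⟩ : z ∈ Set.range e := hr ▸ hz
      obtain ⟨η, hη⟩ : ξ i ∈ Set.range e := hr ▸ (hgen i).1
      obtain ⟨G, hG, hGfin, hGz⟩ := exists_off_stratum K m hd e η w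
        (fun v => hη ▸ specializes_iff_mem_closure.2 ((hgen i).2 (hr ▸ Set.mem_range_self v)))
        (fun h => hzi (h ▸ hη)) hk
      obtain ⟨b, hb, hbz⟩ := hcomb hGfin.toFinset G (fun x hx => hGfin.mem_toFinset.2 hx) fun x _ hx => by
        obtain ⟨hxk, hxsp, hxr⟩ := hG x hx
        obtain ⟨j, hj⟩ := hcov x
        have hij : ξ i ⤳ ξ j := hsp i j ⟨x,
          closure_mono (Set.singleton_subset_iff.2 (hgen i).1) (specializes_iff_mem_closure.1 (hη ▸ hxsp)), hj⟩
        have hne : ξ i ≠ ξ j := fun h => by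
          have : i = j := by_contra fun hne => Set.disjoint_left.1 (hdisj i j hne) (hgen i).1 (h ▸ (hgen j).1)
          subst this
          exact hxr (hr.symm ▸ hj)
        have hlt := CycLib.delta_lt hd hij hne
        have hle := CycLib.delta_le hd (specializes_iff_mem_closure.2 ((hgen j).2 hj))
        exact ih (δ (ξ j) - k).toNat (by omega) j x (by omega) hj hxk
      refine ⟨b, hb, RatOn.congr (RatOn.add hd hGz hbz 1 1) fun x => ?_⟩
      ring
  have hfin : (Function.support ⇑α).Finite := by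
    have := α.locallyFiniteSupport.finite_inter_support_of_isCompact isCompact_univ
    rwa [Set.univ_inter] at this
  obtain ⟨b, hb, hz⟩ := hcomb hfin.toFinset α (fun x hx => hfin.mem_toFinset.2 hx) fun x _ hx => by
    obtain ⟨i, hi⟩ := hcov x
    exact main _ i x le_rfl hi (not_not.1 (mt (hα x) hx))
  let β : AlgebraicCycle X ℤ :=
    { toFun := b
      supportWithinDomain' := fun _ _ => trivial
      supportLocallyFiniteWithinDomain' := fun y _ => ⟨Set.univ, Filter.univ_mem,
        (Set.finite_range ξ).subset fun x hx => by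
          obtain ⟨-, i, rfl⟩ := hb x hx.2
          exact ⟨i, rfl⟩⟩ }
  exact ⟨β, fun x hx => by_contra fun h => hx (hb x h).1, fun x hx => (hb x hx).2, RatOn.ratEquiv hz⟩

end Groth.Agent.H23.StratCycles
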