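import Groth.Agent.HyperplaneLib.Main
import Groth.Agent.ProjUPX.Sections
import Groth.Agent.FlatG.Gamma
import Groth.Agent.CurveFF.Omega
import Groth.Agent.CurveCohLib.Proper
import Groth.Agent.CurveBC.Main
import Groth.Agent.GrpOmega.Shear
import Groth.Agent.S3572
import Groth.Agent.S3573

/-!
# Canonical embeddings are projectively equivalent for isomorphic curves
-/

set_option autoImplicit false
set_option linter.style.haveILetI false
set_option backward.isDefEq.respectTransparency false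
set_option backward.isDefEq.respectTransparency.types false
set_option maxHeartbeats 1000000
set_option synthInstance.maxHeartbeats 400000

universe u

open CategoryTheory CategoryTheory.Limits AlgebraicGeometry TopologicalSpace Opposite

noncomputable section

namespace Groth.Agent.H23.ProjEquiv

open Groth.Agent.HyperplaneLib

attribute [local instance] FlatG.Pol.secR

variable {k : Type u} [Field k] {N : ℕ}

local notation "O1" => Twist.twistProjSpace N k 1
local notation "str" => CohB1.ProjSpace.toSpec N k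

variable {X Y Z : Scheme.{u}}

/-- The twist of a module by coefficients. -/
def mix (q : X ⟶ Spec (CommRingCat.of k)) {L : X.Modules} (c : Fin (N + 1) → Fin (N + 1) → k)
    (σ : Fin (N + 1) → Γ(L, ⊤)) (i : Fin (N + 1)) : Γ(L, ⊤) :=
  ∑ j, ProjUP.toGlobal q (c i j) • σ j

theorem mix_mix (q : X ⟶ Spec (CommRingCat.of k)) {L : X.Modules} (a b : Matrix (Fin (N + 1)) (Fin (N + 1)) k)
    (hab : a * b = 1) (σ : Fin (N + 1) → Γ(L, ⊤)) : mix q a (mix q b σ) = σ := by
  funext i
  simp only [mix, Finset.smul_sum, smul_smul, ← map_mul]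
  rw [Finset.sum_comm]
  simp only [← Finset.sum_smul, ← map_sum, ← Matrix.mul_apply, hab]
  rw [Finset.sum_eq_single i (fun l _ hl => by rw [Matrix.one_apply_ne' hl, map_zero, zero_smul]) (by simp),
    Matrix.one_apply_eq, map_one, one_smul]

theorem app_mix (q : X ⟶ Spec (CommRingCat.of k)) {L M : X.Modules} (φ : L ⟶ M)
    (c : Fin (N + 1) → Fin (N + 1) → k) (σ : Fin (N + 1) → Γ(L, ⊤)) (i : Fin (N + 1)) :
    φ.app ⊤ (mix q c σ i) = mix q c (fun j => φ.app ⊤ (σ j)) i := by
  simp only [mix, map_sum, Scheme.Modules.Hom.app_smul]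

/-- Morphisms with the same sections are equal. -/
theorem hom_eq_of_sections {r r' : X ⟶ CohB1.ProjSpace N k} (h : r ≫ str = r' ≫ str) {L : X.Modules}
    (τ : (Scheme.Modules.pullback r).obj O1 ≅ L) (τ' : (Scheme.Modules.pullback r').obj O1 ≅ L)
    (e : ∀ i, τ.hom.app ⊤ (ProjUP.pullSec r O1 (ProjUP.coord N k i)) =
      τ'.hom.app ⊤ (ProjUP.pullSec r' O1 (ProjUP.coord N k i))) : r = r' := by
  refine S3573.result N r r' h (τ ≪≫ τ'.symm) fun i => ?_
  show τ'.inv.app ⊤ (τ.hom.app ⊤ _) = _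
  rw [e]
  exact ConcreteCategory.congr_hom ((Scheme.Modules.Hom.comp_app τ'.hom τ'.inv).symm.trans
    (congrArg (fun t => Scheme.Modules.Hom.app t ⊤) τ'.hom_inv_id)) _

/-- The trivialisation of a composite. -/
def compIso (h : Z ⟶ X) (r : X ⟶ Y) (G : Y.Modules) {L : X.Modules}
    (τ : (Scheme.Modules.pullback r).obj G ≅ L) :
    (Scheme.Modules.pullback (h ≫ r)).obj G ≅ (Scheme.Modules.pullback h).obj L :=
  ((Scheme.Modules.pullbackComp h r).app G).symm ≪≫ (Scheme.Modules.pullback h).mapIso τ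

theorem compIso_app (h : Z ⟶ X) (r : X ⟶ Y) (G : Y.Modules) {L : X.Modules}
    (τ : (Scheme.Modules.pullback r).obj G ≅ L) (x : Γ(G, ⊤)) :
    (compIso h r G τ).hom.app ⊤ (ProjUP.pullSec (h ≫ r) G x) =
      ProjUP.pullSec h L (τ.hom.app ⊤ (ProjUP.pullSec r G x)) := by
  show ((Scheme.Modules.pullback h).map τ.hom).app ⊤
    (((Scheme.Modules.pullbackComp h r).inv.app G).app ⊤ (ProjUP.pullSec (h ≫ r) G x)) = _
  rw [comp_inv_app_pullSec, map_app_pullSec]

variable (k N)

theorem generatedBy_coord : ProjUP.GeneratedBy O1 (ProjUP.coord N k) :=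
  ProjUPX.generatedBy_of_frames _ fun x => by
    obtain ⟨i, hi⟩ := ProjUPX.cov_X (R := k) (n := N) x
    exact ⟨i, Proj.basicOpen (CohB1.polyGrading N k) (MvPolynomial.X i), hi,
      ProjUPX.isFrame_sec (CohB1.polyGrading N k) (ProjPt.X_mem i)⟩

theorem isInvertible_O1 : PicF.IsInvertible O1 :=
  PnCoh.Finite.isInvertible_twist (𝒜 := CohB1.polyGrading N k)
    (fun i : Fin (N + 1) => (MvPolynomial.X i : MvPolynomial (Fin (N + 1)) k)) (fun i => ProjPt.X_mem i)
    (top_le_iff.1 fun y _ => TopologicalSpace.Opens.mem_iSup.2 (ProjUPX.cov_X y)) 1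

variable {k N}

/-- The coordinates are linearly independent. -/
theorem coord_indep (c : Fin (N + 1) → k)
    (h : ∑ a, ProjUP.toGlobal str (c a) • (ProjUP.coord N k a : Γ(O1, ⊤)) = 0) : c = 0 := by
  classical
  let F : Fin (N + 1) → MvPolynomial.homogeneousSubmodule (Fin (N + 1)) k 1 := fun a =>
    ⟨MvPolynomial.X a, MvPolynomial.isHomogeneous_X k a⟩
  have h0 : (PnCoh.globalOfEquiv (0 : MvPolynomial.homogeneousSubmodule (Fin (N + 1)) k 1) : Γ(O1, ⊤)) = 0 := by
    have h := PnCoh.globalOf_add (ι := Fin (N + 1)) (R := k) (d := 1) 0 0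
    rw [add_zero] at h
    exact left_eq_add.1 h
  have hG : ∀ s : Finset (Fin (N + 1)), (PnCoh.globalOfEquiv (∑ a ∈ s, c a • F a) : Γ(O1, ⊤)) =
      ∑ a ∈ s, (ProjUP.toGlobal str (c a) • (ProjUP.coord N k a : Γ(O1, ⊤)) : Γ(O1, ⊤)) := by
    intro s
    induction s using Finset.induction with
    | empty => rw [Finset.sum_empty, Finset.sum_empty]; exact h0
    | insert a s ha ih =>
      rw [Finset.sum_insert ha, Finset.sum_insert ha, PnCoh.globalOf_add, ← ih]
      refine congrArg₂ (HAdd.hAdd (α := Γ(O1, ⊤)) (β := Γ(O1, ⊤))) ((PnCoh.globalOf_smul (c a) (F a)).trans ?_) rfl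
      exact congrArg (fun r : Γ(CohB1.ProjSpace N k, ⊤) => r • (ProjUP.coord N k a : Γ(O1, ⊤)))
        (ConcreteCategory.congr_hom ((CohB1.ProjSpace N k).presheaf.map_id (op ⊤)) _)
  have hz : ∑ a, c a • F a = 0 := PnCoh.globalOfEquiv.injective (((hG Finset.univ).trans h).trans h0.symm)
  funext b
  have := congrArg (fun p : MvPolynomial.homogeneousSubmodule (Fin (N + 1)) k 1 =>
    (p.1).coeff (Finsupp.single b 1)) hz
  simpa [F, MvPolynomial.coeff_sum, MvPolynomial.coeff_X', Finsupp.single_left_inj] using this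

/-- The linear automorphism attached to a matrix. -/
theorem exists_linear (c : Matrix (Fin (N + 1)) (Fin (N + 1)) k) (hc : IsUnit c) :
    ∃ (σ : CohB1.ProjSpace N k ⟶ CohB1.ProjSpace N k) (_ : σ ≫ str = str)
      (τ : (Scheme.Modules.pullback σ).obj O1 ≅ O1),
      ∀ i, τ.hom.app ⊤ (ProjUP.pullSec σ O1 (ProjUP.coord N k i)) =
        mix str c (fun j => ProjUP.coord N k j) i := by
  obtain ⟨u, rfl⟩ := hc
  refine S3572.result N str O1 (isInvertible_O1 k N) _ (generatedBy_of_mem_span (generatedBy_coord k N) fun i => ?_)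
  rw [show (ProjUP.coord N k i : Γ(O1, ⊤)) = mix str (↑u⁻¹ : Matrix (Fin (N + 1)) (Fin (N + 1)) k)
      (mix str (↑u : Matrix (Fin (N + 1)) (Fin (N + 1)) k) fun j => ProjUP.coord N k j) i from
    (congrFun (mix_mix str _ _ u.inv_mul _) i).symm]
  exact Submodule.sum_mem _ fun j _ => Submodule.smul_mem _ _ (Submodule.subset_span ⟨j, rfl⟩)

theorem linear_comp (σ σ' : CohB1.ProjSpace N k ⟶ CohB1.ProjSpace N k) (hσ : σ ≫ str = str) (hσ' : σ' ≫ str = str)
    (τ : (Scheme.Modules.pullback σ).obj O1 ≅ O1) (τ' : (Scheme.Modules.pullback σ').obj O1 ≅ O1)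
    (c c' : Matrix (Fin (N + 1)) (Fin (N + 1)) k) (hcc : c' * c = 1)
    (h : ∀ i, τ.hom.app ⊤ (ProjUP.pullSec σ O1 (ProjUP.coord N k i)) = mix str c (fun j => ProjUP.coord N k j) i)
    (h' : ∀ i, τ'.hom.app ⊤ (ProjUP.pullSec σ' O1 (ProjUP.coord N k i)) = mix str c' (fun j => ProjUP.coord N k j) i) :
    σ ≫ σ' = 𝟙 _ := by
  refine hom_eq_of_sections (by rw [Category.assoc, hσ', hσ, Category.id_comp]) (compIso σ σ' O1 τ' ≪≫ τ)
    ((Scheme.Modules.pullbackId _).app O1) fun i => ?_
  refine Eq.trans ?_ (id_app_pullSec O1 _).symm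
  show τ.hom.app ⊤ ((compIso σ σ' O1 τ').hom.app ⊤ _) = _
  rw [compIso_app, h']
  unfold mix
  rw [pullSec_lin σ O1 hσ]
  refine (app_mix str τ.hom c' (fun j => ProjUP.pullSec σ O1 (ProjUP.coord N k j)) i).trans ?_
  rw [funext h]
  exact congrFun (mix_mix str c' c hcc (fun j => ProjUP.coord N k j)) i

variable [X.Over (Spec (CommRingCat.of k))]

theorem toGlobal_smul {M : X.Modules} (a : k) (x : Γ(M, ⊤)) :
    a • x = ProjUP.toGlobal (X ↘ Spec (CommRingCat.of k)) a • x :=
  congrArg (fun r : Γ(X, ⊤) => r • x) (ConcreteCategory.congr_hom (X.presheaf.map_id (op ⊤)) _)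

/-- The pulled back coordinates of a non-degenerate morphism are linearly independent. -/
theorem linearIndependent_sections {r : X ⟶ CohB1.ProjSpace N k} (hr : r ≫ str = X ↘ Spec (CommRingCat.of k))
    {L : X.Modules} (τ : (Scheme.Modules.pullback r).obj O1 ≅ L)
    (hnd : Function.Injective (((Scheme.Modules.pullbackPushforwardAdjunction r).unit.app O1).app ⊤)) :
    LinearIndependent k (fun i => (τ.hom.app ⊤ (ProjUP.pullSec r O1 (ProjUP.coord N k i)) : Γ(L, ⊤))) := by
  rw [Fintype.linearIndependent_iff]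
  intro c hc i
  simp only [toGlobal_smul, ← Scheme.Modules.Hom.app_smul, ← map_sum] at hc
  rw [← pullSec_lin r O1 hr c (fun i => (ProjUP.coord N k i : Γ(O1, ⊤)))] at hc
  have hb : Function.Injective (τ.hom.app ⊤) := (ConcreteCategory.isIso_iff_bijective _).1
    ((Scheme.Modules.Hom.isIso_iff_isIso_app.1 (inferInstance : IsIso τ.hom)) ⊤) |>.1
  have hc' : ProjUP.pullSec r O1 (∑ i, ProjUP.toGlobal str (c i) • (ProjUP.coord N k i : Γ(O1, ⊤))) = 0 :=
    hb (hc.trans (map_zero _).symm)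
  exact congrFun (coord_indep c (hnd (hc'.trans (map_zero _).symm))) i

variable [IsAlgClosed k]

theorem finrank_sections [IsIntegral X] [IsProper (X ↘ Spec (CommRingCat.of k))]
    [Smooth (X ↘ Spec (CommRingCat.of k))] (hdim : topologicalKrullDim X = 1) :
    Module.finrank k Γ(Omega.sheaf (X ↘ Spec (CommRingCat.of k)), ⊤) = Curv2.genus k X := by
  rw [← (CurveFF.canonical_invariants k X hdim).1]
  exact (FlatG.h0Equiv k (Omega.sheaf (X ↘ Spec (CommRingCat.of k)))).finrank_eq.symm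

/-- The automorphism of projective space carrying one canonical embedding to the other. -/
theorem exists_linear_equiv [IsIntegral X] [IsProper (X ↘ Spec (CommRingCat.of k))]
    [Smooth (X ↘ Spec (CommRingCat.of k))] (hdim : topologicalKrullDim X = 1) (hgen : Curv2.genus k X = N + 1)
    (r r' : X ⟶ CohB1.ProjSpace N k) (hr : r ≫ str = X ↘ Spec (CommRingCat.of k))
    (hr' : r' ≫ str = X ↘ Spec (CommRingCat.of k))
    (τ : (Scheme.Modules.pullback r).obj O1 ≅ Omega.sheaf (X ↘ Spec (CommRingCat.of k)))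
    (τ' : (Scheme.Modules.pullback r').obj O1 ≅ Omega.sheaf (X ↘ Spec (CommRingCat.of k)))
    (hnd : Function.Injective (((Scheme.Modules.pullbackPushforwardAdjunction r).unit.app O1).app ⊤))
    (hnd' : Function.Injective (((Scheme.Modules.pullbackPushforwardAdjunction r').unit.app O1).app ⊤)) :
    ∃ σ : CohB1.ProjSpace N k ≅ CohB1.ProjSpace N k, σ.hom ≫ str = str ∧ r ≫ σ.hom = r' := by
  have hcard : Fintype.card (Fin (N + 1)) =
      Module.finrank k Γ(Omega.sheaf (X ↘ Spec (CommRingCat.of k)), ⊤) := by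
    rw [Fintype.card_fin, finrank_sections hdim, hgen]
  let b := basisOfLinearIndependentOfCardEqFinrank (linearIndependent_sections hr τ hnd) hcard
  let b' := basisOfLinearIndependentOfCardEqFinrank (linearIndependent_sections hr' τ' hnd') hcard
  let c : Matrix (Fin (N + 1)) (Fin (N + 1)) k := (b.toMatrix b').transpose
  have hcd : (b.toMatrix b').transpose * (b'.toMatrix b).transpose = 1 := by
    rw [← Matrix.transpose_mul, Module.Basis.toMatrix_mul_toMatrix_flip, Matrix.transpose_one]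
  have hdc : (b'.toMatrix b).transpose * c = 1 := by
    rw [← Matrix.transpose_mul, Module.Basis.toMatrix_mul_toMatrix_flip, Matrix.transpose_one]
  obtain ⟨σ, hσ, ν, hν⟩ := exists_linear c ⟨⟨c, _, hcd, hdc⟩, rfl⟩
  obtain ⟨σ', hσ', ν', hν'⟩ := exists_linear _ ⟨⟨(b'.toMatrix b).transpose, c, hdc, hcd⟩, rfl⟩
  refine ⟨⟨σ, σ', linear_comp σ σ' hσ hσ' ν ν' c _ hdc hν hν', linear_comp σ' σ hσ' hσ ν' ν _ c hcd hν' hν⟩,
    hσ, ?_⟩
  refine hom_eq_of_sections (by rw [Category.assoc, hσ, hr, hr']) (compIso r σ O1 ν ≪≫ τ) τ' fun i => ?_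
  show τ.hom.app ⊤ ((compIso r σ O1 ν).hom.app ⊤ _) = _
  rw [compIso_app, hν]
  unfold mix
  rw [pullSec_lin r O1 hr]
  refine (app_mix _ τ.hom c (fun j => ProjUP.pullSec r O1 (ProjUP.coord N k j)) i).trans ?_
  have hsum := b.sum_toMatrix_smul_self b' i
  rw [coe_basisOfLinearIndependentOfCardEqFinrank, coe_basisOfLinearIndependentOfCardEqFinrank] at hsum
  refine Eq.trans ?_ hsum
  simp only [mix, toGlobal_smul, c, Matrix.transpose_apply, b', coe_basisOfLinearIndependentOfCardEqFinrank]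

/-- Differentials pull back along isomorphisms. -/
theorem omega_iso [Y.Over (Spec (CommRingCat.of k))] [QuasiSeparated (Y ↘ Spec (CommRingCat.of k))] (φ : X ≅ Y)
    (hφ : φ.hom ≫ (Y ↘ Spec (CommRingCat.of k)) = X ↘ Spec (CommRingCat.of k)) :
    Nonempty ((Scheme.Modules.pullback φ.hom).obj (Omega.sheaf (Y ↘ Spec (CommRingCat.of k))) ≅
      Omega.sheaf (X ↘ Spec (CommRingCat.of k))) :=
  GrpOmega.nonempty_omega_baseChange (IsPullback.of_horiz_isIso ⟨by rw [hφ, Category.comp_id]⟩)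

/-- Non-degeneracy is preserved by an isomorphism of the source. -/
theorem injective_comp [Y.Over (Spec (CommRingCat.of k))] (φ : X ≅ Y) (r : Y ⟶ CohB1.ProjSpace N k)
    (hnd : Function.Injective (((Scheme.Modules.pullbackPushforwardAdjunction r).unit.app O1).app ⊤)) :
    Function.Injective (((Scheme.Modules.pullbackPushforwardAdjunction (φ.hom ≫ r)).unit.app O1).app ⊤) := by
  intro x y h
  refine hnd ?_
  have hfac : φ.inv ≫ φ.hom ≫ r = r := by rw [Iso.inv_hom_id_assoc]
  show ProjUP.pullSec r O1 x = ProjUP.pullSec r O1 y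
  rw [← congr_app_pullSec hfac O1 x, ← congr_app_pullSec hfac O1 y, ← comp_app_pullSec φ.inv (φ.hom ≫ r) O1 x,
    ← comp_app_pullSec φ.inv (φ.hom ≫ r) O1 y]
  exact congrArg (fun z => ((Scheme.Modules.pullbackCongr hfac).hom.app O1).app ⊤
    (((Scheme.Modules.pullbackComp φ.inv (φ.hom ≫ r)).hom.app O1).app ⊤ (ProjUP.pullSec φ.inv _ z))) h

end Groth.Agent.H23.ProjEquiv
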