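import Groth.Agent.SGA1Q.Affine
import Groth.Agent.SGA1Q.Orbits
import Mathlib.AlgebraicGeometry.ProjectiveSpectrum.Basic
import Mathlib.RingTheory.Invariant.Basic
import Mathlib.RingTheory.Polynomial.Vieta

/-!
# `Proj` of the invariants of a finite group acting on a graded algebra
-/

set_option autoImplicit false
set_option linter.style.haveILetI false
set_option backward.isDefEq.respectTransparency.types false

universe u

open AlgebraicGeometry CategoryTheory TopologicalSpace HomogeneousLocalization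

noncomputable section

namespace Groth.Agent.H23.ProjInv

/-- Sections on the image of an affine open immersion. -/
def Φ {X : Scheme.{u}} {R : CommRingCat.{u}} (a : Spec R ⟶ X) (U : X.Opens) (h : ⊤ ≤ a ⁻¹ᵁ U) : Γ(X, U) ⟶ R :=
  a.appLE U ⊤ h ≫ (Scheme.ΓSpecIso R).hom

theorem Φ_bijective {X : Scheme.{u}} {R : CommRingCat.{u}} (a : Spec R ⟶ X) [IsOpenImmersion a] (U : X.Opens)
    (h : ⊤ ≤ a ⁻¹ᵁ U) (hU : U ≤ a.opensRange) : Function.Bijective (Φ a U h).hom := by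
  haveI := a.isIso_app U hU
  have : IsIso (a.appLE U ⊤ h) := by
    rw [Scheme.Hom.appLE]
    haveI : IsIso ((Spec R).presheaf.map (homOfLE h).op) := by
      have e : (homOfLE h) = eqToHom (top_le_iff.1 h).symm := Subsingleton.elim _ _
      rw [e]
      infer_instance
    infer_instance
  exact ConcreteCategory.bijective_of_isIso (a.appLE U ⊤ h ≫ (Scheme.ΓSpecIso R).hom)

theorem Φ_nat {X Y : Scheme.{u}} {R S : CommRingCat.{u}} (a : Spec S ⟶ X) (b : Spec R ⟶ Y) (p : X ⟶ Y)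
    (θ : R ⟶ S) (e : a ≫ p = Spec.map θ ≫ b) {U : Y.Opens} {V : X.Opens} (hV : V ≤ p ⁻¹ᵁ U)
    (ha : ⊤ ≤ a ⁻¹ᵁ V) (hb : ⊤ ≤ b ⁻¹ᵁ U) :
    p.appLE U V hV ≫ Φ a V ha = Φ b U hb ≫ θ := by
  have key : ∀ {f g : Spec S ⟶ Y} (_ : f = g) (hf : ⊤ ≤ f ⁻¹ᵁ U) (hg : ⊤ ≤ g ⁻¹ᵁ U),
      f.appLE U ⊤ hf = g.appLE U ⊤ hg := by rintro f g rfl hf hg; rfl
  have h1 : p.appLE U V hV ≫ a.appLE V ⊤ ha = b.appLE U ⊤ hb ≫ (Spec.map θ).appTop := by
    rw [show (Spec.map θ).appTop = (Spec.map θ).appLE ⊤ ⊤ le_rfl from (Scheme.Hom.appLE_eq_app _).symm,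
      Scheme.Hom.appLE_comp_appLE, Scheme.Hom.appLE_comp_appLE]
    exact key e _ _
  rw [Φ, Φ, reassoc_of% h1, Scheme.ΓSpecIso_naturality, Category.assoc]

variable {R A : Type u} [CommRing R] [CommRing A] [Algebra R A] {𝒜 : ℕ → Submodule R A} [GradedAlgebra 𝒜]
  {G : Type u} [Group G] [Finite G] [MulSemiringAction G A]
  (hGdeg : ∀ (σ : G) (i : ℕ) (a : A), a ∈ 𝒜 i → σ • a ∈ 𝒜 i)

/-- The action by graded ring homomorphisms. -/
def act (σ : G) : 𝒜 →+*ᵍ 𝒜 where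
  toRingHom := MulSemiringAction.toRingHom G A σ
  map_mem := fun h => hGdeg σ _ _ h

/-- The action on a homogeneous localisation at an invariant element. -/
def actAway (σ : G) {f : A} (hf : σ • f = f) : Away 𝒜 f →+* Away 𝒜 f :=
  HomogeneousLocalization.map (act hGdeg σ) (by
    rintro _ ⟨n, rfl⟩
    refine ⟨n, ?_⟩
    show f ^ n = σ • f ^ n
    rw [smul_pow', hf])

theorem awayMap_mk {B : Type u} [CommRing B] (g : A →+* B) (f x : A) (n : ℕ) :
    Localization.awayMap g f (Localization.mk x (⟨f ^ n, n, rfl⟩ : Submonoid.powers f)) =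
      Localization.mk (g x) (⟨g f ^ n, n, rfl⟩ : Submonoid.powers (g f)) := by
  simp only [Localization.awayMap, IsLocalization.Away.map, Localization.mk_eq_mk', IsLocalization.map_mk',
    map_pow]

theorem compat {B : Type u} [CommRing B] [Algebra R B] {ℬ : ℕ → Submodule R B} [GradedAlgebra ℬ]
    {f : B} {n : ℕ} (hf : f ∈ ℬ n) (g : B →+* A) (θ : Away ℬ f →+* Away 𝒜 (g f))
    (hθ : ∀ (m : ℕ) (x : B) (hx : x ∈ ℬ (m • n)), (θ (Away.mk ℬ hf m x hx)).val =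
      Localization.mk (g x) (⟨g f ^ m, m, rfl⟩ : Submonoid.powers (g f))) :
    (algebraMap (Away 𝒜 (g f)) (Localization.Away (g f))).comp θ =
      (Localization.awayMap g f).comp (algebraMap (Away ℬ f) (Localization.Away f)) := by
  refine RingHom.ext fun a => ?_
  obtain ⟨m, x, hx, rfl⟩ := Away.mk_surjective ℬ hf a
  simp only [RingHom.coe_comp, Function.comp_apply, HomogeneousLocalization.algebraMap_apply]
  rw [hθ, Away.val_mk, awayMap_mk]

theorem awayι_inv (ρ : G →* Aut (Proj 𝒜))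
    (hρ : ∀ (σ : G) (n : ℕ) (f : A) (hn : 0 < n) (hf : f ∈ 𝒜 n)
      (θ : CommRingCat.of (Away 𝒜 f) ⟶ CommRingCat.of (Away 𝒜 (σ • f))),
      (algebraMap (Away 𝒜 (σ • f)) (Localization.Away (σ • f))).comp θ.hom =
        (Localization.awayMap (MulSemiringAction.toRingHom G A σ) f).comp
          (algebraMap (Away 𝒜 f) (Localization.Away f)) →
      Proj.awayι 𝒜 (σ • f) (hGdeg σ n f hf) hn ≫ (ρ σ).inv = Spec.map θ ≫ Proj.awayι 𝒜 f hf hn)
    (σ : G) {n : ℕ} {f : A} (hn : 0 < n) (hf : f ∈ 𝒜 n) (hfix : σ • f = f) :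
    Proj.awayι 𝒜 f hf hn ≫ (ρ σ).inv =
      Spec.map (CommRingCat.ofHom (actAway hGdeg σ hfix)) ≫ Proj.awayι 𝒜 f hf hn := by
  have H : ∀ θ : Away 𝒜 f →+* Away 𝒜 (σ • f),
      (∀ (m : ℕ) (x : A) (hx : x ∈ 𝒜 (m • n)), (θ (Away.mk 𝒜 hf m x hx)).val =
        Localization.mk (σ • x) (⟨(σ • f) ^ m, m, rfl⟩ : Submonoid.powers (σ • f))) →
      Proj.awayι 𝒜 (σ • f) (hGdeg σ n f hf) hn ≫ (ρ σ).inv =
        Spec.map (CommRingCat.ofHom θ) ≫ Proj.awayι 𝒜 f hf hn := fun θ hθ => by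
    exact hρ σ n f hn hf (CommRingCat.ofHom θ) (compat hf (MulSemiringAction.toRingHom G A σ) θ hθ)
  suffices ∀ (f' : A) (hf' : f' ∈ 𝒜 n) (_ : f' = f),
      (∀ θ : Away 𝒜 f →+* Away 𝒜 f',
        (∀ (m : ℕ) (x : A) (hx : x ∈ 𝒜 (m • n)), (θ (Away.mk 𝒜 hf m x hx)).val =
          Localization.mk (σ • x) (⟨f' ^ m, m, rfl⟩ : Submonoid.powers f')) →
        Proj.awayι 𝒜 f' hf' hn ≫ (ρ σ).inv = Spec.map (CommRingCat.ofHom θ) ≫ Proj.awayι 𝒜 f hf hn) →
      Proj.awayι 𝒜 f hf hn ≫ (ρ σ).inv =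
        Spec.map (CommRingCat.ofHom (actAway hGdeg σ hfix)) ≫ Proj.awayι 𝒜 f hf hn from
    this _ _ hfix H
  rintro f' hf' rfl H
  refine H _ fun m x hx => ?_
  simp only [actAway, Away.mk, HomogeneousLocalization.map_mk, HomogeneousLocalization.val_mk]
  congr 1
  exact Subtype.ext (show σ • f' ^ m = f' ^ m by rw [smul_pow', hfix])

variable {C : Type u} [CommRing C] [Algebra R C] {𝒞 : ℕ → Submodule R C} [GradedAlgebra 𝒞]
  {ι : C →ₐ[R] A} (hι : Function.Injective ι)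
  (hιdeg : ∀ (i : ℕ) (a : A), a ∈ (𝒞 i).map ι.toLinearMap ↔ (a ∈ 𝒜 i ∧ ∀ σ : G, σ • a = a))

include hιdeg in
theorem ι_mem {n : ℕ} {c : C} (hc : c ∈ 𝒞 n) : ι c ∈ 𝒜 n :=
  ((hιdeg n (ι c)).mp (Submodule.mem_map_of_mem hc)).1

include hιdeg in
theorem ι_fix {n : ℕ} {c : C} (hc : c ∈ 𝒞 n) (σ : G) : σ • ι c = ι c :=
  ((hιdeg n (ι c)).mp (Submodule.mem_map_of_mem hc)).2 σ

/-- The inclusion of the invariants. -/
def incl : 𝒞 →+*ᵍ 𝒜 where
  toRingHom := ι.toRingHom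
  map_mem := fun h => ι_mem hιdeg h

theorem incl_val (c : C) {n : ℕ} (hc : c ∈ 𝒞 n) (m : ℕ) (x : C) (hx : x ∈ 𝒞 (m • n)) :
    (Away.map (incl hιdeg) c (Away.mk 𝒞 hc m x hx)).val =
      Localization.mk (ι x) (⟨ι c ^ m, m, rfl⟩ : Submonoid.powers (ι c)) := by
  simp only [Away.map, Away.mk, HomogeneousLocalization.map_mk, HomogeneousLocalization.val_mk]
  congr 1
  exact Subtype.ext (map_pow ι c m)

include hGdeg hιdeg in
/-- Some invariant is nonzero at a given point. -/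
theorem exists_invariant (x : ↥(Proj 𝒜)) :
    ∃ (n : ℕ) (c : C), 0 < n ∧ c ∈ 𝒞 n ∧ x ∈ Proj.basicOpen 𝒜 (ι c) := by
  classical
  cases nonempty_fintype G
  haveI : x.asHomogeneousIdeal.toIdeal.IsPrime := x.isPrime
  obtain ⟨d, hd, f, hf, hfx⟩ : ∃ d : ℕ, 0 < d ∧ ∃ f ∈ 𝒜 d, f ∉ x.asHomogeneousIdeal.toIdeal := by
    by_contra hc
    push Not at hc
    refine x.not_irrelevant_le fun a ha => ?_
    show a ∈ x.asHomogeneousIdeal.toIdeal
    rw [← DirectSum.sum_support_decompose 𝒜 a]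
    refine Ideal.sum_mem _ fun i _ => ?_
    rcases Nat.eq_zero_or_pos i with rfl | hi
    · rw [(HomogeneousIdeal.mem_irrelevant_iff 𝒜 a).1 ha |> fun h => (GradedRing.proj_apply 𝒜 0 a).symm.trans h]
      exact zero_mem _
    · exact hc i hi _ (SetLike.coe_mem _)
  let p := MulSemiringAction.charpoly G f
  let N := Fintype.card G
  let m : Multiset A := Finset.univ.1.map fun g : G => g • f
  have hp : p = (m.map fun t => Polynomial.X - Polynomial.C t).prod := by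
    simp only [p, m, MulSemiringAction.charpoly_eq, Multiset.map_map, Finset.prod_eq_multiset_prod]
    rfl
  have hm : Multiset.card m = N := by simp [m, N]
  have hdeg : ∀ k ≤ N, p.coeff k ∈ 𝒜 ((N - k) * d) := fun k hk => by
    rw [hp, Multiset.prod_X_sub_C_coeff m (hm.symm ▸ hk), hm]
    have hes : m.esymm (N - k) ∈ 𝒜 ((N - k) * d) := by
      rw [Multiset.esymm]
      refine multiset_sum_mem _ fun y hy => ?_
      obtain ⟨s, hs, rfl⟩ := Multiset.mem_map.1 hy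
      obtain ⟨hsm, hsc⟩ := Multiset.mem_powersetCard.1 hs
      rw [← hsc]
      have hall : ∀ z ∈ s, z ∈ 𝒜 d := fun z hz => by
        obtain ⟨g, -, rfl⟩ := Multiset.mem_map.1 (Multiset.mem_of_le hsm hz)
        exact hGdeg g d f hf
      clear hs hsm hsc hy
      induction s using Multiset.induction_on with
      | empty => simpa using SetLike.one_mem_graded 𝒜
      | cons a s ih =>
        rw [Multiset.prod_cons, Multiset.card_cons, add_mul, one_mul, add_comm]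
        exact SetLike.mul_mem_graded (hall a (Multiset.mem_cons_self a s))
          (ih fun z hz => hall z (Multiset.mem_cons_of_mem hz))
    rcases neg_one_pow_eq_or A (N - k) with h | h <;> rw [h]
    · rwa [one_mul]
    · rw [neg_one_mul]
      exact neg_mem hes
  obtain ⟨k, hk, hkx⟩ : ∃ k < N, p.coeff k ∉ x.asHomogeneousIdeal.toIdeal := by
    by_contra hc
    push Not at hc
    refine hfx ((Ideal.IsPrime.mem_of_pow_mem inferInstance N) ?_)
    have h0 : p.eval f = 0 := MulSemiringAction.eval_charpoly G f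
    have hdegp : p.natDegree < N + 1 := by
      rw [hp]
      refine Nat.lt_succ_of_le ((Polynomial.natDegree_multiset_prod_le _).trans ?_)
      rw [← hm, Multiset.map_map]
      refine le_trans (Multiset.sum_le_card_nsmul _ 1 fun y hy => ?_) (by simp)
      obtain ⟨t, -, rfl⟩ := Multiset.mem_map.1 hy
      exact Polynomial.natDegree_X_sub_C_le t
    rw [Polynomial.eval_eq_sum_range' hdegp, Finset.sum_range_succ] at h0
    have hN1 : p.coeff N = 1 := by
      rw [hp, Multiset.prod_X_sub_C_coeff m hm.ge, hm, Nat.sub_self, pow_zero, Multiset.esymm]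
      simp
    rw [hN1, one_mul] at h0
    have hN : f ^ N = -∑ k ∈ Finset.range N, p.coeff k * f ^ k := eq_neg_of_add_eq_zero_right h0
    rw [hN]
    exact neg_mem (Ideal.sum_mem _ fun k hk => Ideal.mul_mem_right _ _ (hc k (Finset.mem_range.1 hk)))
  obtain ⟨c, hc, hce⟩ := (hιdeg ((N - k) * d) (p.coeff k)).2
    ⟨hdeg k hk.le, fun σ => MulSemiringAction.smul_coeff_charpoly f k σ⟩
  refine ⟨(N - k) * d, c, Nat.mul_pos (by omega) hd, hc, ?_⟩
  show ι c ∉ x.asHomogeneousIdeal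
  rw [show ι c = p.coeff k from hce]
  exact hkx

include hι hGdeg in
theorem isQuot (ρ : G →* Aut (Proj 𝒜))
    (hρ : ∀ (σ : G) (n : ℕ) (f : A) (hn : 0 < n) (hf : f ∈ 𝒜 n)
      (θ : CommRingCat.of (Away 𝒜 f) ⟶ CommRingCat.of (Away 𝒜 (σ • f))),
      (algebraMap (Away 𝒜 (σ • f)) (Localization.Away (σ • f))).comp θ.hom =
        (Localization.awayMap (MulSemiringAction.toRingHom G A σ) f).comp
          (algebraMap (Away 𝒜 f) (Localization.Away f)) →
      Proj.awayι 𝒜 (σ • f) (hGdeg σ n f hf) hn ≫ (ρ σ).inv = Spec.map θ ≫ Proj.awayι 𝒜 f hf hn)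
    (π : Proj 𝒜 ⟶ Proj 𝒞)
    (hπ : ∀ (n : ℕ) (c : C) (hn : 0 < n) (hc : c ∈ 𝒞 n)
      (θ : CommRingCat.of (Away 𝒞 c) ⟶ CommRingCat.of (Away 𝒜 (ι c))),
      (algebraMap (Away 𝒜 (ι c)) (Localization.Away (ι c))).comp θ.hom =
        (Localization.awayMap ι.toRingHom c).comp (algebraMap (Away 𝒞 c) (Localization.Away c)) →
      Proj.awayι 𝒜 (ι c) ((hιdeg n (ι c)).mp (Submodule.mem_map_of_mem hc)).1 hn ≫ π =
        Spec.map θ ≫ Proj.awayι 𝒞 c hc hn) :
    SGA1.IsQuot ρ π := by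
  classical
  cases nonempty_fintype G
  -- the chart maps
  have hchart : ∀ (n : ℕ) (c : C) (hn : 0 < n) (hc : c ∈ 𝒞 n),
      Proj.awayι 𝒜 (ι c) (ι_mem hιdeg hc) hn ≫ π =
        Spec.map (CommRingCat.ofHom (Away.map (incl hιdeg) c)) ≫ Proj.awayι 𝒞 c hc hn := fun n c hn hc => by
    exact hπ n c hn hc (CommRingCat.ofHom (Away.map (incl hιdeg) c))
      (compat hc ι.toRingHom (Away.map (incl hιdeg) c) (incl_val hιdeg c hc))
  have hpre : ∀ (n : ℕ) (c : C), 0 < n → c ∈ 𝒞 n → π ⁻¹ᵁ Proj.basicOpen 𝒞 c = Proj.basicOpen 𝒜 (ι c) := by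
    intro n c hn hc
    refine Opens.ext (Set.ext fun x => ?_)
    obtain ⟨n', c', hn', hc', hx⟩ := exists_invariant hGdeg hιdeg x
    obtain ⟨q, rfl⟩ : x ∈ Set.range (Proj.awayι 𝒜 (ι c') (ι_mem hιdeg hc') hn') := by
      rw [← Scheme.Hom.coe_opensRange, Proj.opensRange_awayι]
      exact hx
    show π (Proj.awayι 𝒜 (ι c') (ι_mem hιdeg hc') hn' q) ∈ Proj.basicOpen 𝒞 c ↔
      q ∈ Proj.awayι 𝒜 (ι c') (ι_mem hιdeg hc') hn' ⁻¹ᵁ Proj.basicOpen 𝒜 (ι c)
    rw [← Scheme.Hom.comp_apply, hchart n' c' hn' hc']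
    erw [Scheme.Hom.comp_apply]
    rw [
      Proj.awayι_preimage_basicOpen (g_deg := ι_mem hιdeg hc) (hm' := hn)]
    show _ ∈ Proj.awayι 𝒞 c' hc' hn' ⁻¹ᵁ Proj.basicOpen 𝒞 c ↔ _
    rw [Proj.awayι_preimage_basicOpen (g_deg := hc) (hm' := hn)]
    show (Away.map (incl hιdeg) c') (Away.isLocalizationElem hc' hc) ∉ q.asIdeal ↔ _
    have e : (Away.map (incl hιdeg) c') (Away.isLocalizationElem hc' hc) =
        Away.isLocalizationElem (ι_mem hιdeg hc') (ι_mem hιdeg hc) := by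
      refine HomogeneousLocalization.val_injective _ ?_
      rw [Away.isLocalizationElem, incl_val]
      simp only [Away.isLocalizationElem, map_pow]
      exact (Away.val_mk _ _ _ _ _).symm
    rw [e]
    rfl
  have haff : IsAffineHom π := isAffineHom_of_forall_exists_isAffineOpen π fun y => by
    haveI : y.asHomogeneousIdeal.toIdeal.IsPrime := y.isPrime
    obtain ⟨d, hd, c, hc, hcy⟩ : ∃ d : ℕ, 0 < d ∧ ∃ c ∈ 𝒞 d, c ∉ y.asHomogeneousIdeal.toIdeal := by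
      by_contra hc
      push Not at hc
      refine y.not_irrelevant_le fun a ha => ?_
      show a ∈ y.asHomogeneousIdeal.toIdeal
      rw [← DirectSum.sum_support_decompose 𝒞 a]
      refine Ideal.sum_mem _ fun i _ => ?_
      rcases Nat.eq_zero_or_pos i with rfl | hi
      · rw [(HomogeneousIdeal.mem_irrelevant_iff 𝒞 a).1 ha |> fun h => (GradedRing.proj_apply 𝒞 0 a).symm.trans h]
        exact zero_mem _
      · exact hc i hi _ (SetLike.coe_mem _)
    refine ⟨Proj.basicOpen 𝒞 c, hcy, Proj.isAffineOpen_basicOpen 𝒞 c hc hd, ?_⟩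
    rw [hpre d c hd hc]
    exact Proj.isAffineOpen_basicOpen 𝒜 (ι c) (ι_mem hιdeg hc) hd
  have hinv : ∀ σ : G, (ρ σ).hom ≫ π = π := by
    intro σ
    have h' : ∀ τ : G, (ρ τ).inv ≫ π = π := fun τ => by
      have hcov : ⨆ i : {i : ℕ × C // 0 < i.1 ∧ i.2 ∈ 𝒞 i.1}, Proj.basicOpen 𝒜 (ι i.1.2) = ⊤ := by
        refine top_le_iff.1 fun x _ => ?_
        obtain ⟨n, c, hn, hc, hx⟩ := exists_invariant hGdeg hιdeg x
        exact Opens.mem_iSup.2 ⟨⟨(n, c), hn, hc⟩, hx⟩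
      refine (Scheme.openCoverOfIsOpenCover _ _ (IsOpenCover.mk hcov)).hom_ext _ _ fun i => ?_
      show (Proj.basicOpen 𝒜 (ι i.1.2)).ι ≫ _ = (Proj.basicOpen 𝒜 (ι i.1.2)).ι ≫ _
      rw [← cancel_epi (Proj.basicOpenIsoSpec 𝒜 (ι i.1.2) (ι_mem hιdeg i.2.2) i.2.1).inv,
        Proj.basicOpenIsoSpec_inv_ι_assoc, Proj.basicOpenIsoSpec_inv_ι_assoc, reassoc_of% (awayι_inv hGdeg ρ hρ τ i.2.1
          (ι_mem hιdeg i.2.2) (ι_fix hιdeg i.2.2 τ)), hchart _ _ i.2.1 i.2.2]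
      erw [← Spec.map_comp_assoc]
      congr 2
      refine CommRingCat.hom_ext (RingHom.ext fun a => ?_)
      obtain ⟨m, x, hx, rfl⟩ := Away.mk_surjective 𝒞 i.2.2 a
      refine HomogeneousLocalization.val_injective _ ?_
      show (actAway hGdeg τ (ι_fix hιdeg i.2.2 τ) (Away.map (incl hιdeg) i.1.2 (Away.mk 𝒞 i.2.2 m x hx))).val =
        (Away.map (incl hιdeg) i.1.2 (Away.mk 𝒞 i.2.2 m x hx)).val
      simp only [Away.map, actAway, Away.mk, HomogeneousLocalization.map_mk, HomogeneousLocalization.val_mk]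
      erw [HomogeneousLocalization.map_mk, HomogeneousLocalization.val_mk]
      congr 1
      · show τ • ι x = ι x
        exact ι_fix hιdeg hx τ
      · exact Subtype.ext (show τ • ι (i.1.2 ^ m) = ι (i.1.2 ^ m) from
          ι_fix hιdeg (SetLike.pow_mem_graded m i.2.2) τ)
    have hinveq : (ρ σ).hom = (ρ σ⁻¹).inv := by rw [map_inv]; rfl
    rw [hinveq]
    exact h' σ⁻¹
  refine SGA1Q.isQuot_of_affine_cover haff hinv fun y => ?_
  haveI : y.asHomogeneousIdeal.toIdeal.IsPrime := y.isPrime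
  obtain ⟨n, hn, c, hc, hcy⟩ : ∃ d : ℕ, 0 < d ∧ ∃ c ∈ 𝒞 d, c ∉ y.asHomogeneousIdeal.toIdeal := by
    by_contra hc
    push Not at hc
    refine y.not_irrelevant_le fun a ha => ?_
    show a ∈ y.asHomogeneousIdeal.toIdeal
    rw [← DirectSum.sum_support_decompose 𝒞 a]
    refine Ideal.sum_mem _ fun i _ => ?_
    rcases Nat.eq_zero_or_pos i with rfl | hi
    · rw [(HomogeneousIdeal.mem_irrelevant_iff 𝒞 a).1 ha |> fun h => (GradedRing.proj_apply 𝒞 0 a).symm.trans h]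
      exact zero_mem _
    · exact hc i hi _ (SetLike.coe_mem _)
  let U := Proj.basicOpen 𝒞 c
  let b := Proj.awayι 𝒞 c hc hn
  let a := Proj.awayι 𝒜 (ι c) (ι_mem hιdeg hc) hn
  have hb : ⊤ ≤ b ⁻¹ᵁ U := fun p _ => by
    show b p ∈ U
    rw [show U = b.opensRange from (Proj.opensRange_awayι _ _ _ _).symm]
    exact ⟨p, rfl⟩
  have ha : ⊤ ≤ a ⁻¹ᵁ (π ⁻¹ᵁ U) := fun p _ => by
    show a p ∈ π ⁻¹ᵁ U
    rw [hpre n c hn hc, ← Proj.opensRange_awayι 𝒜 (ι c) (ι_mem hιdeg hc) hn]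
    exact ⟨p, rfl⟩
  have hΦb := Φ_bijective b U hb (Proj.opensRange_awayι _ _ _ _).ge
  have hΦa := Φ_bijective a (π ⁻¹ᵁ U) ha (by rw [Proj.opensRange_awayι, hpre n c hn hc])
  have hnatπ : ∀ t, (Φ a (π ⁻¹ᵁ U) ha).hom ((π.app U).hom t) = Away.map (incl hιdeg) c ((Φ b U hb).hom t) := by
    intro t
    have h := Φ_nat a b π (CommRingCat.ofHom (Away.map (incl hιdeg) c)) (hchart n c hn hc)
      (le_refl (π ⁻¹ᵁ U)) ha hb
    rw [← Scheme.Hom.app_eq_appLE] at h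
    exact congrArg (fun ψ => ψ.hom t) h
  refine ⟨U, Proj.isAffineOpen_basicOpen 𝒞 c hc hn, hcy, fun t t' htt => ?_, fun s hs => ?_⟩
  · apply hΦb.1
    have h2 := congrArg (Φ a (π ⁻¹ᵁ U) ha).hom htt
    rw [hnatπ, hnatπ] at h2
    replace h2 : Away.map (incl hιdeg) c ((Φ b U hb).hom (t - t')) = 0 := by rw [map_sub, map_sub, h2, sub_self]
    rw [← sub_eq_zero, ← map_sub]
    obtain ⟨m, x, hx, hxe⟩ := Away.mk_surjective 𝒞 hc ((Φ b U hb).hom (t - t'))
    rw [← hxe] at h2 ⊢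
    have h3 : Localization.mk (ι x) (⟨ι c ^ m, m, rfl⟩ : Submonoid.powers (ι c)) = 0 := by
      refine (incl_val hιdeg c hc m x hx).symm.trans ?_
      rw [h2]; exact HomogeneousLocalization.val_zero
    rw [Localization.mk_eq_mk', IsLocalization.mk'_eq_zero_iff] at h3
    obtain ⟨⟨_, j, rfl⟩, hj⟩ := h3
    refine HomogeneousLocalization.val_injective _ ?_
    rw [HomogeneousLocalization.val_zero, Away.val_mk, Localization.mk_eq_mk', IsLocalization.mk'_eq_zero_iff]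
    exact ⟨⟨c ^ j, j, rfl⟩, hι (by rw [map_mul, map_pow, map_zero]; exact hj)⟩
  · obtain ⟨k, x, hx, hxe⟩ := Away.mk_surjective 𝒜 (ι_mem hιdeg hc) ((Φ a (π ⁻¹ᵁ U) ha).hom s)
    have hfix : ∀ σ : G, ∃ j : ℕ, ι c ^ j * (σ • x - x) = 0 := fun σ => by
      have hle : π ⁻¹ᵁ U ≤ (ρ σ).inv ⁻¹ᵁ (π ⁻¹ᵁ U) := by
        have : (ρ σ).inv = (ρ σ⁻¹).hom := by rw [map_inv]; rfl
        rw [this]
        exact SGA1.preimage_le_of_inv ρ π hinv σ⁻¹ U
      have h := Φ_nat a a (ρ σ).inv (CommRingCat.ofHom (actAway hGdeg σ (ι_fix hιdeg hc σ)))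
        (awayι_inv hGdeg ρ hρ σ hn (ι_mem hιdeg hc) (ι_fix hιdeg hc σ)) hle ha ha
      have hs' : ((ρ σ).inv.appLE (π ⁻¹ᵁ U) (π ⁻¹ᵁ U) hle).hom s = s := by
        have key : ∀ (f : Proj 𝒜 ⟶ Proj 𝒜) (_ : f = (ρ σ⁻¹).hom) (hle : π ⁻¹ᵁ U ≤ f ⁻¹ᵁ (π ⁻¹ᵁ U)),
            (f.appLE (π ⁻¹ᵁ U) (π ⁻¹ᵁ U) hle).hom s = s := by
          rintro f rfl hle
          exact hs σ⁻¹
        exact key _ (by rw [map_inv]; rfl) hle
      have h2 := congrArg (fun ψ => ψ.hom s) h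
      simp only [CommRingCat.hom_comp, RingHom.coe_comp, Function.comp_apply, hs', CommRingCat.hom_ofHom] at h2
      rw [← hxe] at h2
      have h3 := congrArg HomogeneousLocalization.val h2
      simp only [actAway, Away.mk, HomogeneousLocalization.map_mk, HomogeneousLocalization.val_mk] at h3
      simp only [Localization.mk_eq_mk'] at h3
      rw [IsLocalization.mk'_eq_iff_eq,
        IsLocalization.eq_iff_exists (Submonoid.powers (ι c))] at h3
      obtain ⟨⟨_, j, rfl⟩, hj⟩ := h3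
      have hσc : σ • ι c ^ k = ι c ^ k := by rw [smul_pow', ι_fix hιdeg hc σ]
      refine ⟨j + k, ?_⟩
      change ι c ^ j * ((σ • ι c ^ k) * x) = ι c ^ j * (ι c ^ k * (σ • x)) at hj
      rw [hσc] at hj
      linear_combination -hj
    choose j hj using hfix
    let J := Finset.univ.sup j
    have hy : ∀ σ : G, σ • (ι c ^ J * x) = ι c ^ J * x := fun σ => by
      rw [smul_mul', smul_pow', ι_fix hιdeg hc σ]
      obtain ⟨e, he⟩ := Nat.le.dest (Finset.le_sup (f := j) (Finset.mem_univ σ))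
      have hJ : J = j σ + e := he.symm
      have h4 := hj σ
      rw [hJ, pow_add]
      linear_combination (ι c ^ e) * h4
    obtain ⟨y, hy', hye⟩ := (hιdeg ((J + k) • n) (ι c ^ J * x)).2
      ⟨by rw [add_smul]; exact SetLike.mul_mem_graded (SetLike.pow_mem_graded J (ι_mem hιdeg hc)) hx, hy⟩
    obtain ⟨t, ht⟩ := hΦb.2 (Away.mk 𝒞 hc (J + k) y hy')
    refine ⟨t, hΦa.1 ?_⟩
    rw [hnatπ, ht, ← hxe]
    refine HomogeneousLocalization.val_injective _ ?_
    refine (incl_val hιdeg c hc (J + k) y hy').trans (Eq.trans ?_ (Away.val_mk 𝒜 k _ x hx).symm)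
    show Localization.mk (ι y) (⟨ι c ^ (J + k), _, rfl⟩ : Submonoid.powers (ι c)) =
      Localization.mk x (⟨ι c ^ k, k, rfl⟩ : Submonoid.powers (ι c))
    rw [show ι y = ι c ^ J * x from hye, Localization.mk_eq_mk', IsLocalization.mk'_eq_iff_eq]
    congr 1
    simp only [pow_add]
    ring

end Groth.Agent.H23.ProjInv
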