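import Groth.Agent.H23.DefLine
import Groth.Agent.H23.GrassRep
import Mathlib.AlgebraicGeometry.Morphisms.Smooth
import Mathlib.AlgebraicGeometry.Morphisms.Etale
import Mathlib.AlgebraicGeometry.AlgClosed.Basic

/-! A coordinate of a smooth morphism vanishing at a rational point. -/

set_option autoImplicit false
set_option linter.style.haveILetI false
set_option backward.isDefEq.respectTransparency false
set_option backward.isDefEq.respectTransparency.types false

universe u

open CategoryTheory CategoryTheory.Limits AlgebraicGeometry TopologicalSpace Opposite MvPolynomial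

noncomputable section

namespace Groth.Agent.H23.SmoothCoord

open Groth.Agent DefBundle AModX

variable {A : Type u} [CommRing A]

/-- Translation of the line. -/
def shift (a : A) : MvPolynomial (Fin 1) A ≃ₐ[A] MvPolynomial (Fin 1) A :=
  AlgEquiv.ofAlgHom (aeval fun _ => X 0 - C a) (aeval fun _ => X 0 + C a)
    (algHom_ext fun i => by simp [Fin.fin_one_eq_zero i])
    (algHom_ext fun i => by simp [Fin.fin_one_eq_zero i])

/-- The first coordinate. -/
def firstCoord (r : ℕ) (a : A) : MvPolynomial (Fin 1) A →+* MvPolynomial (Fin r ⊕ Fin 1) A :=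
  (sumAlgEquiv A (Fin r) (Fin 1)).symm.toRingEquiv.toRingHom.comp
    ((C : MvPolynomial (Fin 1) A →+* MvPolynomial (Fin r) (MvPolynomial (Fin 1) A)).comp
      (shift a).toRingEquiv.toRingHom)

theorem firstCoord_C (r : ℕ) (a x : A) : firstCoord r a (C x) = C x := by
  simp [firstCoord, shift]

theorem firstCoord_X (r : ℕ) (a : A) : firstCoord r a (X 0) = X (Sum.inr 0) - C a := by
  simp [firstCoord, shift]

theorem firstCoord_smooth (r : ℕ) (a : A) : (firstCoord r a).IsStandardSmoothOfRelativeDimension r := by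
  have h1 : (C : MvPolynomial (Fin 1) A →+* MvPolynomial (Fin r) (MvPolynomial (Fin 1) A)).IsStandardSmoothOfRelativeDimension r := by
    rw [← MvPolynomial.algebraMap_eq, RingHom.isStandardSmoothOfRelativeDimension_algebraMap]
    simpa using H23.GrassRep.isStandardSmooth_mvPolynomial (MvPolynomial (Fin 1) A) (Fin r)
  have h2 := h1.comp (RingHom.IsStandardSmoothOfRelativeDimension.equiv (shift a).toRingEquiv)
  have h3 := (RingHom.IsStandardSmoothOfRelativeDimension.equiv
    (sumAlgEquiv A (Fin r) (Fin 1)).symm.toRingEquiv).comp h2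
  simp only [add_zero, zero_add] at h3
  exact h3

variable {k : Type u} [Field k] [IsAlgClosed k] {W T : Scheme.{u}}

/-- Near a rational point a smooth morphism of positive relative dimension factors smoothly through the
line, with a rational point over the zero section. -/
theorem exists_coord (qW : W ⟶ Spec (CommRingCat.of k)) [LocallyOfFiniteType qW] (f : T ⟶ W) (r : ℕ)
    [SmoothOfRelativeDimension (r + 1) f] [Nonempty T] :
    ∃ (V : T.Opens) (g : (V : Scheme.{u}) ⟶ Line W),
      g ≫ pr W = V.ι ≫ f ∧ SmoothOfRelativeDimension r g ∧ Nonempty ↥(pullback g (zeroSec W)) := by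
  haveI : Smooth f := SmoothOfRelativeDimension.smooth (r + 1) f
  haveI : JacobsonSpace T := LocallyOfFiniteType.jacobsonSpace (f ≫ qW)
  obtain ⟨t, -, ht⟩ := nonempty_inter_closedPoints (X := T) Set.univ_nonempty isClosed_univ.isLocallyClosed
  let z := (pointEquivClosedPoint (f ≫ qW)).symm ⟨t, ht⟩
  have hzt : z.1 (IsLocalRing.closedPoint k) = t := by
    have := congrArg Subtype.val ((pointEquivClosedPoint (f ≫ qW)).apply_symm_apply ⟨t, ht⟩)
    rwa [pointEquivClosedPoint_apply_coe] at this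
  obtain ⟨U, hU, V, hV, hx, e, hf⟩ :=
    SmoothOfRelativeDimension.exists_isStandardSmoothOfRelativeDimension (n := r + 1) (f := f) t
  obtain ⟨ψ₀, hψC₀, hψ₀⟩ := hf.exists_etale_mvPolynomial
  let σ : Fin r ⊕ Fin 1 ≃ Fin (r + 1) := finSumFinEquiv
  let ψ : MvPolynomial (Fin r ⊕ Fin 1) Γ(W, U) →+* Γ(T, V) :=
    ψ₀.comp (renameEquiv Γ(W, U) σ).toRingEquiv.toRingHom
  have hψC : ∀ x, ψ (C x) = f.appLE U V e x := fun x => by
    show ψ₀ (rename σ (C x)) = _
    rw [rename_C]
    exact RingHom.congr_fun hψC₀ x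
  have hψ : ψ.IsStandardSmoothOfRelativeDimension 0 := by
    have h0 : ψ₀.IsStandardSmoothOfRelativeDimension 0 := by
      algebraize [ψ₀]
      exact Algebra.Etale.iff_isStandardSmoothOfRelativeDimension_zero.1 inferInstance
    have h1 := h0.comp (RingHom.IsStandardSmoothOfRelativeDimension.equiv (renameEquiv Γ(W, U) σ).toRingEquiv)
    simp only [add_zero] at h1
    exact h1
  have hr : Set.range z.1 ⊆ Set.range V.ι := by
    rintro _ ⟨y, rfl⟩
    rw [Scheme.Opens.range_ι, show y = IsLocalRing.closedPoint k from Subsingleton.elim _ _, hzt]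
    exact hx
  let u := IsOpenImmersion.lift V.ι z.1 hr
  have huι : u ≫ V.ι = z.1 := IsOpenImmersion.lift_fac _ _ _
  let ti : Γ(T, V) →+* Γ((V : Scheme.{u}), ⊤) := V.topIso.inv.hom
  let v : Γ((V : Scheme.{u}), ⊤) →+* Γ(Spec (CommRingCat.of k), ⊤) := u.appTop.hom
  let a : Γ(W, U) := qW.appLE ⊤ U le_top (v (ti (ψ (X (Sum.inr 0)))))
  have hιf : ∀ x : Γ(W, U), ti (f.appLE U V e x) =
      (V.ι ≫ f).appLE U ⊤ (fun y _ => e y.2) x := fun x => by
    rw [← Scheme.Hom.appLE_comp_appLE V.ι f U V ⊤ e (fun y _ => y.2)]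
    show _ = V.ι.appLE V ⊤ _ (f.appLE U V e x)
    congr 1
    simp only [ti, Scheme.Opens.topIso_inv, Scheme.Hom.appLE, Scheme.Opens.ι_app, Scheme.Opens.toScheme_presheaf_map,
      ← Functor.map_comp]
    rfl
  have hva : v (ti (ψ (C a))) = v (ti (ψ (X (Sum.inr 0)))) := by
    rw [hψC, hιf]
    show u.appTop ((V.ι ≫ f).appLE U ⊤ _ (qW.appLE ⊤ U le_top _)) = _
    generalize v (ti (ψ (X (Sum.inr 0)))) = c
    have h1 : (qW.appLE ⊤ U le_top) ≫ (V.ι ≫ f).appLE U ⊤ (fun y _ => e y.2) =
        ((V.ι ≫ f) ≫ qW).appTop := by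
      rw [Scheme.Hom.appLE_comp_appLE]
      simp [Scheme.Hom.appTop, Scheme.Hom.appLE]
      rfl
    show u.appTop (((qW.appLE ⊤ U le_top) ≫ (V.ι ≫ f).appLE U ⊤ (fun y _ => e y.2)) c) = c
    rw [h1]
    show (((V.ι ≫ f) ≫ qW).appTop ≫ u.appTop) c = c
    rw [← Scheme.Hom.comp_appTop, Category.assoc, ← Category.assoc u, huι, z.2, Scheme.Hom.id_appTop]
    rfl
  let b : Γ((V : Scheme.{u}), ⊤) := ti (ψ (X (Sum.inr 0) - C a))
  let g : (V : Scheme.{u}) ⟶ Line W := AffineSpace.homOfVector (V.ι ≫ f) fun _ => b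
  have hg : g ≫ pr W = V.ι ≫ f := AffineSpace.homOfVector_over _ _
  let c := lineChart W U hU
  have hle : (⊤ : (V : Scheme.{u}).Opens) ≤ g ⁻¹ᵁ c.O := fun y _ => by
    show (g ≫ pr W) y ∈ U
    rw [hg]
    exact e y.2
  refine ⟨V, g, hg, ⟨fun y => ⟨c.O, c.hO, ⊤, by haveI : IsAffine (V : Scheme.{u}) := hV; exact isAffineOpen_top _,
    trivial, hle, ?_⟩⟩, ?_⟩
  · let φ : MvPolynomial (Fin 1) Γ(W, U) →+* Γ((V : Scheme.{u}), ⊤) :=
      ti.comp (ψ.comp (firstCoord r a))
    have hφ : φ.IsStandardSmoothOfRelativeDimension r := by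
      have := (RingHom.IsStandardSmoothOfRelativeDimension.equiv V.topIso.symm.commRingCatIsoToRingEquiv).comp
        (hψ.comp (firstCoord_smooth r a))
      simp only [add_zero, zero_add] at this
      exact this
    have key : (g.appLE c.O ⊤ hle).hom.comp c.ψ = φ := by
      refine ringHom_ext (fun x => ?_) fun i => ?_
      · show g.appLE c.O ⊤ hle (c.ψ (C x)) = ti (ψ (firstCoord r a (C x)))
        rw [firstCoord_C, hψC, hιf, c.ψ_C]
        show ((pr W).appLE U c.O c.le ≫ g.appLE c.O ⊤ hle) x = _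
        rw [Scheme.Hom.appLE_comp_appLE]
        simp only [hg]
      · obtain rfl : i = 0 := Fin.fin_one_eq_zero i
        show g.appLE c.O ⊤ hle (c.ψ (X 0)) = ti (ψ (firstCoord r a (X 0)))
        rw [firstCoord_X, lineChart_X]
        erw [resR_appTop]
        show (V : Scheme.{u}).presheaf.map _ (g.appTop (time W)) = b
        rw [show g.appTop (time W) = b from AffineSpace.homOfVector_appTop_coord _ _ _]
        exact congr($((V : Scheme.{u}).presheaf.map_id _) b)
    let eψ := RingEquiv.ofBijective c.ψ c.bij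
    have h1 := hφ.comp (RingHom.IsStandardSmoothOfRelativeDimension.equiv eψ.symm)
    rw [← key, RingHom.comp_assoc,
      show c.ψ.comp (eψ.symm : Γ(Line W, c.O) →+* MvPolynomial (Fin 1) Γ(W, c.U)) = RingHom.id _ from
        RingHom.ext fun x => eψ.apply_symm_apply x, RingHom.comp_id, add_zero] at h1
    exact h1
  · refine ⟨pullback.lift u (u ≫ V.ι ≫ f) ?_ (IsLocalRing.closedPoint k)⟩
    refine AffineSpace.hom_ext (by simp [hg]) fun i => ?_
    obtain rfl : i = ⟨0⟩ := Subsingleton.elim _ _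
    rw [Scheme.Hom.comp_appTop, Scheme.Hom.comp_appTop, CommRingCat.comp_apply, CommRingCat.comp_apply,
      show g.appTop (AffineSpace.coord W ⟨0⟩) = b from AffineSpace.homOfVector_appTop_coord _ _ _,
      show (zeroSec W).appTop (AffineSpace.coord W ⟨0⟩) = 0 from zeroSec_time W, map_zero]
    show v (ti (ψ (X (Sum.inr 0) - C a))) = 0
    rw [map_sub, map_sub, map_sub, hva, sub_self]

end Groth.Agent.H23.SmoothCoord
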