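import Groth.Agent.H23.GysinInduct
import Groth.Agent.H23.SmoothCoord
import Groth.Agent.H23.RatEquivPull
import Groth.Agent.H23.FlatClass
import Groth.Agent.H23.GraphPull
import Groth.Agent.AlgSpDec.SmoothLocDim
import Groth.Agent.CycLib.DivPushAll
import Groth.Agent.FibDim.AffineSpaceFibre
import Groth.Agent.S2080
import Groth.Agent.S1868

/-! Cycles killed by pull-back along a smooth morphism are torsion over an open of the base. -/

set_option autoImplicit false
set_option linter.style.haveILetI false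
set_option linter.unusedSectionVars false
set_option maxHeartbeats 400000
set_option backward.isDefEq.respectTransparency false
set_option backward.isDefEq.respectTransparency.types false

universe u

open CategoryTheory CategoryTheory.Limits AlgebraicGeometry TopologicalSpace Opposite

noncomputable section

namespace Groth.Agent.H23.PullInj

open Groth.Agent DefBundle FlatShift

variable {Q W : Scheme.{u}} (π : Q ⟶ W) (δQ : Q → ℤ)

/-- The dimension function on a base change. -/
def δP {T : Scheme.{u}} (f : T ⟶ W) [LocallyOfFiniteType f] (x : ↥(pullback π f)) : ℤ :=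
  δQ (pullback.fst π f x) + FibDim.rd (pullback.fst π f) x

theorem compat {T : Scheme.{u}} (f : T ⟶ W) [LocallyOfFiniteType f] :
    Cyc.DeltaCompat (pullback.fst π f) (δP π δQ f) δQ :=
  ChowDesc.deltaCompat_rd (pullback.fst π f) δQ

variable {δQ} in
theorem setup (hQ : Cyc.IsSetup Q δQ) {T : Scheme.{u}} (f : T ⟶ W) [LocallyOfFiniteType f] :
    Cyc.IsSetup (pullback π f) (δP π δQ f) :=
  SetupLFT.isSetup (pullback.fst π f) hQ (compat π δQ f)

theorem smooth_lft {T : Scheme.{u}} {f : T ⟶ W} {r : ℕ} (h : SmoothOfRelativeDimension r f) :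
    LocallyOfFiniteType f := by
  haveI := SmoothOfRelativeDimension.smooth r f
  infer_instance

theorem relDim {T : Scheme.{u}} (f : T ⟶ W) [LocallyOfFiniteType f] {r : ℕ} [SmoothOfRelativeDimension r f] :
    Cyc.HasRelDim (pullback.fst π f) r :=
  FibDim.hasRelDim_baseChange (IsPullback.of_hasPullback π f).flip
    (AlgSpDec.SmoothLocDim.hasRelDim_of_smoothOfRelativeDimension r f)

/-- The pull-back of `α` to `Q ×_W T` is rationally trivial. -/
def Triv (k : ℤ) (α : Q → ℤ) {T : Scheme.{u}} (f : T ⟶ W) [LocallyOfFiniteType f] (r : ℕ) : Prop :=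
  ∀ γ : AlgebraicCycle (pullback π f : Scheme.{u}) ℤ,
    ⇑γ = Cyc.pullFun (pullback.fst π f) (δP π δQ f) δQ r α → Cyc.RatEquivZero (δP π δQ f) (k + r) γ

theorem length_openImmersion {A B : Scheme.{u}} (j : A ⟶ B) [IsOpenImmersion j] (y : A) :
    ((Module.length (A.presheaf.stalk y) (A.presheaf.stalk y ⧸ Ideal.map (j.stalkMap y).hom
      (IsLocalRing.maximalIdeal (B.presheaf.stalk (j y))))).toNat : ℤ) = 1 := by
  rw [GraphPull.map_maximalIdeal_of_isIso (j.stalkMap y)]
  haveI : IsSimpleModule (A.presheaf.stalk y) (A.presheaf.stalk y ⧸ IsLocalRing.maximalIdeal (A.presheaf.stalk y)) :=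
    isSimpleModule_iff_isCoatom.2 (IsLocalRing.maximalIdeal.isMaximal _).out
  rw [Module.length_eq_one]
  simp

section Map

variable {T T' : Scheme.{u}} (f : T ⟶ W) (h : T' ⟶ T) (f' : T' ⟶ W) (w : h ≫ f = f')

/-- The map of base changes. -/
def mapH : pullback π f' ⟶ pullback π f :=
  pullback.lift (pullback.fst π f') (pullback.snd π f' ≫ h) (by rw [pullback.condition, Category.assoc, w])

theorem mapH_fst : mapH π f h f' w ≫ pullback.fst π f = pullback.fst π f' := pullback.lift_fst _ _ _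

theorem mapH_snd : mapH π f h f' w ≫ pullback.snd π f = pullback.snd π f' ≫ h := pullback.lift_snd _ _ _

theorem isPullback_mapH : IsPullback (mapH π f h f' w) (pullback.snd π f') (pullback.snd π f) h := by
  refine IsPullback.of_right ?_ (mapH_snd π f h f' w) (IsPullback.of_hasPullback π f)
  rw [mapH_fst, w]
  exact IsPullback.of_hasPullback π f'

theorem δP_mapH [LocallyOfFiniteType f] [LocallyOfFiniteType f'] [LocallyOfFiniteType h] [LocallyQuasiFinite h]
    (x : ↥(pullback π f')) : δP π δQ f' x = δP π δQ f (mapH π f h f' w x) := by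
  haveI : LocallyOfFiniteType (mapH π f h f' w) :=
    MorphismProperty.of_isPullback (isPullback_mapH π f h f' w).flip ‹_›
  haveI : LocallyQuasiFinite (mapH π f h f' w) :=
    MorphismProperty.of_isPullback (isPullback_mapH π f h f' w).flip ‹_›
  have e1 : pullback.fst π f (mapH π f h f' w x) = pullback.fst π f' x :=
    congr(($(mapH_fst π f h f' w)).base x)
  have e2 := CycLib.rd_comp (mapH π f h f' w) (pullback.fst π f) x
  rw [mapH_fst, FibDim.rd_eq_zero_of_quasiFinite (mapH π f h f' w), add_zero] at e2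
  rw [δP, δP, e1, e2]

end Map

variable {π δQ} (hQ : Cyc.IsSetup Q δQ) {k : ℤ} (α : AlgebraicCycle Q ℤ)

include hQ in
/-- The pull-back as a cycle. -/
theorem exists_pull {T : Scheme.{u}} (f : T ⟶ W) [LocallyOfFiniteType f] (r : ℕ) [SmoothOfRelativeDimension r f] :
    ∃ γ : AlgebraicCycle (pullback π f : Scheme.{u}) ℤ,
      ⇑γ = Cyc.pullFun (pullback.fst π f) (δP π δQ f) δQ r ⇑α := by
  haveI := hQ.1
  haveI : Smooth f := SmoothOfRelativeDimension.smooth r f
  haveI := (setup π hQ f).1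
  exact ⟨FlatClass.pullCycle (hasShift_of_hasRelDim (pullback.fst π f) (relDim π f) (compat π δQ f))
    (setup π hQ f).2.2 α, rfl⟩

include hQ in
/-- Restriction to an open. -/
theorem Triv.restrict {T : Scheme.{u}} {f : T ⟶ W} [LocallyOfFiniteType f] {r : ℕ} [SmoothOfRelativeDimension r f]
    (hT : Triv π δQ k ⇑α f r) {T' : Scheme.{u}} (h : T' ⟶ T) [IsOpenImmersion h] (f' : T' ⟶ W)
    [LocallyOfFiniteType f'] (w : h ≫ f = f') : Triv π δQ k ⇑α f' r := by
  intro γ' hγ'
  haveI := hQ.1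
  haveI : Smooth f := SmoothOfRelativeDimension.smooth r f
  haveI := (setup π hQ f).1
  haveI := (setup π hQ f').1
  obtain ⟨γ, hγ⟩ := exists_pull hQ α f r
  let H := mapH π f h f' w
  haveI : IsOpenImmersion H := MorphismProperty.of_isPullback (isPullback_mapH π f h f' w).flip ‹_›
  have hd : ∀ x, δP π δQ f' x = δP π δQ f (H x) + 0 := fun x => by rw [add_zero]; exact δP_mapH π δQ f h f' w x
  have h1 := DivPull.ratEquivZero_pull H (c := 0) (fun x _ => hd x) (setup π hQ f).2.2 (setup π hQ f').2.2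
    (hT γ hγ) γ' (by
      rw [hγ, FlatShift.pullFun_comp_of_le H (pullback.fst π f) _ _ δQ (fun x => (hd x).le)
        (FlatShift.le_of_hasRelDim _ (relDim π f) (compat π δQ f)), mapH_fst, add_zero, hγ'])
  rwa [add_zero] at h1

/-- The base change of a map to the line. -/
theorem isPullback_line {T : Scheme.{u}} (g : T ⟶ Line W) (f : T ⟶ W) (hg : g ≫ pr W = f) :
    ∃ G : pullback π f ⟶ Line Q, G ≫ pr Q = pullback.fst π f ∧
      IsPullback (pullback.snd π f) G g (AffineSpace.map LineIdx.{u} π) := by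
  let G : pullback π f ⟶ Line Q :=
    AffineSpace.homOfVector (pullback.fst π f) fun _ => (pullback.snd π f).appTop (g.appTop (time W))
  have hG : G ≫ pr Q = pullback.fst π f := AffineSpace.homOfVector_over _ _
  have hGm : pullback.snd π f ≫ g = G ≫ AffineSpace.map LineIdx.{u} π := by
    refine AffineSpace.hom_ext ?_ fun i => ?_
    · show (pullback.snd π f ≫ g) ≫ pr W = (G ≫ AffineSpace.map LineIdx.{u} π) ≫ pr W
      rw [Category.assoc, hg, Category.assoc, show AffineSpace.map LineIdx.{u} π ≫ pr W = pr Q ≫ π from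
        AffineSpace.map_over π, ← Category.assoc G, hG, pullback.condition]
    · obtain rfl : i = ⟨0⟩ := Subsingleton.elim _ _
      rw [Scheme.Hom.comp_appTop, Scheme.Hom.comp_appTop, CommRingCat.comp_apply, CommRingCat.comp_apply,
        AffineSpace.map_appTop_coord]
      exact (AffineSpace.homOfVector_appTop_coord (S := Q) (n := LineIdx.{u}) (pullback.fst π f)
        (fun _ => (pullback.snd π f).appTop (g.appTop (time W))) ⟨0⟩).symm
  refine ⟨G, hG, IsPullback.of_bot ?_ hGm (AffineSpace.isPullback_map π)⟩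
  rw [hG, hg]
  exact (IsPullback.of_hasPullback π f).flip

theorem zeroSec_map : zeroSec Q ≫ AffineSpace.map LineIdx.{u} π = π ≫ zeroSec W := by
  refine AffineSpace.hom_ext ?_ fun i => ?_
  · show (zeroSec Q ≫ AffineSpace.map LineIdx.{u} π) ≫ pr W = (π ≫ zeroSec W) ≫ pr W
    rw [Category.assoc, show AffineSpace.map LineIdx.{u} π ≫ pr W = pr Q ≫ π from AffineSpace.map_over π,
      ← Category.assoc, zeroSec_pr, Category.id_comp, Category.assoc, zeroSec_pr, Category.comp_id]
  · obtain rfl : i = ⟨0⟩ := Subsingleton.elim _ _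
    rw [Scheme.Hom.comp_appTop, Scheme.Hom.comp_appTop, CommRingCat.comp_apply, CommRingCat.comp_apply,
      AffineSpace.map_appTop_coord]
    rw [show (zeroSec Q).appTop (AffineSpace.coord Q ⟨0⟩) = 0 from zeroSec_time Q,
      show (zeroSec W).appTop (AffineSpace.coord W ⟨0⟩) = 0 from zeroSec_time W, map_zero]

variable {K : Type u} [Field K] [IsAlgClosed K] (qW : W ⟶ Spec (CommRingCat.of K)) [LocallyOfFiniteType qW]
  (hα : α ∈ Cyc.Zk Q δQ k)

include hQ qW hα in
/-- The relative dimension drops to zero. -/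
theorem exists_etale (r : ℕ) : ∀ {T : Scheme.{u}} (f : T ⟶ W) [LocallyOfFiniteType f]
    [SmoothOfRelativeDimension r f], Nonempty T → Triv π δQ k ⇑α f r →
    ∃ (T' : Scheme.{u}) (f' : T' ⟶ W) (_ : SmoothOfRelativeDimension 0 f') (_ : LocallyOfFiniteType f'),
      Nonempty T' ∧ Triv π δQ k ⇑α f' 0 := by
  induction r with
  | zero => intro T f _ _ hne hT; exact ⟨T, f, ‹_›, ‹_›, hne, hT⟩
  | succ r ih =>
    intro T f _ _ hne hT
    haveI := hne
    haveI := hQ.1
    obtain ⟨V, g, hg, hgs, hne'⟩ := SmoothCoord.exists_coord qW f r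
    haveI := hgs
    haveI : Smooth g := SmoothOfRelativeDimension.smooth r g
    let f0 := V.ι ≫ f
    haveI hf0 : SmoothOfRelativeDimension (r + 1) f0 := by
      simpa using (inferInstance : SmoothOfRelativeDimension (0 + (r + 1)) (V.ι ≫ f))
    have h0 : Triv π δQ k ⇑α f0 (r + 1) := hT.restrict hQ α V.ι f0 rfl
    let h := pullback.fst g (zeroSec W)
    let f' := pullback.snd g (zeroSec W)
    haveI hf' : SmoothOfRelativeDimension r f' :=
      (smoothOfRelativeDimension_isStableUnderBaseChange (n := r)).of_isPullback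
        (IsPullback.of_hasPullback g (zeroSec W)) hgs
    haveI : LocallyOfFiniteType f' := smooth_lft hf'
    haveI : Smooth f' := SmoothOfRelativeDimension.smooth r f'
    have w : h ≫ f0 = f' := by
      show h ≫ V.ι ≫ f = _
      rw [← hg, ← Category.assoc, pullback.condition, Category.assoc, zeroSec_pr, Category.comp_id]
    refine ih f' hne' fun γ' hγ' => ?_
    obtain ⟨γ, hγ⟩ := exists_pull hQ α f0 (r + 1)
    obtain ⟨G, hG, sqG⟩ := isPullback_line (π := π) g f0 hg
    haveI : Flat G := MorphismProperty.of_isPullback sqG (inferInstance : Flat g)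
    let H := mapH π f0 h f' w
    haveI : IsClosedImmersion h := MorphismProperty.pullback_fst _ _ inferInstance
    haveI : IsClosedImmersion H := MorphismProperty.of_isPullback (isPullback_mapH π f0 h f' w).flip ‹_›
    have wH : H ≫ G = pullback.fst π f' ≫ zeroSec Q := by
      refine AffineSpace.hom_ext ?_ fun i => ?_
      · show (H ≫ G) ≫ pr Q = (pullback.fst π f' ≫ zeroSec Q) ≫ pr Q
        rw [Category.assoc, hG, Category.assoc, zeroSec_pr, Category.comp_id]
        exact mapH_fst π f0 h f' w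
      · have e : (H ≫ G) ≫ AffineSpace.map LineIdx.{u} π =
            (pullback.fst π f' ≫ zeroSec Q) ≫ AffineSpace.map LineIdx.{u} π := by
          rw [Category.assoc, ← sqG.w, ← Category.assoc, mapH_snd, Category.assoc, pullback.condition,
            Category.assoc, zeroSec_map, ← Category.assoc, ← Category.assoc, pullback.condition]
        have := congr(($e).appTop (AffineSpace.coord W i))
        rwa [Scheme.Hom.comp_appTop (H ≫ G), Scheme.Hom.comp_appTop (pullback.fst π f' ≫ zeroSec Q),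
          CommRingCat.comp_apply, CommRingCat.comp_apply, AffineSpace.map_appTop_coord] at this
    have sq : IsPullback H (pullback.fst π f') G (zeroSec Q) := by
      refine IsPullback.of_right ?_ wH sqG
      rw [mapH_snd, zeroSec_map]
      exact (IsPullback.of_hasPullback π f').flip.paste_horiz (IsPullback.of_hasPullback g (zeroSec W))
    haveI := (setup π hQ f0).1
    haveI := (setup π hQ f').1
    have hδ : δP π δQ f' = fun d => δP π δQ f0 (H d) := funext fun d => δP_mapH π δQ f0 h f' w d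
    rw [hδ] at hγ' ⊢
    refine GysinInduct.step G sq (setup π hQ f0).2.2 hQ.2.2 (r := r) (fun x => ?_) (fun d => ?_) hα γ ?_ ?_ γ' hγ'
    · rw [← Scheme.Hom.comp_apply, hG]
      exact FlatShift.le_of_hasRelDim _ (relDim π f0) (compat π δQ f0) x
    · rw [← congrFun hδ d]
      exact FlatShift.le_of_hasRelDim _ (relDim π f') (compat π δQ f') d
    · rw [hG, hγ]
      norm_num
    · have := h0 γ hγ
      push_cast at this
      exact this

include hQ qW hα in
/-- A cycle whose pull-back along a nonempty smooth morphism is rationally trivial is torsion over a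
nonempty open of the base. -/
theorem exists_open_nsmul [IsIntegral W] [QuasiCompact π] {T : Scheme.{u}} (f : T ⟶ W) [LocallyOfFiniteType f]
    (r : ℕ) [SmoothOfRelativeDimension r f] (hne : Nonempty T) (hT : Triv π δQ k ⇑α f r) :
    ∃ (U : W.Opens) (m : ℕ), (U : Set W).Nonempty ∧ 0 < m ∧
      ∀ β : AlgebraicCycle (π ⁻¹ᵁ U : Scheme.{u}) ℤ, (∀ y, β y = m * α ((π ⁻¹ᵁ U).ι y)) →
        Cyc.RatEquivZero (fun y => δQ ((π ⁻¹ᵁ U).ι y)) k β := by
  classical
  haveI := hQ.1
  haveI : IsLocallyNoetherian W := LocallyOfFiniteType.isLocallyNoetherian qW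
  obtain ⟨T₁, f₁, hf₁, hlf₁, ⟨t⟩, hT₁⟩ := exists_etale hQ α qW hα r f hne hT
  obtain ⟨V₁, hV₁, htV, -⟩ := exists_isAffineOpen_mem_and_subset (x := t) (U := ⊤) trivial
  haveI : IsAffine (V₁ : Scheme.{u}) := hV₁
  let f₂ := V₁.ι ≫ f₁
  haveI hf₂ : SmoothOfRelativeDimension 0 f₂ := inferInstance
  have hT₂ : Triv π δQ k ⇑α f₂ 0 := hT₁.restrict hQ α V₁.ι f₂ rfl
  haveI : Etale f₂ := (Etale.iff_smoothOfRelativeDimension_zero (f := f₂)).2 hf₂
  haveI : QuasiCompact f₂ := quasiCompact_of_compactSpace f₂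
  have hfin : (f₂ ⁻¹' {genericPoint W}).Finite := f₂.finite_preimage_singleton _
  obtain ⟨U, -, hηU, hUfin⟩ := (Groth.Agent.S2080.result f₂ (genericPoint W) (by
    rw [genericPoint_closure, irreducibleComponents_eq_singleton]; rfl)).1 hfin
  let f₃ := f₂ ∣_ U
  haveI : IsFinite f₃ := hUfin
  haveI : Nonempty (U : Scheme.{u}) := ⟨⟨_, hηU⟩⟩
  haveI : IsIntegral (U : Scheme.{u}) := isIntegral_of_isOpenImmersion U.ι
  let m := f₃.finrank (genericPoint (U : Scheme.{u}))
  have hmc : ∀ u, f₃.finrank u = m := fun u => f₃.isLocallyConstant_finrank.apply_eq_of_preconnectedSpace u _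
  have hm : 0 < m := by
    have hopen : IsOpen (Set.range f₂) := f₂.isOpenMap.isOpen_range
    obtain ⟨y, hy⟩ := (genericPoint_spec W).mem_open_set_iff hopen |>.2 ⟨f₂ ⟨t, htV⟩, trivial, ⟨_, rfl⟩⟩
    have hys : y ∈ f₂ ⁻¹ᵁ U := by show f₂ y ∈ U; rw [hy]; exact hηU
    have := f₃.one_le_finrank_map ⟨y, hys⟩
    rwa [hmc] at this
  refine ⟨U, m, ⟨_, hηU⟩, hm, fun β hβ => ?_⟩
  obtain ⟨γ, hγ⟩ := exists_pull hQ α f₂ 0
  let P₂ := pullback π f₂
  let S := pullback.fst π f₂ ⁻¹ᵁ (π ⁻¹ᵁ U)
  let Qf := pullback.fst π f₂ ∣_ (π ⁻¹ᵁ U)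
  let σ : (S : Scheme.{u}) ⟶ (f₂ ⁻¹ᵁ U : Scheme.{u}) :=
    IsOpenImmersion.lift (f₂ ⁻¹ᵁ U).ι (S.ι ≫ pullback.snd π f₂) (by
      rintro _ ⟨y, rfl⟩
      rw [Scheme.Opens.range_ι]
      show (pullback.snd π f₂ ≫ f₂) y.1 ∈ U
      rw [← pullback.condition]
      exact y.2)
  have hσ : σ ≫ (f₂ ⁻¹ᵁ U).ι = S.ι ≫ pullback.snd π f₂ := IsOpenImmersion.lift_fac _ _ _
  have sqQ : IsPullback Qf σ (π ∣_ U) f₃ := by
    have w : Qf ≫ (π ∣_ U) = σ ≫ f₃ := by
      rw [← cancel_mono U.ι]
      simp only [Qf, f₃, Category.assoc, morphismRestrict_ι, morphismRestrict_ι_assoc, reassoc_of% hσ,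
        pullback.condition]
      rfl
    refine IsPullback.of_bot ?_ w (isPullback_morphismRestrict f₂ U)
    rw [hσ, morphismRestrict_ι]
    exact (isPullback_morphismRestrict (pullback.fst π f₂) (π ⁻¹ᵁ U)).paste_vert
      (IsPullback.of_hasPullback π f₂)
  haveI : Flat f₃ := inferInstance
  haveI : IsFinite Qf := MorphismProperty.of_isPullback sqQ.flip hUfin
  haveI : Flat Qf := MorphismProperty.of_isPullback sqQ.flip (inferInstance : Flat f₃)
  have hrk : ∀ q, Qf.finrank q = m := fun q => by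
    rw [← hmc ((π ∣_ U) q)]
    exact Scheme.Hom.finrank_of_isPullback _ _ _ _ sqQ.flip q
  let δU : ↥(π ⁻¹ᵁ U : Scheme.{u}) → ℤ := fun y => δQ ((π ⁻¹ᵁ U).ι y)
  let δS : ↥(S : Scheme.{u}) → ℤ := fun y => δP π δQ f₂ (S.ι y)
  have hUs : Cyc.IsSetup (π ⁻¹ᵁ U : Scheme.{u}) δU := SetupLFT.isSetup (π ⁻¹ᵁ U).ι hQ (fun y => ⟨0, by
    have h := VarDim.rdeg_preimmersion (π ⁻¹ᵁ U).ι y
    exact h.trans Nat.cast_zero.symm, by simp [δU]⟩)
  have hSs : Cyc.IsSetup (S : Scheme.{u}) δS := SetupLFT.isSetup S.ι (setup π hQ f₂) (fun y => ⟨0, by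
    have h := VarDim.rdeg_preimmersion S.ι y
    exact h.trans Nat.cast_zero.symm, by simp [δS]⟩)
  haveI := (setup π hQ f₂).1
  haveI := hUs.1
  haveI := hSs.1
  have happ : ∀ y, (π ⁻¹ᵁ U).ι (Qf y) = pullback.fst π f₂ (S.ι y) := fun y =>
    congr(($(morphismRestrict_ι (pullback.fst π f₂) (π ⁻¹ᵁ U))).base y)
  have hrd : ∀ x, FibDim.rd (pullback.fst π f₂) x = 0 := fun x => by
    haveI : LocallyQuasiFinite (pullback.fst π f₂) := MorphismProperty.pullback_fst _ _ inferInstance
    exact FibDim.rd_eq_zero_of_quasiFinite _ x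
  have hδS : ∀ y, δS y = δU (Qf y) + 0 := fun y => by
    show δQ (pullback.fst π f₂ (S.ι y)) + (FibDim.rd (pullback.fst π f₂) (S.ι y) : ℤ) =
      δQ ((π ⁻¹ᵁ U).ι (Qf y)) + 0
    rw [hrd, happ, Nat.cast_zero]
  have hQfc : Cyc.DeltaCompat Qf δS δU := fun y =>
    ⟨FibDim.rd Qf y, (FibDim.rd_eq_rdeg Qf y).symm, by
      rw [FibDim.rd_eq_zero_of_quasiFinite Qf y, hδS y, Nat.cast_zero]⟩
  let αU := CycLib.restrictCycle (π ⁻¹ᵁ U).ι (π ⁻¹ᵁ U).ι.isOpenEmbedding.injective α
  let γS : AlgebraicCycle (S : Scheme.{u}) ℤ :=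
    FlatClass.pullCycle (p := Qf) (δ := δU) (δ' := δS) (c := 0) (fun x _ => hδS x) hSs.2.2 αU
  have hαU : ⇑αU = Cyc.pullFun (π ⁻¹ᵁ U).ι δU δQ 0 ⇑α := funext fun y => by
    rw [Cyc.pullFun, if_pos (by simp [δU]), length_openImmersion, mul_one]
    rfl
  have hγS : ⇑γS = Cyc.pullFun S.ι δS (δP π δQ f₂) 0 ⇑γ := by
    show Cyc.pullFun Qf δS δU 0 ⇑αU = _
    rw [hαU, hγ, FlatShift.pullFun_comp_of_le Qf (π ⁻¹ᵁ U).ι _ _ δQ (fun x => (hδS x).le) (fun y => by simp [δU]),
      FlatShift.pullFun_comp_of_le S.ι (pullback.fst π f₂) δS (δP π δQ f₂) δQ (fun x => by simp [δS])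
        (FlatShift.le_of_hasRelDim _ (relDim π f₂) (compat π δQ f₂)), morphismRestrict_ι]
    simp
    rfl
  have h0 : Cyc.RatEquivZero δS k γS := by
    have h1 := hT₂ γ hγ
    have h2 := DivPull.ratEquivZero_pull S.ι (c := 0) (fun x _ => by simp [δS]) (setup π hQ f₂).2.2 hSs.2.2 h1 γS hγS
    simpa using h2
  have h3 := CycLib.ratEquivZero_map Qf hSs hUs hQfc h0
  have hαUk : αU ∈ Cyc.Zk (π ⁻¹ᵁ U : Scheme.{u}) δU k := fun y hy => hα _ hy
  have h4 := (Groth.Agent.S1868.result (S : Scheme.{u}) (π ⁻¹ᵁ U : Scheme.{u}) δS δU hSs hUs Qf m hrk hQfc k).2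
    αU hαUk γS rfl
  rw [h4] at h3
  refine cast (congrArg (Cyc.RatEquivZero δU k) ?_) h3
  ext y
  rw [hβ, Function.locallyFinsuppWithin.coe_nsmul, Pi.smul_apply, nsmul_eq_mul]
  rfl

end Groth.Agent.H23.PullInj
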