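import Groth.Agent.SGA1Q.Properties
import Groth.Agent.SGA1Q.Exists
import Groth.Agent.InvUfdLib.Semilocal
import Groth.Agent.H23.CocycleMod
import Groth.Agent.InvX.Tensor
import Groth.Agent.AmpleX.Locus
import Groth.Agent.AmpleX.FiniteSet
import Groth.Agent.AmpleX.Rel
import Groth.Prelude.Def_RelProj

/-!
# The norm of an invertible module along a quotient by a finite group

For a quotient `p : X ⟶ Y` by a finite group and an invertible `L` on `X`, an invertible `M` on `Y`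
with norms of sections.
-/

universe u

open CategoryTheory AlgebraicGeometry TopologicalSpace Opposite

set_option backward.isDefEq.respectTransparency false
set_option backward.isDefEq.respectTransparency.types false
set_option linter.unusedSectionVars false
set_option linter.style.haveILetI false

namespace Groth.Agent.H23.QuotNorm

open Groth.Agent Groth.Agent.AModX

variable {X Y : Scheme.{u}} {G : Type u} [Group G] {ρ : G →* Aut X} {p : X ⟶ Y}
  (hp : SGA1.IsQuot ρ p)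

include hp in
theorem preimage_le (g : G) (U : Y.Opens) : p ⁻¹ᵁ U ≤ (ρ g).hom ⁻¹ᵁ (p ⁻¹ᵁ U) :=
  SGA1.preimage_le_of_inv ρ p hp.inv g U

/-- The action on invariant opens. -/
noncomputable def act (g : G) (U : Y.Opens) : Γ(X, p ⁻¹ᵁ U) →+* Γ(X, p ⁻¹ᵁ U) :=
  ((ρ g).hom.appLE (p ⁻¹ᵁ U) (p ⁻¹ᵁ U) (preimage_le hp g U)).hom

theorem act_mul (g g' : G) (U : Y.Opens) (u : Γ(X, p ⁻¹ᵁ U)) :
    act hp (g * g') U u = act hp g' U (act hp g U u) := by
  have h := Scheme.Hom.appLE_comp_appLE (ρ g').hom (ρ g).hom (p ⁻¹ᵁ U) (p ⁻¹ᵁ U) (p ⁻¹ᵁ U)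
    (preimage_le hp g U) (preimage_le hp g' U)
  refine Eq.trans ?_ (ConcreteCategory.congr_hom h u).symm
  exact ConcreteCategory.congr_hom (SGA1Q.appLE_congr_hom (SGA1Q.hom_mul ρ g g') _ _) u

theorem act_res {g : G} {U V : Y.Opens} (h : V ≤ U) (u : Γ(X, p ⁻¹ᵁ U)) :
    act hp g V (resR (p.preimage_mono h) u) = resR (p.preimage_mono h) (act hp g U u) := by
  show ((X.presheaf.map _) ≫ (ρ g).hom.appLE _ _ _).hom u = ((ρ g).hom.appLE _ _ _ ≫ X.presheaf.map _).hom u
  rw [Scheme.Hom.map_appLE, Scheme.Hom.appLE_map]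

variable [Fintype G]

/-- The product of the conjugates. -/
noncomputable def prodAct (U : Y.Opens) (u : Γ(X, p ⁻¹ᵁ U)) : Γ(X, p ⁻¹ᵁ U) := ∏ g, act hp g U u

theorem exists_nm (U : Y.Opens) (u : Γ(X, p ⁻¹ᵁ U)) : prodAct hp U u ∈ Set.range (p.app U).hom := by
  refine (hp.range_iff U _).2 fun g' => ?_
  show act hp g' U (prodAct hp U u) = _
  rw [prodAct, map_prod]
  exact Fintype.prod_equiv (Equiv.mulRight g') _ _ fun g => (act_mul hp g g' U u).symm

/-- The norm of a function. -/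
noncomputable def nm (U : Y.Opens) (u : Γ(X, p ⁻¹ᵁ U)) : Γ(Y, U) := (exists_nm hp U u).choose

theorem app_nm (U : Y.Opens) (u : Γ(X, p ⁻¹ᵁ U)) : (p.app U).hom (nm hp U u) = prodAct hp U u :=
  (exists_nm hp U u).choose_spec

theorem nm_mul (U : Y.Opens) (u v : Γ(X, p ⁻¹ᵁ U)) : nm hp U (u * v) = nm hp U u * nm hp U v := by
  apply hp.injective U
  simp only [map_mul, app_nm, prodAct, Finset.prod_mul_distrib]

theorem nm_one (U : Y.Opens) : nm hp U 1 = 1 := by
  apply hp.injective U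
  simp [app_nm, prodAct]

theorem isUnit_nm {U : Y.Opens} {u : Γ(X, p ⁻¹ᵁ U)} (h : IsUnit u) : IsUnit (nm hp U u) := by
  obtain ⟨v, hv⟩ := h.exists_right_inv
  exact IsUnit.of_mul_eq_one _ ((nm_mul hp U u v).symm.trans (hv ▸ nm_one hp U))

theorem res_nm {U V : Y.Opens} (h : V ≤ U) (u : Γ(X, p ⁻¹ᵁ U)) :
    resR h (nm hp U u) = nm hp V (resR (p.preimage_mono h) u) := by
  apply hp.injective V
  refine Eq.trans ?_ (app_nm hp V _).symm
  refine (ConcreteCategory.congr_hom (p.naturality (homOfLE h).op) (nm hp U u)).trans ?_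
  show resR (p.preimage_mono h) ((p.app U).hom (nm hp U u)) = _
  rw [app_nm, prodAct, map_prod]
  exact Finset.prod_congr rfl fun g _ => (act_res hp h u).symm

theorem mem_basicOpen_nm {U : Y.Opens} (u : Γ(X, p ⁻¹ᵁ U)) (x : X) :
    p x ∈ Y.basicOpen (nm hp U u) ↔ p x ∈ U ∧ ∀ g : G, (ρ g).hom x ∈ X.basicOpen u := by
  show x ∈ p ⁻¹ᵁ Y.basicOpen (nm hp U u) ↔ _
  rw [Scheme.preimage_basicOpen, show (p.app U) (nm hp U u) = prodAct hp U u from app_nm hp U u]
  constructor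
  · intro hx
    have hxU : x ∈ p ⁻¹ᵁ U := X.basicOpen_le _ hx
    refine ⟨hxU, fun g => ?_⟩
    rw [X.mem_basicOpen _ x hxU, prodAct, map_prod, IsUnit.prod_iff] at hx
    have := (X.mem_basicOpen (act hp g U u) x hxU).2 (hx g (Finset.mem_univ g))
    rw [act, Scheme.basicOpen_appLE] at this
    exact this.2
  · rintro ⟨hxU, hx⟩
    rw [X.mem_basicOpen _ x hxU, prodAct, map_prod, IsUnit.prod_iff]
    intro g _
    refine (X.mem_basicOpen (act hp g U u) x hxU).1 ?_
    rw [act, Scheme.basicOpen_appLE]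
    exact ⟨hxU, hx g⟩

/-- `m` are norms of the frames `e`. -/
structure Data (L : X.Modules) (M : Y.Modules) {ι : Type u} (U : ι → Y.Opens) where
  /-- frames upstairs -/
  e : ∀ i, Γ(L, p ⁻¹ᵁ U i)
  /-- frames downstairs -/
  m : ∀ i, Γ(M, U i)
  frame_e : ∀ i, InvX.IsFrame (e i)
  frame_m : ∀ i, InvX.IsFrame (m i)
  rel : ∀ (i j : ι) (W : Y.Opens) (hi : W ≤ U i) (hj : W ≤ U j) (u : Γ(X, p ⁻¹ᵁ W)),
    res L (p.preimage_mono hi) (e i) = u • res L (p.preimage_mono hj) (e j) →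
    res M hi (m i) = nm hp W u • res M hj (m j)

variable {L L' : X.Modules} {M M' : Y.Modules} {ι : Type u} {U : ι → Y.Opens}

/-- The tensor product of two norms. -/
noncomputable def Data.tensor (D : Data hp L M U) (D' : Data hp L' M' U) :
    Data hp (CohB1.tensorMod L L') (CohB1.tensorMod M M') U where
  e i := InvX.tmul (D.e i) (D'.e i)
  m i := InvX.tmul (D.m i) (D'.m i)
  frame_e i := InvX.isFrame_tmul (D.frame_e i) (D'.frame_e i)
  frame_m i := InvX.isFrame_tmul (D.frame_m i) (D'.frame_m i)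
  rel i j W hi hj u hu := by
    obtain ⟨v, hv⟩ := (D.frame_e j).exists_coord (p.preimage_mono hj) (res L (p.preimage_mono hi) (D.e i))
    obtain ⟨v', hv'⟩ := (D'.frame_e j).exists_coord (p.preimage_mono hj) (res L' (p.preimage_mono hi) (D'.e i))
    have h : u = v * v' := by
      refine (InvX.isFrame_tmul (D.frame_e j) (D'.frame_e j)).coord_unique (p.preimage_mono hj) ?_
      rw [← hu, InvX.res_tmul, InvX.res_tmul, hv, hv', InvX.tmul_smul_left, InvX.tmul_smul_right, mul_smul]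
    rw [h, nm_mul, InvX.res_tmul, InvX.res_tmul, D.rel i j W hi hj v hv, D'.rel i j W hi hj v' hv',
      InvX.tmul_smul_left, InvX.tmul_smul_right, mul_smul]

/-- The norm of the structure module. -/
noncomputable def Data.unit (U : ι → Y.Opens) : Data hp (Coh.structureModule X) (Coh.structureModule Y) U where
  e i := (1 : Γ(X, p ⁻¹ᵁ U i))
  m i := (1 : Γ(Y, U i))
  frame_e i := InvX.isFrame_one _
  frame_m i := InvX.isFrame_one _
  rel i j W hi hj u hu := by
    change resR _ (1 : Γ(X, p ⁻¹ᵁ U i)) = u * resR _ (1 : Γ(X, p ⁻¹ᵁ U j)) at hu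
    show resR _ (1 : Γ(Y, U i)) = nm hp W u * resR _ (1 : Γ(Y, U j))
    rw [map_one, map_one, mul_one] at hu ⊢
    rw [← hu, nm_one]

/-- Powers of a norm. -/
noncomputable def Data.pow (D : Data hp L M U) :
    ∀ n, Data hp (CohB1.tensorPow L n) (CohB1.tensorPow M n) U
  | 0 => Data.unit hp U
  | n + 1 => (Data.pow D n).tensor hp D

theorem Data.exists_section (D : Data hp L M U) (hU : ∀ y, ∃ i, y ∈ U i) {O : Y.Opens}
    (s : Γ(L, p ⁻¹ᵁ O)) : ∃ t : Γ(M, O), ∀ x : X,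
      p x ∈ AmpleX.locus t ↔ ∀ g : G, (ρ g).hom x ∈ AmpleX.locus s := by
  have hc := fun i => (D.frame_e i).exists_coord (p.preimage_mono (inf_le_right : O ⊓ U i ≤ U i))
    (res L (p.preimage_mono (inf_le_left : O ⊓ U i ≤ O)) s)
  choose a ha using hc
  obtain ⟨t, ht, -⟩ := existsUnique_glue (M := M) (V := O) (fun i => O ⊓ U i) (fun _ => inf_le_left)
    (fun y hy => (hU y).imp fun i hi => ⟨hy, hi⟩)
    (fun i => nm hp _ (a i) • res M inf_le_right (D.m i)) fun i j => by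
      let W := (O ⊓ U i) ⊓ (O ⊓ U j)
      have hWi : W ≤ U i := inf_le_left.trans inf_le_right
      have hWj : W ≤ U j := inf_le_right.trans inf_le_right
      obtain ⟨v, hv⟩ := (D.frame_e j).exists_coord (p.preimage_mono hWj)
        (res L (p.preimage_mono hWi) (D.e i))
      rw [res_smul, res_smul, res_res, res_res, D.rel i j W hWi hWj v hv, ← mul_smul, res_nm, res_nm, ← nm_mul]
      congr 2
      refine (D.frame_e j).coord_unique (p.preimage_mono hWj) ?_
      have h1 := congrArg (res L (p.preimage_mono (inf_le_left : W ≤ O ⊓ U i))) (ha i)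
      have h2 := congrArg (res L (p.preimage_mono (inf_le_right : W ≤ O ⊓ U j))) (ha j)
      rw [res_smul, res_res, res_res] at h1 h2
      rw [mul_smul, ← hv, ← h1, ← h2]
  refine ⟨t, fun x => ?_⟩
  have inv : ∀ g : G, p ((ρ g).hom x) = p x := fun g => congr($(hp.inv g).base x)
  by_cases hxO : p x ∈ O
  swap
  · refine ⟨fun h => absurd (AmpleX.locus_le t h) hxO, fun h => absurd ?_ hxO⟩
    exact inv 1 ▸ (AmpleX.locus_le s (h 1))
  obtain ⟨i, hi⟩ := hU (p x)
  have h1 := congrArg (fun V : Y.Opens => p x ∈ V)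
    (AmpleX.locus_inf t inf_le_left ((D.frame_m i).res (inf_le_right : O ⊓ U i ≤ U i)) (ht i))
  have h2 := fun g : G => congrArg (fun V : X.Opens => (ρ g).hom x ∈ V)
    (AmpleX.locus_inf s (p.preimage_mono (inf_le_left : O ⊓ U i ≤ O))
      ((D.frame_e i).res (p.preimage_mono (inf_le_right : O ⊓ U i ≤ U i))) (ha i))
  simp only [Opens.mem_inf, eq_iff_iff] at h1 h2
  rw [mem_basicOpen_nm] at h1
  have hxi : p x ∈ O ⊓ U i := ⟨hxO, hi⟩
  have hg : ∀ g : G, (ρ g).hom x ∈ p ⁻¹ᵁ (O ⊓ U i) := fun g => by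
    show p ((ρ g).hom x) ∈ O ⊓ U i
    rw [inv]
    exact hxi
  exact ⟨fun h g => ((h2 g).2 ((h1.1 ⟨h, hxO, hi⟩).2 g)).1,
    fun h => (h1.2 ⟨hxi, fun g => (h2 g).1 ⟨h g, (hg g).1, (hg g).2⟩⟩).1⟩

theorem exists_frame_fibre [IsFinite p] (hL : PicF.IsInvertible L) (y : Y) :
    ∃ (V : Y.Opens) (e : Γ(L, p ⁻¹ᵁ V)), y ∈ V ∧ InvX.IsFrame e := by
  obtain ⟨_, ⟨V₀, hV₀, rfl⟩, hyV₀, -⟩ :=
    Y.isBasis_affineOpens.exists_subset_of_mem_open (Set.mem_univ y) isOpen_univ
  have hd : ∀ x ∈ p ⁻¹' {y}, ∀ x' ∈ p ⁻¹' {y}, x ⤳ x' → x = x' := by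
    intro x hx x' hx' h
    have := (p.isDiscrete_preimage_singleton y).1
    have h' : (⟨x, hx⟩ : p ⁻¹' {y}) ⤳ ⟨x', hx'⟩ := (subtype_specializes_iff _ _).2 h
    exact congrArg Subtype.val h'.eq
  obtain ⟨O, s, hFO, hs⟩ := InvUfdLib.exists_frame_finset hL (hV₀.preimage p) (p ⁻¹' {y})
    (p.finite_preimage_singleton y)
    (fun x (hx : p x = y) => show p x ∈ V₀ from hx ▸ hyV₀) hd
  let Z : Set Y := p '' ((O : Set X)ᶜ)
  have hZ : IsClosed Z := p.isClosedMap _ O.isOpen.isClosed_compl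
  let V : Y.Opens := ⟨Zᶜ, hZ.isOpen_compl⟩
  have hy : y ∈ V := by
    rintro ⟨x, hx, rfl⟩
    exact hx (hFO rfl)
  have hle : p ⁻¹ᵁ V ≤ O := fun x hx => not_not.1 fun h => hx ⟨x, h, rfl⟩
  exact ⟨V, res L hle s, hy, hs.res hle⟩

/-- The norm exists. -/
theorem exists_data [IsFinite p] (hL : PicF.IsInvertible L) :
    ∃ (U : Y → Y.Opens) (M : Y.Modules), (∀ y, y ∈ U y) ∧ PicF.IsInvertible M ∧
      Nonempty (Data hp L M U) := by
  choose V e hy he using exists_frame_fibre (p := p) hL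
  choose u hu using fun i j => (he j).exists_coord (p.preimage_mono (inf_le_right : V i ⊓ V j ≤ V j))
    (res L (p.preimage_mono (inf_le_left : V i ⊓ V j ≤ V i)) (e i))
  have huu : ∀ i j, IsUnit (u i j) := fun i j => by
    obtain ⟨w, hw⟩ := (he i).exists_coord (p.preimage_mono (inf_le_left : V i ⊓ V j ≤ V i))
      (res L (p.preimage_mono (inf_le_right : V i ⊓ V j ≤ V j)) (e j))
    refine IsUnit.of_mul_eq_one w ((he i).coord_unique (p.preimage_mono (inf_le_left : V i ⊓ V j ≤ V i)) ?_)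
    rw [mul_smul, ← hw, ← hu, one_smul]
  let t : CocycleMod.Cocycle V :=
    { g := fun i j => (isUnit_nm hp (huu i j)).unit
      trans := fun i j k W hi hj hk => by
        simp only [IsUnit.unit_spec, res_nm, ← nm_mul]
        congr 1
        refine (he k).coord_unique (p.preimage_mono hk) ?_
        have h1 := congrArg (res L (p.preimage_mono (le_inf hi hk))) (hu i k)
        have h2 := congrArg (res L (p.preimage_mono (le_inf hj hk))) (hu j k)
        have h3 := congrArg (res L (p.preimage_mono (le_inf hi hj))) (hu i j)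
        rw [res_smul, res_res, res_res] at h1 h2 h3
        rw [← h1, h3, h2, ← mul_smul, mul_comm] }
  refine ⟨V, CocycleMod.mod t, hy,
    CocycleMod.isInvertible t (eq_top_iff.2 fun y _ => Opens.mem_iSup.2 ⟨y, hy y⟩),
    ⟨⟨e, CocycleMod.frame t, he, CocycleMod.isFrame_frame t, fun i j W hi hj w hw => ?_⟩⟩⟩
  have h1 := congrArg (res (CocycleMod.mod t) (le_inf hi hj)) (CocycleMod.res_frame t i j)
  rw [res_smul, res_res, res_res] at h1
  rw [h1]
  congr 1
  show resR _ (nm hp _ (u i j)) = _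
  rw [res_nm]
  congr 1
  refine (he j).coord_unique (p.preimage_mono hj) ?_
  have h2 := congrArg (res L (p.preimage_mono (le_inf hi hj))) (hu i j)
  rw [res_smul, res_res, res_res] at h2
  exact h2.symm.trans hw

theorem isAffineOpen_finsetInf {Z : Scheme.{u}} [Z.IsSeparated] {κ : Type*} (F : κ → Z.Opens)
    (hF : ∀ k, IsAffineOpen (F k)) {S : Finset κ} (hS : S.Nonempty) : IsAffineOpen (S.inf F) := by
  induction hS using Finset.Nonempty.cons_induction with
  | singleton a => rw [Finset.inf_singleton]; exact hF a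
  | cons a s ha hs ih => rw [Finset.inf_cons]; exact (hF a).inf ih

include hp in
/-- The norm of a relatively ample module is relatively ample. -/
theorem isRelAmple_norm {S : Scheme.{u}} {f : X ⟶ S} {q : Y ⟶ S} (hq : p ≫ q = f)
    (hL : RelAmple.IsRelAmple f L) [QuasiCompact q] (hM : PicF.IsInvertible M)
    (hU : ∀ y, ∃ i, y ∈ U i) (D : Data hp L M U) : RelAmple.IsRelAmple q M := by
  haveI := hp.affine
  refine ⟨inferInstance, fun W => ?_⟩
  let O : Y.Opens := q ⁻¹ᵁ W.1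
  refine (AmpleX.isAmple_restrict_iff O.ι hM).2
    ⟨isCompact_iff_compactSpace.mp (q.isCompact_preimage W.2.isCompact), fun z => ?_⟩
  have hA := hL.2 W
  let j := (f ⁻¹ᵁ W.1).ι
  haveI := AmpleX.isSeparated_of_isAmple hA
  obtain ⟨x, hx⟩ := SGA1Q.surjective hp z.1
  have hfW : ∀ g : G, (ρ g).hom x ∈ f ⁻¹ᵁ W.1 := fun g => by
    show f ((ρ g).hom x) ∈ W.1
    have h1 : p ((ρ g).hom x) = z.1 := (congr($(hp.inv g).base x)).trans hx
    rw [← hq]
    show q (p _) ∈ _
    rw [h1]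
    exact z.2
  obtain ⟨n, s, hs, -, hsa⟩ := AmpleX.exists_finite_nhd hA (U := ⊤)
    (Z := Set.range fun g : G => (⟨(ρ g).hom x, hfW g⟩ : (f ⁻¹ᵁ W.1).toScheme)) (Set.finite_range _)
    (Set.subset_univ _)
  obtain ⟨a, ha⟩ := AmpleX.exists_section_extendable (L := L) j s
  have hle : p ⁻¹ᵁ O ≤ j ''ᵁ ⊤ := by
    rw [Scheme.Opens.ι_image_top]
    subst hq
    exact le_rfl
  let a' := res (CohB1.tensorPow L (n + 1)) hle a
  obtain ⟨t, ht⟩ := (D.pow hp (n + 1)).exists_section hp hU a'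
  have hloc : AmpleX.locus a' = AmpleX.locus a := by
    rw [AmpleX.locus_res, inf_eq_left]
    refine (AmpleX.locus_le a).trans (le_of_eq ?_)
    rw [Scheme.Opens.ι_image_top]
    subst hq
    rfl
  have haff : IsAffineOpen (AmpleX.locus a) := ha ▸ hsa.image_of_isOpenImmersion j
  refine ⟨n + 1, n.succ_pos, res _ (le_of_eq (Scheme.Opens.ι_image_top _)) t, ?_, ?_⟩
  all_goals rw [AmpleX.locus_res, inf_eq_left.2 ((AmpleX.locus_le t).trans (Scheme.Opens.ι_image_top _).ge)]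
  · show z.1 ∈ AmpleX.locus t
    rw [← hx, ht]
    intro g
    rw [hloc, ha]
    exact ⟨_, hs ⟨g, rfl⟩, rfl⟩
  · let F : G → (f ⁻¹ᵁ W.1).toScheme.Opens := fun g => j ⁻¹ᵁ ((ρ g).hom ⁻¹ᵁ AmpleX.locus a)
    have hFle : ∀ g, (ρ g).hom ⁻¹ᵁ AmpleX.locus a ≤ f ⁻¹ᵁ W.1 := fun g w hw => by
      have h1 := AmpleX.locus_le a hw
      rw [Scheme.Opens.ι_image_top] at h1
      show f w ∈ W.1
      rw [← hq]
      show q (p w) ∈ W.1
      rw [← show p ((ρ g).hom w) = p w from congr($(hp.inv g).base w)]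
      show (p ≫ q) ((ρ g).hom w) ∈ W.1
      rw [hq]
      exact h1
    have hFim : ∀ g, j ''ᵁ F g = (ρ g).hom ⁻¹ᵁ AmpleX.locus a := fun g => by
      rw [Scheme.Hom.image_preimage_eq_opensRange_inf, Scheme.Opens.opensRange_ι]
      exact inf_eq_right.2 (hFle g)
    have hFaff : ∀ g, IsAffineOpen (F g) := fun g => by
      rw [← j.isAffineOpen_iff_of_isOpenImmersion, hFim]
      exact haff.preimage (ρ g).hom
    have hpre : p ⁻¹ᵁ AmpleX.locus t = j ''ᵁ (Finset.univ.inf F) := by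
      refine Opens.ext (Set.ext fun w => ?_)
      show p w ∈ AmpleX.locus t ↔ w ∈ j ''ᵁ (Finset.univ.inf F)
      rw [ht]
      simp only [hloc]
      constructor
      · intro h
        have hw : w ∈ f ⁻¹ᵁ W.1 := hFle 1 (h 1)
        refine ⟨⟨w, hw⟩, ?_, rfl⟩
        rw [SetLike.mem_coe, ← SetLike.mem_coe, Opens.coe_finset_inf]
        simp only [Finset.inf_eq_iInf, Finset.mem_univ, iInf_pos, Set.iInf_eq_iInter, Set.mem_iInter]
        exact fun g => h g
      · rintro ⟨w', hw', rfl⟩ g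
        exact (Finset.inf_le (Finset.mem_univ g) : Finset.univ.inf F ≤ F g) hw'
    have hAp : IsAffineOpen (p ⁻¹ᵁ AmpleX.locus t) := by
      rw [hpre]
      exact (isAffineOpen_finsetInf F hFaff Finset.univ_nonempty).image_of_isOpenImmersion j
    haveI : IsAffine (p ⁻¹ᵁ AmpleX.locus t).toScheme := hAp
    have hst := fun g => preimage_le hp g (AmpleX.locus t)
    exact SGA1Q.isAffine_of_isQuot (SGA1Q.isQuot_morphismRestrict hp (AmpleX.locus t)
      (SGA1Q.restrictAction ρ _ hst) (SGA1Q.restrictAction_hom_ι ρ _ hst))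

include hp in
theorem isQuasiProjective {S : Scheme.{u}} [IsLocallyNoetherian S] {f : X ⟶ S} {q : Y ⟶ S}
    (hq : p ≫ q = f) (hf : RelProj.IsQuasiProjective f) : RelProj.IsQuasiProjective q := by
  obtain ⟨hft, hqc, L, hL⟩ := hf
  haveI := SGA1Q.isFinite_of_isQuot hp hq hft
  haveI : QuasiCompact q := SGA1Q.quasiCompact_of_isQuot hp hq hqc
  obtain ⟨U, M, hU, hM, ⟨D⟩⟩ := exists_data hp (AmpleX.isInvertible_of_isRelAmple hL)
  exact ⟨SGA1Q.locallyOfFiniteType_of_isQuot hp hq hft, inferInstance, M,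
    isRelAmple_norm hp hq hL hM (fun y => ⟨y, hU y⟩) D⟩

omit [Fintype G] in
theorem exists_orbit_affine [Finite G] {S : Scheme.{u}} {f : X ⟶ S} (hρ : ∀ σ : G, (ρ σ).hom ≫ f = f)
    {L : X.Modules} (hL : RelAmple.IsRelAmple f L) (x : X) :
    ∃ U : X.Opens, IsAffineOpen U ∧ ∀ g : G, (ρ g).hom.base x ∈ U := by
  obtain ⟨_, ⟨W, hW, rfl⟩, hxW, -⟩ :=
    S.isBasis_affineOpens.exists_subset_of_mem_open (Set.mem_univ (f x)) isOpen_univ
  have hfW : ∀ g : G, (ρ g).hom x ∈ f ⁻¹ᵁ W := fun g => by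
    show f ((ρ g).hom x) ∈ W
    rw [show f ((ρ g).hom x) = f x from congr($(hρ g).base x)]
    exact hxW
  have hA := hL.2 ⟨W, hW⟩
  haveI := AmpleX.isSeparated_of_isAmple hA
  obtain ⟨n, s, hs, -, hsa⟩ := AmpleX.exists_finite_nhd hA (U := ⊤)
    (Z := Set.range fun g : G => (⟨(ρ g).hom x, hfW g⟩ : (f ⁻¹ᵁ W).toScheme)) (Set.finite_range _)
    (Set.subset_univ _)
  exact ⟨_, hsa.image_of_isOpenImmersion (f ⁻¹ᵁ W).ι, fun g => ⟨_, hs ⟨g, rfl⟩, rfl⟩⟩

omit [Fintype G] in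
theorem exists_quotient {S : Scheme.{u}} (f : X ⟶ S) [IsLocallyNoetherian S] [Finite G] (ρ : G →* Aut X)
    (hρ : ∀ σ : G, (ρ σ).hom ≫ f = f) (hf : RelProj.IsQuasiProjective f) :
    ∃ (Y : Scheme.{u}) (q : X ⟶ Y) (h : Y ⟶ S),
      q ≫ h = f ∧ SGA1.IsQuot ρ q ∧ RelProj.IsQuasiProjective h := by
  obtain ⟨-, -, L, hL⟩ := id hf
  obtain ⟨Y, q, hq⟩ := SGA1Q.exists_quotient ρ (exists_orbit_affine hρ hL)
  obtain ⟨h, hh, -⟩ := SGA1Q.desc_existsUnique_isQuot hq f hρ
  haveI := Fintype.ofFinite G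
  exact ⟨Y, q, h, hh, hq, isQuasiProjective hq hh hf⟩

end Groth.Agent.H23.QuotNorm
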