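import Groth.Agent.SGA1Q.Orbits
import Groth.Agent.SGA1Q.GeomTrans
import Groth.Agent.SGA1Q.Residue
import Groth.Agent.MorLib.UnivHomeo
import Groth.Agent.Triage.SchDense
import Mathlib.AlgebraicGeometry.Morphisms.SchemeTheoreticallyDominant
import Mathlib.AlgebraicGeometry.Morphisms.Flat

/-!
Comparison morphisms between quotients by finite groups are universal homeomorphisms.
-/

set_option autoImplicit false

universe u

open CategoryTheory CategoryTheory.Limits AlgebraicGeometry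

namespace Groth.Agent.H23.QuotUH

variable {X Y : Scheme.{u}} {G : Type u} [Group G] [Finite G]

/-- `G` acts transitively on geometric points over the same geometric point of the quotient. -/
theorem geomTrans {ρ : G →* Aut X} {p : X ⟶ Y} (hp : SGA1.IsQuot ρ p) (Ω : Type u) [Field Ω]
    [IsAlgClosed Ω] (τ₁ τ₂ : Spec (CommRingCat.of Ω) ⟶ X) (h : τ₁ ≫ p = τ₂ ≫ p) :
    ∃ g : G, τ₁ ≫ (ρ g).hom = τ₂ :=
  SGA1Q.geomTransitive p ρ hp.inv (fun a b h => (SGA1Q.orbit_iff hp a b).1 h)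
    (fun a => (SGA1Q.normal_and_stabilizer_surjective hp a).1) (fun a σ hσ => by
      obtain ⟨g, e, he⟩ := (SGA1Q.normal_and_stabilizer_surjective hp a).2 σ hσ
      refine ⟨g, ?_⟩
      rw [he, Spec.map_comp, Category.assoc, ← Scheme.Hom.SpecMap_residueFieldMap_fromSpecResidueField]
      congr 1
      rw [← Iso.symm_hom]
      exact (Scheme.residueFieldCongr_fromSpecResidueField e.symm).symm) Ω τ₁ τ₂ h

/-- Field valued points lift along surjective morphisms after an algebraically closed extension. -/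
theorem exists_lift (r : X ⟶ Y) [Surjective r] (K : Type u) [Field K]
    (a : Spec (CommRingCat.of K) ⟶ Y) :
    ∃ (Ω : Type u) (_ : Field Ω) (_ : IsAlgClosed Ω) (ι : Spec (CommRingCat.of Ω) ⟶ Spec (CommRingCat.of K))
      (τ : Spec (CommRingCat.of Ω) ⟶ X), Epi ι ∧ τ ≫ r = ι ≫ a := by
  let P := pullback r a
  obtain ⟨z, -⟩ := (pullback.snd r a).surjective (IsLocalRing.closedPoint K)
  let Ω := AlgebraicClosure (P.residueField z)
  let z' : Spec (CommRingCat.of Ω) ⟶ P :=
    Spec.map (CommRingCat.ofHom (algebraMap (P.residueField z) Ω)) ≫ P.fromSpecResidueField z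
  refine ⟨Ω, inferInstance, inferInstance, z' ≫ pullback.snd r a, z' ≫ pullback.fst r a, ?_, by
    simp only [Category.assoc, pullback.condition]⟩
  obtain ⟨φ, hφ⟩ := Spec.map_surjective (z' ≫ pullback.snd r a)
  rw [← hφ]
  haveI : Surjective (Spec.map φ) := ⟨fun x => ⟨IsLocalRing.closedPoint Ω, Subsingleton.elim _ _⟩⟩
  haveI : Flat (Spec.map φ) := by
    rw [HasRingHomProperty.Spec_iff (P := @Flat)]
    letI := φ.hom.toAlgebra
    exact (inferInstance : Module.Flat K Ω)
  exact Flat.epi_of_flat_of_surjective _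

/-- Universal injectivity of `m` can be tested on geometric points of a surjective cover. -/
theorem universallyInjective_of_lift {Z : Scheme.{u}} (r : X ⟶ Y) [Surjective r] (m : Y ⟶ Z)
    (h : ∀ (Ω : Type u) [Field Ω] [IsAlgClosed Ω] (τ₁ τ₂ : Spec (CommRingCat.of Ω) ⟶ X),
      τ₁ ≫ r ≫ m = τ₂ ≫ r ≫ m → τ₁ ≫ r = τ₂ ≫ r) : UniversallyInjective m := by
  refine ((tfae_universallyInjective m).out 0 1 rfl rfl).mpr fun K _ a b e => ?_
  obtain ⟨Ω₁, _, _, ι₁, τ₁, he₁, h₁⟩ := exists_lift r K a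
  obtain ⟨Ω₂, _, _, ι₂, τ₂, he₂, h₂⟩ := exists_lift r Ω₁ (ι₁ ≫ b)
  have := h Ω₂ (ι₂ ≫ τ₁) τ₂ (by
    rw [Category.assoc, reassoc_of% h₁, reassoc_of% h₂]
    simp only [show a ≫ m = b ≫ m from e])
  rw [Category.assoc, h₁, h₂] at this
  exact (cancel_epi ι₁).1 ((cancel_epi ι₂).1 this)

variable {W : Scheme.{u}} (m : Y ⟶ W)

/-- A morphism out of a quotient that is universally closed and surjective after composition with
the quotient map is a universal homeomorphism as soon as it separates orbits geometrically. -/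
theorem isUnivHomeo {ρ : G →* Aut X} {r : X ⟶ Y} (hr : SGA1.IsQuot ρ r)
    (hc : UniversallyClosed (r ≫ m)) (hs : Surjective (r ≫ m))
    (h : ∀ (Ω : Type u) [Field Ω] [IsAlgClosed Ω] (τ₁ τ₂ : Spec (CommRingCat.of Ω) ⟶ X),
      τ₁ ≫ r ≫ m = τ₂ ≫ r ≫ m → ∃ g : G, τ₁ ≫ (ρ g).hom = τ₂) :
    FlatMor.IsUnivHomeo m := by
  haveI : Surjective r := ⟨SGA1Q.surjective hr⟩
  haveI := hc
  haveI := hs
  haveI : UniversallyClosed m := UniversallyClosed.of_comp_surjective r m
  haveI : Surjective m := Surjective.of_comp r m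
  haveI : UniversallyInjective m := universallyInjective_of_lift r m fun Ω _ _ τ₁ τ₂ e => by
    obtain ⟨g, rfl⟩ := h Ω τ₁ τ₂ e
    rw [Category.assoc, hr.inv g]
  exact MorLib.isUnivHomeo_of_universallyClosed m

theorem baseChange_comparison {X Y S S' Y' : Scheme.{u}} (ρ : G →* Aut X) (f : X ⟶ S)
    (q : X ⟶ Y) (h : Y ⟶ S) (hq : q ≫ h = f) (hquot : SGA1.IsQuot ρ q) (g : S' ⟶ S)
    (ρ' : G →* Aut (pullback f g))
    (hρ' : ∀ σ : G, (ρ' σ).hom ≫ pullback.fst f g = pullback.fst f g ≫ (ρ σ).hom ∧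
      (ρ' σ).hom ≫ pullback.snd f g = pullback.snd f g)
    (r : pullback f g ⟶ Y') (hr : SGA1.IsQuot ρ' r) (m : Y' ⟶ pullback h g)
    (hm : r ≫ m = pullback.map f g h g q (𝟙 S') (𝟙 S)
      ((Category.comp_id f).trans hq.symm) ((Category.comp_id g).trans (Category.id_comp g).symm)) :
    FlatMor.IsUnivHomeo m := by
  haveI : IsIntegralHom q := SGA1Q.isIntegralHom hquot
  haveI : Surjective q := ⟨SGA1Q.surjective hquot⟩
  refine isUnivHomeo m hr ?_ ?_ fun Ω _ _ τ₁ τ₂ e => ?_
  · rw [hm]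
    exact MorphismProperty.pullbackMap (P := @UniversallyClosed) (h₁ := inferInstance)
      (h₂ := inferInstance) hq.symm (Category.id_comp g).symm
  · rw [hm]
    haveI : MorphismProperty.IsStableUnderComposition (@Surjective.{u} : MorphismProperty Scheme.{u}) :=
      ⟨fun f g (_ : Surjective f) (_ : Surjective g) => (inferInstance : Surjective (f ≫ g))⟩
    exact MorphismProperty.pullbackMap (P := @Surjective.{u}) (h₁ := inferInstance)
      (h₂ := inferInstance) hq.symm (Category.id_comp g).symm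
  · have e₁ := congr($e ≫ pullback.fst h g)
    have e₂ := congr($e ≫ pullback.snd h g)
    simp only [hm, Category.assoc, pullback.lift_fst, pullback.lift_snd, Category.comp_id] at e₁ e₂
    obtain ⟨σ, hσ⟩ := geomTrans hquot Ω (τ₁ ≫ pullback.fst f g) (τ₂ ≫ pullback.fst f g)
      (by simpa only [Category.assoc] using e₁)
    exact ⟨σ, pullback.hom_ext
      (by rw [Category.assoc, (hρ' σ).1, ← hσ, Category.assoc])
      (by rw [Category.assoc, (hρ' σ).2, e₂])⟩

theorem closedSubscheme_comparison {X Y Z W : Scheme.{u}} (ρ : G →* Aut X) (q : X ⟶ Y)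
    (hquot : SGA1.IsQuot ρ q) (i : Z ⟶ X) [IsClosedImmersion i] (ρZ : G →* Aut Z)
    (hρZ : ∀ σ : G, (ρZ σ).hom ≫ i = i ≫ (ρ σ).hom) (r : Z ⟶ W) (hr : SGA1.IsQuot ρZ r)
    (m : W ⟶ (i ≫ q).ker.subscheme) (hm : r ≫ m ≫ (i ≫ q).ker.subschemeι = i ≫ q) :
    FlatMor.IsUnivHomeo m ∧ IsSchemeTheoreticallyDominant m := by
  haveI : IsIntegralHom q := SGA1Q.isIntegralHom hquot
  have hrm : r ≫ m = (i ≫ q).toImage := by
    rw [← cancel_mono (i ≫ q).imageι, Scheme.Hom.toImage_imageι, Category.assoc]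
    exact hm
  haveI : UniversallyClosed ((i ≫ q).toImage ≫ (i ≫ q).imageι) := by
    rw [Scheme.Hom.toImage_imageι]; infer_instance
  haveI : UniversallyClosed (i ≫ q).toImage :=
    MorphismProperty.of_postcomp (W := @UniversallyClosed) (W' := @IsSeparated) _ (i ≫ q).imageι
      inferInstance ‹_›
  haveI : Surjective (i ≫ q).toImage := surjective_of_isDominant_of_isClosed_range _
    (i ≫ q).toImage.isClosedMap.isClosed_range
  refine ⟨isUnivHomeo m hr (hrm ▸ inferInstance) (hrm ▸ inferInstance) fun Ω _ _ τ₁ τ₂ e => ?_, ⟨?_⟩⟩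
  · have e₁ := congr($e ≫ (i ≫ q).ker.subschemeι)
    simp only [Category.assoc, hm] at e₁
    obtain ⟨σ, hσ⟩ := geomTrans hquot Ω (τ₁ ≫ i) (τ₂ ≫ i) (by simpa only [Category.assoc] using e₁)
    exact ⟨σ, by rw [← cancel_mono i, Category.assoc, hρZ, ← hσ, Category.assoc]⟩
  · have h0 : (r ≫ m).ker = ⊥ := by
      rw [hrm]
      haveI := Triage.SchDense.isSchemeTheoreticallyDominant_toImage (i ≫ q)
      exact (i ≫ q).toImage.ker_eq_bot
    exact le_bot_iff.1 (h0 ▸ r.le_ker_comp m)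

end Groth.Agent.H23.QuotUH
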