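import Groth.Agent.H23.RatPoint
import Groth.Agent.CDiv6.Factorial
import Groth.Agent.RegLoc6.Normal
import Groth.Agent.GrpSchLib.SmoothRegular
import Groth.Agent.CAlgGlobalDim.RegSeq
import Groth.Agent.VarDim.Fibre
import Groth.Agent.VarDim.Local
import Mathlib.AlgebraicGeometry.Morphisms.UniversallyOpen
import Mathlib.RingTheory.Ideal.KrullsHeightTheorem

/-!
Indeterminacy of rational maps into groups has pure codimension one.
-/

universe u

open CategoryTheory Limits AlgebraicGeometry TopologicalSpace MonoidalCategory CartesianMonoidalCategory IsLocalRing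

open scoped MonObj

namespace Groth.Agent.H23.RatCodim

open RatPoint

/-- Chains between a prime and a prime minimal over it and some elements are short. -/
theorem length_le_card {R : Type u} [CommRing R] [IsNoetherianRing R] {P : Ideal R} [P.IsPrime]
    {s : Finset R} {q : Ideal R} (hq : q ∈ (P ⊔ Ideal.span (s : Set R)).minimalPrimes)
    (l : LTSeries (PrimeSpectrum R)) (hl : P ≤ l.head.asIdeal) (hl' : l.last.asIdeal ≤ q) :
    l.length ≤ s.card := by
  classical
  let f := Ideal.Quotient.mk P
  have hf : Function.Surjective f := Ideal.Quotient.mk_surjective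
  have hcm : ∀ I : Ideal R, P ≤ I → (I.map f).comap f = I := fun I hI => by
    rw [Ideal.comap_map_of_surjective f hf, ← RingHom.ker_eq_comap_bot, Ideal.mk_ker, sup_eq_left.2 hI]
  have hI : ((Ideal.span (s.image f : Set (R ⧸ P))).comap f) = P ⊔ Ideal.span (s : Set R) := by
    rw [Finset.coe_image, ← Ideal.map_span, Ideal.comap_map_of_surjective f hf,
      ← RingHom.ker_eq_comap_bot, Ideal.mk_ker, sup_comm]
  rw [← hI, Ideal.comap_minimalPrimes_eq_of_surjective hf] at hq
  obtain ⟨qb, hqb, rfl⟩ := hq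
  haveI := hqb.1.1
  have hhead : ∀ i, P ≤ (l i).asIdeal := fun i => hl.trans (show l.head ≤ l i from l.head_le i)
  have hker : ∀ i, RingHom.ker f ≤ (l i).asIdeal := fun i => by rw [Ideal.mk_ker]; exact hhead i
  let m : LTSeries (PrimeSpectrum (R ⧸ P)) := LTSeries.mk l.length
    (fun i => ⟨(l i).asIdeal.map f, Ideal.map_isPrime_of_surjective hf (hker i)⟩)
    fun i j hij => lt_iff_le_not_ge.2
      ⟨Ideal.map_mono (show l i ≤ l j from (l.strictMono hij).le), fun h => (l.strictMono hij).not_ge
        (show (l j).asIdeal ≤ (l i).asIdeal by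
          rw [← hcm _ (hhead i), ← hcm _ (hhead j)]
          exact Ideal.comap_mono h)⟩
  have hm : m.last ≤ (⟨qb, inferInstance⟩ : PrimeSpectrum (R ⧸ P)) :=
    Ideal.map_le_iff_le_comap.2 hl'
  have h1 : (l.length : ℕ∞) ≤ qb.height := by
    have := Order.length_le_height (p := m) hm
    rwa [← PrimeSpectrum.height_eq_orderHeight] at this
  have h2 := Ideal.height_le_card_of_mem_minimalPrimes_span_finset hqb
  exact_mod_cast h1.trans (h2.trans (Nat.cast_le.2 Finset.card_image_le))

section Deg

variable {K : Type u} [Field K] {P : Scheme.{u}} (f : P ⟶ Spec (CommRingCat.of K)) [LocallyOfFiniteType f]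

/-- There are long chains between points of different dimensions. -/
theorem exists_series (c : P) : ∀ (n : ℕ) (q q' : PrimeSpectrum (P.presheaf.stalk c)), q ≤ q' →
    VarDim.deg f (P.fromSpecStalk c q) = VarDim.deg f (P.fromSpecStalk c q') + n →
    ∃ l : LTSeries (PrimeSpectrum (P.presheaf.stalk c)), l.head = q ∧ l.last ≤ q' ∧ l.length = n := by
  intro n
  induction n with
  | zero => exact fun q q' h _ => ⟨RelSeries.singleton _ q, rfl, h, rfl⟩
  | succ n ih =>
    intro q q' h hdeg
    let jm : PrimeSpectrum (P.presheaf.stalk c) → P := fun r => P.fromSpecStalk c r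
    have hjm : Topology.IsInducing jm := (P.fromSpecStalk c).isEmbedding.isInducing
    have hmono : ∀ {r r'}, r ≤ r' ↔ jm r ⤳ jm r' := fun {r r'} =>
      (PrimeSpectrum.le_iff_specializes r r').trans hjm.specializes_iff.symm
    have hinj : Function.Injective jm := (P.fromSpecStalk c).isEmbedding.injective
    have hne : q ≠ q' := fun e => by subst e; omega
    classical
    have hex : ∃ m, ∃ r, q < r ∧ r ≤ q' ∧ VarDim.deg f (jm q) = VarDim.deg f (jm r) + (m + 1) :=
      ⟨n, q', lt_of_le_of_ne h hne, le_rfl, hdeg⟩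
    obtain ⟨r, hqr, hrq', hm⟩ := Nat.find_spec hex
    have himm : VarDim.deg f (jm q) = VarDim.deg f (jm r) + 1 := by
      refine VarDim.deg_of_immediate f (fun e => hqr.ne (hinj e)) (hmono.1 hqr.le) fun y hy hy' => ?_
      obtain ⟨w, rfl⟩ : y ∈ Set.range jm := by
        have : jm r ⤳ c := by
          have : jm r ∈ Set.range (P.fromSpecStalk c) := ⟨r, rfl⟩
          rwa [Scheme.range_fromSpecStalk] at this
        show y ∈ Set.range (P.fromSpecStalk c)
        rw [Scheme.range_fromSpecStalk]
        exact hy'.trans this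
      by_contra hcon
      push Not at hcon
      have h1 : q < w := lt_of_le_of_ne (hmono.2 hy) fun e => hcon.1 (e ▸ rfl)
      have h2 : w < r := lt_of_le_of_ne (hmono.2 hy') fun e => hcon.2 (e ▸ rfl)
      have hle : VarDim.deg f (jm w) ≤ VarDim.deg f (jm q) := VarDim.deg_le_of_specializes f hy
      have hlt : VarDim.deg f (jm w) ≠ VarDim.deg f (jm q) := fun e =>
        hcon.1 (VarDim.eq_of_specializes_of_deg_le f hy e.ge).symm
      have hwr : VarDim.deg f (jm r) < VarDim.deg f (jm w) := by
        have := VarDim.deg_le_of_specializes f hy'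
        have : VarDim.deg f (jm r) ≠ VarDim.deg f (jm w) := fun e =>
          hcon.2 (VarDim.eq_of_specializes_of_deg_le f hy' e.ge)
        omega
      have := Nat.find_min' hex (m := VarDim.deg f (jm q) - VarDim.deg f (jm w) - 1)
        ⟨w, h1, (h2.le.trans hrq'), by omega⟩
      omega
    obtain ⟨l, hl0, hl1, hl2⟩ := ih r q' hrq' (by
      show VarDim.deg f (jm r) = VarDim.deg f (jm q') + n
      change VarDim.deg f (jm q) = _ at hdeg
      rw [himm] at hdeg
      change _ = VarDim.deg f (jm q') + (n + 1) at hdeg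
      omega)
    exact ⟨l.cons q (show q < l.head from hl0 ▸ hqr), RelSeries.head_cons _ _ _,
      (RelSeries.last_cons _ _ _).symm ▸ hl1, by simp [hl2]⟩

theorem deg_le_add_card (c : P) (q q' : PrimeSpectrum (P.presheaf.stalk c)) [IsLocallyNoetherian P]
    (s : Finset (P.presheaf.stalk c))
    (hq : q'.asIdeal ∈ (q.asIdeal ⊔ Ideal.span (s : Set (P.presheaf.stalk c))).minimalPrimes) :
    VarDim.deg f (P.fromSpecStalk c q) ≤ VarDim.deg f (P.fromSpecStalk c q') + s.card := by
  have hle : q ≤ q' := le_sup_left.trans hq.1.2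
  have hd : VarDim.deg f (P.fromSpecStalk c q') ≤ VarDim.deg f (P.fromSpecStalk c q) :=
    VarDim.deg_le_of_specializes f
      (((PrimeSpectrum.le_iff_specializes q q').1 hle).map (P.fromSpecStalk c).continuous)
  obtain ⟨l, h0, h1, h2⟩ := exists_series f c _ q q' hle
    (show VarDim.deg f (P.fromSpecStalk c q) = VarDim.deg f (P.fromSpecStalk c q') +
      (VarDim.deg f (P.fromSpecStalk c q) - VarDim.deg f (P.fromSpecStalk c q')) by omega)
  have := length_le_card hq l (h0 ▸ le_rfl) h1
  omega

theorem deg_genericPoint [IsIntegral P] (x : P) {b : ℕ} (hb : ringKrullDim (P.presheaf.stalk x) = b) :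
    VarDim.deg f (genericPoint P) = VarDim.deg f x + b := by
  obtain ⟨b', hb', ⟨g0, hg0, hdeg⟩, hle⟩ := VarDim.exists_deg_add_stalk f x
  have : (b' : ℕ) = b := by
    rw [hb] at hb'
    exact_mod_cast hb'.symm
  subst this
  refine le_antisymm (hle _ (genericPoint_specializes x)) ?_
  rw [← hdeg]
  exact VarDim.deg_le_of_specializes f (genericPoint_specializes g0)

end Deg

section Main

variable {K : Type u} [Field K] {X G : Over (Spec (CommRingCat.of K))} [Smooth X.hom] [IsSeparated X.hom]
  [IsIntegral X.left] [IsIntegral (X ⊗ X).left] [GrpObj G] [IsSeparated G.hom]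

/-- Indeterminacy has pure codimension one. -/
theorem exists_codimOne (φ : gen X ⟶ G) (x : X.left) (hx : ¬ DefAt φ x) :
    ∃ y : X.left, y ⤳ x ∧ ringKrullDim (X.left.presheaf.stalk y) = 1 ∧ ¬ DefAt φ y := by
  have : G.left.IsSeparated :=
    ⟨by rw [← terminal.comp_from G.hom]; exact inferInstance⟩
  have hPhom : (X ⊗ X).hom = pullback.fst X.hom X.hom ≫ X.hom := rfl
  have : Smooth (X ⊗ X).hom := by rw [hPhom]; infer_instance
  have : IsLocallyNoetherian (X ⊗ X).left := LocallyOfFiniteType.isLocallyNoetherian (X ⊗ X).hom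
  have : IsLocallyNoetherian X.left := LocallyOfFiniteType.isLocallyNoetherian X.hom
  have hN : Pi1.IsNormalScheme (X ⊗ X).left := fun p => by
    have := GrpSchLib.isRegularLocalRing_stalk_of_smooth (X ⊗ X).hom p
    exact ⟨inferInstance, RegLoc6.isIntegrallyClosed_of_isRegularLocalRing _⟩
  let D : X ⟶ X ⊗ X := lift (𝟙 X) (𝟙 X)
  have h₁ : D ≫ fst X X = 𝟙 X := lift_fst _ _
  have h₂ : D ≫ snd X X = 𝟙 X := lift_snd _ _
  have hD₁ : ∀ y, (fst X X).left (D.left y) = y := fun y =>
    congrArg (fun π : X ⟶ X => π.left y) h₁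
  have hD₂ : ∀ y, (snd X X).left (D.left y) = y := fun y =>
    congrArg (fun π : X ⟶ X => π.left y) h₂
  have : IsSeparated (fst X X).left := inferInstanceAs (IsSeparated (pullback.fst X.hom X.hom))
  have : IsClosedImmersion (D.left ≫ (fst X X).left) := by
    rw [show D.left ≫ (fst X X).left = 𝟙 X.left from congrArg CommaMorphism.left h₁]
    infer_instance
  have : IsClosedImmersion D.left := IsClosedImmersion.of_comp D.left (fst X X).left
  have hp₁ : (fst X X).left (genericPoint (X ⊗ X).left) ⤳ genericPoint X.left := by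
    have := (genericPoint_specializes (D.left (genericPoint X.left))).map (fst X X).left.continuous
    rwa [hD₁] at this
  have hp₂ : (snd X X).left (genericPoint (X ⊗ X).left) ⤳ genericPoint X.left := by
    have := (genericPoint_specializes (D.left (genericPoint X.left))).map (snd X X).left.continuous
    rwa [hD₂] at this
  let F : gen (X ⊗ X) ⟶ G := pull (fst X X) hp₁ φ * (pull (snd X X) hp₂ φ)⁻¹
  let e : G.left := (η : 𝟙_ (Over (Spec (CommRingCat.of K))) ⟶ G).left (closedPoint K)
  obtain ⟨W, hW, heW, -⟩ := exists_isAffineOpen_mem_and_subset (x := e) (U := ⊤) trivial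
  -- the ratio near the diagonal
  have hgd : ∀ y, DefAt φ y → ∃ g : spO (X ⊗ X) (D.left y) ⟶ G,
      res (genericPoint_specializes _) ≫ g = F ∧ g.left (spt _ _) = e := by
    intro y hy
    obtain ⟨g₁, hg₁⟩ : DefAt φ ((fst X X).left (D.left y)) := by rw [hD₁]; exact hy
    obtain ⟨g₂, hg₂⟩ : DefAt φ ((snd X X).left (D.left y)) := by rw [hD₂]; exact hy
    refine ⟨(stk (fst X X) _ ≫ g₁) * (stk (snd X X) _ ≫ g₂)⁻¹, ?_, ?_⟩
    · rw [MonObj.comp_mul, GrpObj.comp_inv, res_stk_eq _ hp₁ φ _ g₁ hg₁, res_stk_eq _ hp₂ φ _ g₂ hg₂]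
    · have h := congrArg (fun g : spO X y ⟶ G => g.left (spt X y))
        (ratio_spt D (fst X X) (snd X X) h₁ h₂ φ y g₁ g₂ hg₁ hg₂)
      simp only [Over.comp_left, Scheme.Hom.comp_apply, res_spt_stk] at h
      refine h.trans ((one_apply _).trans ?_)
      exact congrArg _ (Subsingleton.elim _ _)
  obtain ⟨g₀, hg₀, he₀⟩ := hgd _ (defAt_gen φ)
  have hF : Set.range F.left ⊆ W := range_gen_subset g₀ hg₀ (he₀ ▸ heW)
  let c := D.left x
  by_cases hFc : DefAt F c
  · -- descend
    exfalso
    let r := X.left.fromSpecResidueField x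
    have : Flat (r ≫ X.hom) := inferInstance
    let Fib := pullback (r ≫ X.hom) X.hom
    let jm : Fib ⟶ (X ⊗ X).left :=
      pullback.lift (pullback.fst _ _ ≫ r) (pullback.snd _ _) (by rw [Category.assoc]; exact pullback.condition)
    let s : Spec (X.left.residueField x) ⟶ Fib := pullback.lift (𝟙 _) r (Category.id_comp _)
    have hsjm : s ≫ jm = r ≫ D.left := by
      apply pullback.hom_ext
      · simp only [s, jm, Category.assoc, pullback.lift_fst, pullback.lift_fst_assoc, Category.id_comp]
        exact ((congrArg (r ≫ ·) (congrArg CommaMorphism.left h₁)).trans (Category.comp_id r)).symm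
      · simp only [s, jm, Category.assoc, pullback.lift_snd, pullback.lift_snd_assoc]
        exact ((congrArg (r ≫ ·) (congrArg CommaMorphism.left h₂)).trans (Category.comp_id r)).symm
    let t := closedPoint (X.left.residueField x)
    have hr : ∀ q, r q = x := fun q => by
      have : r q ∈ Set.range r := ⟨q, rfl⟩
      rwa [Scheme.range_fromSpecResidueField] at this
    obtain ⟨z', hz', hz'η⟩ := Flat.generalizingMap (pullback.snd (r ≫ X.hom) X.hom)
      (show genericPoint X.left ⤳ pullback.snd (r ≫ X.hom) X.hom (s t) from genericPoint_specializes _)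
    have hzc : jm z' ⤳ c := by
      have hst : jm (s t) = c := by
        rw [← Scheme.Hom.comp_apply, hsjm, Scheme.Hom.comp_apply, hr]
      exact hst ▸ hz'.map jm.continuous
    have hz₁ : (fst X X).left (jm z') = x := by
      show (jm ≫ pullback.fst X.hom X.hom) z' = x
      rw [pullback.lift_fst, Scheme.Hom.comp_apply, hr]
    have hz₂ : (snd X X).left (jm z') = genericPoint X.left := by
      show (jm ≫ pullback.snd X.hom X.hom) z' = _
      rw [pullback.lift_snd]
      exact hz'η
    have hFz := hFc.generalize hzc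
    have hφ₂ : DefAt (pull (snd X X) hp₂ φ) (jm z') :=
      DefAt.pull _ hp₂ (by rw [hz₂]; exact defAt_gen φ)
    have hφ₁ : DefAt (pull (fst X X) hp₁ φ) (jm z') := by
      have := hFz.mul hφ₂
      rwa [inv_mul_cancel_right] at this
    have : Flat (fst X X).left := inferInstanceAs (Flat (pullback.fst X.hom X.hom))
    exact hx (hz₁ ▸ defAt_of_pull _ hp₁ hφ₁)
  -- a pole
  obtain ⟨a, ha⟩ := not_forall.1 fun h => hFc (defAt_of_coord hW hF c h)
  set a' := coord hW F hF a
  have ha0 : a' ≠ 0 := fun h => ha ⟨0, by rw [map_zero, h]⟩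
  obtain ⟨y', hy', hy'1, hpole⟩ : ∃ y', y' ⤳ c ∧ Order.coheight y' = 1 ∧ ¬ CDiv6.Reg y' a' := by
    by_contra h
    push Not at h
    exact ha (CDiv6.reg_of_forall_ord_nonneg hN ha0 fun y' hy' h1 =>
      CDiv6.reg_ord_nonneg ha0 (h y' hy' h1))
  have hkey : ∀ y, DefAt φ y → ¬ y' ⤳ D.left y := by
    intro y hy hsp
    obtain ⟨g, hg, he⟩ := hgd y hy
    obtain ⟨b, hb⟩ := coord_mem hW hF g hg (he ▸ heW) a
    exact hpole ⟨_, (CDiv6.algebraMap_specializes hsp b).trans hb⟩
  let R := (X ⊗ X).left.presheaf.stalk c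
  let A := X.left.presheaf.stalk x
  let δ : R →+* A := (D.left.stalkMap x).hom
  have hδ : Function.Surjective δ := D.left.stalkMap_surjective x
  haveI : IsRegularLocalRing R := GrpSchLib.isRegularLocalRing_stalk_of_smooth (X ⊗ X).hom c
  haveI : IsRegularLocalRing A := GrpSchLib.isRegularLocalRing_stalk_of_smooth X.hom x
  haveI : IsRegularLocalRing (R ⧸ RingHom.ker δ) :=
    IsRegularLocalRing.of_ringEquiv (RingHom.quotientKerEquivOfSurjective hδ).symm
  obtain ⟨d, hd, -⟩ := VarDim.exists_deg_add_stalk (X ⊗ X).hom c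
  obtain ⟨dA, hdA, -⟩ := VarDim.exists_deg_add_stalk X.hom x
  obtain ⟨gens, n, hn, hgens, hker⟩ := CAlgGlobalDim.exists_extend R d hd (RingHom.ker δ)
  classical
  have hbound : dA + n ≤ d := by
    let img : Fin (d - n) → A := fun j => δ (gens ⟨n + j.1, by omega⟩)
    have hspan : maximalIdeal A ≤ Ideal.span (Set.range img) := by
      have hmax : (maximalIdeal R).map δ = maximalIdeal A :=
        IsLocalRing.map_maximalIdeal_of_surjective δ hδ
      rw [← hmax, ← hgens, Ideal.map_span, Ideal.span_le]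
      rintro _ ⟨_, ⟨i, rfl⟩, rfl⟩
      by_cases hi : i.1 < n
      · have : gens i ∈ RingHom.ker δ := hker ▸ Ideal.subset_span ⟨⟨i.1, hi⟩, rfl⟩
        rw [RingHom.mem_ker.1 this]
        exact zero_mem _
      · refine Ideal.subset_span ⟨⟨i.1 - n, by omega⟩, ?_⟩
        show δ (gens ⟨n + (i.1 - n), _⟩) = δ (gens i)
        congr 2
        ext
        show n + (i.1 - n) = i.1
        omega
    have hge : Ideal.span (Set.range img) ≤ maximalIdeal A := by
      rw [Ideal.span_le]
      rintro _ ⟨j, rfl⟩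
      rw [← IsLocalRing.map_maximalIdeal_of_surjective δ hδ]
      exact Ideal.mem_map_of_mem δ (hgens ▸ Ideal.subset_span ⟨_, rfl⟩)
    have h1 := CAlgGlobalDim.spanFinrank_eq_of_dim A dA hdA
    rw [le_antisymm hspan hge] at h1
    have h2 := Submodule.spanFinrank_span_le_ncard_of_finite (R := A) (Set.finite_range img)
    have h3 : (Set.range img).ncard ≤ d - n := by
      rw [← Set.image_univ]
      exact (Set.ncard_image_le (Set.finite_univ)).trans (by simp)
    rw [Ideal.span] at h1
    omega
  let s : Finset R := Finset.univ.image fun i : Fin n => gens (Fin.castLE hn i)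
  have hs : Ideal.span (s : Set R) = RingHom.ker δ := by
    rw [hker, Finset.coe_image, Finset.coe_univ, Set.image_univ]
  let q₀ := CDiv6.primeOf hy'
  have hne : q₀.asIdeal ⊔ Ideal.span (s : Set R) ≤ maximalIdeal R :=
    sup_le (IsLocalRing.le_maximalIdeal q₀.isPrime.ne_top)
      (hs ▸ IsLocalRing.le_maximalIdeal (RingHom.ker_ne_top δ))
  haveI := (maximalIdeal.isMaximal R).isPrime
  obtain ⟨q, hq, -⟩ := Ideal.exists_minimalPrimes_le hne
  haveI := hq.1.1
  have hkerq : RingHom.ker δ ≤ q := hs ▸ le_sup_right.trans hq.1.2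
  haveI : (q.map δ).IsPrime := Ideal.map_isPrime_of_surjective hδ hkerq
  let qA : PrimeSpectrum A := ⟨q.map δ, inferInstance⟩
  have hqA : PrimeSpectrum.comap δ qA = ⟨q, inferInstance⟩ := by
    ext1
    show (q.map δ).comap δ = q
    rw [Ideal.comap_map_of_surjective δ hδ, ← RingHom.ker_eq_comap_bot, sup_eq_left.2 hkerq]
  let y := X.left.fromSpecStalk x qA
  have hDy : D.left y = (X ⊗ X).left.fromSpecStalk c ⟨q, inferInstance⟩ := by
    rw [← hqA]
    exact (congrArg (fun m => m qA) (Scheme.SpecMap_stalkMap_fromSpecStalk D.left (x := x))).symm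
  have hyx : y ⤳ x := CDiv6.fromSpecStalk_specializes qA
  have hy'y : y' ⤳ D.left y := by
    rw [hDy, ← CDiv6.fromSpecStalk_primeOf hy']
    exact ((PrimeSpectrum.le_iff_specializes q₀ ⟨q, inferInstance⟩).1
      (le_sup_left.trans hq.1.2)).map ((X ⊗ X).left.fromSpecStalk c).continuous
  refine ⟨y, hyx, ?_, fun h => hkey y h hy'y⟩
  have hdeg := deg_le_add_card (X ⊗ X).hom c q₀ ⟨q, inferInstance⟩ s hq
  rw [CDiv6.fromSpecStalk_primeOf hy', ← hDy] at hdeg
  have hcard : s.card ≤ n := Finset.card_image_le.trans (by simp)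
  have hDdeg : ∀ p, VarDim.deg (X ⊗ X).hom (D.left p) = VarDim.deg X.hom p := fun p => by
    refine le_antisymm (VarDim.deg_map_le D.left (X ⊗ X).hom (Over.w D) p) ?_
    have := VarDim.deg_map_le (fst X X).left X.hom (Over.w (fst X X)) (D.left p)
    rwa [hD₁] at this
  have e1 := deg_genericPoint (X ⊗ X).hom y' (b := 1) (by rw [ringKrullDim_stalk_eq_coheight, hy'1]; rfl)
  have e2 := deg_genericPoint (X ⊗ X).hom c hd
  have e3 := deg_genericPoint X.hom x hdA
  obtain ⟨b, hb, -⟩ := VarDim.exists_deg_add_stalk X.hom y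
  have e4 := deg_genericPoint X.hom y hb
  rw [hDdeg] at hdeg
  rw [show c = D.left x from rfl, hDdeg] at e2
  have hy0 : VarDim.deg X.hom y ≠ VarDim.deg X.hom (genericPoint X.left) := fun e =>
    hkey y ((VarDim.eq_of_specializes_of_deg_le X.hom (genericPoint_specializes y) e.ge) ▸ defAt_gen φ) hy'y
  have : b = 1 := by omega
  rw [hb, this]
  rfl

end Main

end Groth.Agent.H23.RatCodim
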