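import Groth.Agent.H23.RatLine
import Groth.Agent.CycLib.CurveDeg
import Groth.Agent.AmpleX.SemiAmple
import Groth.Agent.AmpleX.RelAffine
import Groth.Agent.Approx.UCAffine
import Groth.Agent.HyperplaneLib.Sections
import Mathlib.Topology.JacobsonSpace

/-!
# Points on rational curves meeting a connected ample rational curve are rationally equivalent
-/

set_option autoImplicit false
set_option linter.style.haveILetI false
set_option backward.isDefEq.respectTransparency false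
set_option backward.isDefEq.respectTransparency.types false
set_option maxHeartbeats 1000000

universe u

open CategoryTheory AlgebraicGeometry TopologicalSpace

noncomputable section

namespace Groth.Agent.H23.RatCurves

open Groth.Agent Groth.Agent.H23.RatLine

variable {k : Type u} [Field k] {X : Scheme.{u}} (f : X ⟶ Spec (CommRingCat.of k))

theorem genericPoint_mem_genLocus [IsIntegral X] {L : X.Modules} (hL : PicF.IsInvertible L)
    (s : Coh.structureModule X ⟶ L) (hs : s ≠ 0) : genericPoint X ∈ CohB1.genLocus L s := by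
  refine ((genericPoint_spec X).mem_open_set_iff (CohB1.genLocus L s).2).2 ?_
  rw [Set.univ_inter]
  by_contra hne
  refine hs (HyperplaneLib.eq_zero_of_secVal s ?_)
  have hbot : CohB1.genLocus L s = ⊥ := SetLike.coe_injective (Set.not_nonempty_iff_eq_empty.1 hne)
  rw [AmpleX.genLocus_eq_locus] at hbot
  exact AmpleX.eq_zero_of_locus_eq_bot hL _ hbot

theorem isAffine_genLocus [IsProper f] {L : X.Modules} (hL : CohB1.IsAmple L) (s : Coh.structureModule X ⟶ L) :
    IsAffine (CohB1.genLocus L s).toScheme := by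
  haveI := hL.2.1
  have hrel : RelAmple.IsRelAmple f L := AmpleX.isRelAmple_of_ampleOn fun x =>
    ⟨⊤, X, 𝟙 X, inferInstance, trivial, by rw [Scheme.Hom.opensRange_of_isIso]; exact le_top,
      AmpleX.isAmple_of_iso ((Scheme.Modules.restrictFunctorId (X := X)).app L).symm hL⟩
  haveI := Approx.UCAffine.isAffineHom_genLocus f L hrel s
  exact isAffine_of_isAffineHom ((CohB1.genLocus L s).ι ≫ f)

/-- A non-constant proper integral curve meets the zero set of a section of an ample module. -/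
theorem exists_mem_compl [IsProper f] {L : X.Modules} (hL : CohB1.IsAmple L) (s : Coh.structureModule X ⟶ L)
    {Y : Scheme.{u}} [IsIntegral Y] (c : Y ⟶ Spec (CommRingCat.of k)) [IsProper c]
    (g : Y ⟶ X) (hg : (Set.range g).Nontrivial) :
    ∃ z, z ∈ Set.range g ∧ z ∈ ((CohB1.genLocus L s : Set X))ᶜ := by
  by_contra hne
  push Not at hne
  let U := CohB1.genLocus L s
  haveI : IsAffine U.toScheme := isAffine_genLocus f hL s
  have hsub : Set.range g ⊆ Set.range U.ι := by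
    rw [Scheme.Opens.range_ι]
    intro z hz
    by_contra h
    exact hne z hz h
  let g' := IsOpenImmersion.lift U.ι g hsub
  letI := (isField_of_universallyClosed k c).toField
  have hfac : g = (Y.toSpecΓ ≫ Spec.map g'.appTop ≫ U.toScheme.isoSpec.inv) ≫ U.ι := by
    rw [← Scheme.toSpecΓ_naturality_assoc, Scheme.toSpecΓ_isoSpec_inv, Category.comp_id,
      IsOpenImmersion.lift_fac]
  haveI : Subsingleton ↥(Spec Γ(Y, ⊤)) := FibDim.subsingleton_spec_field Γ(Y, ⊤)
  obtain ⟨p, ⟨a, rfl⟩, q, ⟨b, rfl⟩, hpq⟩ := hg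
  refine hpq ?_
  rw [hfac]
  simp only [Scheme.Hom.comp_apply]
  rw [Subsingleton.elim (Y.toSpecΓ a) (Y.toSpecΓ b)]

variable [IsAlgClosed k] {δ : X → ℤ} (hδ : Cyc.DeltaCompat f δ (fun _ => 0))

include hδ in
/-- Closed points on one rational curve are rationally equivalent. -/
theorem ratEquiv_on_curve [IsProper f] (g : CohB1.ProjSpace 1 k ⟶ X) (hg : g ≫ f = CohB1.ProjSpace.toSpec 1 k)
    {p q : X} (hp : IsClosed ({p} : Set X)) (hq : IsClosed ({q} : Set X)) (hpg : p ∈ Set.range g)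
    (hqg : q ∈ Set.range g) : Cyc.RatEquiv δ 0 (pc p) (pc q) := by
  classical
  haveI := RatLine.isProper_toSpec k
  haveI : IsProper (g ≫ f) := hg ▸ inferInstance
  haveI : IsProper g := IsProper.of_comp g f
  haveI : CompactSpace (CohB1.ProjSpace 1 k) := QuasiCompact.compactSpace_of_compactSpace (CohB1.ProjSpace.toSpec 1 k)
  let δP : CohB1.ProjSpace 1 k → ℤ := fun a => (FibDim.rd (CohB1.ProjSpace.toSpec 1 k) a : ℤ)
  have hδP : Cyc.DeltaCompat (CohB1.ProjSpace.toSpec 1 k) δP (fun _ => 0) :=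
    CycLib.deltaCompat_rd (CohB1.ProjSpace.toSpec 1 k)
  have hX : Cyc.IsSetup X δ := SetupLFT.isSetup f (CycLib.isSetup_spec_field k) hδ
  have hP : Cyc.IsSetup (CohB1.ProjSpace 1 k) δP := SetupLFT.isSetup _ (CycLib.isSetup_spec_field k) hδP
  have hcomp : Cyc.DeltaCompat g δP δ := CycLib.deltaCompat_of_comp g f hδ (CohB1.ProjSpace.toSpec 1 k) hg.symm
  have hlift : ∀ {z : X}, IsClosed ({z} : Set X) → z ∈ Set.range g →
      ∃ a, IsClosed ({a} : Set (CohB1.ProjSpace 1 k)) ∧ g a = z := fun {z} hz ⟨a, ha⟩ => by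
    obtain ⟨b, hb, hbc⟩ := IsClosed.exists_closed_singleton (hz.preimage g.continuous) ⟨a, ha⟩
    exact ⟨b, hbc, hb⟩
  have hmap : ∀ a, IsClosed ({a} : Set (CohB1.ProjSpace 1 k)) → IsClosed ({g a} : Set X) →
      AlgebraicCycle.map g δP δ (pc a) = pc (g a) := fun a ha hga => by
    refine Function.locallyFinsuppWithin.ext fun z => ?_
    have h1 := delta_closed (CohB1.ProjSpace.toSpec 1 k) hδP ha
    have h2 := delta_closed f hδ hga
    have hdeg : g.residueDegree a = 1 := by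
      have h := residueDegree_closed (CohB1.ProjSpace.toSpec 1 k) hδP h1
      rw [← hg, CycLib.residueDegree_comp, residueDegree_closed f hδ h2] at h
      simpa using h
    rw [CycLib.map_apply', pc_apply]
    by_cases hz : z = g a
    · subst hz
      rw [if_pos rfl, finsum_mem_def, finsum_eq_single _ a fun b hb => ?_]
      · rw [Set.indicator_of_mem (show a ∈ g ⁻¹' {g a} from rfl), pc_apply, if_pos rfl,
          AlgebraicCycle.mapCoeff, if_pos (h1.trans h2.symm), hdeg]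
        rfl
      · by_cases hb' : b ∈ g ⁻¹' {g a}
        · rw [Set.indicator_of_mem hb', pc_apply, if_neg hb, zero_mul]
        · exact Set.indicator_of_notMem hb' _
    · rw [if_neg hz]
      refine finsum_mem_eq_zero_of_forall_eq_zero fun b hb => ?_
      rw [pc_apply, if_neg (fun h => hz (by rw [← h]; exact (hb : g b = z).symm)), zero_mul]
  obtain ⟨a, ha, rfl⟩ := hlift hp hpg
  obtain ⟨b, hb, rfl⟩ := hlift hq hqg
  rw [← hmap a ha hp, ← hmap b hb hq]
  exact CycLib.ratEquiv_map g hP hX hcomp (RatLine.ratEquiv_points hδP ha hb)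

include hδ in
/-- The theorem on points on rational curves. -/
theorem ratEquiv_pc [IsProper f] [IsIntegral X] (hdim : topologicalKrullDim X ≤ 2) {L : X.Modules}
    (hL : CohB1.IsAmple L) (s : Coh.structureModule X ⟶ L) (hs : s ≠ 0)
    (hconn : _root_.IsConnected ((CohB1.genLocus L s : Set X)ᶜ))
    (hrat : ∀ h ∈ ((CohB1.genLocus L s : Set X)ᶜ), IsClosed ({h} : Set X) →
      ∃ g : CohB1.ProjSpace 1 k ⟶ X, g ≫ f = CohB1.ProjSpace.toSpec 1 k ∧ (Set.range ⇑g).Nontrivial ∧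
        h ∈ Set.range ⇑g ∧ Set.range ⇑g ⊆ (CohB1.genLocus L s : Set X)ᶜ)
    {x y : X} (hx : IsClosed ({x} : Set X)) (hy : IsClosed ({y} : Set X))
    (hxr : ∃ g : CohB1.ProjSpace 1 k ⟶ X, g ≫ f = CohB1.ProjSpace.toSpec 1 k ∧ (Set.range ⇑g).Nontrivial ∧ x ∈ Set.range ⇑g)
    (hyr : ∃ g : CohB1.ProjSpace 1 k ⟶ X, g ≫ f = CohB1.ProjSpace.toSpec 1 k ∧ (Set.range ⇑g).Nontrivial ∧ y ∈ Set.range ⇑g) :
    Cyc.RatEquiv δ 0 (pc x) (pc y) := by
  classical
  haveI := hL.2.1
  haveI : IsLocallyNoetherian X := LocallyOfFiniteType.isLocallyNoetherian f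
  haveI : IsNoetherian X := ⟨⟩
  haveI : JacobsonSpace X := LocallyOfFiniteType.jacobsonSpace f
  haveI := RatLine.isProper_toSpec k
  haveI := H23.PnChart.isIntegral_projSpace 1 k
  haveI : CompactSpace (CohB1.ProjSpace 1 k) := QuasiCompact.compactSpace_of_compactSpace (CohB1.ProjSpace.toSpec 1 k)
  have hX : Cyc.IsSetup X δ := SetupLFT.isSetup f (CycLib.isSetup_spec_field k) hδ
  let H : Set X := (CohB1.genLocus L s : Set X)ᶜ
  have hHc : IsClosed H := (CohB1.genLocus L s).2.isClosed_compl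
  have hclosed : ∀ g : CohB1.ProjSpace 1 k ⟶ X, g ≫ f = CohB1.ProjSpace.toSpec 1 k →
      IsClosed (Set.range g) ∧ IsIrreducible (Set.range g) := fun g hg => by
    haveI : IsProper (g ≫ f) := hg ▸ inferInstance
    haveI : IsProper g := IsProper.of_comp g f
    refine ⟨g.isClosedMap.isClosed_range, ?_⟩
    rw [← Set.image_univ]
    exact (IrreducibleSpace.isIrreducible_univ _).image g g.continuous.continuousOn
  have hmeet : ∀ {z : X}, IsClosed ({z} : Set X) →
      (∃ g : CohB1.ProjSpace 1 k ⟶ X, g ≫ f = CohB1.ProjSpace.toSpec 1 k ∧ (Set.range ⇑g).Nontrivial ∧ z ∈ Set.range ⇑g) →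
      ∃ h ∈ H, IsClosed ({h} : Set X) ∧ Cyc.RatEquiv δ 0 (pc z) (pc h) := by
    rintro z hz ⟨g, hg, hnt, hzg⟩
    obtain ⟨w, hw, hwH⟩ := exists_mem_compl f hL s (CohB1.ProjSpace.toSpec 1 k) g hnt
    obtain ⟨h, hh, hhc⟩ := IsClosed.exists_closed_singleton ((hclosed g hg).1.inter hHc) ⟨w, hw, hwH⟩
    exact ⟨h, hh.2, hhc, ratEquiv_on_curve f hδ g hg hz hhc hzg hh.1⟩
  obtain ⟨h₀, hh₀, hh₀c, hxh⟩ := hmeet hx hxr
  obtain ⟨h₁, hh₁, hh₁c, hyh⟩ := hmeet hy hyr
  suffices key : ∀ h ∈ H, IsClosed ({h} : Set X) → Cyc.RatEquiv δ 0 (pc h₀) (pc h) from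
    H23.Chern.trans' hX hxh (H23.Chern.trans' hX (key h₁ hh₁ hh₁c) (H23.Chern.symm' hX hyh))
  let 𝒞 : Set (Set X) := {C | ∃ g : CohB1.ProjSpace 1 k ⟶ X, g ≫ f = CohB1.ProjSpace.toSpec 1 k ∧
    (Set.range ⇑g).Nontrivial ∧ Set.range ⇑g ⊆ H ∧ C = Set.range g}
  obtain ⟨F, hFfin, hFc, hFi, hFu⟩ := NoetherianSpace.exists_finite_set_isClosed_irreducible hHc
  have hsub : 𝒞 ⊆ F := by
    rintro C ⟨g, hg, hnt, hgH, rfl⟩
    obtain ⟨hc, hi⟩ := hclosed g hg
    obtain ⟨D, hD, hCD⟩ := isIrreducible_iff_sUnion_isClosed.1 hi hFfin.toFinset (fun D hD => hFc D (hFfin.mem_toFinset.1 hD))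
      (by rw [Set.Finite.coe_toFinset, ← hFu]; exact hgH)
    rw [Set.Finite.mem_toFinset] at hD
    suffices Set.range g = D from this ▸ hD
    refine le_antisymm hCD ?_
    by_contra hne
    obtain ⟨p, hp⟩ := hnt.nonempty
    obtain ⟨e, he, hec⟩ := IsClosed.exists_closed_singleton hc hnt.nonempty
    have h01 : ({e} : Set X) < Set.range g :=
      lt_of_le_of_ne (Set.singleton_subset_iff.2 he) fun h => hnt.not_subsingleton (h ▸ Set.subsingleton_singleton)
    have h12 : Set.range g < D := lt_of_le_of_ne hCD fun h => hne h.ge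
    have h23 : D < Set.univ := lt_of_le_of_ne (Set.subset_univ D) fun h => by
      have hgen : genericPoint X ∈ H := hFu.ge ⟨D, hD, h.ge (Set.mem_univ _)⟩
      exact hgen (genericPoint_mem_genLocus hL.1 s hs)
    let a0 : IrreducibleCloseds X := ⟨{e}, isIrreducible_singleton, hec⟩
    let a1 : IrreducibleCloseds X := ⟨Set.range g, hi, hc⟩
    let a2 : IrreducibleCloseds X := ⟨D, hFi D hD, hFc D hD⟩
    let a3 : IrreducibleCloseds X := ⟨Set.univ, IrreducibleSpace.isIrreducible_univ _, isClosed_univ⟩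
    let S : LTSeries (IrreducibleCloseds X) :=
      ⟨3, ![a0, a1, a2, a3], fun i => by fin_cases i; exacts [h01, h12, h23]⟩
    have h3 := (Order.LTSeries.length_le_krullDim S).trans hdim
    have : (3 : ℕ) ≤ 2 := by exact_mod_cast h3
    omega
  let G : Set X → Prop := fun C => ∀ h ∈ C, IsClosed ({h} : Set X) → Cyc.RatEquiv δ 0 (pc h₀) (pc h)
  let A : Set X := ⋃₀ {C ∈ 𝒞 | G C}
  let B : Set X := ⋃₀ {C ∈ 𝒞 | ¬ G C}
  have hfin : ∀ P : Set X → Prop, IsClosed (⋃₀ {C ∈ 𝒞 | P C}) := fun P => by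
    rw [Set.sUnion_eq_biUnion]
    exact ((hFfin.subset hsub).subset fun C (hC : C ∈ {C ∈ 𝒞 | P C}) => hC.1).isClosed_biUnion
      fun C hC => hFc C (hsub hC.1)
  have hAc : IsClosed A := hfin _
  have hBc : IsClosed B := hfin _
  have hcov : H ⊆ A ∪ B := by
    have hcl : IsClosed (A ∪ B) := hAc.union hBc
    rw [← closure_inter_closedPoints hHc]
    refine closure_minimal ?_ hcl
    rintro h ⟨hh, hhc⟩
    obtain ⟨g, hg, hnt, hhg, hgH⟩ := hrat h hh hhc
    have hC : Set.range g ∈ 𝒞 := ⟨g, hg, hnt, hgH, rfl⟩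
    by_cases hG : G (Set.range g)
    · exact Or.inl ⟨_, ⟨hC, hG⟩, hhg⟩
    · exact Or.inr ⟨_, ⟨hC, hG⟩, hhg⟩
  have hdisj : ∀ z ∈ A, z ∈ B → False := by
    rintro z ⟨C, ⟨hC, hGC⟩, hzC⟩ ⟨C', ⟨hC', hGC'⟩, hzC'⟩
    obtain ⟨e, he, hec⟩ := IsClosed.exists_closed_singleton ((hFc C (hsub hC)).inter (hFc C' (hsub hC'))) ⟨z, hzC, hzC'⟩
    refine hGC' fun h hh hhc => ?_
    obtain ⟨g, hg, -, -, rfl⟩ := hC'
    exact H23.Chern.trans' hX (hGC e he.1 hec) (ratEquiv_on_curve f hδ g hg hec hhc he.2 hh)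
  have hh₀A : h₀ ∈ A := by
    obtain ⟨g, hg, hnt, hhg, hgH⟩ := hrat h₀ hh₀ hh₀c
    exact ⟨_, ⟨⟨g, hg, hnt, hgH, rfl⟩, fun h hh hhc => ratEquiv_on_curve f hδ g hg hh₀c hhc hhg hh⟩, hhg⟩
  intro h hh hhc
  by_contra hne
  have hhB : h ∈ B := (hcov hh).resolve_left fun ⟨C, ⟨_, hGC⟩, hhC⟩ => hne (hGC h hhC hhc)
  obtain ⟨z, -, hzA, hzB⟩ := isPreconnected_closed_iff.1 hconn.isPreconnected A B hAc hBc hcov ⟨h₀, hh₀, hh₀A⟩ ⟨h, hh, hhB⟩
  exact hdisj z hzA hzB

end Groth.Agent.H23.RatCurves
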