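import Groth.Agent.ProjPt.Poly
import Groth.Agent.ProjUPX.Sections
import Groth.Agent.H23.HomotopyFibre
import Groth.Agent.H23.PnChart
import Groth.Agent.H23.Chern.Det
import Groth.Agent.CycLib.CurveDegree
import Groth.Agent.CycLib.DivPushAll
import Groth.Agent.H23.SetupLFT
import Groth.Agent.DeltaFun13.Basic
import Groth.Agent.PnCoh.Finite.TwistInv
import Mathlib.FieldTheory.IsAlgClosed.Basic

/-!
# Closed points of the projective line are rationally equivalent
-/

set_option autoImplicit false
set_option linter.style.haveILetI false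
set_option backward.isDefEq.respectTransparency false
set_option backward.isDefEq.respectTransparency.types false
set_option maxHeartbeats 1000000

universe u

open CategoryTheory AlgebraicGeometry TopologicalSpace HomogeneousLocalization

noncomputable section

namespace Groth.Agent.H23.RatLine

open Groth.Agent Groth.Agent.CycLib Groth.Agent.ProjPt MvPolynomial

section Cycles

variable {X : Scheme.{u}}

open Classical in
/-- The cycle of a point. -/
def pc (x : X) : AlgebraicCycle X ℤ := Function.locallyFinsuppWithin.single x 1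

theorem pc_apply (x z : X) [Decidable (z = x)] : pc x z = if z = x then 1 else 0 := by
  classical
  rw [pc, Function.locallyFinsuppWithin.single_apply]
  split_ifs <;> rfl

theorem eq_pc {c : AlgebraicCycle X ℤ} {x : X} (h : ⇑c = Set.indicator {x} 1) : c = pc x := by
  classical
  refine Function.locallyFinsuppWithin.ext fun z => ?_
  rw [pc_apply, h, Set.indicator_apply]
  simp

theorem bijective_evaluation_field (k : Type u) [Field k] (p : Spec (CommRingCat.of k)) :
    Function.Bijective ((Scheme.ΓSpecIso (CommRingCat.of k)).inv ≫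
      (Spec (CommRingCat.of k)).evaluation ⊤ p trivial).hom := by
  haveI := FibDim.subsingleton_spec_field k
  obtain rfl : p = Spec.map (CommRingCat.ofHom (RingHom.id k)) (pt k) := Subsingleton.elim _ _
  refine ⟨RingHom.injective _, fun a => ⟨ptHom (Spec.map (CommRingCat.ofHom (RingHom.id k))) a,
    ptHom_injective _ ?_⟩⟩
  exact ptHom_eval (RingHom.id k) _

variable {k : Type u} [Field k] (f : X ⟶ Spec (CommRingCat.of k)) [LocallyOfFiniteType f] {δ : X → ℤ}
  (hδ : Cyc.DeltaCompat f δ (fun _ => 0))

include hδ in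
theorem delta_closed {x : X} (hx : IsClosed ({x} : Set X)) : δ x = 0 := by
  rw [deltaCompat_eq f hδ x, DeltaFun13.rd_eq_zero_of_closed f hx]
  rfl

include hδ in
theorem residueDegree_closed [IsAlgClosed k] {x : X} (hx : δ x = 0) : f.residueDegree x = 1 := by
  have hrd : FibDim.rd f x = 0 := by
    have h := deltaCompat_eq f hδ x
    omega
  have hfin := finite_residueFieldMap_of_rd_eq_zero f x hrd
  letI := (f.residueFieldMap x).hom.toAlgebra
  haveI : Module.Finite ((Spec (CommRingCat.of k)).residueField (f x)) (X.residueField x) := hfin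
  let e := (Spec (CommRingCat.of k)).residueField (f x)
  let σ : k →+* e := ((Scheme.ΓSpecIso (CommRingCat.of k)).inv ≫
    (Spec (CommRingCat.of k)).evaluation ⊤ (f x) trivial).hom
  haveI : IsAlgClosed e := IsAlgClosed.of_ringEquiv k e (RingEquiv.ofBijective σ
    (bijective_evaluation_field k (f x)))
  have hsurj := (IsAlgClosed.algebraMap_bijective_of_isIntegral (k := e) (K := X.residueField x)).2
  have l : e ≃ₗ[e] X.residueField x :=
    LinearEquiv.ofBijective (Algebra.linearMap _ _) ⟨RingHom.injective _, hsurj⟩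
  show Module.finrank e (X.residueField x) = 1
  rw [← l.finrank_eq, Module.finrank_self]

end Cycles

section Line

variable (k : Type u) [Field k]

local notation "𝒢" => CohB1.polyGrading 1 k

theorem eq_or_eq {i j : Fin (1 + 1)} (h : i ≠ j) (l : Fin (1 + 1)) : l = i ∨ l = j := by omega

/-- The chart ring is a quotient of a polynomial ring in one variable. -/
def ψ (i j : Fin (1 + 1)) : Polynomial k →+* Away 𝒢 (X i : MvPolynomial (Fin (1 + 1)) k) :=
  Polynomial.eval₂RingHom (cst i) (crd i j)

theorem ψ_surjective {i j : Fin (1 + 1)} (h : i ≠ j) : Function.Surjective (ψ k i j) := by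
  intro a
  obtain ⟨m, b, hb, rfl⟩ := Away.mk_surjective 𝒢 (X_mem i) a
  rw [mk_eq_eval]
  clear hb
  induction b using MvPolynomial.induction_on with
  | C r => exact ⟨Polynomial.C r, by simp [ψ]⟩
  | add p q hp hq =>
    obtain ⟨a, ha⟩ := hp
    obtain ⟨b, hb⟩ := hq
    exact ⟨a + b, by rw [map_add, map_add, ha, hb]⟩
  | mul_X p l hp =>
    obtain ⟨a, ha⟩ := hp
    rcases eq_or_eq h l with rfl | rfl
    · exact ⟨a, by rw [map_mul, eval₂Hom_X', crd_self, mul_one, ha]⟩
    · exact ⟨a * Polynomial.X, by rw [map_mul, map_mul, ha]; simp [ψ]⟩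

instance (i : Fin (1 + 1)) : IsDomain (Away 𝒢 (X i : MvPolynomial (Fin (1 + 1)) k)) :=
  haveI : IsDomain (Localization.Away (X i : MvPolynomial (Fin (1 + 1)) k)) :=
    IsLocalization.isDomain_localization
      (powers_le_nonZeroDivisors_of_noZeroDivisors (X_ne_zero i))
  (HomogeneousLocalization.val_injective _).isDomain
    (algebraMap (Away 𝒢 (X i : MvPolynomial (Fin (1 + 1)) k)) (Localization.Away (X i : MvPolynomial (Fin (1 + 1)) k)))

instance (i : Fin (1 + 1)) : IsPrincipalIdealRing (Away 𝒢 (X i : MvPolynomial (Fin (1 + 1)) k)) :=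
  IsPrincipalIdealRing.of_surjective (ψ k i (1 - i)) (ψ_surjective k (by fin_cases i <;> decide))

/-- The standard chart. -/
abbrev ι (i : Fin (1 + 1)) :
    Spec (CommRingCat.of (Away 𝒢 (X i : MvPolynomial (Fin (1 + 1)) k))) ⟶ CohB1.ProjSpace 1 k :=
  Proj.awayι 𝒢 (X i : MvPolynomial (Fin (1 + 1)) k) (X_mem i) one_pos

/-- At most one point lies outside a standard chart. -/
theorem subsingleton_compl_chart (i : Fin (1 + 1)) : ((Set.range (ι k i))ᶜ).Subsingleton := by
  have key : ∀ y : CohB1.ProjSpace 1 k, y ∉ Set.range (ι k i) → ∃ (j : Fin (1 + 1)) (_ : i ≠ j)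
      (z : Spec (CommRingCat.of (Away 𝒢 (X j : MvPolynomial (Fin (1 + 1)) k)))), ι k j z = y ∧
      PrimeSpectrum.comap (ψ k j i) z = ⟨Ideal.span {Polynomial.X}, (Ideal.span_singleton_prime
        Polynomial.X_ne_zero).2 Polynomial.prime_X⟩ := by
    intro y hy
    obtain ⟨j, hj⟩ := ProjUPX.cov_X (R := k) (n := 1) y
    rw [← Proj.opensRange_awayι 𝒢 (X j : MvPolynomial (Fin (1 + 1)) k) (X_mem j) one_pos] at hj
    obtain ⟨z, hz⟩ := hj
    have hij : i ≠ j := fun h => hy (by subst h; exact ⟨z, hz⟩)
    refine ⟨j, hij, z, hz, PrimeSpectrum.ext ?_⟩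
    have hmem : crd (R := k) j i ∈ (show PrimeSpectrum _ from z).asIdeal := by
      by_contra hn
      refine hy ?_
      have h1 : z ∈ ι k j ⁻¹ᵁ Proj.basicOpen 𝒢 (X i : MvPolynomial (Fin (1 + 1)) k) := by
        rw [Proj.awayι_preimage_basicOpen 𝒢 (X_mem j) one_pos (X_mem i) one_pos]
        show Away.isLocalizationElem (X_mem j) (X_mem i) ∉ (show PrimeSpectrum _ from z).asIdeal
        rwa [show Away.isLocalizationElem (X_mem j) (X_mem i) = crd (R := k) j i from
          HomogeneousLocalization.val_injective _ (by simp [Away.isLocalizationElem, crd, Away.val_mk])]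
      have h2 : y ∈ (ι k i).opensRange := by
        rw [Proj.opensRange_awayι]
        exact hz ▸ h1
      exact h2
    show Ideal.comap (ψ k j i) (show PrimeSpectrum _ from z).asIdeal = Ideal.span {Polynomial.X}
    haveI := (show PrimeSpectrum _ from z).isPrime
    refine ((PrincipalIdealRing.isMaximal_of_irreducible Polynomial.irreducible_X).eq_of_le
      (Ideal.IsPrime.ne_top inferInstance) ((Ideal.span_singleton_le_iff_mem _).2 ?_)).symm
    rw [Ideal.mem_comap]
    simpa [ψ] using hmem
  intro y hy y' hy'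
  obtain ⟨j, hij, z, rfl, hz⟩ := key y hy
  obtain ⟨j', hij', z', rfl, hz'⟩ := key y' hy'
  obtain rfl : j = j' := by omega
  exact congrArg (ι k j) (PrimeSpectrum.comap_injective_of_surjective _ (ψ_surjective k hij.symm) (hz.trans hz'.symm))

theorem isProper_toSpec : IsProper (CohB1.ProjSpace.toSpec 1 k) := PnCoh.Chow.isProper_toSpec 1 k

variable {k} [IsAlgClosed k] {δ : CohB1.ProjSpace 1 k → ℤ}
  (hδ : Cyc.DeltaCompat (CohB1.ProjSpace.toSpec 1 k) δ (fun _ => 0))

include hδ in
/-- A closed point in a chart is equivalent to the point outside. -/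
theorem exists_equiv_outside (i : Fin (1 + 1)) {a : CohB1.ProjSpace 1 k}
    (ha : IsClosed ({a} : Set (CohB1.ProjSpace 1 k))) (hai : a ∈ Set.range (ι k i)) :
    ∃ q, q ∉ Set.range (ι k i) ∧ Cyc.RatEquiv δ 0 (pc a) (pc q) := by
  classical
  haveI := isProper_toSpec k
  haveI := H23.PnChart.isIntegral_projSpace 1 k
  haveI : IsLocallyNoetherian (CohB1.ProjSpace 1 k) := LocallyOfFiniteType.isLocallyNoetherian (CohB1.ProjSpace.toSpec 1 k)
  have hS : Cyc.IsSetup (CohB1.ProjSpace 1 k) δ := SetupLFT.isSetup _ (isSetup_spec_field k) hδ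
  have hd := hS.2.2
  obtain ⟨z, hz⟩ := hai
  let A := Away 𝒢 (X i : MvPolynomial (Fin (1 + 1)) k)
  haveI : IsOpenImmersion (ι k i) := inferInstance
  have hdW := isDimFun_openImmersion (ι k i) hd
  have hza : IsClosed ({z} : Set (Spec (CommRingCat.of A))) := by
    have : ({z} : Set (Spec (CommRingCat.of A))) = ι k i ⁻¹' {a} := by
      ext w
      exact ⟨fun h => h ▸ hz, fun h => (ι k i).isOpenEmbedding.injective (h.trans hz.symm)⟩
    rw [this]
    exact ha.preimage (ι k i).continuous
  have hzbot : (show PrimeSpectrum A from z).asIdeal ≠ ⊥ := by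
    intro hbot
    have hmax := (PrimeSpectrum.isClosed_singleton_iff_isMaximal (show PrimeSpectrum A from z)).1 hza
    have hfield : IsField A := Ring.isField_iff_maximal_bot.2 (hbot ▸ hmax)
    letI := hfield.toField
    have hne : i ≠ 1 - i := by fin_cases i <;> decide
    let ev : k → (A →+* k) := fun c => coordHom 𝒢
      (eval₂Hom (RingHom.id k) (Function.update (fun _ => c) i 1)) (t := X i) (by simp)
    have hev : ∀ c, ev c (crd (R := k) i (1 - i)) = c := fun c => by
      refine (coordHom_crd _ i _ (by simp) (1 - i)).trans ?_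
      simp [Function.update_of_ne hne.symm]
    have h0 : crd (R := k) i (1 - i) = 0 := (ev 0).injective ((hev 0).trans (map_zero _).symm)
    have h1 := hev 1
    rw [h0, map_zero] at h1
    exact zero_ne_one h1
  obtain ⟨η, g, hg, hη, hdiv⟩ := Homotopy.exists_divFun_eq_single _ hdW z hzbot
  obtain ⟨f, hf⟩ := (residueFieldMap_bijective (ι k i) η).2 g
  subst hf
  have hf0 : f ≠ 0 := fun h => hg (by rw [h, map_zero])
  have hδ1 : δ (ι k i η) = 1 := by
    have h0 := delta_closed (CohB1.ProjSpace.toSpec 1 k) hδ ha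
    rw [← hz] at h0
    omega
  have hin : ∀ w, Cyc.divFun δ (ι k i η) f (ι k i w) = if w = z then 1 else 0 := fun w => by
    rw [← divFun_preimmersion (ι k i) 0 (δW := fun w => δ (ι k i w)) (fun w => (add_zero _).symm)]
    exact hdiv w
  let D := Cyc.divFun δ (ι k i η) f
  have hDdeg : ∀ x, D x ≠ 0 → δ x = 0 := fun x hx => by
    by_contra h
    exact hx (divFun_eq_zero_of_delta δ f (by omega))
  have hcoef : ∀ x, δ x = 0 →
      AlgebraicCycle.mapCoeff (CohB1.ProjSpace.toSpec 1 k) δ (fun _ => (0 : ℤ)) x = 1 := fun x hx => by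
    rw [AlgebraicCycle.mapCoeff, if_pos hx, residueDegree_closed _ hδ hx]
  have hsum := sum_divFun_eq_zero (CohB1.ProjSpace.toSpec 1 k) hδ hδ1 hf0
  rw [finsum_congr (g := fun x => D x) fun x => by
    by_cases hx : D x = 0
    · rw [show Cyc.divFun δ (ι k i η) f x = 0 from hx, zero_mul]; exact hx.symm
    · rw [hcoef x (hDdeg x hx)]; simp [D]] at hsum
  have hDa : D a = 1 := by rw [← hz]; exact (hin z).trans (if_pos rfl)
  obtain ⟨q, hq, hDq⟩ : ∃ q, q ∉ Set.range (ι k i) ∧ D q ≠ 0 := by
    by_contra hne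
    push Not at hne
    rw [finsum_eq_single _ a fun x hx => ?_, hDa] at hsum
    · exact one_ne_zero hsum
    · by_cases hxr : x ∈ Set.range (ι k i)
      · obtain ⟨w, rfl⟩ := hxr
        exact (hin w).trans (if_neg fun (h : w = z) => hx (h ▸ hz))
      · exact hne x hxr
  have hsupp : ∀ x, x ≠ a → x ≠ q → D x = 0 := fun x hxa hxq => by
    by_cases hxr : x ∈ Set.range (ι k i)
    · obtain ⟨w, rfl⟩ := hxr
      exact (hin w).trans (if_neg fun (h : w = z) => hxa (h ▸ hz))
    · exact absurd (subsingleton_compl_chart k i hxr hq) hxq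
  have haq : a ≠ q := fun h => hq (h ▸ ⟨z, hz⟩)
  have hDq1 : D q = -1 := by
    rw [finsum_eq_sum_of_support_subset _ (s := ({a, q} : Finset (CohB1.ProjSpace 1 k))), Finset.sum_pair haq, hDa] at hsum
    · omega
    · intro x hx
      simp only [Finset.coe_insert, Finset.coe_singleton, Set.mem_insert_iff, Set.mem_singleton_iff]
      by_contra hne
      push Not at hne
      exact hx (hsupp x hne.1 hne.2)
  refine ⟨q, hq, PUnit.{u+1}, fun _ => ι k i η, fun _ => f, fun _ => by rw [hδ1]; norm_num, fun _ => hf0,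
    fun x => ⟨Set.univ, isOpen_univ, trivial, Set.toFinite _⟩, fun x => ?_⟩
  rw [finsum_unique, Function.locallyFinsuppWithin.coe_sub, Pi.sub_apply, pc_apply, pc_apply]
  show _ = D x
  by_cases hxa : x = a
  · subst hxa; rw [if_pos rfl, if_neg haq, hDa, sub_zero]
  · by_cases hxq : x = q
    · subst hxq; rw [if_neg hxa, if_pos rfl, hDq1, zero_sub]
    · rw [if_neg hxa, if_neg hxq, hsupp x hxa hxq, sub_zero]

include hδ in
/-- Two closed points of the projective line are rationally equivalent. -/
theorem ratEquiv_points {a b : CohB1.ProjSpace 1 k} (ha : IsClosed ({a} : Set (CohB1.ProjSpace 1 k)))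
    (hb : IsClosed ({b} : Set (CohB1.ProjSpace 1 k))) : Cyc.RatEquiv δ 0 (pc a) (pc b) := by
  haveI := isProper_toSpec k
  have hS : Cyc.IsSetup (CohB1.ProjSpace 1 k) δ := SetupLFT.isSetup _ (isSetup_spec_field k) hδ
  by_cases h0 : a ∈ Set.range (ι k 0) ∧ b ∈ Set.range (ι k 0)
  · obtain ⟨q, hq, h⟩ := exists_equiv_outside hδ 0 ha h0.1
    obtain ⟨q', hq', h'⟩ := exists_equiv_outside hδ 0 hb h0.2
    obtain rfl := subsingleton_compl_chart k 0 hq hq'
    exact H23.Chern.trans' hS h (H23.Chern.symm' hS h')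
  · rcases not_and_or.1 h0 with h | h
    · by_cases hb0 : b ∈ Set.range (ι k 0)
      · obtain ⟨q, hq, h'⟩ := exists_equiv_outside hδ 0 hb hb0
        obtain rfl := subsingleton_compl_chart k 0 h hq
        exact H23.Chern.symm' hS h'
      · obtain rfl := subsingleton_compl_chart k 0 h hb0
        exact H23.Chern.ratEquiv_rfl _
    · by_cases ha0 : a ∈ Set.range (ι k 0)
      · obtain ⟨q, hq, h'⟩ := exists_equiv_outside hδ 0 ha ha0
        obtain rfl := subsingleton_compl_chart k 0 h hq
        exact h'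
      · obtain rfl := subsingleton_compl_chart k 0 h ha0
        exact H23.Chern.ratEquiv_rfl _

end Line

end Groth.Agent.H23.RatLine
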