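import Groth.Agent.H23.RatSpec
import Groth.Agent.H23.RatModel

/-!
Maps from a product into a proper group that are constant on two axes are constant.
-/

universe u

open CategoryTheory Limits AlgebraicGeometry TopologicalSpace MonoidalCategory CartesianMonoidalCategory TensorProduct

namespace Groth.Agent.H23.RatProduct

open RatSpec

section Ext

variable {K : Type u} [Field K]

/-- Extension of a map given on a nonempty open piece. -/
theorem exists_extension' {X P G : Over (Spec (CommRingCat.of K))} [Smooth X.hom] [IsSeparated X.hom]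
    [GeometricallyIntegral X.hom] [GrpObj G] [IsProper G.hom] (p : P ⟶ X) [IsOpenImmersion p.left]
    [Nonempty P.left] (f : P ⟶ G) : ∃ g : X ⟶ G, p ≫ g = f := by
  obtain ⟨g, hg⟩ := RatExt.exists_extension p.left.opensRange
    (by rw [Scheme.Hom.coe_opensRange]; exact Set.range_nonempty _)
    (p.left.isoOpensRange.inv ≫ f.left) (by
      rw [Category.assoc, Over.w f, ← Over.w p, Scheme.Hom.isoOpensRange_inv_comp_assoc])
  refine ⟨g, Over.OverMorphism.ext ?_⟩
  rw [Over.comp_left]
  conv_lhs => rw [← p.left.isoOpensRange_hom_ι, Category.assoc, hg, Iso.hom_inv_id_assoc]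

end Ext

variable {k : Type u} [Field k] [IsAlgClosed k]

theorem exists_model_map {W A : Over (Spec (CommRingCat.of k))} [Smooth W.hom] [IsSeparated W.hom]
    [GeometricallyIntegral W.hom] [GrpObj A] [IsProper A.hom] {L C₀ : Type u} [Field L] [Algebra k L]
    [CommRing C₀] [Algebra k C₀] [Algebra.FiniteType k C₀] (σ : C₀ →ₐ[k] L) (C : Subalgebra k L)
    [Algebra.FiniteType k C] [Algebra.Smooth k C] [IsFractionRing C L]
    (T : specOver k C₀ ⊗ W ⟶ A) :
    ∃ gC : specOver k C ⊗ W ⟶ A, (specMap C.val ▷ W) ≫ gC = (specMap σ ▷ W) ≫ T := by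
  classical
  obtain ⟨s, hs⟩ := Algebra.FiniteType.out (R := k) (A := C₀)
  choose a b hb hab using fun x : C₀ => RatModel.exists_div (C := C) (σ x)
  let d : C := ∏ x ∈ s, b x
  have hd : (d : L) ≠ 0 := fun h => by
    have : d = 0 := Subtype.ext h
    obtain ⟨x, -, hx⟩ := Finset.prod_eq_zero_iff.1 this
    exact hb x hx
  let φ : Localization.Away d →ₐ[k] L := IsLocalization.liftAlgHom (M := Submonoid.powers d)
    (f := C.val) (fun z => isUnit_iff_ne_zero.2 (by
      obtain ⟨n, hn⟩ := z.2
      rw [show (z : C) = d ^ n from hn.symm]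
      simpa using pow_ne_zero n hd))
  have hφ : ∀ c : C, φ (algebraMap C _ c) = c := fun c => IsLocalization.lift_eq _ c
  have hinj : Function.Injective φ := IsLocalization.lift_injective_iff _ |>.2 fun x y =>
    ⟨fun h => by
      have := congrArg φ h
      rw [hφ, hφ] at this
      exact this, fun h => congrArg _ (Subtype.ext h)⟩
  have hrange : ∀ x, σ x ∈ φ.range := by
    intro x
    have hx : x ∈ Algebra.adjoin k (s : Set C₀) := hs ▸ Algebra.mem_top
    induction hx using Algebra.adjoin_induction with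
    | mem x hx =>
      let c : C := a x * ∏ y ∈ s.erase x, b y
      refine ⟨IsLocalization.mk' (Localization.Away d) c (⟨d, Submonoid.mem_powers d⟩ : Submonoid.powers d), ?_⟩
      refine mul_right_cancel₀ hd ?_
      have hmk := congrArg φ (IsLocalization.mk'_spec (Localization.Away d) c
        (⟨d, Submonoid.mem_powers d⟩ : Submonoid.powers d))
      rw [map_mul, hφ, hφ] at hmk
      refine hmk.trans ?_
      show ((a x * ∏ y ∈ s.erase x, b y : C) : L) = σ x * ((∏ y ∈ s, b y : C) : L)
      rw [← Finset.mul_prod_erase s b hx, MulMemClass.coe_mul, MulMemClass.coe_mul, ← mul_assoc, hab]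
    | algebraMap r => rw [AlgHom.commutes]; exact Subalgebra.algebraMap_mem _ r
    | add x y _ _ hx hy => rw [map_add]; exact add_mem hx hy
    | mul x y _ _ hx hy => rw [map_mul]; exact mul_mem hx hy
  let σ' : C₀ →ₐ[k] Localization.Away d :=
    (AlgEquiv.ofInjective φ hinj).symm.toAlgHom.comp (σ.codRestrict φ.range hrange)
  have hσ' : φ.comp σ' = σ := AlgHom.ext fun x =>
    congrArg Subtype.val ((AlgEquiv.ofInjective φ hinj).apply_symm_apply ⟨σ x, hrange x⟩)
  let ι' : C →ₐ[k] Localization.Away d := IsScalarTower.toAlgHom k C _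
  have hι' : φ.comp ι' = C.val := AlgHom.ext hφ
  have hopen : IsOpenImmersion (specMap ι').left :=
    IsOpenImmersion.of_isLocalization (S := Localization.Away d) d
  have : IsOpenImmersion (specMap ι' ▷ W).left := by
    have e : (specMap ι' ▷ W).left = pullback.map (specOver k (Localization.Away d)).hom W.hom
        (specOver k C).hom W.hom (specMap ι').left (𝟙 _) (𝟙 _)
        (by rw [Category.comp_id, Over.w]) (by simp) := by
      rw [Over.whiskerRight_left]
    rw [e]
    infer_instance
  have hd' : d ≠ 0 := fun h => hd (congrArg Subtype.val h :)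
  have : IsDomain (Localization.Away d) := IsLocalization.isDomain_localization
    (powers_le_nonZeroDivisors_of_noZeroDivisors hd')
  have : Algebra.FiniteType k (Localization.Away d) :=
    Algebra.FiniteType.trans (S := C) inferInstance inferInstance
  have hgL := geometricallyIntegral_specOver (k := k) (B := Localization.Away d)
  have hgC := geometricallyIntegral_specOver (k := k) (B := C)
  have hlL : LocallyOfFiniteType (specOver k (Localization.Away d)).hom :=
    (HasRingHomProperty.Spec_iff (P := @LocallyOfFiniteType)).2 (RingHom.finiteType_algebraMap.2 ‹_›)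
  have hsC := smooth_specOver (k := k) (B := C)
  have : Nonempty (specOver k (Localization.Away d) ⊗ W).left := by
    have := RatExt.geometricallyIntegral_prod (specOver k (Localization.Away d)) W
    have : IsIntegral (specOver k (Localization.Away d) ⊗ W).left :=
      MaxAbelian.isIntegral_of_geometricallyIntegral
    infer_instance
  have := RatExt.geometricallyIntegral_prod (specOver k C) W
  have : IsSeparated (specOver k C).hom :=
    inferInstanceAs (IsSeparated (Spec.map (CommRingCat.ofHom (algebraMap k C))))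
  have hcom : (specOver k C ⊗ W).hom = pullback.fst (specOver k C).hom W.hom ≫ (specOver k C).hom := rfl
  have : Smooth (specOver k C ⊗ W).hom := by rw [hcom]; infer_instance
  have : IsSeparated (specOver k C ⊗ W).hom := by rw [hcom]; infer_instance
  obtain ⟨gC, hgC⟩ := exists_extension' (specMap ι' ▷ W) ((specMap σ' ▷ W) ≫ T)
  refine ⟨gC, ?_⟩
  rw [← hι', specMap_comp, comp_whiskerRight, Category.assoc, hgC, ← Category.assoc,
    ← comp_whiskerRight, ← specMap_comp, hσ']

section

variable {W A : Over (Spec (CommRingCat.of k))} {B : Type u} [CommRing B] [Algebra k B]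
  (jW : specOver k B ⟶ W) (χw : B →ₐ[k] k) (w₀ : 𝟙_ (Over (Spec (CommRingCat.of k))) ⟶ W)

omit [IsAlgClosed k] in
theorem toUnit_specOver (C : Type u) [CommRing C] [Algebra k C] :
    toUnit (specOver k C) = specMap (Algebra.ofId k C) ≫ toUnit (specOver k k) :=
  (toUnit_unique _ _)

omit [IsAlgClosed k] in
/-- Restriction of a map to an infinitesimal neighbourhood of the axis lands in the chart. -/
theorem exists_theta (hw : specMap χw ≫ jW = toUnit (specOver k k) ≫ w₀) (n : ℕ)
    (a₀ : 𝟙_ (Over (Spec (CommRingCat.of k))) ⟶ A) {BA : Type u} [CommRing BA] [Algebra k BA]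
    (jA : specOver k BA ⟶ A) [IsOpenImmersion jA.left] (χa : BA →ₐ[k] k)
    (ha : specMap χa ≫ jA = toUnit (specOver k k) ≫ a₀) (C : Type u) [CommRing C] [Algebra k C]
    (T : specOver k C ⊗ W ⟶ A)
    (hT : lift (𝟙 (specOver k C)) (toUnit (specOver k C) ≫ w₀) ≫ T = toUnit (specOver k C) ≫ a₀) :
    ∃ θ : BA →ₐ[k] C ⊗[k] (B ⧸ RingHom.ker χw ^ (n + 1)), specMap θ ≫ jA =
      RatSpec.pair (𝟙 (specOver k C)) (specMap (Ideal.Quotient.mkₐ k (RingHom.ker χw ^ (n + 1))) ≫ jW) ≫ T := by
  set q := Ideal.Quotient.mkₐ k (RingHom.ker χw ^ (n + 1))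
  let χn : (B ⧸ RingHom.ker χw ^ (n + 1)) →ₐ[k] k := Ideal.Quotient.liftₐ _ χw
    fun x hx => Ideal.pow_le_self (Nat.succ_ne_zero n) hx
  have hχn : ∀ x, χn (q x) = χw x := fun x => rfl
  let ρ : C ⊗[k] (B ⧸ RingHom.ker χw ^ (n + 1)) →ₐ[k] C :=
    Algebra.TensorProduct.lift (AlgHom.id k C) ((Algebra.ofId k C).comp χn) fun _ _ => Commute.all _ _
  have hρl : ∀ c : C, ρ (c ⊗ₜ 1) = c := fun c => by simp [ρ]
  have hρ : specMap ρ ≫ RatSpec.pair (𝟙 (specOver k C)) (specMap q ≫ jW) =
      lift (𝟙 (specOver k C)) (toUnit (specOver k C) ≫ w₀) := by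
    refine CartesianMonoidalCategory.hom_ext _ _ ?_ ?_
    · rw [Category.assoc, RatSpec.pair, lift_fst, lift_fst, Category.comp_id, ← specMap_comp,
        Algebra.TensorProduct.lift_comp_includeLeft]
      ext1
      exact Spec.map_id _
    · rw [Category.assoc, RatSpec.pair, lift_snd, lift_snd, ← Category.assoc, ← specMap_comp,
        ← Category.assoc, ← specMap_comp]
      have e : (ρ.comp Algebra.TensorProduct.includeRight).comp q = (Algebra.ofId k C).comp χw := by
        refine AlgHom.ext fun x => ?_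
        simp [ρ, hχn]
      rw [e, specMap_comp, Category.assoc, hw, ← Category.assoc, ← toUnit_specOver]
  refine exists_alg_of_range jA _ ?_
  rintro _ ⟨y, rfl⟩
  have hker : RingHom.ker ρ ≤ nilradical (C ⊗[k] (B ⧸ RingHom.ker χw ^ (n + 1))) := by
    intro z hz
    have key : ∀ z, z - (ρ z) ⊗ₜ[k] (1 : B ⧸ RingHom.ker χw ^ (n + 1)) ∈
        nilradical (C ⊗[k] (B ⧸ RingHom.ker χw ^ (n + 1))) := by
      intro z
      induction z using TensorProduct.induction_on with
      | zero => simp
      | tmul c r =>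
        have h1 : c ⊗ₜ[k] r - (ρ (c ⊗ₜ r)) ⊗ₜ[k] 1 =
            c ⊗ₜ[k] (r - algebraMap k _ (χn r)) := by
          rw [TensorProduct.tmul_sub, Algebra.TensorProduct.lift_tmul, Algebra.algebraMap_eq_smul_one,
            TensorProduct.tmul_smul, TensorProduct.smul_tmul']
          congr 2
          simp [Algebra.smul_def, mul_comm]
        rw [h1, mem_nilradical]
        refine ⟨n + 1, ?_⟩
        rw [Algebra.TensorProduct.tmul_pow]
        obtain ⟨b, rfl⟩ := Ideal.Quotient.mkₐ_surjective k (RingHom.ker χw ^ (n + 1)) r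
        have hb : b - algebraMap k B (χw b) ∈ RingHom.ker χw := by simp [RingHom.mem_ker]
        have : (q (b - algebraMap k B (χw b))) ^ (n + 1) = 0 := by
          rw [← map_pow]
          exact Ideal.Quotient.eq_zero_iff_mem.2 (Ideal.pow_mem_pow hb _)
        rw [map_sub, AlgHom.commutes, ← hχn] at this
        rw [this, TensorProduct.tmul_zero]
      | add x y hx hy =>
        rw [map_add, TensorProduct.add_tmul, add_sub_add_comm]
        exact add_mem hx hy
    have hzk := key z
    rw [RingHom.mem_ker] at hz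
    rwa [hz, TensorProduct.zero_tmul, sub_zero] at hzk
  have hsurj : Function.Surjective ρ := fun c => ⟨_, hρl c⟩
  obtain ⟨x, rfl⟩ : y ∈ Set.range (specMap ρ).left := by
    show y ∈ Set.range (PrimeSpectrum.comap ρ.toRingHom)
    rw [range_comap_of_surjective _ ρ.toRingHom hsurj]
    exact fun z hz => (nilradical_le_prime (y : PrimeSpectrum _).asIdeal) (hker hz)
  refine ⟨(specMap (Algebra.ofId k C) ≫ specMap χa).left x, ?_⟩
  rw [← Scheme.Hom.comp_apply, ← Scheme.Hom.comp_apply, ← Over.comp_left, ← Over.comp_left,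
    Category.assoc, ha, ← Category.assoc, ← toUnit_specOver, ← hT, ← hρ, Category.assoc]

end

/-- A map from a product into a proper group which is constant on two axes is constant. -/
theorem eq_const {V W A : Over (Spec (CommRingCat.of k))}
    [Smooth V.hom] [IsSeparated V.hom] [GeometricallyIntegral V.hom]
    [Smooth W.hom] [IsSeparated W.hom] [GeometricallyIntegral W.hom]
    [GrpObj A] [IsProper A.hom] [GeometricallyIntegral A.hom]
    (v₀ : 𝟙_ (Over (Spec (CommRingCat.of k))) ⟶ V) (w₀ : 𝟙_ (Over (Spec (CommRingCat.of k))) ⟶ W)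
    (a₀ : 𝟙_ (Over (Spec (CommRingCat.of k))) ⟶ A) (g : V ⊗ W ⟶ A)
    (hV : lift (𝟙 V) (toUnit V ≫ w₀) ≫ g = toUnit V ≫ a₀)
    (hW : lift (toUnit W ≫ v₀) (𝟙 W) ≫ g = toUnit W ≫ a₀) : g = toUnit _ ≫ a₀ := by
  classical
  have : IsIntegral V.left := MaxAbelian.isIntegral_of_geometricallyIntegral
  have : IsIntegral W.left := MaxAbelian.isIntegral_of_geometricallyIntegral
  have : IsIntegral A.left := MaxAbelian.isIntegral_of_geometricallyIntegral
  have : A.left.IsSeparated := ⟨by rw [← terminal.comp_from A.hom]; exact inferInstance⟩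
  obtain ⟨C₀, _, _, jV, χv, hjV, hftV, hdV, hv⟩ := exists_chart V v₀
  obtain ⟨B, _, _, jW, χw, hjW, hftW, hdW, hw⟩ := exists_chart W w₀
  obtain ⟨BA, _, _, jA, χa, hjA, hftA, hdA, ha⟩ := exists_chart A a₀
  have : IsNoetherianRing B := Algebra.FiniteType.isNoetherianRing k B
  let L := FractionRing C₀
  let σ : C₀ →ₐ[k] L := IsScalarTower.toAlgHom k C₀ L
  have hσ : Function.Injective σ := IsFractionRing.injective C₀ L
  have : Algebra.FiniteType k σ.range :=
    Algebra.FiniteType.of_surjective σ.rangeRestrict σ.rangeRestrict_surjective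
  have : IsFractionRing σ.range L := RatModel.isFractionRing_of_forall _ fun x => by
    obtain ⟨a, b, hb, e⟩ := IsFractionRing.div_surjective (A := C₀) x
    have hb0 : algebraMap C₀ L b ≠ 0 := fun h =>
      nonZeroDivisors.ne_zero hb (hσ (h.trans (map_zero σ).symm))
    exact ⟨⟨_, a, rfl⟩, ⟨_, b, rfl⟩, fun h => hb0 (congrArg Subtype.val h :),
      by rw [← e]; exact div_mul_cancel₀ _ hb0⟩
  let jn := fun n : ℕ => specMap (Ideal.Quotient.mkₐ k (RingHom.ker χw ^ (n + 1))) ≫ jW
  let T₀ := (jV ▷ W) ≫ g
  have hT₀ : lift (𝟙 (specOver k C₀)) (toUnit (specOver k C₀) ≫ w₀) ≫ T₀ = toUnit (specOver k C₀) ≫ a₀ := by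
    rw [lift_whiskerRight_assoc, Category.id_comp, ← comp_toUnit jV, Category.assoc, Category.assoc, ← hV,
      comp_lift_assoc, Category.comp_id]
  have hTL : lift (𝟙 (specOver k L)) (toUnit (specOver k L) ≫ w₀) ≫ (specMap σ ▷ W) ≫ T₀ =
      toUnit (specOver k L) ≫ a₀ := by
    rw [lift_whiskerRight_assoc, Category.id_comp, ← comp_toUnit (specMap σ), Category.assoc,
      Category.assoc, ← hT₀, comp_lift_assoc, Category.comp_id]
  have nat : ∀ (n : ℕ) {D E : Type u} [CommRing D] [Algebra k D] [CommRing E] [Algebra k E]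
      (f : D →ₐ[k] E),
      specMap (Algebra.TensorProduct.map f (AlgHom.id k (B ⧸ RingHom.ker χw ^ (n + 1)))) ≫
        RatSpec.pair (𝟙 (specOver k D)) (jn n) = RatSpec.pair (𝟙 (specOver k E)) (jn n) ≫ (specMap f ▷ W) := by
    intro n D E _ _ _ _ f
    rw [pair_map, ← pair_comp, Category.comp_id, Category.id_comp]
    congr 1
    rw [show specMap (AlgHom.id k (B ⧸ RingHom.ker χw ^ (n + 1))) = 𝟙 _ from
      Over.OverMorphism.ext (Spec.map_id _), Category.id_comp]
  have key : ∀ n, RatSpec.pair (𝟙 (specOver k C₀)) (jn n) ≫ T₀ = toUnit _ ≫ a₀ := by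
    intro n
    obtain ⟨θ₀, hθ₀⟩ := exists_theta jW χw w₀ hw n a₀ jA χa ha C₀ T₀ hT₀
    obtain ⟨θL, hθL⟩ := exists_theta jW χw w₀ hw n a₀ jA χa ha L _ hTL
    have h0L : (Algebra.TensorProduct.map σ (AlgHom.id k _)).comp θ₀ = θL := by
      refine alg_ext jA ?_
      rw [specMap_comp, Category.assoc, hθ₀, hθL, ← Category.assoc, nat, Category.assoc]
    let b := Module.Free.chooseBasis k (B ⧸ RingHom.ker χw ^ (n + 1))
    have hk : ∀ x i, (Algebra.TensorProduct.basis C₀ b).repr (θ₀ x) i ∈
        Set.range (algebraMap k C₀) := by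
      intro x i
      by_contra hr
      obtain ⟨C, hftC, hsmC, hfrC, hc⟩ := RatModel.exists_smooth_model σ.range
        (σ ((Algebra.TensorProduct.basis C₀ b).repr (θ₀ x) i)) (by
          rintro ⟨e, he⟩
          exact hr ⟨e, hσ ((AlgHom.commutes σ e).trans he)⟩)
      obtain ⟨gC, hgC⟩ := exists_model_map σ C T₀
      have hdom : IsDominant (specMap C.val).left := isDominant_specMap _ Subtype.val_injective
      have hTC : lift (𝟙 (specOver k C)) (toUnit (specOver k C) ≫ w₀) ≫ gC =
          toUnit (specOver k C) ≫ a₀ := by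
        have : IsReduced (specOver k C).left := inferInstanceAs (IsReduced (Spec (CommRingCat.of C)))
        refine Over.OverMorphism.ext (ext_of_isDominant (specMap C.val).left ?_)
        rw [← Over.comp_left, ← Over.comp_left]
        refine congrArg CommaMorphism.left ?_
        rw [← Category.assoc (specMap C.val) (toUnit _), comp_toUnit, ← hTL, ← hgC,
          lift_whiskerRight_assoc, Category.id_comp, comp_lift_assoc, Category.comp_id,
          ← Category.assoc, comp_toUnit]
      obtain ⟨θC, hθC⟩ := exists_theta jW χw w₀ hw n a₀ jA χa ha C gC hTC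
      have hCL : (Algebra.TensorProduct.map C.val (AlgHom.id k _)).comp θC = θL := by
        refine alg_ext jA ((congrArg (· ≫ jA) (specMap_comp θC _)).trans ?_)
        rw [Category.assoc, hθC, hθL, ← Category.assoc, nat, Category.assoc, hgC]
      apply hc
      rw [← repr_map b σ, show Algebra.TensorProduct.map σ (AlgHom.id k _) (θ₀ x) = θL x from
        AlgHom.congr_fun h0L x, ← show Algebra.TensorProduct.map C.val (AlgHom.id k _) (θC x) = θL x from
        AlgHom.congr_fun hCL x, repr_map]
      exact Subtype.mem _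
    let ρv : C₀ ⊗[k] (B ⧸ RingHom.ker χw ^ (n + 1)) →ₐ[k] B ⧸ RingHom.ker χw ^ (n + 1) :=
      Algebra.TensorProduct.lift ((Algebra.ofId k _).comp χv) (AlgHom.id k _) fun _ _ => Commute.all _ _
    have hρv : ρv.comp θ₀ = (Algebra.ofId k _).comp χa := by
      refine alg_ext jA ?_
      rw [specMap_comp, Category.assoc, hθ₀, specMap_comp, Category.assoc, ha,
        show specMap (Algebra.ofId k (B ⧸ RingHom.ker χw ^ (n + 1))) ≫ toUnit (specOver k k) ≫ a₀ =
          toUnit _ ≫ a₀ by rw [← Category.assoc, ← toUnit_specOver]]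
      have e : specMap ρv ≫ RatSpec.pair (𝟙 (specOver k C₀)) (jn n) ≫ (jV ▷ W) =
          jn n ≫ lift (toUnit W ≫ v₀) (𝟙 W) := by
        rw [← pair_comp, Category.id_comp]
        refine CartesianMonoidalCategory.hom_ext _ _ ?_ ?_
        · rw [Category.assoc, RatSpec.pair, lift_fst, Category.assoc, lift_fst, ← Category.assoc,
            ← specMap_comp, Algebra.TensorProduct.lift_comp_includeLeft, specMap_comp, Category.assoc,
            hv, ← Category.assoc, ← toUnit_specOver, ← Category.assoc (jn n), comp_toUnit]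
        · rw [Category.assoc, RatSpec.pair, lift_snd, Category.assoc, lift_snd, Category.comp_id,
            ← Category.assoc, ← specMap_comp]
          have : ρv.comp Algebra.TensorProduct.includeRight = AlgHom.id k _ :=
            AlgHom.ext fun r => by simp [ρv]
          rw [this, show specMap (AlgHom.id k (B ⧸ RingHom.ker χw ^ (n + 1))) = 𝟙 _ from
            Over.OverMorphism.ext (Spec.map_id _), Category.id_comp]
      rw [show T₀ = (jV ▷ W) ≫ g from rfl, reassoc_of% e, hW, ← Category.assoc,
        comp_toUnit]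
    have hθ : θ₀ = (Algebra.ofId k _).comp χa := by
      refine AlgHom.ext fun x => ?_
      choose e he using hk x
      obtain ⟨r, hr⟩ : ∃ r : B ⧸ RingHom.ker χw ^ (n + 1), θ₀ x = 1 ⊗ₜ r := by
        refine ⟨b.repr.symm (((Algebra.TensorProduct.basis C₀ b).repr (θ₀ x)).mapDomain id |>.support.sum
          fun i => Finsupp.single i (e i)), (Algebra.TensorProduct.basis C₀ b).repr.injective ?_⟩
        ext i
        rw [Algebra.TensorProduct.basis_repr_tmul, LinearEquiv.apply_symm_apply]
        simp only [Finsupp.mapDomain_id, one_smul, Finsupp.mapRange_apply, Finsupp.finset_sum_apply,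
          Finsupp.single_apply, Finset.sum_ite_eq']
        split_ifs with h
        · exact (he i).symm
        · rw [map_zero]; exact Finsupp.notMem_support_iff.1 h
      have h2 := AlgHom.congr_fun hρv x
      rw [AlgHom.comp_apply, hr] at h2
      have h3 : ρv ((1 : C₀) ⊗ₜ[k] r) = r := by simp [ρv]
      rw [h3] at h2
      rw [hr, h2]
      exact ((Algebra.TensorProduct.includeRight : _ →ₐ[k] C₀ ⊗[k] _).commutes (χa x))
    rw [← hθ₀, hθ, specMap_comp, Category.assoc, ha, ← Category.assoc, ← toUnit_specOver]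
  have hpiece : RatSpec.pair jV jW ≫ g = RatSpec.pair jV jW ≫ toUnit _ ≫ a₀ := by
    refine ext_of_forall (fun n : ℕ => Algebra.TensorProduct.map (AlgHom.id k C₀)
      (Ideal.Quotient.mkₐ k (RingHom.ker χw ^ (n + 1))))
      (eq_zero_of_forall (RingHom.ker χw) (RingHom.ker_ne_top _)) _ _ fun n => ?_
    have e : specMap (Algebra.TensorProduct.map (AlgHom.id k C₀)
        (Ideal.Quotient.mkₐ k (RingHom.ker χw ^ (n + 1)))) ≫ RatSpec.pair jV jW =
        RatSpec.pair (𝟙 (specOver k C₀)) (jn n) ≫ (jV ▷ W) := by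
      rw [pair_map, ← pair_comp, Category.id_comp]
      congr 1
      rw [show specMap (AlgHom.id k C₀) = 𝟙 _ from Over.OverMorphism.ext (Spec.map_id _),
        Category.id_comp]
    rw [reassoc_of% e, reassoc_of% e, key n, ← Category.assoc, ← Category.assoc, comp_toUnit]
  have := isOpenImmersion_pair jV jW
  have hgi := RatExt.geometricallyIntegral_prod V W
  have : IsIntegral (V ⊗ W).left := MaxAbelian.isIntegral_of_geometricallyIntegral
  have : IsDominant (RatSpec.pair jV jW).left := by
    refine ⟨((RatSpec.pair jV jW).left.isOpenEmbedding.isOpen_range).dense ?_⟩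
    let pt : C₀ ⊗[k] B →ₐ[k] k := Algebra.TensorProduct.lift χv χw fun _ _ => Commute.all _ _
    exact ⟨_, (specMap pt).left (IsLocalRing.closedPoint k), rfl⟩
  exact Over.OverMorphism.ext (ext_of_isDominant (RatSpec.pair jV jW).left
    (congrArg CommaMorphism.left hpiece))

end Groth.Agent.H23.RatProduct
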