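import Groth.Agent.H23.RatExt
import Groth.Agent.H23.EquidimFibres
import Mathlib.AlgebraicGeometry.Pullbacks
import Mathlib.AlgebraicGeometry.Morphisms.ClosedImmersion
import Mathlib.AlgebraicGeometry.Morphisms.Smooth
import Mathlib.RingTheory.TensorProduct.Free
import Mathlib.RingTheory.Filtration

/-!
Affine schemes over a field and maps between them.
-/

universe u

open CategoryTheory Limits AlgebraicGeometry TopologicalSpace MonoidalCategory CartesianMonoidalCategory TensorProduct

namespace Groth.Agent.H23.RatSpec

variable {k : Type u} [Field k]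

/-- The spectrum of an algebra, over the base field. -/
noncomputable abbrev specOver (k : Type u) [Field k] (B : Type u) [CommRing B] [Algebra k B] :
    Over (Spec (CommRingCat.of k)) :=
  Over.mk (Spec.map (CommRingCat.ofHom (algebraMap k B)))

variable {B C D E : Type u} [CommRing B] [Algebra k B] [CommRing C] [Algebra k C] [CommRing D]
  [Algebra k D] [CommRing E] [Algebra k E]

/-- The morphism of spectra given by an algebra map. -/
noncomputable def specMap (f : B →ₐ[k] C) : specOver k C ⟶ specOver k B :=
  Over.homMk (Spec.map (CommRingCat.ofHom f.toRingHom)) (by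
    show Spec.map _ ≫ Spec.map _ = Spec.map _
    rw [← Spec.map_comp, ← CommRingCat.ofHom_comp, AlgHom.toRingHom_eq_coe, AlgHom.comp_algebraMap])

theorem specMap_left (f : B →ₐ[k] C) :
    (specMap f).left = Spec.map (CommRingCat.ofHom f.toRingHom) := rfl

theorem specMap_comp (f : B →ₐ[k] C) (g : C →ₐ[k] D) :
    specMap (g.comp f) = specMap g ≫ specMap f := by
  ext1
  show Spec.map _ = Spec.map _ ≫ Spec.map _
  rw [← Spec.map_comp]
  rfl

theorem specMap_injective {f g : B →ₐ[k] C} (h : specMap f = specMap g) : f = g := by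
  have h' := Spec.map_injective (congrArg CommaMorphism.left h)
  exact AlgHom.ext fun b => RingHom.congr_fun (congrArg CommRingCat.Hom.hom h') b

/-- A morphism landing in an affine chart comes from an algebra map. -/
theorem exists_alg_of_range {X : Over (Spec (CommRingCat.of k))} (j : specOver k B ⟶ X)
    [IsOpenImmersion j.left] (h : specOver k D ⟶ X) (hr : Set.range h.left ⊆ Set.range j.left) :
    ∃ φ : B →ₐ[k] D, specMap φ ≫ j = h := by
  obtain ⟨φ, hφ⟩ := Spec.map_surjective (IsOpenImmersion.lift j.left h.left hr)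
  have hcomp : φ.hom.comp (algebraMap k B) = algebraMap k D := by
    have e : Spec.map φ ≫ Spec.map (CommRingCat.ofHom (algebraMap k B)) =
        Spec.map (CommRingCat.ofHom (algebraMap k D)) := by
      rw [hφ, show Spec.map (CommRingCat.ofHom (algebraMap k B)) = j.left ≫ X.hom from (Over.w j).symm,
        IsOpenImmersion.lift_fac_assoc]
      exact Over.w h
    rw [← Spec.map_comp] at e
    exact congrArg CommRingCat.Hom.hom (Spec.map_injective e)
  refine ⟨⟨φ.hom, fun r => RingHom.congr_fun hcomp r⟩, ?_⟩
  ext1
  show Spec.map φ ≫ j.left = h.left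
  rw [hφ, IsOpenImmersion.lift_fac]

theorem alg_ext {X : Over (Spec (CommRingCat.of k))} (j : specOver k B ⟶ X) [IsOpenImmersion j.left]
    {f g : B →ₐ[k] D} (h : specMap f ≫ j = specMap g ≫ j) : f = g := by
  refine specMap_injective (Over.OverMorphism.ext ?_)
  exact (cancel_mono j.left).1 (congrArg CommaMorphism.left h)

/-- An affine chart around a rational point. -/
theorem exists_chart (V : Over (Spec (CommRingCat.of k))) [LocallyOfFiniteType V.hom] [IsIntegral V.left]
    (v₀ : 𝟙_ (Over (Spec (CommRingCat.of k))) ⟶ V) :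
    ∃ (C₀ : Type u) (_ : CommRing C₀) (_ : Algebra k C₀) (j : specOver k C₀ ⟶ V) (χ : C₀ →ₐ[k] k),
      IsOpenImmersion j.left ∧ Algebra.FiniteType k C₀ ∧ IsDomain C₀ ∧
        specMap χ ≫ j = toUnit (specOver k k) ≫ v₀ := by
  obtain ⟨U, hU, hv, -⟩ := exists_isAffineOpen_mem_and_subset (x := v₀.left (IsLocalRing.closedPoint k)) (U := ⊤) trivial
  let φ : CommRingCat.of k ⟶ Γ(V.left, U) := Spec.preimage (hU.fromSpec ≫ V.hom)
  letI : Algebra k Γ(V.left, U) := φ.hom.toAlgebra
  let j : specOver k Γ(V.left, U) ⟶ V := Over.homMk hU.fromSpec (Spec.map_preimage _).symm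
  have hj : IsOpenImmersion j.left := inferInstanceAs (IsOpenImmersion hU.fromSpec)
  have : LocallyOfFiniteType (Spec.map φ) := by
    rw [Spec.map_preimage]
    infer_instance
  have hft : Algebra.FiniteType k Γ(V.left, U) :=
    (HasRingHomProperty.Spec_iff (P := @LocallyOfFiniteType)).1 this
  have : Nonempty U := ⟨⟨_, hv⟩⟩
  obtain ⟨χ, hχ⟩ := exists_alg_of_range j (toUnit (specOver k k) ≫ v₀) (by
    rintro _ ⟨y, rfl⟩
    show v₀.left ((toUnit (specOver k k)).left y) ∈ Set.range hU.fromSpec
    rw [hU.range_fromSpec]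
    rw [show (toUnit (specOver k k)).left y = IsLocalRing.closedPoint k from
      @Subsingleton.elim (Spec (CommRingCat.of k)) inferInstance _ _]
    exact hv)
  exact ⟨_, _, _, j, χ, hj, hft, inferInstance, hχ⟩

theorem isDominant_specMap [IsDomain B] (f : B →ₐ[k] C) (hf : Function.Injective f) :
    IsDominant (specMap f).left :=
  ⟨(PrimeSpectrum.denseRange_comap_iff_ker_le_nilRadical f.toRingHom).2 (by
    rw [(RingHom.injective_iff_ker_eq_bot f.toRingHom).1 hf]; exact bot_le)⟩

theorem geometricallyIntegral_specOver [IsAlgClosed k] [IsDomain B] [Algebra.FiniteType k B] :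
    GeometricallyIntegral (specOver k B).hom := by
  have : LocallyOfFiniteType (specOver k B).hom :=
    (HasRingHomProperty.Spec_iff (P := @LocallyOfFiniteType)).2 (RingHom.finiteType_algebraMap.2 ‹_›)
  have : IsIntegral (specOver k B).left := inferInstanceAs (IsIntegral (Spec (CommRingCat.of B)))
  exact EquidimFibres.geometricallyIntegral_of_isAlgClosed

theorem smooth_specOver [Algebra.Smooth k B] : Smooth (specOver k B).hom :=
  (HasRingHomProperty.Spec_iff (P := @Smooth)).2 (RingHom.smooth_algebraMap.2 ‹_›)

/-- The affine piece of a product given by two algebras. -/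
noncomputable def pair {V W : Over (Spec (CommRingCat.of k))} (jV : specOver k C ⟶ V)
    (jW : specOver k B ⟶ W) : specOver k (C ⊗[k] B) ⟶ V ⊗ W :=
  lift (specMap Algebra.TensorProduct.includeLeft ≫ jV) (specMap Algebra.TensorProduct.includeRight ≫ jW)

theorem isOpenImmersion_pair {V W : Over (Spec (CommRingCat.of k))} (jV : specOver k C ⟶ V)
    (jW : specOver k B ⟶ W) [IsOpenImmersion jV.left] [IsOpenImmersion jW.left] :
    IsOpenImmersion (pair jV jW).left := by
  have hf : (pair jV jW).left ≫ (fst V W).left =
      (specMap (Algebra.TensorProduct.includeLeft : C →ₐ[k] C ⊗[k] B)).left ≫ jV.left := by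
    rw [← Over.comp_left, pair, lift_fst, Over.comp_left]
  have hs : (pair jV jW).left ≫ (snd V W).left =
      (specMap (Algebra.TensorProduct.includeRight : B →ₐ[k] C ⊗[k] B)).left ≫ jW.left := by
    rw [← Over.comp_left, pair, lift_snd, Over.comp_left]
  rw [Over.fst_left] at hf
  rw [Over.snd_left] at hs
  have e : (pair jV jW).left = (pullbackSpecIso k C B).inv ≫
      pullback.map (Spec.map (CommRingCat.ofHom (algebraMap k C)))
        (Spec.map (CommRingCat.ofHom (algebraMap k B))) V.hom W.hom jV.left jW.left (𝟙 _)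
        (by rw [Category.comp_id]; exact (Over.w jV).symm)
        (by rw [Category.comp_id]; exact (Over.w jW).symm) := by
    refine pullback.hom_ext ?_ ?_
    · rw [Category.assoc, pullback.lift_fst, pullbackSpecIso_inv_fst_assoc]
      exact hf
    · rw [Category.assoc, pullback.lift_snd, pullbackSpecIso_inv_snd_assoc]
      exact hs
  rw [e]
  infer_instance

theorem pair_map {V W : Over (Spec (CommRingCat.of k))} (jV : specOver k C ⟶ V)
    (jW : specOver k B ⟶ W) (f : C →ₐ[k] D) (g : B →ₐ[k] E) :
    specMap (Algebra.TensorProduct.map f g) ≫ pair jV jW =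
      pair (specMap f ≫ jV) (specMap g ≫ jW) := by
  refine CartesianMonoidalCategory.hom_ext _ _ ?_ ?_
  · rw [Category.assoc]
    simp only [pair, lift_fst]
    rw [← Category.assoc, ← Category.assoc, ← specMap_comp, ← specMap_comp,
      Algebra.TensorProduct.map_comp_includeLeft]
  · rw [Category.assoc]
    simp only [pair, lift_snd]
    rw [← Category.assoc, ← Category.assoc, ← specMap_comp, ← specMap_comp,
      Algebra.TensorProduct.map_comp_includeRight]

theorem pair_comp {V V' W : Over (Spec (CommRingCat.of k))} (jV : specOver k C ⟶ V) (f : V ⟶ V')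
    (jW : specOver k B ⟶ W) : pair (jV ≫ f) jW = pair jV jW ≫ (f ▷ W) := by
  refine CartesianMonoidalCategory.hom_ext _ _ ?_ ?_
  · simp [pair]
  · simp [pair]

theorem pair_comp_whisker {V W W' : Over (Spec (CommRingCat.of k))} (jV : specOver k C ⟶ V)
    (g : W ⟶ W') (jW : specOver k B ⟶ W) : pair jV (jW ≫ g) = pair jV jW ≫ (V ◁ g) := by
  refine CartesianMonoidalCategory.hom_ext _ _ ?_ ?_
  · simp [pair]
  · simp [pair]

/-- An element of a base change with all coordinates from the subalgebra comes from it. -/
theorem repr_map {ι' : Type*} (b : Module.Basis ι' k B) (f : C →ₐ[k] D) (z : C ⊗[k] B) (i : ι') :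
    (Algebra.TensorProduct.basis D b).repr (Algebra.TensorProduct.map f (AlgHom.id k B) z) i =
      f ((Algebra.TensorProduct.basis C b).repr z i) := by
  induction z using TensorProduct.induction_on with
  | zero => simp
  | tmul x y => simp [Algebra.TensorProduct.basis_repr_tmul]
  | add x y hx hy => simp [map_add, hx, hy]

theorem map_id_injective (f : C →ₐ[k] D) (hf : Function.Injective f) :
    Function.Injective (Algebra.TensorProduct.map f (AlgHom.id k B)) := fun x y h =>
  (Algebra.TensorProduct.basis C (Module.Free.chooseBasis k B)).repr.injective (Finsupp.ext fun i =>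
    hf (by rw [← repr_map, ← repr_map, h]))

/-- Detecting elements of a base change modulo powers of a proper ideal of a domain. -/
theorem eq_zero_of_forall [IsDomain B] [IsNoetherianRing B] (m : Ideal B) (hm : m ≠ ⊤) (z : C ⊗[k] B)
    (h : ∀ n : ℕ, Algebra.TensorProduct.map (AlgHom.id k C) (Ideal.Quotient.mkₐ k (m ^ (n + 1))) z = 0) :
    z = 0 := by
  classical
  let b := Module.Free.chooseBasis k C
  refine (TensorProduct.equivFinsuppOfBasisLeft b).injective ?_
  rw [map_zero]
  ext i
  have key : ∀ n, (TensorProduct.equivFinsuppOfBasisLeft b z) i ∈ m ^ (n + 1) := fun n => by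
    rw [← Ideal.Quotient.eq_zero_iff_mem]
    have e : ∀ w : C ⊗[k] B,
        (TensorProduct.equivFinsuppOfBasisLeft b
          (Algebra.TensorProduct.map (AlgHom.id k C) (Ideal.Quotient.mkₐ k (m ^ (n + 1))) w)) i =
        Ideal.Quotient.mk (m ^ (n + 1)) ((TensorProduct.equivFinsuppOfBasisLeft b w) i) := by
      intro w
      induction w using TensorProduct.induction_on with
      | zero => simp
      | tmul x y =>
        simp only [Algebra.TensorProduct.map_tmul, AlgHom.id_apply,
          TensorProduct.equivFinsuppOfBasisLeft_apply_tmul_apply]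
        rw [← Ideal.Quotient.mkₐ_eq_mk k, map_smul]
      | add x y hx hy => simp [map_add, hx, hy]
    rw [← e, h n, map_zero]
    rfl
  have hmem : (TensorProduct.equivFinsuppOfBasisLeft b z) i ∈ ⨅ n, m ^ n :=
    Ideal.mem_iInf.2 fun n => Ideal.pow_le_pow_right (Nat.le_succ n) (key n)
  rw [Ideal.iInf_pow_eq_bot_of_isDomain m hm] at hmem
  exact Ideal.mem_bot.1 hmem

/-- Two morphisms out of an affine scheme agreeing after a jointly injective family agree. -/
theorem ext_of_forall {A : Over (Spec (CommRingCat.of k))} [IsSeparated A.hom] {κ : Type*}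
    {R : κ → Type u} [∀ n, CommRing (R n)] [∀ n, Algebra k (R n)] (φ : ∀ n, B →ₐ[k] R n)
    (hφ : ∀ z : B, (∀ n, φ n z = 0) → z = 0) (f g : specOver k B ⟶ A)
    (h : ∀ n, specMap (φ n) ≫ f = specMap (φ n) ≫ g) : f = g := by
  let P : Spec (CommRingCat.of B) ⟶ pullback A.hom A.hom :=
    pullback.lift f.left g.left ((Over.w f).trans (Over.w g).symm)
  let d := pullback.diagonal A.hom
  have hd : IsClosedImmersion d := IsSeparated.isClosedImmersion_diagonal
  have hEq : IsClosedImmersion (pullback.fst P d) := MorphismProperty.pullback_fst _ _ hd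
  obtain ⟨I, e, he⟩ := IsClosedImmersion.Spec_iff.1 hEq
  have hI : I = ⊥ := eq_bot_iff.2 fun z hz => Ideal.mem_bot.2 (hφ z fun n => by
    have hc : (specMap (φ n)).left ≫ P = ((specMap (φ n)).left ≫ f.left) ≫ d := by
      refine pullback.hom_ext ?_ ?_
      · rw [Category.assoc, pullback.lift_fst]
        simp [d]
      · simp only [P, d, Category.assoc, pullback.lift_snd, pullback.diagonal_snd, Category.comp_id]
        exact (congrArg CommaMorphism.left (h n)).symm
    let l := pullback.lift (f := P) (g := d) (specMap (φ n)).left ((specMap (φ n)).left ≫ f.left) hc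
    obtain ⟨ψ, hψ⟩ := Spec.map_surjective (l ≫ e.hom)
    have e' : Spec.map ψ ≫ Spec.map (CommRingCat.ofHom (Ideal.Quotient.mk I)) = (specMap (φ n)).left := by
      rw [hψ, Category.assoc, ← he]
      exact pullback.lift_fst _ _ _
    rw [← Spec.map_comp] at e'
    have e'' := congrArg (fun t => t.hom z) (Spec.map_injective e')
    have : ψ.hom (Ideal.Quotient.mk I z) = φ n z := e''
    rw [← this, Ideal.Quotient.eq_zero_iff_mem.2 hz, map_zero])
  have : IsIso (pullback.fst P d) := by
    rw [he]
    have : Function.Bijective (Ideal.Quotient.mk I) :=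
      ⟨Ideal.Quotient.mk_bijective_iff_eq_bot I |>.2 hI |>.1, Ideal.Quotient.mk_surjective⟩
    have : IsIso (CommRingCat.ofHom (Ideal.Quotient.mk I)) := (ConcreteCategory.isIso_iff_bijective _).2 this
    infer_instance
  have hP : P = inv (pullback.fst P d) ≫ pullback.snd P d ≫ d := by
    rw [IsIso.eq_inv_comp]
    exact pullback.condition
  ext1
  have h1 : P ≫ pullback.fst _ _ = f.left := pullback.lift_fst _ _ _
  have h2 : P ≫ pullback.snd _ _ = g.left := pullback.lift_snd _ _ _
  rw [← h1, ← h2, hP]
  simp [d]

end Groth.Agent.H23.RatSpec
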