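import Groth.Agent.H23.RatSpec
import Mathlib.RingTheory.FiniteType
import Mathlib.FieldTheory.Finite.Basic
import Mathlib.Algebra.CharP.Lemmas
import Mathlib.GroupTheory.OrderOfElement

/-!
Points of algebraic groups with coordinates in small subfields.
-/

universe u

open CategoryTheory Limits AlgebraicGeometry TopologicalSpace MonoidalCategory CartesianMonoidalCategory TensorProduct
open scoped MonObj

namespace Groth.Agent.H23.RatlPoints

open RatSpec

variable {k : Type u} [Field k]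

/-- `a` takes values in `F` at every point with coordinates in `F`, once `F` contains a finite set. -/
theorem exists_coeffs {B : Type u} [CommRing B] [Algebra k B] (s : Set B) (hs : Algebra.adjoin k s = ⊤)
    (a : B) : ∃ S : Set k, S.Finite ∧ ∀ F : Subfield k, S ⊆ F →
      ∀ χ : B →ₐ[k] k, (∀ x ∈ s, χ x ∈ F) → χ a ∈ F := by
  have ha : a ∈ Algebra.adjoin k s := hs ▸ Algebra.mem_top
  induction ha using Algebra.adjoin_induction with
  | mem x hx => exact ⟨∅, Set.finite_empty, fun F _ χ h => h x hx⟩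
  | algebraMap c =>
    exact ⟨{c}, Set.finite_singleton c, fun F hF χ _ => by
      rw [AlgHom.commutes]; exact hF rfl⟩
  | add x y _ _ hx hy =>
    obtain ⟨S, hS, h1⟩ := hx
    obtain ⟨T, hT, h2⟩ := hy
    exact ⟨S ∪ T, hS.union hT, fun F hF χ h => by
      rw [map_add]
      exact add_mem (h1 F (Set.subset_union_left.trans hF) χ h) (h2 F (Set.subset_union_right.trans hF) χ h)⟩
  | mul x y _ _ hx hy =>
    obtain ⟨S, hS, h1⟩ := hx
    obtain ⟨T, hT, h2⟩ := hy
    exact ⟨S ∪ T, hS.union hT, fun F hF χ h => by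
      rw [map_mul]
      exact mul_mem (h1 F (Set.subset_union_left.trans hF) χ h) (h2 F (Set.subset_union_right.trans hF) χ h)⟩

theorem exists_coeffs_tensor {B C : Type u} [CommRing B] [Algebra k B] [CommRing C] [Algebra k C]
    (s : Set B) (hs : Algebra.adjoin k s = ⊤) (t : Set C) (ht : Algebra.adjoin k t = ⊤) (z : B ⊗[k] C) :
    ∃ S : Set k, S.Finite ∧ ∀ F : Subfield k, S ⊆ F → ∀ (χ : B →ₐ[k] k) (ψ : C →ₐ[k] k),
      (∀ x ∈ s, χ x ∈ F) → (∀ y ∈ t, ψ y ∈ F) → Algebra.TensorProduct.productMap χ ψ z ∈ F := by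
  induction z using TensorProduct.induction_on with
  | zero => exact ⟨∅, Set.finite_empty, fun F _ χ ψ _ _ => by rw [map_zero]; exact zero_mem F⟩
  | tmul b c =>
    obtain ⟨S, hS, h1⟩ := exists_coeffs s hs b
    obtain ⟨T, hT, h2⟩ := exists_coeffs t ht c
    exact ⟨S ∪ T, hS.union hT, fun F hF χ ψ h h' => by
      rw [Algebra.TensorProduct.productMap_apply_tmul]
      exact mul_mem (h1 F (Set.subset_union_left.trans hF) χ h) (h2 F (Set.subset_union_right.trans hF) ψ h')⟩
  | add x y hx hy =>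
    obtain ⟨S, hS, h1⟩ := hx
    obtain ⟨T, hT, h2⟩ := hy
    exact ⟨S ∪ T, hS.union hT, fun F hF χ ψ h h' => by
      rw [map_add]
      exact add_mem (h1 F (Set.subset_union_left.trans hF) χ ψ h h')
        (h2 F (Set.subset_union_right.trans hF) χ ψ h h')⟩

theorem productMap_pair {V W : Over (Spec (CommRingCat.of k))} {B C : Type u} [CommRing B] [Algebra k B]
    [CommRing C] [Algebra k C] (jV : specOver k B ⟶ V) (jW : specOver k C ⟶ W) (χ : B →ₐ[k] k)
    (ψ : C →ₐ[k] k) : specMap (Algebra.TensorProduct.productMap χ ψ) ≫ RatSpec.pair jV jW =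
      lift (specMap χ ≫ jV) (specMap ψ ≫ jW) := by
  refine CartesianMonoidalCategory.hom_ext _ _ ?_ ?_
  · simp only [RatSpec.pair, Category.assoc, lift_fst]
    rw [← Category.assoc, ← specMap_comp, Algebra.TensorProduct.productMap_left]
  · simp only [RatSpec.pair, Category.assoc, lift_snd]
    rw [← Category.assoc, ← specMap_comp, Algebra.TensorProduct.productMap_right]

/-- A finite affine atlas. -/
theorem exists_atlas (A : Over (Spec (CommRingCat.of k))) [LocallyOfFiniteType A.hom] [QuasiCompact A.hom] :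
    ∃ (κ : Type u) (_ : Finite κ) (B : κ → Type u) (_ : ∀ i, CommRing (B i)) (_ : ∀ i, Algebra k (B i))
      (j : ∀ i, specOver k (B i) ⟶ A),
      (∀ i, IsOpenImmersion (j i).left ∧ Algebra.FiniteType k (B i)) ∧
      ∀ x : A.left, ∃ i, x ∈ Set.range (j i).left := by
  haveI : CompactSpace A.left := QuasiCompact.compactSpace_of_compactSpace A.hom
  have hc : ∀ x : A.left, ∃ U : A.left.Opens, IsAffineOpen U ∧ x ∈ U := fun x => by
    obtain ⟨U, hU, hx, -⟩ := exists_isAffineOpen_mem_and_subset (x := x) (U := ⊤) trivial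
    exact ⟨U, hU, hx⟩
  choose U hU hx using hc
  obtain ⟨t, ht⟩ := isCompact_univ.elim_finite_subcover (fun x => (U x : Set A.left)) (fun x => (U x).isOpen)
    fun x _ => Set.mem_iUnion.2 ⟨x, hx x⟩
  let φ : ∀ i : t, CommRingCat.of k ⟶ Γ(A.left, U i) := fun i => Spec.preimage ((hU i).fromSpec ≫ A.hom)
  letI : ∀ i : t, Algebra k Γ(A.left, U i) := fun i => (φ i).hom.toAlgebra
  refine ⟨t, inferInstance, fun i => Γ(A.left, U i), inferInstance, inferInstance,
    fun i => Over.homMk (hU i).fromSpec (Spec.map_preimage _).symm, fun i => ⟨?_, ?_⟩, fun x => ?_⟩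
  · exact inferInstanceAs (IsOpenImmersion (hU i).fromSpec)
  · have : LocallyOfFiniteType (Spec.map (φ i)) := by
      rw [Spec.map_preimage]
      infer_instance
    exact (HasRingHomProperty.Spec_iff (P := @LocallyOfFiniteType)).1 this
  · obtain ⟨y, hy, hxy⟩ := Set.mem_iUnion₂.1 (ht (Set.mem_univ x))
    refine ⟨⟨y, hy⟩, ?_⟩
    show x ∈ Set.range (hU y).fromSpec
    rw [(hU y).range_fromSpec]
    exact hxy

variable (A : Over (Spec (CommRingCat.of k))) {κ : Type u} {B : κ → Type u} [∀ i, CommRing (B i)]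
  [∀ i, Algebra k (B i)] (j : ∀ i, specOver k (B i) ⟶ A) (s : ∀ i, Set (B i))

/-- Points with coordinates in a subfield. -/
def goodPts (F : Subfield k) : Set (specOver k k ⟶ A) :=
  {P | ∃ (i : κ) (χ : B i →ₐ[k] k), (∀ x ∈ s i, χ x ∈ F) ∧ specMap χ ≫ j i = P}

variable (hs : ∀ i, Algebra.adjoin k (s i) = ⊤) (hfin : ∀ i, (s i).Finite)

include hs hfin in
theorem finite_goodPts [Finite κ] (F : Subfield k) [Finite F] : (goodPts A j s F).Finite := by
  have : ∀ i, {χ : B i →ₐ[k] k | ∀ x ∈ s i, χ x ∈ F}.Finite := fun i => by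
    haveI : Finite (s i) := (hfin i).to_subtype
    refine Set.finite_coe_iff.1 (Finite.of_injective
      (fun (χ : {χ : B i →ₐ[k] k | ∀ x ∈ s i, χ x ∈ F}) (x : s i) => (⟨χ.1 x.1, χ.2 x.1 x.2⟩ : F)) ?_)
    intro χ χ' h
    exact Subtype.ext (AlgHom.ext_of_adjoin_eq_top (hs i) fun x hx =>
      congrArg Subtype.val (congrFun h ⟨x, hx⟩))
  refine (Set.finite_iUnion fun i => (this i).image fun χ => specMap χ ≫ j i).subset ?_
  rintro P ⟨i, χ, hχ, rfl⟩
  exact Set.mem_iUnion.2 ⟨i, χ, hχ, rfl⟩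

variable (hj : ∀ i, IsOpenImmersion (j i).left) (hcov : ∀ x : A.left, ∃ i, x ∈ Set.range (j i).left)

include hj hcov in
theorem exists_chart_point (P : specOver k k ⟶ A) : ∃ (i : κ) (χ : B i →ₐ[k] k), specMap χ ≫ j i = P := by
  obtain ⟨i, hi⟩ := hcov (P.left (IsLocalRing.closedPoint k))
  haveI := hj i
  obtain ⟨χ, hχ⟩ := exists_alg_of_range (j i) P (by
    rintro _ ⟨q, rfl⟩
    rwa [show q = IsLocalRing.closedPoint k from Subsingleton.elim (α := PrimeSpectrum k) _ _])
  exact ⟨i, χ, hχ⟩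

include hj hcov in
/-- Locally on a product of charts, multiplication is given by fractions. -/
theorem exists_frac [GrpObj A] (a b : κ) (q : PrimeSpectrum (B a ⊗[k] B b)) :
    ∃ (h : B a ⊗[k] B b), h ∉ q.asIdeal ∧ ∃ (l : κ), ∀ x : B l, ∃ (n : B a ⊗[k] B b) (m : ℕ),
      ∀ (χ : B a →ₐ[k] k) (ψ : B b →ₐ[k] k), Algebra.TensorProduct.productMap χ ψ h ≠ 0 →
        ∃ θ : B l →ₐ[k] k, specMap θ ≫ j l = (specMap χ ≫ j a) * (specMap ψ ≫ j b) ∧
          θ x * (Algebra.TensorProduct.productMap χ ψ h) ^ m = Algebra.TensorProduct.productMap χ ψ n := by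
  let f := RatSpec.pair (j a) (j b) ≫ μ[A]
  obtain ⟨l, hl⟩ := hcov (f.left q)
  haveI := hj l
  let V : (Spec (CommRingCat.of (B a ⊗[k] B b))).Opens := f.left ⁻¹ᵁ (j l).left.opensRange
  obtain ⟨_, ⟨h, rfl⟩, hq, hle⟩ := PrimeSpectrum.isTopologicalBasis_basic_opens.exists_subset_of_mem_open
    (show q ∈ (show Set (PrimeSpectrum (B a ⊗[k] B b)) from V.1) from hl) V.isOpen
  let L := Localization.Away h
  let loc : B a ⊗[k] B b →ₐ[k] L := IsScalarTower.toAlgHom k _ L
  obtain ⟨φ, hφ⟩ := exists_alg_of_range (j l) (specMap loc ≫ f) (by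
    rintro _ ⟨y, rfl⟩
    have hy : (specMap loc).left y ∈ (PrimeSpectrum.basicOpen h : Set (PrimeSpectrum (B a ⊗[k] B b))) := by
      rw [← PrimeSpectrum.localization_away_comap_range L h]
      exact ⟨y, rfl⟩
    exact hle hy)
  refine ⟨h, hq, l, fun x => ?_⟩
  obtain ⟨⟨n, ⟨_, m, rfl⟩⟩, hn⟩ := IsLocalization.surj (Submonoid.powers h) (φ x)
  refine ⟨n, m, fun χ ψ hne => ?_⟩
  let ev := Algebra.TensorProduct.productMap χ ψ
  let ev' : L →ₐ[k] k :=
    { (IsLocalization.Away.lift h (g := ev.toRingHom) (Ne.isUnit hne) : L →+* k) with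
      commutes' := fun r => by
        show IsLocalization.Away.lift h (g := ev.toRingHom) (Ne.isUnit hne) (algebraMap k L r) = _
        rw [IsScalarTower.algebraMap_apply k (B a ⊗[k] B b) L, IsLocalization.Away.lift_eq]
        exact ev.commutes r }
  have hev : ev'.comp loc = ev := AlgHom.ext fun z => IsLocalization.Away.lift_eq h (Ne.isUnit hne) z
  refine ⟨ev'.comp φ, ?_, ?_⟩
  · rw [specMap_comp, Category.assoc, hφ, ← Category.assoc, ← specMap_comp, hev, ← Category.assoc,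
      productMap_pair]
    rfl
  · have := congrArg ev' hn
    rw [map_mul] at this
    rw [show ev' (algebraMap (B a ⊗[k] B b) L n) = ev n from DFunLike.congr_fun hev n,
      show ev' ((algebraMap (B a ⊗[k] B b) L) (h ^ m)) = ev h ^ m from
        (DFunLike.congr_fun hev (h ^ m)).trans (map_pow ev h m)] at this
    exact this

include hs hfin hj hcov in
theorem exists_closed_mul [GrpObj A] [Finite κ] :
    ∃ S : Set k, S.Finite ∧ ∀ F : Subfield k, S ⊆ F →
      ∀ P ∈ goodPts A j s F, ∀ Q ∈ goodPts A j s F, P * Q ∈ goodPts A j s F := by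
  choose h hh l n m hθ using fun ab : κ × κ => exists_frac A j hj hcov ab.1 ab.2
  have hsel : ∀ ab : κ × κ, ∃ t : Finset (PrimeSpectrum (B ab.1 ⊗[k] B ab.2)),
      ∀ q : PrimeSpectrum (B ab.1 ⊗[k] B ab.2), ∃ q' ∈ t, h ab q' ∉ q.asIdeal := fun ab => by
    obtain ⟨t, ht⟩ := isCompact_univ.elim_finite_subcover
      (fun q' => (PrimeSpectrum.basicOpen (h ab q') : Set (PrimeSpectrum (B ab.1 ⊗[k] B ab.2))))
      (fun q' => (PrimeSpectrum.basicOpen (h ab q')).isOpen) fun q _ => Set.mem_iUnion.2 ⟨q, hh ab q⟩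
    exact ⟨t, fun q => by simpa using ht (Set.mem_univ q)⟩
  choose t ht using hsel
  choose c hc hcF using fun ab : κ × κ =>
    exists_coeffs_tensor (s ab.1) (hs ab.1) (s ab.2) (hs ab.2)
  refine ⟨⋃ ab : κ × κ, ⋃ q ∈ t ab, (c ab (h ab q) ∪ ⋃ x ∈ s (l ab q), c ab (n ab q x)), ?_, ?_⟩
  · refine Set.finite_iUnion fun ab => (t ab).finite_toSet.biUnion fun q _ => ?_
    exact (hc _ _).union ((hfin _).biUnion fun x _ => hc _ _)
  rintro F hF _ ⟨a, χ, hχ, rfl⟩ _ ⟨b, ψ, hψ, rfl⟩
  let ev := Algebra.TensorProduct.productMap χ ψ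
  obtain ⟨q', hq', hne⟩ := ht (a, b) ⟨RingHom.ker ev.toRingHom, RingHom.ker_isPrime _⟩
  have hne' : ev (h (a, b) q') ≠ 0 := fun h0 => hne h0
  obtain ⟨θ, hθ1⟩ : ∃ θ : B (l (a, b) q') →ₐ[k] k, specMap θ ≫ j _ = (specMap χ ≫ j a) * (specMap ψ ≫ j b) := by
    obtain ⟨θ, h1, -⟩ := hθ (a, b) q' 1 χ ψ hne'
    exact ⟨θ, h1⟩
  refine ⟨l (a, b) q', θ, fun x hx => ?_, hθ1⟩
  have hsub : ∀ {T : Set k}, T ⊆ (c (a, b) (h (a, b) q') ∪ ⋃ x ∈ s (l (a, b) q'), c (a, b) (n (a, b) q' x)) →
      T ⊆ F := fun hT => (hT.trans (Set.subset_biUnion_of_mem (u := fun q =>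
        c (a, b) (h (a, b) q) ∪ ⋃ x ∈ s (l (a, b) q), c (a, b) (n (a, b) q x)) hq')).trans
        ((Set.subset_iUnion (fun ab : κ × κ => ⋃ q ∈ t ab,
          (c ab (h ab q) ∪ ⋃ x ∈ s (l ab q), c ab (n ab q x))) (a, b)).trans hF)
  have hhF : ev (h (a, b) q') ∈ F := hcF (a, b) _ F (hsub Set.subset_union_left) χ ψ hχ hψ
  have hnF : ev (n (a, b) q' x) ∈ F := hcF (a, b) _ F (hsub (Set.subset_union_of_subset_right
    (Set.subset_biUnion_of_mem (u := fun x => c (a, b) (n (a, b) q' x)) hx) _)) χ ψ hχ hψ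
  obtain ⟨θ', h1, h2⟩ := hθ (a, b) q' x χ ψ hne'
  haveI := hj (l (a, b) q')
  obtain rfl : θ' = θ := alg_ext (j _) (h1.trans hθ1.symm)
  have : θ' x = ev (n (a, b) q' x) / ev (h (a, b) q') ^ m (a, b) q' x :=
    (eq_div_iff (pow_ne_zero _ hne')).2 h2
  rw [this]
  exact div_mem hnF (pow_mem hhF _)

/-- A finite set of a field algebraic over a finite prime field lies in a finite subfield. -/
theorem exists_finite_subfield (p : ℕ) [Fact p.Prime] [CharP k p]
    (halg : ∀ x : k, ∃ n : ℕ, 0 < n ∧ x ^ (p ^ n) = x) {S : Set k} (hS : S.Finite) :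
    ∃ F : Subfield k, S ⊆ F ∧ Finite F := by
  classical
  haveI : ExpChar k p := .prime Fact.out
  choose n hn hx using halg
  let N := ∏ x ∈ hS.toFinset, n x
  have hN : 0 < N := Finset.prod_pos fun x _ => hn x
  refine ⟨(iterateFrobenius k p N).eqLocusField (RingHom.id k), fun x hxS => ?_, ?_⟩
  · obtain ⟨d, hd⟩ : n x ∣ N := Finset.dvd_prod_of_mem _ (hS.mem_toFinset.2 hxS)
    have : ∀ e : ℕ, x ^ p ^ (n x * e) = x := fun e => by
      induction e with
      | zero => simp
      | succ e ih => rw [Nat.mul_succ, pow_add, pow_mul, ih, hx]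
    show iterateFrobenius k p N x = x
    rw [iterateFrobenius_def, hd, this]
  · have hne : (Polynomial.X ^ (p ^ N) - Polynomial.X : Polynomial k) ≠ 0 :=
      FiniteField.X_pow_card_pow_sub_X_ne_zero k hN.ne' (Fact.out : p.Prime).one_lt
    refine Set.finite_coe_iff.2 ((Polynomial.finite_setOf_isRoot hne).subset fun x hx' => ?_)
    have h : iterateFrobenius k p N x = x := hx'
    rw [iterateFrobenius_def] at h
    simp [h]

theorem isOfFinOrder (p : ℕ) [Fact p.Prime] [CharP k p]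
    (halg : ∀ x : k, ∃ n : ℕ, 0 < n ∧ x ^ (p ^ n) = x)
    (A : Over (Spec (CommRingCat.of k))) [GrpObj A] [LocallyOfFiniteType A.hom] [QuasiCompact A.hom]
    (P : specOver k k ⟶ A) : IsOfFinOrder P := by
  obtain ⟨κ, _, B, _, _, j, hj, hcov⟩ := exists_atlas A
  have hft : ∀ i, ∃ s : Set (B i), s.Finite ∧ Algebra.adjoin k s = ⊤ := fun i => by
    obtain ⟨s, hs⟩ := (hj i).2.out
    exact ⟨s, s.finite_toSet, hs⟩
  choose s hfin hs using hft
  obtain ⟨S, hS, hmul⟩ := exists_closed_mul A j s hs hfin (fun i => (hj i).1) hcov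
  obtain ⟨i, χ, hχ⟩ := exists_chart_point A j (fun i => (hj i).1) hcov P
  obtain ⟨F, hF, _⟩ := exists_finite_subfield p halg (hS.union ((hfin i).image χ))
  have hP : P ∈ goodPts A j s F :=
    ⟨i, χ, fun x hx => hF (Or.inr ⟨x, hx, rfl⟩), hχ⟩
  have hpow : ∀ n : ℕ, P ^ (n + 1) ∈ goodPts A j s F := fun n => by
    induction n with
    | zero => simpa using hP
    | succ n ih =>
      rw [pow_succ]
      exact hmul F (Set.subset_union_left.trans hF) _ ih _ hP
  by_contra hinf
  have hi : Function.Injective fun n : ℕ => P ^ (n + 1) :=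
    (injective_pow_iff_not_isOfFinOrder.2 hinf).comp Nat.succ_injective
  exact Set.infinite_of_injective_forall_mem hi hpow (finite_goodPts A j s hs hfin F)

end Groth.Agent.H23.RatlPoints
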