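import Groth.Agent.QCoh.FlatExchange
import Groth.Agent.FlatCxLib.Exchange
import Mathlib.LinearAlgebra.Contraction
import Mathlib.RingTheory.Flat.EquationalCriterion
import Mathlib.CategoryTheory.Functor.EpiMono

/-!
The degree zero homology of a flat complex with finite homology is corepresented by a finite module.
-/

universe u

open CategoryTheory CategoryTheory.Limits TensorProduct

namespace Groth.Agent.H23.RepMod

variable {A : Type u} [CommRing A]

/-- `E ⊗ M → Hom(E^∨, M)`. -/
noncomputable def theta (E M : Type u) [AddCommGroup E] [Module A E] [AddCommGroup M] [Module A M] :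
    E ⊗[A] M →ₗ[A] (Module.Dual A E →ₗ[A] M) :=
  dualTensorHom A (Module.Dual A E) M ∘ₗ (Module.Dual.eval A E).rTensor M

theorem theta_tmul (E M : Type u) [AddCommGroup E] [Module A E] [AddCommGroup M] [Module A M]
    (p : E) (m : M) (φ : Module.Dual A E) : theta E M (p ⊗ₜ[A] m) φ = φ p • m := by
  simp [theta]

theorem bijective_theta (E M : Type u) [AddCommGroup E] [Module A E] [Module.Finite A E] [Module.Projective A E]
    [AddCommGroup M] [Module A M] : Function.Bijective (theta (A := A) E M) := by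
  refine (dualTensorHom_bijective (R := A) (M := Module.Dual A E) (N := M)).comp ?_
  exact (TensorProduct.congr (Module.evalEquiv A E) (LinearEquiv.refl A M)).bijective

/-- The cokernel of the dual. -/
abbrev Q {P E : Type u} [AddCommGroup P] [Module A P] [AddCommGroup E] [Module A E] (f : P →ₗ[A] E) : Type u :=
  Module.Dual A P ⧸ LinearMap.range f.dualMap

theorem exists_equiv_ker {P E : Type u} [AddCommGroup P] [Module A P] [Module.Finite A P] [Module.Projective A P]
    [AddCommGroup E] [Module A E] [Module.Finite A E] [Module.Projective A E] (f : P →ₗ[A] E) :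
    ∃ e : ∀ (M : Type u) [AddCommGroup M] [Module A M], (Q f →ₗ[A] M) ≃ₗ[A] LinearMap.ker (f.rTensor M),
      ∀ (M N : Type u) [AddCommGroup M] [Module A M] [AddCommGroup N] [Module A N] (g : M →ₗ[A] N)
        (φ : Q f →ₗ[A] M), (e N (g ∘ₗ φ)).1 = g.lTensor P (e M φ).1 := by
  let tP := fun (M : Type u) [AddCommGroup M] [Module A M] => LinearEquiv.ofBijective _ (bijective_theta (A := A) P M)
  have hcomm : ∀ (M : Type u) [AddCommGroup M] [Module A M] (x : P ⊗[A] M),
      theta E M (f.rTensor M x) = (theta P M x) ∘ₗ f.dualMap := by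
    intro M _ _ x
    induction x using TensorProduct.induction_on with
    | zero => simp
    | tmul p m => ext φ; simp [theta_tmul]
    | add a b ha hb => simp [ha, hb, LinearMap.add_comp]
  have hnat : ∀ (M N : Type u) [AddCommGroup M] [Module A M] [AddCommGroup N] [Module A N] (g : M →ₗ[A] N)
      (x : P ⊗[A] M), theta P N (g.lTensor P x) = g ∘ₗ theta P M x := by
    intro M N _ _ _ _ g x
    induction x using TensorProduct.induction_on with
    | zero => simp
    | tmul p m => ext φ; simp [theta_tmul]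
    | add a b ha hb => simp [ha, hb, LinearMap.comp_add]
  let toK : ∀ (M : Type u) [AddCommGroup M] [Module A M], (Q f →ₗ[A] M) →ₗ[A] LinearMap.ker (f.rTensor M) :=
    fun M _ _ => LinearMap.codRestrict _
      ((tP M).symm.toLinearMap ∘ₗ LinearMap.lcomp A M (LinearMap.range f.dualMap).mkQ) fun φ => by
      rw [LinearMap.mem_ker]
      refine (bijective_theta E M).1 ?_
      rw [map_zero, hcomm]
      show ((tP M) ((tP M).symm (φ ∘ₗ (LinearMap.range f.dualMap).mkQ))) ∘ₗ f.dualMap = 0
      rw [LinearEquiv.apply_symm_apply, LinearMap.comp_assoc, LinearMap.range_mkQ_comp, LinearMap.comp_zero]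
  refine ⟨fun M _ _ => LinearEquiv.ofBijective (toK M) ⟨fun φ ψ h => ?_, fun x => ?_⟩, fun M N _ _ _ _ g φ => ?_⟩
  · exact Submodule.linearMap_qext _ ((tP M).symm.injective (congrArg Subtype.val h))
  · have hr : LinearMap.range f.dualMap ≤ LinearMap.ker (theta P M x.1) := by
      rintro _ ⟨ψ, rfl⟩
      have h := LinearMap.congr_fun (hcomm M x.1) ψ
      rw [LinearMap.mem_ker.1 x.2, map_zero] at h
      exact h.symm
    refine ⟨(LinearMap.range f.dualMap).liftQ (theta P M x.1) hr, Subtype.ext ?_⟩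
    refine (tP M).injective ?_
    refine ((tP M).apply_symm_apply _).trans ?_
    exact Submodule.liftQ_mkQ (LinearMap.range f.dualMap) (theta P M x.1) hr
  · refine (tP N).injective ?_
    refine ((tP N).apply_symm_apply _).trans ?_
    show _ = theta P N (g.lTensor P _)
    rw [hnat]
    show (g ∘ₗ φ) ∘ₗ _ = g ∘ₗ (tP M) ((tP M).symm (φ ∘ₗ (LinearMap.range f.dualMap).mkQ))
    rw [LinearEquiv.apply_symm_apply, LinearMap.comp_assoc]

section Equiv

variable {Z X Y : Type u} [AddCommGroup Z] [Module A Z] [AddCommGroup X] [Module A X] [AddCommGroup Y] [Module A Y]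
  (u : Z →ₗ[A] X) (v : Z →ₗ[A] Y) (hu : Function.Surjective u) (hv : Function.Surjective v)
  (h : LinearMap.ker u = LinearMap.ker v)

/-- Two surjections with the same kernel have isomorphic targets. -/
noncomputable def equivOfKer : X ≃ₗ[A] Y :=
  (u.quotKerEquivOfSurjective hu).symm.trans ((Submodule.quotEquivOfEq _ _ h).trans (v.quotKerEquivOfSurjective hv))

theorem equivOfKer_apply (z : Z) : equivOfKer u v hu hv h (u z) = v z := by
  unfold equivOfKer
  rw [LinearEquiv.trans_apply, LinearEquiv.trans_apply,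
    show (u.quotKerEquivOfSurjective hu).symm (u z) = Submodule.Quotient.mk z from
      (LinearEquiv.symm_apply_eq _).2 (LinearMap.quotKerEquivOfSurjective_apply_mk _ _ _).symm,
    Submodule.quotEquivOfEq_mk, LinearMap.quotKerEquivOfSurjective_apply_mk]

end Equiv

section Chain

variable (P : ChainComplex (ModuleCat.{u} A) ℤ)

/-- `W_0 → P_{-1}`. -/
noncomputable abbrev desc : FlatCxLib.Coker P 1 0 →ₗ[A] P.X (-1) := FlatCxLib.cokerDesc P 1 0 (-1)

/-- Cycles to the kernel on the cokernel. -/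
noncomputable def toF (M : ModuleCat.{u} A) :
    LinearMap.ker ((P.d 0 (-1)).hom.rTensor M) →ₗ[A] LinearMap.ker ((desc P).rTensor M) :=
  (((LinearMap.range (P.d 1 0).hom).mkQ.rTensor M).domRestrict _).codRestrict _ fun z => by
    rw [LinearMap.mem_ker, LinearMap.domRestrict_apply, ← LinearMap.comp_apply, ← LinearMap.rTensor_comp,
      show desc P ∘ₗ (LinearMap.range (P.d 1 0).hom).mkQ = (P.d 0 (-1)).hom from Submodule.liftQ_mkQ _ _ _]
    exact z.2

theorem toF_surjective (M : ModuleCat.{u} A) : Function.Surjective (toF P M) := fun ⟨y, hy⟩ => by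
  obtain ⟨x, rfl⟩ := LinearMap.rTensor_surjective M (Submodule.mkQ_surjective _) y
  refine ⟨⟨x, ?_⟩, rfl⟩
  rw [LinearMap.mem_ker] at hy ⊢
  rw [← show desc P ∘ₗ (LinearMap.range (P.d 1 0).hom).mkQ = (P.d 0 (-1)).hom from Submodule.liftQ_mkQ _ _ _,
    LinearMap.rTensor_comp, LinearMap.comp_apply]
  exact hy

/-- Cycles to homology. -/
noncomputable def toT (M : ModuleCat.{u} A) :
    LinearMap.ker ((P.d 0 (-1)).hom.rTensor M) →ₗ[A] CohIII.T P (0 : ℤ) M :=
  (FlatCxLib.clsHom (CohIII.tensorObj P M) 0 (-1)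
    (FlatCxLib.next_down (show (-1 : ℤ) + 1 = 0 by norm_num))).hom

theorem toT_surjective (M : ModuleCat.{u} A) : Function.Surjective (toT P M) := fun h => by
  obtain ⟨x, hx, rfl⟩ := FlatCxLib.cls_surjective (K := CohIII.tensorObj P M)
    (FlatCxLib.next_down (show (-1 : ℤ) + 1 = 0 by norm_num)) h
  exact ⟨⟨x, hx⟩, rfl⟩

theorem ker_toF (M : ModuleCat.{u} A) : LinearMap.ker (toF P M) = LinearMap.ker (toT P M) := by
  refine Submodule.ext fun z => ?_
  refine Iff.trans ?_ (FlatCxLib.cls_eq_zero_iff (K := CohIII.tensorObj P M)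
    (FlatCxLib.prev_down (show (0 : ℤ) + 1 = 1 by norm_num))
    (FlatCxLib.next_down (show (-1 : ℤ) + 1 = 0 by norm_num)) z.1 z.2).symm
  rw [LinearMap.mem_ker, Subtype.ext_iff]
  exact rTensor_exact M (P.d 1 0).hom.exact_map_mkQ_range (Submodule.mkQ_surjective _) z.1

/-- The kernel on the cokernel is the homology. -/
noncomputable def equivT (M : ModuleCat.{u} A) :
    LinearMap.ker ((desc P).rTensor M) ≃ₗ[A] CohIII.T P (0 : ℤ) M :=
  equivOfKer (X := LinearMap.ker ((desc P).rTensor M)) (toF P M) (toT P M) (toF_surjective P M)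
    (toT_surjective P M) (ker_toF P M)

theorem equivT_toF (M : ModuleCat.{u} A) (z) : equivT P M (toF P M z) = toT P M z := by
  unfold equivT
  apply equivOfKer_apply

theorem equivT_natural {M N : ModuleCat.{u} A} (g : M ⟶ N) (z : LinearMap.ker ((desc P).rTensor M))
    (w : LinearMap.ker ((desc P).rTensor N))
    (h : w.1 = g.hom.lTensor (FlatCxLib.Coker P 1 0) z.1) :
    equivT P N w = ((CohIII.TFun P (0 : ℤ)).map g).hom (equivT P M z) := by
  obtain ⟨⟨x, hx⟩, rfl⟩ := toF_surjective P M z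
  have hx' := FlatCxLib.cycle_map (CohIII.tensorMap P g) x hx
  have h1 : w = toF P N ⟨g.hom.lTensor (P.X 0) x, hx'⟩ := Subtype.ext (h.trans
    (FlatCxLib.lTensor_rTensor_comm g.hom _ x))
  rw [h1, equivT_toF, equivT_toF]
  exact (FlatCxLib.homologyMap_cls (CohIII.tensorMap P g)
    (FlatCxLib.next_down (show (-1 : ℤ) + 1 = 0 by norm_num)) x hx).symm

end Chain

section Cochain

variable (C : CochainComplex (ModuleCat.{u} A) ℕ)

theorem hk : (ComplexShape.up ℕ).next 0 = 1 := (ComplexShape.up ℕ).next_eq' rfl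

theorem d_zero_zero (M : ModuleCat.{u} A) : (CohIII.tensorObj C M).d 0 0 = 0 :=
  (CohIII.tensorObj C M).shape 0 0 (by simp)

/-- The kernel is the homology in degree zero. -/
noncomputable def kerEquivT (M : ModuleCat.{u} A) :
    LinearMap.ker ((C.d 0 1).hom.rTensor M) ≃ₗ[A] CohIII.T C 0 M :=
  LinearEquiv.ofBijective (FlatCxLib.clsHom (CohIII.tensorObj C M) 0 1 hk).hom
    ⟨(injective_iff_map_eq_zero _).2 fun z h => by
      obtain ⟨w, hw⟩ := (FlatCxLib.cls_eq_zero_iff (K := CohIII.tensorObj C M)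
        CochainComplex.prev_nat_zero hk z.1 z.2).1 h
      rw [d_zero_zero] at hw
      exact Subtype.ext (hw.symm.trans (by simp)),
    fun h => by
      obtain ⟨x, hx, rfl⟩ := FlatCxLib.cls_surjective (K := CohIII.tensorObj C M) hk h
      exact ⟨⟨x, hx⟩, rfl⟩⟩

theorem kerEquivT_natural {M N : ModuleCat.{u} A} (g : M ⟶ N) (z : LinearMap.ker ((C.d 0 1).hom.rTensor M))
    (w : LinearMap.ker ((C.d 0 1).hom.rTensor N)) (h : w.1 = g.hom.lTensor (C.X 0) z.1) :
    kerEquivT C N w = ((CohIII.TFun C 0).map g).hom (kerEquivT C M z) := by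
  obtain ⟨x, hx⟩ := z
  have h1 : w = ⟨g.hom.lTensor (C.X 0) x, FlatCxLib.cycle_map (CohIII.tensorMap C g) x hx⟩ := Subtype.ext h
  rw [h1]
  exact (FlatCxLib.homologyMap_cls (CohIII.tensorMap C g) hk x hx).symm

theorem preservesMono (hflat : Module.Flat A (C.X 0)) : (CohIII.TFun C 0).PreservesMonomorphisms := by
  refine ⟨fun {M N} g _ => ?_⟩
  rw [ModuleCat.mono_iff_injective]
  refine (FlatCxLib.homologyMap_injective_iff (CohIII.tensorMap C g) CochainComplex.prev_nat_zero hk).2
    fun x _ hr => ?_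
  obtain ⟨w, hw⟩ := hr
  rw [d_zero_zero] at hw
  have h0 : x = 0 := Module.Flat.lTensor_preserves_injective_linearMap (M := C.X 0) g.hom
    ((ModuleCat.mono_iff_injective _).1 inferInstance) ((hw.symm.trans (by simp)).trans (map_zero _).symm)
  rw [h0]
  exact zero_mem _

end Cochain

variable [IsNoetherianRing A]

theorem exists_iso_chain (C : CochainComplex (ModuleCat.{u} A) ℕ) (hflat : ∀ n, Module.Flat A (C.X n))
    (hfin : ∀ n, Module.Finite A (C.homology n)) (b : ℕ)
    (hvan : ∀ (M : ModuleCat.{u} A) (n : ℕ), b ≤ n → (CohIII.tensorObj C M).ExactAt n) :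
    ∃ P : ChainComplex (ModuleCat.{u} A) ℤ, (∀ i, Module.Free A (P.X i)) ∧ (∀ i, Module.Finite A (P.X i)) ∧
      Nonempty (CohIII.TFun P (0 : ℤ) ≅ CohIII.TFun C 0) := by
  obtain ⟨L, hL, -, h3⟩ := QCoh.FlatModel.exists_finiteFree C hflat hfin b hvan
  obtain ⟨α⟩ := h3.1 0
  obtain ⟨β⟩ := QCoh.nonempty_tfun_revCx L (0 : ℤ)
  exact ⟨QCoh.revCx L, fun i => (hL _).2, fun i => (hL _).1,
    ⟨β ≪≫ eqToIso (congrArg (fun i => CohIII.TFun L i) (neg_zero : -(0 : ℤ) = 0)) ≪≫ α⟩⟩

theorem exists_repMod (C : CochainComplex (ModuleCat.{u} A) ℕ) (hflat : ∀ n, Module.Flat A (C.X n))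
    (hfin : ∀ n, Module.Finite A (C.homology n)) (b : ℕ)
    (hvan : ∀ (M : ModuleCat.{u} A) (n : ℕ), b ≤ n → (CohIII.tensorObj C M).ExactAt n) :
    ∃ (Q : ModuleCat.{u} A) (_ : Module.Finite A Q)
      (e : ∀ (M : Type u) [AddCommGroup M] [Module A M],
        (Q →ₗ[A] M) ≃ₗ[A] LinearMap.ker ((C.d 0 1).hom.rTensor M)),
      ∀ (M N : Type u) [AddCommGroup M] [Module A M] [AddCommGroup N] [Module A N] (g : M →ₗ[A] N)
        (φ : Q →ₗ[A] M), (e N (g ∘ₗ φ)).1 = g.lTensor (C.X 0) (e M φ).1 := by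
  obtain ⟨P, hfree, hfinP, ⟨γ⟩⟩ := exists_iso_chain C hflat hfin b hvan
  have hP : ∀ i, Module.Flat A (P.X i) := fun i => @Module.Flat.of_free _ _ _ _ _ (hfree i)
  haveI := preservesMono C (hflat 0)
  have hW : Module.Flat A (FlatCxLib.Coker P 1 0) :=
    (FlatCxLib.preservesMono_iff hP (show (0 : ℤ) + 1 = 1 by norm_num)).1
      (Functor.PreservesMonomorphisms.of_iso γ.symm)
  haveI := hfinP 0
  haveI := hfinP (-1)
  haveI := hfree (-1)
  haveI : Module.Projective A (FlatCxLib.Coker P 1 0) := by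
    haveI := Module.finitePresentation_of_finite A (FlatCxLib.Coker P 1 0)
    exact Module.Flat.projective_of_finitePresentation
  obtain ⟨e₁, he₁⟩ := exists_equiv_ker (desc P)
  refine ⟨ModuleCat.of A (Q (desc P)), inferInstanceAs (Module.Finite A (Q (desc P))),
    fun M _ _ => (e₁ M).trans ((equivT P (ModuleCat.of A M)).trans
      ((γ.app (ModuleCat.of A M)).toLinearEquiv.trans (kerEquivT C (ModuleCat.of A M)).symm)),
    fun M N _ _ _ _ g φ => ?_⟩
  let g' : ModuleCat.of A M ⟶ ModuleCat.of A N := ModuleCat.ofHom g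
  have h1 := equivT_natural P g' (e₁ M φ) (e₁ N (g ∘ₗ φ)) (he₁ M N g φ)
  let tM := (γ.app (ModuleCat.of A M)).toLinearEquiv (equivT P (ModuleCat.of A M) (e₁ M φ))
  have h2 : (γ.app (ModuleCat.of A N)).toLinearEquiv (equivT P (ModuleCat.of A N) (e₁ N (g ∘ₗ φ))) =
      ((CohIII.TFun C 0).map g').hom tM := by
    rw [h1]
    exact ConcreteCategory.congr_hom (γ.hom.naturality g') _
  let yM := (kerEquivT C (ModuleCat.of A M)).symm tM
  have hy : (C.d 0 1).hom.rTensor N (g.lTensor (C.X 0) yM.1) = 0 :=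
    FlatCxLib.cycle_map (CohIII.tensorMap C g') yM.1 yM.2
  have h3 := kerEquivT_natural C g' yM ⟨g.lTensor (C.X 0) yM.1, hy⟩ rfl
  rw [LinearEquiv.apply_symm_apply, ← h2] at h3
  exact congrArg Subtype.val ((LinearEquiv.symm_apply_eq _).2 h3.symm)

end Groth.Agent.H23.RepMod
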