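import Groth.Agent.MorLib.RingUnivHomeo
import Groth.Agent.SGA1Q.Residue
import Mathlib.AlgebraicGeometry.Morphisms.Finite
import Mathlib.AlgebraicGeometry.Noetherian
import Mathlib.FieldTheory.PurelyInseparable.PerfectClosure
import Mathlib.FieldTheory.PurelyInseparable.Exponent

/-!
Residue degrees of finite morphisms are bounded.
-/

set_option autoImplicit false
set_option backward.isDefEq.respectTransparency false
set_option linter.style.haveILetI false

universe u

open CategoryTheory AlgebraicGeometry TopologicalSpace

namespace Groth.Agent.H23.ResDegBound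

variable {T' T : Scheme.{u}} (p : T' ⟶ T) [IsFinite p]

theorem exists_bound_affine {U : T.Opens} (hU : IsAffineOpen U) :
    ∃ n : ℕ, ∀ t : T', p t ∈ U →
      letI := (p.residueFieldMap t).hom.toAlgebra
      FiniteDimensional (T.residueField (p t)) (T'.residueField t) ∧
        Module.finrank (T.residueField (p t)) (T'.residueField t) ≤ n := by
  classical
  have hfin : (p.app U).hom.Finite := p.finite_app U hU
  let V := p ⁻¹ᵁ U
  letI : Algebra Γ(T, U) Γ(T', V) := (p.app U).hom.toAlgebra
  haveI : Module.Finite Γ(T, U) Γ(T', V) := hfin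
  obtain ⟨n, gen, hgen⟩ := Module.Finite.exists_fin (R := Γ(T, U)) (M := Γ(T', V))
  refine ⟨n, fun t ht => ?_⟩
  let k := T.residueField (p t)
  let K := T'.residueField t
  letI : Algebra k K := (p.residueFieldMap t).hom.toAlgebra
  let ev := (T'.evaluation V t ht).hom
  let W : Submodule k K := Submodule.span k (Set.range fun i => ev (gen i))
  have hev : ∀ s, ev s ∈ W := fun s => by
    have hs : s ∈ Submodule.span Γ(T, U) (Set.range gen) := hgen ▸ trivial
    induction hs using Submodule.span_induction with
    | mem x hx => obtain ⟨i, rfl⟩ := hx; exact Submodule.subset_span ⟨i, rfl⟩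
    | zero => rw [map_zero]; exact zero_mem _
    | add x y _ _ hx hy => rw [map_add]; exact add_mem hx hy
    | smul a x _ hx =>
      rw [Algebra.smul_def, map_mul]
      have e : ev (algebraMap Γ(T, U) Γ(T', V) a) = algebraMap k K (T.evaluation U (p t) ht a) := by
        show ev ((p.app U).hom a) = _
        rw [Scheme.Hom.app_eq_appLE]
        exact SGA1Q.evaluation_appLE p U V le_rfl t ht a
      rw [e, ← Algebra.smul_def]
      exact W.smul_mem _ hx
  let W' : Subalgebra k K := W.toSubalgebra (map_one ev ▸ hev 1) fun x y hx hy => by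
    induction hx, hy using Submodule.span_induction₂ with
    | mem_mem x y hx hy => obtain ⟨i, rfl⟩ := hx; obtain ⟨j, rfl⟩ := hy; rw [← map_mul]; exact hev _
    | zero_left => simp
    | zero_right => simp
    | add_left x x' y _ _ _ h h' => rw [add_mul]; exact add_mem h h'
    | add_right x y y' _ _ _ h h' => rw [mul_add]; exact add_mem h h'
    | smul_left a x y _ _ h => rw [smul_mul_assoc]; exact W.smul_mem _ h
    | smul_right a x y _ _ h => rw [mul_smul_comm]; exact W.smul_mem _ h
  haveI : FiniteDimensional k W := FiniteDimensional.span_of_finite k (Set.finite_range _)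
  haveI : FiniteDimensional k W' := ‹FiniteDimensional k W›
  have htop : W = ⊤ := by
    refine eq_top_iff.2 fun z _ => ?_
    have hV : IsAffineOpen V := hU.preimage p
    letI := (RingHom.kerLift (T'.evaluation V t ht).hom).toAlgebra
    haveI := SGA1Q.isFractionRing_evaluation hV t ht
    obtain ⟨x, y, -, rfl⟩ := IsFractionRing.div_surjective (A := Γ(T', V) ⧸ RingHom.ker (T'.evaluation V t ht).hom) z
    obtain ⟨x, rfl⟩ := Ideal.Quotient.mk_surjective x
    obtain ⟨y, rfl⟩ := Ideal.Quotient.mk_surjective y
    show ev x / ev y ∈ W'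
    rw [div_eq_mul_inv]
    refine W'.mul_mem (hev x) (Subalgebra.inv_mem_of_algebraic W' (x := ⟨ev y, hev y⟩) ?_)
    exact IsAlgebraic.algebraMap (IsIntegral.of_finite k (⟨ev y, hev y⟩ : W')).isAlgebraic
  haveI : FiniteDimensional k K := by
    have : Module.Finite k (⊤ : Submodule k K) := htop ▸ ‹FiniteDimensional k W›
    exact Module.Finite.equiv Submodule.topEquiv
  refine ⟨‹FiniteDimensional k K›, ?_⟩
  rw [← finrank_top k K, ← htop]
  exact (finrank_range_le_card (R := k) (fun i => ev (gen i))).trans_eq (Fintype.card_fin n)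

theorem exists_bound [CompactSpace T] :
    ∃ n : ℕ, ∀ t : T', letI := (p.residueFieldMap t).hom.toAlgebra
      FiniteDimensional (T.residueField (p t)) (T'.residueField t) ∧
        Module.finrank (T.residueField (p t)) (T'.residueField t) ≤ n := by
  classical
  choose U hU hxU _ using fun x : T => exists_isAffineOpen_mem_and_subset (x := x) (U := ⊤) trivial
  choose n hn using fun x => exists_bound_affine p (hU x)
  obtain ⟨s, hs⟩ := isCompact_univ.elim_finite_subcover (fun x => (U x : Set T)) (fun x => (U x).isOpen)
    (fun x _ => Set.mem_iUnion.2 ⟨x, hxU x⟩)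
  refine ⟨s.sup n, fun t => ?_⟩
  obtain ⟨x, hx, hxt⟩ := Set.mem_iUnion₂.1 (hs (Set.mem_univ (p t)))
  exact ⟨(hn x t hxt).1, (hn x t hxt).2.trans (Finset.le_sup hx)⟩

theorem exists_multiple [CompactSpace T] (hp : UniversallyInjective p) :
    ∃ d : ℕ, 0 < d ∧ ∀ t' : T', ∃ e : ℕ,
      @Module.finrank (T.residueField (p t')) (T'.residueField t') _ _
          (p.residueFieldMap t').hom.toAlgebra.toModule =
        ringExpChar (T.residueField (p t')) ^ e ∧
      ringExpChar (T.residueField (p t')) ^ e ∣ d := by
  obtain ⟨n, hn⟩ := exists_bound p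
  refine ⟨n.factorial, n.factorial_pos, fun t' => ?_⟩
  letI := (p.residueFieldMap t').hom.toAlgebra
  obtain ⟨hfd, hle⟩ := hn t'
  haveI := hfd
  haveI : IsPurelyInseparable (T.residueField (p t')) (T'.residueField t') :=
    ((((tfae_universallyInjective p).out 0 2 rfl rfl).mp hp).2 t' :)
  obtain ⟨e, he⟩ := IsPurelyInseparable.finrank_eq_pow (T.residueField (p t')) (T'.residueField t')
    (ringExpChar (T.residueField (p t')))
  refine ⟨e, he, Nat.dvd_factorial ?_ (he ▸ hle)⟩
  exact pow_pos (expChar_pos (T.residueField (p t')) _) e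

end Groth.Agent.H23.ResDegBound
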