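import Groth.Agent.H23.KoszulTor
import Mathlib.Algebra.Category.ModuleCat.ChangeOfRings

/-!
# Koszul complexes over an extension as flat resolutions over the base
-/

set_option autoImplicit false
set_option linter.style.haveILetI false

universe u

open CategoryTheory CategoryTheory.Limits MonoidalCategory CochainComplex
open scoped TensorProduct

namespace Groth.Agent.H23.RestrKoszul

variable {A R : Type u} [CommRing A] [CommRing R] [Algebra A R]

local notation "K(" fs ", " M ")" => CohIII.koszulCx M fs

/-- Restriction of scalars. -/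
noncomputable abbrev res (A R : Type u) [CommRing A] [CommRing R] [Algebra A R] :
    ModuleCat.{u} R ⥤ ModuleCat.{u} A := ModuleCat.restrictScalars (algebraMap A R)

/-- Restriction of scalars on complexes. -/
noncomputable abbrev resC (A R : Type u) [CommRing A] [CommRing R] [Algebra A R] :
    DRing.Cx R ⥤ DRing.Cx A := (res A R).mapHomologicalComplex (ComplexShape.up ℤ)

/-- Tensoring the coefficients of a Koszul complex. -/
theorem nonempty_koszulCx_tensor_iso (B E : ModuleCat.{u} R) : ∀ l : List R,
    Nonempty (DRing.tensorCx K(l, B) E ≅ K(l, B ⊗ E))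
  | [] => ⟨(HomologicalComplex.singleMapHomologicalComplex (tensorRight E) (ComplexShape.up ℤ) 0).app B⟩
  | f :: l => by
    obtain ⟨e⟩ := nonempty_koszulCx_tensor_iso B E l
    let F := tensorRight E
    have hF : (F.mapHomologicalComplex (ComplexShape.up ℤ)).map (f • 𝟙 K(l, B)) =
        f • 𝟙 ((F.mapHomologicalComplex (ComplexShape.up ℤ)).obj K(l, B)) :=
      HomologicalComplex.hom_ext _ _ fun n => by
        show F.map (f • 𝟙 (K(l, B).X n)) = f • 𝟙 (F.obj (K(l, B).X n))
        rw [Functor.map_smul, F.map_id]
    refine ⟨(mappingCone.mapHomologicalComplexIso (f • 𝟙 K(l, B)) F : _) ≪≫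
      GrLib8.KChi.coneIso _ (f • 𝟙 K(l, B ⊗ E)) e ?_⟩
    rw [hF]
    simp [DRing.tensorCx, F, Linear.smul_comp, Linear.comp_smul]

theorem flat_prod {M N : Type u} [AddCommGroup M] [Module A M] [AddCommGroup N] [Module A N]
    [Module.Flat A M] [Module.Flat A N] : Module.Flat A (M × N) := by
  rw [Module.Flat.iff_lTensor_preserves_injective_linearMap]
  intro P Q _ _ _ _ φ hφ
  have key : ∀ x, TensorProduct.prodLeft A A M N Q (LinearMap.lTensor (M × N) φ x) =
      (φ.lTensor M).prodMap (φ.lTensor N) (TensorProduct.prodLeft A A M N P x) := by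
    intro x
    induction x using TensorProduct.induction_on with
    | zero => simp [Prod.ext_iff]
    | tmul x y => rfl
    | add x y hx hy => simp only [map_add, hx, hy]
  intro x y h
  refine (TensorProduct.prodLeft A A M N P).injective ?_
  have h' := congrArg (TensorProduct.prodLeft A A M N Q) h
  rw [key, key] at h'
  exact (Prod.map_injective.2 ⟨Module.Flat.lTensor_preserves_injective_linearMap φ hφ,
    Module.Flat.lTensor_preserves_injective_linearMap φ hφ⟩) h'

theorem flat_res_X (B : ModuleCat.{u} R) [Module.Flat A ((res A R).obj B)] :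
    ∀ (l : List R) (n : ℤ), Module.Flat A ((res A R).obj (K(l, B).X n))
  | [], n => by
    rcases eq_or_ne n 0 with rfl | hn
    · exact Module.Flat.of_linearEquiv
        ((res A R).mapIso (HomologicalComplex.singleObjXSelf (ComplexShape.up ℤ) 0 B)).toLinearEquiv
    · haveI : Subsingleton ((res A R).obj (K(([] : List R), B).X n)) :=
        ModuleCat.subsingleton_of_isZero
          ((res A R).map_isZero (HomologicalComplex.isZero_single_obj_X (ComplexShape.up ℤ) 0 B n hn))
      exact Module.Flat.of_retract (0 : _ →ₗ[A] A) 0 (LinearMap.ext fun x => Subsingleton.elim _ _)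
  | f :: l, n => by
    haveI := flat_res_X B l (n + 1)
    haveI := flat_res_X B l n
    haveI := flat_prod (A := A) (M := (res A R).obj (K(l, B).X (n + 1))) (N := (res A R).obj (K(l, B).X n))
    let φ := f • 𝟙 K(l, B)
    let a := (res A R).map ((mappingCone.fst φ).1.v n (n + 1) rfl)
    let b := (res A R).map ((mappingCone.snd φ).v n n (add_zero n))
    let c := (res A R).map ((mappingCone.inl φ).v (n + 1) n (by omega))
    let d := (res A R).map ((mappingCone.inr φ).f n)
    exact Module.Flat.of_retract (a.hom.prod b.hom) (c.hom.coprod d.hom)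
      (LinearMap.ext fun z => (ConcreteCategory.congr_hom (mappingCone.id_X φ n (n + 1) rfl) z))

/-- Homology commutes with restriction of scalars. -/
noncomputable def resHomologyIso (K : DRing.Cx R) (i : ℤ) :
    ((resC A R).obj K).homology i ≅ (res A R).obj (K.homology i) :=
  (K.sc i).mapHomologyIso (res A R)

/-- Extension of scalars of a module. -/
noncomputable abbrev ext (A R : Type u) [CommRing A] [CommRing R] [Algebra A R] (N : Type u) [AddCommGroup N] [Module A N] :
    ModuleCat.{u} R := ModuleCat.of R (R ⊗[A] N)

/-- The cancellation isomorphism. -/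
noncomputable def cancelIso (X : ModuleCat.{u} R) (N : ModuleCat.{u} A) :
    (res A R).obj (X ⊗ ext A R N) ≅ (res A R).obj X ⊗ N := by
  letI : Module A X := Module.compHom X (algebraMap A R)
  haveI : IsScalarTower A R X := IsScalarTower.of_algebraMap_smul fun _ _ => rfl
  let e := TensorProduct.AlgebraTensorModule.cancelBaseChange A R R X N
  let e' : ((res A R).obj (X ⊗ ext A R N) : Type u) ≃ₗ[A] ((res A R).obj X ⊗ N : ModuleCat.{u} A) :=
    { toFun := e
      invFun := e.symm
      left_inv := e.left_inv
      right_inv := e.right_inv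
      map_add' := map_add e
      map_smul' := fun a z => (map_smul e (algebraMap A R a) z).trans
        (algebraMap_smul R a (e z)) }
  exact e'.toModuleIso

/-- The cancellation isomorphism for complexes. -/
noncomputable def cancelCxIso (K : DRing.Cx R) (N : ModuleCat.{u} A) :
    (resC A R).obj (DRing.tensorCx K (ext A R N)) ≅ DRing.tensorCx ((resC A R).obj K) N :=
  HomologicalComplex.Hom.isoOfComponents (fun n => cancelIso (K.X n) N) fun i j _ => by
    refine ModuleCat.hom_ext (LinearMap.ext fun z => ?_)
    letI : Module A (K.X i) := Module.compHom (K.X i) (algebraMap A R)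
    haveI : IsScalarTower A R (K.X i) := IsScalarTower.of_algebraMap_smul fun _ _ => rfl
    letI : Module A (K.X j) := Module.compHom (K.X j) (algebraMap A R)
    haveI : IsScalarTower A R (K.X j) := IsScalarTower.of_algebraMap_smul fun _ _ => rfl
    change ((K.X i) ⊗[R] (R ⊗[A] N)) at z
    induction z using TensorProduct.induction_on with
    | zero => exact (map_zero _).trans (map_zero _).symm
    | add x y hx hy => exact (map_add _ x y).trans ((congrArg₂ (· + ·) hx hy).trans (map_add _ x y).symm)
    | tmul x w =>
      induction w using TensorProduct.induction_on with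
      | zero =>
        rw [TensorProduct.tmul_zero]
        exact (map_zero _).trans (map_zero _).symm
      | add v w hv hw =>
        rw [TensorProduct.tmul_add]
        exact (map_add _ _ _).trans ((congrArg₂ (· + ·) hv hw).trans (map_add _ _ _).symm)
      | tmul r y =>
        show ((K.d i j).hom (r • x : K.X i)) ⊗ₜ[A] y = (r • (K.d i j).hom x) ⊗ₜ[A] y
        rw [map_smul]

/-- A Koszul complex with flat coefficients computes `Tor` over the base. -/
theorem nonempty_tor_iso (l : List R) (B : ModuleCat.{u} R) [Module.Flat A ((res A R).obj B)]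
    (hex : ∀ i : ℤ, i ≠ 0 → IsZero (K(l, B).homology i)) {M : ModuleCat.{u} A}
    (e : (res A R).obj (K(l, B).homology 0) ≅ M) (N : ModuleCat.{u} A) (n : ℕ) :
    Nonempty (((Tor (ModuleCat.{u} A) n).obj M).obj N ≅
      (res A R).obj (K(l, B ⊗ ext A R N).homology (-n : ℤ))) := by
  have hb : DRing.VanishesAbove ((resC A R).obj K(l, B)) 0 := fun i hi =>
    (res A R).map_isZero (Koszul15.isZero_X B l i (Or.inl hi))
  obtain ⟨π, hπ⟩ := KoszulTor.exists_quasiIso_single _ hb
    (fun i hi => ((res A R).map_isZero (hex i hi)).of_iso (resHomologyIso _ i)) (resHomologyIso _ 0 ≪≫ e)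
  obtain ⟨e₁⟩ := KoszulTor.nonempty_tor_iso _ (fun n => flat_res_X (A := A) B l n) hb π N n
  obtain ⟨e₂⟩ := nonempty_koszulCx_tensor_iso B (ext A R N) l
  exact ⟨e₁ ≪≫ (HomologicalComplex.homologyMapIso (cancelCxIso K(l, B) N) _).symm ≪≫
    resHomologyIso _ _ ≪≫ (res A R).mapIso (HomologicalComplex.homologyMapIso e₂ _)⟩

end Groth.Agent.H23.RestrKoszul
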