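import Mathlib.RingTheory.FinitePresentation
import Mathlib.RingTheory.Flat.EquationalCriterion
import Mathlib.RingTheory.TensorProduct.Free
import Mathlib.RingTheory.LocalRing.ResidueField.Basic
import Mathlib.RingTheory.Localization.FractionRing
import Mathlib.LinearAlgebra.Dual.Lemmas
import Mathlib.Algebra.Module.Torsion.Basic
import Mathlib.RingTheory.Nakayama

/-!
Algebra for rigidity over an arbitrary base: finitely presented algebras over a local ring become free
modulo a finitely generated ideal; coefficients of elements of flat algebras killed by an ideal.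
-/

universe u

open IsLocalRing

namespace Groth.Agent.H23.RigidBaseAlg

open MvPolynomial TensorProduct

/-- The coefficient subring of finitely many polynomials is finitely generated over `ℤ`, hence the
prime of it under the maximal ideal is finitely generated. -/
theorem exists_subring {A : Type u} [CommRing A] (S : Finset A) :
    ∃ A₀ : Subring A, IsNoetherianRing A₀ ∧ ∀ a ∈ S, a ∈ A₀ := by
  refine ⟨(Algebra.adjoin ℤ (S : Set A)).toSubring, ?_, fun a ha => Algebra.subset_adjoin ha⟩
  have h : (Algebra.adjoin ℤ (S : Set A)).FG := ⟨S, rfl⟩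
  have := (Subalgebra.fg_iff_finiteType _).1 h
  exact Algebra.FiniteType.isNoetherianRing ℤ (Algebra.adjoin ℤ (S : Set A))

variable {A : Type u} [CommRing A] [IsLocalRing A]

omit [IsLocalRing A] in
theorem exists_factor {P B T : Type u} [CommRing P] [CommRing B] [CommRing T] (f : P →+* B)
    (hf : Function.Surjective f) (φ : P →+* T) (s : Set P) (hs : Ideal.span s = RingHom.ker f)
    (h : ∀ q ∈ s, φ q = 0) : ∃ ψ : B →+* T, ∀ q, ψ (f q) = φ q :=
  ⟨RingHom.liftOfSurjective f hf ⟨φ, hs ▸ Ideal.span_le.2 h⟩,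
    fun q => RingHom.liftOfSurjective_comp_apply f hf _ q⟩

/-- An algebra whose relations are defined over a field mapping to a quotient `R` of `A` is free
over `R` modulo the kernel. -/
theorem free_core {A₀ : Subring A} {R : Type u} [CommRing R] (π : A →+* R) (hπ : Function.Surjective π)
    (hker : RingHom.ker π ≤ maximalIdeal A) {K : Type u} [Field K] [Algebra K R] (ρ : A₀ →+* K)
    (hθ : ∀ a : A₀, algebraMap K R (ρ a) = π a)
    {B : Type u} [CommRing B] [Algebra A B] {n : ℕ} (f : MvPolynomial (Fin n) A →ₐ[A] B)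
    (hf : Function.Surjective f) (s : Set (MvPolynomial (Fin n) A))
    (hs : Ideal.span s = RingHom.ker f.toRingHom)
    (r₀ : ∀ r ∈ s, MvPolynomial (Fin n) A₀) (hr₀ : ∀ r hr, MvPolynomial.map A₀.subtype (r₀ r hr) = r)
    {Q : Type u} [CommRing Q] [Algebra K Q] (mq : MvPolynomial (Fin n) K →ₐ[K] Q) (hmq : Function.Surjective mq)
    (t : Set (MvPolynomial (Fin n) K)) (ht : Ideal.span t = RingHom.ker mq.toRingHom)
    (ht₁ : ∀ r hr, MvPolynomial.map ρ (r₀ r hr) ∈ t)
    (ht₂ : ∀ q ∈ t, ∃ r hr, MvPolynomial.map ρ (r₀ r hr) = q) :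
    ∃ (ι : Type u) (y : ι → B),
      (∀ b : B, ∃ c : ι →₀ A,
        b - c.sum (fun i a => a • y i) ∈ (RingHom.ker π).map (algebraMap A B)) ∧
      ∀ c : ι →₀ A, c.sum (fun i a => a • y i) ∈ (maximalIdeal A).map (algebraMap A B) →
        ∀ i, c i ∈ maximalIdeal A := by
  classical
  let x : Fin n → Q := fun i => mq (X i)
  let j : A →+* R ⊗[K] Q := Algebra.TensorProduct.includeLeftRingHom.comp π
  let φ : MvPolynomial (Fin n) A →+* R ⊗[K] Q := eval₂Hom j fun i => (1 : R) ⊗ₜ[K] x i
  have hφC : ∀ a : A, φ (C a) = π a ⊗ₜ[K] (1 : Q) := fun a => eval₂Hom_C _ _ _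
  have hφX : ∀ i, φ (X i) = (1 : R) ⊗ₜ[K] x i := fun i => eval₂Hom_X' _ _ i
  have hev : ∀ q : MvPolynomial (Fin n) A₀, φ (MvPolynomial.map A₀.subtype q) =
      (1 : R) ⊗ₜ[K] mq (MvPolynomial.map ρ q) := by
    intro q
    induction q using MvPolynomial.induction_on with
    | C a =>
      rw [map_C, map_C, hφC, show mq (C (ρ a)) = algebraMap K Q (ρ a) from mq.commutes _,
        Algebra.algebraMap_eq_smul_one (R := K), TensorProduct.tmul_smul, TensorProduct.smul_tmul',
        Algebra.smul_def, mul_one, hθ a, Subring.subtype_apply]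
    | add p q hp hq => rw [map_add, map_add, map_add, map_add, TensorProduct.tmul_add, hp, hq]
    | mul_X p i hp =>
      rw [map_mul, map_mul, map_X, map_mul, map_mul, map_X, hp, hφX,
        Algebra.TensorProduct.tmul_mul_tmul, mul_one]
  have hφs : ∀ r ∈ s, φ r = 0 := fun r hrs => by
    have h0 : mq (MvPolynomial.map ρ (r₀ r hrs)) = 0 := by
      have : MvPolynomial.map ρ (r₀ r hrs) ∈ RingHom.ker mq.toRingHom := by
        rw [← ht]; exact Ideal.subset_span (ht₁ r hrs)
      exact this
    rw [← hr₀ r hrs, hev, h0, TensorProduct.tmul_zero]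
  obtain ⟨ψ, hψ⟩ := exists_factor f.toRingHom hf φ s hs hφs
  have hψ : ∀ q, ψ (f q) = φ q := hψ
  have hψa : ∀ (a : A) (b : B), ψ (a • b) = π a • ψ b := by
    intro a b
    rw [Algebra.smul_def, map_mul, ← f.commutes, hψ, MvPolynomial.algebraMap_eq, hφC, Algebra.smul_def]
    rfl
  -- a map back to `B / IB`
  let IB := (RingHom.ker π).map (algebraMap A B)
  let gA : R →+* B ⧸ IB := RingHom.liftOfSurjective π hπ
    ⟨(Ideal.Quotient.mk IB).comp (algebraMap A B),
      fun a ha => Ideal.Quotient.eq_zero_iff_mem.2 (Ideal.mem_map_of_mem _ ha)⟩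
  have hgA : ∀ a, gA (π a) = Ideal.Quotient.mk IB (algebraMap A B a) :=
    fun a => RingHom.liftOfSurjective_comp_apply π hπ _ a
  letI : Algebra K (B ⧸ IB) := (gA.comp (algebraMap K R)).toAlgebra
  let gC' : MvPolynomial (Fin n) K →ₐ[K] B ⧸ IB := aeval fun i => Ideal.Quotient.mk IB (f (X i))
  have hgC : ∀ q : MvPolynomial (Fin n) A₀, gC' (MvPolynomial.map ρ q) =
      Ideal.Quotient.mk IB (f (MvPolynomial.map A₀.subtype q)) := by
    intro q
    induction q using MvPolynomial.induction_on with
    | C a =>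
      rw [map_C, map_C, show gC' (C (ρ a)) = gA (algebraMap K R (ρ a)) from aeval_C _ _, hθ a, hgA,
        show f (C (A₀.subtype a)) = algebraMap A B (a : A) from f.commutes _]
    | add p q hp hq => simp only [map_add, hp, hq]
    | mul_X p i hp =>
      simp only [map_mul, map_X, hp]
      rw [show gC' (X i) = Ideal.Quotient.mk IB (f (X i)) from aeval_X _ i]
  obtain ⟨gC, hgC'⟩ := exists_factor mq.toRingHom hmq gC'.toRingHom t ht (by
    intro q hq
    obtain ⟨r, hrs, rfl⟩ := ht₂ q hq
    show gC' _ = 0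
    have : f r = 0 := by
      have h : r ∈ RingHom.ker f.toRingHom := by rw [← hs]; exact Ideal.subset_span hrs
      exact h
    rw [hgC, hr₀ r hrs, this, map_zero])
  have hgC' : ∀ q, gC (mq q) = gC' q := hgC'
  let gCa : Q →ₐ[K] B ⧸ IB := ⟨gC, fun k' => by
    show gC (algebraMap K Q k') = _
    rw [← mq.commutes k', hgC', AlgHom.commutes]⟩
  let gA' : R →ₐ[K] B ⧸ IB := ⟨gA, fun _ => rfl⟩
  let χ : R ⊗[K] Q →ₐ[K] B ⧸ IB := Algebra.TensorProduct.lift gA' gCa fun _ _ => Commute.all _ _
  have hχt : ∀ r c, χ (r ⊗ₜ c) = gA r * gC c := fun r c => Algebra.TensorProduct.lift_tmul _ _ _ r c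
  have hχ : ∀ b, χ (ψ b) = Ideal.Quotient.mk IB b := by
    intro b
    obtain ⟨q, rfl⟩ := hf b
    rw [hψ]
    induction q using MvPolynomial.induction_on with
    | C a =>
      rw [hφC, hχt, map_one, mul_one, hgA, show f (C a) = algebraMap A B a from f.commutes a]
    | add p q hp hq => simp only [map_add, hp, hq]
    | mul_X p i hp =>
      rw [map_mul, map_mul, map_mul, map_mul, hp, hφX, hχt, map_one, one_mul, hgC']
      exact congrArg _ (aeval_X _ i)
  have hψsurj : Function.Surjective ψ := by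
    intro z
    induction z using TensorProduct.induction_on with
    | zero => exact ⟨0, map_zero _⟩
    | add a b ha hb =>
      obtain ⟨a', rfl⟩ := ha
      obtain ⟨b', rfl⟩ := hb
      exact ⟨a' + b', map_add _ _ _⟩
    | tmul a c =>
      obtain ⟨a, rfl⟩ := hπ a
      obtain ⟨q, rfl⟩ := hmq c
      suffices ∃ b, ψ b = (1 : R) ⊗ₜ[K] mq q by
        obtain ⟨b, hb⟩ := this
        refine ⟨a • b, ?_⟩
        rw [hψa, hb, TensorProduct.smul_tmul', smul_eq_mul, mul_one]
      induction q using MvPolynomial.induction_on with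
      | C k' =>
        obtain ⟨a', ha'⟩ := hπ (algebraMap K R k')
        refine ⟨a' • (1 : B), ?_⟩
        rw [hψa, map_one, Algebra.TensorProduct.one_def, TensorProduct.smul_tmul', smul_eq_mul, mul_one,
          ha', show mq (C k') = algebraMap K Q k' from mq.commutes _, Algebra.algebraMap_eq_smul_one (A := Q) k',
          TensorProduct.tmul_smul, TensorProduct.smul_tmul', Algebra.smul_def, mul_one]
      | add p q hp hq =>
        obtain ⟨b, hb⟩ := hp
        obtain ⟨b', hb'⟩ := hq
        exact ⟨b + b', by rw [map_add, map_add, TensorProduct.tmul_add, hb, hb']⟩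
      | mul_X p i hp =>
        obtain ⟨b, hb⟩ := hp
        refine ⟨b * f (X i), ?_⟩
        rw [map_mul, hb, hψ, hφX, Algebra.TensorProduct.tmul_mul_tmul, mul_one, map_mul]
  let bT := Algebra.TensorProduct.basis R (Module.Free.chooseBasis K Q)
  choose y hy using fun i => hψsurj (bT i)
  have hsum : ∀ c : _ →₀ A, ψ (c.sum fun i a => a • y i) =
      bT.repr.symm (c.mapRange π (map_zero _)) := by
    intro c
    rw [Finsupp.sum, map_sum, bT.repr_symm_apply, Finsupp.linearCombination_apply,
      Finsupp.sum_mapRange_index (by simp), Finsupp.sum]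
    exact Finset.sum_congr rfl fun i _ => by rw [hψa, hy]
  refine ⟨_, y, fun b => ?_, fun c hc i => ?_⟩
  · obtain ⟨c, hc⟩ := Finsupp.mapRange_surjective π (map_zero _) hπ (bT.repr (ψ b))
    refine ⟨c, Ideal.Quotient.eq_zero_iff_mem.1 ?_⟩
    rw [← hχ, map_sub, hsum, hc, LinearEquiv.symm_apply_apply, sub_self, map_zero]
  · have hz : c.sum (fun i a => a • y i) ∈ (maximalIdeal A) • (⊤ : Submodule A B) := by
      rw [Ideal.smul_top_eq_map]
      exact hc
    have hM : ∀ j, bT.repr (ψ (c.sum fun i a => a • y i)) j ∈ (maximalIdeal A).map π := by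
      refine Submodule.smul_induction_on hz (fun a ha b _ j => ?_) (fun a b ha hb j => ?_)
      · rw [hψa, map_smul, Finsupp.smul_apply, smul_eq_mul]
        exact Ideal.mul_mem_right _ _ (Ideal.mem_map_of_mem _ ha)
      · rw [map_add, map_add, Finsupp.add_apply]
        exact add_mem (ha j) (hb j)
    have h := hM i
    rw [hsum, LinearEquiv.apply_symm_apply, Finsupp.mapRange_apply] at h
    obtain ⟨a, ha, e⟩ := (Ideal.mem_map_iff_of_surjective π hπ).1 h
    have : c i - a ∈ maximalIdeal A := hker (by rw [RingHom.mem_ker, map_sub, e, sub_self])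
    simpa using add_mem this ha

/-- `free_core` with the algebra of relations over the field filled in. -/
theorem free_field {A₀ : Subring A} {R : Type u} [CommRing R] (π : A →+* R) (hπ : Function.Surjective π)
    (hker : RingHom.ker π ≤ maximalIdeal A) {K : Type u} [Field K] [Algebra K R] (ρ : A₀ →+* K)
    (hθ : ∀ a : A₀, algebraMap K R (ρ a) = π a)
    {B : Type u} [CommRing B] [Algebra A B] {n : ℕ} (f : MvPolynomial (Fin n) A →ₐ[A] B)
    (hf : Function.Surjective f) (s : Finset (MvPolynomial (Fin n) A))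
    (hs : Ideal.span (s : Set (MvPolynomial (Fin n) A)) = RingHom.ker f.toRingHom)
    (r₀ : ∀ r ∈ s, MvPolynomial (Fin n) A₀) (hr₀ : ∀ r hr, MvPolynomial.map A₀.subtype (r₀ r hr) = r) :
    ∃ (ι : Type u) (y : ι → B),
      (∀ b : B, ∃ c : ι →₀ A,
        b - c.sum (fun i a => a • y i) ∈ (RingHom.ker π).map (algebraMap A B)) ∧
      ∀ c : ι →₀ A, c.sum (fun i a => a • y i) ∈ (maximalIdeal A).map (algebraMap A B) →
        ∀ i, c i ∈ maximalIdeal A := by
  let t : Set (MvPolynomial (Fin n) K) := Set.range fun r : {r // r ∈ s} => MvPolynomial.map ρ (r₀ r.1 r.2)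
  let mq : MvPolynomial (Fin n) K →ₐ[K] MvPolynomial (Fin n) K ⧸ Ideal.span t := Ideal.Quotient.mkₐ K _
  exact free_core π hπ hker ρ hθ f hf
    (s : Set (MvPolynomial (Fin n) A)) hs r₀ hr₀
    mq (Ideal.Quotient.mkₐ_surjective K _) t
    (by rw [show mq.toRingHom = Ideal.Quotient.mk (Ideal.span t) from rfl, Ideal.mk_ker]) (fun r hr => ⟨⟨r, hr⟩, rfl⟩)
    (by rintro _ ⟨⟨r, hr⟩, rfl⟩; exact ⟨r, hr, rfl⟩)

/-- Modulo a suitable finitely generated ideal a finitely presented algebra is free. -/
theorem exists_free_mod (B : Type u) [CommRing B] [Algebra A B] [Algebra.FinitePresentation A B] :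
    ∃ (I : Ideal A), I.FG ∧ I ≤ maximalIdeal A ∧ ∃ (ι : Type u) (y : ι → B),
      (∀ b : B, ∃ c : ι →₀ A, b - c.sum (fun i a => a • y i) ∈ I.map (algebraMap A B)) ∧
      ∀ c : ι →₀ A, c.sum (fun i a => a • y i) ∈ (maximalIdeal A).map (algebraMap A B) →
        ∀ i, c i ∈ maximalIdeal A := by
  classical
  obtain ⟨n, f, hf, s, hs⟩ := Algebra.FinitePresentation.out (R := A) (A := B)
  obtain ⟨A₀, hN, hA₀⟩ := exists_subring (s.biUnion fun r => r.coeffs)
  let p₀ : Ideal A₀ := (maximalIdeal A).comap A₀.subtype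
  have hp₀ : p₀.IsPrime := Ideal.IsPrime.comap _
  let I : Ideal A := p₀.map A₀.subtype
  have hIm : I ≤ maximalIdeal A := Ideal.map_comap_le
  refine ⟨I, Ideal.FG.map (IsNoetherian.noetherian p₀) _, hIm, ?_⟩
  let D := A₀ ⧸ p₀
  let K := FractionRing D
  let θD : D →+* A ⧸ I := Ideal.Quotient.lift p₀ ((Ideal.Quotient.mk I).comp A₀.subtype) fun a ha =>
    Ideal.Quotient.eq_zero_iff_mem.2 (Ideal.mem_map_of_mem _ ha)
  have hunit : ∀ d : nonZeroDivisors D, IsUnit (θD d) := by
    rintro ⟨d, hd⟩
    obtain ⟨a, rfl⟩ := Ideal.Quotient.mk_surjective d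
    have ha : (a : A) ∉ maximalIdeal A := fun h => nonZeroDivisors.ne_zero hd
      (Ideal.Quotient.eq_zero_iff_mem.2 h)
    exact ((notMem_maximalIdeal.1 ha).map (Ideal.Quotient.mk I))
  let θ : K →+* A ⧸ I := IsLocalization.lift hunit
  have hθ : ∀ a : A₀, θ (algebraMap D K (Ideal.Quotient.mk p₀ a)) = Ideal.Quotient.mk I (a : A) :=
    fun a => IsLocalization.lift_eq _ _
  letI : Algebra K (A ⧸ I) := θ.toAlgebra
  let ρ : A₀ →+* K := (algebraMap D K).comp (Ideal.Quotient.mk p₀)
  have hr : ∀ r ∈ s, ∃ r₀ : MvPolynomial (Fin n) A₀, MvPolynomial.map A₀.subtype r₀ = r := by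
    intro r hr
    refine Set.mem_range.1 (MvPolynomial.mem_range_map_iff_coeffs_subset.2 ?_)
    intro a ha
    by_cases h0 : a = 0
    · exact ⟨0, by simp [h0]⟩
    exact ⟨⟨a, hA₀ a (Finset.mem_biUnion.2 ⟨r, hr, by simpa using ha⟩)⟩, rfl⟩
  choose r₀ hr₀ using hr
  have h := free_field (Ideal.Quotient.mk I) Ideal.Quotient.mk_surjective (by rwa [Ideal.mk_ker]) ρ hθ f hf
    s hs r₀ hr₀
  rw [Ideal.mk_ker] at h
  exact h

variable {B : Type u} [CommRing B] [Algebra A B] [Module.Flat A B]

omit [IsLocalRing A] in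
/-- An element of a flat algebra killed by finitely many scalars is a combination with coefficients
killed by them. -/
theorem exists_coeff_killed (S : Finset A) (w : B) (h : ∀ s ∈ S, s • w = 0) :
    ∃ (m : ℕ) (a : Fin m → A) (z : Fin m → B), (∀ s ∈ S, ∀ l, s * a l = 0) ∧ w = ∑ l, a l • z l := by
  classical
  induction S using Finset.induction_on with
  | empty => exact ⟨1, fun _ => 1, fun _ => w, by simp, by simp⟩
  | insert f S hf ih =>
    obtain ⟨m, a, z, ha, hw⟩ := ih fun s hs => h s (Finset.mem_insert_of_mem hs)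
    have hrel : ∑ l, (f * a l) • z l = 0 := by
      rw [← h f (Finset.mem_insert_self f S), hw, Finset.smul_sum]
      exact Finset.sum_congr rfl fun l _ => mul_smul _ _ _
    obtain ⟨k, b, y, hz, hb⟩ := Module.Flat.isTrivialRelation_of_sum_smul_eq_zero hrel
    refine ⟨k, fun j => ∑ l, a l * b l j, y, fun s hs j => ?_, ?_⟩
    · rw [Finset.mul_sum]
      rcases Finset.mem_insert.1 hs with rfl | hs
      · rw [← hb j]
        exact Finset.sum_congr rfl fun l _ => (mul_assoc _ _ _).symm
      · exact Finset.sum_eq_zero fun l _ => by rw [← mul_assoc, ha s hs l, zero_mul]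
    · rw [hw]
      simp_rw [Finset.sum_smul, hz, Finset.smul_sum, smul_smul]
      exact Finset.sum_comm

variable {N : Ideal A} (lam : N →ₗ[A] ResidueField A) {R : Type u} [CommRing R]

/-- `u` is the image of `w` under the functional on coefficients in `N`. -/
def Rel (π : B →+* R) (β : ResidueField A →+* R) (w : B) (u : R) : Prop :=
  ∃ (m : ℕ) (c : Fin m → N) (z : Fin m → B),
    w = ∑ l, (c l : A) • z l ∧ u = ∑ l, β (lam (c l)) * π (z l)

/-- In a flat algebra the image is unique. -/
theorem Rel.unique (π : B →+* R) (β : ResidueField A →+* R)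
    (hπ : ∀ a : A, π (algebraMap A B a) = β (residue A a)) {w : B} {u u' : R}
    (h : Rel lam π β w u) (h' : Rel lam π β w u') : u = u' := by
  obtain ⟨m, c, z, hw, hu⟩ := h
  obtain ⟨m', c', z', hw', hu'⟩ := h'
  have zero : ∀ (M : ℕ) (C : Fin M → N) (Z : Fin M → B), ∑ l, (C l : A) • Z l = 0 →
      ∑ l, β (lam (C l)) * π (Z l) = 0 := by
    intro M C Z hrel
    obtain ⟨k, b, y, hz, hb⟩ := Module.Flat.isTrivialRelation_of_sum_smul_eq_zero hrel
    simp_rw [hz, map_sum, Finset.mul_sum, Algebra.smul_def, map_mul, hπ, ← mul_assoc, ← map_mul]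
    rw [Finset.sum_comm]
    refine Finset.sum_eq_zero fun j _ => ?_
    rw [← Finset.sum_mul, ← map_sum]
    have : ∑ l, lam (C l) * residue A (b l j) = lam (∑ l, b l j • C l) := by
      rw [map_sum]
      exact Finset.sum_congr rfl fun l _ => by
        rw [map_smul, Algebra.smul_def, mul_comm]; rfl
    rw [this, show ∑ l, b l j • C l = 0 from Subtype.ext (by
      rw [AddSubmonoidClass.coe_finset_sum, ZeroMemClass.coe_zero, ← hb j]
      exact Finset.sum_congr rfl fun l _ => mul_comm _ _), map_zero, map_zero, zero_mul]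
  have hc := zero (m + m') (Fin.append c fun l => -c' l) (Fin.append z z') (by
    rw [Fin.sum_univ_add]
    simp [← hw, ← hw'])
  rw [Fin.sum_univ_add] at hc
  simp only [Fin.append_left, Fin.append_right, map_neg, neg_mul, Finset.sum_neg_distrib] at hc
  rw [← hu, ← hu'] at hc
  exact eq_of_sub_eq_zero (sub_eq_add_neg u u' ▸ hc)

omit [Module.Flat A B] in
/-- The image is natural. -/
theorem Rel.map {π : B →+* R} {β : ResidueField A →+* R} {w : B} {u : R} (h : Rel lam π β w u)
    {B' : Type u} [CommRing B'] [Algebra A B'] {R' : Type u} [CommRing R'] (π' : B' →+* R')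
    (β' : ResidueField A →+* R') (f : B →+* B') (g : R →+* R')
    (hf : ∀ a, f (algebraMap A B a) = algebraMap A B' a) (hg : ∀ k, g (β k) = β' k)
    (hsq : ∀ b, g (π b) = π' (f b)) : Rel lam π' β' (f w) (g u) := by
  obtain ⟨m, c, z, rfl, rfl⟩ := h
  refine ⟨m, c, fun l => f (z l), ?_, ?_⟩
  · rw [map_sum]
    exact Finset.sum_congr rfl fun l _ => by rw [Algebra.smul_def, map_mul, hf, Algebra.smul_def]
  · rw [map_sum]
    exact Finset.sum_congr rfl fun l _ => by rw [map_mul, hg, hsq]

omit [IsLocalRing A] in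
/-- The coefficients of a killed element in a free presentation modulo `I`. -/
theorem exists_expansion {I : Ideal A} (hI : I.FG) {ι : Type u} (y : ι → B)
    (hy : ∀ b : B, ∃ c : ι →₀ A, b - c.sum (fun i a => a • y i) ∈ I.map (algebraMap A B))
    (w : B) (hw : ∀ s ∈ I, s • w = 0) :
    ∃ C : ι →₀ A, w = C.sum (fun i a => a • y i) ∧ ∀ i, ∀ s ∈ I, s * C i = 0 := by
  classical
  obtain ⟨S, hS⟩ := hI
  obtain ⟨m, a, z, ha, hwz⟩ := exists_coeff_killed S w fun s hs => hw s (hS ▸ Ideal.subset_span hs)
  have ha' : ∀ l, ∀ s ∈ I, s * a l = 0 := by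
    intro l s hs
    rw [← hS] at hs
    induction hs using Submodule.span_induction with
    | mem x hx => exact ha x hx l
    | zero => exact zero_mul _
    | add x x' _ _ hx hx' => rw [add_mul, hx, hx', add_zero]
    | smul r x _ hx => rw [smul_eq_mul, mul_assoc, hx, mul_zero]
  choose c hc using fun l => hy (z l)
  have hkill : ∀ l, ∀ e ∈ I.map (algebraMap A B), a l • e = 0 := by
    intro l e he
    induction he using Submodule.span_induction with
    | mem x hx =>
      obtain ⟨i, hi, rfl⟩ := hx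
      rw [Algebra.smul_def, ← map_mul, mul_comm, ha' l i hi, map_zero]
    | zero => exact smul_zero _
    | add x x' _ _ hx hx' => rw [smul_add, hx, hx', add_zero]
    | smul r x _ hx => rw [smul_eq_mul, Algebra.smul_def, mul_left_comm, ← Algebra.smul_def, hx, mul_zero]
  refine ⟨∑ l, a l • c l, ?_, fun i s hs => ?_⟩
  · have : ∀ l, a l • z l = (a l • c l).sum (fun i b => b • y i) := by
      intro l
      rw [Finsupp.sum_smul_index (by simp), ← sub_eq_zero]
      have := hkill l _ (hc l)
      rw [smul_sub, Finsupp.smul_sum] at this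
      simpa only [mul_smul] using this
    rw [hwz, ← Finsupp.sum_finsetSum_index (by simp) (fun i b b' => add_smul b b' _)]
    exact Finset.sum_congr rfl fun l _ => this l
  · rw [Finsupp.finsetSum_apply, Finset.mul_sum]
    exact Finset.sum_eq_zero fun l _ => by
      rw [Finsupp.smul_apply, smul_eq_mul, ← mul_assoc, ha' l s hs, zero_mul]

/-- A finitely generated ideal on which all residual functionals vanish is zero. -/
theorem eq_bot_of_forall_functional (hN : N.FG) (h : ∀ lam : N →ₗ[A] ResidueField A, lam = 0) : N = ⊥ := by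
  by_contra hne
  have hlt : maximalIdeal A • N < N := by
    refine lt_of_le_of_ne Submodule.smul_le_right fun he => hne ?_
    exact Submodule.eq_bot_of_le_smul_of_le_jacobson_bot _ N hN he.ge (maximalIdeal_le_jacobson _)
  obtain ⟨x, hx, hx'⟩ := SetLike.exists_of_lt hlt
  let P : Submodule A N := maximalIdeal A • ⊤
  let Q := N ⧸ P
  have : Module.IsTorsionBySet A Q (maximalIdeal A : Set A) := fun q a => by
    obtain ⟨n, rfl⟩ := Submodule.Quotient.mk_surjective P q
    rw [← Submodule.Quotient.mk_smul, Submodule.Quotient.mk_eq_zero]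
    exact Submodule.smul_mem_smul a.2 trivial
  letI : Module (ResidueField A) Q := this.module
  haveI : IsScalarTower A (ResidueField A) Q := Module.IsTorsionBySet.isScalarTower ‹_›
  let q : Q := Submodule.Quotient.mk ⟨x, hx⟩
  have hq : q ≠ 0 := fun h0 => hx' (by
    rw [Submodule.Quotient.mk_eq_zero] at h0
    have := Submodule.mem_map_of_mem (f := N.subtype) h0
    rwa [Submodule.map_smul'', Submodule.map_top, Submodule.range_subtype] at this)
  obtain ⟨μ, hμ⟩ : ∃ μ : Q →ₗ[ResidueField A] ResidueField A, μ q ≠ 0 := by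
    by_contra hc
    push Not at hc
    exact hq ((Module.forall_dual_apply_eq_zero_iff (ResidueField A) q).1 hc)
  exact hμ (LinearMap.congr_fun (h ((μ.restrictScalars A).comp P.mkQ)) ⟨x, hx⟩)

end Groth.Agent.H23.RigidBaseAlg
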