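import Groth.Agent.H23.Rigid
import Groth.Agent.H23.RigidInf
import Mathlib.AlgebraicGeometry.Morphisms.Separated
import Mathlib.AlgebraicGeometry.Sites.Fpqc
import Mathlib.RingTheory.Filtration
import Mathlib.Topology.NoetherianSpace
import Mathlib.Topology.Sober

/-!
Rigidity over a locally noetherian base, without cohomology: for `p : X ⟶ S` flat with constant
functions on fibres, the locus of fibres collapsed by `π : X ⟶ Y` is open and closed, and `π` factors
through `p` over it.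
-/

universe u

open CategoryTheory Limits AlgebraicGeometry TopologicalSpace IsLocalRing

namespace Groth.Agent.H23.RigidNoeth

variable {X Y S P : Scheme.{u}}

/-- The ring of the `n`-th infinitesimal neighbourhood of a point. -/
abbrev nbhdRing (S : Scheme.{u}) (s : S) (n : ℕ) : Type u :=
  S.presheaf.stalk s ⧸ maximalIdeal (S.presheaf.stalk s) ^ (n + 1)

/-- Its map to the scheme. -/
noncomputable def nbhdι (S : Scheme.{u}) (s : S) (n : ℕ) :
    Spec (CommRingCat.of (nbhdRing S s n)) ⟶ S :=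
  Spec.map (CommRingCat.ofHom (Ideal.Quotient.mk _)) ≫ S.fromSpecStalk s

/-- The set of fibres collapsed by `π`. -/
def collapsed (p : X ⟶ S) (π : X ⟶ Y) : Set S := {s | ∃ y : Y, ∀ x : X, p x = s → π x = y}

/-- Over an infinitesimal neighbourhood of a collapsed fibre the map factors. -/
lemma exists_factor_nbhd [IsLocallyNoetherian S] (p : X ⟶ S) [Flat p] (π : X ⟶ Y) (s : S)
    (h0 : Function.Bijective (pullback.snd p (S.fromSpecResidueField s)).appTop)
    (hs : s ∈ collapsed p π) (n : ℕ) :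
    ∃ r : Spec (CommRingCat.of (nbhdRing S s n)) ⟶ Y,
      pullback.fst p (nbhdι S s n) ≫ π = pullback.snd p (nbhdι S s n) ≫ r := by
  let O := S.presheaf.stalk s
  let m := maximalIdeal O
  let A := nbhdRing S s n
  have hle : m ^ (n + 1) ≤ RingHom.ker (S.residue s).hom := by
    intro x hx
    exact (Ideal.Quotient.eq_zero_iff_mem).mpr (Ideal.pow_le_self (Nat.succ_ne_zero n) hx)
  let φ : A →+* S.residueField s := Ideal.Quotient.lift _ (S.residue s).hom hle
  have hφ : Function.Surjective φ := Ideal.Quotient.lift_surjective_of_surjective _ hle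
    (IsLocalRing.residue_surjective)
  have : Nontrivial A := Ideal.Quotient.nontrivial_iff.mpr (fun h => (maximalIdeal.isMaximal O).ne_top
    (top_le_iff.mp (h ▸ Ideal.pow_le_self (Nat.succ_ne_zero n))))
  have : IsLocalRing A := IsLocalRing.of_surjective' (Ideal.Quotient.mk _) Ideal.Quotient.mk_surjective
  have hnil : IsNilpotent (maximalIdeal A) := by
    refine ⟨n + 1, ?_⟩
    have : maximalIdeal A = m.map (Ideal.Quotient.mk _) := by
      have hsurj : Function.Surjective (Ideal.Quotient.mk (m ^ (n + 1))) := Ideal.Quotient.mk_surjective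
      refine (eq_maximalIdeal ?_).symm
      rcases Ideal.map_eq_top_or_isMaximal_of_surjective _ hsurj (maximalIdeal.isMaximal O) with h | h
      · exfalso
        have hc := congrArg (Ideal.comap (Ideal.Quotient.mk (m ^ (n + 1)))) h
        rw [Ideal.comap_map_of_surjective _ hsurj, Ideal.comap_top, ← RingHom.ker_eq_comap_bot, Ideal.mk_ker,
          sup_eq_left.mpr (Ideal.pow_le_self (Nat.succ_ne_zero n))] at hc
        exact (maximalIdeal.isMaximal O).ne_top hc
      · exact h
    rw [this, ← Ideal.map_pow, Ideal.map_quotient_self]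
    rfl
  let ν := nbhdι S s n
  let t := Spec.map (CommRingCat.ofHom φ)
  have hν : t ≫ ν = S.fromSpecResidueField s := by
    rw [Scheme.fromSpecResidueField]
    change Spec.map _ ≫ Spec.map _ ≫ _ = _
    rw [← Spec.map_comp_assoc]
    congr 1
  have : Subsingleton (Spec (CommRingCat.of A)) := by
    refine ⟨fun a b => PrimeSpectrum.ext ?_⟩
    obtain ⟨N, hN⟩ := hnil
    have : ∀ q : PrimeSpectrum A, q.asIdeal = maximalIdeal A := fun q =>
      ((maximalIdeal.isMaximal A).eq_of_le q.isPrime.ne_top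
        (q.isPrime.le_of_pow_le (n := N) (by rw [hN]; exact bot_le))).symm
    rw [this a, this b]
  have hfib : Function.Bijective (pullback.snd (pullback.snd p ν) t).appTop := by
    let e := pullbackLeftPullbackSndIso p ν t ≪≫ pullback.congrHom rfl hν
    have he : pullback.snd (pullback.snd p ν) t = e.hom ≫ pullback.snd p (S.fromSpecResidueField s) := by
      simp [e, pullback.congrHom, pullback.map, pullback.lift_snd, pullbackLeftPullbackSndIso_hom_snd]
    rw [he, Scheme.Hom.comp_appTop]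
    have : IsIso (e.hom.app ⊤) := inferInstance
    exact (@ConcreteCategory.bijective_of_isIso _ _ _ _ _ _ _ _ e.hom.appTop this).comp h0
  have hbij := RigidInf.bijective_appTop (pullback.snd p ν) φ hφ hnil hfib
  have hbij' : ∀ U : (Spec (CommRingCat.of A)).Opens, Function.Bijective ((pullback.snd p ν).app U) := by
    intro U
    rcases isEmpty_or_nonempty U with hU | ⟨⟨z, hz⟩⟩
    · have : U = ⊥ := by ext z; exact ⟨fun h => hU.elim ⟨z, h⟩, False.elim⟩
      subst this
      have h1 : (pullback.snd p ν) ⁻¹ᵁ (⊥ : (Spec (CommRingCat.of A)).Opens) = ⊥ := rfl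
      have : Subsingleton Γ(pullback p ν, (pullback.snd p ν) ⁻¹ᵁ (⊥ : (Spec (CommRingCat.of A)).Opens)) := by
        rw [h1]; infer_instance
      exact ⟨fun a b _ => Subsingleton.elim _ _, fun b => ⟨0, Subsingleton.elim _ _⟩⟩
    · have : U = ⊤ := by ext z'; exact ⟨fun _ => trivial, fun _ => Subsingleton.elim z z' ▸ hz⟩
      subst this
      exact hbij
  obtain ⟨y, hy⟩ := hs
  obtain ⟨r, hr⟩ := Rigid.exists_factor (pullback.snd p ν) hbij' (fun Z _ => isClosed_discrete _)
    (pullback.fst p ν ≫ π) (fun a => ⟨y, fun w hw => hy _ (by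
      have h1 := congr($(pullback.condition (f := p) (g := ν)) w)
      simp only [Scheme.Hom.comp_apply] at h1
      refine h1.trans ?_
      obtain ⟨z⟩ := (inferInstance : Nonempty (Spec (CommRingCat.of (S.residueField s))))
      rw [Subsingleton.elim (pullback.snd p ν w) (t z), ← Scheme.Hom.comp_apply, hν]
      exact Scheme.fromSpecResidueField_apply _ _)⟩)
  exact ⟨r, hr.symm⟩

/-- Maps agreeing on all infinitesimal neighbourhoods of a fibre agree near its points. -/
lemma exists_agree_nhd [IsLocallyNoetherian P] (q : P ⟶ S) (a b : P ⟶ Y) (x : P) (hab : a x = b x)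
    (hn : ∀ n, pullback.fst q (nbhdι S (q x) n) ≫ a = pullback.fst q (nbhdι S (q x) n) ≫ b) :
    ∃ W : P.Opens, x ∈ W ∧ W.ι ≫ a = W.ι ≫ b := by
  obtain ⟨_, ⟨V, hV, rfl⟩, hyV, -⟩ := Y.isBasis_affineOpens.exists_subset_of_mem_open (Set.mem_univ (a x)) isOpen_univ
  obtain ⟨_, ⟨U, hU, rfl⟩, hxU, hUle⟩ := P.isBasis_affineOpens.exists_subset_of_mem_open
    (show x ∈ a ⁻¹ᵁ V ⊓ b ⁻¹ᵁ V from ⟨hyV, show b x ∈ V from hab ▸ hyV⟩) (a ⁻¹ᵁ V ⊓ b ⁻¹ᵁ V).isOpen
  have ha : U ≤ a ⁻¹ᵁ V := fun z hz => (hUle hz).1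
  have hb : U ≤ b ⁻¹ᵁ V := fun z hz => (hUle hz).2
  let φ := a.appLE V U ha
  let ψ := b.appLE V U hb
  let g := P.presheaf.germ U x hxU
  -- equality in the local ring
  have hstalk : ∀ c, g (φ c) = g (ψ c) := by
    intro c
    rw [← sub_eq_zero, ← map_sub]
    let J : ℕ → Ideal (P.presheaf.stalk x) := fun n =>
      (maximalIdeal (S.presheaf.stalk (q x)) ^ (n + 1)).map (q.stalkMap x).hom
    have hmem : ∀ n, g (φ c - ψ c) ∈ J n := by
      intro n
      let j : Spec (CommRingCat.of (P.presheaf.stalk x ⧸ J n)) ⟶ P :=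
        Spec.map (CommRingCat.ofHom (Ideal.Quotient.mk _)) ≫ P.fromSpecStalk x
      let ρ : nbhdRing S (q x) n →+* P.presheaf.stalk x ⧸ J n :=
        Ideal.quotientMap (J n) (q.stalkMap x).hom Ideal.le_comap_map
      have hfac : j ≫ q = Spec.map (CommRingCat.ofHom ρ) ≫ nbhdι S (q x) n := by
        change (Spec.map _ ≫ _) ≫ q = Spec.map _ ≫ Spec.map _ ≫ _
        rw [Category.assoc, ← Scheme.SpecMap_stalkMap_fromSpecStalk, ← Spec.map_comp_assoc, ← Spec.map_comp_assoc]
        congr 1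
      have hj : j ≫ a = j ≫ b := by
        rw [← pullback.lift_fst (f := q) (g := nbhdι S (q x) n) j (Spec.map (CommRingCat.ofHom ρ)) hfac,
          Category.assoc, Category.assoc, hn n]
      have hgen : P.fromSpecStalk x = Spec.map g ≫ hU.fromSpec := by
        rw [← hU.fromSpecStalk_eq_fromSpecStalk hxU]; rfl
      have h1 : Spec.map (φ ≫ g ≫ CommRingCat.ofHom (Ideal.Quotient.mk (J n))) ≫ hV.fromSpec =
          Spec.map (ψ ≫ g ≫ CommRingCat.ofHom (Ideal.Quotient.mk (J n))) ≫ hV.fromSpec := by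
        simp only [Spec.map_comp, Category.assoc]
        rw [IsAffineOpen.SpecMap_appLE_fromSpec a hV hU ha, IsAffineOpen.SpecMap_appLE_fromSpec b hV hU hb]
        simp only [j, hgen, Category.assoc] at hj
        exact hj
      have h2 := congr($(Spec.map_injective ((cancel_mono hV.fromSpec).mp h1)) c)
      simp only [ConcreteCategory.comp_apply, CommRingCat.ofHom_apply] at h2
      rw [map_sub]
      exact Ideal.Quotient.eq.mp h2
    have hJ : ∀ n, J n ≤ maximalIdeal (P.presheaf.stalk x) ^ (n + 1) := fun n => by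
      simp only [J, Ideal.map_pow]
      exact Ideal.pow_right_mono (IsLocalRing.map_maximalIdeal_le (q.stalkMap x).hom) _
    have hinf : g (φ c - ψ c) ∈ ⨅ n : ℕ, maximalIdeal (P.presheaf.stalk x) ^ n := by
      refine Ideal.mem_iInf.mpr fun n => ?_
      exact Ideal.pow_le_pow_right (Nat.le_succ n) (hJ n (hmem n))
    rw [Ideal.iInf_pow_eq_bot_of_isLocalRing _ (maximalIdeal.isMaximal _).ne_top] at hinf
    exact hinf
  -- spread out
  have : IsNoetherianRing Γ(P, U) := IsLocallyNoetherian.component_noetherian ⟨U, hU⟩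
  let I := Ideal.span (Set.range fun c => φ c - ψ c)
  obtain ⟨G, hG⟩ := (IsNoetherian.noetherian I : I.FG)
  have hz : ∀ d ∈ G, ∃ W : P.Opens, ∃ h : W ≤ U, x ∈ W ∧ P.presheaf.map (homOfLE h).op d = 0 := by
    intro d hd
    have hd0 : g d = 0 := by
      have hle : I ≤ RingHom.ker g.hom := Ideal.span_le.mpr fun _ ⟨c, hc⟩ => by
        rw [← hc]; exact (map_sub g.hom _ _).trans (sub_eq_zero.mpr (hstalk c))
      exact hle (hG ▸ Submodule.subset_span hd)
    obtain ⟨W, hW, iW, iW', he⟩ := TopCat.Presheaf.germ_eq P.presheaf x hxU hxU d 0 (by rw [hd0, map_zero])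
    refine ⟨W, iW.le, hW, ?_⟩
    rw [show homOfLE iW.le = iW from rfl, he, map_zero]
  choose W hWle hxW hW0 using hz
  have hopen : IsOpen (⋂ d : {d // d ∈ G}, (W d.1 d.2 : Set P)) := isOpen_iInter_of_finite fun d => (W d.1 d.2).isOpen
  obtain ⟨_, ⟨W', hW', rfl⟩, hxW', hW'le⟩ := P.isBasis_affineOpens.exists_subset_of_mem_open
    (show x ∈ (U : Set P) ∩ ⋂ d : {d // d ∈ G}, (W d.1 d.2 : Set P) from ⟨hxU, Set.mem_iInter.mpr fun d => hxW d.1 d.2⟩)
    (U.isOpen.inter hopen)
  have hW'U : W' ≤ U := fun z hz => (hW'le hz).1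
  have hres : ∀ c, P.presheaf.map (homOfLE hW'U).op (φ c) = P.presheaf.map (homOfLE hW'U).op (ψ c) := by
    intro c
    rw [← sub_eq_zero, ← map_sub]
    have hle : I ≤ RingHom.ker (P.presheaf.map (homOfLE hW'U).op).hom := by
      rw [← hG, Submodule.span_le]
      intro d hd
      have h1 : W' ≤ W d hd := fun z hz => Set.mem_iInter.mp (hW'le hz).2 ⟨d, hd⟩
      change P.presheaf.map _ d = 0
      rw [show homOfLE hW'U = homOfLE h1 ≫ homOfLE (hWle d hd) from rfl, op_comp, Functor.map_comp,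
        ConcreteCategory.comp_apply, hW0, map_zero]
    exact hle (Ideal.subset_span ⟨c, rfl⟩)
  refine ⟨W', hxW', ?_⟩
  have e : a.appLE V W' (hW'U.trans ha) = b.appLE V W' (hW'U.trans hb) := by
    rw [← Scheme.Hom.appLE_map _ ha (homOfLE hW'U).op, ← Scheme.Hom.appLE_map _ hb (homOfLE hW'U).op]
    ext c
    exact hres c
  have h3 : hW'.fromSpec ≫ a = hW'.fromSpec ≫ b := by
    rw [← IsAffineOpen.SpecMap_appLE_fromSpec a hV hW' (hW'U.trans ha),
      ← IsAffineOpen.SpecMap_appLE_fromSpec b hV hW' (hW'U.trans hb), e]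
  rw [← cancel_epi hW'.isoSpec.inv, ← Category.assoc, ← Category.assoc]
  exact h3

/-- An open subset of a locally noetherian scheme stable under specialization is closed. -/
lemma isClosed_of_stableUnderSpecialization [IsLocallyNoetherian S] {C : Set S} (hC : IsOpen C)
    (hst : ∀ a b : S, a ⤳ b → a ∈ C → b ∈ C) : IsClosed C := by
  rw [← closure_subset_iff_isClosed]
  intro s hs
  obtain ⟨_, ⟨U, hU, rfl⟩, hsU, -⟩ := S.isBasis_affineOpens.exists_subset_of_mem_open (Set.mem_univ s) isOpen_univ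
  have : IsNoetherianRing Γ(S, U) := IsLocallyNoetherian.component_noetherian ⟨U, hU⟩
  have : NoetherianSpace U := (noetherianSpace_of_isAffineOpen U hU)
  let D : Set U := Subtype.val ⁻¹' C
  have hsD : (⟨s, hsU⟩ : U) ∈ closure D := by
    exact (U.isOpen.isOpenEmbedding_subtypeVal.isOpenMap.preimage_closure_eq_closure_preimage continuous_subtype_val C).le hs
  obtain ⟨T, hT, hDT⟩ := NoetherianSpace.exists_finset_irreducible (⟨closure D, isClosed_closure⟩ : Closeds U)
  have hmem : (⟨s, hsU⟩ : U) ∈ ((T.sup id : Closeds U) : Set U) := by rw [← hDT]; exact hsD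
  obtain ⟨Z, hZ, hsZ⟩ : ∃ Z ∈ T, (⟨s, hsU⟩ : U) ∈ closure ((Z : Set U) ∩ D) := by
    have hsub : D ⊆ ⋃ Z ∈ T, ((Z : Set U) ∩ D) := fun z hz => by
      have : z ∈ ((T.sup id : Closeds U) : Set U) := by rw [← hDT]; exact subset_closure hz
      rw [TopologicalSpace.Closeds.coe_finset_sup] at this
      simp only [Finset.sup_set_eq_biUnion, Set.mem_iUnion, Function.comp] at this
      obtain ⟨Z, hZ, hzZ⟩ := this
      exact Set.mem_iUnion₂.mpr ⟨Z, hZ, hzZ, hz⟩
    have := closure_mono hsub hsD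
    rw [Finset.closure_biUnion] at this
    simp only [Set.mem_iUnion, exists_prop] at this
    exact this
  have hirr := hT ⟨Z, hZ⟩
  obtain ⟨w, hwZ, hwD⟩ := closure_nonempty_iff.mp ⟨_, hsZ⟩
  have hqs : QuasiSober U := U.isOpen.isOpenEmbedding_subtypeVal.quasiSober
  obtain ⟨η, hη⟩ := QuasiSober.sober hirr Z.isClosed
  have hηD : η ∈ D := (hη.mem_open_set_iff (hC.preimage continuous_subtype_val)).mpr ⟨w, hwZ, hwD⟩
  have : η ⤳ (⟨s, hsU⟩ : U) := hη.specializes (closure_minimal Set.inter_subset_left Z.isClosed hsZ)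
  exact hst _ _ (this.map continuous_subtype_val) hηD

/-- The largest open on which two maps agree. -/
def agreeLocus (a b : P ⟶ Y) : P.Opens := sSup {V | V.ι ≫ a = V.ι ≫ b}

lemma agreeLocus_eq (a b : P ⟶ Y) : (agreeLocus a b).ι ≫ a = (agreeLocus a b).ι ≫ b := by
  let T := {V : P.Opens // V.ι ≫ a = V.ι ≫ b}
  refine Scheme.Cover.hom_ext ((agreeLocus a b).toScheme.openCoverOfIsOpenCover
    (fun V : T => (agreeLocus a b).ι ⁻¹ᵁ V.1) (.mk (eq_top_iff.mpr fun z _ => ?_))) _ _ fun V => ?_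
  · obtain ⟨V, hV, hz⟩ := Opens.mem_sSup.mp z.2
    exact Opens.mem_iSup.mpr ⟨⟨V, hV⟩, hz⟩
  · change ((agreeLocus a b).ι ⁻¹ᵁ V.1).ι ≫ _ ≫ a = ((agreeLocus a b).ι ⁻¹ᵁ V.1).ι ≫ _ ≫ b
    rw [← morphismRestrict_ι_assoc, ← morphismRestrict_ι_assoc, V.2]

lemma agree_of_mem {a b : P ⟶ Y} {w : P} (hw : w ∈ agreeLocus a b) : a w = b w :=
  congr($(agreeLocus_eq a b) ⟨w, hw⟩)

/-- The core: `C = collapsed p π` is clopen and `a = b` over it. -/
lemma clopen_of_pair [IsLocallyNoetherian S] [IsLocallyNoetherian P] (p : X ⟶ S) [Flat p] (π : X ⟶ Y)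
    (g : Y ⟶ S) [IsSeparated g] (q : P ⟶ S) (hgen : GeneralizingMap q) (hcl : IsClosedMap q) (a b : P ⟶ Y)
    (hag : a ≫ g = b ≫ g)
    (hpt : ∀ s ∈ collapsed p π, ∀ w : P, q w = s → a w = b w)
    (hback : ∀ s, (∀ w : P, q w = s → a w = b w) → s ∈ collapsed p π)
    (hthick : ∀ s ∈ collapsed p π, ∀ n,
      pullback.fst q (nbhdι S s n) ≫ a = pullback.fst q (nbhdι S s n) ≫ b) :
    IsClopen (collapsed p π) ∧ ∀ w : P, q w ∈ collapsed p π → w ∈ agreeLocus a b := by
  have hsub : ∀ w : P, q w ∈ collapsed p π → w ∈ agreeLocus a b := by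
    intro w hw
    obtain ⟨W, hwW, hW⟩ := exists_agree_nhd q a b w (hpt _ hw w rfl) (hthick _ hw)
    exact Opens.mem_sSup.mpr ⟨W, hW, hwW⟩
  have hopen : IsOpen (collapsed p π) := by
    refine isOpen_iff_forall_mem_open.mpr fun s hs =>
      ⟨(q '' ((agreeLocus a b : P.Opens) : Set P)ᶜ)ᶜ, fun s' hs' => hback s' fun w hw => agree_of_mem ?_,
        (hcl _ (agreeLocus a b).isOpen.isClosed_compl).isOpen_compl, ?_⟩
    · by_contra hw'
      exact hs' ⟨w, hw', hw⟩
    · rintro ⟨w, hw, hws⟩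
      exact hw (hsub w (hws ▸ hs))
  refine ⟨⟨isClosed_of_stableUnderSpecialization hopen fun s' s hsp hs' => hback s fun w hw => ?_, hopen⟩, hsub⟩
  subst hw
  obtain ⟨w', hw', hq⟩ := hgen hsp
  let L := pullback.lift a b hag
  have hr : IsClosed (Set.range (pullback.diagonal g)) := (pullback.diagonal g).isClosedEmbedding.isClosed_range
  have hL : L w' ∈ Set.range (pullback.diagonal g) := by
    have hmem : w' ∈ agreeLocus a b := hsub w' (show q w' ∈ collapsed p π from hq.symm ▸ hs')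
    have e : (agreeLocus a b).ι ≫ L = ((agreeLocus a b).ι ≫ a) ≫ pullback.diagonal g := by
      apply pullback.hom_ext
      · simp [L, pullback.lift_fst]
      · simpa [L, pullback.lift_snd] using (agreeLocus_eq a b).symm
    exact ⟨a w', (congr($e ⟨w', hmem⟩)).symm⟩
  obtain ⟨y, hy⟩ := (hw'.map L.continuous).mem_closed hr hL
  have h1 : a w = y := by
    have e : a = L ≫ pullback.fst g g := (pullback.lift_fst _ _ _).symm
    rw [e, Scheme.Hom.comp_apply, ← hy, ← Scheme.Hom.comp_apply, pullback.diagonal_fst]; rfl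
  have h2 : b w = y := by
    have e : b = L ≫ pullback.snd g g := (pullback.lift_snd _ _ _).symm
    rw [e, Scheme.Hom.comp_apply, ← hy, ← Scheme.Hom.comp_apply, pullback.diagonal_snd]; rfl
  rw [h1, h2]

lemma surjective_of_h0 (p : X ⟶ S) (s : S)
    (h0 : Function.Bijective (pullback.snd p (S.fromSpecResidueField s)).appTop) : ∃ x : X, p x = s := by
  by_contra hne
  have hem : IsEmpty ↥(pullback p (S.fromSpecResidueField s)) := ⟨fun w => hne ⟨pullback.fst p _ w, by
    rw [← Scheme.Hom.comp_apply, pullback.condition, Scheme.Hom.comp_apply]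
    exact Scheme.fromSpecResidueField_apply _ _⟩⟩
  have htop : (⊤ : (pullback p (S.fromSpecResidueField s)).Opens) = ⊥ := Subsingleton.elim _ _
  have : Subsingleton Γ(pullback p (S.fromSpecResidueField s), ⊤) := by rw [htop]; infer_instance
  have : Subsingleton Γ(Spec (S.residueField s), ⊤) := h0.1.subsingleton
  have : Subsingleton (S.residueField s) :=
    (ConcreteCategory.bijective_of_isIso (Scheme.ΓSpecIso (S.residueField s)).inv).1.subsingleton
  exact not_nontrivial (S.residueField s) inferInstance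

/-- Rigidity when `p` has a section. -/
lemma rigidity_of_section [IsLocallyNoetherian S] [IsLocallyNoetherian X] (p : X ⟶ S) [Flat p]
    (hcl : IsClosedMap p) (e : S ⟶ X) (he : e ≫ p = 𝟙 S)
    (h0 : ∀ s : S, Function.Bijective (pullback.snd p (S.fromSpecResidueField s)).appTop)
    (g : Y ⟶ S) [IsSeparated g] (π : X ⟶ Y) (hπ : π ≫ g = p) :
    ∃ C : S.Opens, IsClosed (C : Set S) ∧ (C : Set S) = collapsed p π ∧
      (p ⁻¹ᵁ C).ι ≫ π = (p ⁻¹ᵁ C).ι ≫ p ≫ e ≫ π := by
  have hes : ∀ s, p (e s) = s := fun s => congr($he s)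
  obtain ⟨hclop, hsub⟩ := clopen_of_pair p π g p (Flat.generalizingMap p) hcl π (p ≫ e ≫ π)
    (by simp [hπ, he])
    (fun s hs w hw => by
      obtain ⟨y, hy⟩ := hs
      rw [hy w hw, Scheme.Hom.comp_apply, Scheme.Hom.comp_apply, hy (e (p w)) ((hes _).trans hw)])
    (fun s h => ⟨π (e s), fun w hw => by rw [h w hw, Scheme.Hom.comp_apply, Scheme.Hom.comp_apply, hw]⟩)
    (fun s hs n => by
      obtain ⟨r, hr⟩ := exists_factor_nbhd p π s (h0 s) hs n
      have h2 : nbhdι S s n ≫ e ≫ π = r := by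
        have hw : (nbhdι S s n ≫ e) ≫ p = 𝟙 _ ≫ nbhdι S s n := by simp [he]
        have := congrArg (pullback.lift (nbhdι S s n ≫ e) (𝟙 _) hw ≫ ·) hr
        simpa [pullback.lift_fst_assoc, pullback.lift_snd_assoc] using this
      rw [hr, pullback.condition_assoc, h2])
  refine ⟨⟨collapsed p π, hclop.2⟩, hclop.1, rfl, ?_⟩
  have hle : p ⁻¹ᵁ ⟨collapsed p π, hclop.2⟩ ≤ agreeLocus π (p ≫ e ≫ π) := fun w hw => hsub w hw
  rw [← Scheme.homOfLE_ι X hle, Category.assoc, Category.assoc, agreeLocus_eq]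

/-- Rigidity for proper `p`, with descent of the factorization. -/
lemma rigidity_of_isProper [IsLocallyNoetherian S] (p : X ⟶ S) [Flat p] [IsProper p]
    (h0 : ∀ s : S, Function.Bijective (pullback.snd p (S.fromSpecResidueField s)).appTop)
    (g : Y ⟶ S) [IsSeparated g] (π : X ⟶ Y) (hπ : π ≫ g = p) :
    ∃ C : S.Opens, IsClosed (C : Set S) ∧ (C : Set S) = collapsed p π ∧
      ∃ t : C.toScheme ⟶ Y, t ≫ g = C.ι ∧ (p ⁻¹ᵁ C).ι ≫ π = (p ∣_ C) ≫ t := by
  have : IsLocallyNoetherian X := LocallyOfFiniteType.isLocallyNoetherian p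
  let q := pullback.fst p p ≫ p
  have : IsLocallyNoetherian (pullback p p) := LocallyOfFiniteType.isLocallyNoetherian (pullback.fst p p)
  obtain ⟨hclop, hsub⟩ := clopen_of_pair p π g q (Flat.generalizingMap q) q.isClosedMap
    (pullback.fst p p ≫ π) (pullback.snd p p ≫ π) (by simp [hπ, pullback.condition])
    (fun s hs w hw => by
      obtain ⟨y, hy⟩ := hs
      rw [Scheme.Hom.comp_apply, Scheme.Hom.comp_apply, hy _ (show p (pullback.fst p p w) = s from hw), hy _]
      rw [← Scheme.Hom.comp_apply, ← pullback.condition]; exact hw)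
    (fun s h => by
      obtain ⟨x₀, hx₀⟩ := surjective_of_h0 p s (h0 s)
      refine ⟨π x₀, fun x hx => ?_⟩
      obtain ⟨w, hw1, hw2⟩ := Scheme.Pullback.exists_preimage_pullback (f := p) (g := p) x x₀ (hx.trans hx₀.symm)
      have := h w (show p (pullback.fst p p w) = s by rw [hw1, hx])
      simpa [Scheme.Hom.comp_apply, hw1, hw2] using this)
    (fun s hs n => by
      obtain ⟨r, hr⟩ := exists_factor_nbhd p π s (h0 s) hs n
      have c1 : (pullback.fst q (nbhdι S s n) ≫ pullback.fst p p) ≫ p = pullback.snd q (nbhdι S s n) ≫ (nbhdι S s n) :=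
        (Category.assoc _ _ _).trans pullback.condition
      have c2 : (pullback.fst q (nbhdι S s n) ≫ pullback.snd p p) ≫ p = pullback.snd q (nbhdι S s n) ≫ (nbhdι S s n) := by
        rw [Category.assoc, ← pullback.condition]; exact pullback.condition
      have e1 := congrArg (pullback.lift _ _ c1 ≫ ·) hr
      have e2 := congrArg (pullback.lift _ _ c2 ≫ ·) hr
      simp only [pullback.lift_fst_assoc, pullback.lift_snd_assoc, Category.assoc] at e1 e2
      exact e1.trans e2.symm)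
  let C : S.Opens := ⟨collapsed p π, hclop.2⟩
  let pC := p ∣_ C
  have : Surjective pC := ⟨fun c => by
    obtain ⟨x, hx⟩ := surjective_of_h0 p c.1 (h0 c.1)
    have hxC : x ∈ p ⁻¹ᵁ C := show p x ∈ C from hx.symm ▸ c.2
    exact ⟨⟨x, hxC⟩, Subtype.ext ((congr($(morphismRestrict_ι p C) ⟨x, hxC⟩)).trans hx)⟩⟩
  have hd : pullback.fst pC pC ≫ (p ⁻¹ᵁ C).ι ≫ π = pullback.snd pC pC ≫ (p ⁻¹ᵁ C).ι ≫ π := by
    have hc : (pullback.fst pC pC ≫ (p ⁻¹ᵁ C).ι) ≫ p = (pullback.snd pC pC ≫ (p ⁻¹ᵁ C).ι) ≫ p := by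
      rw [Category.assoc, Category.assoc, ← morphismRestrict_ι, pullback.condition_assoc]
    let L := pullback.lift _ _ hc
    have hL : Set.range L ⊆ Set.range (agreeLocus (pullback.fst p p ≫ π) (pullback.snd p p ≫ π)).ι := by
      rintro _ ⟨w, rfl⟩
      rw [Scheme.Opens.range_ι]
      refine hsub _ ?_
      change p (pullback.fst p p (L w)) ∈ C
      rw [show pullback.fst p p (L w) = (p ⁻¹ᵁ C).ι (pullback.fst pC pC w) from
        congr($(pullback.lift_fst _ _ hc) w)]
      exact (pullback.fst pC pC w).2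
    have := congrArg (IsOpenImmersion.lift _ L hL ≫ ·)
      (agreeLocus_eq (pullback.fst p p ≫ π) (pullback.snd p p ≫ π))
    simp only [IsOpenImmersion.lift_fac_assoc] at this
    simpa [L, pullback.lift_fst_assoc, pullback.lift_snd_assoc] using this
  have hd' : ∀ {Z : Scheme.{u}} (g₁ g₂ : Z ⟶ (p ⁻¹ᵁ C).toScheme), g₁ ≫ pC = g₂ ≫ pC →
      g₁ ≫ (p ⁻¹ᵁ C).ι ≫ π = g₂ ≫ (p ⁻¹ᵁ C).ι ≫ π := fun g₁ g₂ h => by
    have := congrArg (pullback.lift g₁ g₂ h ≫ ·) hd
    simpa [pullback.lift_fst_assoc, pullback.lift_snd_assoc] using this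
  refine ⟨C, hclop.1, rfl, EffectiveEpi.desc pC ((p ⁻¹ᵁ C).ι ≫ π) hd', ?_, (EffectiveEpi.fac pC _ hd').symm⟩
  rw [← cancel_epi pC, ← Category.assoc, EffectiveEpi.fac, Category.assoc, hπ, morphismRestrict_ι]

end Groth.Agent.H23.RigidNoeth
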