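import Groth.Agent.H23.RigidBase
import Groth.Agent.H23.RigidNoeth
import Mathlib.AlgebraicGeometry.Sites.Fpqc
import Mathlib.AlgebraicGeometry.Morphisms.UniversallyOpen

/-!
Rigidity over an arbitrary base.
-/

universe u

open CategoryTheory Limits AlgebraicGeometry TopologicalSpace

namespace Groth.Agent.H23.RigidGen

open RigidNoeth

variable {X Y S S₀ : Scheme.{u}}

/-- Over an affine open of the base over which a map lands in an affine open, the map is pulled back
along the section. -/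
theorem agree_of_affine (p : X ⟶ S) [Flat p] [LocallyOfFinitePresentation p] [IsProper p]
    (h0 : RigidApply.ConstFibres p) (e : S ⟶ X) (he : e ≫ p = 𝟙 S) (π : X ⟶ Y) {W : S.Opens}
    (hW : IsAffineOpen W) {V : Y.Opens} (hV : IsAffineOpen V) (hWV : ∀ x, p x ∈ W → π x ∈ V) :
    p ⁻¹ᵁ W ≤ agreeLocus π (p ≫ e ≫ π) := by
  let j := pullback.fst p hW.fromSpec
  let p' := pullback.snd p hW.fromSpec
  let e' : Spec (CommRingCat.of Γ(S, W)) ⟶ pullback p hW.fromSpec :=
    pullback.lift (hW.fromSpec ≫ e) (𝟙 _) (by rw [Category.assoc, he, Category.comp_id, Category.id_comp])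
  have hj : ∀ z, p (j z) ∈ W := fun z => by
    rw [← Scheme.Hom.comp_apply, pullback.condition, Scheme.Hom.comp_apply]
    show _ ∈ (W : Set S)
    rw [← hW.range_fromSpec]
    exact Set.mem_range_self _
  have hes : ∀ x, p (e x) = x := fun x => congr($he x)
  have hr : ∀ f : pullback p hW.fromSpec ⟶ Y, (∀ z, f z ∈ V) → Set.range f ⊆ Set.range hV.fromSpec := by
    rintro f hf _ ⟨z, rfl⟩
    rw [hV.range_fromSpec]
    exact hf z
  have h1 : ∀ z, (j ≫ π) z ∈ V := fun z => hWV _ (hj z)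
  have h2 : ∀ z, (p' ≫ e' ≫ j ≫ π) z ∈ V := fun z => hWV _ (hj (e' (p' z)))
  let l₁ := IsOpenImmersion.lift hV.fromSpec (j ≫ π) (hr _ h1)
  let l₂ := IsOpenImmersion.lift hV.fromSpec (p' ≫ e' ≫ j ≫ π) (hr _ h2)
  have hl : e' ≫ l₁ = e' ≫ l₂ := by
    rw [← cancel_mono hV.fromSpec]
    simp only [Category.assoc, l₁, l₂, IsOpenImmersion.lift_fac]
    rw [← Category.assoc e' p', pullback.lift_snd, Category.id_comp]
  have key : l₁ = l₂ := by
    refine ext_of_isAffine (CommRingCat.hom_ext (RingHom.ext fun b => sub_eq_zero.1 ?_))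
    refine RigidBase.eq_zero_of_section p' (h0.baseChange hW.fromSpec) e' (pullback.lift_snd _ _ _) _ ?_
    rw [map_sub, ← CommRingCat.comp_apply, ← CommRingCat.comp_apply, ← Scheme.Hom.comp_appTop,
      ← Scheme.Hom.comp_appTop, hl, sub_self]
  have h3 : j ≫ π = j ≫ p ≫ e ≫ π := by
    have := congrArg (· ≫ hV.fromSpec) key
    simp only [l₁, l₂, IsOpenImmersion.lift_fac] at this
    rw [this]
    simp only [e', j, p', pullback.lift_fst_assoc, Category.assoc, pullback.condition_assoc]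
  intro x hx
  refine (show j.opensRange ≤ agreeLocus π (p ≫ e ≫ π) from ?_) ?_
  · refine le_sSup (?_ : j.opensRange.ι ≫ π = j.opensRange.ι ≫ p ≫ e ≫ π)
    rw [← cancel_epi j.isoOpensRange.hom, Scheme.Hom.isoOpensRange_hom_ι_assoc,
      Scheme.Hom.isoOpensRange_hom_ι_assoc, h3]
  · obtain ⟨z, hz⟩ := (hW.range_fromSpec ▸ hx : p x ∈ Set.range hW.fromSpec)
    obtain ⟨w, hw, -⟩ := Scheme.Pullback.exists_preimage_pullback (f := p) (g := hW.fromSpec) x z hz.symm
    exact ⟨w, hw⟩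

/-- Rigidity for a proper flat finitely presented morphism with a section. -/
theorem of_section (p : X ⟶ S) [Flat p] [LocallyOfFinitePresentation p] [IsProper p]
    (h0 : RigidApply.ConstFibres p) (e : S ⟶ X) (he : e ≫ p = 𝟙 S)
    (g : Y ⟶ S₀) [IsSeparated g] (π : X ⟶ Y) (hg : p ≫ e ≫ π ≫ g = π ≫ g) :
    ∃ C : S.Opens, IsClosed (C : Set S) ∧ (C : Set S) = collapsed p π ∧
      (p ⁻¹ᵁ C).ι ≫ π = (p ⁻¹ᵁ C).ι ≫ p ≫ e ≫ π := by
  have hes : ∀ x, p (e x) = x := fun x => congr($he x)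
  have hagree : ∀ s ∈ collapsed p π, ∃ W : S.Opens, s ∈ W ∧ p ⁻¹ᵁ W ≤ agreeLocus π (p ≫ e ≫ π) := by
    rintro s ⟨y, hy⟩
    obtain ⟨_, ⟨V, hV, rfl⟩, hyV, -⟩ := Y.isBasis_affineOpens.exists_subset_of_mem_open
      (Set.mem_univ y) isOpen_univ
    have hZ : IsClosed (p '' ((π ⁻¹ᵁ V : X.Opens) : Set X)ᶜ) :=
      p.isClosedMap _ (π ⁻¹ᵁ V).isOpen.isClosed_compl
    have hsZ : s ∉ p '' ((π ⁻¹ᵁ V : X.Opens) : Set X)ᶜ := by
      rintro ⟨x, hx, rfl⟩
      exact hx (show π x ∈ V from (hy x rfl).symm ▸ hyV)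
    obtain ⟨_, ⟨W, hW, rfl⟩, hsW, hWle⟩ := S.isBasis_affineOpens.exists_subset_of_mem_open
      hsZ hZ.isOpen_compl
    exact ⟨W, hsW, agree_of_affine p h0 e he π hW hV fun x hx => by
      by_contra hc
      exact hWle hx ⟨x, hc, rfl⟩⟩
  have hmem : ∀ W : S.Opens, p ⁻¹ᵁ W ≤ agreeLocus π (p ≫ e ≫ π) → (W : Set S) ⊆ collapsed p π := by
    intro W hW s hs
    refine ⟨π (e s), fun x hx => ?_⟩
    subst hx
    exact agree_of_mem (hW hs)
  have hopen : IsOpen (collapsed p π) := isOpen_iff_forall_mem_open.2 fun s hs => by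
    obtain ⟨W, hsW, hW⟩ := hagree s hs
    exact ⟨W, hmem W hW, W.2, hsW⟩
  let C : S.Opens := ⟨collapsed p π, hopen⟩
  have hle : p ⁻¹ᵁ C ≤ agreeLocus π (p ≫ e ≫ π) := fun x hx => by
    obtain ⟨W, hxW, hW⟩ := hagree (p x) hx
    exact hW hxW
  have hCeq : (p ⁻¹ᵁ C).ι ≫ π = (p ⁻¹ᵁ C).ι ≫ p ≫ e ≫ π := by
    rw [← Scheme.homOfLE_ι X hle, Category.assoc, Category.assoc, agreeLocus_eq]
  refine ⟨C, ?_, rfl, hCeq⟩
  -- closedness through the equalizer
  let P : X ⟶ pullback g g := pullback.lift π (p ≫ e ≫ π) (by simp only [Category.assoc, hg])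
  let E := pullback.fst P (pullback.diagonal g)
  have hd : IsClosedImmersion (pullback.diagonal g) := IsSeparated.isClosedImmersion_diagonal
  have hE : IsClosedImmersion E := MorphismProperty.pullback_fst _ _ hd
  have hER : IsClosed (Set.range E) := E.isClosedEmbedding.isClosed_range
  have hER' : (C : Set S) = (p '' (Set.range E)ᶜ)ᶜ := by
    ext s
    constructor
    · rintro hs ⟨x, hx, rfl⟩
      refine hx ?_
      let l : (p ⁻¹ᵁ C).toScheme ⟶ pullback P (pullback.diagonal g) :=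
        pullback.lift (p ⁻¹ᵁ C).ι ((p ⁻¹ᵁ C).ι ≫ π) (by
          refine pullback.hom_ext ?_ ?_
          · rw [Category.assoc, pullback.lift_fst, Category.assoc, pullback.diagonal_fst, Category.comp_id]
          · rw [Category.assoc, pullback.lift_snd, Category.assoc, pullback.diagonal_snd, Category.comp_id, hCeq])
      refine ⟨l ⟨x, hs⟩, ?_⟩
      rw [← Scheme.Hom.comp_apply, pullback.lift_fst]
      rfl
    · intro hs
      refine ⟨π (e s), fun x hx => ?_⟩
      obtain ⟨z, rfl⟩ : x ∈ Set.range E := by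
        by_contra hc
        exact hs ⟨x, hc, hx⟩
      subst hx
      have h1 : E ≫ π = E ≫ p ≫ e ≫ π := by
        have h2 : E ≫ P ≫ pullback.fst g g = E ≫ P ≫ pullback.snd g g := by
          rw [← Category.assoc, ← Category.assoc E P, pullback.condition]
          simp
        rwa [pullback.lift_fst, pullback.lift_snd] at h2
      exact congr($h1 z)
  rw [hER']
  exact (p.isOpenMap _ hER.isOpen_compl).isClosed_compl

/-- Rigidity over an arbitrary base. -/
theorem rigidity (p : X ⟶ S) [Flat p] [LocallyOfFinitePresentation p] [IsProper p]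
    (h0 : RigidApply.ConstFibres p) (g : Y ⟶ S₀) [IsSeparated g] (π : X ⟶ Y) (r : S ⟶ S₀)
    (hπ : π ≫ g = p ≫ r) :
    ∃ C : S.Opens, IsClosed (C : Set S) ∧ (C : Set S) = collapsed p π ∧
      ∃ k : C.toScheme ⟶ Y, (p ⁻¹ᵁ C).ι ≫ π = (p ∣_ C) ≫ k := by
  let Δ : X ⟶ pullback p p := pullback.lift (𝟙 X) (𝟙 X) rfl
  obtain ⟨C', hC'c, hC', hC'eq⟩ := of_section (pullback.snd p p) (h0.baseChange p) Δ (pullback.lift_snd _ _ _)
    g (pullback.fst p p ≫ π) (by
      simp only [Category.assoc, hπ, pullback.condition_assoc]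
      rw [← Category.assoc Δ, pullback.lift_snd, Category.id_comp])
  have hsurj : Function.Surjective p := fun s => surjective_of_h0 p s (h0 s)
  have hCC' : (C' : Set X) = p ⁻¹' collapsed p π := by
    rw [hC']
    ext x
    constructor
    · rintro ⟨y, hy⟩
      refine ⟨y, fun x' hx' => ?_⟩
      obtain ⟨z, hz1, hz2⟩ := Scheme.Pullback.exists_preimage_pullback (f := p) (g := p) x' x hx'
      have := hy z hz2
      rwa [Scheme.Hom.comp_apply, hz1] at this
    · rintro ⟨y, hy⟩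
      refine ⟨y, fun z hz => ?_⟩
      rw [Scheme.Hom.comp_apply]
      refine hy _ ?_
      rw [← Scheme.Hom.comp_apply, pullback.condition, Scheme.Hom.comp_apply, hz]
  have hopen : IsOpen (collapsed p π) := by
    rw [← Set.image_preimage_eq (collapsed p π) hsurj, ← hCC']
    exact p.isOpenMap _ C'.2
  have hclosed : IsClosed (collapsed p π) := by
    rw [← isOpen_compl_iff, ← Set.image_preimage_eq (collapsed p π)ᶜ hsurj, Set.preimage_compl, ← hCC']
    exact p.isOpenMap _ hC'c.isOpen_compl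
  let C : S.Opens := ⟨collapsed p π, hopen⟩
  refine ⟨C, hclosed, rfl, ?_⟩
  let q := p ∣_ C
  have : Flat q := MorphismProperty.of_isPullback (isPullback_morphismRestrict p C).flip inferInstance
  have : QuasiCompact q := MorphismProperty.of_isPullback (isPullback_morphismRestrict p C).flip inferInstance
  have : Surjective q := ⟨fun s => by
    obtain ⟨x, hx⟩ := hsurj s.1
    refine ⟨⟨x, show p x ∈ C from hx ▸ s.2⟩, C.ι.isOpenEmbedding.injective ?_⟩
    rw [← Scheme.Hom.comp_apply, morphismRestrict_ι]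
    exact hx⟩
  have cond : ∀ {Z : Scheme.{u}} (g₁ g₂ : Z ⟶ (p ⁻¹ᵁ C).toScheme), g₁ ≫ q = g₂ ≫ q →
      g₁ ≫ (p ⁻¹ᵁ C).ι ≫ π = g₂ ≫ (p ⁻¹ᵁ C).ι ≫ π := by
    intro Z g₁ g₂ hg
    have hg' : g₁ ≫ (p ⁻¹ᵁ C).ι ≫ p = g₂ ≫ (p ⁻¹ᵁ C).ι ≫ p := by
      rw [← morphismRestrict_ι]
      exact congrArg (· ≫ C.ι) hg |> fun h => by simpa only [Category.assoc] using h
    let z : Z ⟶ pullback p p := pullback.lift (g₁ ≫ (p ⁻¹ᵁ C).ι) (g₂ ≫ (p ⁻¹ᵁ C).ι) (by
      simpa only [Category.assoc] using hg')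
    have hrange : Set.range z ⊆ Set.range (pullback.snd p p ⁻¹ᵁ C').ι := by
      rintro _ ⟨w, rfl⟩
      rw [Scheme.Opens.range_ι]
      show pullback.snd p p (z w) ∈ (C' : Set X)
      rw [hCC', ← Scheme.Hom.comp_apply, pullback.lift_snd, Scheme.Hom.comp_apply]
      exact (g₂ w).2
    have hz := IsOpenImmersion.lift_fac _ z hrange
    have h1 := congrArg (IsOpenImmersion.lift _ z hrange ≫ ·) hC'eq
    simp only [reassoc_of% hz] at h1
    rw [pullback.lift_fst_assoc, pullback.lift_snd_assoc, Category.assoc, pullback.lift_fst_assoc, Category.id_comp,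
      Category.assoc] at h1
    exact h1
  exact ⟨EffectiveEpi.desc q ((p ⁻¹ᵁ C).ι ≫ π) cond, (EffectiveEpi.fac _ _ _).symm⟩

/-- Over a connected base, or once every fibre is known to be collapsed, the map factors through the
section. -/
theorem eq_comp_section (p : X ⟶ S) [Flat p] [LocallyOfFinitePresentation p] [IsProper p]
    (h0 : RigidApply.ConstFibres p) (e : S ⟶ X) (he : e ≫ p = 𝟙 S) (π : X ⟶ Y)
    (h : ∀ s, s ∈ collapsed p π) : π = p ≫ e ≫ π := by
  have hes : ∀ x, p (e x) = x := fun x => congr($he x)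
  have hle : ⊤ ≤ agreeLocus π (p ≫ e ≫ π) := fun x _ => by
    obtain ⟨y, hy⟩ := h (p x)
    obtain ⟨_, ⟨V, hV, rfl⟩, hyV, -⟩ := Y.isBasis_affineOpens.exists_subset_of_mem_open
      (Set.mem_univ y) isOpen_univ
    have hZ : IsClosed (p '' ((π ⁻¹ᵁ V : X.Opens) : Set X)ᶜ) :=
      p.isClosedMap _ (π ⁻¹ᵁ V).isOpen.isClosed_compl
    have hsZ : p x ∉ p '' ((π ⁻¹ᵁ V : X.Opens) : Set X)ᶜ := by
      rintro ⟨x', hx', e'⟩
      exact hx' (show π x' ∈ V from (hy x' e').symm ▸ hyV)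
    obtain ⟨_, ⟨W, hW, rfl⟩, hsW, hWle⟩ := S.isBasis_affineOpens.exists_subset_of_mem_open
      hsZ hZ.isOpen_compl
    exact agree_of_affine p h0 e he π hW hV (fun x' hx' => by
      by_contra hc
      exact hWle hx' ⟨x', hc, rfl⟩) hsW
  have := agreeLocus_eq π (p ≫ e ≫ π)
  have htop : agreeLocus π (p ≫ e ≫ π) = ⊤ := top_unique hle
  rw [htop] at this
  have : IsIso (⊤ : X.Opens).ι := X.topIso.isIso_hom
  exact (cancel_epi (⊤ : X.Opens).ι).1 (by assumption)

end Groth.Agent.H23.RigidGen
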