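import Mathlib.RingTheory.Polynomial.Cyclotomic.Eval
import Mathlib.RingTheory.Polynomial.Cyclotomic.Basic
import Mathlib.RingTheory.RootsOfUnity.PrimitiveRoots
import Mathlib.GroupTheory.OrderOfElement
import Mathlib.Data.Nat.Factors
import Mathlib.Algebra.CharP.Lemmas

/-!
# Roots of unity congruent to one
-/

universe u

open Polynomial

namespace Groth.Agent.H23.RootUnity

variable {O : Type u} [CommRing O] [IsDomain O] [CharZero O]

theorem nat_dvd_of_dvd {m k : ℕ} (hk : k ≠ 0) (hO : ∀ p : ℕ, p.Prime → p ∣ m → ¬ IsUnit (p : O))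
    (h : (m : O) ∣ (k : O)) : m ∣ k := by
  set d := Nat.gcd m k with hd
  have hd0 : 0 < d := Nat.gcd_pos_of_pos_right _ (Nat.pos_of_ne_zero hk)
  obtain ⟨m', hm'⟩ := Nat.gcd_dvd_left m k
  obtain ⟨k', hk'⟩ := Nat.gcd_dvd_right m k
  rw [← hd] at hm' hk'
  have hcop : Nat.Coprime m' k' := by
    have := Nat.coprime_div_gcd_div_gcd (m := m) (n := k) hd0
    rwa [← hd, hm', hk', Nat.mul_div_cancel_left _ hd0, Nat.mul_div_cancel_left _ hd0] at this
  have h1 : (m' : O) ∣ (k' : O) := by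
    rw [hm', hk', Nat.cast_mul, Nat.cast_mul] at h
    exact (mul_dvd_mul_iff_left (Nat.cast_ne_zero.2 hd0.ne')).1 h
  have hu : IsUnit (m' : O) := by
    obtain ⟨c, hc⟩ := h1
    have hbez : IsCoprime (m' : ℤ) (k' : ℤ) := Nat.isCoprime_iff_coprime.2 hcop
    obtain ⟨a, b, hab⟩ := hbez.map (Int.castRingHom O)
    simp only [map_natCast] at hab
    exact IsUnit.of_mul_eq_one (a + b * c) (by rw [← hab, hc]; ring)
  by_cases h1' : m' = 1
  · rw [hm', h1', mul_one]
    exact Dvd.intro _ hk'.symm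
  · obtain ⟨p, hp, hpm⟩ := Nat.exists_prime_and_dvd h1'
    exact absurd (isUnit_of_dvd_unit (Nat.cast_dvd_cast hpm) hu)
      (hO p hp (hm' ▸ hpm.mul_left d))

theorem key (n : ℕ) (hO : ∀ p : ℕ, p.Prime → p ∣ n → ¬ IsUnit (p : O))
    (α : O) (hα : IsOfFinOrder α) (h : (n : O) ∣ (α - 1) ^ 2) {q j : ℕ} (hq : q.Prime)
    (hj : q ^ (j + 1) ∣ orderOf α) : n ^ Nat.totient (q ^ (j + 1)) ∣ q ^ 2 := by
  haveI : Fact q.Prime := ⟨hq⟩
  obtain ⟨r, hr⟩ := hj
  have hζ : IsPrimitiveRoot (α ^ r) (q ^ (j + 1)) :=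
    (IsPrimitiveRoot.orderOf α).pow hα.orderOf_pos (by rw [hr, mul_comm])
  have hq0 : NeZero (q ^ (j + 1)) := ⟨pow_ne_zero _ hq.ne_zero⟩
  have hev : (q : O) = ∏ μ ∈ primitiveRoots (q ^ (j + 1)) O, (1 - μ) := by
    rw [← eval_one_cyclotomic_prime_pow (R := O) j (p := q),
      cyclotomic_eq_prod_X_sub_primitiveRoots hζ, eval_prod]
    simp
  have hdiv : ∀ μ ∈ primitiveRoots (q ^ (j + 1)) O, (n : O) ∣ (1 - μ) ^ 2 := by
    intro μ hμ
    have hμ' := (mem_primitiveRoots (Nat.pos_of_ne_zero hq0.out)).1 hμ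
    obtain ⟨i, -, rfl⟩ := hζ.eq_pow_of_pow_eq_one hμ'.pow_eq_one
    refine h.trans (pow_dvd_pow_of_dvd ?_ 2)
    rw [← neg_dvd, ← pow_mul, neg_sub]
    simpa using sub_dvd_pow_sub_pow (1 : O) α (r * i)
  have h2 : ((n ^ Nat.totient (q ^ (j + 1)) : ℕ) : O) ∣ ((q ^ 2 : ℕ) : O) := by
    rw [Nat.cast_pow, Nat.cast_pow, hev, ← Finset.prod_pow, ← hζ.card_primitiveRoots,
      ← Finset.prod_const]
    exact Finset.prod_dvd_prod_of_dvd _ _ hdiv
  exact nat_dvd_of_dvd (pow_ne_zero _ hq.ne_zero)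
    (fun p hp hpn => hO p hp (hp.dvd_of_dvd_pow hpn)) h2

theorem pow_eq_one (n : ℕ) (hn : 0 < n) (hO : ∀ p : ℕ, p.Prime → p ∣ n → ¬ IsUnit (p : O))
    (α : O) (hα : IsOfFinOrder α) (h : (n : O) ∣ (α - 1) ^ 2) :
    (5 ≤ n → α = 1) ∧ (n = 4 → α ^ 2 = 1) ∧ (n = 3 → α ^ 3 = 1) ∧ (n = 2 → α ^ 4 = 1) := by
  have hpos := hα.orderOf_pos
  have K : ∀ q : ℕ, q.Prime → q ∣ orderOf α → n ^ (q - 1) ∣ q ^ 2 := fun q hq hqm => by
    have := key n hO α hα h (j := 0) hq (by simpa using hqm)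
    simpa [Nat.totient_prime hq] using this
  have main : ∀ q k : ℕ, q.Prime → (∀ d : ℕ, d.Prime → d ∣ orderOf α → d = q) →
      ¬ q ^ (k + 1) ∣ orderOf α → α ^ q ^ k = 1 := by
    intro q k hq hu hk
    rw [← orderOf_dvd_iff_pow_eq_one]
    have he := Nat.eq_prime_pow_of_unique_prime_dvd hpos.ne' (fun {d} hd hdm => hu d hd hdm)
    rw [he] at hk ⊢
    refine pow_dvd_pow q ?_
    by_contra hlt
    exact hk (pow_dvd_pow q (by omega))
  refine ⟨fun h5 => ?_, ?_, ?_, ?_⟩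
  · rw [← orderOf_eq_one_iff]
    by_contra hne
    obtain ⟨q, hq, hqm⟩ := Nat.exists_prime_and_dvd hne
    have hle := Nat.le_of_dvd (pow_pos hq.pos 2) (K q hq hqm)
    rcases Nat.lt_or_ge q 4 with h4 | h4
    · have := hq.two_le
      interval_cases q
      · simp only [Nat.add_one_sub_one, pow_one] at hle; omega
      · have : 5 ^ 2 ≤ n ^ 2 := Nat.pow_le_pow_left h5 2
        simp only [Nat.add_one_sub_one] at hle; omega
    · have hqn : n ∣ q ^ 2 := (dvd_pow_self n (by omega)).trans (K q hq hqm)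
      obtain ⟨i, -, rfl⟩ := (Nat.dvd_prime_pow hq).1 hqn
      have hi : 1 ≤ i := Nat.one_le_iff_ne_zero.2 fun hi => by simp [hi] at h5
      rw [← pow_mul] at hle
      have : q - 1 ≤ i * (q - 1) := Nat.le_mul_of_pos_left _ hi
      have hlt : q ^ 2 < q ^ (i * (q - 1)) := Nat.pow_lt_pow_right hq.one_lt (by omega)
      omega
  all_goals rintro rfl
  · refine main 2 1 Nat.prime_two (fun d hd hdm => ?_) fun h4 => ?_
    · have : 4 ∣ d ^ 2 := (dvd_pow_self 4 (by have := hd.two_le; omega)).trans (K d hd hdm)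
      exact ((Nat.prime_dvd_prime_iff_eq Nat.prime_two hd).1
        (Nat.prime_two.dvd_of_dvd_pow ((by norm_num : 2 ∣ 4).trans this))).symm
    · have := key 4 hO α hα h (j := 1) Nat.prime_two h4
      rw [Nat.totient_prime_pow Nat.prime_two (by omega)] at this
      norm_num at this
  · refine main 3 1 Nat.prime_three (fun d hd hdm => ?_) fun h9 => ?_
    · have : 3 ∣ d ^ 2 := (dvd_pow_self 3 (by have := hd.two_le; omega)).trans (K d hd hdm)
      exact ((Nat.prime_dvd_prime_iff_eq Nat.prime_three hd).1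
        (Nat.prime_three.dvd_of_dvd_pow this)).symm
    · have := key 3 hO α hα h (j := 1) Nat.prime_three h9
      rw [Nat.totient_prime_pow Nat.prime_three (by omega)] at this
      norm_num at this
  · have h24 : α ^ 4 = α ^ 2 ^ 2 := by norm_num
    rw [h24]
    refine main 2 2 Nat.prime_two (fun d hd hdm => ?_) fun h8 => ?_
    · have : 2 ∣ d ^ 2 := (dvd_pow_self 2 (by have := hd.two_le; omega)).trans (K d hd hdm)
      exact ((Nat.prime_dvd_prime_iff_eq Nat.prime_two hd).1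
        (Nat.prime_two.dvd_of_dvd_pow this)).symm
    · have := key 2 hO α hα h (j := 2) Nat.prime_two h8
      rw [Nat.totient_prime_pow Nat.prime_two (by omega)] at this
      norm_num at this

end Groth.Agent.H23.RootUnity
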