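import Groth.Agent.Alg6.AssDepth
import Groth.Agent.Alg6.LocLoc
import Groth.Prelude.Def_CInt
import Mathlib.AlgebraicGeometry.Noetherian
import Mathlib.AlgebraicGeometry.Stalk

/-!
Schematically dense opens and depth.
-/

universe u

open CategoryTheory AlgebraicGeometry TopologicalSpace IsLocalRing

namespace Groth.Agent.H23.SchDense

variable {X : Scheme.{u}} [IsLocallyNoetherian X]

theorem one_le_depth_iff {V : X.Opens} (hV : IsAffineOpen V) (y : V) :
    (1 : ℕ∞) ≤ LocCoh.depth ↑(X.presheaf.stalk y.1) ↑(X.presheaf.stalk y.1) ↔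
      (hV.primeIdealOf y).asIdeal ∉ associatedPrimes Γ(X, V) Γ(X, V) := by
  haveI : IsNoetherianRing Γ(X, V) := IsLocallyNoetherian.component_noetherian ⟨V, hV⟩
  letI := X.presheaf.algebra_section_stalk y
  haveI := hV.isLocalization_stalk y
  rw [Alg6.depth_localized_eq (hV.primeIdealOf y).asIdeal _
      (Algebra.linearMap Γ(X, V) (X.presheaf.stalk y.1))]
  exact Alg6.one_le_depth_atPrime_iff _

theorem germ_eq_zero_iff {V : X.Opens} (hV : IsAffineOpen V) (y : V) (s : Γ(X, V)) :
    X.presheaf.germ V y.1 y.2 s = 0 ↔ ∃ c ∉ (hV.primeIdealOf y).asIdeal, c * s = 0 := by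
  letI := X.presheaf.algebra_section_stalk y
  haveI := hV.isLocalization_stalk y
  refine (IsLocalization.map_eq_zero_iff (hV.primeIdealOf y).asIdeal.primeCompl (X.presheaf.stalk y.1) s).trans ?_
  exact ⟨fun ⟨c, hc⟩ => ⟨c.1, c.2, hc⟩, fun ⟨c, hc, h⟩ => ⟨⟨c, hc⟩, h⟩⟩

theorem primeIdealOf_fromSpec {V : X.Opens} (hV : IsAffineOpen V) (q : PrimeSpectrum Γ(X, V)) :
    ∃ y : V, hV.primeIdealOf y = q := by
  have hy : hV.fromSpec q ∈ V := by
    rw [← SetLike.mem_coe, ← hV.range_fromSpec]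
    exact Set.mem_range_self q
  haveI := hV.isOpenImmersion_fromSpec
  exact ⟨⟨_, hy⟩, hV.fromSpec.isOpenEmbedding.injective (hV.fromSpec_primeIdealOf _)⟩

theorem isSchematicallyDense_iff (U : X.Opens) :
    CInt.IsSchematicallyDense U ↔
      ∀ x : X, x ∉ U → (1 : ℕ∞) ≤ LocCoh.depth ↑(X.presheaf.stalk x) ↑(X.presheaf.stalk x) := by
  constructor
  · intro h x hx
    obtain ⟨_, ⟨V, hV, rfl⟩, hxV, -⟩ :=
      X.isBasis_affineOpens.exists_subset_of_mem_open (Set.mem_univ x) isOpen_univ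
    haveI : IsNoetherianRing Γ(X, V) := IsLocallyNoetherian.component_noetherian ⟨V, hV⟩
    rw [one_le_depth_iff hV ⟨x, hxV⟩]
    intro hass
    obtain ⟨hp, s, hs'⟩ := isAssociatedPrime_iff.mp hass
    have hs : ∀ c, c ∈ (hV.primeIdealOf ⟨x, hxV⟩).asIdeal ↔ c * s = 0 := fun c => by
      rw [hs', Submodule.mem_colon_singleton, Submodule.mem_bot, smul_eq_mul]
    have hs0 : s ≠ 0 := fun h0 => hp.ne_top (Ideal.eq_top_iff_one _ |>.mpr ((hs 1).mpr (by rw [h0, mul_zero])))
    refine hs0 (h V ?_)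
    rw [map_zero]
    refine TopCat.Presheaf.section_ext X.sheaf _ _ _ fun y hy => ?_
    show X.presheaf.germ (V ⊓ U) y hy _ = X.presheaf.germ (V ⊓ U) y hy 0
    rw [map_zero]
    refine (X.presheaf.germ_res_apply _ y hy s).trans ?_
    rw [germ_eq_zero_iff hV ⟨y, hy.1⟩]
    by_contra! hc
    refine hx ?_
    have hle : (hV.primeIdealOf ⟨x, hxV⟩).asIdeal ≤ (hV.primeIdealOf ⟨y, hy.1⟩).asIdeal := fun c hc' =>
      by_contra fun hcy => hc c hcy ((hs c).mp hc')
    have hsp := ((PrimeSpectrum.le_iff_specializes _ _).mp hle).map hV.fromSpec.continuous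
    rw [hV.fromSpec_primeIdealOf, hV.fromSpec_primeIdealOf] at hsp
    exact hsp.mem_open U.isOpen hy.2
  · intro h V
    rw [injective_iff_map_eq_zero]
    intro s hs
    refine TopCat.Presheaf.section_ext X.sheaf _ _ _ fun z hz => ?_
    show X.presheaf.germ V z hz s = X.presheaf.germ V z hz 0
    rw [map_zero]
    obtain ⟨_, ⟨W, hW, rfl⟩, hzW, hWV⟩ :=
      X.isBasis_affineOpens.exists_subset_of_mem_open (u := (V : Set X)) hz V.isOpen
    haveI : IsNoetherianRing Γ(X, W) := IsLocallyNoetherian.component_noetherian ⟨W, hW⟩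
    rw [← X.presheaf.germ_res_apply (homOfLE hWV) z hzW s]
    set t := X.presheaf.map (homOfLE (show W ≤ V from hWV)).op s
    suffices ht : t = 0 by rw [ht, map_zero]
    by_contra ht
    let N : Submodule Γ(X, W) Γ(X, W) := Submodule.span _ {t}
    have hne : N.annihilator ≠ ⊤ := fun hN => ht <| by
      have := (Ideal.eq_top_iff_one _).mp hN
      rwa [Submodule.mem_annihilator_span_singleton, one_smul] at this
    obtain ⟨m, hm, hNm⟩ := Ideal.exists_le_maximal _ hne
    haveI := hm.isPrime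
    obtain ⟨q, hq, -⟩ := Ideal.exists_minimalPrimes_le hNm
    haveI : q.IsPrime := hq.1.1
    have hann' : Module.annihilator Γ(X, W) N = N.annihilator := rfl
    have hass : q ∈ associatedPrimes Γ(X, W) Γ(X, W) :=
      associatedPrimes.subset_of_injective (f := N.subtype) Subtype.val_injective
        (Module.associatedPrimes.minimalPrimes_annihilator_subset_associatedPrimes _ N (hann' ▸ hq))
    obtain ⟨y, hy⟩ := primeIdealOf_fromSpec hW ⟨q, inferInstance⟩
    by_cases hyU : y.1 ∈ U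
    · obtain ⟨c, hcq, hc⟩ := (germ_eq_zero_iff hW y t).mp (by
        rw [X.presheaf.germ_res_apply]
        rw [← X.presheaf.germ_res_apply (homOfLE (inf_le_left : V ⊓ U ≤ V)) y.1 ⟨hWV y.2, hyU⟩ s, hs, map_zero])
      rw [hy] at hcq
      exact hcq (hq.1.2 (by rw [Submodule.mem_annihilator_span_singleton]; exact hc))
    · have := (one_le_depth_iff hW y).mp (h y.1 hyU)
      rw [hy] at this
      exact this hass

end Groth.Agent.H23.SchDense
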