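import Groth.Agent.H23.GraphChi
import Groth.Agent.H23.ChiAdd

/-!
# The Tor Euler characteristic against a semilocal finite algebra

For a finite algebra `S` over a local ring `A` with localisations `C i` at its maximal ideals, and
flat local `A`-algebras `B i → C i`, the number `chi_A(M, S)` is the sum of the
`[κ(B i) : κ(A)] · chi_{B i}(B i ⊗ M, C i)`.
-/

set_option autoImplicit false
set_option linter.style.haveILetI false
set_option backward.isDefEq.respectTransparency.types false

universe u

open CategoryTheory CategoryTheory.Limits MonoidalCategory IsLocalRing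
open scoped TensorProduct

namespace Groth.Agent.H23.SemiLocTor

open Groth.Agent Groth.Agent.H9Misc

section Homology

variable (A : Type u) [CommRing A] (S : Type u) [CommRing S] [Algebra A S]

/-- `X ⊗_A S ≅ S ⊗_A X`. -/
noncomputable def tensorIso : tensorRight (ModuleCat.of A S) ≅
    TorBaseChange.G A S ⋙ ModuleCat.restrictScalars (algebraMap A S) :=
  NatIso.ofComponents (fun X =>
    let f : X ⊗[A] S ≃ₗ[A] S ⊗[A] X := TensorProduct.comm A X S
    let Z : ModuleCat.{u} A :=
      (ModuleCat.restrictScalars (algebraMap A S)).obj (ModuleCat.of S (S ⊗[A] X))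
    let l : X ⊗[A] S →ₗ[A] Z :=
      { toFun := fun x => f x
        map_add' := fun x y => by simp; rfl
        map_smul' := fun a x => by
          show f (a • x) = algebraMap A S a • f x
          rw [map_smul, algebraMap_smul] }
    LinearEquiv.toModuleIso (X₁ := X ⊗[A] S) (LinearEquiv.ofBijective l f.bijective))
    (fun {X Y} g => ModuleCat.hom_ext (TensorProduct.ext' fun x q => by rfl))

/-- The complex computing `Tor` against `S`, with its action of `S`. -/
noncomputable abbrev cx {M : ModuleCat.{u} A} (P : ProjectiveResolution M) : ChainComplex (ModuleCat.{u} S) ℕ :=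
  ((TorBaseChange.G A S).mapHomologicalComplex _).obj P.complex

theorem exists_semilinear {M : ModuleCat.{u} A} (P : ProjectiveResolution M) (n : ℕ) :
    ∃ φ : ((Tor (ModuleCat.{u} A) n).obj M).obj (ModuleCat.of A S) →ₛₗ[algebraMap A S] (cx A S P).homology n,
      Function.Bijective φ := by
  let F := ModuleCat.restrictScalars (algebraMap A S)
  let e : ((Tor (ModuleCat.{u} A) n).obj M).obj (ModuleCat.of A S) ≅ F.obj ((cx A S P).homology n) :=
    TorBalance.torIso' P (ModuleCat.of A S) n ≪≫
      (HomologicalComplex.homologyFunctor _ _ n).mapIso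
        ((NatIso.mapHomologicalComplex (tensorIso A S) (ComplexShape.down ℕ)).app P.complex) ≪≫
      ((cx A S P).sc n).mapHomologyIso F
  let l := e.toLinearEquiv
  exact ⟨{ toFun := fun x => l x, map_add' := fun x y => map_add l x y, map_smul' := fun a x => map_smul l a x },
    l.bijective⟩

variable (Q : Type u) [CommRing Q] [Algebra S Q] [Algebra A Q] [IsScalarTower A S Q]

/-- Base change in two steps. -/
noncomputable def stepIso : TorBaseChange.G A S ⋙ TorBaseChange.G S Q ≅ TorBaseChange.G A Q :=
  NatIso.ofComponents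
    (fun X => (TensorProduct.AlgebraTensorModule.cancelBaseChange A S Q Q X).toModuleIso)
    (fun {X Y} g => ModuleCat.hom_ext (LinearMap.ext fun (t : Q ⊗[S] (S ⊗[A] X)) => by
      show TensorProduct.AlgebraTensorModule.cancelBaseChange A S Q Q Y ((g.hom.baseChange S).baseChange Q t) =
        g.hom.baseChange Q (TensorProduct.AlgebraTensorModule.cancelBaseChange A S Q Q X t)
      induction t using TensorProduct.induction_on with
      | zero => simp only [map_zero]
      | add a b ha hb => simp only [map_add, ha, hb]
      | tmul q v =>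
        induction v using TensorProduct.induction_on with
        | zero => simp only [TensorProduct.tmul_zero, map_zero]
        | add a b ha hb => simp only [TensorProduct.tmul_add, map_add, ha, hb]
        | tmul s x => simp))

theorem preservesHomology [Module.Flat S Q] : (TorBaseChange.G S Q).PreservesHomology :=
  Functor.preservesHomology_of_map_exact _ fun T hT => by
    rw [ShortComplex.ShortExact.moduleCat_exact_iff_function_exact] at hT ⊢
    exact Module.Flat.lTensor_exact Q hT

theorem nonempty_homology_baseChange [Module.Flat S Q] {M : ModuleCat.{u} A} (P : ProjectiveResolution M) (n : ℕ) :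
    Nonempty ((Q ⊗[S] (cx A S P).homology n) ≃ₗ[Q] (cx A Q P).homology n) := by
  haveI := preservesHomology S Q
  exact ⟨((((cx A S P).sc n).mapHomologyIso (TorBaseChange.G S Q)).symm ≪≫
    (HomologicalComplex.homologyFunctor _ _ n).mapIso
      ((NatIso.mapHomologicalComplex (stepIso A S Q) (ComplexShape.down ℕ)).app P.complex)).toLinearEquiv⟩

end Homology

theorem length_semilinear {A B : Type u} [CommRing A] [CommRing B] [Algebra A B] {X Y : Type u} [AddCommGroup X]
    [Module A X] [AddCommGroup Y] [Module B Y] [Module A Y] [IsScalarTower A B Y] (φ : X →ₛₗ[algebraMap A B] Y)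
    (h : Function.Bijective φ) : Module.length A X = Module.length A Y :=
  (LinearEquiv.ofBijective (σ₁₂ := RingHom.id A)
    ({ toFun := φ
       map_add' := map_add φ
       map_smul' := fun a x => by rw [map_smulₛₗ, algebraMap_smul]; rfl } : X →ₗ[A] Y) h).length_eq

section Semilocal

variable {A S : Type u} [CommRing A] [CommRing S] [Algebra A S] {ι : Type*} [Fintype ι] (C : ι → Type u)
  [∀ i, CommRing (C i)] [∀ i, Algebra S (C i)] [∀ i, Algebra A (C i)] [∀ i, IsScalarTower A S (C i)]
  (m : ι → Ideal S) [∀ i, (m i).IsMaximal] [∀ i, IsLocalization.AtPrime (C i) (m i)]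
  (hinj : Function.Injective m) (hall : ∀ M : Ideal S, M.IsMaximal → ∃ i, m i = M)

omit [Fintype ι] [Algebra A S] [∀ i, Algebra A (C i)] [∀ i, IsScalarTower A S (C i)] in
theorem bijective_tmul_residue (i : ι) :
    Function.Bijective (TensorProduct.mk S (C i) (S ⧸ m i) 1) := by
  constructor
  · haveI : IsSimpleModule S (S ⧸ m i) := isSimpleModule_iff_isCoatom.2 (Ideal.isMaximal_def.1 inferInstance)
    refine (LinearMap.injective_or_eq_zero _).resolve_right fun h0 => ?_
    haveI := IsLocalization.AtPrime.isLocalRing (C i) (m i)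
    let r : S →ₗ[S] ResidueField (C i) := Algebra.linearMap S (ResidueField (C i))
    have hr : m i ≤ LinearMap.ker r := fun s hs => by
      show algebraMap S (ResidueField (C i)) s = 0
      rw [IsScalarTower.algebraMap_apply S (C i) (ResidueField (C i)), ResidueField.algebraMap_eq,
        residue_eq_zero_iff]
      exact (IsLocalization.AtPrime.to_map_mem_maximal_iff (C i) (m i) s).2 hs
    let L : C i ⊗[S] (S ⧸ m i) →ₗ[S] ResidueField (C i) :=
      TensorProduct.lift ((LinearMap.mul S (ResidueField (C i))).compl₁₂
        (IsScalarTower.toAlgHom S (C i) (ResidueField (C i))).toLinearMap (Submodule.liftQ _ r hr))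
    have h1 : L ((1 : C i) ⊗ₜ Ideal.Quotient.mk (m i) 1) = 1 := by
      show algebraMap (C i) (ResidueField (C i)) 1 * algebraMap S (ResidueField (C i)) 1 = 1
      rw [map_one, map_one, mul_one]
    rw [show (1 : C i) ⊗ₜ[S] Ideal.Quotient.mk (m i) 1 = 0 from LinearMap.congr_fun h0 _, map_zero] at h1
    exact zero_ne_one h1
  · intro t
    induction t using TensorProduct.induction_on with
    | zero => exact ⟨0, map_zero _⟩
    | add a b ha hb =>
      obtain ⟨v, rfl⟩ := ha
      obtain ⟨w, rfl⟩ := hb
      exact ⟨v + w, map_add _ _ _⟩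
    | tmul c v =>
      obtain ⟨⟨a, s⟩, has⟩ := IsLocalization.surj (m i).primeCompl c
      obtain ⟨d, w, hw, he⟩ := Ideal.IsMaximal.exists_inv (I := m i) inferInstance s.2
      refine ⟨(a * d) • v, ?_⟩
      have hv : v = ((s : S) * d) • v := by
        have hw0 : w • v = 0 := by
          obtain ⟨v, rfl⟩ := Ideal.Quotient.mk_surjective v
          rw [Algebra.smul_def, Ideal.Quotient.algebraMap_eq, Ideal.Quotient.eq_zero_iff_mem.2 hw, zero_mul]
        conv_lhs => rw [← one_smul S v, ← he, add_smul, hw0, add_zero, mul_comm]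
      conv_rhs => rw [hv]
      show (1 : C i) ⊗ₜ[S] ((a * d) • v) = c ⊗ₜ[S] (((s : S) * d) • v)
      rw [← TensorProduct.smul_tmul, ← TensorProduct.smul_tmul, Algebra.smul_def, Algebra.smul_def, mul_one, map_mul,
        map_mul, ← has]
      ring_nf

omit [Fintype ι] [Algebra A S] [∀ i, Algebra A (C i)] [∀ i, IsScalarTower A S (C i)] in
include hinj in
theorem subsingleton_tensor_residue {i j : ι} (h : j ≠ i) : Subsingleton (C j ⊗[S] (S ⧸ m i)) := by
  obtain ⟨t, hti, htj⟩ := SetLike.not_le_iff_exists.1 (fun hle : m i ≤ m j =>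
    h (hinj (Ideal.IsMaximal.eq_of_le inferInstance (Ideal.IsPrime.ne_top inferInstance) hle).symm))
  refine subsingleton_of_forall_eq 0 fun x => ?_
  induction x using TensorProduct.induction_on with
  | zero => rfl
  | add a b ha hb => rw [ha, hb, add_zero]
  | tmul c v =>
    obtain ⟨u, hu⟩ := (IsLocalization.AtPrime.isUnit_to_map_iff (C j) (m j) t).2 htj
    have hc : c = t • (((u⁻¹ : (C j)ˣ) : C j) * c) := by
      rw [Algebra.smul_def, ← hu, ← mul_assoc, Units.mul_inv, one_mul]
    rw [hc, TensorProduct.smul_tmul]
    obtain ⟨v, rfl⟩ := Ideal.Quotient.mk_surjective v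
    rw [Algebra.smul_def, Ideal.Quotient.algebraMap_eq, Ideal.Quotient.eq_zero_iff_mem.2 hti, zero_mul,
      TensorProduct.tmul_zero]

include hinj hall in
/-- A module of finite length is the sum of its localisations at the maximal ideals. -/
theorem length_eq_sum (T : Type u) [AddCommGroup T] [Module S T] (hT : IsFiniteLength S T) :
    ∀ [Module A T] [IsScalarTower A S T], Module.length A T = ∑ i, Module.length A (C i ⊗[S] T) := by
  induction hT with
  | of_subsingleton =>
    intro _ _
    rw [Module.length_eq_zero, Finset.sum_eq_zero fun i _ => Module.length_eq_zero]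
  | @of_simple_quotient M _ _ N hsimp _ ih =>
    intro _ _
    classical
    haveI := hsimp
    let fA : N →ₗ[A] M := N.subtype.restrictScalars A
    let gA : M →ₗ[A] M ⧸ N := N.mkQ.restrictScalars A
    rw [Module.length_eq_add_of_exact fA gA Subtype.val_injective N.mkQ_surjective
      (LinearMap.exact_subtype_mkQ N), ih]
    have hsum : ∀ i, Module.length A (C i ⊗[S] M) =
        Module.length A (C i ⊗[S] N) + Module.length A (C i ⊗[S] (M ⧸ N)) := fun i => by
      haveI : Module.Flat S (C i) := IsLocalization.flat (C i) (m i).primeCompl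
      exact Module.length_eq_add_of_exact ((N.subtype.lTensor (C i)).restrictScalars A)
        ((N.mkQ.lTensor (C i)).restrictScalars A)
        (Module.Flat.lTensor_preserves_injective_linearMap _ Subtype.val_injective)
        (LinearMap.lTensor_surjective _ N.mkQ_surjective)
        (Module.Flat.lTensor_exact (C i) (LinearMap.exact_subtype_mkQ N))
    simp only [hsum, Finset.sum_add_distrib]
    congr 1
    obtain ⟨M', hM', ⟨e⟩⟩ := isSimpleModule_iff_quot_maximal.1 hsimp
    obtain ⟨i, rfl⟩ := hall M' hM'
    let e' : ∀ j, C j ⊗[S] (M ⧸ N) ≃ₗ[A] C j ⊗[S] (S ⧸ m i) := fun j => (e.lTensor (C j)).restrictScalars A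
    rw [Finset.sum_eq_single i (fun j _ hj => ?_) fun h => absurd (Finset.mem_univ i) h, (e' i).length_eq,
      (e.restrictScalars A).length_eq]
    · exact (LinearEquiv.ofBijective ((TensorProduct.mk S (C i) (S ⧸ m i) 1).restrictScalars A)
        (bijective_tmul_residue C m i)).length_eq
    · haveI := subsingleton_tensor_residue C m hinj hj
      rw [(e' j).length_eq, Module.length_eq_zero]

end Semilocal

section Chi

variable {A S : Type u} [CommRing A] [IsRegularLocalRing A] [CommRing S] [Algebra A S] [Module.Finite A S]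
  {ι : Type*} [Fintype ι] (B C : ι → Type u) [∀ i, CommRing (B i)] [∀ i, IsLocalRing (B i)]
  [∀ i, Algebra A (B i)] [∀ i, Module.Flat A (B i)] [∀ i, IsLocalHom (algebraMap A (B i))]
  [∀ i, CommRing (C i)] [∀ i, Algebra S (C i)] [∀ i, Algebra A (C i)] [∀ i, IsScalarTower A S (C i)]
  [∀ i, Algebra (B i) (C i)] [∀ i, IsScalarTower A (B i) (C i)]
  (m : ι → Ideal S) [∀ i, (m i).IsMaximal] [∀ i, IsLocalization.AtPrime (C i) (m i)]
  (hinj : Function.Injective m) (hall : ∀ M : Ideal S, M.IsMaximal → ∃ i, m i = M)

include hinj hall in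
/-- The length of `Tor` against a semilocal finite algebra. -/
theorem length_tor (M : Type u) [AddCommGroup M] [Module A M] [Module.Finite A M]
    (h : ChiAdd.Meet (A := A) M S) (n : ℕ) :
    Module.length A (DRing.Tor A n M S) =
      ∑ i, Module.length (B i) (DRing.Tor (B i) n (B i ⊗[A] M) (C i)) *
        Module.length (ResidueField A) (ResidueField (B i)) := by
  let P : ProjectiveResolution (ModuleCat.of A M) := ProjectiveResolution.of _
  let T : Type u := (cx A S P).homology n
  letI : Module A T := Module.compHom T (algebraMap A S)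
  haveI : IsScalarTower A S T := IsScalarTower.of_algebraMap_smul fun _ _ => rfl
  obtain ⟨φ, hφ⟩ := exists_semilinear A S P n
  have hlen : Module.length A (DRing.Tor A n M S) = Module.length A T := length_semilinear φ hφ
  have hfl : IsFiniteLength A T := Module.length_ne_top_iff.1 (hlen ▸
    Module.length_ne_top_iff.2 (ChiAdd.isFiniteLength_tor h n))
  have hflS : IsFiniteLength S T := by
    rw [isFiniteLength_iff_isNoetherian_isArtinian] at hfl ⊢
    exact ⟨isNoetherian_of_tower A hfl.1, isArtinian_of_tower A hfl.2⟩
  rw [hlen, length_eq_sum C m hinj hall T hflS]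
  refine Finset.sum_congr rfl fun i _ => ?_
  haveI : Module.Flat S (C i) := IsLocalization.flat (C i) (m i).primeCompl
  obtain ⟨e⟩ := nonempty_homology_baseChange A S (C i) P n
  let U : Type u := (cx A (C i) P).homology n
  letI : Module A U := Module.compHom U (algebraMap A (C i))
  haveI : IsScalarTower A (C i) U := IsScalarTower.of_algebraMap_smul fun _ _ => rfl
  obtain ⟨ψ, hψ⟩ := exists_semilinear A (C i) P n
  have hP : ∀ q : ℕ, 0 < q → Subsingleton (((Tor (ModuleCat.{u} A) q).obj (ModuleCat.of A M)).obj
      (ModuleCat.of A (B i))) := fun q hq => (S3527.result A (B i) M q hq).2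
  obtain ⟨χ, hχ⟩ := TorBaseChange.exists_semilinear A (B i) (C i) M hP n
  let W : Type u := DRing.Tor (B i) n (B i ⊗[A] M) (C i)
  letI : Module A W := Module.compHom W (algebraMap A (B i))
  haveI : IsScalarTower A (B i) W := IsScalarTower.of_algebraMap_smul fun _ _ => rfl
  calc Module.length A (C i ⊗[S] T) = Module.length A U := (e.restrictScalars A).length_eq
    _ = Module.length A (DRing.Tor A n M (C i)) := (length_semilinear ψ hψ).symm
    _ = Module.length A W := length_semilinear χ hχ
    _ = _ := IsLocalRing.length_restrictScalars A (B i) W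

include hinj hall in
/-- The Euler characteristic against a semilocal finite algebra. -/
theorem chi_eq_sum (M : Type u) [AddCommGroup M] [Module A M] [Module.Finite A M]
    (h : ChiAdd.Meet (A := A) M S) :
    IntMult.chi A M S = ∑ i, ((Module.length (ResidueField A) (ResidueField (B i))).toNat : ℤ) *
      IntMult.chi (B i) (B i ⊗[A] M) (C i) := by
  obtain ⟨d, hd⟩ : ∃ d : ℕ, ringKrullDim A = d :=
    ⟨(maximalIdeal A).spanFinrank, IsRegularLocalRing.spanFinrank_maximalIdeal.symm⟩
  let k : ι → ℕ := fun i => (Module.length (ResidueField A) (ResidueField (B i))).toNat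
  let t : ι → ℕ → ℕ := fun i n => (Module.length (B i) (DRing.Tor (B i) n (B i ⊗[A] M) (C i))).toNat
  have hn : ∀ n, (Module.length A (DRing.Tor A n M S)).toNat = ∑ i, t i n * k i := fun n => by
    have hne : Module.length A (DRing.Tor A n M S) ≠ ⊤ :=
      Module.length_ne_top_iff.2 (ChiAdd.isFiniteLength_tor h n)
    rw [length_tor B C m hinj hall M h n] at hne ⊢
    rw [ENat.toNat_sum fun i _ => fun e => hne (WithTop.sum_eq_top.2 ⟨i, Finset.mem_univ i, e⟩)]
    exact Finset.sum_congr rfl fun i _ => ENat.toNat_mul _ _
  have hvan : ∀ n, d < n → ∀ i, t i n * k i = 0 := fun n hn' i => by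
    haveI := ChiAdd.subsingleton_tor_of_lt hd M S hn'
    have h0 := hn n
    rw [Module.length_eq_zero, ENat.toNat_zero] at h0
    exact Finset.sum_eq_zero_iff.1 h0.symm i (Finset.mem_univ i)
  have hA : IntMult.chi A M S = ∑ n ∈ Finset.range (d + 1), (-1 : ℤ) ^ n * ∑ i, ((t i n * k i : ℕ) : ℤ) := by
    rw [IntMult.chi, finsum_eq_finsetSum_of_support_subset _ (s := Finset.range (d + 1)) fun n hn' => ?_]
    · exact Finset.sum_congr rfl fun n _ => by rw [hn]; push_cast; rfl
    · by_contra hc
      rw [Finset.coe_range, Set.mem_Iio] at hc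
      haveI := ChiAdd.subsingleton_tor_of_lt hd M S (show d < n by omega)
      refine hn' ?_
      show (-1 : ℤ) ^ n * _ = 0
      rw [Module.length_eq_zero]
      simp
  have hB : ∀ i, (k i : ℤ) * IntMult.chi (B i) (B i ⊗[A] M) (C i) =
      ∑ n ∈ Finset.range (d + 1), (-1 : ℤ) ^ n * ((t i n * k i : ℕ) : ℤ) := fun i => by
    rw [IntMult.chi, mul_finsum, finsum_eq_finsetSum_of_support_subset _ (s := Finset.range (d + 1)) fun n hn' => ?_]
    · exact Finset.sum_congr rfl fun n _ => by push_cast; ring
    · by_contra hc
      rw [Finset.coe_range, Set.mem_Iio] at hc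
      refine hn' ?_
      show (k i : ℤ) * ((-1 : ℤ) ^ n * (t i n : ℤ)) = 0
      rw [mul_left_comm, ← Nat.cast_mul, mul_comm (k i), hvan n (by omega) i, Nat.cast_zero, mul_zero]
  rw [hA]
  simp only [Finset.mul_sum]
  rw [Finset.sum_comm]
  exact Finset.sum_congr rfl fun i _ => (hB i).symm

end Chi

end Groth.Agent.H23.SemiLocTor
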