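import Groth.Agent.H23.SepCrit
import Mathlib.AlgebraicGeometry.Morphisms.Affine
import Mathlib.AlgebraicGeometry.Morphisms.ClosedImmersion
import Mathlib.AlgebraicGeometry.Morphisms.Immersion
import Mathlib.Algebra.Category.Ring.Limits

/-!
# Separatedness via affine intersections
-/

open AlgebraicGeometry CategoryTheory CategoryTheory.Limits

universe u v

namespace Groth.Agent.H23.SepAffine

variable {X Y : Scheme.{u}} (f : X ⟶ Y) (U V : X.Opens)

/-- The canonical map `U ⊓ V ⟶ U ×_Y V`. -/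
noncomputable def cmp : (↑(U ⊓ V) : Scheme.{u}) ⟶ pullback (U.ι ≫ f) (V.ι ≫ f) :=
  pullback.lift (X.homOfLE inf_le_left) (X.homOfLE inf_le_right)
    (by rw [Scheme.homOfLE_ι_assoc, Scheme.homOfLE_ι_assoc])

/-- The open immersion `U ×_Y V ⟶ X ×_Y X`. -/
noncomputable def incl : pullback (U.ι ≫ f) (V.ι ≫ f) ⟶ pullback.diagonalObj f :=
  pullback.map (U.ι ≫ f) (V.ι ≫ f) f f U.ι V.ι (𝟙 _) (by simp) (by simp)

theorem cmp_incl : cmp f U V ≫ incl f U V = (U ⊓ V).ι ≫ pullback.diagonal f := by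
  apply pullback.hom_ext
  · rw [incl, pullback.map, Category.assoc, Category.assoc, pullback.lift_fst,
      pullback.diagonal_fst, Category.comp_id, cmp, pullback.lift_fst_assoc, Scheme.homOfLE_ι]
  · rw [incl, pullback.map, Category.assoc, Category.assoc, pullback.lift_snd,
      pullback.diagonal_snd, Category.comp_id, cmp, pullback.lift_snd_assoc, Scheme.homOfLE_ι]

theorem range_cmp :
    Set.range (cmp f U V) = incl f U V ⁻¹' Set.range (pullback.diagonal f) := by
  ext w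
  constructor
  · rintro ⟨a, rfl⟩
    exact ⟨(U ⊓ V).ι a, by rw [← Scheme.Hom.comp_apply, ← cmp_incl, Scheme.Hom.comp_apply]⟩
  · rintro ⟨a, ha⟩
    have h1 : incl f U V ≫ pullback.fst f f = pullback.fst _ _ ≫ U.ι := pullback.lift_fst _ _ _
    have h2 : incl f U V ≫ pullback.snd f f = pullback.snd _ _ ≫ V.ι := pullback.lift_snd _ _ _
    have ha1 : a = U.ι (pullback.fst (U.ι ≫ f) (V.ι ≫ f) w) := by
      rw [← Scheme.Hom.comp_apply, ← h1, Scheme.Hom.comp_apply, ← ha, ← Scheme.Hom.comp_apply,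
        pullback.diagonal_fst]
      rfl
    have ha2 : a = V.ι (pullback.snd (U.ι ≫ f) (V.ι ≫ f) w) := by
      rw [← Scheme.Hom.comp_apply, ← h2, Scheme.Hom.comp_apply, ← ha, ← Scheme.Hom.comp_apply,
        pullback.diagonal_snd]
      rfl
    have hu : a ∈ (U : Set X) := by
      rw [← Scheme.Opens.range_ι]; exact ⟨_, ha1.symm⟩
    have hv : a ∈ (V : Set X) := by
      rw [← Scheme.Opens.range_ι]; exact ⟨_, ha2.symm⟩
    obtain ⟨a', rfl⟩ : a ∈ Set.range (U ⊓ V).ι := by
      rw [Scheme.Opens.range_ι]; exact ⟨hu, hv⟩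
    haveI : IsOpenImmersion (incl f U V) := by unfold incl; infer_instance
    refine ⟨a', (incl f U V).isOpenEmbedding.injective ?_⟩
    rw [← Scheme.Hom.comp_apply, cmp_incl, Scheme.Hom.comp_apply, ha]

theorem isImmersion_cmp : IsImmersion (cmp f U V) := by
  haveI : IsImmersion (cmp f U V ≫ pullback.fst (U.ι ≫ f) (V.ι ≫ f)) := by
    rw [cmp, pullback.lift_fst]; infer_instance
  exact IsImmersion.of_comp _ (pullback.fst (U.ι ≫ f) (V.ι ≫ f))

/-- The section rings of the opens, inside that of their intersection. -/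
noncomputable def gens : Set Γ(X, U ⊓ V) :=
  Set.range (X.presheaf.map (homOfLE (inf_le_left : U ⊓ V ≤ U)).op).hom ∪
    Set.range (X.presheaf.map (homOfLE (inf_le_right : U ⊓ V ≤ V)).op).hom

theorem homOfLE_appTop {W W' : X.Opens} (h : W ≤ W') :
    (X.homOfLE h).appTop ≫ W.topIso.hom = W'.topIso.hom ≫ X.presheaf.map (homOfLE h).op := by
  rw [Scheme.Hom.appTop, Scheme.homOfLE_app, Scheme.Opens.topIso_hom, Scheme.Opens.topIso_hom,
]
  erw [← Functor.map_comp, ← Functor.map_comp]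
  rfl

variable [IsAffine Y]

theorem generated_of_pullback {U V : X.Opens} (hU : IsAffineOpen U) (hV : IsAffineOpen V) :
    Subring.closure (Set.range (pullback.fst (U.ι ≫ f) (V.ι ≫ f)).appTop.hom ∪
      Set.range (pullback.snd (U.ι ≫ f) (V.ι ≫ f)).appTop.hom) = ⊤ := by
  haveI : IsAffine (U : Scheme.{u}) := hU
  haveI : IsAffine (V : Scheme.{u}) := hV
  have h := isPushout_appTop_of_isPullback (IsPullback.of_hasPullback (U.ι ≫ f) (V.ι ≫ f))
  set S := Subring.closure (Set.range (pullback.fst (U.ι ≫ f) (V.ι ≫ f)).appTop.hom ∪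
      Set.range (pullback.snd (U.ι ≫ f) (V.ι ≫ f)).appTop.hom) with hS
  let inS : CommRingCat.of S ⟶ Γ(pullback (U.ι ≫ f) (V.ι ≫ f), ⊤) := CommRingCat.ofHom S.subtype
  let a : Γ(U, ⊤) ⟶ CommRingCat.of S := CommRingCat.ofHom
    ((pullback.fst (U.ι ≫ f) (V.ι ≫ f)).appTop.hom.codRestrict S fun x =>
      Subring.subset_closure (Or.inl ⟨x, rfl⟩))
  let b : Γ(V, ⊤) ⟶ CommRingCat.of S := CommRingCat.ofHom
    ((pullback.snd (U.ι ≫ f) (V.ι ≫ f)).appTop.hom.codRestrict S fun x =>
      Subring.subset_closure (Or.inr ⟨x, rfl⟩))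
  have ha : a ≫ inS = (pullback.fst (U.ι ≫ f) (V.ι ≫ f)).appTop := by ext x; rfl
  have hb : b ≫ inS = (pullback.snd (U.ι ≫ f) (V.ι ≫ f)).appTop := by ext x; rfl
  have hmono : Mono inS := ConcreteCategory.mono_of_injective _ Subtype.val_injective
  have hw : (U.ι ≫ f).appTop ≫ a = (V.ι ≫ f).appTop ≫ b := by
    rw [← cancel_mono inS, Category.assoc, Category.assoc, ha, hb]
    exact h.w
  have key : h.desc a b hw ≫ inS = 𝟙 _ := by
    apply h.hom_ext
    · rw [h.inl_desc_assoc, ha]; simp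
    · rw [h.inr_desc_assoc, hb]; simp
  refine eq_top_iff.2 fun x _ => ?_
  have : x = ((h.desc a b hw x : S) : Γ(pullback (U.ι ≫ f) (V.ι ≫ f), ⊤)) :=
    (congrArg (fun φ : Γ(pullback (U.ι ≫ f) (V.ι ≫ f), ⊤) ⟶
      Γ(pullback (U.ι ≫ f) (V.ι ≫ f), ⊤) => φ x) key).symm
  rw [this]
  exact SetLike.coe_mem _

omit [IsAffine Y] in
theorem map_gens :
    ((cmp f U V).appTop ≫ (U ⊓ V).topIso.hom).hom ''
        (Set.range (pullback.fst (U.ι ≫ f) (V.ι ≫ f)).appTop.hom ∪
          Set.range (pullback.snd (U.ι ≫ f) (V.ι ≫ f)).appTop.hom) = gens U V := by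
  have e1 : (pullback.fst (U.ι ≫ f) (V.ι ≫ f)).appTop ≫ (cmp f U V).appTop ≫ (U ⊓ V).topIso.hom =
      U.topIso.hom ≫ X.presheaf.map (homOfLE (inf_le_left : U ⊓ V ≤ U)).op := by
    rw [← Scheme.Hom.comp_appTop_assoc, cmp, pullback.lift_fst, homOfLE_appTop]
  have e2 : (pullback.snd (U.ι ≫ f) (V.ι ≫ f)).appTop ≫ (cmp f U V).appTop ≫ (U ⊓ V).topIso.hom =
      V.topIso.hom ≫ X.presheaf.map (homOfLE (inf_le_right : U ⊓ V ≤ V)).op := by
    rw [← Scheme.Hom.comp_appTop_assoc, cmp, pullback.lift_snd, homOfLE_appTop]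
  have s1 : Function.Surjective U.topIso.hom.hom :=
    (ConcreteCategory.bijective_of_isIso U.topIso.hom).2
  have s2 : Function.Surjective V.topIso.hom.hom :=
    (ConcreteCategory.bijective_of_isIso V.topIso.hom).2
  rw [Set.image_union, ← Set.range_comp, ← Set.range_comp, ← RingHom.coe_comp, ← RingHom.coe_comp,
    ← CommRingCat.hom_comp, ← CommRingCat.hom_comp, e1, e2, CommRingCat.hom_comp,
    CommRingCat.hom_comp, RingHom.coe_comp, RingHom.coe_comp, s1.range_comp, s2.range_comp]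
  rfl

theorem isClosedImmersion_cmp_iff {U V : X.Opens} (hU : IsAffineOpen U) (hV : IsAffineOpen V) :
    IsClosedImmersion (cmp f U V) ↔
      IsAffineOpen (U ⊓ V) ∧ Subring.closure (gens U V) = ⊤ := by
  haveI : IsAffine (U : Scheme.{u}) := hU
  haveI : IsAffine (V : Scheme.{u}) := hV
  haveI : IsAffineHom (V.ι ≫ f) := inferInstance
  haveI : IsAffine (pullback (U.ι ≫ f) (V.ι ≫ f)) := inferInstance
  rw [← map_gens f U V, ← RingHom.map_closure, generated_of_pullback f hU hV,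
    ← RingHom.range_eq_map, RingHom.range_eq_top, CommRingCat.hom_comp, RingHom.coe_comp]
  have hbij : Function.Bijective (U ⊓ V).topIso.hom.hom :=
    ConcreteCategory.bijective_of_isIso (U ⊓ V).topIso.hom
  constructor
  · intro h
    obtain ⟨h1, h2⟩ := IsClosedImmersion.isAffine_surjective_of_isAffine (cmp f U V)
    exact ⟨h1, hbij.2.comp h2⟩
  · rintro ⟨h1, h2⟩
    haveI : IsAffine (↑(U ⊓ V) : Scheme.{u}) := h1
    refine IsClosedImmersion.of_surjective_of_isAffine _ fun y => ?_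
    obtain ⟨x, hx⟩ := h2 ((U ⊓ V).topIso.hom.hom y)
    exact ⟨x, hbij.1 hx⟩

theorem isSeparated_iff {ι : Type v} (U : ι → X.Opens) (hU : ∀ i, IsAffineOpen (U i))
    (hcov : ⨆ i, U i = ⊤) :
    IsSeparated f ↔
      ∀ i j, IsAffineOpen (U i ⊓ U j) ∧ Subring.closure (gens (U i) (U j)) = ⊤ := by
  constructor
  · intro hf i j
    refine (isClosedImmersion_cmp_iff f (hU i) (hU j)).1 ?_
    haveI := isImmersion_cmp f (U i) (U j)
    refine .of_isPreimmersion _ ?_
    rw [range_cmp]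
    exact (pullback.diagonal f).isClosedEmbedding.isClosed_range.preimage (incl f _ _).continuous
  · intro h
    refine SepCrit.isSeparated_of_isClosed_range f
      (isOpen_compl_iff.mp (isOpen_iff_forall_mem_open.2 fun z hz => ?_))
    obtain ⟨i, hi⟩ := TopologicalSpace.Opens.mem_iSup.1
      (hcov.ge (trivial : pullback.fst f f z ∈ (⊤ : X.Opens)))
    obtain ⟨j, hj⟩ := TopologicalSpace.Opens.mem_iSup.1
      (hcov.ge (trivial : pullback.snd f f z ∈ (⊤ : X.Opens)))
    haveI : IsOpenImmersion (incl f (U i) (U j)) := by unfold incl; infer_instance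
    haveI := (isClosedImmersion_cmp_iff f (hU i) (hU j)).2 (h i j)
    obtain ⟨w, rfl⟩ : z ∈ Set.range (incl f (U i) (U j)) := by
      rw [incl, Scheme.Pullback.range_map]
      simp only [Set.mem_inter_iff, Set.mem_preimage, Scheme.Opens.range_ι, SetLike.mem_coe]
      exact ⟨hi, hj⟩
    refine ⟨incl f (U i) (U j) '' (Set.range (cmp f (U i) (U j)))ᶜ, ?_,
      (incl f (U i) (U j)).isOpenEmbedding.isOpenMap _
        (cmp f (U i) (U j)).isClosedEmbedding.isClosed_range.isOpen_compl, w, ?_, rfl⟩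
    · rintro _ ⟨w', hw', rfl⟩ hr
      rw [range_cmp] at hw'
      exact hw' hr
    · rw [range_cmp]; exact hz

end Groth.Agent.H23.SepAffine
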