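import Groth.Agent.H23.SpGysin
import Groth.Agent.H23.CapSheaf
import Groth.Agent.FlatDvr.FibreStalk
import Groth.Prelude.Def_FlatMod2

/-! Specialisation of the cycle of a flat sheaf. -/

set_option autoImplicit false
set_option linter.style.haveILetI false

universe u

open AlgebraicGeometry CategoryTheory IsLocalRing
open scoped Pointwise TensorProduct

namespace Groth.Agent.H23.SpGysin

open Groth.Agent RatSec C1Desc StalkPrimes CDiv6

variable {R : Type u} [CommRing R] [IsDomain R] [IsDiscreteValuationRing R] {X : Scheme.{u}} (a : X ⟶ B R)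

theorem isDomain_stalk (y : B R) : IsDomain ((B R).presheaf.stalk y) :=
  letI : Algebra R ((B R).presheaf.stalk y) := StructureSheaf.stalkAlgebra R y
  haveI : IsLocalization.AtPrime ((B R).presheaf.stalk y) (PrimeSpectrum.asIdeal (R := R) y) :=
    StructureSheaf.IsLocalization.to_stalk (CommRingCat.of R) y
  IsLocalization.isDomain_of_atPrime ((B R).presheaf.stalk y) (PrimeSpectrum.asIdeal (R := R) y)

theorem maximalIdeal_stalk_η : maximalIdeal ((B R).presheaf.stalk (η R)) = ⊥ := by
  letI : Algebra R ((B R).presheaf.stalk (η R)) := StructureSheaf.stalkAlgebra R (η R)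
  haveI : IsLocalization.AtPrime ((B R).presheaf.stalk (η R)) (PrimeSpectrum.asIdeal (R := R) (η R)) :=
    StructureSheaf.IsLocalization.to_stalk (CommRingCat.of R) (η R)
  refine (IsLocalization.AtPrime.map_eq_maximalIdeal (PrimeSpectrum.asIdeal (R := R) (η R))
    ((B R).presheaf.stalk (η R))).symm.trans ?_
  rw [η_asIdeal]
  exact Ideal.map_bot

theorem unif_germ_ne_zero (y : B R) : (B R).presheaf.germ ⊤ y trivial (unif R) ≠ 0 := by
  letI : Algebra R ((B R).presheaf.stalk y) := StructureSheaf.stalkAlgebra R y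
  haveI : IsLocalization.AtPrime ((B R).presheaf.stalk y) (PrimeSpectrum.asIdeal (R := R) y) :=
    StructureSheaf.IsLocalization.to_stalk (CommRingCat.of R) y
  rw [unif_germ]
  exact fun h => (IsDiscreteValuationRing.exists_irreducible R).choose_spec.ne_zero
    ((injective_iff_map_eq_zero _).1 (IsLocalization.injective ((B R).presheaf.stalk y)
      (PrimeSpectrum.asIdeal (R := R) y).primeCompl_le_nonZeroDivisors) _ h)

theorem injective_smul_of_flat {A M : Type u} [CommRing A] [IsDomain A] [AddCommGroup M] [Module A M]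
    [Module.Flat A M] {r : A} (hr : r ≠ 0) : Function.Injective fun m : M => r • m := by
  have h := Module.Flat.rTensor_preserves_injective_linearMap (M := M) (LinearMap.lsmul A A r)
    (fun b c h => mul_left_cancel₀ hr h)
  intro b c hbc
  apply (TensorProduct.lid A M).symm.injective
  refine h ?_
  simp only [TensorProduct.lid_symm_apply, LinearMap.rTensor_tmul, LinearMap.lsmul_apply, smul_eq_mul, mul_one]
  rw [show r = r • (1 : A) by rw [smul_eq_mul, mul_one], TensorProduct.smul_tmul, TensorProduct.smul_tmul,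
    show r • b = r • c from hbc]

theorem injective_πx {F : X.Modules} (hflat : FlatMod.IsFlatOver a F) (x : X) :
    Function.Injective fun m : F.presheaf.stalk x => πx a x • m := by
  letI := FlatMod.moduleStalkOver a F x
  haveI := isDomain_stalk (R := R) (a x)
  haveI : Module.Flat ((B R).presheaf.stalk (a x)) (F.presheaf.stalk x) := hflat x
  exact fun b c h => injective_smul_of_flat (A := (B R).presheaf.stalk (a x)) (unif_germ_ne_zero (a x)) h

variable [LocallyOfFiniteType a]

/-- A point of the support of a flat module has a generisation in the generic fibre. -/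
theorem exists_generic_point [IsLocallyNoetherian X] {F : X.Modules} (hF : Coh.IsCoh F)
    (hflat : FlatMod.IsFlatOver a F) {x : X} (hx : Nontrivial (F.presheaf.stalk x)) :
    ∃ ξ : X, ξ ⤳ x ∧ a ξ = η R ∧ Nontrivial (F.presheaf.stalk ξ) := by
  haveI := QCoh.finite_stalk_of_isFT hF.1 hF.2 x
  let M := F.presheaf.stalk x
  have hann : Module.annihilator (X.presheaf.stalk x) M ≤ maximalIdeal _ :=
    le_maximalIdeal fun h => not_subsingleton M (Module.annihilator_eq_top_iff.1 h)
  obtain ⟨q, hq, -⟩ := Ideal.exists_minimalPrimes_le hann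
  haveI := hq.1.1
  obtain ⟨ξ, hξ, e⟩ := exists_point q
  have hsupp : ∀ p : PrimeSpectrum (X.presheaf.stalk x), p ∈ Module.support (X.presheaf.stalk x) M ↔
      Module.annihilator (X.presheaf.stalk x) M ≤ p.asIdeal := fun p => by
    rw [Module.support_eq_zeroLocus]
    rfl
  have hm : primeOf hξ ∈ Module.support (X.presheaf.stalk x) M := (hsupp _).2 (e ▸ hq.1.2)
  refine ⟨ξ, hξ, (eq_η_or_eq_s R (a ξ)).resolve_right fun hs => ?_, not_subsingleton_iff_nontrivial.1 fun h => ?_⟩
  · have hmin : ∀ p ∈ Module.support (X.presheaf.stalk x) M, p ≤ primeOf hξ → p = primeOf hξ := fun p hp hle => by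
      refine le_antisymm hle ?_
      show (primeOf hξ).asIdeal ≤ p.asIdeal
      rw [e]
      exact hq.2 ⟨p.2, (hsupp p).1 hp⟩ (e ▸ hle)
    haveI := CapLocal.subsingleton_of_inj_mem (primeOf hξ) (M := M) (f := πx a x) ((mem_primeOf hξ _).2 fun hu => by
        rw [stalkSpecializes_πx a hξ] at hu
        exact hu.map (X.residue ξ).hom |>.ne_zero ((residue_πx_eq_zero_iff a ξ).2 hs))
      (injective_πx a hflat x) (CycLib.length_localized_ne_top_of_minimal (primeOf hξ) hmin)
    haveI := Module.mem_support_iff.1 hm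
    exact not_subsingleton (LocalizedModule (primeOf hξ).asIdeal.primeCompl M) ‹_›
  · haveI := Module.mem_support_iff.1 hm
    have := CapSheaf.length_stalk_eq hF.1 hξ
    rw [Module.length_eq_zero (M := F.presheaf.stalk ξ), Module.length_eq_zero_iff] at this
    exact not_subsingleton _ this

theorem ker_fiberι_s (x : ↥(a.fiber (s R))) :
    RingHom.ker ((a.fiberι (s R)).stalkMap x).hom = Ideal.span {πx a (a.fiberι (s R) x)} := by
  have key : ∀ y : B R, y = s R → maximalIdeal ((B R).presheaf.stalk y) =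
      Ideal.span {(B R).presheaf.germ ⊤ y trivial (unif R)} := fun y hy => by subst hy; exact maximalIdeal_stalk_s R
  rw [FlatDvr.ker_stalkMap_fiberι, key _ (FibDim.fiber_apply_fiberι a x), Ideal.map_span, Set.image_singleton]
  rfl

theorem length_fiber_η (F : X.Modules) (ζ : ↥(a.fiber (η R))) :
    Module.length ((a.fiber (η R)).presheaf.stalk ζ)
        (((Scheme.Modules.pullback (a.fiberι (η R))).obj F).presheaf.stalk ζ) =
      Module.length (X.presheaf.stalk (a.fiberι (η R) ζ)) (F.presheaf.stalk (a.fiberι (η R) ζ)) := by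
  have key : ∀ y : B R, y = η R → maximalIdeal ((B R).presheaf.stalk y) = ⊥ :=
    fun y hy => by subst hy; exact maximalIdeal_stalk_η
  rw [CapSheaf.length_stalk_pullback_closed (a.fiberι (η R)) F ζ (f := 0) (by
    rw [FlatDvr.ker_stalkMap_fiberι, key _ (FibDim.fiber_apply_fiberι a ζ), Ideal.map_bot, Ideal.span_singleton_zero])]
  exact (Submodule.quotEquivOfEqBot _ (by
    rw [← Submodule.ideal_span_singleton_smul, Ideal.span_singleton_zero, Submodule.bot_smul])).length_eq

theorem nontrivial_iff_length {A M : Type u} [CommRing A] [AddCommGroup M] [Module A M] :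
    Nontrivial M ↔ Module.length A M ≠ 0 := by
  rw [← not_subsingleton_iff_nontrivial, ne_eq, Module.length_eq_zero_iff]

/-- The specialisation of the cycle of a flat coherent sheaf. -/
theorem spFun_sheafFun [IsLocallyNoetherian X] {δη : ↥(a.fiber (η R)) → ℤ} {δs : ↥(a.fiber (s R)) → ℤ}
    (hη : Cyc.DeltaCompat (a.fiberToSpecResidueField (η R)) δη (fun _ => 0))
    (hs : Cyc.DeltaCompat (a.fiberToSpecResidueField (s R)) δs (fun _ => 0)) (r : ℤ) {F : X.Modules}
    (hF : Coh.IsCoh F) (hflat : FlatMod.IsFlatOver a F)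
    (hdim : ∀ ζ, Nontrivial (((Scheme.Modules.pullback (a.fiberι (η R))).obj F).presheaf.stalk ζ) → δη ζ ≤ r) :
    (∀ x : ↥(a.fiber (s R)), Nontrivial (((Scheme.Modules.pullback (a.fiberι (s R))).obj F).presheaf.stalk x) →
      δs x ≤ r) ∧ Cyc.spFun a (η R) (s R) δη δs r (Cyc.sheafFun δη r ((Scheme.Modules.pullback (a.fiberι (η R))).obj F)) =
        Cyc.sheafFun δs r ((Scheme.Modules.pullback (a.fiberι (s R))).obj F) := by
  classical
  have hX := isSetupT a
  have hxT : ∀ x, δT a (a.fiberι (s R) x) = δs x := fun x => by rw [δT_fiber a _ hs, δR_s, zero_add]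
  have hζT : ∀ ζ, δT a (a.fiberι (η R) ζ) = δη ζ + 1 := fun ζ => by rw [δT_fiber a _ hη, δR_η, add_comm]
  have hgen : ∀ ξ : X, a ξ = η R → Nontrivial (F.presheaf.stalk ξ) → δT a ξ ≤ r + 1 := fun ξ h hn => by
    obtain ⟨ζ, rfl⟩ : ξ ∈ Set.range (a.fiberι (η R)) := by rw [Scheme.Hom.range_fiberι]; exact h
    rw [hζT]
    have := hdim ζ (nontrivial_iff_length.2 (by rw [length_fiber_η]; exact nontrivial_iff_length.1 hn))
    omega
  have hall : ∀ ξ : X, Nontrivial (F.presheaf.stalk ξ) → δT a ξ ≤ r + 1 ∧ (a ξ = s R → δT a ξ ≤ r) := fun ξ hn => by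
    obtain ⟨z, hz, hza, hzn⟩ := exists_generic_point a hF hflat hn
    have h1 := hgen z hza hzn
    by_cases e : z = ξ
    · subst e
      exact ⟨h1, fun h => absurd (hza ▸ h) (η_ne_s R)⟩
    · have := CycLib.delta_lt hX.2.2 hz e
      exact ⟨by omega, fun _ => by omega⟩
  refine ⟨fun x hn => ?_, funext fun x => ?_⟩
  · have h2 : Nontrivial (F.presheaf.stalk (a.fiberι (s R) x)) := by
      rw [nontrivial_iff_length (A := (a.fiber (s R)).presheaf.stalk x),
        CapSheaf.length_stalk_pullback_closed _ F x (ker_fiberι_s a x)] at hn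
      refine not_subsingleton_iff_nontrivial.1 fun h => hn ?_
      rw [Module.length_eq_zero]
    have := (hall _ h2).2 (FibDim.fiber_apply_fiberι a x)
    rwa [hxT] at this
  rw [spFun_eq a hη hs, Cyc.sheafFun]
  by_cases hr : δs x = r
  swap
  · rw [if_neg hr]
    refine GysinLib.c1CapFun_degree (k := r + 1) _ (fun ξ hξ => ?_) (sec a) (by rw [hxT]; omega)
    by_cases h : ∃ ζ, a.fiberι (η R) ζ = ξ
    · obtain ⟨ζ, rfl⟩ := h
      rw [ext_apply, if_neg (fun e => hξ (by rw [hζT, e]))]
    · exact Function.extend_apply' _ _ _ h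
  rw [if_pos hr, CapSheaf.length_stalk_pullback_closed _ F x (ker_fiberι_s a x)]
  haveI := QCoh.finite_stalk_of_isFT hF.1 hF.2 (a.fiberι (s R) x)
  let G : Γ(X, ⊤) := (a.appTop).hom (unif R)
  have hG : ∀ y : X, (Coh.structureModule X).presheaf.germ ⊤ y trivial G = πx a y • one y := fun y => by
    have hπ : πx a y = X.presheaf.germ ⊤ y trivial G := Scheme.Hom.germ_stalkMap_apply a ⊤ y trivial (unif R)
    rw [hπ, one, ← QCoh.germ_smul']
    exact congrArg _ (mul_one G).symm
  let σ : (Coh.structureModule X).presheaf.obj (Opposite.op ⊤) := G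
  have hsec : ∀ ξ : X, a ξ = η R → sec a ξ = Cyc.gysinChoice (Coh.structureModule X) σ oneSec ξ := fun ξ h => by
    have hne : a ξ ≠ s R := h ▸ η_ne_s R
    have hc : cls (Coh.structureModule X) ξ ((Coh.structureModule X).presheaf.germ ⊤ ξ trivial σ) =
        πx a ξ • oneSec ξ := by rw [hG, cls_smul]; rfl
    rw [sec_eq a hne, ← hc]
    refine (if_pos fun h0 => ?_).symm
    exact (RatSec.residue_ne_zero (isGen_one ξ)).1 (fun e => hne ((residue_πx_eq_zero_iff a ξ).1 e))
      (hc.symm.trans h0)
  have key := CapLocal.c1CapFun_gysin_eq (x := a.fiberι (s R) x) (k := r) hX.2.2 InvX.isInvertible_structureModule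
    oneSec (s := σ) (α := fun ξ => if δT a ξ = r + 1 then
      ((Module.length (X.presheaf.stalk ξ) (F.presheaf.stalk ξ)).toNat : ℤ) else 0)
    (fun ξ h => if_neg h) (by rw [hxT, hr]) (isGen_one _).1 (hG _) (injective_πx a hflat _)
    (fun ξ h hm => by
      refine (hall ξ (not_subsingleton_iff_nontrivial.1 fun hsub => ?_)).1
      haveI := Module.mem_support_iff.1 hm
      have := CapSheaf.length_stalk_eq hF.1 h
      rw [Module.length_eq_zero (M := F.presheaf.stalk ξ), Module.length_eq_zero_iff] at this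
      exact not_subsingleton _ this)
    (fun ξ h hk => by rw [if_pos hk, CapSheaf.length_stalk_eq hF.1 h])
  rw [← key]
  refine finsum_congr fun ξ => ?_
  by_cases hξ : a ξ = η R
  · rw [hsec ξ hξ]
    obtain ⟨ζ, rfl⟩ : ξ ∈ Set.range (a.fiberι (η R)) := by rw [Scheme.Hom.range_fiberι]; exact hξ
    refine congrArg (· * _) ?_
    rw [ext_apply, Cyc.sheafFun]
    beta_reduce
    by_cases hz : δη ζ = r
    · rw [if_pos hz, if_pos hz, if_pos (by rw [hζT, hz]), length_fiber_η]
    · rw [if_neg hz, if_neg (by rw [hζT]; omega)]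
  · rw [ext_eq_zero a _ _ _ hξ, zero_mul]
    refine (mul_eq_zero_of_left ?_ _).symm
    have hs' := (eq_η_or_eq_s R (a ξ)).resolve_left hξ
    beta_reduce
    by_cases hk : δT a ξ = r + 1
    · rw [if_pos hk]
      haveI : Subsingleton (F.presheaf.stalk ξ) := not_nontrivial_iff_subsingleton.1 fun hn => by
        have := (hall ξ hn).2 hs'
        omega
      rw [Module.length_eq_zero]
      rfl
    · rw [if_neg hk]

end Groth.Agent.H23.SpGysin
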