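import Groth.Agent.H23.C1Desc
import Groth.Agent.H23.GysinComm
import Groth.Agent.H23.ChowDesc
import Groth.Agent.DimFormula.Fibre
import Groth.Agent.FlatLoc6.RegCM
import Groth.Agent.S0603

/-! Specialisation of cycles over a DVR as the cap with the divisor of a uniformiser. -/

set_option autoImplicit false
set_option linter.style.haveILetI false

universe u

open AlgebraicGeometry CategoryTheory IsLocalRing

namespace Groth.Agent.H23.SpGysin

open Groth.Agent RatSec C1Desc

variable (R : Type u) [CommRing R] [IsDomain R] [IsDiscreteValuationRing R]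

/-- The base. -/
noncomputable abbrev B : Scheme.{u} := Spec (CommRingCat.of R)

/-- The generic point. -/
noncomputable abbrev η : B R := genericPoint (B R)

/-- The closed point. -/
noncomputable abbrev s : B R := closedPoint R

/-- A uniformiser as a global function. -/
noncomputable def unif : Γ(B R, ⊤) :=
  (Scheme.ΓSpecIso (CommRingCat.of R)).inv (IsDiscreteValuationRing.exists_irreducible R).choose

theorem η_asIdeal : PrimeSpectrum.asIdeal (R := R) (η R) = ⊥ := by
  have h : η R = (⟨⊥, Ideal.isPrime_bot⟩ : PrimeSpectrum R) := by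
    refine (genericPoint_spec (B R)).eq ?_
    rw [isGenericPoint_def]
    refine (PrimeSpectrum.closure_singleton (⟨⊥, Ideal.isPrime_bot⟩ : PrimeSpectrum R)).trans ?_
    simp
    rfl
  rw [h]

theorem eq_η_or_eq_s (y : B R) : y = η R ∨ y = s R := by
  by_cases h : PrimeSpectrum.asIdeal (R := R) y = ⊥
  · exact Or.inl (PrimeSpectrum.ext (h.trans (η_asIdeal R).symm))
  · haveI := (PrimeSpectrum.isPrime (R := R) y).isMaximal h
    exact Or.inr (PrimeSpectrum.ext (IsLocalRing.eq_maximalIdeal ‹_›))

theorem η_ne_s : η R ≠ s R := fun h => IsDiscreteValuationRing.not_a_field R (by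
  have := η_asIdeal R
  rwa [h] at this)

/-- The dimension function of the base. -/
noncomputable def δR (y : B R) : ℤ :=
  haveI := Classical.propDecidable (y = η R)
  if y = η R then 1 else 0

theorem δR_η : δR R (η R) = 1 := by simp [δR]

theorem δR_s : δR R (s R) = 0 := if_neg fun h => η_ne_s R h.symm

theorem isSetup : Cyc.IsSetup (B R) (δR R) := by
  haveI : LocCoh.IsCohenMacaulayRing R := FlatLoc6.isCM_of_isRegularRing R
  refine ⟨inferInstance, fun y => ?_, fun a b hab hne => ?_⟩
  · letI : Algebra R ((B R).presheaf.stalk y) := StructureSheaf.stalkAlgebra R y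
    haveI : IsLocalization.AtPrime ((B R).presheaf.stalk y) (PrimeSpectrum.asIdeal (R := R) y) :=
      StructureSheaf.IsLocalization.to_stalk (CommRingCat.of R) y
    exact DimFormula.isUniversallyCatenary_localization (S0603.result R)
      (PrimeSpectrum.asIdeal (R := R) y).primeCompl _
  · rcases eq_η_or_eq_s R a with rfl | rfl <;> rcases eq_η_or_eq_s R b with rfl | rfl
    · exact absurd rfl hne
    · rw [δR_η, δR_s]
      refine ⟨by norm_num, fun _ => by norm_num⟩
    · exact absurd (hab.antisymm ((genericPoint_spec (B R)).specializes trivial)).eq hne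
    · exact absurd rfl hne

theorem unif_germ (y : B R) : (B R).presheaf.germ ⊤ y trivial (unif R) =
    @algebraMap R ((B R).presheaf.stalk y) _ _ (StructureSheaf.stalkAlgebra R y)
      (IsDiscreteValuationRing.exists_irreducible R).choose := rfl

theorem germ_mem_iff (y : B R) :
    (B R).presheaf.germ ⊤ y trivial (unif R) ∈ maximalIdeal ((B R).presheaf.stalk y) ↔ y = s R := by
  letI : Algebra R ((B R).presheaf.stalk y) := StructureSheaf.stalkAlgebra R y
  haveI : IsLocalization.AtPrime ((B R).presheaf.stalk y) (PrimeSpectrum.asIdeal (R := R) y) :=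
    StructureSheaf.IsLocalization.to_stalk (CommRingCat.of R) y
  have hπ := (IsDiscreteValuationRing.exists_irreducible R).choose_spec
  rw [unif_germ]
  refine (IsLocalization.AtPrime.to_map_mem_maximal_iff _ (PrimeSpectrum.asIdeal (R := R) y) _).trans ?_
  rcases eq_η_or_eq_s R y with rfl | rfl
  · rw [η_asIdeal, Ideal.mem_bot]
    exact iff_of_false hπ.ne_zero (η_ne_s R)
  · exact iff_of_true (by
      show _ ∈ maximalIdeal R
      rw [mem_maximalIdeal]
      exact hπ.not_isUnit) rfl

theorem maximalIdeal_stalk_s : maximalIdeal ((B R).presheaf.stalk (s R)) =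
    Ideal.span {(B R).presheaf.germ ⊤ (s R) trivial (unif R)} := by
  letI : Algebra R ((B R).presheaf.stalk (s R)) := StructureSheaf.stalkAlgebra R (s R)
  haveI : IsLocalization.AtPrime ((B R).presheaf.stalk (s R)) (maximalIdeal R) :=
    StructureSheaf.IsLocalization.to_stalk (CommRingCat.of R) (s R)
  rw [unif_germ]
  refine (IsLocalization.AtPrime.map_eq_maximalIdeal (maximalIdeal R) ((B R).presheaf.stalk (s R))).symm.trans ?_
  refine (congrArg _ (IsDiscreteValuationRing.irreducible_iff_uniformizer _ |>.1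
    (IsDiscreteValuationRing.exists_irreducible R).choose_spec)).trans ?_
  exact (Ideal.map_span _ _).trans (congrArg Ideal.span Set.image_singleton)

variable {R} {X : Scheme.{u}} (a : X ⟶ B R) [LocallyOfFiniteType a]

/-- The total dimension function. -/
noncomputable def δT (x : X) : ℤ := δR R (a x) + FibDim.rd a x

theorem deltaCompat : Cyc.DeltaCompat a (δT a) (δR R) := ChowDesc.deltaCompat_rd a _

theorem isSetupT : Cyc.IsSetup X (δT a) := SetupLFT.isSetup a (isSetup R) (deltaCompat a)

theorem δT_fiber (y : B R) {δy : ↥(a.fiber y) → ℤ}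
    (h : Cyc.DeltaCompat (a.fiberToSpecResidueField y) δy (fun _ => 0)) (ζ : ↥(a.fiber y)) :
    δT a (a.fiberι y ζ) = δR R y + δy ζ := by
  rw [δT, FibDim.fiber_apply_fiberι a ζ, ← DimFormula.rd_fiberToSpec a y ζ, CycLib.deltaCompat_eq _ h ζ, zero_add]

/-- The uniformiser at a point upstairs. -/
noncomputable def πx (x : X) : X.presheaf.stalk x :=
  (a.stalkMap x).hom ((B R).presheaf.germ ⊤ (a x) trivial (unif R))

theorem residue_πx_eq_zero_iff (x : X) : X.residue x (πx a x) = 0 ↔ a x = s R := by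
  rw [show (X.residue x (πx a x) = 0) ↔ πx a x ∈ maximalIdeal (X.presheaf.stalk x) from
    Ideal.Quotient.eq_zero_iff_mem, ← germ_mem_iff R (a x), mem_maximalIdeal, mem_maximalIdeal, mem_nonunits_iff,
    mem_nonunits_iff, not_iff_not]
  exact ⟨fun h => IsUnit.of_map (a.stalkMap x).hom _ h, fun h => h.map _⟩

theorem stalkSpecializes_πx {ξ x : X} (h : ξ ⤳ x) : (X.presheaf.stalkSpecializes h).hom (πx a x) = πx a ξ := by
  rw [πx, πx]
  show ((a.stalkMap x) ≫ X.presheaf.stalkSpecializes h).hom _ = _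
  rw [← Scheme.Hom.stalkSpecializes_stalkMap a ξ x h, CommRingCat.hom_comp, RingHom.comp_apply]
  exact congrArg (a.stalkMap ξ).hom (TopCat.Presheaf.germ_stalkSpecializes_apply _ _ _ _)

/-- The uniformiser as a rational section of the structure sheaf. -/
noncomputable def sec (x : X) : Cyc.secFibre (Coh.structureModule X) x :=
  haveI := Classical.propDecidable (X.residue x (πx a x) = 0)
  if X.residue x (πx a x) = 0 then oneSec x else πx a x • oneSec x

theorem sec_ne_zero (x : X) : sec a x ≠ 0 := by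
  rw [sec]
  split_ifs with h
  · exact oneSec_ne_zero x
  · exact (RatSec.residue_ne_zero (isGen_one x)).1 h

theorem sec_eq {x : X} (h : a x ≠ s R) : sec a x = πx a x • oneSec x :=
  if_neg fun h0 => h ((residue_πx_eq_zero_iff a x).1 h0)

theorem secDivFun_sec {x : X} (h : a x ≠ s R) :
    haveI := (isSetupT a).1
    Cyc.secDivFun (δT a) (Coh.structureModule X) x (sec a x) = Cyc.divFun (δT a) x (X.residue x (πx a x)) := by
  haveI := (isSetupT a).1
  rw [sec_eq a h]
  exact secDivFun_smul_one (isSetupT a).2.2 fun h0 => h ((residue_πx_eq_zero_iff a x).1 h0)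

/-- A function on the generic fibre on the total space. -/
noncomputable def ext (δη : ↥(a.fiber (η R)) → ℤ) (r : ℤ) (α : ↥(a.fiber (η R)) → ℤ) : X → ℤ :=
  Function.extend (a.fiberι (η R)) (fun ζ => if δη ζ = r then α ζ else 0) 0

theorem ext_apply (δη : ↥(a.fiber (η R)) → ℤ) (r : ℤ) (α : ↥(a.fiber (η R)) → ℤ) (ζ : ↥(a.fiber (η R))) :
    ext a δη r α (a.fiberι (η R) ζ) = if δη ζ = r then α ζ else 0 :=
  (a.fiberι (η R)).isEmbedding.injective.extend_apply _ _ _

theorem ext_eq_zero (δη : ↥(a.fiber (η R)) → ℤ) (r : ℤ) (α : ↥(a.fiber (η R)) → ℤ) {x : X}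
    (hx : a x ≠ η R) : ext a δη r α x = 0 :=
  Function.extend_apply' _ _ _ fun ⟨ζ, h⟩ => hx (h ▸ FibDim.fiber_apply_fiberι a ζ)

/-- Specialisation is the cap with the divisor of the uniformiser. -/
theorem spFun_eq {δη : ↥(a.fiber (η R)) → ℤ} {δs : ↥(a.fiber (s R)) → ℤ}
    (hη : Cyc.DeltaCompat (a.fiberToSpecResidueField (η R)) δη (fun _ => 0))
    (hs : Cyc.DeltaCompat (a.fiberToSpecResidueField (s R)) δs (fun _ => 0)) (r : ℤ)
    (α : ↥(a.fiber (η R)) → ℤ) (x : ↥(a.fiber (s R))) :
    Cyc.spFun a (η R) (s R) δη δs r α x =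
      Cyc.c1CapFun (δT a) (Coh.structureModule X) (ext a δη r α) (sec a) (a.fiberι (s R) x) := by
  classical
  have hX := isSetupT a
  haveI := hX.1
  have hxT : δT a (a.fiberι (s R) x) = δs x := by rw [δT_fiber a _ hs, δR_s, zero_add]
  have hζT : ∀ ζ, δT a (a.fiberι (η R) ζ) = δη ζ + 1 := fun ζ => by rw [δT_fiber a _ hη, δR_η, add_comm]
  have hαdeg : ∀ ξ, δT a ξ ≠ r + 1 → ext a δη r α ξ = 0 := fun ξ hξ => by
    by_cases h : ∃ ζ, a.fiberι (η R) ζ = ξ
    · obtain ⟨ζ, rfl⟩ := h
      rw [ext_apply, if_neg (fun e => hξ (by rw [hζT, e]))]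
    · exact Function.extend_apply' _ _ _ h
  by_cases hr : δs x = r
  swap
  · rw [Cyc.spFun, if_neg hr, GysinLib.c1CapFun_degree _ hαdeg (sec a) (by rw [hxT]; omega)]
  rw [Cyc.spFun, if_pos hr]
  let F : ↥(a.fiber (η R)) → ℤ := fun ζ => ext a δη r α (a.fiberι (η R) ζ) *
    Cyc.secDivFun (δT a) (Coh.structureModule X) (a.fiberι (η R) ζ) (sec a (a.fiberι (η R) ζ)) (a.fiberι (s R) x)
  have hR : Cyc.c1CapFun (δT a) (Coh.structureModule X) (ext a δη r α) (sec a) (a.fiberι (s R) x) = ∑ᶠ ζ, F ζ := by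
    refine Eq.trans ?_ (finsum_mem_range (a.fiberι (η R)).isEmbedding.injective
      (f := fun ξ => ext a δη r α ξ * Cyc.secDivFun (δT a) (Coh.structureModule X) ξ (sec a ξ) (a.fiberι (s R) x)))
    exact (finsum_mem_univ _).symm.trans (finsum_mem_inter_support_eq _ _ _ (by
      ext ξ
      simp only [Set.mem_inter_iff, Set.mem_univ, true_and, Function.mem_support, iff_and_self]
      intro h
      by_contra hn
      refine h (mul_eq_zero_of_left ?_ _)
      exact Function.extend_apply' _ _ _ hn))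
  have hF : Function.support F ⊆ {ζ | δη ζ = r ∧ a.fiberι (η R) ζ ⤳ a.fiberι (s R) x} := fun ζ hζ => by
    refine ⟨by_contra fun h => hζ (mul_eq_zero_of_left (by rw [ext_apply, if_neg h]) _), ?_⟩
    by_contra h
    exact hζ (mul_eq_zero_of_right _ (by simp [Cyc.secDivFun, h]))
  rw [hR, ← finsum_mem_univ (f := F), finsum_mem_inter_support_eq F Set.univ
      {ζ | δη ζ = r ∧ a.fiberι (η R) ζ ⤳ a.fiberι (s R) x}
      (by rw [Set.univ_inter, Set.inter_eq_right.2 hF]), ← finsum_set_coe_eq_finsum_mem]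
  refine finsum_congr fun ⟨ζ, hζr, hsp⟩ => ?_
  show _ = F ζ
  simp only [F]
  rw [ext_apply, if_pos hζr, secDivFun_sec a (by rw [FibDim.fiber_apply_fiberι]; exact η_ne_s R)]
  refine congrArg (α ζ * ·) ?_
  have hx1 : δT a (a.fiberι (s R) x) + 1 = δT a (a.fiberι (η R) ζ) := by rw [hxT, hζT, hr, hζr]
  have hspec : X.residue _ (πx a (a.fiberι (η R) ζ)) = algebraMap (Cyc.LocQuot (a.fiberι (s R) x) _ hsp)
      (X.residueField (a.fiberι (η R) ζ)) (Ideal.Quotient.mk _ (πx a (a.fiberι (s R) x))) := by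
    rw [← stalkSpecializes_πx a hsp]
    rfl
  have hne : (Ideal.Quotient.mk (RingHom.ker (Cyc.specMap _ _ hsp)) (πx a (a.fiberι (s R) x)) :
      Cyc.LocQuot (a.fiberι (s R) x) _ hsp) ≠ 0 := fun h0 => by
    have := hspec.trans (by rw [h0, map_zero])
    rw [residue_πx_eq_zero_iff, FibDim.fiber_apply_fiberι] at this
    exact η_ne_s R this
  rw [CycLib.divFun_eq _ _ hsp hx1, hspec, CycLib.ordAt_algebraMap hX.2.2 hsp hx1 hne]
  refine congrArg (fun n : ℕ∞ => (n.toNat : ℤ)) ?_
  rw [Ring.ord, ← Module.length_eq_of_surjective (S := X.presheaf.stalk (a.fiberι (s R) x))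
    (R := Cyc.LocQuot (a.fiberι (s R) x) _ hsp) (M := _) Ideal.Quotient.mk_surjective]
  have hm : (maximalIdeal ((B R).presheaf.stalk (a (a.fiberι (s R) x)))).map
      ((Ideal.Quotient.mk (RingHom.ker (Cyc.specMap (a.fiberι (s R) x) (a.fiberι (η R) ζ) hsp))).comp
        (a.stalkMap (a.fiberι (s R) x)).hom) = Ideal.span {Ideal.Quotient.mk _ (πx a (a.fiberι (s R) x))} := by
    have key : ∀ y : B R, y = s R → maximalIdeal ((B R).presheaf.stalk y) =
        Ideal.span {(B R).presheaf.germ ⊤ y trivial (unif R)} := fun y hy => by subst hy; exact maximalIdeal_stalk_s R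
    rw [key _ (FibDim.fiber_apply_fiberι a x), Ideal.map_span, Set.image_singleton]
    rfl
  rw [hm]

end Groth.Agent.H23.SpGysin
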