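import Groth.Prelude.Def_SymProd
import Groth.Agent.H23.AffineFinset
import Groth.Agent.SGA1Q.Properties

/-!
Affine charts of fibre powers and symmetric powers under the condition (AF).
-/

set_option autoImplicit false
set_option backward.isDefEq.respectTransparency false
set_option linter.style.haveILetI false

universe u

open CategoryTheory CategoryTheory.Limits AlgebraicGeometry TopologicalSpace

namespace Groth.Agent.H23.SymAF

open SymProd

variable {X S : Scheme.{u}} (f : X ⟶ S) (d : ℕ)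

theorem base_π (x : fibPow f d) (i : Fin d) :
    f.base ((WidePullback.π (fun _ : Fin d => f) i).base x) = (WidePullback.base (fun _ : Fin d => f)).base x := by
  rw [← WidePullback.π_arrow (fun _ : Fin d => f) i]
  rfl

/-- The open fibre power of an open subscheme. -/
noncomputable def pow (U : X.Opens) : (fibPow f d).Opens :=
  Finset.univ.inf fun i : Fin d => (WidePullback.π (fun _ : Fin d => f) i) ⁻¹ᵁ U

theorem mem_pow {U : X.Opens} {x : fibPow f d} :
    x ∈ pow f d U ↔ ∀ i, (WidePullback.π (fun _ : Fin d => f) i).base x ∈ U := by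
  have h : ∀ t : Finset (Fin d),
      x ∈ (t.inf fun i : Fin d => (WidePullback.π (fun _ : Fin d => f) i) ⁻¹ᵁ U) ↔
        ∀ i ∈ t, (WidePullback.π (fun _ : Fin d => f) i).base x ∈ U := by
    intro t
    induction t using Finset.induction_on with
    | empty => simp
    | @insert a t ha ih =>
      rw [Finset.inf_insert, Finset.forall_mem_insert, ← ih]
      exact Iff.rfl
  exact (h Finset.univ).trans (by simp)

theorem coe_pow (U : X.Opens) : (pow f d U : Set (fibPow f d)) =
    ⋂ i : Fin d, (WidePullback.π (fun _ : Fin d => f) i).base ⁻¹' (U : Set X) :=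
  Set.ext fun x => (mem_pow f d).trans (Set.mem_iInter (s := fun i =>
    (WidePullback.π (fun _ : Fin d => f) i).base ⁻¹' (U : Set X))).symm

theorem permHom_preimage_pow (U : X.Opens) (σ : Equiv.Perm (Fin d)) :
    permHom f d σ ⁻¹ᵁ pow f d U = pow f d U := by
  refine Opens.ext (Set.ext fun x => ?_)
  show (permHom f d σ).base x ∈ pow f d U ↔ x ∈ pow f d U
  rw [mem_pow, mem_pow]
  have h : ∀ i, (WidePullback.π (fun _ : Fin d => f) i).base ((permHom f d σ).base x) =
      (WidePullback.π (fun _ : Fin d => f) (σ.symm i)).base x := fun i => by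
    rw [← permHom_π f d σ i]
    rfl
  simp only [h]
  exact σ.symm.forall_congr_left.trans (by simp)

theorem isAffineOpen_pow {d : ℕ} (hd : 0 < d) {U : X.Opens} (hU : IsAffineOpen U) {V : S.Opens}
    (hV : IsAffineOpen V) (hUV : U ≤ f ⁻¹ᵁ V) : IsAffineOpen (pow f d U) := by
  let fV : U.toScheme ⟶ V.toScheme := f.resLE V U hUV
  let P := widePullback V.toScheme (fun _ : Fin d => U.toScheme) (fun _ => fV)
  haveI : IsAffine U.toScheme := hU
  haveI : IsAffine V.toScheme := hV
  haveI : ∀ o : WidePullbackShape (Fin d),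
      IsAffine ((WidePullbackShape.wideCospan V.toScheme (fun _ : Fin d => U.toScheme) (fun _ => fV)).obj o) := by
    rintro (_ | _)
    · exact hV
    · exact hU
  haveI hP : IsAffine P := Scheme.isAffine_of_isLimit _
    (limit.isLimit (WidePullbackShape.wideCospan V.toScheme (fun _ : Fin d => U.toScheme) (fun _ => fV)))
  let W := pow f d U
  have hW : ∀ i, Set.range (W.ι ≫ WidePullback.π (fun _ : Fin d => f) i) ⊆ Set.range U.ι := by
    intro i
    rintro _ ⟨x, rfl⟩
    rw [Scheme.Opens.range_ι]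
    exact (mem_pow f d).1 x.2 i
  let l : ∀ _ : Fin d, W.toScheme ⟶ U.toScheme := fun i => IsOpenImmersion.lift U.ι _ (hW i)
  have hl : ∀ i, (l i ≫ fV) ≫ V.ι = W.ι ≫ WidePullback.base (fun _ : Fin d => f) := fun i => by
    rw [Category.assoc, Scheme.Hom.resLE_comp_ι, IsOpenImmersion.lift_fac_assoc, Category.assoc,
      WidePullback.π_arrow]
  let i₀ : Fin d := ⟨0, hd⟩
  let a : W.toScheme ⟶ P := WidePullback.lift (l i₀ ≫ fV) l (fun i => by
    rw [← cancel_mono V.ι, hl, hl])
  let b₀ : P ⟶ fibPow f d := WidePullback.lift (WidePullback.base (fun _ : Fin d => fV) ≫ V.ι)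
    (fun i => WidePullback.π (fun _ : Fin d => fV) i ≫ U.ι) (fun i => by
      rw [Category.assoc, ← WidePullback.π_arrow (fun _ : Fin d => fV) i, Category.assoc, Scheme.Hom.resLE_comp_ι])
  have hb : Set.range b₀ ⊆ Set.range W.ι := by
    rintro _ ⟨x, rfl⟩
    rw [Scheme.Opens.range_ι]
    refine (mem_pow f d).2 fun i => ?_
    show (b₀ ≫ WidePullback.π (fun _ : Fin d => f) i).base x ∈ U
    rw [WidePullback.lift_π]
    exact ((WidePullback.π (fun _ : Fin d => fV) i).base x).2
  let b : P ⟶ W.toScheme := IsOpenImmersion.lift W.ι b₀ hb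
  have hab : a ≫ b = 𝟙 _ := by
    rw [← cancel_mono W.ι, Category.assoc, IsOpenImmersion.lift_fac, Category.id_comp]
    refine WidePullback.hom_ext _ _ _ (fun i => ?_) ?_
    · rw [Category.assoc, WidePullback.lift_π, WidePullback.lift_π_assoc, IsOpenImmersion.lift_fac]
    · rw [Category.assoc, WidePullback.lift_base, WidePullback.lift_base_assoc, hl]
  have hba : b ≫ a = 𝟙 _ := by
    refine WidePullback.hom_ext _ _ _ (fun i => ?_) ?_
    · rw [Category.assoc, WidePullback.lift_π, Category.id_comp, ← cancel_mono U.ι, Category.assoc,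
        IsOpenImmersion.lift_fac, IsOpenImmersion.lift_fac_assoc, WidePullback.lift_π]
    · rw [Category.assoc, WidePullback.lift_base, Category.id_comp, ← cancel_mono V.ι, Category.assoc, hl,
        IsOpenImmersion.lift_fac_assoc, WidePullback.lift_base]
  haveI : IsIso a := ⟨b, hab, hba⟩
  exact IsAffine.of_isIso a

theorem exists_affine_pow (hAF : IsAF f) (x : fibPow f d) {V : S.Opens} (hV : IsAffineOpen V)
    (hx : (WidePullback.base (fun _ : Fin d => f)).base x ∈ V) :
    ∃ U : X.Opens, IsAffineOpen U ∧ U ≤ f ⁻¹ᵁ V ∧ x ∈ pow f d U := by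
  classical
  let T : Finset X := Finset.univ.image fun i => (WidePullback.π (fun _ : Fin d => f) i).base x
  obtain ⟨A, hA, hTA⟩ := hAF _ T (fun y hy => by
    obtain ⟨i, -, rfl⟩ := Finset.mem_image.1 hy
    exact base_π f d x i)
  obtain ⟨g, hg, hTg⟩ := AffineFinset.exists_basicOpen_le hA (f ⁻¹ᵁ V) T hTA (fun y hy => by
    obtain ⟨i, -, rfl⟩ := Finset.mem_image.1 hy
    show f.base ((WidePullback.π (fun _ : Fin d => f) i).base x) ∈ V
    rw [base_π]; exact hx)
  exact ⟨X.basicOpen g, hA.basicOpen g, hg,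
    (mem_pow f d).2 fun i => hTg _ (Finset.mem_image.2 ⟨i, Finset.mem_univ _, rfl⟩)⟩

theorem exists_orbit_affine (hAF : IsAF f) (x : fibPow f d) :
    ∃ U : (fibPow f d).Opens, IsAffineOpen U ∧ ∀ σ : Equiv.Perm (Fin d), (permHom f d σ).base x ∈ U := by
  rcases Nat.eq_zero_or_pos d with rfl | hd
  · obtain ⟨U, hU, hxU, -⟩ := exists_isAffineOpen_mem_and_subset (x := x) (U := ⊤) trivial
    refine ⟨U, hU, fun σ => ?_⟩
    rw [Subsingleton.elim σ 1, permHom_one]
    exact hxU
  obtain ⟨V, hV, hxV, -⟩ := exists_isAffineOpen_mem_and_subset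
    (x := (WidePullback.base (fun _ : Fin d => f)).base x) (U := ⊤) trivial
  obtain ⟨U, hU, hUV, hxU⟩ := exists_affine_pow f d hAF x hV hxV
  refine ⟨pow f d U, isAffineOpen_pow f hd hU hV hUV, fun σ => ?_⟩
  show x ∈ permHom f d σ ⁻¹ᵁ pow f d U
  rwa [permHom_preimage_pow]

theorem exists_chart (hAF : IsAF f) {d : ℕ} (hd : 0 < d) {Y : Scheme.{u}} {q : fibPow f d ⟶ Y} {g : Y ⟶ S}
    (hq : IsSymProd f d q g) (y : Y) {V : S.Opens} (hV : IsAffineOpen V) (hy : g.base y ∈ V) :
    ∃ U : X.Opens, IsAffineOpen U ∧ U ≤ f ⁻¹ᵁ V ∧ IsAffineOpen (pow f d U) ∧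
      ∃ W' : Y.Opens, y ∈ W' ∧ IsAffineOpen W' ∧ q ⁻¹ᵁ W' = pow f d U := by
  obtain ⟨x, rfl⟩ := SGA1Q.surjective hq.isQuot y
  obtain ⟨U, hU, hUV, hxU⟩ := exists_affine_pow f d hAF x hV (by
    rw [← hq.over]; exact hy)
  have hW := isAffineOpen_pow f hd hU hV hUV
  refine ⟨U, hU, hUV, hW, ?_⟩
  let W := pow f d U
  haveI := SGA1Q.isIntegralHom hq.isQuot
  let W' : Y.Opens := ⟨(q.base '' (W : Set (fibPow f d))ᶜ)ᶜ, (q.isClosedMap _ W.isOpen.isClosed_compl).isOpen_compl⟩
  have hpre : q ⁻¹ᵁ W' = W := by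
    refine Opens.ext (Set.ext fun z => ⟨fun hz => ?_, fun hz => ?_⟩)
    · by_contra h
      exact hz ⟨z, h, rfl⟩
    · rintro ⟨z', hz', e⟩
      obtain ⟨σ, hσ⟩ := (SGA1Q.orbit_iff hq.isQuot z' z).1 e
      refine hz' ?_
      rw [← hσ] at hz
      have : z' ∈ permHom f d σ.down ⁻¹ᵁ W := hz
      rwa [permHom_preimage_pow] at this
  refine ⟨W', hpre.ge hxU, ?_, hpre⟩
  have hst : ∀ σ : ULift.{u} (Equiv.Perm (Fin d)), q ⁻¹ᵁ W' ≤ (permActU f d σ).hom ⁻¹ᵁ (q ⁻¹ᵁ W') :=
    fun σ => SGA1.preimage_le_of_inv (permActU f d) q hq.isQuot.inv σ W'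
  haveI : IsAffine (q ⁻¹ᵁ W').toScheme := hpre.symm ▸ hW
  exact SGA1Q.isAffine_of_isQuot (SGA1Q.isQuot_morphismRestrict hq.isQuot W'
    (SGA1Q.restrictAction (permActU f d) (q ⁻¹ᵁ W') hst)
    (fun σ => SGA1Q.restrictAction_hom_ι (permActU f d) _ hst σ))

end Groth.Agent.H23.SymAF
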