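import Groth.Agent.H23.SymCore
import Groth.Agent.SGA1Q.Properties

/-!
Charts of symmetric products and invariants of products of two actions.
-/

set_option autoImplicit false
set_option backward.isDefEq.respectTransparency false
set_option linter.style.haveILetI false

universe u

open CategoryTheory CategoryTheory.Limits AlgebraicGeometry TopologicalSpace
open scoped TensorProduct

namespace Groth.Agent.H23.SymApply

open SymProd InvLoc SymBox

section Chart

variable {X S Y : Scheme.{u}} {f : X ⟶ S} {d : ℕ} {q : fibPow f d ⟶ Y} {g : Y ⟶ S} (hq : IsSymProd f d q g)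
  {V : S.Opens} {W : Y.Opens} (hW : W ≤ g ⁻¹ᵁ V)

include hq hW in
theorem preimage_le_base : q ⁻¹ᵁ W ≤ (WidePullback.base (fun _ : Fin d => f)) ⁻¹ᵁ V := by
  rw [← hq.over, Scheme.Hom.comp_preimage]
  exact q.preimage_mono hW

include hq in
theorem permHom_preimage (σ : Equiv.Perm (Fin d)) : permHom f d σ ⁻¹ᵁ (q ⁻¹ᵁ W) = q ⁻¹ᵁ W := by
  rw [← Scheme.Hom.comp_preimage]
  exact congrArg (fun m => m ⁻¹ᵁ W) (hq.isQuot.inv ⟨σ⟩)

/-- The map from the sections of a chart of the symmetric product. -/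
noncomputable def chartHom :
    letI := (g.appLE V W hW).hom.toAlgebra
    letI := secAlg (WidePullback.base (fun _ : Fin d => f)) (preimage_le_base hq hW)
    Γ(Y, W) →ₐ[Γ(S, V)] Γ(fibPow f d, q ⁻¹ᵁ W) :=
  letI := (g.appLE V W hW).hom.toAlgebra
  letI := secAlg (WidePullback.base (fun _ : Fin d => f)) (preimage_le_base hq hW)
  { (q.appLE W (q ⁻¹ᵁ W) le_rfl).hom with
    commutes' := fun a => by
      have h : g.appLE V W hW ≫ q.appLE W (q ⁻¹ᵁ W) le_rfl =
          (WidePullback.base (fun _ : Fin d => f)).appLE V (q ⁻¹ᵁ W) (preimage_le_base hq hW) := by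
        rw [Scheme.Hom.appLE_comp_appLE]
        exact SGA1Q.appLE_congr_hom hq.over _ _
      exact congr(($h).hom a) }

theorem chartHom_injective :
    letI := (g.appLE V W hW).hom.toAlgebra
    letI := secAlg (WidePullback.base (fun _ : Fin d => f)) (preimage_le_base hq hW)
    Function.Injective (chartHom hq hW) := by
  show Function.Injective (q.appLE W (q ⁻¹ᵁ W) le_rfl).hom
  rw [← Scheme.Hom.app_eq_appLE]
  exact hq.isQuot.injective W

theorem mem_range_chartHom :
    letI := (g.appLE V W hW).hom.toAlgebra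
    letI := secAlg (WidePullback.base (fun _ : Fin d => f)) (preimage_le_base hq hW)
    ∀ s, s ∈ Set.range (chartHom hq hW) ↔
      s ∈ InvLoc.inv (secAct (powAct f d) (preimage_le_base hq hW) (permHom_preimage hq)) := by
  intro s
  show s ∈ Set.range (q.appLE W (q ⁻¹ᵁ W) le_rfl).hom ↔ _
  refine (SGA1Q.range_appLE_iff hq.isQuot W _ rfl s).trans ⟨fun h σ => ?_, fun h σ e => ?_⟩
  · exact h ⟨σ⁻¹⟩ (le_preimage (powAct f d) (permHom_preimage hq) σ⁻¹)
  · refine Eq.trans ?_ (h σ.down⁻¹)
    rw [secAct_apply]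
    exact congr(($(SGA1Q.appLE_congr_hom (show (permActU f d σ).hom = (powAct f d).hom σ.down⁻¹⁻¹ by
      rw [inv_inv]; rfl) e _)).hom s)

end Chart

section Factorial

theorem isUnit_factorial {S : Scheme.{u}} (h : ∀ n : ℕ, 0 < n → IsUnit ((n : ℕ) : Γ(S, ⊤))) (V : S.Opens) (d : ℕ) :
    IsUnit ((Nat.factorial d : ℕ) : Γ(S, V)) := by
  have := (h _ (Nat.factorial_pos d)).map (S.presheaf.map (homOfLE (le_top : V ≤ ⊤)).op).hom
  rwa [map_natCast] at this

theorem tame {R T : Type u} [CommRing R] [CommRing T] [Algebra R T] {d : ℕ}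
    (σ : Equiv.Perm (Fin d) →* (T ≃ₐ[R] T)) (hu : IsUnit ((Nat.factorial d : ℕ) : R))
    (A : Type u) [CommRing A] [Algebra R A] :
    Inj σ A ∧ Surj (Algebra.TensorProduct.includeRight : T →ₐ[R] A ⊗[R] T).toRingHom σ (baseAct σ A) := by
  have hA : IsUnit (Fintype.card (Equiv.Perm (Fin d)) : A) := by
    have := hu.map (algebraMap R A)
    rwa [map_natCast, ← Fintype.card_fin d, ← Fintype.card_perm] at this
  exact ⟨inj_of_isUnit_card hA,
    surj_of_isUnit_card (fun g x => includeRight_baseAct σ A g x) (adjoin_range_includeRight A) hA⟩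

end Factorial

section Product

variable {R B B₁ T T₁ : Type u} [CommRing R] [CommRing B] [CommRing B₁] [CommRing T] [CommRing T₁]
  [Algebra R B] [Algebra R B₁] [Algebra R T] [Algebra R T₁] {G G₁ : Type*} [Group G] [Group G₁]
  (σ : G →* (T ≃ₐ[R] T)) (σ₁ : G₁ →* (T₁ ≃ₐ[R] T₁))

theorem lTensor_injective_of_range {ι : B →ₐ[R] T} (hι : Function.Injective ι)
    (hr : ∀ s, s ∈ Set.range ι ↔ s ∈ InvLoc.inv σ) (A : Type u) [CommRing A] [Algebra R A] (hi : Inj σ A) :
    Function.Injective (Algebra.TensorProduct.map (AlgHom.id A A) ι) := by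
  let j : B →ₐ[R] InvLoc.inv σ := ι.codRestrict _ fun x => (hr _).1 ⟨x, rfl⟩
  have hj : Function.Bijective j := ⟨fun x y h => hι (congrArg Subtype.val h), fun y => by
    obtain ⟨x, hx⟩ := (hr y.1).2 y.2
    exact ⟨x, Subtype.ext hx⟩⟩
  have h : ∀ w, Algebra.TensorProduct.map (AlgHom.id A A) ι w = Algebra.TensorProduct.map (AlgHom.id A A)
      (InvLoc.inv σ).val (Algebra.TensorProduct.congr (AlgEquiv.refl (R := A) (A₁ := A)) (AlgEquiv.ofBijective j hj) w) := fun w => by
    induction w using TensorProduct.induction_on with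
    | zero => simp
    | tmul s b => rfl
    | add a b ha hb => simp only [map_add, ha, hb]
  intro a b hab
  rw [h, h] at hab
  exact (Algebra.TensorProduct.congr (AlgEquiv.refl (R := A) (A₁ := A)) (AlgEquiv.ofBijective j hj)).injective (hi hab)

theorem mem_range_of_range {ι : B →ₐ[R] T} (hr : ∀ s, s ∈ Set.range ι ↔ s ∈ InvLoc.inv σ) (A : Type u)
    [CommRing A] [Algebra R A]
    (hs : Surj (Algebra.TensorProduct.includeRight : T →ₐ[R] A ⊗[R] T).toRingHom σ (baseAct σ A))
    {z : A ⊗[R] T} (hz : ∀ g, baseAct σ A g z = z) :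
    z ∈ Set.range (Algebra.TensorProduct.map (AlgHom.id A A) ι) := by
  refine Algebra.adjoin_le (S := (Algebra.TensorProduct.map (AlgHom.id A A) ι).range) ?_ (hs hz)
  rintro _ ⟨t, ht, rfl⟩
  obtain ⟨x, rfl⟩ := (hr t).2 ht
  exact ⟨1 ⊗ₜ[R] x, rfl⟩

variable {ι : B →ₐ[R] T} {ι₁ : B₁ →ₐ[R] T₁}

/-- Invariants of a product action on a tensor product. -/
theorem prod_invariants (hι : Function.Injective ι) (hι₁ : Function.Injective ι₁)
    (hr : ∀ s, s ∈ Set.range ι ↔ s ∈ InvLoc.inv σ) (hr₁ : ∀ s, s ∈ Set.range ι₁ ↔ s ∈ InvLoc.inv σ₁)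
    (hi : Inj σ B₁) (hs : Surj (Algebra.TensorProduct.includeRight : T →ₐ[R] B₁ ⊗[R] T).toRingHom σ (baseAct σ B₁))
    (hi₁ : Inj σ₁ T) (hs₁ : Surj (Algebra.TensorProduct.includeRight : T₁ →ₐ[R] T ⊗[R] T₁).toRingHom σ₁ (baseAct σ₁ T)) :
    Function.Injective (Algebra.TensorProduct.map ι ι₁) ∧
      ∀ z, (∀ g, Algebra.TensorProduct.map (σ g : T →ₐ[R] T) (AlgHom.id R T₁) z = z) →
        (∀ g, Algebra.TensorProduct.map (AlgHom.id R T) (σ₁ g : T₁ →ₐ[R] T₁) z = z) →
        z ∈ Set.range (Algebra.TensorProduct.map ι ι₁) := by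
  let c := Algebra.TensorProduct.comm R B₁ T
  let c' := Algebra.TensorProduct.comm R B₁ B
  let M := Algebra.TensorProduct.map (AlgHom.id T T) ι₁
  let N := Algebra.TensorProduct.map (AlgHom.id B₁ B₁) ι
  have hfac : ∀ w, Algebra.TensorProduct.map ι ι₁ (c' w) = M (c (N w)) := fun w => by
    induction w using TensorProduct.induction_on with
    | zero => simp
    | tmul s b => rfl
    | add a b ha hb => simp only [map_add, ha, hb]
  have hM : Function.Injective M := lTensor_injective_of_range σ₁ hι₁ hr₁ T hi₁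
  have hN : Function.Injective N := lTensor_injective_of_range σ hι hr B₁ hi
  refine ⟨fun a b hab => ?_, fun z hz hz₁ => ?_⟩
  · obtain ⟨a, rfl⟩ := c'.surjective a
    obtain ⟨b, rfl⟩ := c'.surjective b
    rw [hfac, hfac] at hab
    rw [hN (c.injective (hM hab))]
  · obtain ⟨u, rfl⟩ := mem_range_of_range σ₁ hr₁ T hs₁ (z := z) fun g => by
      refine Eq.trans ?_ (hz₁ g)
      rw [baseAct_apply]
      clear hz hz₁
      induction z using TensorProduct.induction_on with
      | zero => simp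
      | tmul s b => rfl
      | add a b ha hb => simp only [map_add, ha, hb]
    obtain ⟨v, rfl⟩ := c.surjective u
    obtain ⟨w, rfl⟩ := mem_range_of_range σ hr B₁ hs (z := v) fun g => by
      refine c.injective (hM ?_)
      refine Eq.trans ?_ (hz g)
      clear hz hz₁
      induction v using TensorProduct.induction_on with
      | zero => simp
      | tmul s b => rfl
      | add a b ha hb => simp only [map_add, ha, hb]
    exact ⟨c' w, hfac w⟩

end Product

end Groth.Agent.H23.SymApply
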