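import Groth.Agent.H23.SymFlat
import Groth.Agent.H23.SymTenBC
import Groth.Agent.SGA1Q.BaseChange

/-!
Symmetric powers of flat morphisms commute with every base change.
-/

set_option autoImplicit false
set_option backward.isDefEq.respectTransparency false
set_option linter.style.haveILetI false

universe u

open CategoryTheory CategoryTheory.Limits AlgebraicGeometry TopologicalSpace
open scoped TensorProduct

namespace Groth.Agent.H23.SymBC

open SymProd SymAF SymTensorChart SymFlat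

theorem invariants_of_tensor {G : Type*} {A₀ A₁ B T B' T' : Type u} [CommRing A₀] [CommRing A₁] [CommRing B]
    [CommRing T] [CommRing B'] [CommRing T'] [Algebra A₀ A₁] [Algebra A₀ B] [Algebra A₀ T] [Algebra A₁ B']
    [Algebra B B'] [Algebra A₀ B'] [IsScalarTower A₀ A₁ B'] [IsScalarTower A₀ B B'] [Algebra.IsPushout A₀ A₁ B B']
    [Algebra A₁ T'] [Algebra T T'] [Algebra A₀ T'] [IsScalarTower A₀ A₁ T'] [IsScalarTower A₀ T T']
    [Algebra.IsPushout A₀ A₁ T T']
    (ι : B →ₐ[A₀] T) (ι' : B' →+* T') (hι₁ : ∀ a, ι' (algebraMap A₁ B' a) = algebraMap A₁ T' a)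
    (hι₂ : ∀ b, ι' (algebraMap B B' b) = algebraMap T T' (ι b))
    (σ : G → T →ₗ[A₀] T) (τ : G → T' →+* T') (hτ₁ : ∀ g a, τ g (algebraMap A₁ T' a) = algebraMap A₁ T' a)
    (hτ₂ : ∀ g t, τ g (algebraMap T T' t) = algebraMap T T' (σ g t))
    (hinj : Function.Injective (ι.toLinearMap.lTensor A₁))
    (hinv : ∀ z, (∀ g, (σ g).lTensor A₁ z = z) → z ∈ Set.range (ι.toLinearMap.lTensor A₁)) :
    Function.Injective ι' ∧ ∀ t, (∀ g, τ g t = t) → t ∈ Set.range ι' := by
  let eB := Algebra.IsPushout.equiv A₀ A₁ B B'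
  let eT := Algebra.IsPushout.equiv A₀ A₁ T T'
  have he : ∀ z, ι' (eB z) = eT (ι.toLinearMap.lTensor A₁ z) := fun z => by
    induction z using TensorProduct.induction_on with
    | zero => simp
    | tmul a b =>
      rw [Algebra.IsPushout.equiv_tmul, map_mul, hι₁, hι₂, LinearMap.lTensor_tmul, Algebra.IsPushout.equiv_tmul]
      rfl
    | add x y hx hy => simp only [map_add, hx, hy]
  have hτ : ∀ g z, τ g (eT z) = eT ((σ g).lTensor A₁ z) := fun g z => by
    induction z using TensorProduct.induction_on with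
    | zero => simp
    | tmul a t =>
      rw [Algebra.IsPushout.equiv_tmul, map_mul, hτ₁, hτ₂, LinearMap.lTensor_tmul, Algebra.IsPushout.equiv_tmul]
    | add x y hx hy => simp only [map_add, hx, hy]
  refine ⟨fun x y h => ?_, fun t ht => ?_⟩
  · obtain ⟨a, rfl⟩ := eB.surjective x
    obtain ⟨b, rfl⟩ := eB.surjective y
    rw [he, he] at h
    rw [hinj (eT.injective h)]
  · obtain ⟨z, rfl⟩ := eT.surjective t
    obtain ⟨y, rfl⟩ := hinv z fun g => eT.injective ((hτ g z).symm.trans (ht g))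
    exact ⟨eB y, he y⟩

theorem isQuot_of_isIso {X Y : Scheme.{u}} {G : Type u} [Group G] (ρ : G →* Aut X) (p : X ⟶ Y) [IsIso p]
    (hinv : ∀ g : G, (ρ g).hom ≫ p = p) : SGA1.IsQuot ρ p := by
  refine ⟨inferInstance, hinv, fun U => (ConcreteCategory.bijective_of_isIso (p.app U)).1, fun U s => ?_⟩
  refine ⟨fun _ g => ?_, fun _ => (ConcreteCategory.bijective_of_isIso (p.app U)).2 s⟩
  obtain ⟨t, rfl⟩ := (ConcreteCategory.bijective_of_isIso (p.app U)).2 s
  exact SGA1Q.appLE_app_of_inv hinv U g t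

variable {X S S' Y : Scheme.{u}} (f : X ⟶ S) {n : ℕ} {q : fibPow f n ⟶ Y} {g : Y ⟶ S} (b : S' ⟶ S)

theorem isPullback_fibPow {c : fibPow (pullback.snd f b) n ⟶ fibPow f n}
    (hcπ : ∀ i : Fin n, c ≫ WidePullback.π (fun _ => f) i =
      WidePullback.π (fun _ => pullback.snd f b) i ≫ pullback.fst f b)
    (hcb : c ≫ WidePullback.base (fun _ => f) = WidePullback.base (fun _ => pullback.snd f b) ≫ b) :
    IsPullback c (WidePullback.base (fun _ : Fin n => pullback.snd f b))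
      (WidePullback.base (fun _ : Fin n => f)) b := by
  refine IsPullback.of_isLimit' ⟨hcb⟩ (PullbackCone.IsLimit.mk _ (fun s =>
    WidePullback.lift s.snd (fun i => pullback.lift (s.fst ≫ WidePullback.π (fun _ : Fin n => f) i) s.snd (by
      rw [Category.assoc, WidePullback.π_arrow, s.condition])) (fun i => pullback.lift_snd _ _ _))
    (fun s => ?_) (fun s => WidePullback.lift_base _ _ _ _) (fun s m h₁ h₂ => ?_))
  · refine WidePullback.hom_ext _ _ _ (fun i => ?_) ?_
    · rw [Category.assoc, hcπ, WidePullback.lift_π_assoc, pullback.lift_fst]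
    · rw [Category.assoc, hcb, WidePullback.lift_base_assoc, s.condition]
  · refine WidePullback.hom_ext _ _ _ (fun i => ?_) ?_
    · rw [WidePullback.lift_π]
      refine pullback.hom_ext ?_ ?_
      · rw [pullback.lift_fst, Category.assoc, ← hcπ, reassoc_of% h₁]
      · rw [pullback.lift_snd, Category.assoc, WidePullback.π_arrow (fun _ : Fin n => pullback.snd f b) i, h₂]
    · rw [WidePullback.lift_base, h₂]

theorem isSymProd [Flat f] (hAF : IsAF f) (hq : IsSymProd f n q g)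
    (c : fibPow (pullback.snd f b) n ⟶ fibPow f n)
    (hcπ : ∀ i : Fin n, c ≫ WidePullback.π (fun _ => f) i =
      WidePullback.π (fun _ => pullback.snd f b) i ≫ pullback.fst f b)
    (hcb : c ≫ WidePullback.base (fun _ => f) = WidePullback.base (fun _ => pullback.snd f b) ≫ b)
    (q' : fibPow (pullback.snd f b) n ⟶ pullback g b)
    (hq'₁ : q' ≫ pullback.fst g b = c ≫ q)
    (hq'₂ : q' ≫ pullback.snd g b = WidePullback.base (fun _ => pullback.snd f b)) :
    IsSymProd (pullback.snd f b) n q' (pullback.snd g b) := by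
  classical
  have hpb := isPullback_fibPow f b hcπ hcb
  have hperm : ∀ σ : Equiv.Perm (Fin n), permHom (pullback.snd f b) n σ ≫ c = c ≫ permHom f n σ := fun σ => by
    refine WidePullback.hom_ext _ _ _ (fun i => ?_) ?_
    · rw [Category.assoc, hcπ, permHom_π_assoc, Category.assoc, permHom_π, hcπ]
    · rw [Category.assoc, hcb, permHom_base_assoc, Category.assoc, permHom_base, hcb]
  have hinv : ∀ σ : ULift.{u} (Equiv.Perm (Fin n)), (permActU (pullback.snd f b) n σ).hom ≫ q' = q' := fun σ => by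
    refine pullback.hom_ext ?_ ?_
    · rw [Category.assoc, hq'₁, permActU_hom, reassoc_of% hperm,
        show permHom f n σ.down ≫ q = q from hq.isQuot.inv σ]
    · rw [Category.assoc, hq'₂, permActU_hom, permHom_base]
  refine ⟨?_, hq'₂⟩
  rcases Nat.eq_zero_or_pos n with rfl | hn
  · have hb0 : ∀ {X S : Scheme.{u}} (f : X ⟶ S), IsIso (WidePullback.base (fun _ : Fin 0 => f)) := fun f =>
      ⟨WidePullback.lift (𝟙 _) (fun i => i.elim0) (fun i => i.elim0),
        WidePullback.hom_ext _ _ _ (fun i => i.elim0) (by simp), by simp⟩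
    haveI := hb0 f
    haveI := hb0 (pullback.snd f b)
    haveI : Mono g := by
      refine ⟨fun {T} u v huv => ?_⟩
      have hs := SGA1Q.surjective hq.isQuot
      obtain ⟨r, hr, -⟩ := SGA1Q.desc_existsUnique_isQuot hq.isQuot (𝟙 _) (fun σ => by
        rw [Subsingleton.elim σ 1, map_one]; rfl)
      have hrq : r ≫ q = 𝟙 Y := by
        obtain ⟨w, -, hu⟩ := SGA1Q.desc_existsUnique_isQuot hq.isQuot q hq.isQuot.inv
        rw [hu (r ≫ q) (by simp [reassoc_of% hr]), hu (𝟙 Y) (Category.comp_id q)]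
      haveI : IsIso r := ⟨q, hrq, hr⟩
      have hg : g = r ≫ WidePullback.base (fun _ : Fin 0 => f) := by rw [← hq.over, reassoc_of% hrq]
      rw [hg] at huv
      exact (cancel_mono _).1 huv
    have hinvq : IsIso q' := by
      refine ⟨pullback.snd g b ≫ inv (WidePullback.base (fun _ : Fin 0 => pullback.snd f b)), ?_, ?_⟩
      · rw [reassoc_of% hq'₂, IsIso.hom_inv_id]
      · rw [← cancel_mono (pullback.snd g b), Category.assoc, hq'₂, Category.assoc, IsIso.inv_hom_id,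
          Category.comp_id, Category.id_comp]
    exact isQuot_of_isIso _ _ hinv
  haveI := hq.isQuot.affine
  have hsq : IsPullback c q' q (pullback.fst g b) := by
    refine IsPullback.of_bot ?_ hq'₁.symm (IsPullback.of_hasPullback g b)
    rw [hq'₂, hq.over]
    exact hpb
  have hq'aff : IsAffineHom q' := MorphismProperty.of_isPullback hsq hq.isQuot.affine
  refine SGA1Q.isQuot_of_affine_cover hq'aff hinv fun y' => ?_
  obtain ⟨V, hV, hyV, -⟩ := exists_isAffineOpen_mem_and_subset (x := g (pullback.fst g b y')) (U := ⊤) trivial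
  obtain ⟨U, hU, hUV, hW, W', hyW, hW', hpre⟩ := exists_chart f hAF hn hq (pullback.fst g b y') hV hyV
  have hle := le_preimage_of_chart f hq hn hUV hpre
  obtain ⟨V', hV', hyV', hVb⟩ := exists_isAffineOpen_mem_and_subset (x := pullback.snd g b y') (U := b ⁻¹ᵁ V) (by
    show b (pullback.snd g b y') ∈ V
    rw [← Scheme.Hom.comp_apply, ← pullback.condition, Scheme.Hom.comp_apply]
    exact hyV)
  let O := pullback.fst g b ⁻¹ᵁ W' ⊓ pullback.snd g b ⁻¹ᵁ V'
  have hO : IsAffineOpen O := by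
    haveI : IsAffine W'.toScheme := hW'
    haveI : IsAffine V'.toScheme := hV'
    haveI : IsAffine V.toScheme := hV
    let m := pullback.map (g.resLE V W' hle) (b.resLE V V' hVb) g b W'.ι V'.ι V.ι
      (Scheme.Hom.resLE_comp_ι g hle) (Scheme.Hom.resLE_comp_ι b hVb)
    have : m.opensRange = O := by
      refine Opens.ext ?_
      show Set.range m = _
      rw [Scheme.Pullback.range_map, Scheme.Opens.range_ι, Scheme.Opens.range_ι]
      rfl
    rw [← this]
    exact isAffineOpen_opensRange m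
  refine ⟨O, hO, ⟨hyW, hyV'⟩, ?_⟩
  let W := pow f n U
  have hbW := pow_le_base f hUV hn
  let base' := WidePullback.base (fun _ : Fin n => pullback.snd f b)
  have hO' : q' ⁻¹ᵁ O = c ⁻¹ᵁ W ⊓ base' ⁻¹ᵁ V' := by
    show q' ⁻¹ᵁ (pullback.fst g b ⁻¹ᵁ W') ⊓ q' ⁻¹ᵁ (pullback.snd g b ⁻¹ᵁ V') = _
    rw [← Scheme.Hom.comp_preimage, ← Scheme.Hom.comp_preimage, hq'₁, hq'₂, Scheme.Hom.comp_preimage, hpre]
  have hpo₁ := (isIso_pushoutSection_iff (IsPullback.of_hasPullback g b) (US := V) (UT := V') (UX := W') hVb hle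
    (UY := O) rfl).1
    (isIso_pushoutSection_of_isAffineOpen (IsPullback.of_hasPullback g b) hVb hle rfl hV hV' hW')
  have hpo₂ := (isIso_pushoutSection_iff hpb (US := V) (UT := V') (UX := W) hVb hbW hO').1
    (isIso_pushoutSection_of_isAffineOpen hpb hVb hbW hO' hV hV' hW)
  have l₁ : O ≤ pullback.fst g b ⁻¹ᵁ W' := inf_le_left
  have l₂ : O ≤ pullback.snd g b ⁻¹ᵁ V' := inf_le_right
  have m₁ : q' ⁻¹ᵁ O ≤ c ⁻¹ᵁ W := hO'.trans_le inf_le_left
  have m₂ : q' ⁻¹ᵁ O ≤ base' ⁻¹ᵁ V' := hO'.trans_le inf_le_right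
  letI := (f.appLE V U hUV).hom.toAlgebra
  letI := (g.appLE V W' hle).hom.toAlgebra
  letI := ((WidePullback.base (fun _ : Fin n => f)).appLE V W hbW).hom.toAlgebra
  letI := (b.appLE V V' hVb).hom.toAlgebra
  letI := ((pullback.fst g b).appLE W' O l₁).hom.toAlgebra
  letI := ((pullback.snd g b).appLE V' O l₂).hom.toAlgebra
  letI := (c.appLE W (q' ⁻¹ᵁ O) m₁).hom.toAlgebra
  letI := (base'.appLE V' (q' ⁻¹ᵁ O) m₂).hom.toAlgebra
  letI := (((pullback.fst g b).appLE W' O l₁).hom.comp (g.appLE V W' hle).hom).toAlgebra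
  letI := ((c.appLE W (q' ⁻¹ᵁ O) m₁).hom.comp
    ((WidePullback.base (fun _ : Fin n => f)).appLE V W hbW).hom).toAlgebra
  haveI : IsScalarTower Γ(S, V) Γ(Y, W') Γ(pullback g b, O) := IsScalarTower.of_algebraMap_eq' rfl
  haveI : IsScalarTower Γ(S, V) Γ(S', V') Γ(pullback g b, O) :=
    IsScalarTower.of_algebraMap_eq' (congrArg CommRingCat.Hom.hom hpo₁.w)
  haveI : Algebra.IsPushout Γ(S, V) Γ(S', V') Γ(Y, W') Γ(pullback g b, O) :=
    CommRingCat.isPushout_iff_isPushout.1 hpo₁.flip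
  haveI : IsScalarTower Γ(S, V) Γ(fibPow f n, W) Γ(fibPow (pullback.snd f b) n, q' ⁻¹ᵁ O) :=
    IsScalarTower.of_algebraMap_eq' rfl
  haveI : IsScalarTower Γ(S, V) Γ(S', V') Γ(fibPow (pullback.snd f b) n, q' ⁻¹ᵁ O) :=
    IsScalarTower.of_algebraMap_eq' (congrArg CommRingCat.Hom.hom hpo₂.w)
  haveI : Algebra.IsPushout Γ(S, V) Γ(S', V') Γ(fibPow f n, W) Γ(fibPow (pullback.snd f b) n, q' ⁻¹ᵁ O) :=
    CommRingCat.isPushout_iff_isPushout.1 hpo₂.flip
  haveI : Module.Flat Γ(S, V) Γ(X, U) := f.flat_appLE hV hU hUV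
  obtain ⟨θ, β, hθb, hθσ, hθβ⟩ := exists_chartEquiv f hq hn hU hV hUV hpre
  let θA : (⨂[Γ(S, V)] _ : Fin n, Γ(X, U)) ≃ₐ[Γ(S, V)] Γ(fibPow f n, W) := AlgEquiv.ofRingEquiv (f := θ) hθb
  let ι : Γ(Y, W') →ₐ[Γ(S, V)] Γ(fibPow f n, W) :=
    { (q.appLE W' W hpre.ge).hom with
      commutes' := fun a => by
        have h : g.appLE V W' hle ≫ q.appLE W' W hpre.ge = (WidePullback.base (fun _ : Fin n => f)).appLE V W hbW := by
          rw [Scheme.Hom.appLE_comp_appLE]
          exact SGA1Q.appLE_congr_hom hq.over _ _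
        exact congr(($h).hom a) }
  let σA : ULift.{u} (Equiv.Perm (Fin n)) → Γ(fibPow f n, W) →ₗ[Γ(S, V)] Γ(fibPow f n, W) := fun σ =>
    (θA.toLinearMap.comp (PiTensorProduct.reindex Γ(S, V) (fun _ : Fin n => Γ(X, U)) σ.down⁻¹).toLinearMap).comp
      θA.symm.toLinearMap
  have hσA : ∀ σ t, σA σ t = ((permHom f n σ.down).appLE W W (permHom_preimage_pow f n U σ.down).ge).hom t := by
    intro σ t
    have h := hθσ σ.down⁻¹ (θA.symm t)
    refine h.symm.trans ?_
    rw [show θ (θA.symm t) = t from θA.apply_symm_apply t]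
    exact congr(($(SGA1Q.appLE_congr_hom (show permHom f n σ.down⁻¹⁻¹ = permHom f n σ.down by rw [inv_inv]) _ _)).hom t)
  have hdec : ι.toLinearMap = θA.toLinearMap.comp ((PolLib.invSub Γ(S, V) Γ(X, U) n).subtype.comp β.toLinearMap) :=
    LinearMap.ext fun t => (hθβ t).symm
  have key := invariants_of_tensor (A₁ := Γ(S', V')) ι (q'.appLE O (q' ⁻¹ᵁ O) le_rfl).hom ?_ ?_ σA
    (fun σ => ((permActU (pullback.snd f b) n σ).hom.appLE (q' ⁻¹ᵁ O) (q' ⁻¹ᵁ O)
      (SGA1.preimage_le_of_inv (permActU (pullback.snd f b) n) q' hinv σ O)).hom) ?_ ?_ ?_ ?_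
  · have happ : q'.app O = q'.appLE O (q' ⁻¹ᵁ O) le_rfl := Scheme.Hom.app_eq_appLE q'
    rw [happ]
    exact key
  · intro a
    have h : (pullback.snd g b).appLE V' O l₂ ≫ q'.appLE O (q' ⁻¹ᵁ O) le_rfl = base'.appLE V' (q' ⁻¹ᵁ O) m₂ := by
      rw [Scheme.Hom.appLE_comp_appLE]
      exact SGA1Q.appLE_congr_hom hq'₂ _ _
    exact congr(($h).hom a)
  · intro t
    have h : (pullback.fst g b).appLE W' O l₁ ≫ q'.appLE O (q' ⁻¹ᵁ O) le_rfl =
        q.appLE W' W hpre.ge ≫ c.appLE W (q' ⁻¹ᵁ O) m₁ := by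
      rw [Scheme.Hom.appLE_comp_appLE, Scheme.Hom.appLE_comp_appLE]
      exact SGA1Q.appLE_congr_hom hq'₁ _ _
    exact congr(($h).hom t)
  · intro σ a
    have h : base'.appLE V' (q' ⁻¹ᵁ O) m₂ ≫ (permActU (pullback.snd f b) n σ).hom.appLE (q' ⁻¹ᵁ O) (q' ⁻¹ᵁ O)
        (SGA1.preimage_le_of_inv (permActU (pullback.snd f b) n) q' hinv σ O) = base'.appLE V' (q' ⁻¹ᵁ O) m₂ := by
      rw [Scheme.Hom.appLE_comp_appLE]
      exact SGA1Q.appLE_congr_hom (permHom_base (pullback.snd f b) n σ.down) _ _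
    exact congr(($h).hom a)
  · intro σ t
    have h : c.appLE W (q' ⁻¹ᵁ O) m₁ ≫ (permActU (pullback.snd f b) n σ).hom.appLE (q' ⁻¹ᵁ O) (q' ⁻¹ᵁ O)
        (SGA1.preimage_le_of_inv (permActU (pullback.snd f b) n) q' hinv σ O) =
        (permHom f n σ.down).appLE W W (permHom_preimage_pow f n U σ.down).ge ≫ c.appLE W (q' ⁻¹ᵁ O) m₁ := by
      rw [Scheme.Hom.appLE_comp_appLE, Scheme.Hom.appLE_comp_appLE]
      exact SGA1Q.appLE_congr_hom (hperm σ.down) _ _
    refine congr(($h).hom t).trans ?_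
    rw [hσA]
    rfl
  · rw [hdec, LinearMap.lTensor_comp, LinearMap.lTensor_comp]
    exact (θA.toLinearEquiv.lTensor Γ(S', V')).injective.comp
      ((SymTenBC.lTensor_subtype_injective (M := Γ(X, U)) (S := Γ(S', V'))).comp
        (β.lTensor Γ(S', V')).injective)
  · intro z hz
    obtain ⟨w, rfl⟩ := (θA.toLinearEquiv.lTensor Γ(S', V')).surjective z
    obtain ⟨x, hx⟩ := SymTenBC.exists_eq_lTensor_of_invariant (M := Γ(X, U)) w fun σ => by
      refine (θA.toLinearEquiv.lTensor Γ(S', V')).injective ?_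
      refine Eq.trans ?_ (hz ⟨σ⁻¹⟩)
      show θA.toLinearEquiv.toLinearMap.lTensor _ _ = (σA ⟨σ⁻¹⟩).lTensor _ (θA.toLinearEquiv.toLinearMap.lTensor _ w)
      rw [← LinearMap.lTensor_comp_apply, ← LinearMap.lTensor_comp_apply]
      congr 2
      refine LinearMap.ext fun t => ?_
      show θA _ = θA (PiTensorProduct.reindex Γ(S, V) (fun _ : Fin n => Γ(X, U)) σ⁻¹⁻¹ (θA.symm (θA t)))
      rw [AlgEquiv.symm_apply_apply, inv_inv]
      rfl
    obtain ⟨y, rfl⟩ := (β.lTensor Γ(S', V')).surjective x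
    refine ⟨y, ?_⟩
    rw [hdec, LinearMap.lTensor_comp_apply, LinearMap.lTensor_comp_apply]
    show θA.toLinearEquiv.toLinearMap.lTensor _ _ = θA.toLinearEquiv.toLinearMap.lTensor _ w
    rw [← hx]
    rfl

end Groth.Agent.H23.SymBC
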