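import Groth.Agent.H23.SymCompare
import Groth.Agent.H23.SymBC

/-!
The comparison morphism of symmetric products along an arbitrary base change.
-/

set_option autoImplicit false
set_option backward.isDefEq.respectTransparency false
set_option linter.style.haveILetI false
set_option maxHeartbeats 800000

universe u

open CategoryTheory CategoryTheory.Limits AlgebraicGeometry TopologicalSpace
open scoped TensorProduct

namespace Groth.Agent.H23.SymBaseChange

open SymProd InvLoc SymBox SymCore SymCompare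

theorem main {X S S' Y Y' : Scheme.{u}} (f : X ⟶ S) (d : ℕ)
    (q : fibPow f d ⟶ Y) (g : Y ⟶ S) (hq : IsSymProd f d q g)
    (gS : S' ⟶ S)
    (ρ' : ULift.{u} (Equiv.Perm (Fin d)) →* Aut (pullback (WidePullback.base fun _ : Fin d => f) gS))
    (hρ' : ∀ σ, (ρ' σ).hom ≫ pullback.fst (WidePullback.base fun _ : Fin d => f) gS =
        pullback.fst (WidePullback.base fun _ : Fin d => f) gS ≫ permHom f d σ.down ∧
      (ρ' σ).hom ≫ pullback.snd (WidePullback.base fun _ : Fin d => f) gS =
        pullback.snd (WidePullback.base fun _ : Fin d => f) gS)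
    (r : pullback (WidePullback.base fun _ : Fin d => f) gS ⟶ Y') (hr : SGA1.IsQuot ρ' r)
    (m : Y' ⟶ pullback g gS)
    (hm : r ≫ m = pullback.map (WidePullback.base fun _ : Fin d => f) gS g gS q (𝟙 S') (𝟙 S)
      ((Category.comp_id _).trans hq.over.symm) ((Category.comp_id gS).trans (Category.id_comp gS).symm)) :
    (∀ y : Y', IsIso (m.residueFieldMap y)) ∧
    ((∀ n : ℕ, 0 < n → IsUnit ((n : ℕ) : Γ(S', ⊤))) → IsIso m) ∧
    (Flat (pullback.snd f gS) → IsClosedImmersion m) := by
  classical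
  let f' := pullback.snd f gS
  let h := pullback.fst f gS
  have w : h ≫ f = f' ≫ gS := pullback.condition
  haveI : IsClosedImmersion (pullback.lift h f' w) := by
    have : pullback.lift h f' w = 𝟙 _ := pullback.hom_ext (by simp [h, f']) (by simp [h, f'])
    rw [this]
    infer_instance
  let c := powMap f d f' gS h w
  let β' := WidePullback.base (fun _ : Fin d => f')
  have hpb : IsPullback c β' (WidePullback.base (fun _ : Fin d => f)) gS :=
    SymBC.isPullback_fibPow f gS (powMap_π f f' gS h w) (powMap_base f f' gS h w)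
  let e := hpb.isoPullback
  let r' := e.hom ≫ r
  let g' := m ≫ pullback.snd g gS
  have hperm : ∀ σ : ULift.{u} (Equiv.Perm (Fin d)), (permActU f' d σ).hom ≫ e.hom = e.hom ≫ (ρ' σ).hom := fun σ => by
    refine pullback.hom_ext ?_ ?_
    · rw [Category.assoc, IsPullback.isoPullback_hom_fst, Category.assoc, (hρ' σ).1,
        IsPullback.isoPullback_hom_fst_assoc, permActU_hom]
      exact permHom_powMap f f' gS h w σ.down
    · rw [Category.assoc, IsPullback.isoPullback_hom_snd, Category.assoc, (hρ' σ).2,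
        IsPullback.isoPullback_hom_snd, permActU_hom]
      exact permHom_base f' d σ.down
  have hr' : IsSymProd f' d r' g' := by
    refine ⟨isQuot_comp_iso hr e hperm, ?_⟩
    show (e.hom ≫ r) ≫ m ≫ pullback.snd g gS = _
    rw [Category.assoc, reassoc_of% hm, pullback.lift_snd, Category.comp_id, IsPullback.isoPullback_hom_snd]
  have hμ : r' ≫ m ≫ pullback.fst g gS = c ≫ q := by
    show (e.hom ≫ r) ≫ _ = _
    rw [Category.assoc, reassoc_of% hm, pullback.lift_fst, IsPullback.isoPullback_hom_fst_assoc]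
  have hν : m ≫ pullback.snd g gS = g' := rfl
  have hM : ∀ y : ↥(pullback g gS),
      ∃ C : MChart gS (g := g) (μ := pullback.fst g gS) (ν := pullback.snd g gS), y ∈ C.open := fun y => by
    obtain ⟨V, hV, hyV, -⟩ := exists_isAffineOpen_mem_and_subset (x := g (pullback.fst g gS y)) (U := ⊤) trivial
    obtain ⟨W, hW, hyW, hWV⟩ := exists_isAffineOpen_mem_and_subset (x := pullback.fst g gS y) (U := g ⁻¹ᵁ V) hyV
    obtain ⟨V', hV', hyV', hVb⟩ := exists_isAffineOpen_mem_and_subset (x := pullback.snd g gS y) (U := gS ⁻¹ᵁ V) (by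
      show gS (pullback.snd g gS y) ∈ V
      rw [← Scheme.Hom.comp_apply, ← pullback.condition, Scheme.Hom.comp_apply]
      exact hyV)
    refine ⟨⟨V, V', W, hV, hV', hW, hVb, hWV, ?_⟩, hyW, hyV'⟩
    haveI : IsAffine W.toScheme := hW
    haveI : IsAffine V'.toScheme := hV'
    haveI : IsAffine V.toScheme := hV
    let m' := pullback.map (g.resLE V W hWV) (gS.resLE V V' hVb) g gS W.ι V'.ι V.ι
      (Scheme.Hom.resLE_comp_ι g hWV) (Scheme.Hom.resLE_comp_ι gS hVb)
    have : m'.opensRange = pullback.fst g gS ⁻¹ᵁ W ⊓ pullback.snd g gS ⁻¹ᵁ V' := by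
      refine Opens.ext ?_
      show Set.range m' = _
      rw [Scheme.Pullback.range_map, Scheme.Opens.range_ι, Scheme.Opens.range_ι]
      rfl
    rw [← this]
    exact isAffineOpen_opensRange m'
  refine ⟨fun y => SymCompare.isIso_residueFieldMap hq hr' hμ hν hM y, fun hu => ?_, fun hflat => ?_⟩
  · refine SymCompare.isIso_of_tame hq hr' hμ hν hu fun y => ?_
    obtain ⟨C, hC⟩ := hM y
    refine ⟨C, hC, ?_⟩
    haveI := hq.isQuot.affine
    let O := q ⁻¹ᵁ C.W
    let O' := preim f f' gS h w O C.V'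
    have hOV := SymApply.preimage_le_base hq C.hWV
    have hpre : O' = r' ⁻¹ᵁ (m ⁻¹ᵁ C.open) := preimage_chart hr' hμ hν C
    have hpo₁ := (isIso_pushoutSection_iff (IsPullback.of_hasPullback g gS) (US := C.V) (UT := C.V') (UX := C.W)
      C.hVb C.hWV (UY := C.open) rfl).1
      (isIso_pushoutSection_of_isAffineOpen (IsPullback.of_hasPullback g gS) C.hVb C.hWV rfl C.hV C.hV' C.hW)
    have hpo₂ := (isIso_pushoutSection_iff hpb (US := C.V) (UT := C.V') (UX := O) C.hVb hOV (UY := O') rfl).1
      (isIso_pushoutSection_of_isAffineOpen hpb C.hVb hOV rfl C.hV C.hV' (C.hW.preimage q))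
    have l₁ : C.open ≤ pullback.fst g gS ⁻¹ᵁ C.W := inf_le_left
    have l₂ : C.open ≤ pullback.snd g gS ⁻¹ᵁ C.V' := inf_le_right
    have k₁ : O' ≤ c ⁻¹ᵁ O := inf_le_left
    have k₂ : O' ≤ β' ⁻¹ᵁ C.V' := inf_le_right
    letI := (g.appLE C.V C.W C.hWV).hom.toAlgebra
    letI := (gS.appLE C.V C.V' C.hVb).hom.toAlgebra
    letI := secAlg (WidePullback.base (fun _ : Fin d => f)) hOV
    letI := ((pullback.fst g gS).appLE C.W C.open l₁).hom.toAlgebra
    letI := ((pullback.snd g gS).appLE C.V' C.open l₂).hom.toAlgebra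
    letI := (c.appLE O O' k₁).hom.toAlgebra
    letI := (β'.appLE C.V' O' k₂).hom.toAlgebra
    letI := (((pullback.fst g gS).appLE C.W C.open l₁).hom.comp (g.appLE C.V C.W C.hWV).hom).toAlgebra
    letI := ((c.appLE O O' k₁).hom.comp ((WidePullback.base (fun _ : Fin d => f)).appLE C.V O hOV).hom).toAlgebra
    haveI : IsScalarTower Γ(S, C.V) Γ(Y, C.W) Γ(pullback g gS, C.open) := IsScalarTower.of_algebraMap_eq' rfl
    haveI : IsScalarTower Γ(S, C.V) Γ(S', C.V') Γ(pullback g gS, C.open) :=
      IsScalarTower.of_algebraMap_eq' (congrArg CommRingCat.Hom.hom hpo₁.w)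
    haveI : Algebra.IsPushout Γ(S, C.V) Γ(S', C.V') Γ(Y, C.W) Γ(pullback g gS, C.open) :=
      CommRingCat.isPushout_iff_isPushout.1 hpo₁.flip
    haveI : IsScalarTower Γ(S, C.V) Γ(fibPow f d, O) Γ(fibPow f' d, O') := IsScalarTower.of_algebraMap_eq' rfl
    haveI : IsScalarTower Γ(S, C.V) Γ(S', C.V') Γ(fibPow f' d, O') :=
      IsScalarTower.of_algebraMap_eq' (congrArg CommRingCat.Hom.hom hpo₂.w)
    haveI : Algebra.IsPushout Γ(S, C.V) Γ(S', C.V') Γ(fibPow f d, O) Γ(fibPow f' d, O') :=
      CommRingCat.isPushout_iff_isPushout.1 hpo₂.flip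
    let eB := Algebra.IsPushout.equiv Γ(S, C.V) Γ(S', C.V') Γ(Y, C.W) Γ(pullback g gS, C.open)
    let eT := Algebra.IsPushout.equiv Γ(S, C.V) Γ(S', C.V') Γ(fibPow f d, O) Γ(fibPow f' d, O')
    let ι := SymApply.chartHom hq C.hWV
    let σ := secAct (powAct f d) hOV (SymApply.permHom_preimage hq)
    have hcard : IsUnit (Fintype.card (Equiv.Perm (Fin d)) : Γ(S', C.V')) := by
      rw [Fintype.card_perm, Fintype.card_fin]
      exact SymApply.isUnit_factorial hu _ d
    have hinj := SymApply.lTensor_injective_of_range σ (SymApply.chartHom_injective hq C.hWV)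
      (SymApply.mem_range_chartHom hq C.hWV) Γ(S', C.V') (inj_of_isUnit_card hcard)
    let ψ := m.app C.open ≫ r'.appLE (m ⁻¹ᵁ C.open) O' hpre.le
    have hcomm : ∀ x, ψ.hom (eB x) = eT (Algebra.TensorProduct.map (AlgHom.id Γ(S', C.V') Γ(S', C.V')) ι x) := by
      intro x
      induction x using TensorProduct.induction_on with
      | zero => simp
      | tmul a y =>
        rw [Algebra.IsPushout.equiv_tmul, map_mul, Algebra.TensorProduct.map_tmul, Algebra.IsPushout.equiv_tmul]
        have e₁ : (pullback.fst g gS).appLE C.W C.open l₁ ≫ ψ = q.appLE C.W O le_rfl ≫ c.appLE O O' k₁ := by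
          rw [show ψ = m.app C.open ≫ _ from rfl, Scheme.Hom.app_eq_appLE, ← Category.assoc,
            Scheme.Hom.appLE_comp_appLE, Scheme.Hom.appLE_comp_appLE, Scheme.Hom.appLE_comp_appLE]
          exact SGA1Q.appLE_congr_hom hμ _ _
        have e₂ : (pullback.snd g gS).appLE C.V' C.open l₂ ≫ ψ = β'.appLE C.V' O' k₂ := by
          rw [show ψ = m.app C.open ≫ _ from rfl, Scheme.Hom.app_eq_appLE, ← Category.assoc,
            Scheme.Hom.appLE_comp_appLE, Scheme.Hom.appLE_comp_appLE]
          exact SGA1Q.appLE_congr_hom hr'.over _ _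
        exact congrArg₂ (· * ·) congr(($e₂).hom a) congr(($e₁).hom y)
      | add a y ha hy => simp only [map_add, ha, hy]
    have hψ : Function.Injective ψ.hom := fun a a' haa => by
      obtain ⟨a, rfl⟩ := eB.surjective a
      obtain ⟨a', rfl⟩ := eB.surjective a'
      rw [hcomm, hcomm] at haa
      rw [hinj (eT.injective haa)]
    exact fun a a' haa => hψ (congrArg (r'.appLE (m ⁻¹ᵁ C.open) O' hpre.le).hom haa)
  · haveI := hflat
    exact SymCompare.isClosedImmersion_of_flat hq hr' hμ hν hM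

end Groth.Agent.H23.SymBaseChange
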