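import Mathlib.Algebra.Polynomial.Roots
import Mathlib.RingTheory.Polynomial.Vieta
import Mathlib.RingTheory.Adjoin.Tower
import Mathlib.RingTheory.Adjoin.PowerBasis
import Mathlib.LinearAlgebra.Matrix.NonsingularInverse
import Mathlib.LinearAlgebra.Vandermonde
import Mathlib.Data.Fintype.Perm

/-!
The staircase monomial basis attached to a family of roots of a monic polynomial.
-/

set_option autoImplicit false
set_option maxHeartbeats 1000000
set_option backward.isDefEq.respectTransparency false

universe u v

open Polynomial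

namespace Groth.Agent.H23.SymBasis

/-- The staircase exponents. -/
abbrev Idx (n : ℕ) : Type := (i : Fin n) → Fin (n - (i : ℕ))

theorem card_idx (n : ℕ) : Fintype.card (Idx n) = n.factorial := by
  induction n with
  | zero => simp [Idx]
  | succ n ih =>
    rw [Fintype.card_pi]
    simp only [Fintype.card_fin]
    rw [Fin.prod_univ_succ, Nat.factorial_succ]
    rw [Fintype.card_pi] at ih
    simp only [Fintype.card_fin, Fin.val_zero, Nat.sub_zero, Fin.val_succ, Nat.add_sub_add_right] at ih ⊢
    rw [ih]

variable {B : Type v} [CommRing B]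

/-- The monomial with given exponents. -/
def mon {n : ℕ} (x : Fin n → B) (a : Idx n) : B := ∏ i, x i ^ (a i : ℕ)

theorem mon_succ {n : ℕ} (x : Fin (n + 1) → B) (a : Idx (n + 1)) :
    mon x a = x 0 ^ (a 0 : ℕ) *
      mon (fun i => x i.succ) (fun i => (a i.succ).cast (by simp)) := by
  rw [mon, Fin.prod_univ_succ]
  rfl

/-- A vanishing combination of powers at `n` points with regular differences is trivial. -/
theorem vandermonde_eq_zero {n : ℕ} (x : Fin n → B) (hx : ∀ i j, i ≠ j → x i - x j ∈ nonZeroDivisors B)
    (c : Fin n → B) (h : ∀ j, ∑ e : Fin n, c e * x j ^ (e : ℕ) = 0) : c = 0 := by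
  classical
  have hdet : (Matrix.vandermonde x).det ∈ nonZeroDivisors B := by
    rw [Matrix.det_vandermonde]
    refine prod_mem fun i _ => prod_mem fun j hj => hx j i ?_
    exact (Finset.mem_Ioi.1 hj).ne'
  have hv : (Matrix.vandermonde x).mulVec c = 0 := funext fun j => by
    rw [Pi.zero_apply, ← h j]
    simp only [Matrix.mulVec, dotProduct, Matrix.vandermonde_apply, mul_comm]
  have h2 : (Matrix.vandermonde x).adjugate.mulVec ((Matrix.vandermonde x).mulVec c) = 0 := by
    rw [hv, Matrix.mulVec_zero]
  rw [Matrix.mulVec_mulVec, Matrix.adjugate_mul, Matrix.smul_mulVec, Matrix.one_mulVec] at h2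
  refine funext fun e => ?_
  have h3 := congr_fun h2 e
  rw [Pi.smul_apply, smul_eq_mul, Pi.zero_apply, mul_comm] at h3
  exact (mul_right_mem_nonZeroDivisors_eq_zero_iff hdet).1 h3

/-- The monomials are independent against all permutations of the points. -/
theorem eq_zero_of_forall_perm {n : ℕ} (x : Fin n → B) (hx : ∀ i j, i ≠ j → x i - x j ∈ nonZeroDivisors B)
    (r : Idx n → B) (h : ∀ g : Equiv.Perm (Fin n), ∑ a, r a * mon (fun i => x (g i)) a = 0) : r = 0 := by
  classical
  induction n with
  | zero =>
    refine funext fun a => ?_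
    have h1 := h 1
    rw [Fintype.sum_subsingleton _ a] at h1
    simpa [mon] using h1
  | succ n ih =>
    let E : Idx (n + 1) ≃ Fin (n + 1) × Idx n :=
      (Fin.consEquiv (fun i : Fin (n + 1) => Fin (n + 1 - (i : ℕ)))).symm.trans
        (Equiv.prodCongr (Equiv.refl _) (Equiv.piCongrRight fun i => finCongr (by simp)))
    have hmon : ∀ (y : Fin (n + 1) → B) p, mon y (E.symm p) = y 0 ^ (p.1 : ℕ) * mon (fun i => y i.succ) p.2 := by
      intro y p
      conv_rhs => rw [← E.apply_symm_apply p]
      exact mon_succ y (E.symm p)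
    have hfix : ∀ (j : Fin (n + 1)) (a' : Idx n), ∑ e : Fin (n + 1), r (E.symm (e, a')) * x j ^ (e : ℕ) = 0 := by
      intro j
      refine congr_fun (ih (fun i => x (j.succAbove i))
        (fun i k hik => hx _ _ fun he => hik (Fin.succAbove_right_injective he))
        (fun a' => ∑ e : Fin (n + 1), r (E.symm (e, a')) * x j ^ (e : ℕ)) fun g => ?_)
      let g' : Equiv.Perm (Fin (n + 1)) :=
        (finSuccEquiv n).trans ((g.optionCongr).trans (finSuccEquiv' j).symm)
      have hg0 : g' 0 = j := by simp [g']
      have hgs : ∀ i, g' i.succ = j.succAbove (g i) := fun i => by simp [g']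
      rw [← h g', ← E.symm.sum_comp, Fintype.sum_prod_type, Finset.sum_comm]
      refine Finset.sum_congr rfl fun a' _ => ?_
      rw [Finset.sum_mul]
      refine Finset.sum_congr rfl fun e _ => ?_
      rw [hmon, hg0]
      simp only [hgs]
      ring
    refine funext fun a => ?_
    have h1 := congr_fun (vandermonde_eq_zero x hx (fun e => r (E.symm (e, (E a).2)))
      fun j => hfix j (E a).2) (E a).1
    simpa using h1

variable {C : Type v} [CommRing C] [Algebra C B]

/-- The subalgebra generated by the roots of a monic polynomial is spanned by the staircase monomials. -/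
theorem adjoin_le_span {n : ℕ} (x : Fin n → B)
    (p : C[X]) (hp : p.map (algebraMap C B) = ∏ i, (X - Polynomial.C (x i))) :
    ∀ b ∈ Algebra.adjoin C (Set.range x), b ∈ Submodule.span C (Set.range (mon x)) := by
  induction n generalizing C with
  | zero =>
    intro b hb
    rw [Set.range_eq_empty, Algebra.adjoin_empty] at hb
    obtain ⟨c, rfl⟩ := Algebra.mem_bot.1 hb
    rw [Algebra.algebraMap_eq_smul_one]
    exact Submodule.smul_mem _ _ (Submodule.subset_span ⟨fun i => i.elim0, by simp [mon]⟩)
  | succ n ih =>
    nontriviality B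
    haveI : Nontrivial C := (algebraMap C B).domain_nontrivial
    intro b hb
    let C' := Algebra.adjoin C ({x 0} : Set B)
    have hx0 : x 0 ∈ C' := Algebra.self_mem_adjoin_singleton C (x 0)
    let z : C' := ⟨x 0, hx0⟩
    have hroot : Polynomial.aeval (x 0) p = 0 := by
      rw [← Polynomial.eval_map_algebraMap, hp, Polynomial.eval_prod]
      exact Finset.prod_eq_zero (Finset.mem_univ 0) (by simp)
    obtain ⟨p', hp'⟩ : (X - Polynomial.C z) ∣ p.map (algebraMap C C') := by
      rw [Polynomial.dvd_iff_isRoot, Polynomial.IsRoot, Polynomial.eval_map_algebraMap]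
      refine Subtype.ext ?_
      show C'.val (Polynomial.aeval z p) = 0
      rw [← Polynomial.aeval_algHom_apply]
      exact hroot
    have hp'' : p'.map (algebraMap C' B) = ∏ i : Fin n, (X - Polynomial.C (x (Fin.succ i))) := by
      have h1 := congrArg (Polynomial.map (algebraMap C' B)) hp'
      rw [Polynomial.map_map, ← IsScalarTower.algebraMap_eq, hp, Fin.prod_univ_succ, Polynomial.map_mul,
        Polynomial.map_sub, Polynomial.map_X, Polynomial.map_C] at h1
      exact ((Polynomial.monic_X_sub_C (x 0)).isRegular.left h1).symm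
    have hb' : b ∈ Algebra.adjoin C' (Set.range fun i : Fin n => x i.succ) := by
      rw [← Subalgebra.mem_restrictScalars C, ← Algebra.adjoin_union_eq_adjoin_adjoin]
      refine Algebra.adjoin_mono ?_ hb
      rintro _ ⟨i, rfl⟩
      refine Fin.cases ?_ (fun i => ?_) i
      · exact Or.inl rfl
      · exact Or.inr ⟨i, rfl⟩
    have h2 := ih (fun i : Fin n => x i.succ) p' hp'' b hb'
    have hpow : ∀ c ∈ C', c ∈ Submodule.span C (Set.range fun e : Fin (n + 1) => x 0 ^ (e : ℕ)) := by
      intro c hc
      simp only [C', Algebra.adjoin_singleton_eq_range_aeval] at hc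
      obtain ⟨f, rfl⟩ := hc
      have hmon : (p.map (algebraMap C B)).Monic := by
        rw [hp]
        exact Polynomial.monic_prod_of_monic _ _ fun i _ => Polynomial.monic_X_sub_C _
      have hdeg : (p.map (algebraMap C B)).natDegree = n + 1 := by
        rw [hp, Polynomial.natDegree_finsetProd_X_sub_C_eq_card, Finset.card_univ, Fintype.card_fin]
      obtain ⟨p₀, hp₀, hp₀d, hp₀m⟩ := Polynomial.lifts_and_degree_eq_and_monic
        ((Polynomial.mem_lifts _).2 ⟨p, rfl⟩) hmon
      have hdeg₀ : p₀.natDegree = n + 1 := by rw [← hdeg, Polynomial.natDegree_eq_of_degree_eq hp₀d]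
      have hroot₀ : Polynomial.aeval (x 0) p₀ = 0 := by
        rw [← Polynomial.eval_map_algebraMap, hp₀, Polynomial.eval_map_algebraMap, hroot]
      show Polynomial.aeval (x 0) f ∈ _
      rw [← Polynomial.modByMonic_add_div f p₀, map_add, map_mul, hroot₀, zero_mul, add_zero,
        Polynomial.aeval_eq_sum_range' (n := n + 1)]
      · exact Submodule.sum_mem _ fun k hk =>
          Submodule.smul_mem _ _ (Submodule.subset_span ⟨⟨k, Finset.mem_range.1 hk⟩, rfl⟩)
      · have := Polynomial.natDegree_modByMonic_lt f hp₀m fun h => by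
          rw [h, Polynomial.natDegree_one] at hdeg₀; omega
        omega
    obtain ⟨c, rfl⟩ := (Submodule.mem_span_range_iff_exists_fun C').1 h2
    refine Submodule.sum_mem _ fun a _ => ?_
    obtain ⟨c', hc'⟩ := (Submodule.mem_span_range_iff_exists_fun C).1 (hpow _ (c a).2)
    rw [Subalgebra.smul_def, smul_eq_mul, ← hc', Finset.sum_mul]
    refine Submodule.sum_mem _ fun e _ => ?_
    rw [smul_mul_assoc]
    refine Submodule.smul_mem _ _ (Submodule.subset_span
      ⟨Fin.cons (α := fun i : Fin (n + 1) => Fin (n + 1 - (i : ℕ))) e fun i => (a i).cast (by simp), ?_⟩)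
    rw [mon_succ]
    simp [mon]

/-- The staircase monomials form a basis. -/
theorem exists_basis {n : ℕ} (x : Fin n → B) (hinj : Function.Injective (algebraMap C B))
    (p : C[X]) (hp : p.map (algebraMap C B) = ∏ i, (X - Polynomial.C (x i)))
    (hx : ∀ i j, i ≠ j → x i - x j ∈ nonZeroDivisors B)
    (hσ : ∀ g : Equiv.Perm (Fin n), ∃ σ : B →ₐ[C] B, ∀ i, σ (x i) = x (g i))
    (hgen : Algebra.adjoin C (Set.range x) = ⊤) :
    ∃ b : Module.Basis (Idx n) C B, ∀ a, b a = mon x a := by
  classical
  have hli : LinearIndependent C (mon x) := by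
    refine Fintype.linearIndependent_iff.2 fun c hc a => hinj ?_
    rw [map_zero]
    refine congr_fun (eq_zero_of_forall_perm x hx (fun a => algebraMap C B (c a)) fun g => ?_) a
    obtain ⟨σ, hσ⟩ := hσ g
    have h1 := congrArg σ hc
    rw [map_zero, map_sum] at h1
    rw [← h1]
    refine Finset.sum_congr rfl fun a _ => ?_
    rw [map_smul, Algebra.smul_def, mon, mon, map_prod]
    simp only [map_pow, hσ]
  exact ⟨Module.Basis.mk hli fun b _ => adjoin_le_span x p hp b (hgen ▸ Algebra.mem_top),
    fun a => Module.Basis.mk_apply hli _ a⟩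

end Groth.Agent.H23.SymBasis
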