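import Groth.Agent.H23.InvLoc
import Groth.Agent.H23.SymTenBC
import Groth.Agent.PolLib.FinPres
import Mathlib.RingTheory.Flat.Basic

/-!
Invariant tensors are generated, up to base change, by those of any spanning set.
-/

set_option autoImplicit false
set_option linter.style.haveILetI false

universe u

open scoped TensorProduct

namespace Groth.Agent.H23.SymSpan

open InvLoc PolLib

section Act

variable (R B : Type u) [CommRing R] [CommRing B] [Algebra R B] (d : ℕ)

theorem perm_one : SymTen.perm R B d 1 = AlgHom.id R _ :=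
  PiTensorProduct.algHom_ext fun i => AlgHom.ext fun b => by
    rw [AlgHom.comp_apply, AlgHom.comp_apply, AlgHom.id_apply, PiTensorProduct.singleAlgHom_apply,
      SymTen.perm_tprod]
    rfl

theorem perm_mul (σ τ : Equiv.Perm (Fin d)) :
    (SymTen.perm R B d σ).comp (SymTen.perm R B d τ) = SymTen.perm R B d (σ * τ) :=
  PiTensorProduct.algHom_ext fun i => AlgHom.ext fun b => by
    simp only [AlgHom.comp_apply, PiTensorProduct.singleAlgHom_apply, SymTen.perm_tprod]
    rfl

/-- The symmetric group acting on the tensor power by algebra automorphisms. -/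
noncomputable def permAlg : Equiv.Perm (Fin d) →* ((⨂[R] _ : Fin d, B) ≃ₐ[R] (⨂[R] _ : Fin d, B)) where
  toFun σ := AlgEquiv.ofAlgHom (SymTen.perm R B d σ) (SymTen.perm R B d σ⁻¹)
    (by rw [perm_mul, mul_inv_cancel, perm_one]) (by rw [perm_mul, inv_mul_cancel, perm_one])
  map_one' := AlgEquiv.ext fun x => DFunLike.congr_fun (perm_one R B d) x
  map_mul' σ τ := AlgEquiv.ext fun x => (DFunLike.congr_fun (perm_mul R B d σ τ) x).symm

variable {R B d}

theorem permAlg_apply (σ : Equiv.Perm (Fin d)) (x : ⨂[R] _ : Fin d, B) :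
    permAlg R B d σ x = SymTen.perm R B d σ x := rfl

theorem mem_inv_permAlg {x : ⨂[R] _ : Fin d, B} :
    x ∈ InvLoc.inv (permAlg R B d) ↔ ∀ σ, PiTensorProduct.reindex R (fun _ : Fin d => B) σ x = x :=
  forall_congr' fun σ => by rw [permAlg_apply, SymTen.perm_apply]

theorem toSubmodule_inv_permAlg :
    Subalgebra.toSubmodule (InvLoc.inv (permAlg R B d)) = invSub R B d :=
  Submodule.ext fun _ => mem_inv_permAlg.trans mem_invSub.symm

theorem mem_TS_iff_mem_inv {x : ⨂[R] _ : Fin d, B} :
    x ∈ SymTen.TS R B d ↔ x ∈ InvLoc.inv (permAlg R B d) := mem_inv_permAlg.symm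

variable {R' B' : Type u} [CommRing R'] [Algebra R R'] [CommRing B'] [Algebra R B'] [Algebra R' B']
  [IsScalarTower R R' B'] (Φ : B →ₐ[R] B')

theorem tpMap_perm (σ : Equiv.Perm (Fin d)) (x : ⨂[R] _ : Fin d, B) :
    tpMap R' Φ d (permAlg R B d σ x) = permAlg R' B' d σ (tpMap R' Φ d x) := by
  rw [permAlg_apply, permAlg_apply]
  induction x using PiTensorProduct.induction_on with
  | smul_tprod r f =>
    simp only [map_smul, SymTen.perm_tprod, tpMap_tprod]
    rw [← algebraMap_smul R' r (PiTensorProduct.tprod R' fun k => Φ (f k)), map_smul, SymTen.perm_tprod,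
      algebraMap_smul]
  | add x y hx hy => simp only [map_add, hx, hy]

/-- If `B'` is flat and spanned by the image of `B`, its symmetric tensors come from those of `B`. -/
theorem surj_tensor [Module.Flat R' B'] (hΦ : Submodule.span R' (Set.range Φ) = ⊤) :
    Surj (tpMap R' Φ d).toRingHom (permAlg R B d) (permAlg R' B' d) := by
  classical
  intro y hy
  obtain ⟨n, g, t, ht, hgt⟩ := exists_invariant_lift_family (fun _ : Fin 1 => y)
    fun _ σ => mem_inv_permAlg.1 hy σ
  choose c hc using fun a => (Finsupp.mem_span_range_iff_exists_finsupp.1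
    (show g (Pi.basisFun R' (Fin n) a) ∈ Submodule.span R' (Set.range Φ) by rw [hΦ]; trivial))
  let s : Finset B := Finset.univ.biUnion fun a => (c a).support
  let e := s.equivFin
  let g' : (Fin s.card → R') →ₗ[R'] B' := (Pi.basisFun R' _).constr R' fun k => Φ (e.symm k)
  let h : (Fin n → R') →ₗ[R'] (Fin s.card → R') :=
    (Pi.basisFun R' _).constr R' fun a => ∑ k, c a (e.symm k) • Pi.basisFun R' _ k
  have hg : g'.comp h = g := (Pi.basisFun R' (Fin n)).ext fun a => by
    simp only [h, g', LinearMap.comp_apply, Module.Basis.constr_basis, map_sum, map_smul]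
    rw [← hc a, e.symm.sum_comp (fun x : s => c a x • Φ x), Finset.sum_coe_sort s (fun x => c a x • Φ x),
      Finsupp.sum_of_support_subset _ (s := s) (Finset.subset_biUnion_of_mem (fun a => (c a).support)
        (Finset.mem_univ a)) _ (fun i _ => by simp)]
  have : Finite (Orb (Fin s.card) d) := Finite.of_surjective cls cls_surjective
  let _ := Fintype.ofFinite (Orb (Fin s.card) d)
  have hy' : y = tp d g' (tp d h (t 0)) := by
    rw [← LinearMap.comp_apply, ← tp_comp, hg, hgt]
  rw [hy', eq_sum_orb (tp d h (t 0)) (fun σ => by rw [← tp_reindex, ht]), map_sum]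
  refine sum_mem fun q _ => ?_
  rw [map_smul]
  refine Subalgebra.smul_mem _ (Algebra.subset_adjoin ?_) _
  refine ⟨∑ k ∈ fib q, PiTensorProduct.tprod R fun i => ((e.symm (k i) : s) : B), mem_inv_permAlg.2 fun σ => ?_, ?_⟩
  · simp only [map_sum, PiTensorProduct.reindex_tprod]
    refine Finset.sum_nbij' (fun c => c ∘ σ.symm) (fun c => c ∘ σ) ?_ ?_ ?_ ?_ ?_
    · intro c hc
      exact mem_fib.mpr ((cls_comp c σ.symm).trans (mem_fib.mp hc))
    · intro c hc
      exact mem_fib.mpr ((cls_comp c σ).trans (mem_fib.mp hc))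
    · intro c _; funext i; simp
    · intro c _; funext i; simp
    · intro c _; rfl
  · rw [val_orb, map_sum, map_sum]
    refine Finset.sum_congr rfl fun k _ => ?_
    rw [AlgHom.toRingHom_eq_coe, RingHom.coe_coe, tpMap_tprod, beta_apply, tp_tprod]
    simp only [g', Module.Basis.constr_basis]

section Tame

/-- If `d!` is invertible and `B'` is spanned by the image of `B`, its symmetric tensors come from those of `B`. -/
theorem surj_of_card (hΦ : Submodule.span R' (Set.range Φ) = ⊤) (hu : IsUnit ((Nat.factorial d : ℕ) : R')) :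
    Surj (tpMap R' Φ d).toRingHom (permAlg R B d) (permAlg R' B' d) := by
  classical
  refine surj_of_isUnit_card (fun g x => tpMap_perm Φ g x) ?_ (by rwa [Fintype.card_perm, Fintype.card_fin])
  refine eq_top_iff.2 fun y _ => ?_
  set A := Algebra.adjoin R' (Set.range (tpMap R' Φ d).toRingHom) with hA
  have hsingle : ∀ i b', PiTensorProduct.singleAlgHom (R := R') (A := fun _ : Fin d => B') i b' ∈ A := by
    intro i b'
    have hb : b' ∈ Submodule.span R' (Set.range Φ) := hΦ ▸ trivial
    induction hb using Submodule.span_induction with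
    | mem b' hb =>
      obtain ⟨b, rfl⟩ := hb
      refine Algebra.subset_adjoin ⟨PiTensorProduct.singleAlgHom (R := R) (A := fun _ : Fin d => B) i b, ?_⟩
      show tpMap R' Φ d _ = _
      simp only [PiTensorProduct.singleAlgHom_apply, tpMap_tprod, MonoidHom.mulSingle_apply]
      congr 1
      funext j
      exact Pi.apply_mulSingle (fun _ => Φ) (fun _ => map_one Φ) i b j
    | zero => rw [map_zero]; exact zero_mem _
    | add a c _ _ ha hc => rw [map_add]; exact add_mem ha hc
    | smul r a _ ha => rw [map_smul]; exact Subalgebra.smul_mem _ ha r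
  induction y using PiTensorProduct.induction_on with
  | smul_tprod r v =>
    refine Subalgebra.smul_mem _ ?_ r
    have hv : PiTensorProduct.tprod R' v =
        ∏ i, PiTensorProduct.singleAlgHom (R := R') (A := fun _ : Fin d => B') i (v i) := by
      simp only [PiTensorProduct.singleAlgHom_apply, MonoidHom.mulSingle_apply]
      rw [← PiTensorProduct.tprod_prod]
      congr 1
      funext j
      rw [Finset.prod_apply, Finset.prod_eq_single j (fun i _ hi => Pi.mulSingle_eq_of_ne' hi _) (by simp),
        Pi.mulSingle_eq_same]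
    rw [hv]
    exact prod_mem fun i _ => hsingle i (v i)
  | add a c ha hc => exact add_mem (ha trivial) (hc trivial)

end Tame

section Flat

variable (S : Type u) [CommRing S] [Algebra R S] [Module.Flat R B]

theorem inj_base : Inj (permAlg R B d) S := by
  have h : ∀ w, Algebra.TensorProduct.map (AlgHom.id S S) (InvLoc.inv (permAlg R B d)).val w =
      (invSub R B d).subtype.lTensor S
        ((LinearEquiv.ofEq _ _ toSubmodule_inv_permAlg).toLinearMap.lTensor S w) := fun w => by
    induction w using TensorProduct.induction_on with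
    | zero => simp
    | tmul s b => rfl
    | add a b ha hb => simp only [map_add, ha, hb]
  intro a b hab
  rw [h, h] at hab
  exact ((LinearEquiv.ofEq _ _ toSubmodule_inv_permAlg).lTensor S).injective
    (SymTenBC.lTensor_subtype_injective hab)

theorem surj_base : Surj (Algebra.TensorProduct.includeRight : (⨂[R] _ : Fin d, B) →ₐ[R] S ⊗[R] _).toRingHom
    (permAlg R B d) (baseAct (permAlg R B d) S) := by
  intro y hy
  obtain ⟨x, hx⟩ := SymTenBC.exists_eq_lTensor_of_invariant y fun σ => by
    refine Eq.trans ?_ (hy σ)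
    rw [baseAct_apply]
    clear hy
    induction y using TensorProduct.induction_on with
    | zero => simp
    | tmul s t =>
      rw [LinearMap.lTensor_tmul, Algebra.TensorProduct.map_tmul, AlgHom.id_apply]
      exact congrArg _ (SymTen.perm_apply R B d σ t).symm
    | add a b ha hb => simp only [map_add, ha, hb]
  rw [← hx]
  clear hx
  induction x using TensorProduct.induction_on with
  | zero => simp
  | tmul s t =>
    rw [LinearMap.lTensor_tmul,
      show s ⊗ₜ[R] ((invSub R B d).subtype t) = s • ((1 : S) ⊗ₜ[R] t.1) by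
        rw [TensorProduct.smul_tmul', smul_eq_mul, mul_one]; rfl]
    exact Subalgebra.smul_mem _ (Algebra.subset_adjoin
      (s := (Algebra.TensorProduct.includeRight : (⨂[R] _ : Fin d, B) →ₐ[R] S ⊗[R] _).toRingHom ''
        (InvLoc.inv (permAlg R B d) : Set (⨂[R] _ : Fin d, B)))
      ⟨t.1, mem_inv_permAlg.2 (mem_invSub.1 t.2), rfl⟩) s
  | add a b ha hb => rw [map_add]; exact add_mem ha hb

end Flat

section Val

variable {k : Type u} [Field k]

theorem prod_evalProd {κ : Type u} [CommRing κ] [Algebra κ k] (V : Subalgebra κ (Fin d → k)) :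
    ∃ E : (⨂[κ] _ : Fin d, V) →ₐ[κ] k, ∀ f, E (PiTensorProduct.tprod κ f) = ∏ i, (f i).1 i :=
  ⟨PiTensorProduct.liftAlgHom ((MultilinearMap.mkPiAlgebra κ (Fin d) k).compLinearMap fun i =>
      ((Pi.evalAlgHom κ (fun _ : Fin d => k) i).comp V.val).toLinearMap)
    (by simp) (fun x y => by simp [Finset.prod_mul_distrib]), fun f => by simp⟩

/-- Invariant tensors evaluated through an algebra over a larger ring with flat span. -/
theorem val_aux {κ V : Type u} [CommRing κ] [Algebra R κ] [CommRing V] [Algebra R' κ] [IsScalarTower R R' κ]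
    [Algebra κ V] [Algebra R V] [Algebra R' V] [IsScalarTower R κ V] [IsScalarTower R' κ V] [IsScalarTower R R' V]
    [Module.Flat κ V] [Algebra κ k] (φV : B' →ₐ[R'] V)
    (hspan : Submodule.span κ (Set.range ((φV.restrictScalars R).comp Φ)) = ⊤)
    (E : (⨂[κ] _ : Fin d, V) →ₐ[κ] k) (ev : (⨂[R'] _ : Fin d, B') →+* k) (hE : ∀ x, E (tpMap κ φV d x) = ev x)
    (L : Subfield k) (hκ : ∀ c, algebraMap κ k c ∈ L)
    (hL : ∀ x ∈ InvLoc.inv (permAlg R B d), ev (tpMap R' Φ d x) ∈ L)
    {y : ⨂[R'] _ : Fin d, B'} (hy : y ∈ InvLoc.inv (permAlg R' B' d)) : ev y ∈ L := by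
  have hy' : tpMap κ φV d y ∈ InvLoc.inv (permAlg κ V d) := fun σ => by rw [← tpMap_perm, hy σ]
  have hcomp : ∀ x, tpMap κ φV d (tpMap R' Φ d x) = tpMap κ ((φV.restrictScalars R).comp Φ) d x := fun x => by
    induction x using PiTensorProduct.induction_on with
    | smul_tprod r f =>
      simp only [map_smul, tpMap_tprod]
      rw [← algebraMap_smul R' r (PiTensorProduct.tprod R' fun k => Φ (f k)), map_smul, tpMap_tprod,
        algebraMap_smul]
      rfl
    | add x y hx hy => simp only [map_add, hx, hy]
  have h3 := surj_tensor ((φV.restrictScalars R).comp Φ) hspan hy'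
  rw [← hE]
  generalize tpMap κ φV d y = w at h3 ⊢
  induction h3 using Algebra.adjoin_induction with
  | mem z hz =>
    obtain ⟨x, hx, rfl⟩ := hz
    show E (tpMap κ ((φV.restrictScalars R).comp Φ) d x) ∈ L
    rw [← hcomp, hE]
    exact hL x hx
  | algebraMap r => rw [AlgHom.commutes]; exact hκ r
  | add z w _ _ h h' => rw [map_add]; exact add_mem h h'
  | mul z w _ _ h h' => rw [map_mul]; exact mul_mem h h'

theorem val_field {κ : Type u} [Field κ] [Algebra R κ] [Algebra R' κ] [IsScalarTower R R' κ] [Algebra κ k]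
    [Algebra R k] [Algebra R' k] [IsScalarTower R R' k] [IsScalarTower R' κ k] [IsScalarTower R κ k]
    (hΦ : Submodule.span R' (Set.range Φ) = ⊤) (ev : (⨂[R'] _ : Fin d, B') →ₐ[R'] k)
    (L : Subfield k) (hκ : ∀ c, algebraMap κ k c ∈ L)
    (hL : ∀ x ∈ InvLoc.inv (permAlg R B d), ev (tpMap R' Φ d x) ∈ L)
    {y : ⨂[R'] _ : Fin d, B'} (hy : y ∈ InvLoc.inv (permAlg R' B' d)) : ev y ∈ L := by
  classical
  let φ : B' →ₐ[R'] (Fin d → k) := AlgHom.pi fun i =>
    ev.comp (PiTensorProduct.singleAlgHom (R := R') (A := fun _ : Fin d => B') i)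
  obtain ⟨V, hVdef⟩ : ∃ V : Subalgebra κ (Fin d → k), V = Algebra.adjoin κ (φ '' Set.range Φ) := ⟨_, rfl⟩
  have hmem : ∀ b, φ (Φ b) ∈ V := fun b => hVdef ▸ Algebra.subset_adjoin ⟨Φ b, ⟨b, rfl⟩, rfl⟩
  have hV : ∀ b', φ b' ∈ V.restrictScalars R' := fun b' => by
    rw [Subalgebra.mem_restrictScalars]
    have hb : b' ∈ Submodule.span R' (Set.range Φ) := hΦ ▸ trivial
    induction hb using Submodule.span_induction with
    | mem b hb => obtain ⟨b₀, rfl⟩ := hb; exact hmem b₀
    | zero => rw [map_zero]; exact V.zero_mem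
    | add a b _ _ ha hb => rw [map_add]; exact V.add_mem ha hb
    | smul r b _ hb =>
      rw [map_smul, ← algebraMap_smul κ r (φ b)]
      exact V.smul_mem hb _
  let φV : B' →ₐ[R'] V :=
    { toFun := fun b => ⟨φ b, hV b⟩
      map_one' := Subtype.ext (map_one φ)
      map_mul' := fun a b => Subtype.ext (map_mul φ a b)
      map_zero' := Subtype.ext (map_zero φ)
      map_add' := fun a b => Subtype.ext (map_add φ a b)
      commutes' := fun r => Subtype.ext (φ.commutes r) }
  have hspan : Submodule.span κ (Set.range ((φV.restrictScalars R).comp Φ)) = ⊤ := by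
    refine eq_top_iff.2 fun v _ => ?_
    refine Submodule.apply_mem_span_image_iff_mem_span (f := V.val.toLinearMap) Subtype.val_injective |>.1 ?_
    rw [← Set.range_comp, ← show Subalgebra.toSubmodule V = Submodule.span κ (Set.range _) from ?_]
    · exact v.2
    · refine (congrArg Subalgebra.toSubmodule hVdef).trans ?_
      rw [Algebra.adjoin_eq_span]
      refine congrArg _ ?_
      refine (congrArg SetLike.coe (Submonoid.closure_eq
        ((MonoidHom.mrange Φ.toRingHom.toMonoidHom).map φ.toRingHom.toMonoidHom))).trans ?_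
      rw [Submonoid.coe_map, MonoidHom.coe_mrange, ← Set.range_comp]
      rfl
  obtain ⟨E, hE⟩ := prod_evalProd V
  refine val_aux Φ φV hspan E ev.toRingHom ?_ L hκ hL hy
  suffices (E.restrictScalars R').comp (tpMap κ φV d) = ev from fun x => DFunLike.congr_fun this x
  refine PiTensorProduct.algHom_ext fun i => AlgHom.ext fun b => ?_
  show E (tpMap κ φV d (PiTensorProduct.singleAlgHom (R := R') (A := fun _ : Fin d => B') i b)) = _
  rw [PiTensorProduct.singleAlgHom_apply, tpMap_tprod, hE, Finset.prod_eq_single i]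
  · rw [MonoidHom.mulSingle_apply, Pi.mulSingle_eq_same]
    rfl
  · intro j _ hj
    rw [MonoidHom.mulSingle_apply, Pi.mulSingle_eq_of_ne hj, map_one]
    rfl
  · exact fun h => absurd (Finset.mem_univ i) h

/-- Values of symmetric tensors lie in the field generated by values of symmetric tensors of a spanning set. -/
theorem val_tensor (hΦ : Submodule.span R' (Set.range Φ) = ⊤) (ev : (⨂[R'] _ : Fin d, B') →+* k) :
    Val (tpMap R' Φ d).toRingHom (permAlg R B d) (permAlg R' B' d) ev := by
  intro y hy
  set L := Subfield.closure (ev '' (Algebra.adjoin R'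
    ((tpMap R' Φ d).toRingHom '' (InvLoc.inv (permAlg R B d) : Set (⨂[R] _ : Fin d, B))) : Set (⨂[R'] _ : Fin d, B')))
    with hLdef
  let κ : Subfield k := Subfield.closure (Set.range (ev.comp (algebraMap R' (⨂[R'] _ : Fin d, B'))))
  have hκ : κ ≤ L := Subfield.closure_le.2 fun _ ⟨r, hr⟩ =>
    Subfield.subset_closure ⟨_, Subalgebra.algebraMap_mem _ r, hr⟩
  let ρ : R' →+* κ := (ev.comp (algebraMap R' (⨂[R'] _ : Fin d, B'))).codRestrict κ
    fun r => Subfield.subset_closure ⟨r, rfl⟩
  letI : Algebra R' κ := ρ.toAlgebra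
  letI : Algebra R κ := (ρ.comp (algebraMap R R')).toAlgebra
  haveI : IsScalarTower R R' κ := IsScalarTower.of_algebraMap_eq' rfl
  letI : Algebra R' k := (ev.comp (algebraMap R' (⨂[R'] _ : Fin d, B'))).toAlgebra
  letI : Algebra R k := ((ev.comp (algebraMap R' (⨂[R'] _ : Fin d, B'))).comp (algebraMap R R')).toAlgebra
  haveI : IsScalarTower R R' k := IsScalarTower.of_algebraMap_eq' rfl
  haveI : IsScalarTower R' κ k := IsScalarTower.of_algebraMap_eq' rfl
  haveI : IsScalarTower R κ k := IsScalarTower.of_algebraMap_eq' rfl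
  exact val_field (κ := κ) Φ hΦ { ev with commutes' := fun _ => rfl } L (fun c => hκ c.2)
    (fun x hx => Subfield.subset_closure ⟨_, Algebra.subset_adjoin ⟨x, hx, rfl⟩, rfl⟩) hy

end Val

end Act

end Groth.Agent.H23.SymSpan
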