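import Groth.Agent.H23.SymAF
import Groth.Prelude.Def_SymTen

/-!
The sections on a fibre power of an affine open are a tensor power.
-/

set_option autoImplicit false
set_option backward.isDefEq.respectTransparency false
set_option linter.style.haveILetI false

universe u

open CategoryTheory CategoryTheory.Limits AlgebraicGeometry TopologicalSpace
open scoped TensorProduct

namespace Groth.Agent.H23.SymTensorChart

open SymProd SymAF

variable {X S : Scheme.{u}} (f : X ⟶ S) {d : ℕ} {U : X.Opens} {V : S.Opens} (hUV : U ≤ f ⁻¹ᵁ V)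

theorem pow_le_π (i : Fin d) : pow f d U ≤ (WidePullback.π (fun _ : Fin d => f) i) ⁻¹ᵁ U :=
  fun _ hx => (mem_pow f d).1 hx i

include hUV in
theorem pow_le_base (hd : 0 < d) : pow f d U ≤ (WidePullback.base (fun _ : Fin d => f)) ⁻¹ᵁ V := by
  intro x hx
  show (WidePullback.base (fun _ : Fin d => f)).base x ∈ V
  rw [← base_π f d x ⟨0, hd⟩]
  exact hUV ((mem_pow f d).1 hx ⟨0, hd⟩)

include hUV in
/-- The sections on the fibre power of an affine open over an affine open form the tensor power. -/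
theorem exists_tensorEquiv (hd : 0 < d) (hU : IsAffineOpen U) (hV : IsAffineOpen V) :
    letI := (f.appLE V U hUV).hom.toAlgebra
    ∃ θ : (⨂[Γ(S, V)] _ : Fin d, Γ(X, U)) ≃+* Γ(fibPow f d, pow f d U),
      (∀ (i : Fin d) (b : Γ(X, U)),
        θ (PiTensorProduct.singleAlgHom (R := Γ(S, V)) (A := fun _ : Fin d => Γ(X, U)) i b) =
          ((WidePullback.π (fun _ : Fin d => f) i).appLE U (pow f d U) (pow_le_π f i)).hom b) ∧
      ∀ a : Γ(S, V), θ (algebraMap Γ(S, V) (⨂[Γ(S, V)] _ : Fin d, Γ(X, U)) a) =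
        ((WidePullback.base (fun _ : Fin d => f)).appLE V (pow f d U) (pow_le_base f hUV hd)).hom a := by
  classical
  letI := (f.appLE V U hUV).hom.toAlgebra
  have hW := isAffineOpen_pow f hd hU hV hUV
  let W := pow f d U
  let T := ⨂[Γ(S, V)] _ : Fin d, Γ(X, U)
  let pW := fun i => (WidePullback.π (fun _ : Fin d => f) i).appLE U W (pow_le_π f i)
  let bW := (WidePullback.base (fun _ : Fin d => f)).appLE V W (pow_le_base f hUV hd)
  have hcomm : ∀ i, f.appLE V U hUV ≫ pW i = bW := fun i => by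
    rw [Scheme.Hom.appLE_comp_appLE]
    exact SGA1Q.appLE_congr_hom (WidePullback.π_arrow (fun _ : Fin d => f) i) _ _
  letI : Algebra Γ(S, V) Γ(fibPow f d, W) := bW.hom.toAlgebra
  let pA : Fin d → Γ(X, U) →ₐ[Γ(S, V)] Γ(fibPow f d, W) := fun i =>
    { (pW i).hom with commutes' := fun a => congr(($(hcomm i)).hom a) }
  let θ₀ : T →ₐ[Γ(S, V)] Γ(fibPow f d, W) :=
    PiTensorProduct.liftAlgHom
      ((MultilinearMap.mkPiAlgebra Γ(S, V) (Fin d) Γ(fibPow f d, W)).compLinearMap fun i => (pA i).toLinearMap)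
      (by simp) (fun x y => by simp [Finset.prod_mul_distrib])
  have hθ₀ : ∀ i b, θ₀ (PiTensorProduct.singleAlgHom (R := Γ(S, V)) (A := fun _ : Fin d => Γ(X, U)) i b) = (pW i).hom b := by
    intro i b
    rw [PiTensorProduct.singleAlgHom_apply]
    show PiTensorProduct.lift _ (PiTensorProduct.tprod Γ(S, V) (Pi.mulSingle (M := fun _ : Fin d => Γ(X, U)) i b)) = _
    rw [PiTensorProduct.lift.tprod, MultilinearMap.compLinearMap_apply, MultilinearMap.mkPiAlgebra_apply]
    rw [Finset.prod_eq_single i (fun j _ hj => by simp [Pi.mulSingle_eq_of_ne hj]) (by simp), Pi.mulSingle_eq_same]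
    rfl
  let sT : Fin d → (Spec (CommRingCat.of T) ⟶ X) := fun i =>
    Spec.map (CommRingCat.ofHom
      (PiTensorProduct.singleAlgHom (R := Γ(S, V)) (A := fun _ : Fin d => Γ(X, U)) i).toRingHom) ≫ hU.fromSpec
  have hsT : ∀ i, sT i ≫ f = Spec.map (CommRingCat.ofHom (algebraMap Γ(S, V) T)) ≫ hV.fromSpec := fun i => by
    rw [Category.assoc, ← IsAffineOpen.SpecMap_appLE_fromSpec f hV hU hUV, ← Spec.map_comp_assoc]
    congr 2
    exact CommRingCat.hom_ext
      (PiTensorProduct.singleAlgHom (R := Γ(S, V)) (A := fun _ : Fin d => Γ(X, U)) i).comp_algebraMap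
  let b₀ : Spec (CommRingCat.of T) ⟶ fibPow f d :=
    WidePullback.lift (Spec.map (CommRingCat.ofHom (algebraMap Γ(S, V) T)) ≫ hV.fromSpec) sT hsT
  have hb₀ : Set.range b₀ ⊆ Set.range hW.fromSpec := by
    rintro _ ⟨x, rfl⟩
    rw [hW.range_fromSpec]
    refine (mem_pow f d).2 fun i => ?_
    show (b₀ ≫ WidePullback.π (fun _ : Fin d => f) i).base x ∈ U
    rw [WidePullback.lift_π]
    exact hU.range_fromSpec.le ⟨_, rfl⟩
  let χ := Spec.preimage (IsOpenImmersion.lift hW.fromSpec b₀ hb₀)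
  have hχ : Spec.map χ ≫ hW.fromSpec = b₀ := by
    rw [Spec.map_preimage, IsOpenImmersion.lift_fac]
  have hχp : ∀ i, pW i ≫ χ = CommRingCat.ofHom
      (PiTensorProduct.singleAlgHom (R := Γ(S, V)) (A := fun _ : Fin d => Γ(X, U)) i).toRingHom := fun i => by
    refine Spec.map_injective ((cancel_mono hU.fromSpec).1 ?_)
    rw [Spec.map_comp_assoc, IsAffineOpen.SpecMap_appLE_fromSpec _ hU hW, reassoc_of% hχ, WidePullback.lift_π]
  have hχb : bW ≫ χ = CommRingCat.ofHom (algebraMap Γ(S, V) T) := by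
    refine Spec.map_injective ((cancel_mono hV.fromSpec).1 ?_)
    rw [Spec.map_comp_assoc, IsAffineOpen.SpecMap_appLE_fromSpec _ hV hW, reassoc_of% hχ, WidePullback.lift_base]
  let χA : Γ(fibPow f d, W) →ₐ[Γ(S, V)] T := { χ.hom with commutes' := fun a => congr(($hχb).hom a) }
  have h1 : χA.comp θ₀ = AlgHom.id _ T := by
    refine PiTensorProduct.algHom_ext fun i => AlgHom.ext fun b => ?_
    show χ.hom (θ₀ (PiTensorProduct.singleAlgHom (R := Γ(S, V)) (A := fun _ : Fin d => Γ(X, U)) i b)) = _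
    rw [hθ₀]
    exact congr(($(hχp i)).hom b)
  have h2 : CommRingCat.ofHom (θ₀.comp χA).toRingHom = 𝟙 (CommRingCat.of Γ(fibPow f d, W)) := by
    refine Spec.map_injective ((cancel_mono hW.fromSpec).1 ?_)
    rw [Spec.map_id, Category.id_comp,
      show CommRingCat.ofHom (θ₀.comp χA).toRingHom = χ ≫ CommRingCat.ofHom θ₀.toRingHom from rfl,
      Spec.map_comp_assoc, hχ]
    refine WidePullback.hom_ext _ _ _ (fun i => ?_) ?_
    · rw [Category.assoc, WidePullback.lift_π, ← IsAffineOpen.SpecMap_appLE_fromSpec _ hU hW (pow_le_π f i),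
        ← Spec.map_comp_assoc]
      congr 2
      exact CommRingCat.hom_ext (RingHom.ext fun b => hθ₀ i b)
    · rw [Category.assoc, WidePullback.lift_base,
        ← IsAffineOpen.SpecMap_appLE_fromSpec _ hV hW (pow_le_base f hUV hd), ← Spec.map_comp_assoc]
      congr 2
      exact CommRingCat.hom_ext θ₀.comp_algebraMap
  let θ : T ≃+* Γ(fibPow f d, W) := RingEquiv.ofRingHom θ₀.toRingHom χA.toRingHom
    (congrArg CommRingCat.Hom.hom h2) (congrArg AlgHom.toRingHom h1)
  exact ⟨θ, hθ₀, θ₀.commutes⟩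

include hUV in
theorem exists_tensorEquiv_equivariant (hd : 0 < d) (hU : IsAffineOpen U) (hV : IsAffineOpen V) :
    letI := (f.appLE V U hUV).hom.toAlgebra
    ∃ θ : (⨂[Γ(S, V)] _ : Fin d, Γ(X, U)) ≃+* Γ(fibPow f d, pow f d U),
      (∀ a : Γ(S, V), θ (algebraMap Γ(S, V) (⨂[Γ(S, V)] _ : Fin d, Γ(X, U)) a) =
        ((WidePullback.base (fun _ : Fin d => f)).appLE V (pow f d U) (pow_le_base f hUV hd)).hom a) ∧
      ∀ (σ : Equiv.Perm (Fin d)) (t : ⨂[Γ(S, V)] _ : Fin d, Γ(X, U)),
        ((permHom f d σ⁻¹).appLE (pow f d U) (pow f d U) (permHom_preimage_pow f d U σ⁻¹).ge).hom (θ t) =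
          θ (PiTensorProduct.reindex Γ(S, V) (fun _ : Fin d => Γ(X, U)) σ t) := by
  classical
  letI := (f.appLE V U hUV).hom.toAlgebra
  obtain ⟨θ, hθ, hθb⟩ := exists_tensorEquiv f hUV hd hU hV
  refine ⟨θ, hθb, fun σ t => ?_⟩
  rw [← SymTen.perm_apply]
  induction t using PiTensorProduct.induction_on with
  | smul_tprod r x =>
    have hx : PiTensorProduct.tprod Γ(S, V) x =
        ∏ i, PiTensorProduct.singleAlgHom (R := Γ(S, V)) (A := fun _ : Fin d => Γ(X, U)) i (x i) := by
      simp only [PiTensorProduct.singleAlgHom_apply, MonoidHom.mulSingle_apply]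
      rw [← PiTensorProduct.tprod_prod]
      congr 1
      funext j
      rw [Finset.prod_apply, Finset.prod_eq_single j (fun i _ hi => Pi.mulSingle_eq_of_ne' hi _) (by simp),
        Pi.mulSingle_eq_same]
    have hper : ∀ i b, SymTen.perm Γ(S, V) Γ(X, U) d σ
        (PiTensorProduct.singleAlgHom (R := Γ(S, V)) (A := fun _ : Fin d => Γ(X, U)) i b) =
        PiTensorProduct.singleAlgHom (R := Γ(S, V)) (A := fun _ : Fin d => Γ(X, U)) (σ i) b := fun i b => by
      rw [PiTensorProduct.singleAlgHom_apply, SymTen.perm_tprod, PiTensorProduct.singleAlgHom_apply]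
      simp only [MonoidHom.mulSingle_apply]
      congr 1
      funext j
      by_cases h : j = σ i
      · subst h; simp
      · rw [Pi.mulSingle_eq_of_ne h, Pi.mulSingle_eq_of_ne (fun e => h (by rw [← e, Equiv.apply_symm_apply]))]
    have hpb : (WidePullback.base (fun _ : Fin d => f)).appLE V (pow f d U) (pow_le_base f hUV hd) ≫
        (permHom f d σ⁻¹).appLE (pow f d U) (pow f d U) (permHom_preimage_pow f d U σ⁻¹).ge =
        (WidePullback.base (fun _ : Fin d => f)).appLE V (pow f d U) (pow_le_base f hUV hd) := by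
      rw [Scheme.Hom.appLE_comp_appLE]
      exact SGA1Q.appLE_congr_hom (permHom_base f d σ⁻¹) _ _
    have hpp : ∀ i, (WidePullback.π (fun _ : Fin d => f) i).appLE U (pow f d U) (pow_le_π f i) ≫
        (permHom f d σ⁻¹).appLE (pow f d U) (pow f d U) (permHom_preimage_pow f d U σ⁻¹).ge =
        (WidePullback.π (fun _ : Fin d => f) (σ i)).appLE U (pow f d U) (pow_le_π f (σ i)) := fun i => by
      rw [Scheme.Hom.appLE_comp_appLE]
      exact SGA1Q.appLE_congr_hom (permHom_π f d σ⁻¹ i) _ _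
    rw [Algebra.smul_def, map_mul, map_mul, map_mul, map_mul, AlgHom.commutes, hx, map_prod, map_prod, map_prod,
      map_prod, hθb]
    refine congrArg₂ (· * ·) congr(($hpb).hom r) (Finset.prod_congr rfl fun i _ => ?_)
    rw [hθ, hper, hθ]
    exact congr(($(hpp i)).hom (x i))
  | add x y hx hy => simp only [map_add, hx, hy]

end Groth.Agent.H23.SymTensorChart
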