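import Groth.Agent.H23.InvLoc
import Groth.Agent.H23.SymSpan
import Groth.Agent.H23.SymTensorChart
import Mathlib.AlgebraicGeometry.Morphisms.Flat

/-!
Boxes of affine opens in fibre powers, and their rings of sections.
-/

set_option autoImplicit false
set_option backward.isDefEq.respectTransparency false
set_option linter.style.haveILetI false

universe u

open CategoryTheory CategoryTheory.Limits AlgebraicGeometry TopologicalSpace
open scoped TensorProduct

namespace Groth.Agent.H23.SymBox

open SymProd InvLoc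

section SecAct

variable {P S : Scheme.{u}} (β : P ⟶ S) {V : S.Opens}

/-- Sections over `O` as an algebra over the sections of the base. -/
@[reducible] noncomputable def secAlg {O : P.Opens} (hO : O ≤ β ⁻¹ᵁ V) : Algebra Γ(S, V) Γ(P, O) :=
  (β.appLE V O hO).hom.toAlgebra

/-- An action on a scheme over `S` by endomorphisms. -/
structure Act (G : Type*) [Group G] where
  hom : G → (P ⟶ P)
  one : hom 1 = 𝟙 P
  mul : ∀ g h, hom (g * h) = hom h ≫ hom g
  over : ∀ g, hom g ≫ β = β

variable {β} {G : Type*} [Group G]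

/-- Restriction of an action along a morphism of groups. -/
def Act.comap (a : Act β G) {H : Type*} [Group H] (φ : H →* G) : Act β H where
  hom h := a.hom (φ h)
  one := by rw [map_one, a.one]
  mul g h := by rw [map_mul, a.mul]
  over h := a.over _

variable (a : Act β G) {O : P.Opens}

theorem le_preimage (hinv : ∀ g, a.hom g ⁻¹ᵁ O = O) (g : G) : O ≤ a.hom g ⁻¹ᵁ O := (hinv g).ge

variable (hO : O ≤ β ⁻¹ᵁ V) (hinv : ∀ g, a.hom g ⁻¹ᵁ O = O)

/-- The induced action on sections: `g` acts by pullback along `g⁻¹`. -/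
noncomputable def secAct :
    letI := secAlg β hO
    G →* (Γ(P, O) ≃ₐ[Γ(S, V)] Γ(P, O)) :=
  letI := secAlg β hO
  let e : G → (Γ(P, O) →ₐ[Γ(S, V)] Γ(P, O)) := fun g =>
    { ((a.hom g⁻¹).appLE O O (le_preimage a hinv g⁻¹)).hom with
      commutes' := fun r => by
        have h : β.appLE V O hO ≫ (a.hom g⁻¹).appLE O O (le_preimage a hinv g⁻¹) = β.appLE V O hO := by
          rw [Scheme.Hom.appLE_comp_appLE]
          exact SGA1Q.appLE_congr_hom (a.over _) _ _
        exact congr(($h).hom r) }
  have hmul : ∀ g h x, e g (e h x) = e (g * h) x := fun g h x => by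
    have h' : (a.hom h⁻¹).appLE O O (le_preimage a hinv h⁻¹) ≫ (a.hom g⁻¹).appLE O O (le_preimage a hinv g⁻¹) =
        (a.hom (g * h)⁻¹).appLE O O (le_preimage a hinv _) := by
      rw [Scheme.Hom.appLE_comp_appLE]
      exact SGA1Q.appLE_congr_hom (by rw [mul_inv_rev, a.mul]) _ _
    exact congr(($h').hom x)
  have hone : ∀ x, e 1 x = x := fun x => by
    have h' : (a.hom 1⁻¹).appLE O O (le_preimage a hinv 1⁻¹) = 𝟙 _ := by
      refine (SGA1Q.appLE_congr_hom (U := O) (V := O) (show a.hom 1⁻¹ = 𝟙 P by rw [inv_one, a.one]) _ (fun _ h => h)).trans ?_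
      exact (Scheme.Hom.appLE_eq_app (U := O) (𝟙 P)).trans rfl
    exact congr(($h').hom x)
  { toFun := fun g => AlgEquiv.ofAlgHom (e g) (e g⁻¹)
      (AlgHom.ext fun x => (hmul g g⁻¹ x).trans (by rw [mul_inv_cancel]; exact hone x))
      (AlgHom.ext fun x => (hmul g⁻¹ g x).trans (by rw [inv_mul_cancel]; exact hone x))
    map_one' := AlgEquiv.ext hone
    map_mul' := fun g h => AlgEquiv.ext fun x => (hmul g h x).symm }

theorem secAct_apply (g : G) (x : Γ(P, O)) :
    letI := secAlg β hO
    secAct a hO hinv g x = ((a.hom g⁻¹).appLE O O (le_preimage a hinv g⁻¹)).hom x := rfl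

variable {P' S' : Scheme.{u}} {β' : P' ⟶ S'} (a' : Act β' G) {m : P' ⟶ P}

theorem appLE_secAct (hm : ∀ g, a'.hom g ≫ m = m ≫ a.hom g) {V' : S'.Opens} {O' : P'.Opens}
    (hO' : O' ≤ β' ⁻¹ᵁ V') (hinv' : ∀ g, a'.hom g ⁻¹ᵁ O' = O') (hle : O' ≤ m ⁻¹ᵁ O) (g : G) (x : Γ(P, O)) :
    letI := secAlg β hO
    letI := secAlg β' hO'
    (m.appLE O O' hle).hom (secAct a hO hinv g x) = secAct a' hO' hinv' g ((m.appLE O O' hle).hom x) := by
  have h : (a.hom g⁻¹).appLE O O (le_preimage a hinv g⁻¹) ≫ m.appLE O O' hle =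
      m.appLE O O' hle ≫ (a'.hom g⁻¹).appLE O' O' (le_preimage a' hinv' g⁻¹) := by
    rw [Scheme.Hom.appLE_comp_appLE, Scheme.Hom.appLE_comp_appLE]
    exact SGA1Q.appLE_congr_hom (hm _).symm _ _
  exact congr(($h).hom x)

theorem res_secAct {H : Type*} [Group H] (φ : H →* G) {D : P.Opens} (hD : D ≤ β ⁻¹ᵁ V) (hle : D ≤ O)
    (hinvD : ∀ h, (a.comap φ).hom h ⁻¹ᵁ D = D) (h : H) (x : Γ(P, O)) :
    letI := secAlg β hO
    letI := secAlg β hD
    (P.presheaf.map (homOfLE hle).op).hom (secAct a hO hinv (φ h) x) =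
      secAct (a.comap φ) hD hinvD h ((P.presheaf.map (homOfLE hle).op).hom x) := by
  have h' : (a.hom (φ h)⁻¹).appLE O O (le_preimage a hinv _) ≫ P.presheaf.map (homOfLE hle).op =
      P.presheaf.map (homOfLE hle).op ≫ ((a.comap φ).hom h⁻¹).appLE D D (le_preimage (a.comap φ) hinvD h⁻¹) := by
    rw [Scheme.Hom.appLE_map, Scheme.Hom.map_appLE]
    exact SGA1Q.appLE_congr_hom (by show a.hom (φ h)⁻¹ = a.hom (φ h⁻¹); rw [map_inv]) _ _
  exact congr(($h').hom x)

/-- The restriction map as a morphism of algebras over the sections of the base. -/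
noncomputable def resAlg {D : P.Opens} (hD : D ≤ β ⁻¹ᵁ V) (hle : D ≤ O) :
    letI := secAlg β hO
    letI := secAlg β hD
    Γ(P, O) →ₐ[Γ(S, V)] Γ(P, D) :=
  letI := secAlg β hO
  letI := secAlg β hD
  { (P.presheaf.map (homOfLE hle).op).hom with
    commutes' := fun r => by
      have h : β.appLE V O hO ≫ P.presheaf.map (homOfLE hle).op = β.appLE V D hD := Scheme.Hom.appLE_map _ _ _
      exact congr(($h).hom r) }

theorem isAway_res {O D : P.Opens} (hO : IsAffineOpen O) (hle : D ≤ O) (t : Γ(P, O)) (hD : D = P.basicOpen t) :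
    IsAway (P.presheaf.map (homOfLE hle).op).hom t := by
  letI := (P.presheaf.map (homOfLE hle).op).hom.toAlgebra
  haveI : IsLocalization.Away t Γ(P, D) := hO.isLocalization_of_eq_basicOpen t (homOfLE hle) hD
  exact isAway_algebraMap (C := Γ(P, D)) t

end SecAct

variable {X S : Scheme.{u}} (f : X ⟶ S) (d : ℕ)

/-- The permutation action on the fibre power. -/
noncomputable def powAct : Act (WidePullback.base (fun _ : Fin d => f)) (Equiv.Perm (Fin d)) where
  hom σ := permHom f d σ
  one := permHom_one f d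
  mul := permHom_mul f d
  over σ := permHom_base f d σ

/-- The permutations preserving a colouring. -/
def stab {ι : Type*} (c : Fin d → ι) : Subgroup (Equiv.Perm (Fin d)) where
  carrier := {σ | ∀ i, c (σ i) = c i}
  mul_mem' {σ τ} hσ hτ i := (hσ (τ i)).trans (hτ i)
  one_mem' i := rfl
  inv_mem' {σ} hσ i := by
    have := hσ (σ⁻¹ i)
    rw [← Equiv.Perm.mul_apply, mul_inv_cancel] at this
    exact this.symm

variable {ι : Type} (V : S.Opens) (U : ι → X.Opens) (c : Fin d → ι)

/-- The open of the fibre power with `i`-th coordinate in `U (c i)`. -/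
noncomputable def box : (fibPow f d).Opens :=
  WidePullback.base (fun _ : Fin d => f) ⁻¹ᵁ V ⊓
    Finset.univ.inf fun i : Fin d => (WidePullback.π (fun _ : Fin d => f) i) ⁻¹ᵁ U (c i)

variable {f d V U c}

theorem mem_box {x : fibPow f d} :
    x ∈ box f d V U c ↔ (WidePullback.base (fun _ : Fin d => f)).base x ∈ V ∧
      ∀ i, (WidePullback.π (fun _ : Fin d => f) i).base x ∈ U (c i) := by
  have h : ∀ t : Finset (Fin d),
      x ∈ (t.inf fun i : Fin d => (WidePullback.π (fun _ : Fin d => f) i) ⁻¹ᵁ U (c i)) ↔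
        ∀ i ∈ t, (WidePullback.π (fun _ : Fin d => f) i).base x ∈ U (c i) := by
    intro t
    induction t using Finset.induction_on with
    | empty => simp
    | @insert a t ha ih =>
      rw [Finset.inf_insert, Finset.forall_mem_insert, ← ih]
      exact Iff.rfl
  exact and_congr Iff.rfl ((h Finset.univ).trans (by simp))

theorem box_le_base : box f d V U c ≤ (WidePullback.base (fun _ : Fin d => f)) ⁻¹ᵁ V := inf_le_left

theorem box_le_π (i : Fin d) : box f d V U c ≤ (WidePullback.π (fun _ : Fin d => f) i) ⁻¹ᵁ U (c i) :=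
  fun _ hx => (mem_box.1 hx).2 i

theorem permHom_preimage_box (σ : stab d c) : permHom f d σ.1 ⁻¹ᵁ box f d V U c = box f d V U c := by
  refine Opens.ext (Set.ext fun x => ?_)
  show (permHom f d σ.1).base x ∈ box f d V U c ↔ x ∈ box f d V U c
  rw [mem_box, mem_box]
  have h : ∀ i, (WidePullback.π (fun _ : Fin d => f) i).base ((permHom f d σ.1).base x) =
      (WidePullback.π (fun _ : Fin d => f) (σ.1.symm i)).base x := fun i => by
    rw [← permHom_π f d σ.1 i]
    rfl
  have hb : (WidePullback.base (fun _ : Fin d => f)).base ((permHom f d σ.1).base x) =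
      (WidePullback.base (fun _ : Fin d => f)).base x := by
    conv_rhs => rw [← permHom_base f d σ.1]
    rfl
  simp only [h, hb]
  refine and_congr Iff.rfl (σ.1.symm.forall_congr_left.trans (forall_congr' fun i => ?_))
  rw [Equiv.symm_symm, Equiv.symm_apply_apply, σ.2 i]

theorem isAffineOpen_box (hV : IsAffineOpen V) (hU : ∀ j, IsAffineOpen (U j)) (hUV : ∀ j, U j ≤ f ⁻¹ᵁ V) :
    IsAffineOpen (box f d V U c) := by
  let fV : ∀ i : Fin d, (U (c i)).toScheme ⟶ V.toScheme := fun i => f.resLE V (U (c i)) (hUV _)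
  let P := widePullback V.toScheme (fun i : Fin d => (U (c i)).toScheme) fV
  haveI : IsAffine V.toScheme := hV
  haveI : ∀ o : WidePullbackShape (Fin d),
      IsAffine ((WidePullbackShape.wideCospan V.toScheme (fun i : Fin d => (U (c i)).toScheme) fV).obj o) := by
    rintro (_ | i)
    · exact hV
    · exact hU (c i)
  haveI hP : IsAffine P := Scheme.isAffine_of_isLimit _
    (limit.isLimit (WidePullbackShape.wideCospan V.toScheme (fun i : Fin d => (U (c i)).toScheme) fV))
  let W := box f d V U c
  have hW : ∀ i, Set.range (W.ι ≫ WidePullback.π (fun _ : Fin d => f) i) ⊆ Set.range (U (c i)).ι := by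
    intro i
    rintro _ ⟨x, rfl⟩
    rw [Scheme.Opens.range_ι]
    exact box_le_π i x.2
  let l : ∀ i : Fin d, W.toScheme ⟶ (U (c i)).toScheme := fun i => IsOpenImmersion.lift (U (c i)).ι _ (hW i)
  let b₁ : W.toScheme ⟶ V.toScheme := (WidePullback.base (fun _ : Fin d => f)).resLE V W box_le_base
  let a : W.toScheme ⟶ P := WidePullback.lift b₁ l (fun i => by
    rw [← cancel_mono V.ι, Category.assoc, Scheme.Hom.resLE_comp_ι, IsOpenImmersion.lift_fac_assoc,
      Category.assoc, WidePullback.π_arrow, Scheme.Hom.resLE_comp_ι])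
  let b₀ : P ⟶ fibPow f d := WidePullback.lift (WidePullback.base fV ≫ V.ι)
    (fun i => WidePullback.π fV i ≫ (U (c i)).ι) (fun i => by
      rw [Category.assoc, ← WidePullback.π_arrow fV i, Category.assoc, Scheme.Hom.resLE_comp_ι])
  have hb : Set.range b₀ ⊆ Set.range W.ι := by
    rintro _ ⟨x, rfl⟩
    rw [Scheme.Opens.range_ι]
    refine mem_box.2 ⟨?_, fun i => ?_⟩
    · show (b₀ ≫ WidePullback.base (fun _ : Fin d => f)).base x ∈ V
      rw [WidePullback.lift_base]
      exact ((WidePullback.base fV).base x).2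
    · show (b₀ ≫ WidePullback.π (fun _ : Fin d => f) i).base x ∈ U (c i)
      rw [WidePullback.lift_π]
      exact ((WidePullback.π fV i).base x).2
  let b : P ⟶ W.toScheme := IsOpenImmersion.lift W.ι b₀ hb
  have hab : a ≫ b = 𝟙 _ := by
    rw [← cancel_mono W.ι, Category.assoc, IsOpenImmersion.lift_fac, Category.id_comp]
    refine WidePullback.hom_ext _ _ _ (fun i => ?_) ?_
    · rw [Category.assoc, WidePullback.lift_π, WidePullback.lift_π_assoc, IsOpenImmersion.lift_fac]
    · rw [Category.assoc, WidePullback.lift_base, WidePullback.lift_base_assoc, Scheme.Hom.resLE_comp_ι]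
  have hba : b ≫ a = 𝟙 _ := by
    refine WidePullback.hom_ext _ _ _ (fun i => ?_) ?_
    · rw [Category.assoc, WidePullback.lift_π, Category.id_comp, ← cancel_mono (U (c i)).ι, Category.assoc,
        IsOpenImmersion.lift_fac, IsOpenImmersion.lift_fac_assoc, WidePullback.lift_π]
    · rw [Category.assoc, WidePullback.lift_base, Category.id_comp, ← cancel_mono V.ι, Category.assoc,
        Scheme.Hom.resLE_comp_ι, IsOpenImmersion.lift_fac_assoc, WidePullback.lift_base]
  haveI : IsIso a := ⟨b, hab, hba⟩
  exact IsAffine.of_isIso a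

section Theta

variable (hUV : ∀ j, U j ≤ f ⁻¹ᵁ V)

/-- The product of the rings of sections. -/
abbrev prodRing (U : ι → X.Opens) : Type u := ∀ j, Γ(X, U j)

/-- The algebra structures on the sections of the chosen opens. -/
@[reducible] noncomputable def chartAlg : ∀ j, Algebra Γ(S, V) Γ(X, U j) := fun j => (f.appLE V (U j) (hUV j)).hom.toAlgebra

variable [DecidableEq ι]

variable (d c) in
/-- The idempotent of the box. -/
noncomputable def idem :
    letI := chartAlg hUV
    ⨂[Γ(S, V)] _ : Fin d, prodRing U :=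
  letI := chartAlg hUV
  PiTensorProduct.tprod Γ(S, V) fun i => Pi.single (c i) (1 : Γ(X, U (c i)))

theorem idem_mem_stab :
    letI := chartAlg hUV
    idem d c hUV ∈ InvLoc.inv (res (SymSpan.permAlg Γ(S, V) (prodRing U) d) (stab d c)) := by
  letI := chartAlg hUV
  intro σ
  show SymTen.perm _ _ _ σ.1 (idem d c hUV) = idem d c hUV
  rw [idem, SymTen.perm_tprod]
  congr 1
  funext i
  have h : c (σ.1.symm i) = c i := (stab d c).inv_mem σ.2 i
  rw [h]

theorem perm_idem_mul_idem {σ : Equiv.Perm (Fin d)} (hσ : σ ∉ stab d c) :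
    letI := chartAlg hUV
    SymSpan.permAlg Γ(S, V) (prodRing U) d σ (idem d c hUV) * idem d c hUV = 0 := by
  letI := chartAlg hUV
  obtain ⟨i, hi⟩ : ∃ i, c (σ i) ≠ c i := not_forall.1 hσ
  rw [SymSpan.permAlg_apply, idem, SymTen.perm_tprod, PiTensorProduct.tprod_mul_tprod]
  refine MultilinearMap.map_coord_zero _ (σ i) ?_
  funext j
  show (Pi.single (c (σ.symm (σ i))) (1 : Γ(X, U (c (σ.symm (σ i))))) : prodRing U) j *
    (Pi.single (c (σ i)) (1 : Γ(X, U (c (σ i)))) : prodRing U) j = 0
  rw [Equiv.symm_apply_apply]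
  by_cases hj : j = c i
  · subst hj
    rw [Pi.single_eq_of_ne (Ne.symm hi), mul_zero]
  · rw [Pi.single_eq_of_ne hj, zero_mul]

variable (d c) in
/-- The map from the tensor power of the product ring to the sections on the box. -/
noncomputable def theta :
    letI := chartAlg hUV
    letI := secAlg (WidePullback.base (fun _ : Fin d => f)) (box_le_base (U := U) (V := V) (c := c))
    (⨂[Γ(S, V)] _ : Fin d, prodRing U) →ₐ[Γ(S, V)] Γ(fibPow f d, box f d V U c) :=
  letI := chartAlg hUV
  letI := secAlg (WidePullback.base (fun _ : Fin d => f)) (box_le_base (U := U) (V := V) (c := c))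
  let pA : ∀ i : Fin d, Γ(X, U (c i)) →ₐ[Γ(S, V)] Γ(fibPow f d, box f d V U c) := fun i =>
    { ((WidePullback.π (fun _ : Fin d => f) i).appLE (U (c i)) (box f d V U c) (box_le_π i)).hom with
      commutes' := fun r => by
        have h : f.appLE V (U (c i)) (hUV _) ≫
            (WidePullback.π (fun _ : Fin d => f) i).appLE (U (c i)) (box f d V U c) (box_le_π i) =
            (WidePullback.base (fun _ : Fin d => f)).appLE V (box f d V U c) box_le_base := by
          rw [Scheme.Hom.appLE_comp_appLE]
          exact SGA1Q.appLE_congr_hom (WidePullback.π_arrow (fun _ : Fin d => f) i) _ _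
        exact congr(($h).hom r) }
  PiTensorProduct.liftAlgHom
    ((MultilinearMap.mkPiAlgebra Γ(S, V) (Fin d) Γ(fibPow f d, box f d V U c)).compLinearMap fun i =>
      ((pA i).comp (Pi.evalAlgHom Γ(S, V) (fun j => Γ(X, U j)) (c i))).toLinearMap)
    (by simp) (fun x y => by simp [Finset.prod_mul_distrib])

omit [DecidableEq ι] in
theorem theta_tprod (b : Fin d → prodRing U) :
    letI := chartAlg hUV
    theta d c hUV (PiTensorProduct.tprod Γ(S, V) b) =
      ∏ i, ((WidePullback.π (fun _ : Fin d => f) i).appLE (U (c i)) (box f d V U c) (box_le_π i)).hom (b i (c i)) := by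
  letI := chartAlg hUV
  simp [theta]

theorem theta_single (i : Fin d) (b : prodRing U) :
    letI := chartAlg hUV
    theta d c hUV (PiTensorProduct.singleAlgHom (R := Γ(S, V)) (A := fun _ : Fin d => prodRing U) i b) =
      ((WidePullback.π (fun _ : Fin d => f) i).appLE (U (c i)) (box f d V U c) (box_le_π i)).hom (b (c i)) := by
  letI := chartAlg hUV
  rw [PiTensorProduct.singleAlgHom_apply, theta_tprod, Finset.prod_eq_single i]
  · rw [MonoidHom.mulSingle_apply, Pi.mulSingle_eq_same]
  · intro j _ hj
    rw [MonoidHom.mulSingle_apply, Pi.mulSingle_eq_of_ne hj, Pi.one_apply, map_one]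
  · exact fun h => absurd (Finset.mem_univ i) h

theorem theta_idem :
    letI := chartAlg hUV
    theta d c hUV (idem d c hUV) = 1 := by
  letI := chartAlg hUV
  rw [idem, theta_tprod]
  exact Finset.prod_eq_one fun i _ => by rw [Pi.single_eq_same, map_one]

set_option maxHeartbeats 800000 in
theorem theta_perm (σ : stab d c) :
    letI := chartAlg hUV
    letI := secAlg (WidePullback.base (fun _ : Fin d => f)) (box_le_base (U := U) (V := V) (c := c))
    ∀ x : ⨂[Γ(S, V)] _ : Fin d, prodRing U,
      theta d c hUV (SymSpan.permAlg Γ(S, V) (prodRing U) d σ.1 x) =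
        secAct ((powAct f d).comap (stab d c).subtype) (box_le_base (U := U) (V := V) (c := c))
          (fun h => permHom_preimage_box (f := f) (V := V) (U := U) (c := c) h) σ (theta d c hUV x) := by
  letI := chartAlg hUV
  letI := secAlg (WidePullback.base (fun _ : Fin d => f)) (box_le_base (U := U) (V := V) (c := c))
  intro x
  induction x using PiTensorProduct.induction_on with
  | smul_tprod r b =>
    simp only [map_smul, SymSpan.permAlg_apply, SymTen.perm_tprod, theta_tprod, map_prod]
    congr 1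
    refine (Fintype.prod_equiv σ.1 _ _ fun i => ?_).symm
    have h : (WidePullback.π (fun _ : Fin d => f) i).appLE (U (c i)) (box f d V U c) (box_le_π i) ≫
        (((powAct f d).comap (stab d c).subtype).hom σ⁻¹).appLE (box f d V U c) (box f d V U c)
          (le_preimage ((powAct f d).comap (stab d c).subtype) (fun h => permHom_preimage_box (f := f) (V := V) (U := U) (c := c) h) σ⁻¹) =
        (WidePullback.π (fun _ : Fin d => f) (σ.1 i)).appLE (U (c i)) (box f d V U c)
          (fun y hy => by rw [← σ.2 i]; exact box_le_π (σ.1 i) hy) := by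
      rw [Scheme.Hom.appLE_comp_appLE]
      exact SGA1Q.appLE_congr_hom (permHom_π f d _ i) _ _
    refine Eq.trans congr(($h).hom (b i (c i))) ?_
    have key : ∀ (j : ι) (e : j = c i) (hj : box f d V U c ≤ (WidePullback.π (fun _ : Fin d => f) (σ.1 i)) ⁻¹ᵁ U j)
        (hi : box f d V U c ≤ (WidePullback.π (fun _ : Fin d => f) (σ.1 i)) ⁻¹ᵁ U (c i)),
        ((WidePullback.π (fun _ : Fin d => f) (σ.1 i)).appLE (U (c i)) (box f d V U c) hi).hom (b i (c i)) =
        ((WidePullback.π (fun _ : Fin d => f) (σ.1 i)).appLE (U j) (box f d V U c) hj).hom (b i j) := by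
      rintro _ rfl hj hi; rfl
    rw [key (c (σ.1 i)) (σ.2 i) (box_le_π (σ.1 i))]
    rw [Equiv.symm_apply_apply]
  | add x y hx hy => simp only [map_add, hx, hy]

set_option maxHeartbeats 800000 in
/-- The box is the localisation of the tensor power of the product ring at its idempotent. -/
theorem isAway_theta (hV : IsAffineOpen V) (hU : ∀ j, IsAffineOpen (U j)) :
    letI := chartAlg hUV
    letI := secAlg (WidePullback.base (fun _ : Fin d => f)) (box_le_base (U := U) (V := V) (c := c))
    IsAway (theta d c hUV).toRingHom (idem d c hUV) := by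
  classical
  letI := chartAlg hUV
  letI := secAlg (WidePullback.base (fun _ : Fin d => f)) (box_le_base (U := U) (V := V) (c := c))
  have hW := isAffineOpen_box (d := d) (c := c) hV hU hUV
  let B := prodRing U
  let T := ⨂[Γ(S, V)] _ : Fin d, B
  let e : T := idem d c hUV
  let L := Localization.Away e
  let sgl := fun i => PiTensorProduct.singleAlgHom (R := Γ(S, V)) (A := fun _ : Fin d => B) i
  have hone : ∀ i, algebraMap T L (sgl i (Pi.single (c i) 1)) = 1 := fun i => by
    set s := algebraMap T L (sgl i (Pi.single (c i) 1))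
    have h2 : s * s = s := by
      rw [← map_mul, ← map_mul, ← Pi.single_mul, one_mul]
    have hu : IsUnit s := by
      refine isUnit_of_dvd_unit ⟨algebraMap T L (PiTensorProduct.tprod Γ(S, V)
        (Function.update (fun k => (Pi.single (c k) (1 : Γ(X, U (c k))) : B)) i 1)), ?_⟩
        (IsLocalization.Away.algebraMap_isUnit (S := L) e)
      rw [← map_mul]
      congr 1
      simp only [sgl, PiTensorProduct.singleAlgHom_apply, MonoidHom.mulSingle_apply, e, idem]
      rw [PiTensorProduct.tprod_mul_tprod]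
      refine congrArg _ (funext fun k => ?_)
      rw [Pi.mul_apply]
      by_cases hk : k = i
      · subst hk; simp
      · simp [hk]
    exact hu.mul_left_cancel (h2.trans (mul_one s).symm)
  let ψ : ∀ i : Fin d, Γ(X, U (c i)) →+* L := fun i =>
    { toFun := fun b => algebraMap T L (sgl i (Pi.single (c i) b))
      map_one' := hone i
      map_mul' := fun a b => by rw [Pi.single_mul, map_mul, map_mul]
      map_zero' := by rw [Pi.single_zero, map_zero, map_zero]
      map_add' := fun a b => by rw [Pi.single_add, map_add, map_add] }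
  have hψb : ∀ i b, ψ i (b (c i)) = algebraMap T L (sgl i b) := fun i b => by
    show algebraMap T L (sgl i (Pi.single (c i) (b (c i)))) = _
    rw [show (Pi.single (c i) (b (c i)) : B) = b * Pi.single (c i) 1 by
      funext j
      by_cases hj : j = c i
      · subst hj; rw [Pi.mul_apply, Pi.single_eq_same, Pi.single_eq_same, mul_one]
      · rw [Pi.mul_apply, Pi.single_eq_of_ne hj, Pi.single_eq_of_ne hj, mul_zero], map_mul, map_mul, hone i, mul_one]
  let ρ : Γ(S, V) →+* L := (algebraMap T L).comp (algebraMap Γ(S, V) T)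
  have hψr : ∀ i r, ψ i ((f.appLE V (U (c i)) (hUV _)).hom r) = ρ r := fun i r => by
    have := hψb i (algebraMap Γ(S, V) B r)
    refine this.trans ?_
    rw [AlgHom.commutes]
    rfl
  let sT : Fin d → (Spec (CommRingCat.of L) ⟶ X) := fun i => Spec.map (CommRingCat.ofHom (ψ i)) ≫ (hU (c i)).fromSpec
  have hsT : ∀ i, sT i ≫ f = Spec.map (CommRingCat.ofHom ρ) ≫ hV.fromSpec := fun i => by
    rw [Category.assoc, ← IsAffineOpen.SpecMap_appLE_fromSpec f hV (hU _) (hUV (c i)), ← Spec.map_comp_assoc]
    congr 2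
    exact CommRingCat.hom_ext (RingHom.ext (hψr i))
  let b₀ : Spec (CommRingCat.of L) ⟶ fibPow f d :=
    WidePullback.lift (Spec.map (CommRingCat.ofHom ρ) ≫ hV.fromSpec) sT hsT
  have hb₀ : Set.range b₀ ⊆ Set.range hW.fromSpec := by
    rintro _ ⟨x, rfl⟩
    rw [hW.range_fromSpec]
    refine mem_box.2 ⟨?_, fun i => ?_⟩
    · show (b₀ ≫ WidePullback.base (fun _ : Fin d => f)).base x ∈ V
      rw [WidePullback.lift_base]
      exact hV.range_fromSpec.le ⟨_, rfl⟩
    · show (b₀ ≫ WidePullback.π (fun _ : Fin d => f) i).base x ∈ U (c i)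
      rw [WidePullback.lift_π]
      exact (hU (c i)).range_fromSpec.le ⟨_, rfl⟩
  let χ := Spec.preimage (IsOpenImmersion.lift hW.fromSpec b₀ hb₀)
  have hχ : Spec.map χ ≫ hW.fromSpec = b₀ := by
    rw [Spec.map_preimage, IsOpenImmersion.lift_fac]
  let W := box f d V U c
  let pW := fun i => (WidePullback.π (fun _ : Fin d => f) i).appLE (U (c i)) W (box_le_π i)
  let bW := (WidePullback.base (fun _ : Fin d => f)).appLE V W box_le_base
  have hχp : ∀ i, pW i ≫ χ = CommRingCat.ofHom (ψ i) := fun i => by
    refine Spec.map_injective ((cancel_mono (hU (c i)).fromSpec).1 ?_)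
    rw [Spec.map_comp_assoc, IsAffineOpen.SpecMap_appLE_fromSpec _ (hU (c i)) hW, reassoc_of% hχ, WidePullback.lift_π]
  have hχb : bW ≫ χ = CommRingCat.ofHom ρ := by
    refine Spec.map_injective ((cancel_mono hV.fromSpec).1 ?_)
    rw [Spec.map_comp_assoc, IsAffineOpen.SpecMap_appLE_fromSpec _ hV hW, reassoc_of% hχ, WidePullback.lift_base]
  let χA : Γ(fibPow f d, W) →ₐ[Γ(S, V)] L :=
    { χ.hom with commutes' := fun r => congr(($hχb).hom r) }
  let θ₀ : L →+* Γ(fibPow f d, W) :=
    IsLocalization.Away.lift e (g := (theta d c hUV).toRingHom) (by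
      show IsUnit (theta d c hUV (idem d c hUV))
      rw [theta_idem]; exact isUnit_one)
  have h1 : ∀ l, χ.hom (θ₀ l) = l := by
    have h : χA.comp (theta d c hUV) = IsScalarTower.toAlgHom Γ(S, V) T L := by
      refine PiTensorProduct.algHom_ext fun i => AlgHom.ext fun b => ?_
      show χ.hom (theta d c hUV (sgl i b)) = algebraMap T L (sgl i b)
      rw [theta_single, ← hψb]
      exact congr(($(hχp i)).hom (b (c i)))
    have h' : χ.hom.comp θ₀ = RingHom.id L := by
      refine IsLocalization.ringHom_ext (Submonoid.powers e) (RingHom.ext fun t => ?_)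
      show χ.hom (θ₀ (algebraMap T L t)) = algebraMap T L t
      rw [IsLocalization.Away.lift_eq]
      exact DFunLike.congr_fun h t
    exact fun l => DFunLike.congr_fun h' l
  have h2 : CommRingCat.ofHom (θ₀.comp χ.hom) = 𝟙 (CommRingCat.of Γ(fibPow f d, W)) := by
    refine Spec.map_injective ((cancel_mono hW.fromSpec).1 ?_)
    rw [Spec.map_id, Category.id_comp,
      show CommRingCat.ofHom (θ₀.comp χ.hom) = χ ≫ CommRingCat.ofHom θ₀ from rfl, Spec.map_comp_assoc, hχ]
    refine WidePullback.hom_ext _ _ _ (fun i => ?_) ?_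
    · rw [Category.assoc, WidePullback.lift_π, ← IsAffineOpen.SpecMap_appLE_fromSpec _ (hU (c i)) hW (box_le_π i),
        ← Spec.map_comp_assoc]
      congr 2
      refine CommRingCat.hom_ext (RingHom.ext fun b => ?_)
      show θ₀ (algebraMap T L (sgl i (Pi.single (c i) b))) = _
      rw [IsLocalization.Away.lift_eq]
      refine (theta_single hUV i _).trans ?_
      rw [Pi.single_eq_same]
    · rw [Category.assoc, WidePullback.lift_base,
        ← IsAffineOpen.SpecMap_appLE_fromSpec _ hV hW box_le_base, ← Spec.map_comp_assoc]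
      congr 2
      refine CommRingCat.hom_ext (RingHom.ext fun r => ?_)
      show θ₀ (algebraMap T L (algebraMap Γ(S, V) T r)) = _
      rw [IsLocalization.Away.lift_eq]
      exact (theta d c hUV).commutes r
  have hθ : ∀ t, theta d c hUV t = θ₀ (algebraMap T L t) := fun t => (IsLocalization.Away.lift_eq e _ t).symm
  have hinj : Function.Injective θ₀ := Function.LeftInverse.injective h1
  have hsurj : ∀ z, θ₀ (χ.hom z) = z := fun z => congr(($h2).hom z)
  refine ⟨?_, fun z => ?_, fun {x y} h => ?_⟩
  · show IsUnit (theta d c hUV e)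
    rw [theta_idem]; exact isUnit_one
  · obtain ⟨n, x, hx⟩ := IsLocalization.Away.surj e (χ.hom z)
    refine ⟨n, x, ?_⟩
    show z * theta d c hUV e ^ n = theta d c hUV x
    rw [hθ x, ← hx, map_mul, map_pow, hsurj, ← hθ e]
  · refine IsLocalization.Away.exists_of_eq (S := L) e (hinj ?_)
    rw [← hθ, ← hθ]
    exact h

end Theta

end Groth.Agent.H23.SymBox
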