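import Groth.Agent.H23.SymCompare
import Groth.Agent.SGA1Q.Desc
import Mathlib.AlgebraicGeometry.IdealSheaf.Subscheme

/-!
The comparison morphism of symmetric products along a closed immersion.
-/

set_option autoImplicit false
set_option backward.isDefEq.respectTransparency false
set_option linter.style.haveILetI false
set_option maxHeartbeats 800000

universe u

open CategoryTheory CategoryTheory.Limits AlgebraicGeometry TopologicalSpace

namespace Groth.Agent.H23.SymClosed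

open SymProd InvLoc SymBox SymCore SymCompare

theorem main {X Z S Y W : Scheme.{u}} (f : X ⟶ S) (d : ℕ)
    (q : fibPow f d ⟶ Y) (g : Y ⟶ S) (hq : IsSymProd f d q g)
    (i : Z ⟶ X) [IsClosedImmersion i]
    (r : fibPow (i ≫ f) d ⟶ W) (gW : W ⟶ S) (hr : IsSymProd (i ≫ f) d r gW)
    (m : W ⟶ (fibPowMap (i ≫ f) d f i rfl ≫ q).ker.subscheme)
    (hm : r ≫ m ≫ (fibPowMap (i ≫ f) d f i rfl ≫ q).ker.subschemeι = fibPowMap (i ≫ f) d f i rfl ≫ q) :
    (∀ w : W, IsIso (m.residueFieldMap w)) ∧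
    ((∀ n : ℕ, 0 < n → IsUnit ((n : ℕ) : Γ(S, ⊤))) → IsIso m) ∧
    (Flat (i ≫ f) → IsClosedImmersion m) := by
  classical
  let f' := i ≫ f
  let a := fibPowMap (i ≫ f) d f i rfl ≫ q
  let μ := a.ker.subschemeι
  let ν := μ ≫ g
  have w : i ≫ f = f' ≫ 𝟙 S := (Category.comp_id _).symm
  haveI : IsClosedImmersion (pullback.lift i f' w) := by
    haveI : IsClosedImmersion (pullback.lift i f' w ≫ pullback.fst f (𝟙 S)) := by
      rw [pullback.lift_fst]; infer_instance
    exact IsClosedImmersion.of_comp _ (pullback.fst f (𝟙 S))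
  have hpow : powMap f d f' (𝟙 S) i w = fibPowMap (i ≫ f) d f i rfl := by
    refine WidePullback.hom_ext _ _ _ (fun j => ?_) ?_
    · rw [powMap_π, fibPowMap_π]
    · rw [powMap_base, fibPowMap_base, Category.comp_id]
  have hμ : r ≫ m ≫ μ = powMap f d f' (𝟙 S) i w ≫ q := by rw [hpow]; exact hm
  have hν : m ≫ ν = gW := by
    obtain ⟨e, -, hu⟩ := SGA1Q.desc_existsUnique_isQuot hr.isQuot (r ≫ gW) (fun σ => by
      rw [← Category.assoc, hr.isQuot.inv σ])
    rw [hu gW rfl, hu (m ≫ μ ≫ g) ?_]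
    show r ≫ m ≫ μ ≫ g = r ≫ gW
    rw [reassoc_of% hμ, hq.over, hr.over, powMap_base, Category.comp_id]
  have hM' : ∀ y : a.ker.subscheme, ∃ C : MChart (𝟙 S) (g := g) (μ := μ) (ν := ν),
      y ∈ C.open ∧ C.open = μ ⁻¹ᵁ C.W := fun y => by
    obtain ⟨V, hV, hyV, -⟩ := exists_isAffineOpen_mem_and_subset (x := g (μ y)) (U := ⊤) trivial
    obtain ⟨W₀, hW, hyW, hWV⟩ := exists_isAffineOpen_mem_and_subset (x := μ y) (U := g ⁻¹ᵁ V) hyV
    have e : μ ⁻¹ᵁ W₀ ⊓ ν ⁻¹ᵁ V = μ ⁻¹ᵁ W₀ := inf_eq_left.2 (μ.preimage_mono hWV)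
    refine ⟨⟨V, V, W₀, hV, hV, hW, le_rfl, hWV, ?_⟩, ⟨hyW, hyV⟩, e⟩
    rw [e]
    exact hW.preimage μ
  have hM : ∀ y : a.ker.subscheme, ∃ C : MChart (𝟙 S) (g := g) (μ := μ) (ν := ν), y ∈ C.open := fun y =>
    let ⟨C, hC, _⟩ := hM' y
    ⟨C, hC⟩
  have haffm : IsAffineHom m := SymCompare.isAffineHom hq hr hμ hν hM
  haveI := hr.isQuot.affine
  haveI : QuasiCompact a := by
    show QuasiCompact (fibPowMap (i ≫ f) d f i rfl ≫ q)
    rw [← hm]
    infer_instance
  refine ⟨fun y => SymCompare.isIso_residueFieldMap hq hr hμ hν hM y, fun hu => ?_, fun hflat => ?_⟩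
  · refine SymCompare.isIso_of_tame hq hr hμ hν hu fun y => ?_
    obtain ⟨C, hC, hCopen⟩ := hM' y
    refine ⟨C, hC, ?_⟩
    have hto : r ≫ m = a.toImage := by
      rw [← cancel_mono a.imageι, Category.assoc, Scheme.Hom.toImage_imageι]
      exact hm
    have hinj : Function.Injective ((r ≫ m).app C.open).hom := by
      have key : ∀ (φ : fibPow (i ≫ f) d ⟶ a.ker.subscheme), φ = a.toImage → ∀ U, U = a.imageι ⁻¹ᵁ C.W →
          Function.Injective (φ.app U).hom := by
        rintro φ rfl U rfl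
        exact a.toImage_app_injective ⟨C.W, C.hW⟩
      exact key _ hto _ hCopen
    rw [Scheme.Hom.comp_app, CommRingCat.hom_comp, RingHom.coe_comp] at hinj
    exact hinj.of_comp
  · haveI := hflat
    exact SymCompare.isClosedImmersion_of_flat hq hr hμ hν hM

end Groth.Agent.H23.SymClosed
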