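import Groth.Agent.H23.SymApply
import Groth.Agent.SGA1Q.Properties
import Groth.Agent.SGA1Q.Residue
import Mathlib.AlgebraicGeometry.Morphisms.ClosedImmersion
import Mathlib.AlgebraicGeometry.Morphisms.IsIso

/-!
Comparison morphisms between symmetric products along base change or closed subschemes.
-/

set_option autoImplicit false
set_option backward.isDefEq.respectTransparency false
set_option linter.style.haveILetI false
set_option maxHeartbeats 800000

universe u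

open CategoryTheory CategoryTheory.Limits AlgebraicGeometry TopologicalSpace
open scoped TensorProduct

namespace Groth.Agent.H23.SymCompare

open SymProd InvLoc SymBox SymLocal SymCore

theorem mem_range_iff {X S Y : Scheme.{u}} {f : X ⟶ S} {d : ℕ} {q : fibPow f d ⟶ Y} {g : Y ⟶ S}
    (hq : IsSymProd f d q g) {V : S.Opens} (W : Y.Opens) {O : (fibPow f d).Opens} (hO : O = q ⁻¹ᵁ W)
    (hOV : O ≤ (WidePullback.base (fun _ : Fin d => f)) ⁻¹ᵁ V) (hinv : ∀ σ, permHom f d σ ⁻¹ᵁ O = O)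
    (s : Γ(fibPow f d, O)) :
    letI := secAlg (WidePullback.base (fun _ : Fin d => f)) hOV
    s ∈ Set.range (q.appLE W O hO.le).hom ↔ s ∈ InvLoc.inv (secAct (powAct f d) hOV hinv) := by
  refine (SGA1Q.range_appLE_iff hq.isQuot W O hO s).trans ⟨fun h σ => ?_, fun h σ e => ?_⟩
  · exact h ⟨σ⁻¹⟩ (le_preimage (powAct f d) hinv σ⁻¹)
  · refine Eq.trans ?_ (h σ.down⁻¹)
    rw [secAct_apply]
    exact congr(($(SGA1Q.appLE_congr_hom (show (permActU f d σ).hom = (powAct f d).hom σ.down⁻¹⁻¹ by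
      rw [inv_inv]; rfl) e _)).hom s)

theorem appLE_injective {X Y : Scheme.{u}} {G : Type u} [Group G] {ρ : G →* Aut X} {p : X ⟶ Y}
    (hp : SGA1.IsQuot ρ p) (W : Y.Opens) {O : X.Opens} (hO : O = p ⁻¹ᵁ W) :
    Function.Injective (p.appLE W O hO.le).hom := by
  subst hO
  rw [← Scheme.Hom.app_eq_appLE]
  exact hp.injective W

theorem isQuot_comp_iso {X₁ X₂ Y : Scheme.{u}} {G : Type u} [Group G] {ρ₁ : G →* Aut X₁} {ρ₂ : G →* Aut X₂}
    {p : X₂ ⟶ Y} (hp : SGA1.IsQuot ρ₂ p) (e : X₁ ≅ X₂) (he : ∀ g, (ρ₁ g).hom ≫ e.hom = e.hom ≫ (ρ₂ g).hom) :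
    SGA1.IsQuot ρ₁ (e.hom ≫ p) := by
  haveI := hp.affine
  have hinv : ∀ g, (ρ₁ g).hom ≫ e.hom ≫ p = e.hom ≫ p := fun g => by
    rw [← Category.assoc, he, Category.assoc, hp.inv g]
  have hb := fun U => ConcreteCategory.bijective_of_isIso (e.hom.app (p ⁻¹ᵁ U))
  refine ⟨inferInstance, hinv, fun U => ?_, fun U s => ?_⟩
  · rw [Scheme.Hom.comp_app]
    exact (hb U).1.comp (hp.injective U)
  · obtain ⟨s, rfl⟩ := (hb U).2 s
    have hcomm : ∀ g : G, ((ρ₁ g).hom.appLE ((e.hom ≫ p) ⁻¹ᵁ U) ((e.hom ≫ p) ⁻¹ᵁ U)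
        (SGA1.preimage_le_of_inv ρ₁ (e.hom ≫ p) hinv g U)).hom ((e.hom.app (p ⁻¹ᵁ U)).hom s) =
        (e.hom.app (p ⁻¹ᵁ U)).hom (((ρ₂ g).hom.appLE (p ⁻¹ᵁ U) (p ⁻¹ᵁ U) (SGA1.preimage_le_of_inv ρ₂ p hp.inv g U)).hom s) := by
      intro g
      have h : e.hom.appLE (p ⁻¹ᵁ U) ((e.hom ≫ p) ⁻¹ᵁ U) le_rfl ≫
          (ρ₁ g).hom.appLE ((e.hom ≫ p) ⁻¹ᵁ U) ((e.hom ≫ p) ⁻¹ᵁ U) (SGA1.preimage_le_of_inv ρ₁ (e.hom ≫ p) hinv g U) =
          (ρ₂ g).hom.appLE (p ⁻¹ᵁ U) (p ⁻¹ᵁ U) (SGA1.preimage_le_of_inv ρ₂ p hp.inv g U) ≫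
            e.hom.appLE (p ⁻¹ᵁ U) ((e.hom ≫ p) ⁻¹ᵁ U) le_rfl := by
        rw [Scheme.Hom.appLE_comp_appLE, Scheme.Hom.appLE_comp_appLE]
        exact SGA1Q.appLE_congr_hom (he g) _ _
      rw [Scheme.Hom.app_eq_appLE]
      exact congr(($h).hom s)
    constructor
    · rintro ⟨t, ht⟩ g
      rw [hcomm]
      refine congrArg _ (((hp.range_iff U s).1 ⟨t, (hb U).1 ?_⟩) g)
      rw [← ht, Scheme.Hom.comp_app]
      rfl
    · intro h
      obtain ⟨t, rfl⟩ := (hp.range_iff U s).2 fun g => (hb U).1 ((hcomm g).symm.trans (h g))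
      exact ⟨t, by rw [Scheme.Hom.comp_app]; rfl⟩

theorem appTop_restrict {A B : Scheme.{u}} (m : A ⟶ B) (U : B.Opens) :
    (Function.Surjective (m.app U).hom → Function.Surjective (m ∣_ U).appTop.hom) ∧
      (Function.Injective (m.app U).hom → Function.Injective (m ∣_ U).appTop.hom) := by
  have key : ∀ V, V = U → (Function.Surjective (m.app U).hom → Function.Surjective (m.app V).hom) ∧
      (Function.Injective (m.app U).hom → Function.Injective (m.app V).hom) := by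
    rintro V rfl
    exact ⟨id, id⟩
  rw [Scheme.Hom.appTop, morphismRestrict_app]
  have hbij := ConcreteCategory.bijective_of_isIso
    (A.presheaf.map (eqToHom (image_morphismRestrict_preimage m U ⊤)).op)
  exact ⟨fun h => hbij.2.comp ((key _ U.ι_image_top).1 h), fun h => hbij.1.comp ((key _ U.ι_image_top).2 h)⟩

variable {X X' S S' Y Y' M : Scheme.{u}} (f : X ⟶ S) {d : ℕ} (f' : X' ⟶ S') (b : S' ⟶ S) (h : X' ⟶ X)
  (w : h ≫ f = f' ≫ b)

section Affine

variable [IsClosedImmersion (pullback.lift h f' w)] {V : S.Opens} (hV : IsAffineOpen V) {V' : S'.Opens}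
  (hV' : IsAffineOpen V') (hVb : V' ≤ b ⁻¹ᵁ V) {O : (fibPow f d).Opens} (hOaff : IsAffineOpen O)
  (hO : O ≤ (WidePullback.base (fun _ : Fin d => f)) ⁻¹ᵁ V) (hinv : ∀ σ, permHom f d σ ⁻¹ᵁ O = O)

include hV hV' hVb hOaff hO hinv in
theorem isAffineOpen_preim : IsAffineOpen (preim f f' b h w O V') := by
  classical
  let cM := powMap f d f' b h w
  let O' := preim f f' b h w O V'
  let π := cM.appLE O O' (preim_le f f' b h w O)
  let s : Set Γ(fibPow f d, O) := {t | IsAffineOpen ((fibPow f' d).basicOpen (π.hom t))}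
  refine isAffineOpen_of_isAffineOpen_basicOpen _ (π.hom '' s) ?_ (by rintro _ ⟨t, ht, rfl⟩; exact ht)
  rw [← Ideal.map_span, show Ideal.span s = ⊤ from ?_, Ideal.map_top]
  by_contra hne
  obtain ⟨q, hq, hle⟩ := Ideal.exists_le_maximal _ hne
  obtain ⟨z, hz, hzq⟩ := exists_point_of_prime hOaff q
  obtain ⟨L⟩ := exists_loc hV hOaff hO hinv hz
  refine (hzq L.t).1 (L.hDt.le L.hzD) (hle (Ideal.subset_span ?_))
  show IsAffineOpen ((fibPow f' d).basicOpen (π.hom L.t))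
  let U' : Fin d → X'.Opens := fun j => h ⁻¹ᵁ L.U j ⊓ f' ⁻¹ᵁ V'
  have hU' : ∀ j, IsAffineOpen (U' j) := fun j =>
    (affine_span f f' b h w hV hV' hVb (L.hU j) (L.hUV j) (U' := U' j) rfl).1
  have hW' : box f' d V' U' L.c = preim f f' b h w (box f d V L.U L.c) V' := box_preim f f' b h w hVb L.c L.U
  letI := chartAlg L.hUV
  have e : (fibPow f' d).basicOpen (π.hom L.t) = (fibPow f' d).basicOpen
      ((cM.appLE (box f d V L.U L.c) (box f' d V' U' L.c) (hW'.trans_le inf_le_left)).hom (theta d L.c L.hUV L.x)) := by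
    rw [Scheme.basicOpen_appLE, Scheme.basicOpen_appLE, ← L.hDt, ← L.hDx, hW']
    exact le_antisymm
      (le_inf (le_inf (inf_le_right.trans (cM.preimage_mono L.le_box)) (inf_le_left.trans inf_le_right)) inf_le_right)
      (le_inf (le_inf (inf_le_right.trans (cM.preimage_mono (SymCore.Loc.le f L))) (inf_le_left.trans inf_le_right))
        inf_le_right)
  rw [e]
  exact (isAffineOpen_box hV' hU' (fun j => inf_le_right)).basicOpen _

end Affine

variable [IsClosedImmersion (pullback.lift h f' w)] {q : fibPow f d ⟶ Y} {g : Y ⟶ S} (hq : IsSymProd f d q g)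
  {r : fibPow f' d ⟶ Y'} {g' : Y' ⟶ S'} (hr : IsSymProd f' d r g') {m : Y' ⟶ M} {μ : M ⟶ Y} {ν : M ⟶ S'}
  (hμ : r ≫ m ≫ μ = powMap f d f' b h w ≫ q) (hν : m ≫ ν = g')

/-- An affine chart of the target of a comparison morphism. -/
structure MChart where
  V : S.Opens
  V' : S'.Opens
  W : Y.Opens
  hV : IsAffineOpen V
  hV' : IsAffineOpen V'
  hW : IsAffineOpen W
  hVb : V' ≤ b ⁻¹ᵁ V
  hWV : W ≤ g ⁻¹ᵁ V
  aff : IsAffineOpen (μ ⁻¹ᵁ W ⊓ ν ⁻¹ᵁ V')

variable {f f' b h w} (C : MChart b (g := g) (μ := μ) (ν := ν))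

/-- The open of the chart. -/
def MChart.open (C : MChart b (g := g) (μ := μ) (ν := ν)) : M.Opens := μ ⁻¹ᵁ C.W ⊓ ν ⁻¹ᵁ C.V'

theorem MChart.isAffineOpen : IsAffineOpen C.open := C.aff

include hr hμ hν in
theorem preimage_chart : preim f f' b h w (q ⁻¹ᵁ C.W) C.V' = r ⁻¹ᵁ (m ⁻¹ᵁ C.open) := by
  show _ = r ⁻¹ᵁ (m ⁻¹ᵁ (μ ⁻¹ᵁ C.W)) ⊓ r ⁻¹ᵁ (m ⁻¹ᵁ (ν ⁻¹ᵁ C.V'))
  rw [← Scheme.Hom.comp_preimage, ← Scheme.Hom.comp_preimage, ← Scheme.Hom.comp_preimage, ← Scheme.Hom.comp_preimage,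
    Category.assoc, Category.assoc, hμ, hν, hr.over, Scheme.Hom.comp_preimage]
  rfl

include hq hr hμ hν in
theorem isAffineOpen_preimage : IsAffineOpen (m ⁻¹ᵁ C.open) := by
  haveI := hq.isQuot.affine
  have hO := isAffineOpen_preim f f' b h w C.hV C.hV' C.hVb (C.hW.preimage q)
    (SymApply.preimage_le_base hq C.hWV) (SymApply.permHom_preimage hq)
  rw [preimage_chart hr hμ hν C] at hO
  let W' := m ⁻¹ᵁ C.open
  have hst : ∀ σ : ULift.{u} (Equiv.Perm (Fin d)), r ⁻¹ᵁ W' ≤ (permActU f' d σ).hom ⁻¹ᵁ (r ⁻¹ᵁ W') :=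
    fun σ => SGA1.preimage_le_of_inv (permActU f' d) r hr.isQuot.inv σ W'
  haveI : IsAffine (r ⁻¹ᵁ W').toScheme := hO
  exact SGA1Q.isAffine_of_isQuot (SGA1Q.isQuot_morphismRestrict hr.isQuot W'
    (SGA1Q.restrictAction (permActU f' d) (r ⁻¹ᵁ W') hst)
    (fun σ => SGA1Q.restrictAction_hom_ι (permActU f' d) _ hst σ))

include hq hr hμ hν in
theorem isAffineHom (hM : ∀ y : M, ∃ C : MChart b (g := g) (μ := μ) (ν := ν), y ∈ C.open) : IsAffineHom m := by
  choose C hC using hM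
  refine HasAffineProperty.of_iSup_eq_top (P := @IsAffineHom) (fun y : M => ⟨(C y).open, (C y).isAffineOpen⟩) ?_ fun y => ?_
  · exact eq_top_iff.2 fun y _ => Opens.mem_iSup.2 ⟨y, hC y⟩
  · exact isAffineOpen_preimage hq hr hμ hν (C y)

include hq hr hμ hν in
/-- The image of the generators on a chart comes through the comparison morphism. -/
theorem adjoin_le_range :
    letI := secAlg (WidePullback.base (fun _ : Fin d => f)) (SymApply.preimage_le_base hq C.hWV)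
    letI := secAlg (WidePullback.base (fun _ : Fin d => f')) (preim_le_base f f' b h w (q ⁻¹ᵁ C.W) (V' := C.V'))
    ∀ x ∈ Algebra.adjoin Γ(S', C.V') (((powMap f d f' b h w).appLE (q ⁻¹ᵁ C.W) (preim f f' b h w (q ⁻¹ᵁ C.W) C.V')
        (preim_le f f' b h w (q ⁻¹ᵁ C.W))).hom '' (InvLoc.inv (secAct (powAct f d)
          (SymApply.preimage_le_base hq C.hWV) (SymApply.permHom_preimage hq)) : Set Γ(fibPow f d, q ⁻¹ᵁ C.W))),
      ∃ u, (r.appLE (m ⁻¹ᵁ C.open) (preim f f' b h w (q ⁻¹ᵁ C.W) C.V') (preimage_chart hr hμ hν C).le).hom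
        ((m.app C.open).hom u) = x := by
  letI := secAlg (WidePullback.base (fun _ : Fin d => f)) (SymApply.preimage_le_base hq C.hWV)
  letI := secAlg (WidePullback.base (fun _ : Fin d => f')) (preim_le_base f f' b h w (q ⁻¹ᵁ C.W) (V' := C.V'))
  intro x hx
  let ψ := m.app C.open ≫ r.appLE (m ⁻¹ᵁ C.open) (preim f f' b h w (q ⁻¹ᵁ C.W) C.V') (preimage_chart hr hμ hν C).le
  change x ∈ _ at hx
  suffices x ∈ Set.range ψ.hom from this
  induction hx using Algebra.adjoin_induction with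
  | mem x hx =>
    obtain ⟨y, hy, rfl⟩ := hx
    obtain ⟨v, rfl⟩ := (mem_range_iff hq C.W rfl (SymApply.preimage_le_base hq C.hWV)
      (SymApply.permHom_preimage hq) y).2 hy
    refine ⟨(μ.appLE C.W C.open inf_le_left).hom v, ?_⟩
    have e : μ.appLE C.W C.open inf_le_left ≫ ψ = q.appLE C.W (q ⁻¹ᵁ C.W) le_rfl ≫
        (powMap f d f' b h w).appLE (q ⁻¹ᵁ C.W) (preim f f' b h w (q ⁻¹ᵁ C.W) C.V') (preim_le f f' b h w _) := by
      rw [show ψ = m.app C.open ≫ _ from rfl, Scheme.Hom.app_eq_appLE, ← Category.assoc,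
        Scheme.Hom.appLE_comp_appLE, Scheme.Hom.appLE_comp_appLE, Scheme.Hom.appLE_comp_appLE]
      exact SGA1Q.appLE_congr_hom hμ _ _
    exact congr(($e).hom v)
  | algebraMap a =>
    refine ⟨(ν.appLE C.V' C.open inf_le_right).hom a, ?_⟩
    have e : ν.appLE C.V' C.open inf_le_right ≫ ψ = (WidePullback.base (fun _ : Fin d => f')).appLE C.V'
        (preim f f' b h w (q ⁻¹ᵁ C.W) C.V') (preim_le_base f f' b h w _) := by
      rw [show ψ = m.app C.open ≫ _ from rfl, Scheme.Hom.app_eq_appLE, ← Category.assoc,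
        Scheme.Hom.appLE_comp_appLE, Scheme.Hom.appLE_comp_appLE]
      exact SGA1Q.appLE_congr_hom (by rw [hν, hr.over]) _ _
    exact congr(($e).hom a)
  | add x y _ _ hx hy => obtain ⟨u, rfl⟩ := hx; obtain ⟨v, rfl⟩ := hy; exact ⟨u + v, map_add _ _ _⟩
  | mul x y _ _ hx hy => obtain ⟨u, rfl⟩ := hx; obtain ⟨v, rfl⟩ := hy; exact ⟨u * v, map_mul _ _ _⟩

include hq hr hμ hν in
theorem app_surjective (hcase : Flat f' ∨ IsUnit ((Nat.factorial d : ℕ) : Γ(S', C.V'))) :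
    Function.Surjective (m.app C.open).hom := by
  intro s
  haveI := hq.isQuot.affine
  have hinj := appLE_injective hr.isQuot (m ⁻¹ᵁ C.open) (preimage_chart hr hμ hν C)
  letI := secAlg (WidePullback.base (fun _ : Fin d => f)) (SymApply.preimage_le_base hq C.hWV)
  letI := secAlg (WidePullback.base (fun _ : Fin d => f')) (preim_le_base f f' b h w (q ⁻¹ᵁ C.W) (V' := C.V'))
  have hOaff := C.hW.preimage q
  have hO' := isAffineOpen_preim f f' b h w C.hV C.hV' C.hVb hOaff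
    (SymApply.preimage_le_base hq C.hWV) (SymApply.permHom_preimage hq)
  have hs := SymCore.surj f f' b h w C.hVb C.hV C.hV' hOaff (SymApply.preimage_le_base hq C.hWV)
    (SymApply.permHom_preimage hq) hO' hcase
    ((mem_range_iff hr (m ⁻¹ᵁ C.open) (preimage_chart hr hμ hν C) (preim_le_base f f' b h w _)
      (fun σ => permHom_preimage_preim f f' b h w (SymApply.permHom_preimage hq σ)) _).1 ⟨s, rfl⟩)
  obtain ⟨u, hu⟩ := adjoin_le_range hq hr hμ hν C _ hs
  exact ⟨u, hinj hu⟩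

include hq hr hμ hν in
theorem isIso_residueFieldMap (hM : ∀ y : M, ∃ C : MChart b (g := g) (μ := μ) (ν := ν), y ∈ C.open) (y : Y') :
    IsIso (m.residueFieldMap y) := by
  haveI := hq.isQuot.affine
  obtain ⟨z, rfl⟩ := SGA1Q.surjective hr.isQuot y
  obtain ⟨C, hC⟩ := hM (m (r z))
  let O' := preim f f' b h w (q ⁻¹ᵁ C.W) C.V'
  have hpre := preimage_chart hr hμ hν C
  have hz : z ∈ O' := hpre.ge hC
  have hOaff := C.hW.preimage q
  have hOV := SymApply.preimage_le_base hq C.hWV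
  have hinvO := SymApply.permHom_preimage hq (W := C.W)
  have hO' : IsAffineOpen O' := isAffineOpen_preim f f' b h w C.hV C.hV' C.hVb hOaff hOV hinvO
  letI := secAlg (WidePullback.base (fun _ : Fin d => f)) hOV
  letI := secAlg (WidePullback.base (fun _ : Fin d => f')) (preim_le_base f f' b h w (q ⁻¹ᵁ C.W) (V' := C.V'))
  let ev := ((fibPow f' d).evaluation O' z hz).hom
  let mF := (m.residueFieldMap (r z)).hom
  let rF := (r.residueFieldMap z).hom
  let L : Subfield ((fibPow f' d).residueField z) := (rF.comp mF).fieldRange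
  have heval : ∀ s : Γ(Y', m ⁻¹ᵁ C.open), Y'.evaluation (m ⁻¹ᵁ C.open) (r z) hC s ∈ mF.fieldRange := by
    intro s
    have hmem := SymCore.val f f' b h w C.hVb C.hV C.hV' hOaff hOV hinvO hO' ev
      ((r.appLE (m ⁻¹ᵁ C.open) O' hpre.le).hom s)
      ((mem_range_iff hr (m ⁻¹ᵁ C.open) hpre (preim_le_base f f' b h w _)
        (fun σ => permHom_preimage_preim f f' b h w (hinvO σ)) _).1 ⟨s, rfl⟩)
    have hL : ev ((r.appLE (m ⁻¹ᵁ C.open) O' hpre.le).hom s) ∈ L := by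
      refine Subfield.closure_le.2 ?_ hmem
      rintro _ ⟨x, hx, rfl⟩
      obtain ⟨u, rfl⟩ := adjoin_le_range hq hr hμ hν C x hx
      refine ⟨M.evaluation C.open (m (r z)) hC u, ?_⟩
      rw [RingHom.comp_apply]
      have e1 := SGA1Q.evaluation_appLE r (m ⁻¹ᵁ C.open) O' hpre.le z hz ((m.app C.open).hom u)
      refine Eq.trans ?_ e1.symm
      refine congrArg rF ?_
      rw [Scheme.Hom.app_eq_appLE]
      exact (SGA1Q.evaluation_appLE m C.open (m ⁻¹ᵁ C.open) le_rfl (r z) hC u).symm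
    obtain ⟨k, hk⟩ := hL
    refine ⟨k, rF.injective ?_⟩
    exact hk.trans (SGA1Q.evaluation_appLE r (m ⁻¹ᵁ C.open) O' hpre.le z hz s)
  refine (ConcreteCategory.isIso_iff_bijective _).2 ⟨mF.injective, fun k => ?_⟩
  have hW' := isAffineOpen_preimage hq hr hμ hν C
  letI := (RingHom.kerLift (Y'.evaluation (m ⁻¹ᵁ C.open) (r z) hC).hom).toAlgebra
  haveI := SGA1Q.isFractionRing_evaluation hW' (r z) hC
  obtain ⟨x, x', -, hxx⟩ := IsFractionRing.div_surjective
    (Γ(Y', m ⁻¹ᵁ C.open) ⧸ RingHom.ker (Y'.evaluation (m ⁻¹ᵁ C.open) (r z) hC).hom) k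
  obtain ⟨x, rfl⟩ := Ideal.Quotient.mk_surjective x
  obtain ⟨x', rfl⟩ := Ideal.Quotient.mk_surjective x'
  have : k ∈ mF.fieldRange := by
    rw [← hxx]
    exact mF.fieldRange.div_mem (heval x) (heval x')
  exact this

include hq hr hμ hν in
theorem isClosedImmersion_of_flat [Flat f'] (hM : ∀ y : M, ∃ C : MChart b (g := g) (μ := μ) (ν := ν), y ∈ C.open) :
    IsClosedImmersion m := by
  choose C hC using hM
  refine HasAffineProperty.of_iSup_eq_top (P := @IsClosedImmersion) (fun y : M => ⟨(C y).open, (C y).isAffineOpen⟩) ?_ fun y => ?_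
  · exact eq_top_iff.2 fun y _ => Opens.mem_iSup.2 ⟨y, hC y⟩
  · refine ⟨isAffineOpen_preimage hq hr hμ hν (C y), ?_⟩
    have hsurj : Function.Surjective (m.app (C y).open).hom :=
      app_surjective hq hr hμ hν (C y) (Or.inl inferInstance)
    exact (appTop_restrict m _).1 hsurj

include hq hr hμ hν in
theorem isIso_of_tame (hu : ∀ n : ℕ, 0 < n → IsUnit ((n : ℕ) : Γ(S', ⊤)))
    (hM : ∀ y : M, ∃ C : MChart b (g := g) (μ := μ) (ν := ν), y ∈ C.open ∧ Function.Injective (m.app C.open).hom) :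
    IsIso m := by
  choose C hC hinj using hM
  refine HasAffineProperty.of_iSup_eq_top (P := MorphismProperty.isomorphisms Scheme.{u})
    (fun y : M => ⟨(C y).open, (C y).isAffineOpen⟩) ?_ fun y => ?_
  · exact eq_top_iff.2 fun y _ => Opens.mem_iSup.2 ⟨y, hC y⟩
  · refine ⟨isAffineOpen_preimage hq hr hμ hν (C y), ?_⟩
    exact (ConcreteCategory.isIso_iff_bijective _).2 ⟨(appTop_restrict m _).2 (hinj y),
      (appTop_restrict m _).1 (app_surjective hq hr hμ hν (C y) (Or.inr (SymApply.isUnit_factorial hu _ d)))⟩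

end Groth.Agent.H23.SymCompare
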