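import Groth.Agent.H23.SymLocal
import Mathlib.LinearAlgebra.DFinsupp

/-!
Comparison of invariants on symmetric products: residue fields, flat and tame base change, closed subschemes.
-/

set_option autoImplicit false
set_option backward.isDefEq.respectTransparency false
set_option linter.style.haveILetI false

universe u

open CategoryTheory CategoryTheory.Limits AlgebraicGeometry TopologicalSpace
open scoped TensorProduct

set_option maxHeartbeats 1000000

namespace Groth.Agent.H23.SymCore

open SymProd InvLoc SymBox SymLocal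

theorem exists_lift_of_isAway {A C K : Type*} [CommRing A] [CommRing C] [CommRing K] {l : A →+* C} {t : A}
    (hl : IsAway l t) (g : A →+* K) (hg : IsUnit (g t)) : ∃ g' : C →+* K, ∀ x, g' (l x) = g x := by
  letI := l.toAlgebra
  haveI : IsLocalization.Away t C := IsAway.isLocalization hl
  exact ⟨IsLocalization.Away.lift t hg, fun x => IsLocalization.Away.lift_eq t hg x⟩

theorem flat_pi {R : Type u} [CommRing R] {ι : Type} [Fintype ι] [DecidableEq ι] (M : ι → Type u)
    [∀ i, AddCommGroup (M i)] [∀ i, Module R (M i)] [∀ i, Module.Flat R (M i)] : Module.Flat R (∀ i, M i) :=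
  Module.Flat.of_linearEquiv (DirectSum.linearEquivFunOnFintype R ι M).symm

theorem exists_point_of_prime {P : Scheme.{u}} {O : P.Opens} (hO : IsAffineOpen O) (q : Ideal Γ(P, O))
    [q.IsPrime] : ∃ z, z ∈ O ∧ ∀ s : Γ(P, O), z ∈ P.basicOpen s ↔ s ∉ q := by
  refine ⟨hO.fromSpec ⟨q, inferInstance⟩, hO.range_fromSpec.le ⟨_, rfl⟩, fun s => ?_⟩
  show (⟨q, inferInstance⟩ : PrimeSpectrum Γ(P, O)) ∈ hO.fromSpec ⁻¹ᵁ P.basicOpen s ↔ _
  rw [hO.fromSpec_preimage_basicOpen]
  rfl

section Span

variable {X X' S S' : Scheme.{u}} (f : X ⟶ S) (f' : X' ⟶ S') (b : S' ⟶ S) (h : X' ⟶ X) (w : h ≫ f = f' ≫ b)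

theorem affine_span [IsClosedImmersion (pullback.lift h f' w)] {V : S.Opens} (hV : IsAffineOpen V) {V' : S'.Opens}
    (hV' : IsAffineOpen V') (hVb : V' ≤ b ⁻¹ᵁ V) {U : X.Opens} (hU : IsAffineOpen U) (hUV : U ≤ f ⁻¹ᵁ V)
    {U' : X'.Opens} (hU' : U' = h ⁻¹ᵁ U ⊓ f' ⁻¹ᵁ V') :
    IsAffineOpen U' ∧
      (letI := (f'.appLE V' U' (hU'.trans_le inf_le_right)).hom.toAlgebra
      Submodule.span Γ(S', V') (Set.range (h.appLE U U' (hU'.trans_le inf_le_left)).hom) = ⊤) := by
  let j := pullback.lift h f' w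
  let O := pullback.fst f b ⁻¹ᵁ U ⊓ pullback.snd f b ⁻¹ᵁ V'
  have hO : IsAffineOpen O := by
    haveI : IsAffine U.toScheme := hU
    haveI : IsAffine V'.toScheme := hV'
    haveI : IsAffine V.toScheme := hV
    let m := pullback.map (f.resLE V U hUV) (b.resLE V V' hVb) f b U.ι V'.ι V.ι
      (Scheme.Hom.resLE_comp_ι f hUV) (Scheme.Hom.resLE_comp_ι b hVb)
    have : m.opensRange = O := by
      refine Opens.ext ?_
      show Set.range m = _
      rw [Scheme.Pullback.range_map, Scheme.Opens.range_ι, Scheme.Opens.range_ι]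
      rfl
    rw [← this]
    exact isAffineOpen_opensRange m
  have hpre : j ⁻¹ᵁ O = U' := by
    show j ⁻¹ᵁ (pullback.fst f b ⁻¹ᵁ U) ⊓ j ⁻¹ᵁ (pullback.snd f b ⁻¹ᵁ V') = _
    rw [← Scheme.Hom.comp_preimage, ← Scheme.Hom.comp_preimage, pullback.lift_fst, pullback.lift_snd, hU']
  subst hpre
  refine ⟨hO.preimage j, ?_⟩
  letI := (f'.appLE V' (j ⁻¹ᵁ O) (hU'.trans_le inf_le_right)).hom.toAlgebra
  have l₁ : O ≤ pullback.fst f b ⁻¹ᵁ U := inf_le_left
  have l₂ : O ≤ pullback.snd f b ⁻¹ᵁ V' := inf_le_right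
  have hpo := (isIso_pushoutSection_iff (IsPullback.of_hasPullback f b) (US := V) (UT := V') (UX := U) hVb hUV
    (UY := O) rfl).1
    (isIso_pushoutSection_of_isAffineOpen (IsPullback.of_hasPullback f b) hVb hUV rfl hV hV' hU)
  letI := (f.appLE V U hUV).hom.toAlgebra
  letI := (b.appLE V V' hVb).hom.toAlgebra
  letI := ((pullback.fst f b).appLE U O l₁).hom.toAlgebra
  letI := ((pullback.snd f b).appLE V' O l₂).hom.toAlgebra
  letI := (((pullback.fst f b).appLE U O l₁).hom.comp (f.appLE V U hUV).hom).toAlgebra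
  haveI : IsScalarTower Γ(S, V) Γ(X, U) Γ(pullback f b, O) := IsScalarTower.of_algebraMap_eq' rfl
  haveI : IsScalarTower Γ(S, V) Γ(S', V') Γ(pullback f b, O) :=
    IsScalarTower.of_algebraMap_eq' (congrArg CommRingCat.Hom.hom hpo.w)
  haveI : Algebra.IsPushout Γ(S, V) Γ(S', V') Γ(X, U) Γ(pullback f b, O) :=
    CommRingCat.isPushout_iff_isPushout.1 hpo.flip
  refine eq_top_iff.2 fun y _ => ?_
  obtain ⟨p, rfl⟩ := j.app_surjective O hO y
  obtain ⟨z, rfl⟩ := (Algebra.IsPushout.equiv Γ(S, V) Γ(S', V') Γ(X, U) Γ(pullback f b, O)).surjective p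
  induction z using TensorProduct.induction_on with
  | zero => simp
  | tmul r x =>
    rw [Algebra.IsPushout.equiv_tmul, map_mul]
    have h1 : (pullback.snd f b).appLE V' O l₂ ≫ j.app O = f'.appLE V' (j ⁻¹ᵁ O) (hU'.trans_le inf_le_right) := by
      rw [Scheme.Hom.app_eq_appLE, Scheme.Hom.appLE_comp_appLE]
      exact SGA1Q.appLE_congr_hom (pullback.lift_snd _ _ _) _ _
    have h2 : (pullback.fst f b).appLE U O l₁ ≫ j.app O = h.appLE U (j ⁻¹ᵁ O) (hU'.trans_le inf_le_left) := by
      rw [Scheme.Hom.app_eq_appLE, Scheme.Hom.appLE_comp_appLE]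
      exact SGA1Q.appLE_congr_hom (pullback.lift_fst _ _ _) _ _
    have e1 : (j.app O).hom (algebraMap Γ(S', V') Γ(pullback f b, O) r) = algebraMap Γ(S', V') Γ(X', j ⁻¹ᵁ O) r :=
      congr(($h1).hom r)
    have e2 : (j.app O).hom (algebraMap Γ(X, U) Γ(pullback f b, O) x) =
        (h.appLE U (j ⁻¹ᵁ O) (hU'.trans_le inf_le_left)).hom x := congr(($h2).hom x)
    rw [e1, e2, ← Algebra.smul_def]
    exact Submodule.smul_mem _ _ (Submodule.subset_span ⟨x, rfl⟩)
  | add x y hx hy => rw [map_add, map_add]; exact Submodule.add_mem _ (hx trivial) (hy trivial)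

end Span

variable {X S : Scheme.{u}} (f : X ⟶ S) {d : ℕ}

section Loc

variable {V : S.Opens} {O : (fibPow f d).Opens} {hO : O ≤ (WidePullback.base (fun _ : Fin d => f)) ⁻¹ᵁ V}
  {hinv : ∀ σ, permHom f d σ ⁻¹ᵁ O = O} {z : fibPow f d} (L : Loc f d hO hinv z)

theorem Loc.le_base : L.D ≤ (WidePullback.base (fun _ : Fin d => f)) ⁻¹ᵁ V := L.le_box.trans box_le_base

theorem Loc.le : L.D ≤ O := L.hDt.trans_le ((fibPow f d).basicOpen_le _)

theorem Loc.inv_D (g : stab d L.c) :
    ((powAct f d).comap (stab d L.c).subtype).hom g ⁻¹ᵁ L.D = L.D := by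
  letI := secAlg (WidePullback.base (fun _ : Fin d => f)) hO
  rw [L.hDt]
  refine Opens.ext (Set.ext fun y => ?_)
  show ((powAct f d).hom g.1).base y ∈ (fibPow f d).basicOpen L.t ↔ y ∈ (fibPow f d).basicOpen L.t
  have h : secAct (powAct f d) hO hinv (g.1)⁻¹ L.t = L.t := L.ht g⁻¹
  conv_rhs => rw [← h]
  rw [mem_basicOpen_secAct, inv_inv]

variable (hOaff : IsAffineOpen O) (hV : IsAffineOpen V)

include hOaff in
theorem Loc.isAway_small :
    letI := secAlg (WidePullback.base (fun _ : Fin d => f)) hO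
    letI := secAlg (WidePullback.base (fun _ : Fin d => f)) (Loc.le_base f L)
    IsAway (resAlg hO (Loc.le_base f L) (Loc.le f L)).toRingHom L.t :=
  isAway_res hOaff (Loc.le f L) L.t L.hDt

include hV in
theorem Loc.isAway_big :
    letI := chartAlg L.hUV
    letI := secAlg (WidePullback.base (fun _ : Fin d => f)) (box_le_base (U := L.U) (V := V) (c := L.c))
    letI := secAlg (WidePullback.base (fun _ : Fin d => f)) (Loc.le_base f L)
    IsAway ((resAlg (box_le_base (U := L.U) (V := V) (c := L.c)) (Loc.le_base f L) L.le_box).comp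
      (theta d L.c L.hUV)).toRingHom (idem d L.c L.hUV * L.x) := by
  letI := chartAlg L.hUV
  letI := secAlg (WidePullback.base (fun _ : Fin d => f)) (box_le_base (U := L.U) (V := V) (c := L.c))
  letI := secAlg (WidePullback.base (fun _ : Fin d => f)) (Loc.le_base f L)
  exact isAway_comp (isAway_theta L.hUV hV L.hU) (isAway_res (isAffineOpen_box hV L.hU L.hUV) L.le_box _ L.hDx)

theorem Loc.big_equivariant :
    letI := chartAlg L.hUV
    letI := secAlg (WidePullback.base (fun _ : Fin d => f)) (box_le_base (U := L.U) (V := V) (c := L.c))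
    letI := secAlg (WidePullback.base (fun _ : Fin d => f)) (Loc.le_base f L)
    ∀ (g : stab d L.c) (x : ⨂[Γ(S, V)] _ : Fin d, prodRing L.U),
      ((resAlg (box_le_base (U := L.U) (V := V) (c := L.c)) (Loc.le_base f L) L.le_box).comp (theta d L.c L.hUV))
          (res (SymSpan.permAlg Γ(S, V) (prodRing L.U) d) (stab d L.c) g x) =
        secAct ((powAct f d).comap (stab d L.c).subtype) (Loc.le_base f L) (Loc.inv_D f L) g
          (((resAlg (box_le_base (U := L.U) (V := V) (c := L.c)) (Loc.le_base f L) L.le_box).comp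
            (theta d L.c L.hUV)) x) := by
  letI := chartAlg L.hUV
  letI := secAlg (WidePullback.base (fun _ : Fin d => f)) (box_le_base (U := L.U) (V := V) (c := L.c))
  letI := secAlg (WidePullback.base (fun _ : Fin d => f)) (Loc.le_base f L)
  intro g x
  refine (congrArg (fun y => resAlg (box_le_base (U := L.U) (V := V) (c := L.c)) (Loc.le_base f L) L.le_box y)
    (theta_perm L.hUV g x)).trans ?_
  exact res_secAct ((powAct f d).comap (stab d L.c).subtype) (box_le_base (U := L.U) (V := V) (c := L.c))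
    (fun h => permHom_preimage_box (f := f) (V := V) (U := L.U) (c := L.c) h) (MonoidHom.id _) (Loc.le_base f L)
    L.le_box (Loc.inv_D f L) g _

theorem Loc.big_mem :
    letI := chartAlg L.hUV
    idem d L.c L.hUV * L.x ∈ InvLoc.inv (res (SymSpan.permAlg Γ(S, V) (prodRing L.U) d) (stab d L.c)) := by
  letI := chartAlg L.hUV
  exact (InvLoc.inv _).mul_mem (idem_mem_stab L.hUV) L.hx

theorem Loc.big_disjoint :
    letI := chartAlg L.hUV
    ∀ σ, σ ∉ stab d L.c →
      SymSpan.permAlg Γ(S, V) (prodRing L.U) d σ (idem d L.c L.hUV * L.x) * (idem d L.c L.hUV * L.x) = 0 := by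
  letI := chartAlg L.hUV
  intro σ hσ
  rw [map_mul, mul_mul_mul_comm, perm_idem_mul_idem L.hUV hσ, zero_mul]

theorem Loc.translate' {σ : Equiv.Perm (Fin d)} (hσ : σ ∉ stab d L.c) :
    letI := secAlg (WidePullback.base (fun _ : Fin d => f)) hO
    z ∉ (fibPow f d).basicOpen (secAct (powAct f d) hO hinv σ L.t) := by
  letI := secAlg (WidePullback.base (fun _ : Fin d => f)) hO
  rw [mem_basicOpen_secAct]
  exact L.translate σ⁻¹ fun h => hσ (by simpa using (stab d L.c).inv_mem h)

end Loc

section Inj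

variable {V : S.Opens} (hV : IsAffineOpen V) {O : (fibPow f d).Opens} (hOaff : IsAffineOpen O)
  (hO : O ≤ (WidePullback.base (fun _ : Fin d => f)) ⁻¹ᵁ V) (hinv : ∀ σ, permHom f d σ ⁻¹ᵁ O = O) [Flat f]

include hV hOaff in
/-- For a flat morphism, the invariants on a stable affine of the fibre power inject universally. -/
theorem inj :
    letI := secAlg (WidePullback.base (fun _ : Fin d => f)) hO
    ∀ (R₀ : Type u) [CommRing R₀] [Algebra Γ(S, V) R₀], Inj (secAct (powAct f d) hO hinv) R₀ := by
  classical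
  letI := secAlg (WidePullback.base (fun _ : Fin d => f)) hO
  intro R₀ _ _
  rw [Inj, injective_iff_map_eq_zero]
  intro w hw
  refine eq_zero_of_local fun q hq => ?_
  obtain ⟨z, hz, hzq⟩ := exists_point_of_prime hOaff q
  obtain ⟨L⟩ := exists_loc hV hOaff hO hinv hz
  letI := secAlg (WidePullback.base (fun _ : Fin d => f)) (Loc.le_base f L)
  letI := secAlg (WidePullback.base (fun _ : Fin d => f)) (box_le_base (U := L.U) (V := V) (c := L.c))
  letI := chartAlg L.hUV
  haveI : ∀ j, Module.Flat Γ(S, V) Γ(X, L.U j) := fun j => f.flat_appLE hV (L.hU j) (L.hUV j)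
  haveI : Module.Flat Γ(S, V) (prodRing L.U) := flat_pi _
  letI : Fintype (Equiv.Perm (Fin d) ⧸ stab d L.c) := Fintype.ofFinite _
  have hC : Inj (secAct ((powAct f d).comap (stab d L.c).subtype) (Loc.le_base f L) (Loc.inv_D f L)) R₀ :=
    inj_of_big _ (Loc.big_equivariant f L) (Loc.big_mem f L) (Loc.big_disjoint f L)
      (SymSpan.inj_base R₀) (Loc.isAway_big f L hV)
  obtain ⟨N, hN⟩ := inj_step (resAlg hO (Loc.le_base f L) (Loc.le f L))
    (fun g x => res_secAct (powAct f d) hO hinv (stab d L.c).subtype (Loc.le_base f L) (Loc.le f L) (Loc.inv_D f L) g x)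
    L.ht hC (Loc.isAway_small f L hOaff) hw
  refine ⟨_, ?_, hN (N + 1) (Nat.le_succ N)⟩
  intro hb
  have htq : L.t ∉ q := (hzq L.t).1 (L.hDt.le L.hzD)
  refine htq (hq.mem_of_pow_mem (N + 1) ?_)
  rw [← Ideal.Quotient.eq_zero_iff_mem] at hb ⊢
  refine Eq.trans ?_ hb
  refine (map_tr (Ideal.Quotient.mk q) (pow_mem L.ht (N + 1)) fun g hg => ?_).symm
  rw [Ideal.Quotient.eq_zero_iff_mem, map_pow]
  refine Ideal.pow_mem_of_mem q ?_ _ (Nat.succ_pos N)
  by_contra hmem
  exact Loc.translate' f L hg ((hzq _).2 hmem)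

include hV hOaff in
/-- For a flat morphism, the invariants on a stable affine of the fibre power commute with base change. -/
theorem surj_base :
    letI := secAlg (WidePullback.base (fun _ : Fin d => f)) hO
    ∀ (R₀ : Type u) [CommRing R₀] [Algebra Γ(S, V) R₀],
      Surj (Algebra.TensorProduct.includeRight : Γ(fibPow f d, O) →ₐ[Γ(S, V)] R₀ ⊗[Γ(S, V)] Γ(fibPow f d, O)).toRingHom
        (secAct (powAct f d) hO hinv) (baseAct (secAct (powAct f d) hO hinv) R₀) := by
  classical
  letI := secAlg (WidePullback.base (fun _ : Fin d => f)) hO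
  intro R₀ _ _ y hy
  refine mem_adjoin_of_local fun q hq => ?_
  obtain ⟨z, hz, hzq⟩ := exists_point_of_prime hOaff q
  obtain ⟨L⟩ := exists_loc hV hOaff hO hinv hz
  letI := secAlg (WidePullback.base (fun _ : Fin d => f)) (Loc.le_base f L)
  letI := secAlg (WidePullback.base (fun _ : Fin d => f)) (box_le_base (U := L.U) (V := V) (c := L.c))
  letI := chartAlg L.hUV
  haveI : ∀ j, Module.Flat Γ(S, V) Γ(X, L.U j) := fun j => f.flat_appLE hV (L.hU j) (L.hUV j)
  haveI : Module.Flat Γ(S, V) (prodRing L.U) := flat_pi _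
  letI : Fintype (Equiv.Perm (Fin d) ⧸ stab d L.c) := Fintype.ofFinite _
  let l₁ := (resAlg (box_le_base (U := L.U) (V := V) (c := L.c)) (Loc.le_base f L) L.le_box).comp (theta d L.c L.hUV)
  let l₂ := resAlg hO (Loc.le_base f L) (Loc.le f L)
  let σC := secAct ((powAct f d).comap (stab d L.c).subtype) (Loc.le_base f L) (Loc.inv_D f L)
  have heq : ∀ {T : Type u} [CommRing T] [Algebra Γ(S, V) T]
      (σ : stab d L.c →* (T ≃ₐ[Γ(S, V)] T)) (l : T →ₐ[Γ(S, V)] Γ(fibPow f d, L.D))
      (_ : ∀ g x, l (σ g x) = σC g (l x)) (g : stab d L.c) (x : R₀ ⊗[Γ(S, V)] T),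
      Algebra.TensorProduct.map (AlgHom.id R₀ R₀) l (baseAct σ R₀ g x) =
        baseAct σC R₀ g (Algebra.TensorProduct.map (AlgHom.id R₀ R₀) l x) := by
    intro T _ _ σ l hl g x
    simp only [baseAct_apply]
    induction x using TensorProduct.induction_on with
    | zero => simp
    | tmul s x =>
      simp only [Algebra.TensorProduct.map_tmul, AlgHom.coe_id, id_eq]
      exact congrArg _ (hl g x)
    | add a b ha hb => simp only [map_add, ha, hb]
  have hS : Surj (Algebra.TensorProduct.includeRight : Γ(fibPow f d, L.D) →ₐ[Γ(S, V)] R₀ ⊗[Γ(S, V)] _).toRingHom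
      σC (baseAct σC R₀) :=
    surj_of_big l₁ (Algebra.TensorProduct.map (AlgHom.id R₀ R₀) l₁)
      (fun g x => includeRight_baseAct (SymSpan.permAlg Γ(S, V) (prodRing L.U) d) R₀ g x)
      (Loc.big_equivariant f L)
      (fun g x => heq (res (SymSpan.permAlg Γ(S, V) (prodRing L.U) d) (stab d L.c)) l₁ (Loc.big_equivariant f L) g x)
      (fun x => rfl) (Loc.big_mem f L) (Loc.big_disjoint f L) (SymSpan.surj_base R₀) (Loc.isAway_big f L hV)
      ((Loc.isAway_big f L hV).tensor R₀)
  obtain ⟨N, hN⟩ := surj_step l₂ (Algebra.TensorProduct.map (AlgHom.id R₀ R₀) l₂)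
    (fun g x => includeRight_baseAct (secAct (powAct f d) hO hinv) R₀ g x)
    (fun g x => res_secAct (powAct f d) hO hinv (stab d L.c).subtype (Loc.le_base f L) (Loc.le f L) (Loc.inv_D f L) g x)
    (fun g x => heq (res (secAct (powAct f d) hO hinv) (stab d L.c)) l₂
      (fun g x => res_secAct (powAct f d) hO hinv (stab d L.c).subtype (Loc.le_base f L) (Loc.le f L)
        (Loc.inv_D f L) g x) g x)
    (fun x => rfl) L.ht hS (Loc.isAway_small f L hOaff) ((Loc.isAway_small f L hOaff).tensor R₀) hy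
  refine ⟨_, tr_mem (pow_mem L.ht (N + 1)), ?_, hN (N + 1) (Nat.le_succ N)⟩
  intro hb
  have htq : L.t ∉ q := (hzq L.t).1 (L.hDt.le L.hzD)
  refine htq (hq.mem_of_pow_mem (N + 1) ?_)
  rw [← Ideal.Quotient.eq_zero_iff_mem] at hb ⊢
  refine Eq.trans ?_ hb
  refine (map_tr (Ideal.Quotient.mk q) (pow_mem L.ht (N + 1)) fun g hg => ?_).symm
  rw [Ideal.Quotient.eq_zero_iff_mem, map_pow]
  refine Ideal.pow_mem_of_mem q ?_ _ (Nat.succ_pos N)
  by_contra hmem
  exact Loc.translate' f L hg ((hzq _).2 hmem)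

end Inj

section Pair

variable {X' S' : Scheme.{u}} (f' : X' ⟶ S') (b : S' ⟶ S) (h : X' ⟶ X) (w : h ≫ f = f' ≫ b)

variable (d) in
/-- The map of fibre powers along a commutative square. -/
noncomputable def powMap : fibPow f' d ⟶ fibPow f d :=
  WidePullback.lift (WidePullback.base (fun _ : Fin d => f') ≫ b)
    (fun i => WidePullback.π (fun _ : Fin d => f') i ≫ h) (fun i => by
      rw [Category.assoc, w, WidePullback.π_arrow_assoc])

theorem powMap_π (i : Fin d) : powMap f d f' b h w ≫ WidePullback.π (fun _ : Fin d => f) i =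
    WidePullback.π (fun _ : Fin d => f') i ≫ h := WidePullback.lift_π _ _ _ _ i

theorem powMap_base : powMap f d f' b h w ≫ WidePullback.base (fun _ : Fin d => f) =
    WidePullback.base (fun _ : Fin d => f') ≫ b := WidePullback.lift_base _ _ _ _

theorem permHom_powMap (σ : Equiv.Perm (Fin d)) :
    permHom f' d σ ≫ powMap f d f' b h w = powMap f d f' b h w ≫ permHom f d σ := by
  refine WidePullback.hom_ext _ _ _ (fun i => ?_) ?_
  · rw [Category.assoc, powMap_π, permHom_π_assoc, Category.assoc, permHom_π, powMap_π]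
  · rw [Category.assoc, powMap_base, permHom_base_assoc, Category.assoc, permHom_base, powMap_base]

variable {V : S.Opens} {V' : S'.Opens} (hVb : V' ≤ b ⁻¹ᵁ V)

/-- The preimage of an open of the fibre power over an open of the new base. -/
noncomputable def preim (O : (fibPow f d).Opens) (V' : S'.Opens) : (fibPow f' d).Opens :=
  powMap f d f' b h w ⁻¹ᵁ O ⊓ WidePullback.base (fun _ : Fin d => f') ⁻¹ᵁ V'

theorem preim_le_base (O : (fibPow f d).Opens) :
    preim f f' b h w O V' ≤ WidePullback.base (fun _ : Fin d => f') ⁻¹ᵁ V' := inf_le_right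

theorem preim_le (O : (fibPow f d).Opens) : preim f f' b h w O V' ≤ powMap f d f' b h w ⁻¹ᵁ O := inf_le_left

theorem permHom_preimage_preim {O : (fibPow f d).Opens} {σ : Equiv.Perm (Fin d)}
    (hσ : permHom f d σ ⁻¹ᵁ O = O) : permHom f' d σ ⁻¹ᵁ preim f f' b h w O V' = preim f f' b h w O V' := by
  show permHom f' d σ ⁻¹ᵁ (powMap f d f' b h w ⁻¹ᵁ O) ⊓ permHom f' d σ ⁻¹ᵁ (WidePullback.base (fun _ : Fin d => f') ⁻¹ᵁ V') = _
  rw [← Scheme.Hom.comp_preimage, ← Scheme.Hom.comp_preimage, permHom_powMap, permHom_base,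
    Scheme.Hom.comp_preimage, hσ]
  rfl

include hVb in
theorem box_preim (c : Fin d → Fin d) (U : Fin d → X.Opens) :
    box f' d V' (fun j => h ⁻¹ᵁ U j ⊓ f' ⁻¹ᵁ V') c = preim f f' b h w (box f d V U c) V' := by
  refine Opens.ext (Set.ext fun x => ?_)
  show x ∈ box f' d V' (fun j => h ⁻¹ᵁ U j ⊓ f' ⁻¹ᵁ V') c ↔
    (powMap f d f' b h w).base x ∈ box f d V U c ∧ (WidePullback.base (fun _ : Fin d => f')).base x ∈ V'
  rw [mem_box, mem_box]
  have hb : (WidePullback.base (fun _ : Fin d => f)).base ((powMap f d f' b h w).base x) =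
      b.base ((WidePullback.base (fun _ : Fin d => f')).base x) := by
    show (powMap f d f' b h w ≫ WidePullback.base (fun _ : Fin d => f)).base x = _
    rw [powMap_base]; rfl
  have hπ : ∀ i, (WidePullback.π (fun _ : Fin d => f) i).base ((powMap f d f' b h w).base x) =
      h.base ((WidePullback.π (fun _ : Fin d => f') i).base x) := fun i => by
    show (powMap f d f' b h w ≫ WidePullback.π (fun _ : Fin d => f) i).base x = _
    rw [powMap_π]; rfl
  constructor
  · rintro ⟨hx, hi⟩
    exact ⟨⟨hb ▸ hVb hx, fun i => (hπ i).symm ▸ (hi i).1⟩, hx⟩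
  · rintro ⟨⟨-, hi⟩, hx⟩
    refine ⟨hx, fun i => ⟨by
      show h.base ((WidePullback.π (fun _ : Fin d => f') i).base x) ∈ U (c i)
      rw [← hπ i]; exact hi i, ?_⟩⟩
    show f'.base ((WidePullback.π (fun _ : Fin d => f') i).base x) ∈ V'
    rw [SymAF.base_π f' d x i]
    exact hx

variable [IsClosedImmersion (pullback.lift h f' w)] (hV : IsAffineOpen V) (hV' : IsAffineOpen V')
  {O : (fibPow f d).Opens} (hOaff : IsAffineOpen O) (hO : O ≤ (WidePullback.base (fun _ : Fin d => f)) ⁻¹ᵁ V)
  (hinv : ∀ σ, permHom f d σ ⁻¹ᵁ O = O)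

/-- What a chart at a point gives for the square. -/
def SqChart {z : fibPow f d} (L : Loc f d hO hinv z) : Prop :=
  letI := chartAlg L.hUV
  letI := secAlg (WidePullback.base (fun _ : Fin d => f)) hO
  letI := secAlg (WidePullback.base (fun _ : Fin d => f)) (Loc.le_base f L)
  letI := secAlg (WidePullback.base (fun _ : Fin d => f')) (preim_le_base f f' b h w O (V' := V'))
  letI := secAlg (WidePullback.base (fun _ : Fin d => f')) (preim_le_base f f' b h w L.D (V' := V'))
  let π := (powMap f d f' b h w).appLE O (preim f f' b h w O V') (preim_le f f' b h w O)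
  let πC := (powMap f d f' b h w).appLE L.D (preim f f' b h w L.D V') (preim_le f f' b h w L.D)
  let σC := secAct ((powAct f d).comap (stab d L.c).subtype) (Loc.le_base f L) (Loc.inv_D f L)
  let σC' := secAct ((powAct f' d).comap (stab d L.c).subtype) (preim_le_base f f' b h w L.D (V' := V'))
    (fun g => permHom_preimage_preim f f' b h w (Loc.inv_D f L g))
  let l' := resAlg (preim_le_base f f' b h w O (V' := V')) (preim_le_base f f' b h w L.D (V' := V'))
    (inf_le_inf_right _ ((powMap f d f' b h w).preimage_mono (Loc.le f L)))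
  (∀ g : stab d L.c, ∀ x, l' (secAct (powAct f' d) (preim_le_base f f' b h w O (V' := V'))
      (fun σ => permHom_preimage_preim f f' b h w (hinv σ)) g.1 x) = σC' g (l' x)) ∧
  (∀ x, l' (π.hom x) = πC.hom (resAlg hO (Loc.le_base f L) (Loc.le f L) x)) ∧
  IsAway l'.toRingHom (π.hom L.t) ∧
  (Flat f' ∨ IsUnit ((Nat.factorial d : ℕ) : Γ(S', V')) → Surj πC.hom σC σC') ∧
  ∀ {k : Type u} [Field k] (ev : Γ(fibPow f' d, preim f f' b h w L.D V') →+* k), Val πC.hom σC σC' ev

include hVb hV hV' hOaff in
theorem sqChart (hO'aff : IsAffineOpen (preim f f' b h w O V')) {z : fibPow f d} (L : Loc f d hO hinv z) : SqChart f f' b h w (V' := V') hO hinv L := by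
  classical
  letI := chartAlg L.hUV
  letI := secAlg (WidePullback.base (fun _ : Fin d => f)) hO
  letI := secAlg (WidePullback.base (fun _ : Fin d => f)) (Loc.le_base f L)
  letI := secAlg (WidePullback.base (fun _ : Fin d => f')) (preim_le_base f f' b h w O (V' := V'))
  letI := secAlg (WidePullback.base (fun _ : Fin d => f')) (preim_le_base f f' b h w L.D (V' := V'))
  let cM := powMap f d f' b h w
  let O' := preim f f' b h w O V'
  let D' := preim f f' b h w L.D V'
  have hDO' : D' ≤ O' := inf_le_inf_right _ (cM.preimage_mono (Loc.le f L))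
  let U' : Fin d → X'.Opens := fun j => h ⁻¹ᵁ L.U j ⊓ f' ⁻¹ᵁ V'
  have hsp := fun j => affine_span f f' b h w hV hV' hVb (L.hU j) (L.hUV j) (U' := U' j) rfl
  have hU' : ∀ j, IsAffineOpen (U' j) := fun j => (hsp j).1
  have hUV' : ∀ j, U' j ≤ f' ⁻¹ᵁ V' := fun j => inf_le_right
  letI := chartAlg hUV'
  letI := secAlg (WidePullback.base (fun _ : Fin d => f)) (box_le_base (U := L.U) (V := V) (c := L.c))
  letI := secAlg (WidePullback.base (fun _ : Fin d => f')) (box_le_base (U := U') (V := V') (c := L.c))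
  have hW' : box f' d V' U' L.c = preim f f' b h w (box f d V L.U L.c) V' := box_preim f f' b h w hVb L.c L.U
  letI : Algebra Γ(S, V) Γ(S', V') := (b.appLE V V' hVb).hom.toAlgebra
  letI : Algebra Γ(S, V) (prodRing U') := ((algebraMap Γ(S', V') (prodRing U')).comp (algebraMap Γ(S, V) Γ(S', V'))).toAlgebra
  haveI : IsScalarTower Γ(S, V) Γ(S', V') (prodRing U') := IsScalarTower.of_algebraMap_eq' rfl
  let hj : ∀ j, Γ(X, L.U j) ⟶ Γ(X', U' j) := fun j => h.appLE (L.U j) (U' j) inf_le_left
  let Φ : prodRing L.U →ₐ[Γ(S, V)] prodRing U' :=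
    { toFun := fun x j => (hj j).hom (x j)
      map_one' := funext fun j => map_one _
      map_mul' := fun x y => funext fun j => map_mul _ _ _
      map_zero' := funext fun j => map_zero _
      map_add' := fun x y => funext fun j => map_add _ _ _
      commutes' := fun r => funext fun j => by
        have e : f.appLE V (L.U j) (L.hUV j) ≫ hj j = b.appLE V V' hVb ≫ f'.appLE V' (U' j) (hUV' j) := by
          rw [Scheme.Hom.appLE_comp_appLE, Scheme.Hom.appLE_comp_appLE]
          exact SGA1Q.appLE_congr_hom w _ _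
        exact congr(($e).hom r) }
  have hΦ : Submodule.span Γ(S', V') (Set.range Φ) = ⊤ := by
    refine eq_top_iff.2 fun y _ => ?_
    rw [← Finset.univ_sum_single y]
    refine Submodule.sum_mem _ fun j _ => ?_
    have hy : y j ∈ Submodule.span Γ(S', V') (Set.range (hj j).hom) := by
      rw [(hsp j).2]; trivial
    generalize y j = v at hy
    induction hy using Submodule.span_induction with
    | mem v hv =>
      obtain ⟨x, rfl⟩ := hv
      refine Submodule.subset_span ⟨Pi.single j x, funext fun k => ?_⟩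
      exact (Pi.apply_single (fun k => (hj k).hom) (fun k => map_zero _) j x k)
    | zero => rw [Pi.single_zero]; exact zero_mem _
    | add a b _ _ ha hb => rw [Pi.single_add]; exact add_mem ha hb
    | smul r a _ ha => rw [Pi.single_smul]; exact Submodule.smul_mem _ r ha
  have hWW : box f' d V' U' L.c ≤ cM ⁻¹ᵁ box f d V L.U L.c := hW'.trans_le inf_le_left
  let Ψ := PolLib.tpMap (Γ(S', V') : Type u) Φ d
  let πW := cM.appLE (box f d V L.U L.c) (box f' d V' U' L.c) hWW
  have hθ : ∀ x, theta d L.c hUV' (Ψ x) = πW.hom (theta d L.c L.hUV x) := fun x => by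
    induction x using PiTensorProduct.induction_on with
    | smul_tprod r v =>
      have hr : ∀ r : Γ(S, V), πW.hom (algebraMap Γ(S, V) Γ(fibPow f d, box f d V L.U L.c) r) =
          algebraMap Γ(S', V') Γ(fibPow f' d, box f' d V' U' L.c) (algebraMap Γ(S, V) Γ(S', V') r) := fun r => by
        have e : (WidePullback.base (fun _ : Fin d => f)).appLE V (box f d V L.U L.c) box_le_base ≫ πW =
            b.appLE V V' hVb ≫ (WidePullback.base (fun _ : Fin d => f')).appLE V' (box f' d V' U' L.c) box_le_base := by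
          rw [Scheme.Hom.appLE_comp_appLE, Scheme.Hom.appLE_comp_appLE]
          exact SGA1Q.appLE_congr_hom (powMap_base f f' b h w) _ _
        exact congr(($e).hom r)
      rw [map_smul (theta d L.c L.hUV) r, map_smul Ψ r, Algebra.smul_def r (theta d L.c L.hUV _), map_mul, hr,
        ← algebraMap_smul Γ(S', V') r (Ψ (PiTensorProduct.tprod Γ(S, V) v)), map_smul, Algebra.smul_def]
      congr 1
      show theta d L.c hUV' (PolLib.tpMap (Γ(S', V') : Type u) Φ d (PiTensorProduct.tprod Γ(S, V) v)) = _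
      rw [PolLib.tpMap_tprod, theta_tprod, theta_tprod, map_prod]
      refine Finset.prod_congr rfl fun i _ => ?_
      have e : hj (L.c i) ≫
          (WidePullback.π (fun _ : Fin d => f') i).appLE (U' (L.c i)) (box f' d V' U' L.c) (box_le_π i) =
          (WidePullback.π (fun _ : Fin d => f) i).appLE (L.U (L.c i)) (box f d V L.U L.c) (box_le_π i) ≫ πW := by
        rw [Scheme.Hom.appLE_comp_appLE, Scheme.Hom.appLE_comp_appLE]
        exact SGA1Q.appLE_congr_hom (powMap_π f f' b h w i).symm _ _
      exact congr(($e).hom (v i (L.c i)))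
    | add x y hx hy => simp only [map_add, hx, hy]
  have hDW' : D' ≤ box f' d V' U' L.c := (inf_le_inf_right _ (cM.preimage_mono L.le_box)).trans hW'.ge
  have hDb : D' = (fibPow f' d).basicOpen (theta d L.c hUV' (Ψ L.x)) := by
    rw [hθ, Scheme.basicOpen_appLE, ← L.hDx, hW']
    exact le_antisymm (le_inf (inf_le_inf_right _ (cM.preimage_mono L.le_box)) inf_le_left)
      (le_inf inf_le_right (inf_le_left.trans inf_le_right))
  let Cres := resAlg (box_le_base (U := U') (V := V') (c := L.c)) (preim_le_base f f' b h w L.D (V' := V')) hDW'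
  let B' := Cres.comp (theta d L.c hUV')
  let B := (resAlg (box_le_base (U := L.U) (V := V) (c := L.c)) (Loc.le_base f L) L.le_box).comp (theta d L.c L.hUV)
  let πC := cM.appLE L.D D' (preim_le f f' b h w L.D)
  have hsqB : ∀ x, B' (Ψ x) = πC.hom (B x) := fun x => by
    show Cres (theta d L.c hUV' (Ψ x)) = _
    rw [hθ]
    have e : πW ≫ (fibPow f' d).presheaf.map (homOfLE hDW').op =
        (fibPow f d).presheaf.map (homOfLE L.le_box).op ≫ πC := by
      rw [Scheme.Hom.appLE_map, Scheme.Hom.map_appLE]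
    exact congr(($e).hom (theta d L.c L.hUV x))
  have hidem : Ψ (idem d L.c L.hUV) = idem d L.c hUV' := by
    show PolLib.tpMap _ Φ d (idem d L.c L.hUV) = _
    rw [idem, PolLib.tpMap_tprod]
    refine congrArg _ (funext fun i => funext fun k => ?_)
    exact (Pi.apply_single (fun k => (hj k).hom) (fun k => map_zero _) (L.c i) 1 k).trans (by rw [map_one])
  have hA' : IsAway B'.toRingHom (Ψ (idem d L.c L.hUV * L.x)) := by
    rw [map_mul, hidem]
    exact isAway_comp (isAway_theta hUV' hV' hU') (isAway_res (isAffineOpen_box hV' hU' hUV') hDW' _ hDb)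
  let σC := secAct ((powAct f d).comap (stab d L.c).subtype) (Loc.le_base f L) (Loc.inv_D f L)
  let σC' := secAct ((powAct f' d).comap (stab d L.c).subtype) (preim_le_base f f' b h w L.D (V' := V'))
    (fun g => permHom_preimage_preim f f' b h w (Loc.inv_D f L g))
  have heqB' : ∀ (g : stab d L.c) (x : ⨂[Γ(S', V')] _ : Fin d, prodRing U'),
      B' (res (SymSpan.permAlg Γ(S', V') (prodRing U') d) (stab d L.c) g x) = σC' g (B' x) := fun g x => by
    refine (congrArg (fun y => Cres y) (theta_perm hUV' g x)).trans ?_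
    exact res_secAct ((powAct f' d).comap (stab d L.c).subtype) (box_le_base (U := U') (V := V') (c := L.c))
      (fun g => permHom_preimage_box (f := f') (V := V') (U := U') (c := L.c) g) (MonoidHom.id _)
      (preim_le_base f f' b h w L.D (V' := V')) hDW' (fun g => permHom_preimage_preim f f' b h w (Loc.inv_D f L g)) g _
  letI : Fintype (Equiv.Perm (Fin d) ⧸ stab d L.c) := Fintype.ofFinite _
  refine ⟨fun g x => res_secAct (powAct f' d) (preim_le_base f f' b h w O (V' := V'))
      (fun σ => permHom_preimage_preim f f' b h w (hinv σ)) (stab d L.c).subtype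
      (preim_le_base f f' b h w L.D (V' := V')) hDO'
      (fun g => permHom_preimage_preim f f' b h w (Loc.inv_D f L g)) g x, fun x => ?_, ?_, fun hcase => ?_,
    fun {k} _ ev => ?_⟩
  · have e : cM.appLE O O' (preim_le f f' b h w O) ≫ (fibPow f' d).presheaf.map (homOfLE hDO').op =
        (fibPow f d).presheaf.map (homOfLE (Loc.le f L)).op ≫ πC := by
      rw [Scheme.Hom.appLE_map, Scheme.Hom.map_appLE]
    exact congr(($e).hom x)
  · have hbO : D' = (fibPow f' d).basicOpen ((cM.appLE O O' (preim_le f f' b h w O)).hom L.t) := by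
      rw [Scheme.basicOpen_appLE, ← L.hDt]
      exact le_antisymm (le_inf hDO' inf_le_left) (le_inf inf_le_right (inf_le_left.trans inf_le_right))
    exact isAway_res hO'aff hDO' _ hbO
  · have hS : Surj Ψ.toRingHom (SymSpan.permAlg Γ(S, V) (prodRing L.U) d)
        (SymSpan.permAlg Γ(S', V') (prodRing U') d) := by
      rcases hcase with hflat | hu
      · haveI := hflat
        haveI : ∀ j, Module.Flat Γ(S', V') Γ(X', U' j) := fun j => f'.flat_appLE hV' (hU' j) (hUV' j)
        haveI : Module.Flat Γ(S', V') (prodRing U') := flat_pi _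
        exact SymSpan.surj_tensor Φ hΦ
      · exact SymSpan.surj_of_card Φ hΦ hu
    exact surj_of_big B B' (fun g x => SymSpan.tpMap_perm Φ g x) (Loc.big_equivariant f L) heqB' hsqB
      (Loc.big_mem f L) (Loc.big_disjoint f L) hS (Loc.isAway_big f L hV) hA'
  · exact val_of_big B B' (fun g x => SymSpan.tpMap_perm Φ g x) (Loc.big_equivariant f L) heqB' hsqB
      (Loc.big_mem f L) (Loc.big_disjoint f L) ev (SymSpan.val_tensor Φ hΦ _) (Loc.isAway_big f L hV) hA'

include hVb hV hV' hOaff in
/-- Flat or tame: the invariants of the new fibre power come from the old ones. -/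
theorem surj (hO'aff : IsAffineOpen (preim f f' b h w O V'))
    (hcase : Flat f' ∨ IsUnit ((Nat.factorial d : ℕ) : Γ(S', V'))) :
    letI := secAlg (WidePullback.base (fun _ : Fin d => f)) hO
    letI := secAlg (WidePullback.base (fun _ : Fin d => f')) (preim_le_base f f' b h w O (V' := V'))
    Surj ((powMap f d f' b h w).appLE O (preim f f' b h w O V') (preim_le f f' b h w O)).hom
      (secAct (powAct f d) hO hinv)
      (secAct (powAct f' d) (preim_le_base f f' b h w O (V' := V'))
        (fun σ => permHom_preimage_preim f f' b h w (hinv σ))) := by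
  classical
  letI := secAlg (WidePullback.base (fun _ : Fin d => f)) hO
  letI := secAlg (WidePullback.base (fun _ : Fin d => f')) (preim_le_base f f' b h w O (V' := V'))
  intro y hy
  refine mem_adjoin_of_local fun q hq => ?_
  obtain ⟨z, hz, hzq⟩ := exists_point_of_prime hOaff q
  obtain ⟨L⟩ := exists_loc hV hOaff hO hinv hz
  letI := secAlg (WidePullback.base (fun _ : Fin d => f)) (Loc.le_base f L)
  letI := secAlg (WidePullback.base (fun _ : Fin d => f')) (preim_le_base f f' b h w L.D (V' := V'))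
  letI : Fintype (Equiv.Perm (Fin d) ⧸ stab d L.c) := Fintype.ofFinite _
  obtain ⟨hl', hsq, hA', hS, -⟩ := sqChart f f' b h w hVb hV hV' hOaff hO hinv hO'aff L
  obtain ⟨N, hN⟩ := surj_step (resAlg hO (Loc.le_base f L) (Loc.le f L)) _
    (fun g x => appLE_secAct (powAct f d) hO hinv (powAct f' d) (fun σ => permHom_powMap f f' b h w σ) _ _
      (preim_le f f' b h w O) g x)
    (fun g x => res_secAct (powAct f d) hO hinv (stab d L.c).subtype (Loc.le_base f L) (Loc.le f L) (Loc.inv_D f L) g x)
    hl' hsq L.ht (hS hcase) (Loc.isAway_small f L hOaff) hA' hy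
  refine ⟨_, tr_mem (pow_mem L.ht (N + 1)), ?_, hN (N + 1) (Nat.le_succ N)⟩
  intro hb
  have htq : L.t ∉ q := (hzq L.t).1 (L.hDt.le L.hzD)
  refine htq (hq.mem_of_pow_mem (N + 1) ?_)
  rw [← Ideal.Quotient.eq_zero_iff_mem] at hb ⊢
  refine Eq.trans ?_ hb
  refine (map_tr (Ideal.Quotient.mk q) (pow_mem L.ht (N + 1)) fun g hg => ?_).symm
  rw [Ideal.Quotient.eq_zero_iff_mem, map_pow]
  refine Ideal.pow_mem_of_mem q ?_ _ (Nat.succ_pos N)
  by_contra hmem
  exact Loc.translate' f L hg ((hzq _).2 hmem)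

include hVb hV hV' hOaff in
/-- The values of the new invariants lie in the field generated by the values of the old ones. -/
theorem val (hO'aff : IsAffineOpen (preim f f' b h w O V')) {k : Type u} [Field k]
    (ev : Γ(fibPow f' d, preim f f' b h w O V') →+* k) :
    letI := secAlg (WidePullback.base (fun _ : Fin d => f)) hO
    letI := secAlg (WidePullback.base (fun _ : Fin d => f')) (preim_le_base f f' b h w O (V' := V'))
    Val ((powMap f d f' b h w).appLE O (preim f f' b h w O V') (preim_le f f' b h w O)).hom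
      (secAct (powAct f d) hO hinv)
      (secAct (powAct f' d) (preim_le_base f f' b h w O (V' := V'))
        (fun σ => permHom_preimage_preim f f' b h w (hinv σ))) ev := by
  classical
  letI := secAlg (WidePullback.base (fun _ : Fin d => f)) hO
  letI := secAlg (WidePullback.base (fun _ : Fin d => f')) (preim_le_base f f' b h w O (V' := V'))
  let π := (powMap f d f' b h w).appLE O (preim f f' b h w O V') (preim_le f f' b h w O)
  haveI : (RingHom.ker (ev.comp π.hom)).IsPrime := RingHom.ker_isPrime _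
  obtain ⟨z, hz, hzq⟩ := exists_point_of_prime hOaff (RingHom.ker (ev.comp π.hom))
  obtain ⟨L⟩ := exists_loc hV hOaff hO hinv hz
  letI := secAlg (WidePullback.base (fun _ : Fin d => f)) (Loc.le_base f L)
  letI := secAlg (WidePullback.base (fun _ : Fin d => f')) (preim_le_base f f' b h w L.D (V' := V'))
  letI : Fintype (Equiv.Perm (Fin d) ⧸ stab d L.c) := Fintype.ofFinite _
  obtain ⟨hl', hsq, hA', -, hV₀⟩ := sqChart f f' b h w hVb hV hV' hOaff hO hinv hO'aff L
  have hne : ev (π.hom L.t) ≠ 0 := fun he =>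
    (hzq L.t).1 (L.hDt.le L.hzD) (RingHom.mem_ker.2 he)
  obtain ⟨evC, hevC⟩ := exists_lift_of_isAway hA' ev (isUnit_iff_ne_zero.2 hne)
  refine val_step (resAlg hO (Loc.le_base f L) (Loc.le f L)) _
    (fun g x => res_secAct (powAct f d) hO hinv (stab d L.c).subtype (Loc.le_base f L) (Loc.le f L) (Loc.inv_D f L) g x)
    hl' hsq L.ht evC ev hevC (fun g hg => ?_) (hV₀ evC) (Loc.isAway_small f L hOaff)
  by_contra hne'
  exact Loc.translate' f L hg ((hzq _).2 fun hmem => hne' (RingHom.mem_ker.1 hmem))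

end Pair

end Groth.Agent.H23.SymCore
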