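import Groth.Prelude.Def_SymTen
import Mathlib.RingTheory.GradedAlgebra.Basic
import Mathlib.RingTheory.Nilpotent.Lemmas
import Mathlib.RingTheory.Ideal.Maximal
import Mathlib.Algebra.MvPolynomial.Eval
import Mathlib.RingTheory.LocalRing.ResidueField.Ideal
import Mathlib.Data.Fintype.Perm
import Mathlib.Tactic.LinearCombination
import Mathlib.Tactic.FieldSimp
import Mathlib.Tactic.Ring

/-!
The graded ring of symmetric tensors of a standard graded algebra is covered by diagonal tensors.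
-/

set_option autoImplicit false
set_option linter.style.haveILetI false

universe u

open scoped TensorProduct

namespace Groth.Agent.H23.SymCover

variable {A B : Type u} [CommRing A] [CommRing B] [Algebra A B] (𝒜 : ℕ → Submodule A B) (d : ℕ)

/-- The subalgebra spanned by tensors of equidegree. -/
noncomputable abbrev equi : Subalgebra A (⨂[A] _ : Fin d, B) :=
  Algebra.adjoin A {t | ∃ (k : ℕ) (b : Fin d → B), (∀ i, b i ∈ 𝒜 k) ∧ t = PiTensorProduct.tprod A b}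

theorem perm_mul_apply (σ τ : Equiv.Perm (Fin d)) (t : ⨂[A] _ : Fin d, B) :
    SymTen.perm A B d (σ * τ) t = SymTen.perm A B d σ (SymTen.perm A B d τ t) := by
  induction t using PiTensorProduct.induction_on with
  | smul_tprod r f =>
    rw [map_smul, map_smul, map_smul, SymTen.perm_tprod, SymTen.perm_tprod, SymTen.perm_tprod]
    rfl
  | add x y hx hy => simp only [map_add, hx, hy]

theorem perm_mem_equi (σ : Equiv.Perm (Fin d)) {t : ⨂[A] _ : Fin d, B} (ht : t ∈ equi 𝒜 d) :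
    SymTen.perm A B d σ t ∈ equi 𝒜 d := by
  have : (equi 𝒜 d).map (SymTen.perm A B d σ) ≤ equi 𝒜 d := by
    rw [equi, AlgHom.map_adjoin]
    refine Algebra.adjoin_mono ?_
    rintro _ ⟨_, ⟨k, b, hb, rfl⟩, rfl⟩
    exact ⟨k, fun i => b (σ.symm i), fun i => hb _, SymTen.perm_tprod A B d σ b⟩
  exact this ⟨t, ht, rfl⟩

theorem radical_transfer (D : Subalgebra A (⨂[A] _ : Fin d, B)) (hD : D = equi 𝒜 d ⊓ SymTen.TS A B d)
    (S : Set D) (t : D)
    (h : ∀ Q : Ideal (equi 𝒜 d), Q.IsPrime →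
      (∀ s ∈ S, Subalgebra.inclusion (hD.trans_le inf_le_left) s ∈ Q) →
      Subalgebra.inclusion (hD.trans_le inf_le_left) t ∈ Q) :
    ∃ m : ℕ, 0 < m ∧ t ^ m ∈ Ideal.span S := by
  classical
  let ι := Subalgebra.inclusion (hD.trans_le (inf_le_left : equi 𝒜 d ⊓ SymTen.TS A B d ≤ equi 𝒜 d))
  have hrad : ι t ∈ (Ideal.span (ι '' S)).radical := by
    rw [Ideal.radical_eq_sInf, Ideal.mem_sInf]
    intro Q hQ
    exact h Q hQ.2 fun s hs => hQ.1 (Ideal.subset_span ⟨s, hs, rfl⟩)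
  obtain ⟨N, hN⟩ := hrad
  obtain ⟨n, c, g, hg⟩ := Submodule.mem_span_set'.1 hN
  choose s hsS hsg using fun j => (g j).2
  let P' : MvPolynomial (Fin n) (equi 𝒜 d) := ∏ σ : Equiv.Perm (Fin d),
    ∑ j, MvPolynomial.C (⟨SymTen.perm A B d σ (c j).1, perm_mem_equi 𝒜 d σ (c j).2⟩ : equi 𝒜 d) * MvPolynomial.X j
  let P : MvPolynomial (Fin n) (⨂[A] _ : Fin d, B) := ∏ σ : Equiv.Perm (Fin d),
    ∑ j, MvPolynomial.C (SymTen.perm A B d σ (c j).1) * MvPolynomial.X j
  have hP' : MvPolynomial.map (equi 𝒜 d).val.toRingHom P' = P := by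
    simp [P, P', map_prod, map_sum]
  have hinv : ∀ τ : Equiv.Perm (Fin d), MvPolynomial.map (SymTen.perm A B d τ).toRingHom P = P := fun τ => by
    simp only [P, map_prod, map_sum, map_mul, MvPolynomial.map_C, MvPolynomial.map_X]
    refine Fintype.prod_equiv (Equiv.mulLeft τ) _ _ fun σ => ?_
    simp [perm_mul_apply]
  have hcoef : ∀ β, MvPolynomial.coeff β P ∈ D := fun β => by
    rw [hD]
    refine ⟨?_, fun σ => ?_⟩
    · rw [← hP', MvPolynomial.coeff_map]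
      exact (MvPolynomial.coeff β P').2
    · rw [← SymTen.perm_apply]
      have := congrArg (MvPolynomial.coeff β) (hinv σ)
      rwa [MvPolynomial.coeff_map] at this
  have heval : MvPolynomial.eval (fun j => (s j).1) P = (t.1 ^ N) ^ Fintype.card (Equiv.Perm (Fin d)) := by
    simp only [P, map_prod, map_sum, map_mul, MvPolynomial.eval_C, MvPolynomial.eval_X]
    rw [← Finset.card_univ, ← Finset.prod_const]
    refine Finset.prod_congr rfl fun σ _ => ?_
    have hfix : ∀ x : D, SymTen.perm A B d σ x.1 = x.1 := fun x => by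
      rw [SymTen.perm_apply]
      exact (hD.le x.2).2 σ
    have h1 := congrArg (fun z : equi 𝒜 d => SymTen.perm A B d σ z.1) hg
    simp only [AddSubmonoidClass.coe_finset_sum, map_sum, SubmonoidClass.coe_pow, map_pow] at h1
    rw [show SymTen.perm A B d σ (ι t).1 = t.1 from hfix t] at h1
    rw [← h1]
    refine Finset.sum_congr rfl fun j _ => ?_
    rw [← hsg j, smul_eq_mul, MulMemClass.coe_mul, map_mul]
    exact congrArg (_ * ·) (hfix (s j)).symm
  have h0 : MvPolynomial.coeff 0 P = 0 := by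
    rw [← MvPolynomial.constantCoeff_eq, map_prod]
    refine Finset.prod_eq_zero (Finset.mem_univ 1) ?_
    simp
  refine ⟨N * Fintype.card (Equiv.Perm (Fin d)) + 1, Nat.succ_pos _, ?_⟩
  rw [pow_succ, pow_mul]
  refine Ideal.mul_mem_right _ _ ?_
  have key : (t ^ N) ^ Fintype.card (Equiv.Perm (Fin d)) =
      ∑ β ∈ P.support, (⟨MvPolynomial.coeff β P, hcoef β⟩ : D) * ∏ j ∈ β.support, s j ^ β j := by
    refine Subtype.ext ?_
    rw [SubmonoidClass.coe_pow, SubmonoidClass.coe_pow, ← heval, MvPolynomial.eval_eq,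
      AddSubmonoidClass.coe_finset_sum]
    simp
  rw [key]
  refine sum_mem fun β hβ => Ideal.mul_mem_left _ _ ?_
  have hne : β.support.Nonempty := by
    rw [Finsupp.support_nonempty_iff]
    rintro rfl
    exact (MvPolynomial.mem_support_iff.1 hβ) h0
  obtain ⟨j, hj⟩ := hne
  refine Ideal.mem_of_dvd _ (Finset.dvd_prod_of_mem _ hj) ?_
  exact Ideal.pow_mem_of_mem _ (Ideal.subset_span (hsS j)) _ (Nat.pos_of_ne_zero (Finsupp.mem_support_iff.1 hj))

variable [GradedAlgebra 𝒜]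

omit [GradedAlgebra 𝒜] in
theorem pow_le_of_gen [SetLike.GradedMonoid 𝒜] : ∀ k, 𝒜 1 ^ k ≤ 𝒜 k
  | 0 => by
    rw [pow_zero, Submodule.one_le]
    exact SetLike.one_mem_graded 𝒜
  | k + 1 => by
    rw [pow_succ, Submodule.mul_le]
    exact fun a ha b hb => SetLike.mul_mem_graded (pow_le_of_gen k ha) hb

theorem eq_pow (hgen : Algebra.adjoin A (𝒜 1 : Set B) = ⊤) (k : ℕ) : 𝒜 k = 𝒜 1 ^ k := by
  classical
  refine le_antisymm (fun x hx => ?_) (pow_le_of_gen 𝒜 k)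
  have hle : Subalgebra.toSubmodule (Algebra.adjoin A (𝒜 1 : Set B)) ≤ ⨆ n, 𝒜 1 ^ n := by
    rw [Algebra.adjoin_eq_span, Submodule.span_le]
    intro y hy
    induction hy using Submonoid.closure_induction_left with
    | one => exact Submodule.mem_iSup_of_mem 0 (by rw [pow_zero]; exact Submodule.one_le.1 le_rfl)
    | mul_left a ha b _ hb =>
      refine Submodule.iSup_induction (motive := fun z => a * z ∈ ⨆ n, 𝒜 1 ^ n) _ hb (fun n z hz => ?_)
        (by simp) fun z w hz hw => by rw [mul_add]; exact add_mem hz hw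
      exact Submodule.mem_iSup_of_mem (n + 1) (by rw [pow_succ']; exact Submodule.mul_mem_mul ha hz)
  have hx' : x ∈ ⨆ n, 𝒜 1 ^ n := hle (by rw [hgen]; trivial)
  have key : ∀ y ∈ ⨆ n, 𝒜 1 ^ n, GradedAlgebra.proj 𝒜 k y ∈ 𝒜 1 ^ k := fun y hy => by
    refine Submodule.iSup_induction (motive := fun z => GradedAlgebra.proj 𝒜 k z ∈ 𝒜 1 ^ k) _ hy
      (fun n z hz => ?_) (by simp) fun z w hz hw => by rw [map_add]; exact add_mem hz hw
    rw [GradedAlgebra.proj_apply]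
    by_cases hnk : n = k
    · subst hnk
      rwa [DirectSum.decompose_of_mem_same 𝒜 (pow_le_of_gen 𝒜 n hz)]
    · rw [DirectSum.decompose_of_mem_ne 𝒜 (pow_le_of_gen 𝒜 n hz) hnk]
      exact zero_mem _
  have := key x hx'
  rwa [GradedAlgebra.proj_apply, DirectSum.decompose_of_mem_same 𝒜 hx] at this

variable {K : Type u} [Field K] [Algebra A K] (χ : equi 𝒜 d →ₐ[A] K)

/-- The value of an equidegree tensor. -/
noncomputable def ev (n : ℕ) : MultilinearMap A (fun _ : Fin d => 𝒜 n) K :=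
  χ.toLinearMap.compMultilinearMap
    (((PiTensorProduct.tprod A).compLinearMap fun _ : Fin d => (𝒜 n).subtype).codRestrict
      (Subalgebra.toSubmodule (equi 𝒜 d))
      fun b => Algebra.subset_adjoin ⟨n, fun i => (b i).1, fun i => (b i).2, rfl⟩)

omit [GradedAlgebra 𝒜] in
theorem ev_eq (n : ℕ) (b : Fin d → 𝒜 n) :
    ev 𝒜 d χ n b =
      χ ⟨PiTensorProduct.tprod A fun i => (b i).1, Algebra.subset_adjoin ⟨n, fun i => (b i).1, fun i => (b i).2, rfl⟩⟩ :=
  rfl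

omit [GradedAlgebra 𝒜] in
theorem prod_tprod {κ : Type*} (s : Finset κ) (f : κ → Fin d → B) :
    ∏ i ∈ s, PiTensorProduct.tprod A (f i) = PiTensorProduct.tprod A (fun j => ∏ i ∈ s, f i j) := by
  classical
  induction s using Finset.induction_on with
  | empty => simp only [Finset.prod_empty]; exact PiTensorProduct.one_def (R := A) (A := fun _ : Fin d => B)
  | insert a s ha ih =>
    rw [Finset.prod_insert ha, ih, PiTensorProduct.tprod_mul_tprod]
    exact congrArg _ (funext fun j => by rw [Finset.prod_insert ha]; rfl)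

theorem ev_mul (n m : ℕ) (a : Fin d → 𝒜 n) (b : Fin d → 𝒜 m) :
    ev 𝒜 d χ (n + m) (fun i => ⟨(a i).1 * (b i).1, SetLike.mul_mem_graded (a i).2 (b i).2⟩) =
      ev 𝒜 d χ n a * ev 𝒜 d χ m b := by
  rw [ev_eq, ev_eq, ev_eq, ← map_mul]
  exact congrArg χ (Subtype.ext (PiTensorProduct.tprod_mul_tprod _ _).symm)

omit [GradedAlgebra 𝒜] in
theorem ev_zero_of_mem_span (n : ℕ) (h : ∀ b : Fin d → 𝒜 n, ev 𝒜 d χ n b = 0) (t : ⨂[A] _ : Fin d, B)
    (htC : t ∈ equi 𝒜 d)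
    (ht : t ∈ Submodule.span A {s | ∃ b : Fin d → B, (∀ i, b i ∈ 𝒜 n) ∧ s = PiTensorProduct.tprod A b}) :
    χ ⟨t, htC⟩ = 0 := by
  have : ∀ y ∈ Submodule.span A {s | ∃ b : Fin d → B, (∀ i, b i ∈ 𝒜 n) ∧ s = PiTensorProduct.tprod A b},
      ∃ hy : y ∈ equi 𝒜 d, χ ⟨y, hy⟩ = 0 := fun y hy => by
    induction hy using Submodule.span_induction with
    | mem y hy =>
      obtain ⟨b, hb, rfl⟩ := hy
      exact ⟨Algebra.subset_adjoin ⟨n, b, hb, rfl⟩, h fun i => ⟨b i, hb i⟩⟩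
    | zero => exact ⟨zero_mem _, map_zero χ⟩
    | add x y _ _ hx hy =>
      obtain ⟨hx, hx0⟩ := hx
      obtain ⟨hy, hy0⟩ := hy
      exact ⟨add_mem hx hy, (map_add χ ⟨x, hx⟩ ⟨y, hy⟩).trans (by rw [hx0, hy0, add_zero])⟩
    | smul r x _ hx =>
      obtain ⟨hx, hx0⟩ := hx
      exact ⟨Subalgebra.smul_mem _ hx r, (map_smul χ r ⟨x, hx⟩).trans (by rw [hx0, smul_zero])⟩
  exact (this t ht).2

theorem exists_one_ne_zero (hgen : Algebra.adjoin A (𝒜 1 : Set B) = ⊤) :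
    ∀ (k : ℕ), (∀ b : Fin d → 𝒜 1, ev 𝒜 d χ 1 b = 0) → ∀ b : Fin d → 𝒜 (k + 1), ev 𝒜 d χ (k + 1) b = 0 := by
  classical
  intro k h b
  suffices key : ∀ (s : Finset (Fin d)) (b : Fin d → 𝒜 (k + 1)),
      (∀ i ∉ s, ∃ (u : 𝒜 k) (v : 𝒜 1), (b i).1 = u.1 * v.1) → ev 𝒜 d χ (k + 1) b = 0 from
    key Finset.univ b fun i hi => absurd (Finset.mem_univ i) hi
  intro s
  induction s using Finset.induction_on with
  | empty =>
    intro b hb
    choose u v huv using fun i => hb i (Finset.notMem_empty i)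
    rw [show b = fun i => ⟨(u i).1 * (v i).1, SetLike.mul_mem_graded (u i).2 (v i).2⟩ from
      funext fun i => Subtype.ext (huv i), ev_mul, h v, mul_zero]
  | insert a s _ ih =>
    intro b hb
    have hba : (b a).1 ∈ 𝒜 k * 𝒜 1 := by
      rw [eq_pow 𝒜 hgen k, ← pow_succ, ← eq_pow 𝒜 hgen (k + 1)]
      exact (b a).2
    obtain ⟨hw, h0⟩ : ∃ hw : (b a).1 ∈ 𝒜 (k + 1), ev 𝒜 d χ (k + 1) (Function.update b a ⟨(b a).1, hw⟩) = 0 := by
      refine Submodule.mul_induction_on (C := fun z => ∃ hz : z ∈ 𝒜 (k + 1),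
        ev 𝒜 d χ (k + 1) (Function.update b a ⟨z, hz⟩) = 0) hba (fun x hx y hy => ?_) fun x y hx hy => ?_
      · refine ⟨SetLike.mul_mem_graded hx hy, ih _ fun i hi => ?_⟩
        by_cases hia : i = a
        · subst hia; exact ⟨⟨x, hx⟩, ⟨y, hy⟩, by simp⟩
        · rw [Function.update_of_ne hia]
          exact hb i (by simp [hia, hi])
      · obtain ⟨hx, hx0⟩ := hx
        obtain ⟨hy, hy0⟩ := hy
        refine ⟨add_mem hx hy, ?_⟩
        rw [show (⟨x + y, add_mem hx hy⟩ : 𝒜 (k + 1)) = ⟨x, hx⟩ + ⟨y, hy⟩ from rfl,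
          MultilinearMap.map_update_add, hx0, hy0, add_zero]
    simpa using h0

section coords

variable {d} (e : Fin d → 𝒜 1) (he : ev 𝒜 d χ 1 e ≠ 0)

/-- The powers of the base point. -/
def E (n : ℕ) : Fin d → 𝒜 n :=
  fun i => ⟨(e i).1 ^ n, by simpa using SetLike.pow_mem_graded n (e i).2⟩

include he in
theorem ev_E_ne_zero : ∀ n, ev 𝒜 d χ n (E 𝒜 e n) ≠ 0
  | 0 => by
    rw [ev_eq, show (⟨PiTensorProduct.tprod A fun i => (E 𝒜 e 0 i).1, _⟩ : equi 𝒜 d) = 1 from Subtype.ext (by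
      simp only [E, pow_zero, OneMemClass.coe_one]
      exact (PiTensorProduct.one_def (R := A) (A := fun _ : Fin d => B)).symm), map_one]
    exact one_ne_zero
  | n + 1 => by
    rw [show E 𝒜 e (n + 1) = fun i => ⟨(E 𝒜 e n i).1 * (e i).1, SetLike.mul_mem_graded (E 𝒜 e n i).2 (e i).2⟩ from
      funext fun i => Subtype.ext (pow_succ _ _), ev_mul]
    exact mul_ne_zero (ev_E_ne_zero n) he

open Classical in
/-- The `i`-th coordinate of the point, in degree `n`. -/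
noncomputable def co (n : ℕ) (i : Fin d) (b : B) : K :=
  if hb : b ∈ 𝒜 n then ev 𝒜 d χ n (Function.update (E 𝒜 e n) i ⟨b, hb⟩) / ev 𝒜 d χ n (E 𝒜 e n) else 0

theorem co_eq {n : ℕ} (i : Fin d) {b : B} (hb : b ∈ 𝒜 n) :
    co 𝒜 χ e n i b = ev 𝒜 d χ n (Function.update (E 𝒜 e n) i ⟨b, hb⟩) / ev 𝒜 d χ n (E 𝒜 e n) := by
  simp [co, hb]

theorem co_add {n : ℕ} (i : Fin d) {a b : B} (ha : a ∈ 𝒜 n) (hb : b ∈ 𝒜 n) :
    co 𝒜 χ e n i (a + b) = co 𝒜 χ e n i a + co 𝒜 χ e n i b := by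
  rw [co_eq 𝒜 χ e i ha, co_eq 𝒜 χ e i hb, co_eq 𝒜 χ e i (add_mem ha hb),
    show (⟨a + b, add_mem ha hb⟩ : 𝒜 n) = ⟨a, ha⟩ + ⟨b, hb⟩ from rfl, MultilinearMap.map_update_add, add_div]

theorem co_smul {n : ℕ} (i : Fin d) (r : A) {b : B} (hb : b ∈ 𝒜 n) :
    co 𝒜 χ e n i (r • b) = algebraMap A K r * co 𝒜 χ e n i b := by
  rw [co_eq 𝒜 χ e i hb, co_eq 𝒜 χ e i (Submodule.smul_mem _ r hb),
    show (⟨r • b, Submodule.smul_mem _ r hb⟩ : 𝒜 n) = r • ⟨b, hb⟩ from rfl, MultilinearMap.map_update_smul,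
    Algebra.smul_def, mul_div_assoc]

include he in
theorem co_mul {n m : ℕ} (i : Fin d) {a b : B} (ha : a ∈ 𝒜 n) (hb : b ∈ 𝒜 m) :
    co 𝒜 χ e (n + m) i (a * b) = co 𝒜 χ e n i a * co 𝒜 χ e m i b := by
  classical
  rw [co_eq 𝒜 χ e i ha, co_eq 𝒜 χ e i hb, co_eq 𝒜 χ e i (SetLike.mul_mem_graded ha hb)]
  have h1 : Function.update (E 𝒜 e (n + m)) i ⟨a * b, SetLike.mul_mem_graded ha hb⟩ = fun j =>
      ⟨(Function.update (E 𝒜 e n) i ⟨a, ha⟩ j).1 * (Function.update (E 𝒜 e m) i ⟨b, hb⟩ j).1,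
        SetLike.mul_mem_graded (Function.update (E 𝒜 e n) i ⟨a, ha⟩ j).2 (Function.update (E 𝒜 e m) i ⟨b, hb⟩ j).2⟩ := by
    funext j
    by_cases hj : j = i
    · subst hj; simp
    · apply Subtype.ext; simp [hj, E, pow_add]
  have h2 : E 𝒜 e (n + m) = fun j => ⟨(E 𝒜 e n j).1 * (E 𝒜 e m j).1,
      SetLike.mul_mem_graded (E 𝒜 e n j).2 (E 𝒜 e m j).2⟩ := funext fun j => Subtype.ext (pow_add _ _ _)
  rw [h1, h2, ev_mul, ev_mul, mul_div_mul_comm]

include he in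
theorem co_self (i : Fin d) : co 𝒜 χ e 1 i (e i).1 = 1 := by
  rw [co_eq 𝒜 χ e i (e i).2, show Function.update (E 𝒜 e 1) i ⟨(e i).1, (e i).2⟩ = E 𝒜 e 1 from
    Function.update_eq_self_iff.2 (Subtype.ext (pow_one _).symm), div_self (ev_E_ne_zero 𝒜 χ e he 1)]

include he in
theorem co_pow {n : ℕ} (i : Fin d) {a : B} (ha : a ∈ 𝒜 n) :
    ∀ M, a ^ (M + 1) ∈ 𝒜 ((M + 1) * n) ∧ co 𝒜 χ e ((M + 1) * n) i (a ^ (M + 1)) = co 𝒜 χ e n i a ^ (M + 1)
  | 0 => by simp [ha]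
  | M + 1 => by
    obtain ⟨h1, h2⟩ := co_pow i ha M
    rw [pow_succ a, pow_succ (co 𝒜 χ e n i a), ← h2, show (M + 1 + 1) * n = (M + 1) * n + n by ring]
    exact ⟨SetLike.mul_mem_graded h1 ha, co_mul 𝒜 χ e he i h1 ha⟩

include he in
theorem ev_eq_prod (n : ℕ) (b : Fin d → 𝒜 n) :
    ev 𝒜 d χ n b = ev 𝒜 d χ n (E 𝒜 e n) * ∏ i, co 𝒜 χ e n i (b i).1 := by
  classical
  have hc := ev_E_ne_zero 𝒜 χ e he n
  have key : ev 𝒜 d χ n (E 𝒜 e n) * ∏ i, ev 𝒜 d χ n (Function.update (E 𝒜 e n) i (b i)) =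
      ev 𝒜 d χ n b * ev 𝒜 d χ n (E 𝒜 e n) ^ d := by
    simp only [ev_eq, ← map_prod, ← map_pow, ← map_mul]
    refine congrArg χ (Subtype.ext ?_)
    simp only [MulMemClass.coe_mul, SubmonoidClass.coe_finsetProd, SubmonoidClass.coe_pow]
    have hpow : PiTensorProduct.tprod A (fun j => (E 𝒜 e n j).1) ^ d =
        ∏ _i : Fin d, PiTensorProduct.tprod A (fun j => (E 𝒜 e n j).1) := by simp
    rw [hpow, prod_tprod, prod_tprod, PiTensorProduct.tprod_mul_tprod, PiTensorProduct.tprod_mul_tprod]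
    refine congrArg _ (funext fun j => ?_)
    simp only [Pi.mul_apply]
    rw [← Finset.mul_prod_erase _ _ (Finset.mem_univ j), Function.update_self,
      Finset.prod_congr rfl (fun i hi => by rw [Function.update_of_ne (Finset.ne_of_mem_erase hi).symm]),
      ← Finset.mul_prod_erase (Finset.univ : Finset (Fin d)) (fun _ => (E 𝒜 e n j).1) (Finset.mem_univ j)]
    exact mul_left_comm _ _ _
  have hco : ∀ i, co 𝒜 χ e n i (b i).1 = ev 𝒜 d χ n (Function.update (E 𝒜 e n) i (b i)) / ev 𝒜 d χ n (E 𝒜 e n) :=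
    fun i => co_eq 𝒜 χ e i (b i).2
  simp only [hco, Finset.prod_div_distrib, Finset.prod_const, Finset.card_univ, Fintype.card_fin]
  rw [← mul_div_assoc, key, mul_div_assoc, div_self (pow_ne_zero _ hc), mul_one]

include he in
/-- Homogeneous prime avoidance. -/
theorem exists_good : ∀ s : Finset (Fin d),
    ∃ (n : ℕ) (f : B), 0 < n ∧ f ∈ 𝒜 n ∧ ∀ i ∈ s, co 𝒜 χ e n i f ≠ 0 := by
  classical
  intro s
  induction s using Finset.strongInduction with
  | _ s ih =>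
    rcases s.eq_empty_or_nonempty with rfl | ⟨a, ha⟩
    · exact ⟨1, 0, Nat.one_pos, zero_mem _, fun i hi => absurd hi (Finset.notMem_empty i)⟩
    obtain ⟨n, f, hn, hf, hfs⟩ := ih _ (Finset.erase_ssubset ha)
    by_cases hfa : co 𝒜 χ e n a f ≠ 0
    · refine ⟨n, f, hn, hf, fun i hi => ?_⟩
      by_cases hia : i = a
      · exact hia ▸ hfa
      · exact hfs i (Finset.mem_erase.2 ⟨hia, hi⟩)
    push_neg at hfa
    by_cases hA : ∃ j ∈ s.erase a, ∀ m, 0 < m → ∀ b ∈ 𝒜 m, co 𝒜 χ e m j b = 0 → co 𝒜 χ e m a b = 0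
    · obtain ⟨j, hj, hja⟩ := hA
      obtain ⟨m, g, hm, hg, hgs⟩ := ih _ (Finset.erase_ssubset (Finset.mem_of_mem_erase hj))
      refine ⟨m, g, hm, hg, fun i hi => ?_⟩
      by_cases hij : i = j
      · subst hij
        exact fun h0 => hgs a (Finset.mem_erase.2 ⟨(Finset.ne_of_mem_erase hj).symm, ha⟩) (hja m hm g hg h0)
      · exact hgs i (Finset.mem_erase.2 ⟨hij, hi⟩)
    push_neg at hA
    have hG : ∀ r : Finset (Fin d), r ⊆ s.erase a → ∃ (M : ℕ) (G : B), G ∈ 𝒜 (M + 1) ∧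
        co 𝒜 χ e (M + 1) a G ≠ 0 ∧ ∀ j ∈ r, co 𝒜 χ e (M + 1) j G = 0 := by
      intro r
      induction r using Finset.induction_on with
      | empty =>
        exact fun _ => ⟨0, (e a).1, (e a).2, by rw [co_self 𝒜 χ e he a]; exact one_ne_zero,
          fun j hj => absurd hj (Finset.notMem_empty j)⟩
      | insert j r _ ihr =>
        intro hr
        obtain ⟨M, G, hG, hGa, hGr⟩ := ihr ((Finset.subset_insert _ _).trans hr)
        obtain ⟨m, hm, g, hg, hgj, hga⟩ := hA j (hr (Finset.mem_insert_self _ _))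
        refine ⟨M + m, G * g, ?_, ?_, fun i hi => ?_⟩
        · rw [show M + m + 1 = (M + 1) + m by omega]; exact SetLike.mul_mem_graded hG hg
        · rw [show M + m + 1 = (M + 1) + m by omega, co_mul 𝒜 χ e he a hG hg]; exact mul_ne_zero hGa hga
        · rw [show M + m + 1 = (M + 1) + m by omega, co_mul 𝒜 χ e he i hG hg]
          rcases Finset.mem_insert.1 hi with rfl | hi
          · rw [hgj, mul_zero]
          · rw [hGr i hi, zero_mul]
    obtain ⟨M, G, hG, hGa, hGr⟩ := hG _ subset_rfl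
    obtain ⟨n', rfl⟩ : ∃ n', n = n' + 1 := ⟨n - 1, by omega⟩
    have key : ∀ i, f ^ (M + 1) ∈ 𝒜 ((M + 1) * (n' + 1)) ∧ G ^ (n' + 1) ∈ 𝒜 ((M + 1) * (n' + 1)) ∧
        co 𝒜 χ e ((M + 1) * (n' + 1)) i (f ^ (M + 1) + G ^ (n' + 1)) =
          co 𝒜 χ e (n' + 1) i f ^ (M + 1) + co 𝒜 χ e (M + 1) i G ^ (n' + 1) := fun i => by
      obtain ⟨h1, h2⟩ := co_pow 𝒜 χ e he i hf M
      obtain ⟨h3, h4⟩ := co_pow 𝒜 χ e he i hG n'
      rw [show (n' + 1) * (M + 1) = (M + 1) * (n' + 1) from mul_comm _ _] at h3 h4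
      exact ⟨h1, h3, by rw [co_add 𝒜 χ e i h1 h3, h2, h4]⟩
    refine ⟨(M + 1) * (n' + 1), f ^ (M + 1) + G ^ (n' + 1), Nat.mul_pos (by omega) (by omega),
      add_mem (key a).1 (key a).2.1, fun i hi => ?_⟩
    rw [(key i).2.2]
    by_cases hia : i = a
    · subst hia
      rw [hfa, zero_pow (by omega), zero_add]
      exact pow_ne_zero _ hGa
    · rw [hGr i (Finset.mem_erase.2 ⟨hia, hi⟩), zero_pow (by omega), add_zero]
      exact pow_ne_zero _ (hfs i (Finset.mem_erase.2 ⟨hia, hi⟩))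

include he in
/-- Avoidance in degree one when the residue field is large. -/
theorem exists_good_one {k : Type u} [Field k] [Algebra A k] (ι : k →+* K)
    (hι : ∀ a, ι (algebraMap A k a) = algebraMap A K a)
    (hsurj : ∀ c : k, ∃ a s : A, algebraMap A k s ≠ 0 ∧ c = algebraMap A k a / algebraMap A k s)
    (hk : (d : Cardinal) ≤ Cardinal.mk k) :
    ∀ s : Finset (Fin d), ∃ f ∈ 𝒜 1, ∀ i ∈ s, co 𝒜 χ e 1 i f ≠ 0 := by
  classical
  intro s
  induction s using Finset.strongInduction with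
  | _ s ih =>
    rcases s.eq_empty_or_nonempty with rfl | ⟨a, ha⟩
    · exact ⟨0, zero_mem _, fun i hi => absurd hi (Finset.notMem_empty i)⟩
    obtain ⟨v, hv, hvs⟩ := ih _ (Finset.erase_ssubset ha)
    by_cases hva : co 𝒜 χ e 1 a v ≠ 0
    · refine ⟨v, hv, fun i hi => ?_⟩
      by_cases hia : i = a
      · exact hia ▸ hva
      · exact hvs i (Finset.mem_erase.2 ⟨hia, hi⟩)
    push_neg at hva
    have hu : co 𝒜 χ e 1 a (e a).1 = 1 := co_self 𝒜 χ e he a
    by_cases hall : ∀ i ∈ s.erase a, co 𝒜 χ e 1 i (e a).1 ≠ 0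
    swap
    · push_neg at hall
      obtain ⟨j₀, hj₀, hj₀u⟩ := hall
      let bad : Fin d → k := fun i =>
        if h : ∃ c : k, ι c * co 𝒜 χ e 1 i (e a).1 + co 𝒜 χ e 1 i v = 0 then h.choose else 0
      let F : Finset k := insert 0 (((s.erase a).erase j₀).image bad)
      have hF : F.card < d := by
        have h1 : F.card ≤ ((s.erase a).erase j₀).card + 1 :=
          (Finset.card_insert_le _ _).trans (Nat.add_le_add_right Finset.card_image_le _)
        have h2 := Finset.card_erase_add_one hj₀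
        have h3 := Finset.card_erase_add_one ha
        have h4 : s.card ≤ d := (Finset.card_le_univ s).trans_eq (Fintype.card_fin d)
        omega
      obtain ⟨c, hc⟩ : ∃ c : k, c ∉ F := by
        by_contra hall'
        push_neg at hall'
        letI : Fintype k := ⟨F, hall'⟩
        rw [Cardinal.mk_fintype, Nat.cast_le] at hk
        exact absurd hk (not_le.2 hF)
      obtain ⟨x, y, hy, rfl⟩ := hsurj c
      refine ⟨y • v + x • (e a).1, add_mem (Submodule.smul_mem _ y hv) (Submodule.smul_mem _ x (e a).2), fun i hi => ?_⟩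
      rw [co_add 𝒜 χ e i (Submodule.smul_mem _ y hv) (Submodule.smul_mem _ x (e a).2), co_smul 𝒜 χ e i y hv,
        co_smul 𝒜 χ e i x (e a).2, ← hι, ← hι]
      have hy' : ι (algebraMap A k y) ≠ 0 := (map_ne_zero ι).2 hy
      have hc0 : algebraMap A k x / algebraMap A k y ≠ 0 := fun h => hc (h ▸ Finset.mem_insert_self _ _)
      by_cases hia : i = a
      · subst hia
        rw [hva, mul_zero, zero_add, hu, mul_one]
        exact (map_ne_zero ι).2 fun h => hc0 (by rw [h, zero_div])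
      intro h0
      have hi' : i ∈ s.erase a := Finset.mem_erase.2 ⟨hia, hi⟩
      have h0' : ι (algebraMap A k x / algebraMap A k y) * co 𝒜 χ e 1 i (e a).1 + co 𝒜 χ e 1 i v = 0 := by
        rw [map_div₀]
        field_simp
        linear_combination h0
      by_cases hij : i = j₀
      · subst hij
        rw [hj₀u, mul_zero, zero_add] at h0'
        exact hvs i hi' h0'
      have hne : co 𝒜 χ e 1 i (e a).1 ≠ 0 := fun hz => hvs i hi' (by rw [hz, mul_zero, zero_add] at h0'; exact h0')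
      have hex : ∃ c : k, ι c * co 𝒜 χ e 1 i (e a).1 + co 𝒜 χ e 1 i v = 0 := ⟨_, h0'⟩
      refine hc (Finset.mem_insert_of_mem (Finset.mem_image.2 ⟨i, Finset.mem_erase.2 ⟨hij, hi'⟩, ?_⟩))
      simp only [bad, dif_pos hex]
      exact ι.injective (mul_right_cancel₀ hne (add_right_cancel (hex.choose_spec.trans h0'.symm)))
    · refine ⟨(e a).1, (e a).2, fun i hi => ?_⟩
      by_cases hia : i = a
      · subst hia; rw [hu]; exact one_ne_zero
      · exact hall i (Finset.mem_erase.2 ⟨hia, hi⟩)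

end coords

/-- A prime not containing a positive degree element gives a point with nonvanishing coordinates. -/
theorem exists_point (hgen : Algebra.adjoin A (𝒜 1 : Set B) = ⊤) (Q : Ideal (equi 𝒜 d)) [Q.IsPrime]
    (k : ℕ) (hk : 0 < k) (t : ⨂[A] _ : Fin d, B) (htC : t ∈ equi 𝒜 d)
    (htk : t ∈ Submodule.span A {s | ∃ b : Fin d → B, (∀ i, b i ∈ 𝒜 k) ∧ s = PiTensorProduct.tprod A b})
    (htQ : (⟨t, htC⟩ : equi 𝒜 d) ∉ Q) :
    ∃ e : Fin d → 𝒜 1,
      ev 𝒜 d (IsScalarTower.toAlgHom A (equi 𝒜 d) Q.ResidueField) 1 e ≠ 0 := by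
  by_contra hcon
  push_neg at hcon
  obtain ⟨j, rfl⟩ : ∃ j, k = j + 1 := ⟨k - 1, by omega⟩
  exact htQ (Ideal.algebraMap_residueField_eq_zero.1
    (ev_zero_of_mem_span 𝒜 d (IsScalarTower.toAlgHom A (equi 𝒜 d) Q.ResidueField) (j + 1)
      (exists_one_ne_zero 𝒜 d _ hgen j hcon) t htC htk))

variable (D : Subalgebra A (⨂[A] _ : Fin d, B)) (hD : D = equi 𝒜 d ⊓ SymTen.TS A B d)

include hD in
theorem exists_pow_mem_of_diag (hgen : Algebra.adjoin A (𝒜 1 : Set B) = ⊤) (p : ℕ → Prop) (S : Set D)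
    (hS : ∀ (n : ℕ) (f : B), p n → f ∈ 𝒜 n → ∀ hf : PiTensorProduct.tprod A (fun _ : Fin d => f) ∈ D,
      (⟨_, hf⟩ : D) ∈ S)
    (hgood : ∀ (Q : Ideal (equi 𝒜 d)) [Q.IsPrime] (e : Fin d → 𝒜 1),
      ev 𝒜 d (IsScalarTower.toAlgHom A (equi 𝒜 d) Q.ResidueField) 1 e ≠ 0 →
        ∃ (n : ℕ) (f : B), p n ∧ f ∈ 𝒜 n ∧
          ∀ i, co 𝒜 (IsScalarTower.toAlgHom A (equi 𝒜 d) Q.ResidueField) e n i f ≠ 0)
    (k : ℕ) (hk : 0 < k) (t : ⨂[A] _ : Fin d, B) (htD : t ∈ D)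
    (htk : t ∈ Submodule.span A {s | ∃ b : Fin d → B, (∀ i, b i ∈ 𝒜 k) ∧ s = PiTensorProduct.tprod A b}) :
    ∃ m : ℕ, 0 < m ∧ (⟨t, htD⟩ : D) ^ m ∈ Ideal.span S := by
  refine radical_transfer 𝒜 d D hD S ⟨t, htD⟩ fun Q hQ hSQ => ?_
  by_contra htQ
  obtain ⟨e, he⟩ := exists_point 𝒜 d hgen Q k hk t (hD.trans_le inf_le_left htD) htk htQ
  obtain ⟨n, f, hn, hf, hfi⟩ := hgood Q e he
  have hfD : PiTensorProduct.tprod A (fun _ : Fin d => f) ∈ D := by
    rw [hD]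
    exact ⟨Algebra.subset_adjoin ⟨n, fun _ => f, fun _ => hf, rfl⟩, fun σ => by rw [PiTensorProduct.reindex_tprod]⟩
  have h0 := Ideal.algebraMap_residueField_eq_zero.2 (hSQ _ (hS n f hn hf hfD))
  have h1 := ev_eq_prod 𝒜 (IsScalarTower.toAlgHom A (equi 𝒜 d) Q.ResidueField) e he n fun _ => ⟨f, hf⟩
  rw [ev_eq] at h1
  exact mul_ne_zero (ev_E_ne_zero 𝒜 _ e he n) (Finset.prod_ne_zero_iff.2 fun i _ => hfi i) (h1.symm.trans h0)

include hD in
/-- Covered in degree one. -/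
theorem exists_pow_mem_degOne (hgen : Algebra.adjoin A (𝒜 1 : Set B) = ⊤) (hfg : (𝒜 1).FG)
    (k : ℕ) (hk : 0 < k) (t : ⨂[A] _ : Fin d, B) (htD : t ∈ D)
    (htk : t ∈ Submodule.span A {s | ∃ b : Fin d → B, (∀ i, b i ∈ 𝒜 k) ∧ s = PiTensorProduct.tprod A b}) :
    ∃ m : ℕ, 0 < m ∧ (⟨t, htD⟩ : D) ^ m ∈
      Ideal.span {x : D | (x : ⨂[A] _ : Fin d, B) ∈
        Submodule.span A {s | ∃ b : Fin d → B, (∀ i, b i ∈ 𝒜 1) ∧ s = PiTensorProduct.tprod A b}} := by
  classical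
  refine radical_transfer 𝒜 d D hD _ ⟨t, htD⟩ fun Q hQ hSQ => ?_
  by_contra htQ
  obtain ⟨e, he⟩ := exists_point 𝒜 d hgen Q k hk t (hD.trans_le inf_le_left htD) htk htQ
  let χ := IsScalarTower.toAlgHom A (equi 𝒜 d) Q.ResidueField
  obtain ⟨N, g, hg⟩ := Submodule.fg_iff_exists_fin_generating_family.1 hfg
  have hgm : ∀ j, g j ∈ 𝒜 1 := fun j => hg.le (Submodule.subset_span ⟨j, rfl⟩)
  let P : MvPolynomial (Fin N) Q.ResidueField :=
    ∏ i : Fin d, ∑ j, MvPolynomial.C (co 𝒜 χ e 1 i (g j)) * MvPolynomial.X j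
  have hP : P ≠ 0 := by
    refine Finset.prod_ne_zero_iff.2 fun i _ hzero => ?_
    have hall : ∀ j, co 𝒜 χ e 1 i (g j) = 0 := fun j => by
      have := congrArg (MvPolynomial.coeff (Finsupp.single j 1)) hzero
      simpa [MvPolynomial.coeff_sum, MvPolynomial.coeff_C_mul, MvPolynomial.coeff_X', Finsupp.single_eq_single_iff] using this
    have : ∀ b ∈ 𝒜 1, co 𝒜 χ e 1 i b = 0 := fun b hb => by
      rw [← hg] at hb
      suffices b ∈ 𝒜 1 ∧ co 𝒜 χ e 1 i b = 0 from this.2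
      induction hb using Submodule.span_induction with
      | mem x hx => obtain ⟨j, rfl⟩ := hx; exact ⟨hgm j, hall j⟩
      | zero => exact ⟨zero_mem _, by have h := co_smul 𝒜 χ e i (0 : A) (zero_mem (𝒜 1)); rwa [zero_smul, map_zero, zero_mul] at h⟩
      | add x y _ _ hx hy => exact ⟨add_mem hx.1 hy.1, by rw [co_add 𝒜 χ e i hx.1 hy.1, hx.2, hy.2, add_zero]⟩
      | smul r x _ hx => exact ⟨Submodule.smul_mem _ r hx.1, by rw [co_smul 𝒜 χ e i r hx.1, hx.2, mul_zero]⟩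
    exact one_ne_zero ((co_self 𝒜 χ e he i).symm.trans (this _ (e i).2))
  obtain ⟨β, hβ⟩ := MvPolynomial.ne_zero_iff.1 hP
  let typ : (Fin d → Fin N) → (Fin N →₀ ℕ) := fun c => ∑ i, Finsupp.single (c i) 1
  let Z := Finset.univ.filter fun c : Fin d → Fin N => typ c = β
  let x : ⨂[A] _ : Fin d, B := ∑ c ∈ Z, PiTensorProduct.tprod A fun i => g (c i)
  have hxC : x ∈ equi 𝒜 d := sum_mem fun c _ => Algebra.subset_adjoin ⟨1, _, fun i => hgm (c i), rfl⟩
  have hxS : x ∈ Submodule.span A {s | ∃ b : Fin d → B, (∀ i, b i ∈ 𝒜 1) ∧ s = PiTensorProduct.tprod A b} :=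
    sum_mem fun c _ => Submodule.subset_span ⟨_, fun i => hgm (c i), rfl⟩
  have hxD : x ∈ D := by
    rw [hD]
    refine ⟨hxC, fun σ => ?_⟩
    simp only [x, map_sum, PiTensorProduct.reindex_tprod]
    refine Finset.sum_equiv (Equiv.arrowCongr σ (Equiv.refl _)) (fun c => ?_) fun c _ => rfl
    simp only [Z, Finset.mem_filter, Finset.mem_univ, true_and]
    rw [show typ (Equiv.arrowCongr σ (Equiv.refl _) c) = typ c from
      σ.symm.sum_comp fun i => Finsupp.single (c i) 1]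
  have h0 := Ideal.algebraMap_residueField_eq_zero.2 (hSQ ⟨x, hxD⟩ hxS)
  have h1 : χ ⟨x, hxC⟩ = ev 𝒜 d χ 1 (E 𝒜 e 1) * MvPolynomial.coeff β P := by
    have hexp : P = ∑ c : Fin d → Fin N, MvPolynomial.monomial (typ c) (∏ i, co 𝒜 χ e 1 i (g (c i))) := by
      simp only [P]
      rw [Fintype.prod_sum]
      refine Finset.sum_congr rfl fun c _ => ?_
      rw [MvPolynomial.monomial_sum_index, Finset.prod_mul_distrib, map_prod]
      rfl
    rw [hexp, MvPolynomial.coeff_sum, Finset.mul_sum]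
    simp only [MvPolynomial.coeff_monomial, mul_ite, mul_zero]
    rw [← Finset.sum_filter]
    rw [show (⟨x, hxC⟩ : equi 𝒜 d) = ∑ c ∈ Z, ⟨PiTensorProduct.tprod A fun i => g (c i),
        Algebra.subset_adjoin ⟨1, _, fun i => hgm (c i), rfl⟩⟩ from
      Subtype.ext (by rw [AddSubmonoidClass.coe_finset_sum]), map_sum]
    exact Finset.sum_congr rfl fun c _ => ev_eq_prod 𝒜 χ e he 1 fun i => ⟨g (c i), hgm (c i)⟩
  exact mul_ne_zero (ev_E_ne_zero 𝒜 χ e he 1) hβ (h1.symm.trans h0)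

end Groth.Agent.H23.SymCover
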