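import Groth.Agent.H23.SymTensorChart
import Groth.Agent.PolLib.FlatTS
import Mathlib.AlgebraicGeometry.Morphisms.Flat

/-!
Symmetric powers of flat morphisms are flat.
-/

set_option autoImplicit false
set_option backward.isDefEq.respectTransparency false
set_option linter.style.haveILetI false

universe u

open CategoryTheory CategoryTheory.Limits AlgebraicGeometry TopologicalSpace
open scoped TensorProduct

namespace Groth.Agent.H23.SymFlat

open SymProd SymAF SymTensorChart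

variable {X S Y : Scheme.{u}} (f : X ⟶ S) {d : ℕ} {q : fibPow f d ⟶ Y} {g : Y ⟶ S} (hq : IsSymProd f d q g)

include hq in
theorem le_preimage_of_chart (hd : 0 < d) {U : X.Opens} {V : S.Opens} (hUV : U ≤ f ⁻¹ᵁ V) {W' : Y.Opens}
    (hpre : q ⁻¹ᵁ W' = pow f d U) : W' ≤ g ⁻¹ᵁ V := by
  intro y hy
  obtain ⟨x, rfl⟩ := SGA1Q.surjective hq.isQuot y
  show (q ≫ g).base x ∈ V
  rw [hq.over]
  exact pow_le_base f hUV hd (hpre.le hy)

include hq in
/-- The sections of a chart of the symmetric power are the symmetric tensors. -/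
theorem exists_chartEquiv (hd : 0 < d) {U : X.Opens} (hU : IsAffineOpen U) {V : S.Opens} (hV : IsAffineOpen V)
    (hUV : U ≤ f ⁻¹ᵁ V) {W' : Y.Opens} (hpre : q ⁻¹ᵁ W' = pow f d U) :
    letI := (f.appLE V U hUV).hom.toAlgebra
    letI := (g.appLE V W' (le_preimage_of_chart f hq hd hUV hpre)).hom.toAlgebra
    ∃ (θ : (⨂[Γ(S, V)] _ : Fin d, Γ(X, U)) ≃+* Γ(fibPow f d, pow f d U))
      (β : Γ(Y, W') ≃ₗ[Γ(S, V)] PolLib.invSub Γ(S, V) Γ(X, U) d),
      (∀ a : Γ(S, V), θ (algebraMap Γ(S, V) (⨂[Γ(S, V)] _ : Fin d, Γ(X, U)) a) =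
        ((WidePullback.base (fun _ : Fin d => f)).appLE V (pow f d U) (pow_le_base f hUV hd)).hom a) ∧
      (∀ (σ : Equiv.Perm (Fin d)) (t : ⨂[Γ(S, V)] _ : Fin d, Γ(X, U)),
        ((permHom f d σ⁻¹).appLE (pow f d U) (pow f d U) (permHom_preimage_pow f d U σ⁻¹).ge).hom (θ t) =
          θ (PiTensorProduct.reindex Γ(S, V) (fun _ : Fin d => Γ(X, U)) σ t)) ∧
      ∀ t : Γ(Y, W'), θ (β t) = (q.appLE W' (pow f d U) hpre.ge).hom t := by
  classical
  letI := (f.appLE V U hUV).hom.toAlgebra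
  letI := (g.appLE V W' (le_preimage_of_chart f hq hd hUV hpre)).hom.toAlgebra
  obtain ⟨θ, hθb, hθσ⟩ := exists_tensorEquiv_equivariant f hUV hd hU hV
  let ι : Γ(Y, W') →+* Γ(fibPow f d, pow f d U) := (q.appLE W' (pow f d U) hpre.ge).hom
  have hrange : ∀ s, s ∈ Set.range ι ↔ ∀ (σ : ULift.{u} (Equiv.Perm (Fin d)))
      (h : pow f d U ≤ (permActU f d σ).hom ⁻¹ᵁ pow f d U),
      ((permActU f d σ).hom.appLE (pow f d U) (pow f d U) h).hom s = s :=
    fun s => SGA1Q.range_appLE_iff hq.isQuot W' _ hpre.symm s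
  have hinj : Function.Injective ι := by
    have h : ι = (((fibPow f d).presheaf.map (eqToHom hpre.symm).op).hom).comp (q.app W').hom := rfl
    rw [h]
    exact (ConcreteCategory.bijective_of_isIso ((fibPow f d).presheaf.map (eqToHom hpre.symm).op)).1.comp
      (hq.isQuot.injective W')
  have hb : g.appLE V W' (le_preimage_of_chart f hq hd hUV hpre) ≫ q.appLE W' (pow f d U) hpre.ge =
      (WidePullback.base (fun _ : Fin d => f)).appLE V (pow f d U) (pow_le_base f hUV hd) := by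
    rw [Scheme.Hom.appLE_comp_appLE]
    exact SGA1Q.appLE_congr_hom hq.over _ _
  let L : Γ(Y, W') →ₗ[Γ(S, V)] ⨂[Γ(S, V)] _ : Fin d, Γ(X, U) :=
    { toFun := fun t => θ.symm (ι t)
      map_add' := fun a b => by simp
      map_smul' := fun r t => by
        refine θ.injective ?_
        rw [RingEquiv.apply_symm_apply, RingHom.id_apply, Algebra.smul_def, Algebra.smul_def, map_mul, map_mul,
          RingEquiv.apply_symm_apply, hθb]
        congr 1
        exact congr(($hb).hom r) }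
  have hL : ∀ t, θ (L t) = ι t := fun t => θ.apply_symm_apply (ι t)
  have hmem : ∀ z, (∀ σ, PiTensorProduct.reindex Γ(S, V) (fun _ : Fin d => Γ(X, U)) σ z = z) ↔
      θ z ∈ Set.range ι := by
    intro z
    rw [hrange]
    constructor
    · intro h σ hσ
      have h1 := hθσ σ.down⁻¹ z
      rw [h] at h1
      refine Eq.trans ?_ h1
      exact congr(($(SGA1Q.appLE_congr_hom (show (permActU f d σ).hom = permHom f d σ.down⁻¹⁻¹ by
        rw [inv_inv]; rfl) _ _)).hom (θ z))
    · intro h σ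
      refine θ.injective ?_
      rw [← hθσ]
      exact h ⟨σ⁻¹⟩ (permHom_preimage_pow f d U σ⁻¹).ge
  let L' : Γ(Y, W') →ₗ[Γ(S, V)] PolLib.invSub Γ(S, V) Γ(X, U) d :=
    L.codRestrict _ fun t => PolLib.mem_invSub.2 ((hmem (L t)).2 ⟨t, (hL t).symm⟩)
  have hbij : Function.Bijective L' := by
    refine ⟨fun a b h => hinj ?_, fun z => ?_⟩
    · rw [← hL, ← hL]
      exact congrArg (fun z : PolLib.invSub Γ(S, V) Γ(X, U) d => θ z.1) h
    · obtain ⟨t, ht⟩ := (hmem z.1).1 (PolLib.mem_invSub.1 z.2)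
      exact ⟨t, Subtype.ext (θ.injective ((hL t).trans ht))⟩
  exact ⟨θ, LinearEquiv.ofBijective L' hbij, hθb, hθσ, hL⟩

include hq in
theorem flat [Flat f] (hAF : IsAF f) : Flat g := by
  rcases Nat.eq_zero_or_pos d with rfl | hd
  · have htriv : ∀ σ : ULift.{u} (Equiv.Perm (Fin 0)), (permActU f 0 σ).hom = 𝟙 _ := fun σ => by
      rw [Subsingleton.elim σ 1, map_one]; rfl
    obtain ⟨r, hr, -⟩ := SGA1Q.desc_existsUnique_isQuot hq.isQuot (𝟙 _) (fun σ => by
      rw [htriv, Category.id_comp])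
    have hrq : r ≫ q = 𝟙 Y := by
      obtain ⟨w, -, hu⟩ := SGA1Q.desc_existsUnique_isQuot hq.isQuot q hq.isQuot.inv
      rw [hu (r ≫ q) (by simp [reassoc_of% hr]), hu (𝟙 Y) (Category.comp_id q)]
    haveI : IsIso q := ⟨r, hr, hrq⟩
    let e : S ⟶ fibPow f 0 := WidePullback.lift (𝟙 S) (fun i => i.elim0) (fun i => i.elim0)
    haveI : IsIso (WidePullback.base (fun _ : Fin 0 => f)) := ⟨e,
      WidePullback.hom_ext _ _ _ (fun i => i.elim0) (by simp [e]), by simp [e]⟩
    have hg : g = r ≫ WidePullback.base (fun _ : Fin 0 => f) := by rw [← hq.over, reassoc_of% hrq]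
    haveI : IsIso r := ⟨q, hrq, hr⟩
    rw [hg]
    infer_instance
  refine (HasRingHomProperty.iff_exists_appLE (P := @Flat) (RingHom.Flat.stableUnderComposition.stableUnderCompositionWithLocalizationAway
    RingHom.Flat.holdsForLocalizationAway).left).mpr fun y => ?_
  obtain ⟨V, hV, hyV, -⟩ := exists_isAffineOpen_mem_and_subset (x := g y) (U := ⊤) trivial
  obtain ⟨U, hU, hUV, hW, W', hyW, hW', hpre⟩ := exists_chart f hAF hd hq y hV hyV
  have hle := le_preimage_of_chart f hq hd hUV hpre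
  refine ⟨⟨V, hV⟩, ⟨W', hW'⟩, hyW, hle, ?_⟩
  letI := (f.appLE V U hUV).hom.toAlgebra
  letI := (g.appLE V W' hle).hom.toAlgebra
  haveI : Module.Flat Γ(S, V) Γ(X, U) := f.flat_appLE hV hU hUV
  obtain ⟨θ, β, -⟩ := exists_chartEquiv f hq hd hU hV hUV hpre
  haveI := PolLib.flat_invSub (A := Γ(S, V)) (M := Γ(X, U)) (d := d)
  exact Module.Flat.of_linearEquiv β

end Groth.Agent.H23.SymFlat
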