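import Groth.Agent.H23.SymGeneric
import Groth.Agent.H23.SymFlat
import Groth.Agent.H23.CoverPush
import Groth.Agent.SGA1Q.Properties
import Groth.Prelude.Def_Mor2
import Mathlib.AlgebraicGeometry.Morphisms.Smooth
import Mathlib.AlgebraicGeometry.Morphisms.Proper
import Mathlib.RingTheory.Smooth.StandardSmoothCotangent

/-!
Symmetric powers of smooth proper curves: smoothness, properness and the degree of the quotient map.
-/

set_option autoImplicit false
set_option backward.isDefEq.respectTransparency false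
set_option linter.style.haveILetI false
set_option maxHeartbeats 1000000

universe u

open CategoryTheory CategoryTheory.Limits AlgebraicGeometry TopologicalSpace
open scoped TensorProduct

namespace Groth.Agent.H23.SymCurve

open SymProd SymAF SymTensorChart SymFlat

theorem rankAtStalk_kaehler {R A : Type u} [CommRing R] [CommRing A] [Algebra R A] [Algebra.Smooth R A]
    (h : RingHom.Locally (RingHom.IsStandardSmoothOfRelativeDimension 1) (algebraMap R A)) (p : PrimeSpectrum A) :
    Module.rankAtStalk (R := A) Ω[A⁄R] p = 1 := by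
  obtain ⟨s, hs, hst⟩ := h
  obtain ⟨t, ht, htp⟩ : ∃ t ∈ s, t ∉ p.asIdeal := by
    by_contra hall
    push Not at hall
    exact p.2.ne_top (top_unique (hs.ge.trans (Ideal.span_le.2 hall)))
  let At := Localization.Away t
  haveI : Algebra.IsStandardSmoothOfRelativeDimension 1 R At := by
    have h1 := hst t ht
    rwa [← IsScalarTower.algebraMap_eq R A At, RingHom.isStandardSmoothOfRelativeDimension_algebraMap] at h1
  obtain ⟨P, rfl⟩ : p ∈ Set.range (PrimeSpectrum.comap (algebraMap A At)) := by
    rw [PrimeSpectrum.localization_away_comap_range At t]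
    exact htp
  haveI : Nontrivial At := ⟨0, 1, fun h => P.2.ne_top ((Ideal.eq_top_iff_one _).2 (h ▸ zero_mem _))⟩
  haveI : Algebra.IsStandardSmooth R At := Algebra.IsStandardSmoothOfRelativeDimension.isStandardSmooth 1
  haveI : Algebra.FormallyEtale A At := Algebra.FormallyEtale.of_isLocalization (Submonoid.powers t)
  rw [← Module.rankAtStalk_baseChange,
    Module.rankAtStalk_eq_of_equiv (KaehlerDifferential.tensorKaehlerEquivOfFormallyEtale R A At),
    Module.rankAtStalk_eq_finrank_of_free, Pi.natCast_apply]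
  exact Module.finrank_eq_of_rank_eq (Algebra.IsStandardSmoothOfRelativeDimension.rank_kaehlerDifferential 1)

theorem base_property (P : MorphismProperty Scheme.{u}) [P.IsMultiplicative] [P.IsStableUnderBaseChange] [P.RespectsIso]
    {S Y : Scheme.{u}} (f : Y ⟶ S) (hf : P f) :
    ∀ n : ℕ, P (WidePullback.base (fun _ : Fin n => f))
  | 0 => by
    haveI : IsIso (WidePullback.base (fun _ : Fin 0 => f)) := by
      refine ⟨WidePullback.lift (𝟙 S) (fun i => i.elim0) (fun i => i.elim0), ?_, WidePullback.lift_base ..⟩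
      refine WidePullback.hom_ext _ _ _ (fun i => i.elim0) ?_
      rw [Category.assoc, WidePullback.lift_base, Category.comp_id, Category.id_comp]
    exact P.of_isIso _
  | n + 1 => by
    have ih := base_property P f hf n
    let b := WidePullback.base (fun _ : Fin n => f)
    let rest : widePullback S (fun _ : Fin (n + 1) => Y) (fun _ => f) ⟶
        widePullback S (fun _ : Fin n => Y) (fun _ => f) :=
      WidePullback.lift (WidePullback.base _) (fun i => WidePullback.π (fun _ : Fin (n + 1) => f) i.succ)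
        (fun i => WidePullback.π_arrow _ i.succ)
    have hr : rest ≫ b = WidePullback.base (fun _ : Fin (n + 1) => f) := WidePullback.lift_base ..
    have w : WidePullback.π (fun _ : Fin (n + 1) => f) 0 ≫ f = rest ≫ b := by
      rw [hr]; exact WidePullback.π_arrow _ 0
    let a := pullback.lift (WidePullback.π (fun _ : Fin (n + 1) => f) 0) rest w
    let a' : pullback f b ⟶ widePullback S (fun _ : Fin (n + 1) => Y) (fun _ => f) :=
      WidePullback.lift (pullback.snd f b ≫ b)
        (Fin.cases (pullback.fst f b) fun i => pullback.snd f b ≫ WidePullback.π (fun _ : Fin n => f) i)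
        (fun i => by
          induction i using Fin.cases with
          | zero => exact pullback.condition
          | succ i =>
            simp only [Fin.cases_succ, Category.assoc]
            rw [WidePullback.π_arrow (fun _ : Fin n => f) i])
    haveI : IsIso a := by
      refine ⟨a', ?_, ?_⟩
      · refine WidePullback.hom_ext _ _ _ (fun i => ?_) ?_
        · induction i using Fin.cases with
          | zero => simp [a, a']
          | succ i => simp [a, a', rest]
        · simp [a, a', hr, b, rest]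
      · refine pullback.hom_ext ?_ ?_
        · simp [a, a']
        · refine WidePullback.hom_ext _ _ _ (fun i => ?_) ?_
          · simp [a, a', rest]
          · simp [a, a', rest, b]
    rw [← hr, show rest = a ≫ pullback.snd f b from (pullback.lift_snd _ _ _).symm, Category.assoc]
    exact P.comp_mem _ _ (P.of_isIso a) (P.comp_mem _ _ (P.pullback_snd f b hf) ih)

variable {C S Y : Scheme.{u}} [IsLocallyNoetherian S] (f : C ⟶ S) [SmoothOfRelativeDimension 1 f]
  {n : ℕ} {q : fibPow f n ⟶ Y} {g : Y ⟶ S}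

theorem exists_local (hAF : IsAF f) (hn : 0 < n) (hq : IsSymProd f n q g) (y : Y) :
    ∃ (Cc : CommRingCat.{u}) (j : Spec Cc ⟶ Y) (_ : IsOpenImmersion j),
      y ∈ Set.range j ∧ Smooth (j ≫ g) ∧ IsFinite (pullback.snd q j) ∧ Flat (pullback.snd q j) ∧
        LocallyOfFinitePresentation (pullback.snd q j) ∧ ∀ t, (pullback.snd q j).finrank t = n.factorial := by
  haveI := SmoothOfRelativeDimension.smooth 1 f
  obtain ⟨V, hV, hyV, -⟩ := exists_isAffineOpen_mem_and_subset (x := g y) (U := ⊤) trivial
  obtain ⟨U, hU, hUV, hW, W', hyW, hW', hpre⟩ := exists_chart f hAF hn hq y hV hyV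
  have hle := le_preimage_of_chart f hq hn hUV hpre
  haveI := hq.isQuot.affine
  obtain ⟨θ, hθ, hθb⟩ := exists_tensorEquiv f hUV hn hU hV
  let R := Γ(S, V)
  let A := Γ(C, U)
  let B := Γ(fibPow f n, pow f n U)
  haveI : IsNoetherianRing R := IsLocallyNoetherian.component_noetherian ⟨V, hV⟩
  letI algA : Algebra R A := (f.appLE V U hUV).hom.toAlgebra
  letI algB : Algebra R B := ((WidePullback.base (fun _ : Fin n => f)).appLE V (pow f n U)
    (pow_le_base f hUV hn)).hom.toAlgebra
  letI algC : Algebra R Γ(Y, W') := (g.appLE V W' hle).hom.toAlgebra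
  letI algCB : Algebra Γ(Y, W') B := (q.appLE W' (pow f n U) hpre.ge).hom.toAlgebra
  haveI : IsScalarTower R Γ(Y, W') B := IsScalarTower.of_algebraMap_eq' (by
    have hb : g.appLE V W' hle ≫ q.appLE W' (pow f n U) hpre.ge =
        (WidePullback.base (fun _ : Fin n => f)).appLE V (pow f n U) (pow_le_base f hUV hn) := by
      rw [Scheme.Hom.appLE_comp_appLE]
      exact SGA1Q.appLE_congr_hom hq.over _ _
    exact (congrArg CommRingCat.Hom.hom hb).symm)
  haveI hsmA : Algebra.Smooth R A := f.smooth_appLE hV hU hUV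
  have hrank : ∀ p, Module.rankAtStalk (R := A) Ω[A⁄R] p = 1 :=
    rankAtStalk_kaehler (HasRingHomProperty.appLE (@SmoothOfRelativeDimension 1) f inferInstance ⟨V, hV⟩ ⟨U, hU⟩ hUV)
  let θA : (⨂[R] _ : Fin n, A) ≃ₐ[R] B := AlgEquiv.ofRingEquiv (f := θ) hθb
  let ι : Fin n → A →ₐ[R] B := fun i =>
    θA.toAlgHom.comp (PiTensorProduct.singleAlgHom (R := R) (A := fun _ : Fin n => A) i)
  have hιapp : ∀ i a, ι i a = ((WidePullback.π (fun _ : Fin n => f) i).appLE U (pow f n U) (pow_le_π f i)).hom a :=
    fun i a => hθ i a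
  have hι : SymPowAlg.IsPow ι := by
    intro E _ _ fE
    obtain ⟨h, hh, huniq⟩ := SymPowAlg.isPow_piTensor (R := R) (A := A) E fE
    refine ⟨h.comp θA.symm.toAlgHom, fun i => AlgHom.ext fun a => ?_, fun k hk => AlgHom.ext fun b => ?_⟩
    · show h (θA.symm (θA _)) = fE i a
      rw [θA.symm_apply_apply]
      exact AlgHom.congr_fun (hh i) a
    · obtain ⟨t, rfl⟩ := θA.surjective b
      show k (θA t) = h (θA.symm (θA t))
      rw [θA.symm_apply_apply]
      exact AlgHom.congr_fun (huniq (k.comp θA.toAlgHom) hk) t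
  have hperm : ∀ (σ : Equiv.Perm (Fin n)) (b : B), hι.perm σ b =
      ((permHom f n σ⁻¹).appLE (pow f n U) (pow f n U) (permHom_preimage_pow f n U σ⁻¹).ge).hom b := by
    intro σ b
    let P : B →ₐ[R] B :=
      { ((permHom f n σ⁻¹).appLE (pow f n U) (pow f n U) (permHom_preimage_pow f n U σ⁻¹).ge).hom with
        commutes' := fun r => by
          have hpb : (WidePullback.base (fun _ : Fin n => f)).appLE V (pow f n U) (pow_le_base f hUV hn) ≫
              (permHom f n σ⁻¹).appLE (pow f n U) (pow f n U) (permHom_preimage_pow f n U σ⁻¹).ge =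
              (WidePullback.base (fun _ : Fin n => f)).appLE V (pow f n U) (pow_le_base f hUV hn) := by
            rw [Scheme.Hom.appLE_comp_appLE]
            exact SGA1Q.appLE_congr_hom (permHom_base f n σ⁻¹) _ _
          exact congr(($hpb).hom r) }
    refine AlgHom.congr_fun (φ₂ := P) (hι.hom_ext fun i => AlgHom.ext fun a => ?_) b
    have hpp : (WidePullback.π (fun _ : Fin n => f) i).appLE U (pow f n U) (pow_le_π f i) ≫
        (permHom f n σ⁻¹).appLE (pow f n U) (pow f n U) (permHom_preimage_pow f n U σ⁻¹).ge =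
        (WidePullback.π (fun _ : Fin n => f) (σ i)).appLE U (pow f n U) (pow_le_π f (σ i)) := by
      rw [Scheme.Hom.appLE_comp_appLE]
      exact SGA1Q.appLE_congr_hom (permHom_π f n σ⁻¹ i) _ _
    show hι.perm σ (ι i a) = P (ι i a)
    rw [hι.perm_ι, hιapp, hιapp]
    exact congr(($hpp).hom a).symm
  have hinj : Function.Injective (algebraMap Γ(Y, W') B) := by
    have h : algebraMap Γ(Y, W') B =
        (((fibPow f n).presheaf.map (eqToHom hpre.symm).op).hom).comp (q.app W').hom := rfl
    rw [h]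
    exact (ConcreteCategory.bijective_of_isIso ((fibPow f n).presheaf.map (eqToHom hpre.symm).op)).1.comp
      (hq.isQuot.injective W')
  have hinv : ∀ b : B, b ∈ Set.range (algebraMap Γ(Y, W') B) ↔ ∀ σ, hι.perm σ b = b := by
    intro b
    refine (SGA1Q.range_appLE_iff hq.isQuot W' _ hpre.symm b).trans ⟨fun h σ => ?_, fun h σ hσ => ?_⟩
    · rw [hperm]
      exact h ⟨σ⁻¹⟩ (permHom_preimage_pow f n U σ⁻¹).ge
    · have h1 := h σ.down⁻¹
      rw [hperm] at h1
      refine Eq.trans ?_ h1
      exact congr(($(SGA1Q.appLE_congr_hom (show (permActU f n σ).hom = permHom f n σ.down⁻¹⁻¹ by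
        rw [inv_inv]; rfl) _ _)).hom b)
  obtain ⟨hfin, c, hc, hsm, hflat, hrk⟩ := SymGeneric.main hrank hι hinj hinv (hW'.primeIdealOf ⟨y, hyW⟩).asIdeal
  let Cc := Localization.Away c
  let loc : Γ(Y, W') ⟶ CommRingCat.of Cc := CommRingCat.ofHom (algebraMap Γ(Y, W') Cc)
  let j : Spec (CommRingCat.of Cc) ⟶ Y := Spec.map loc ≫ hW'.fromSpec
  haveI : IsOpenImmersion (Spec.map loc) := IsOpenImmersion.of_isLocalization c
  haveI : IsOpenImmersion j := inferInstanceAs (IsOpenImmersion (Spec.map loc ≫ hW'.fromSpec))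
  refine ⟨CommRingCat.of Cc, j, inferInstance, ?_, ?_, ?_⟩
  · obtain ⟨z, hz⟩ : (hW'.primeIdealOf ⟨y, hyW⟩) ∈ Set.range (PrimeSpectrum.comap (algebraMap Γ(Y, W') Cc)) := by
      rw [PrimeSpectrum.localization_away_comap_range Cc c]
      exact hc
    exact ⟨z, (congrArg hW'.fromSpec hz).trans (hW'.fromSpec_primeIdealOf ⟨y, hyW⟩)⟩
  · have : j ≫ g = Spec.map (CommRingCat.ofHom (algebraMap R Cc)) ≫ hV.fromSpec := by
      rw [Category.assoc, ← IsAffineOpen.SpecMap_appLE_fromSpec g hV hW' hle, ← Spec.map_comp_assoc]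
      congr 2
    rw [this]
    haveI : Smooth (Spec.map (CommRingCat.ofHom (algebraMap R Cc))) :=
      (HasRingHomProperty.Spec_iff (P := @Smooth)).2 (RingHom.smooth_algebraMap.2 hsm)
    infer_instance
  · let Bq := Γ(fibPow f n, q ⁻¹ᵁ W')
    letI : Algebra Γ(Y, W') Bq := (q.app W').hom.toAlgebra
    let eB : B ≃ₐ[Γ(Y, W')] Bq := AlgEquiv.ofRingEquiv
      (f := (asIso ((fibPow f n).presheaf.map (eqToHom hpre).op)).commRingCatIsoToRingEquiv) fun z => by
      show ((q.appLE W' (pow f n U) hpre.ge) ≫ (fibPow f n).presheaf.map (eqToHom hpre).op).hom z = (q.app W').hom z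
      rw [Scheme.Hom.appLE_map, ← Scheme.Hom.app_eq_appLE]
    let eM : Cc ⊗[Γ(Y, W')] B ≃ₐ[Cc] Cc ⊗[Γ(Y, W')] Bq :=
      Algebra.TensorProduct.congr AlgEquiv.refl eB
    haveI : Module.Finite Γ(Y, W') Bq := Module.Finite.equiv eB.toLinearEquiv
    haveI : Module.Flat Cc (Cc ⊗[Γ(Y, W')] Bq) := Module.Flat.of_linearEquiv eM.symm.toLinearEquiv
    have H : IsPullback (pullbackSpecIso Γ(Y, W') Bq Cc).inv
        (pullbackSpecIso Γ(Y, W') Bq Cc).inv (𝟙 _) (𝟙 _) := IsPullback.of_horiz_isIso ⟨by simp⟩
    have hsq := IsPullback.of_hasPullback (Spec.map (CommRingCat.ofHom (algebraMap Γ(Y, W') Bq))) (Spec.map loc)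
    have hbig := hsq.paste_horiz (CoverPush.isPullback_fromSpec q hW').flip
    let e : pullback q j ≅ Spec (CommRingCat.of (Bq ⊗[Γ(Y, W')] Cc)) :=
      hbig.isoPullback.symm ≪≫ pullbackSpecIso Γ(Y, W') Bq Cc
    let e' : Spec (CommRingCat.of (Bq ⊗[Γ(Y, W')] Cc)) ≅ Spec (CommRingCat.of (Cc ⊗[Γ(Y, W')] Bq)) :=
      Scheme.Spec.mapIso (RingEquiv.toCommRingCatIso
        (Algebra.TensorProduct.comm Γ(Y, W') Cc Bq).toRingEquiv).op
    have hfac : (e ≪≫ e').hom ≫ Spec.map (CommRingCat.ofHom (algebraMap Cc (Cc ⊗[Γ(Y, W')] Bq))) = pullback.snd q j := by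
      rw [← cancel_epi hbig.isoPullback.hom, IsPullback.isoPullback_hom_snd]
      rw [← cancel_epi (pullbackSpecIso Γ(Y, W') Bq Cc).inv, pullbackSpecIso_inv_snd]
      simp only [e, e', Iso.trans_hom, Iso.symm_hom, Category.assoc, Iso.hom_inv_id_assoc, Iso.inv_hom_id_assoc,
        Functor.mapIso_hom, Iso.op_hom, Scheme.Spec_map, Quiver.Hom.unop_op, ← Spec.map_comp]
      congr 1
    let m := Spec.map (CommRingCat.ofHom (algebraMap Cc (Cc ⊗[Γ(Y, W')] Bq)))
    haveI : IsFinite m := (IsFinite.SpecMap_iff _).2 (RingHom.finite_algebraMap.2 inferInstance)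
    haveI : Flat m := Flat.SpecMap_iff.2 (RingHom.flat_algebraMap_iff.2 inferInstance)
    haveI : Algebra.FiniteType R Γ(Y, W') := by
      haveI : LocallyOfFiniteType (WidePullback.base (fun _ : Fin n => f)) :=
        base_property @LocallyOfFiniteType f inferInstance n
      haveI := SGA1Q.locallyOfFiniteType_of_isQuot hq.isQuot hq.over inferInstance
      exact g.finiteType_appLE hV hW' hle
    haveI : IsNoetherianRing Γ(Y, W') := Algebra.FiniteType.isNoetherianRing R _
    haveI : IsNoetherianRing Cc := IsLocalization.isNoetherianRing (Submonoid.powers c) _ inferInstance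
    haveI : LocallyOfFinitePresentation m := (HasRingHomProperty.Spec_iff (P := @LocallyOfFinitePresentation)).2
      (RingHom.finitePresentation_algebraMap.2 (Algebra.FinitePresentation.of_finiteType.1 inferInstance))
    rw [← hfac]
    refine ⟨inferInstance, inferInstance, inferInstance, fun t => ?_⟩
    rw [Scheme.Hom.finrank_comp_left_of_isIso, Scheme.Hom.finrank_SpecMap_algebraMap,
      ← Module.rankAtStalk_eq_of_equiv eM.toLinearEquiv]
    exact hrk t

omit [IsLocallyNoetherian S] [SmoothOfRelativeDimension 1 f] in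
theorem isIso_of_zero {q : fibPow f 0 ⟶ Y} (hq : IsSymProd f 0 q g) : IsIso q ∧ IsIso g := by
  have htriv : ∀ σ : ULift.{u} (Equiv.Perm (Fin 0)), (permActU f 0 σ).hom = 𝟙 _ := fun σ => by
    rw [Subsingleton.elim σ 1, map_one]; rfl
  obtain ⟨r, hr, -⟩ := SGA1Q.desc_existsUnique_isQuot hq.isQuot (𝟙 _) (fun σ => by
    rw [htriv, Category.id_comp])
  have hrq : r ≫ q = 𝟙 Y := by
    obtain ⟨w, -, hu⟩ := SGA1Q.desc_existsUnique_isQuot hq.isQuot q hq.isQuot.inv
    rw [hu (r ≫ q) (by simp [reassoc_of% hr]), hu (𝟙 Y) (Category.comp_id q)]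
  haveI : IsIso q := ⟨r, hr, hrq⟩
  let e : S ⟶ fibPow f 0 := WidePullback.lift (𝟙 S) (fun i => i.elim0) (fun i => i.elim0)
  haveI : IsIso (WidePullback.base (fun _ : Fin 0 => f)) := ⟨e,
    WidePullback.hom_ext _ _ _ (fun i => i.elim0) (by simp [e]), by simp [e]⟩
  refine ⟨inferInstance, ?_⟩
  haveI : IsIso (q ≫ g) := by rw [hq.over]; infer_instance
  exact IsIso.of_isIso_comp_left q g

theorem smooth_symProd (hAF : IsAF f) (hq : IsSymProd f n q g) : Smooth g := by
  rcases Nat.eq_zero_or_pos n with rfl | hn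
  · haveI := (isIso_of_zero f hq).2
    infer_instance
  choose Cc j hj hy hs _ using fun y => exists_local f hAF hn hq y
  let 𝒱 : Y.OpenCover := Scheme.Cover.mkOfCovers Y (fun y => Spec (Cc y)) j
    (fun y => ⟨y, (hy y).choose, (hy y).choose_spec⟩) hj
  exact (IsZariskiLocalAtSource.iff_of_openCover (P := @Smooth) 𝒱).2 hs

theorem finLocFreeOfDeg_symProd (hAF : IsAF f) (hq : IsSymProd f n q g) :
    Mor2.IsFinLocFreeOfDeg n.factorial q := by
  rcases Nat.eq_zero_or_pos n with rfl | hn
  · haveI := (isIso_of_zero f hq).1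
    exact ⟨⟨inferInstance, inferInstance, inferInstance⟩, fun y => by
      rw [Scheme.Hom.finrank_eq_one_of_isIso]; rfl⟩
  choose Cc j hj hy hs hfi hfl hfp hrk using fun y => exists_local f hAF hn hq y
  let 𝒱 : Y.OpenCover := Scheme.Cover.mkOfCovers Y (fun y => Spec (Cc y)) j
    (fun y => ⟨y, (hy y).choose, (hy y).choose_spec⟩) hj
  haveI : IsFinite q := (IsZariskiLocalAtTarget.iff_of_openCover (P := @IsFinite) 𝒱).2 hfi
  haveI : Flat q := (IsZariskiLocalAtTarget.iff_of_openCover (P := @Flat) 𝒱).2 hfl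
  refine ⟨⟨inferInstance, inferInstance,
    (IsZariskiLocalAtTarget.iff_of_openCover (P := @LocallyOfFinitePresentation) 𝒱).2 hfp⟩, fun y => ?_⟩
  rw [← (hy y).choose_spec, ← Scheme.Hom.finrank_pullback_snd]
  exact hrk y _

theorem isProper_and_smooth [IsProper f] (hAF : IsAF f) (hq : IsSymProd f n q g) : IsProper g ∧ Smooth g := by
  haveI := smooth_symProd f hAF hq
  haveI hb : IsProper (WidePullback.base (fun _ : Fin n => f)) := base_property @IsProper f inferInstance n
  haveI : IsSeparated g := (SGA1Q.isSeparated_iff_of_isQuot hq.isQuot hq.over).1 inferInstance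
  haveI : Surjective q := ⟨SGA1Q.surjective hq.isQuot⟩
  haveI : IsProper (q ≫ g) := hq.over.symm ▸ hb
  haveI : UniversallyClosed g := UniversallyClosed.of_comp_surjective q g
  exact ⟨{}, inferInstance⟩

end Groth.Agent.H23.SymCurve
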