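import Groth.Agent.H23.SymBasis
import Mathlib.RingTheory.Localization.Finiteness
import Mathlib.Algebra.Module.LocalizedModule.Basic
import Mathlib.RingTheory.Etale.Descent
import Mathlib.RingTheory.Etale.Locus
import Mathlib.RingTheory.Spectrum.Prime.Topology
import Mathlib.RingTheory.Spectrum.Prime.Module
import Mathlib.RingTheory.MvPolynomial.Symmetric.FundamentalTheorem
import Mathlib.RingTheory.Adjoin.Tower
import Mathlib.LinearAlgebra.Matrix.Charpoly.LinearMap
import Mathlib.RingTheory.Smooth.Basic
import Mathlib.RingTheory.Flat.TorsionFree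
import Mathlib.Algebra.Algebra.Epi
import Mathlib.RingTheory.Localization.Away.Basic

/-!
Invariants of a symmetric power near a point where a coordinate separates and is étale.
-/

set_option autoImplicit false
set_option backward.isDefEq.respectTransparency false
set_option linter.style.haveILetI false
set_option maxHeartbeats 1000000

universe u

open scoped TensorProduct
open Polynomial

namespace Groth.Agent.H23.SymEtaleCore

/-- The polynomials symmetric in the variables. -/
noncomputable abbrev PSym (R : Type u) [CommRing R] (n : ℕ) : Subalgebra R (MvPolynomial (Fin n) R) :=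
  MvPolynomial.symmetricSubalgebra (Fin n) R

theorem X_sub_X_mem_nonZeroDivisors (R : Type u) [CommRing R] {n : ℕ} {i j : Fin n} (hij : i ≠ j) :
    (MvPolynomial.X i - MvPolynomial.X j : MvPolynomial (Fin n) R) ∈ nonZeroDivisors _ := by
  classical
  refine mem_nonZeroDivisors_iff_right.2 fun z hz => ?_
  let φ : MvPolynomial (Fin n) R →ₐ[R] MvPolynomial (Fin n) R :=
    MvPolynomial.aeval (Function.update MvPolynomial.X i (MvPolynomial.X i + MvPolynomial.X j))
  let ψ : MvPolynomial (Fin n) R →ₐ[R] MvPolynomial (Fin n) R :=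
    MvPolynomial.aeval (Function.update MvPolynomial.X i (MvPolynomial.X i - MvPolynomial.X j))
  have hψφ : ψ.comp φ = AlgHom.id R _ := MvPolynomial.algHom_ext fun k => by
    rcases eq_or_ne k i with rfl | hk
    · simp [φ, ψ, Function.update_of_ne hij.symm]
    · simp [φ, ψ, Function.update_of_ne hk]
  have hφ : φ (MvPolynomial.X i - MvPolynomial.X j) = MvPolynomial.X i := by
    simp [φ, Function.update_of_ne hij.symm]
  have h1 : φ z * MvPolynomial.X i = 0 := by rw [← hφ, ← map_mul, hz, map_zero]
  have h2 : φ z = 0 := MvPolynomial.ext _ _ fun d => by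
    have := congrArg (MvPolynomial.coeff (d + Finsupp.single i 1)) h1
    rwa [MvPolynomial.coeff_mul_X, MvPolynomial.coeff_zero] at this
  have h3 := AlgHom.congr_fun hψφ z
  rw [AlgHom.comp_apply, h2, map_zero] at h3
  exact h3.symm

theorem exists_basis_symm (R : Type u) [CommRing R] (n : ℕ) :
    ∃ b : Module.Basis (SymBasis.Idx n) (PSym R n) (MvPolynomial (Fin n) R),
      ∀ a, b a = SymBasis.mon MvPolynomial.X a := by
  classical
  let U : (MvPolynomial (Fin n) R)[X] := ∏ i, (Polynomial.X - Polynomial.C (MvPolynomial.X i))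
  have hU : U ∈ Polynomial.lifts (algebraMap (PSym R n) (MvPolynomial (Fin n) R)) := by
    refine (Polynomial.lifts_iff_coeff_lifts _).2 fun k => ?_
    refine ⟨⟨U.coeff k, fun g => ?_⟩, rfl⟩
    have h1 := congrArg (fun q => Polynomial.coeff q k)
      (show U.map (MvPolynomial.rename g).toRingHom = U by
        rw [Polynomial.map_prod]
        simp only [Polynomial.map_sub, Polynomial.map_X, Polynomial.map_C, AlgHom.toRingHom_eq_coe,
          RingHom.coe_coe, MvPolynomial.rename_X]
        exact Fintype.prod_equiv g _ _ fun _ => rfl)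
    simpa [Polynomial.coeff_map] using h1
  obtain ⟨p, hp⟩ := (Polynomial.mem_lifts _).1 hU
  refine SymBasis.exists_basis MvPolynomial.X Subtype.val_injective p hp (fun i j hij => ?_) (fun g => ?_) ?_
  · exact X_sub_X_mem_nonZeroDivisors R hij
  · exact ⟨{ (MvPolynomial.rename g : MvPolynomial (Fin n) R →ₐ[R] MvPolynomial (Fin n) R).toRingHom with
      commutes' := fun c => c.2 g }, fun i => MvPolynomial.rename_X _ _⟩
  · refine eq_top_iff.2 fun z hz => ?_
    clear hz
    induction z using MvPolynomial.induction_on with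
    | C r => exact Subalgebra.algebraMap_mem _ (algebraMap R (PSym R n) r)
    | add a b ha hb => exact add_mem ha hb
    | mul_X a i ha => exact mul_mem ha (Algebra.subset_adjoin ⟨i, rfl⟩)

variable {R C B : Type u} [CommRing R] [CommRing C] [CommRing B] [Algebra R C] [Algebra C B] [Algebra R B]
  [IsScalarTower R C B] {n : ℕ} [Algebra (MvPolynomial (Fin n) R) B]
  [IsScalarTower R (MvPolynomial (Fin n) R) B]

/-- The images of the variables. -/
noncomputable abbrev pts (R B : Type u) [CommRing R] [CommRing B] (n : ℕ) [Algebra (MvPolynomial (Fin n) R) B] :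
    Fin n → B := fun i => algebraMap (MvPolynomial (Fin n) R) B (MvPolynomial.X i)

theorem map_mem_adjoin (w : MvPolynomial (Fin n) R) :
    algebraMap (MvPolynomial (Fin n) R) B w ∈ Algebra.adjoin C (Set.range (pts R B n)) := by
  induction w using MvPolynomial.induction_on with
  | C r =>
    rw [← MvPolynomial.algebraMap_eq, ← IsScalarTower.algebraMap_apply, IsScalarTower.algebraMap_apply R C B]
    exact Subalgebra.algebraMap_mem _ _
  | add a b ha hb => rw [map_add]; exact add_mem ha hb
  | mul_X a i ha => rw [map_mul]; exact mul_mem ha (Algebra.subset_adjoin ⟨i, rfl⟩)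

variable [IsNoetherianRing R] [Algebra.FiniteType R B] [Module.Finite C B]
  (y : Ideal C) [y.IsPrime]

theorem exists_killer
    (het : ∀ (P : Ideal B) [P.IsPrime], P.comap (algebraMap C B) = y →
      Algebra.IsEtaleAt (MvPolynomial (Fin n) R) P)
    (hsep : ∀ (K : Type u) [Field K] (z z' : B →+* K), z.comp (algebraMap C B) = z'.comp (algebraMap C B) →
      RingHom.ker (z.comp (algebraMap C B)) = y → (∀ i, z (pts R B n i) = z' (pts R B n i)) → z = z') :
    ∃ c : C, c ∉ y ∧
      ↑(PrimeSpectrum.basicOpen (algebraMap C B c)) ⊆ Algebra.etaleLocus (MvPolynomial (Fin n) R) B ∧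
      ∃ k : ℕ, ∀ b : B, ((algebraMap C B c ^ k) ⊗ₜ[Algebra.adjoin C (Set.range (pts R B n))] (1 : B)) *
        ((1 : B) ⊗ₜ b - b ⊗ₜ (1 : B)) = 0 := by
  classical
  set S := Algebra.adjoin C (Set.range (pts R B n)) with hS
  haveI : Algebra.FiniteType (MvPolynomial (Fin n) R) B :=
    Algebra.FiniteType.of_restrictScalars_finiteType R _ B
  haveI : Algebra.FinitePresentation (MvPolynomial (Fin n) R) B :=
    Algebra.FinitePresentation.of_finiteType.1 inferInstance
  haveI : Module.Finite S B := Module.Finite.of_restrictScalars_finite C S B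
  haveI : Module.Finite C (B ⊗[S] B) := Module.Finite.trans B (B ⊗[S] B)
  letI : Algebra (MvPolynomial (Fin n) R) S :=
    ((algebraMap (MvPolynomial (Fin n) R) B).codRestrict S map_mem_adjoin).toAlgebra
  haveI : IsScalarTower (MvPolynomial (Fin n) R) S B := IsScalarTower.of_algebraMap_eq fun _ => rfl
  let T := B ⊗[S] B
  letI : CommRing T := inferInstanceAs (CommRing (B ⊗[S] B))
  let J : Ideal T := KaehlerDifferential.ideal S B
  have hJfg : J.FG := KaehlerDifferential.ideal_fg S B
  haveI : Module.Finite T J := Module.Finite.iff_fg.2 hJfg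
  have hyet : y ∉ PrimeSpectrum.asIdeal '' (PrimeSpectrum.comap (algebraMap C B) ''
      (Algebra.etaleLocus (MvPolynomial (Fin n) R) B)ᶜ) := by
    rintro ⟨_, ⟨P, hP, rfl⟩, hPy⟩
    exact hP (het P.asIdeal hPy)
  have hyJ : y ∉ PrimeSpectrum.asIdeal '' (PrimeSpectrum.comap (algebraMap C T) '' Module.support T J) := by
    rintro ⟨_, ⟨Q, hQ, rfl⟩, hQy⟩
    haveI := Q.2
    let π : T →+* FractionRing (T ⧸ Q.asIdeal) :=
      (algebraMap (T ⧸ Q.asIdeal) (FractionRing (T ⧸ Q.asIdeal))).comp (Ideal.Quotient.mk Q.asIdeal : T →+* T ⧸ Q.asIdeal)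
    have hker : ∀ t, π t = 0 ↔ t ∈ Q.asIdeal := fun t => by
      show algebraMap (T ⧸ Q.asIdeal) (FractionRing (T ⧸ Q.asIdeal)) (Ideal.Quotient.mk _ t) = 0 ↔ _
      rw [map_eq_zero_iff _ (IsFractionRing.injective _ _), Ideal.Quotient.eq_zero_iff_mem]
    let z : B →+* FractionRing (T ⧸ Q.asIdeal) := π.comp Algebra.TensorProduct.includeLeftRingHom
    let z' : B →+* FractionRing (T ⧸ Q.asIdeal) :=
      π.comp (Algebra.TensorProduct.includeRight : B →ₐ[S] T).toRingHom
    have hSb : ∀ s : S, ((s : B) ⊗ₜ[S] (1 : B)) = (1 : B) ⊗ₜ (s : B) := fun s => by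
      rw [← mul_one (s : B), ← smul_eq_mul, ← Subalgebra.smul_def, TensorProduct.smul_tmul]
    have hzz' : z = z' := by
      refine hsep _ z z' ?_ (Ideal.ext fun c => ?_) fun i => ?_
      · ext c
        exact congrArg π (hSb ⟨algebraMap C B c, Subalgebra.algebraMap_mem _ c⟩)
      · rw [RingHom.mem_ker, ← hQy]
        exact hker (algebraMap C B c ⊗ₜ (1 : B))
      · exact congrArg π (hSb ⟨_, Algebra.subset_adjoin ⟨i, rfl⟩⟩)
    have hJQ : J ≤ Q.asIdeal := by
      rw [show J = _ from (KaehlerDifferential.span_range_eq_ideal S B).symm, Ideal.span_le]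
      rintro _ ⟨b, rfl⟩
      refine (hker _).1 ?_
      rw [map_sub, sub_eq_zero]
      exact (RingHom.congr_fun hzz' b).symm
    let P : Ideal B := Q.asIdeal.comap Algebra.TensorProduct.includeLeftRingHom
    have hPy : P.comap (algebraMap C B) = y := by rw [← hQy]; rfl
    have hPet : (⟨P, Ideal.IsPrime.comap _⟩ : PrimeSpectrum B) ∈ Algebra.etaleLocus (MvPolynomial (Fin n) R) B :=
      het P hPy
    rw [Algebra.etaleLocus_eq_compl_support] at hPet
    have hns := hPet.1
    rw [Set.mem_compl_iff, Module.mem_support_iff_of_finite, SetLike.not_le_iff_exists] at hns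
    obtain ⟨s, hs, hsP⟩ := hns
    let s' : T := s ⊗ₜ (1 : B)
    have hmul : ∀ j : J, s' • (j : T) ∈ J ^ 2 := by
      intro j
      refine (Ideal.toCotangent_eq_zero J (s' • j)).1 ?_
      rw [map_smul]
      obtain ⟨ω, hω⟩ := KaehlerDifferential.map_surjective (MvPolynomial (Fin n) R) S B (J.toCotangent j)
      show algebraMap B T s • J.toCotangent j = 0
      rw [algebraMap_smul, ← hω]
      refine ((KaehlerDifferential.map (MvPolynomial (Fin n) R) S B B).map_smul s ω).symm.trans ?_
      rw [Module.mem_annihilator.1 hs ω, map_zero]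
    obtain ⟨p, hpm, -, hpc, hpf⟩ :=
      LinearMap.exists_monic_and_natDegree_eq_and_coeff_mem_pow_and_aeval_eq_zero
        (R := T) (M := J) (algebraMap T (Module.End T J) s') J (by
        rintro _ ⟨j, rfl⟩
        rw [Submodule.mem_smul_top_iff, Ideal.smul_eq_mul, ← pow_two]
        exact hmul j)
    rw [Polynomial.aeval_algebraMap_apply] at hpf
    refine hsP ?_
    show s' ∈ Q.asIdeal
    have hev : p.eval s' ∈ Q.asIdeal := by
      rw [Module.mem_support_iff_of_finite] at hQ
      refine hQ (Module.mem_annihilator.2 fun j => ?_)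
      have := LinearMap.congr_fun hpf j
      rw [Module.algebraMap_end_apply, LinearMap.zero_apply] at this
      rwa [Polynomial.coe_aeval_eq_eval] at this
    refine Q.2.mem_of_pow_mem p.natDegree ?_
    rw [Polynomial.eval_eq_sum_range, Finset.sum_range_succ, hpm.coeff_natDegree, one_mul] at hev
    refine (Submodule.add_mem_iff_right _ (Submodule.sum_mem _ fun k hk => ?_)).1 hev
    exact Q.asIdeal.mul_mem_right _ (hJQ (Ideal.pow_le_self (by rw [Finset.mem_range] at hk; omega) (hpc k)))
  have hcl1 : IsClosed (PrimeSpectrum.comap (algebraMap C B) '' (Algebra.etaleLocus (MvPolynomial (Fin n) R) B)ᶜ) :=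
    PrimeSpectrum.isClosedMap_comap_of_isIntegral _ (algebraMap_isIntegral_iff.2 inferInstance) _
      Algebra.isOpen_etaleLocus.isClosed_compl
  have hcl2 : IsClosed (PrimeSpectrum.comap (algebraMap C T) '' Module.support T J) :=
    PrimeSpectrum.isClosedMap_comap_of_isIntegral _ (algebraMap_isIntegral_iff.2 inferInstance) _
      Module.isClosed_support
  have hy : (⟨y, inferInstance⟩ : PrimeSpectrum C) ∈
      ((PrimeSpectrum.comap (algebraMap C B) '' (Algebra.etaleLocus (MvPolynomial (Fin n) R) B)ᶜ) ∪
        (PrimeSpectrum.comap (algebraMap C T) '' Module.support T J))ᶜ := by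
    rintro (h | h)
    · exact hyet ⟨_, h, rfl⟩
    · exact hyJ ⟨_, h, rfl⟩
  obtain ⟨_, ⟨_, ⟨c, rfl⟩, rfl⟩, hyc, hcsub⟩ :=
    PrimeSpectrum.isBasis_basic_opens.exists_subset_of_mem_open hy (hcl1.union hcl2).isOpen_compl
  refine ⟨c, hyc, fun P hP => by_contra fun h => hcsub (show P.comap (algebraMap C B) ∈ PrimeSpectrum.basicOpen c from hP)
    (Or.inl ⟨P, h, rfl⟩), ?_⟩
  have hsupp : Module.support T J ⊆ PrimeSpectrum.zeroLocus ({algebraMap C T c} : Set T) := by
    intro Q hQ
    rw [PrimeSpectrum.mem_zeroLocus, Set.singleton_subset_iff]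
    exact by_contra fun h => hcsub (show Q.comap (algebraMap C T) ∈ PrimeSpectrum.basicOpen c from h)
      (Or.inr ⟨Q, hQ, rfl⟩)
  rw [Module.support_eq_zeroLocus, ← PrimeSpectrum.zeroLocus_span {algebraMap C T c},
    PrimeSpectrum.zeroLocus_subset_zeroLocus_iff, Ideal.span_singleton_le_iff_mem] at hsupp
  obtain ⟨k, hk⟩ := hsupp
  refine ⟨k, fun b => ?_⟩
  have h := congrArg Subtype.val (Module.mem_annihilator.1 hk
    ⟨_, KaehlerDifferential.one_smul_sub_smul_one_mem_ideal S b⟩)
  simp only [SetLike.val_smul, smul_eq_mul, ZeroMemClass.coe_zero] at h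
  rw [← h]
  congr 1
  rw [← map_pow, ← map_pow]
  exact (IsScalarTower.algebraMap_apply C B T _).symm

theorem sub_mem_nonZeroDivisors [Module.Flat (MvPolynomial (Fin n) R) B] {i j : Fin n}
    (h : (MvPolynomial.X i - MvPolynomial.X j : MvPolynomial (Fin n) R) ∈ nonZeroDivisors _) :
    pts R B n i - pts R B n j ∈ nonZeroDivisors B := by
  refine mem_nonZeroDivisors_iff_right.2 fun b hb => ?_
  have h2 := Module.Flat.isSMulRegular_of_isRegular (M := B) (isRegular_iff_mem_nonZeroDivisors.2 h)
  refine h2 ?_
  show (MvPolynomial.X i - MvPolynomial.X j : MvPolynomial (Fin n) R) • b =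
    (MvPolynomial.X i - MvPolynomial.X j : MvPolynomial (Fin n) R) • (0 : B)
  rw [smul_zero, Algebra.smul_def, map_sub, mul_comm]
  exact hb

/-- Near a separated étale point the invariants are smooth and the power is free of rank `n!`. -/
theorem main (hinj : Function.Injective (algebraMap C B))
    (p : C[X]) (hp : p.map (algebraMap C B) = ∏ i, (Polynomial.X - Polynomial.C (pts R B n i)))
    (hσ : ∀ g : Equiv.Perm (Fin n), ∃ σ : B →ₐ[C] B, ∀ i, σ (pts R B n i) = pts R B n (g i))
    (het : ∀ (P : Ideal B) [P.IsPrime], P.comap (algebraMap C B) = y →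
      Algebra.IsEtaleAt (MvPolynomial (Fin n) R) P)
    (hsep : ∀ (K : Type u) [Field K] (z z' : B →+* K), z.comp (algebraMap C B) = z'.comp (algebraMap C B) →
      RingHom.ker (z.comp (algebraMap C B)) = y → (∀ i, z (pts R B n i) = z' (pts R B n i)) → z = z') :
    ∃ c : C, c ∉ y ∧ Algebra.Smooth R (Localization.Away c) ∧
      Nonempty (Module.Basis (SymBasis.Idx n) (Localization.Away c) (LocalizedModule (Submonoid.powers c) B)) := by
  classical
  obtain ⟨c, hcy, hcet, k, hk⟩ := exists_killer y het hsep
  refine ⟨c, hcy, ?_⟩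
  let C' := Localization.Away c
  let B' := Localization.Away (algebraMap C B c)
  haveI hBloc : IsLocalization (Algebra.algebraMapSubmonoid B (Submonoid.powers c)) B' := by
    rw [Algebra.algebraMapSubmonoid_powers]
    infer_instance
  letI : Algebra C' B' := localizationAlgebra (Submonoid.powers c) B
  haveI : IsScalarTower C C' B' := IsScalarTower.of_algebraMap_eq' (by
    rw [RingHom.algebraMap_toAlgebra, IsLocalization.map_comp]
    exact IsScalarTower.algebraMap_eq C B B')
  haveI : IsScalarTower R C' B' := IsScalarTower.of_algebraMap_eq fun r => by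
    rw [IsScalarTower.algebraMap_apply R C C', ← IsScalarTower.algebraMap_apply C C' B',
      ← IsScalarTower.algebraMap_apply R C B']
  have hinj' : Function.Injective (algebraMap C' B') :=
    localizationAlgebra_injective _ _ hinj
  haveI : Module.Finite C' B' := Module.Finite.of_isLocalization C B (Submonoid.powers c)
  haveI : Algebra.Etale (MvPolynomial (Fin n) R) B' := by
    haveI : Algebra.FiniteType (MvPolynomial (Fin n) R) B :=
      Algebra.FiniteType.of_restrictScalars_finiteType R _ B
    haveI : Algebra.FinitePresentation (MvPolynomial (Fin n) R) B :=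
      Algebra.FinitePresentation.of_finiteType.1 inferInstance
    exact Algebra.basicOpen_subset_etaleLocus_iff_etale.1 hcet
  have hpts : ∀ i, pts R B' n i = algebraMap B B' (pts R B n i) := fun i =>
    IsScalarTower.algebraMap_apply (MvPolynomial (Fin n) R) B B' _
  let p' : C'[X] := p.map (algebraMap C C')
  have hp' : p'.map (algebraMap C' B') = ∏ i, (Polynomial.X - Polynomial.C (pts R B' n i)) := by
    rw [Polynomial.map_map, ← IsScalarTower.algebraMap_eq, IsScalarTower.algebraMap_eq C B B', ← Polynomial.map_map,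
      hp, Polynomial.map_prod]
    simp only [Polynomial.map_sub, Polynomial.map_X, Polynomial.map_C, hpts]
  have hx : ∀ i j, i ≠ j → pts R B' n i - pts R B' n j ∈ nonZeroDivisors B' := fun i j hij =>
    sub_mem_nonZeroDivisors (X_sub_X_mem_nonZeroDivisors R hij)
  have hσ' : ∀ g : Equiv.Perm (Fin n), ∃ σ : B' →ₐ[C'] B', ∀ i, σ (pts R B' n i) = pts R B' n (g i) := by
    intro g
    obtain ⟨σ, hσg⟩ := hσ g
    let f : B →ₐ[C] B' := (IsScalarTower.toAlgHom C B B').comp σ
    have hu : ∀ u : Submonoid.powers (algebraMap C B c), IsUnit (f u) := by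
      rintro ⟨_, m, rfl⟩
      show IsUnit (f (algebraMap C B c ^ m))
      rw [map_pow, f.commutes, IsScalarTower.algebraMap_apply C B B']
      exact (IsLocalization.Away.algebraMap_isUnit _).pow m
    let σ₀ : B' →ₐ[C] B' := IsLocalization.liftAlgHom hu
    refine ⟨{ σ₀.toRingHom with commutes' := fun z => ?_ }, fun i => ?_⟩
    · refine RingHom.congr_fun (f := σ₀.toRingHom.comp (algebraMap C' B')) (g := algebraMap C' B')
        (IsLocalization.ringHom_ext (Submonoid.powers c) (RingHom.ext fun a => ?_)) z
      show σ₀ (algebraMap C' B' (algebraMap C C' a)) = algebraMap C' B' (algebraMap C C' a)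
      rw [← IsScalarTower.algebraMap_apply, σ₀.commutes]
    · show σ₀ (pts R B' n i) = _
      rw [hpts, hpts]
      exact (IsLocalization.lift_eq _ _).trans (congrArg (algebraMap B B') (hσg i))
  have hgen : Algebra.adjoin C' (Set.range (pts R B' n)) = ⊤ := by
    set S := Algebra.adjoin C (Set.range (pts R B n)) with hS
    set S' := Algebra.adjoin C' (Set.range (pts R B' n)) with hS'
    have hmap : ∀ a ∈ S, algebraMap B B' a ∈ S' := by
      intro a ha
      induction ha using Algebra.adjoin_induction with
      | mem a ha =>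
        obtain ⟨i, rfl⟩ := ha
        exact hpts i ▸ Algebra.subset_adjoin ⟨i, rfl⟩
      | algebraMap a =>
        rw [← IsScalarTower.algebraMap_apply, IsScalarTower.algebraMap_apply C C' B']
        exact Subalgebra.algebraMap_mem _ _
      | add a b _ _ ha hb => rw [map_add]; exact add_mem ha hb
      | mul a b _ _ ha hb => rw [map_mul]; exact mul_mem ha hb
    haveI : Module.Finite S' B' := Module.Finite.of_restrictScalars_finite C' S' B'
    letI : Algebra S S' := (((algebraMap B B').comp S.val.toRingHom).codRestrict S' fun a => hmap a a.2).toAlgebra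
    letI : Algebra S B' := Algebra.compHom B' (algebraMap S B)
    haveI : IsScalarTower S B B' := IsScalarTower.of_algebraMap_eq' rfl
    haveI : IsScalarTower S S' B' := IsScalarTower.of_algebraMap_eq' rfl
    let q : B ⊗[S] B →ₐ[S] B' ⊗[S'] B' :=
      Algebra.TensorProduct.lift
        (((Algebra.TensorProduct.includeLeft : B' →ₐ[S'] B' ⊗[S'] B').restrictScalars S).comp
          (IsScalarTower.toAlgHom S B B'))
        (((Algebra.TensorProduct.includeRight : B' →ₐ[S'] B' ⊗[S'] B').restrictScalars S).comp
          (IsScalarTower.toAlgHom S B B'))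
        (fun _ _ => Commute.all _ _)
    have hone : ∀ b : B', b ⊗ₜ[S'] (1 : B') = (1 : B') ⊗ₜ b := by
      intro b
      obtain ⟨⟨a, ⟨_, m, rfl⟩⟩, hb⟩ := IsLocalization.surj (Submonoid.powers (algebraMap C B c)) b
      have hu : ∀ m : ℕ, IsUnit ((algebraMap B B' (algebraMap C B c ^ m)) ⊗ₜ[S'] (1 : B')) := fun m => by
        refine IsUnit.map (Algebra.TensorProduct.includeLeft : B' →ₐ[S'] B' ⊗[S'] B') ?_
        exact IsLocalization.map_units B' (⟨_, m, rfl⟩ : Submonoid.powers (algebraMap C B c))
      have ha : algebraMap B B' a ⊗ₜ[S'] (1 : B') = (1 : B') ⊗ₜ algebraMap B B' a := by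
        have h1 := congrArg q (hk a)
        simp only [map_mul, map_sub, map_zero, q, Algebra.TensorProduct.lift_tmul, map_one, one_mul, mul_one,
          AlgHom.comp_apply, IsScalarTower.coe_toAlgHom', AlgHom.restrictScalars_apply,
          Algebra.TensorProduct.includeLeft_apply, Algebra.TensorProduct.includeRight_apply] at h1
        exact (sub_eq_zero.1 ((hu k).mul_right_eq_zero.1 h1)).symm
      have hd : algebraMap B B' (algebraMap C B c ^ m) ⊗ₜ[S'] (1 : B') =
          (1 : B') ⊗ₜ algebraMap B B' (algebraMap C B c ^ m) := by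
        have hmem : algebraMap B B' (algebraMap C B c ^ m) ∈ S' := hmap _ (pow_mem (Subalgebra.algebraMap_mem _ _) m)
        have := TensorProduct.smul_tmul (R := S') (⟨_, hmem⟩ : S') (1 : B') (1 : B')
        simpa [Subalgebra.smul_def] using this
      refine (hu m).mul_left_inj.1 ?_
      conv_rhs => rw [hd]
      rw [Algebra.TensorProduct.tmul_mul_tmul, Algebra.TensorProduct.tmul_mul_tmul, one_mul]
      exact (congrArg (· ⊗ₜ[S'] (1 : B')) hb).trans (ha.trans (congrArg ((1 : B') ⊗ₜ[S'] ·) hb.symm))
    haveI : Algebra.IsEpi S' B' := (Algebra.isEpi_iff_forall_one_tmul_eq S' B').2 fun b => (hone b).symm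
    refine eq_top_iff.2 fun b _ => ?_
    obtain ⟨s, rfl⟩ := (Algebra.isEpi_iff_surjective_algebraMap_of_finite (R := S') (A := B')).1 inferInstance b
    exact s.2
  obtain ⟨b, hb⟩ := SymBasis.exists_basis (pts R B' n) hinj' p' hp' hx hσ' hgen
  have hinv : ∀ v : B', (∀ g : Equiv.Perm (Fin n), ∀ σ : B' →ₐ[C'] B',
      (∀ i, σ (pts R B' n i) = pts R B' n (g i)) → σ v = v) → v ∈ Set.range (algebraMap C' B') := by
    intro v hv
    let a₀ : SymBasis.Idx n := fun i => ⟨0, by omega⟩
    have hmon₀ : ∀ z : Fin n → B', SymBasis.mon z a₀ = 1 := fun z => by simp [SymBasis.mon, a₀]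
    have h0 := SymBasis.eq_zero_of_forall_perm (pts R B' n) hx
      (fun a => algebraMap C' B' (b.repr v a) - if a = a₀ then v else 0) fun g => by
      obtain ⟨σ, hσg⟩ := hσ' g
      have h1 := hv g σ hσg
      conv_lhs at h1 => rw [← b.sum_repr v, map_sum]
      simp only [sub_mul, Finset.sum_sub_distrib, ite_mul, zero_mul, Finset.sum_ite_eq', Finset.mem_univ, if_true,
        hmon₀, mul_one]
      rw [sub_eq_zero]
      refine Eq.trans (Finset.sum_congr rfl fun a _ => ?_) h1
      rw [map_smul, hb, Algebra.smul_def, SymBasis.mon, SymBasis.mon, map_prod]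
      simp only [map_pow, hσg]
    refine ⟨b.repr v a₀, ?_⟩
    simpa [sub_eq_zero] using congr_fun h0 a₀
  refine ⟨?_, ⟨?_⟩⟩
  · have hsym : ∀ f : PSym R n, algebraMap (MvPolynomial (Fin n) R) B' f ∈ Set.range (algebraMap C' B') := by
      intro f
      refine hinv _ fun g σ hσg => ?_
      have hcomp : (σ.restrictScalars R).comp (IsScalarTower.toAlgHom R (MvPolynomial (Fin n) R) B') =
          (IsScalarTower.toAlgHom R (MvPolynomial (Fin n) R) B').comp (MvPolynomial.rename g) :=
        MvPolynomial.algHom_ext fun i => by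
          simp only [AlgHom.comp_apply, IsScalarTower.coe_toAlgHom', AlgHom.restrictScalars_apply, MvPolynomial.rename_X]
          exact hσg i
      have h1 := AlgHom.congr_fun hcomp f
      simp only [AlgHom.comp_apply, IsScalarTower.coe_toAlgHom', AlgHom.restrictScalars_apply] at h1
      rw [h1, f.2 g]
    choose ψ₀ hψ₀ using hsym
    let ψ : PSym R n →ₐ[R] C' :=
      { toFun := ψ₀
        map_one' := hinj' (by simp [hψ₀])
        map_mul' := fun a b => hinj' (by simp [hψ₀])
        map_zero' := hinj' (by simp [hψ₀])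
        map_add' := fun a b => hinj' (by simp [hψ₀])
        commutes' := fun r => hinj' (by
          rw [hψ₀, ← IsScalarTower.algebraMap_apply R C' B',
            IsScalarTower.algebraMap_apply R (MvPolynomial (Fin n) R) B']
          rfl) }
    letI : Algebra (PSym R n) C' := ψ.toRingHom.toAlgebra
    haveI : IsScalarTower R (PSym R n) C' := IsScalarTower.of_algebraMap_eq fun r => (ψ.commutes r).symm
    letI : Algebra (PSym R n) B' := Algebra.compHom B' (algebraMap (PSym R n) (MvPolynomial (Fin n) R))
    haveI : IsScalarTower (PSym R n) (MvPolynomial (Fin n) R) B' := IsScalarTower.of_algebraMap_eq' rfl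
    haveI : IsScalarTower (PSym R n) C' B' := IsScalarTower.of_algebraMap_eq fun f => (hψ₀ f).symm
    obtain ⟨bP, hbP⟩ := exists_basis_symm R n
    haveI : Module.Free (PSym R n) (MvPolynomial (Fin n) R) := Module.Free.of_basis bP
    let Φ : MvPolynomial (Fin n) R ⊗[PSym R n] C' →ₐ[MvPolynomial (Fin n) R] B' :=
      Algebra.TensorProduct.lift (Algebra.ofId _ _) (IsScalarTower.toAlgHom (PSym R n) C' B')
        (fun _ _ => Commute.all _ _)
    let Φ' : C' ⊗[PSym R n] MvPolynomial (Fin n) R →ₗ[C'] B' :=
      (Algebra.TensorProduct.lift (Algebra.ofId C' B') (IsScalarTower.toAlgHom (PSym R n) (MvPolynomial (Fin n) R) B')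
        (fun _ _ => Commute.all _ _)).toLinearMap
    have hΦ' : Φ' = ((Algebra.TensorProduct.basis C' bP).equiv b (Equiv.refl _)).toLinearMap := by
      refine (Algebra.TensorProduct.basis C' bP).ext fun a => ?_
      rw [LinearEquiv.coe_coe, Module.Basis.equiv_apply, Equiv.refl_apply, Algebra.TensorProduct.basis_apply, hb, hbP]
      simp only [Φ', AlgHom.toLinearMap_apply, Algebra.TensorProduct.lift_tmul, map_one, one_mul,
        IsScalarTower.coe_toAlgHom', SymBasis.mon, map_prod, map_pow]
    have hbij : Function.Bijective Φ := by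
      have h2 : ⇑Φ = Φ' ∘ (TensorProduct.comm (PSym R n) _ _) := funext fun z => by
        induction z using TensorProduct.induction_on with
        | zero => rw [Function.comp_apply, LinearEquiv.map_zero, map_zero, LinearMap.map_zero]
        | tmul a b =>
          simp [Φ, Φ', Algebra.TensorProduct.lift_tmul, mul_comm]
        | add a b ha hb =>
          rw [Function.comp_apply, LinearEquiv.map_add, map_add, LinearMap.map_add, ha, hb]
          rfl
      rw [h2, hΦ']
      exact ((Algebra.TensorProduct.basis C' bP).equiv b (Equiv.refl _)).bijective.comp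
        (TensorProduct.comm (PSym R n) _ _).bijective
    haveI : Algebra.Etale (MvPolynomial (Fin n) R) (MvPolynomial (Fin n) R ⊗[PSym R n] C') :=
      Algebra.Etale.of_equiv (AlgEquiv.ofBijective Φ hbij).symm
    haveI : Module.FaithfullyFlat (PSym R n) (MvPolynomial (Fin n) R) := by
      rcases subsingleton_or_nontrivial R with h | h
      · haveI : Subsingleton (PSym R n) := ⟨fun a b => Subtype.ext (Subsingleton.elim _ _)⟩
        exact { submodule_ne_top := fun m hm => absurd (Subsingleton.elim m ⊤) hm.ne_top }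
      · infer_instance
    haveI : Algebra.Etale (PSym R n) C' :=
      Algebra.Etale.of_etale_tensorProduct_of_faithfullyFlat (MvPolynomial (Fin n) R)
    haveI : Algebra.Smooth R (PSym R n) := by
      haveI : Algebra.Smooth R (MvPolynomial (Fin n) R) := ⟨inferInstance, inferInstance⟩
      exact Algebra.Smooth.of_equiv (MvPolynomial.esymmAlgEquiv (σ := Fin n) R (Fintype.card_fin n))
    exact Algebra.Smooth.comp R (PSym R n) C'
  · haveI : IsLocalizedModule (Submonoid.powers c) (IsScalarTower.toAlgHom C B B').toLinearMap :=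
      isLocalizedModule_iff_isLocalization.2 hBloc
    let e : B' ≃ₗ[C] LocalizedModule (Submonoid.powers c) B :=
      (IsLocalizedModule.iso (Submonoid.powers c) (IsScalarTower.toAlgHom C B B').toLinearMap).symm
    exact b.map (e.extendScalarsOfIsLocalization (Submonoid.powers c) C')

end Groth.Agent.H23.SymEtaleCore
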