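import Groth.Agent.H23.SymPowAlg
import Groth.Agent.H23.SymEtaleCore
import Groth.Agent.SrcDescent.SmoothAlg2
import Mathlib.RingTheory.Kaehler.Polynomial
import Mathlib.RingTheory.Etale.Kaehler
import Mathlib.RingTheory.AlgebraicIndependent.AlgebraicClosure
import Mathlib.RingTheory.TensorProduct.MvPolynomial
import Mathlib.RingTheory.Spectrum.Prime.FreeLocus
import Mathlib.RingTheory.Finiteness.Nakayama
import Mathlib.RingTheory.LocalRing.Module

/-!
Invariants of tensor powers of smooth algebras of relative dimension one: the generic coordinate.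
-/

set_option autoImplicit false
set_option backward.isDefEq.respectTransparency false
set_option linter.style.haveILetI false
set_option maxHeartbeats 1000000

universe u

open scoped TensorProduct

namespace Groth.Agent.H23.SymGeneric

/-- A coordinate whose differential is a generator is étale. -/
theorem isEtaleAt_coordinate {R A : Type u} [CommRing R] [CommRing A] [Algebra R A] [Algebra.FormallySmooth R A]
    [Algebra.FiniteType R A] [Algebra (Polynomial R) A] [IsScalarTower R (Polynomial R) A]
    (hrank : ∀ p, Module.rankAtStalk (R := A) Ω[A⁄R] p = 1) (lam : Ω[A⁄R] →ₗ[A] A) (q : Ideal A) [q.IsPrime]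
    (hlam : lam (KaehlerDifferential.D R A (algebraMap (Polynomial R) A Polynomial.X)) ∉ q) :
    Algebra.IsEtaleAt (Polynomial R) q := by
  let L := Localization.AtPrime q
  haveI : Algebra.FormallyEtale A L := Algebra.FormallyEtale.of_isLocalization q.primeCompl
  haveI : Algebra.FormallySmooth R L := Algebra.FormallySmooth.comp R A L
  haveI : Algebra.EssFiniteType R L := Algebra.EssFiniteType.comp R A L
  let e := KaehlerDifferential.tensorKaehlerEquivOfFormallyEtale R A L
  let dt := KaehlerDifferential.D R L (algebraMap (Polynomial R) L Polynomial.X)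
  let mu : Ω[L⁄R] →ₗ[L] L :=
    (LinearMap.liftBaseChange L ((Algebra.linearMap A L).comp lam)).comp e.symm.toLinearMap
  have hmu : IsUnit (mu dt) := by
    have : mu dt = algebraMap A L (lam (KaehlerDifferential.D R A (algebraMap (Polynomial R) A Polynomial.X))) := by
      show LinearMap.liftBaseChange L ((Algebra.linearMap A L).comp lam) (e.symm dt) = _
      rw [show dt = KaehlerDifferential.D R L (algebraMap A L (algebraMap (Polynomial R) A Polynomial.X)) by
          rw [← IsScalarTower.algebraMap_apply (Polynomial R) A L],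
        KaehlerDifferential.tensorKaehlerEquivOfFormallyEtale_symm_D_algebraMap,
        LinearMap.liftBaseChange_tmul, one_smul]
      rfl
    rw [this]
    exact IsLocalization.map_units L (⟨_, hlam⟩ : q.primeCompl)
  haveI : Module.Free L Ω[L⁄R] := Module.free_of_flat_of_isLocalRing
  have hfr : Module.finrank L Ω[L⁄R] = 1 := by
    have h1 := congr_fun (Module.rankAtStalk_eq_finrank_of_free (R := L) (M := Ω[L⁄R])) ⟨IsLocalRing.maximalIdeal L, inferInstance⟩
    rw [← Module.rankAtStalk_eq_of_equiv e, Module.rankAtStalk_baseChange, hrank] at h1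
    exact h1.symm
  let b : Module.Basis (Fin 1) L Ω[L⁄R] := Module.finBasisOfFinrankEq L Ω[L⁄R] hfr
  have hdt : dt = b.repr dt 0 • b 0 := by
    conv_lhs => rw [← b.sum_repr dt, Fin.sum_univ_one]
  have hunit : IsUnit (b.repr dt 0) := by
    rw [hdt, map_smul, smul_eq_mul] at hmu
    exact isUnit_of_mul_isUnit_left hmu
  have hgen : ∀ w : Ω[L⁄R], ∃ c : L, c • dt = w := fun w => by
    refine ⟨b.repr w 0 * hunit.unit⁻¹.1, ?_⟩
    rw [mul_smul]
    conv_rhs => rw [← b.sum_repr w, Fin.sum_univ_one]
    congr 1
    refine ((congrArg (hunit.unit⁻¹.1 • ·) hdt).trans ?_)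
    show hunit.unit⁻¹.1 • b.repr dt 0 • b 0 = b 0
    rw [← mul_smul, hunit.val_inv_mul, one_smul]
  have hsurj : Function.Surjective (KaehlerDifferential.mapBaseChange R (Polynomial R) L) := fun w => by
    obtain ⟨c, rfl⟩ := hgen w
    exact ⟨c ⊗ₜ KaehlerDifferential.D R (Polynomial R) Polynomial.X, by
      rw [KaehlerDifferential.mapBaseChange_tmul, KaehlerDifferential.map_D]⟩
  have hinj : Function.Injective (KaehlerDifferential.mapBaseChange R (Polynomial R) L) := by
    have hspan : ∀ z : L ⊗[Polynomial R] Ω[Polynomial R⁄R], ∃ c : L,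
        z = c ⊗ₜ KaehlerDifferential.D R (Polynomial R) Polynomial.X := by
      intro z
      induction z using TensorProduct.induction_on with
      | zero => exact ⟨0, by simp⟩
      | tmul c w =>
        have hw : w = KaehlerDifferential.polynomialEquiv R w •
            KaehlerDifferential.D R (Polynomial R) Polynomial.X := by
          refine (KaehlerDifferential.polynomialEquiv R).injective ?_
          rw [map_smul, KaehlerDifferential.polynomialEquiv_D, Polynomial.derivative_X, smul_eq_mul, mul_one]
        refine ⟨KaehlerDifferential.polynomialEquiv R w • c, ?_⟩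
        conv_lhs => rw [hw, TensorProduct.tmul_smul, TensorProduct.smul_tmul']
      | add z z' hz hz' =>
        obtain ⟨c, rfl⟩ := hz
        obtain ⟨c', rfl⟩ := hz'
        exact ⟨c + c', (TensorProduct.add_tmul c c' _).symm⟩
    rw [injective_iff_map_eq_zero]
    intro z hz
    obtain ⟨c, rfl⟩ := hspan z
    rw [KaehlerDifferential.mapBaseChange_tmul, KaehlerDifferential.map_D] at hz
    have h0 : c * mu dt = 0 := by rw [← smul_eq_mul, ← map_smul, hz, map_zero]
    rw [(hmu.mul_left_eq_zero).1 h0, TensorProduct.zero_tmul]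
  rw [Algebra.IsEtaleAt, Algebra.formallyEtale_iff]
  refine ⟨subsingleton_of_forall_eq 0 fun w => ?_, subsingleton_of_forall_eq 0 fun x => ?_⟩
  · obtain ⟨w, rfl⟩ := KaehlerDifferential.map_surjective R (Polynomial R) L w
    exact (KaehlerDifferential.exact_mapBaseChange_map R (Polynomial R) L w).2 (hsurj w)
  · have hδ : Algebra.H1Cotangent.δ R (Polynomial R) L x = 0 := hinj (by
      rw [map_zero, (Algebra.H1Cotangent.exact_δ_mapBaseChange R (Polynomial R) L _).2 ⟨x, rfl⟩])
    obtain ⟨x', rfl⟩ := (Algebra.H1Cotangent.exact_map_δ R (Polynomial R) L x).1 hδ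
    rw [Subsingleton.elim x' 0, map_zero]

theorem adjoin_ranges_eq_top {R A B : Type u} [CommRing R] [CommRing A] [CommRing B] [Algebra R A] [Algebra R B]
    {n : ℕ} {ι : Fin n → A →ₐ[R] B} (hι : SymPowAlg.IsPow ι) :
    Algebra.adjoin R (⋃ i, Set.range (ι i)) = ⊤ := by
  set S := Algebra.adjoin R (⋃ i, Set.range (ι i))
  obtain ⟨h, hh, -⟩ := hι S fun i => (ι i).codRestrict S fun a => Algebra.subset_adjoin (Set.mem_iUnion.2 ⟨i, a, rfl⟩)
  have : S.val.comp h = AlgHom.id R B := hι.hom_ext fun i => by
    rw [AlgHom.comp_assoc, hh]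
    rfl
  refine eq_top_iff.2 fun b _ => ?_
  have h1 : S.val (h b) = b := AlgHom.congr_fun this b
  rw [← h1]
  exact (h b).2

attribute [local instance] MvPolynomial.algebraMvPolynomial

/-- Near every point of the invariants of a tensor power of a smooth algebra of relative dimension one,
the invariants are smooth and the power is finite flat of rank `n!`. -/
theorem main {R A B C : Type u} [CommRing R] [CommRing A] [CommRing B] [CommRing C] [IsNoetherianRing R]
    [Algebra R A] [Algebra R B] [Algebra R C] [Algebra C B] [IsScalarTower R C B]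
    [Algebra.Smooth R A] (hrank : ∀ p, Module.rankAtStalk (R := A) Ω[A⁄R] p = 1)
    {n : ℕ} {ι : Fin n → A →ₐ[R] B} (hι : SymPowAlg.IsPow ι)
    (hinj : Function.Injective (algebraMap C B))
    (hinv : ∀ b : B, b ∈ Set.range (algebraMap C B) ↔ ∀ g, hι.perm g b = b)
    (y : Ideal C) [y.IsPrime] :
    Module.Finite C B ∧ ∃ c : C, c ∉ y ∧ Algebra.Smooth R (Localization.Away c) ∧
      Module.Flat (Localization.Away c) (Localization.Away c ⊗[C] B) ∧
      ∀ p, Module.rankAtStalk (R := Localization.Away c) (Localization.Away c ⊗[C] B) p = n.factorial := by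
  classical
  have hgenB := adjoin_ranges_eq_top hι
  haveI : Algebra.FiniteType R B := by
    obtain ⟨s, hs⟩ := (inferInstance : Algebra.FiniteType R A).out
    refine ⟨⟨Finset.univ.biUnion fun i => s.image (ι i), eq_top_iff.2 ?_⟩⟩
    rw [← hgenB]
    refine Algebra.adjoin_le ?_
    rintro _ hb
    obtain ⟨i, a, rfl⟩ := Set.mem_iUnion.1 hb
    have hle : Algebra.adjoin R (s : Set A) ≤
        (Algebra.adjoin R (↑(Finset.univ.biUnion fun i => s.image (ι i)) : Set B)).comap (ι i) :=
      Algebra.adjoin_le fun a₁ ha₁ => Algebra.subset_adjoin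
        (Finset.mem_biUnion.2 ⟨i, Finset.mem_univ i, Finset.mem_image_of_mem _ ha₁⟩)
    exact hle (hs ▸ Algebra.mem_top)
  have hfix : ∀ (g) (c : C), hι.perm g (algebraMap C B c) = algebraMap C B c := fun g c => (hinv _).1 ⟨c, rfl⟩ g
  have hperm : ∀ g g' b, hι.perm (g * g') b = hι.perm g (hι.perm g' b) := fun g g' b => by
    rw [hι.perm_mul]; rfl
  haveI : Algebra.IsIntegral C B := ⟨fun b => by
    rcases subsingleton_or_nontrivial B with h | h
    · exact ⟨1, Polynomial.monic_one, Subsingleton.elim _ _⟩
    let Q : Polynomial B := ∏ g : Equiv.Perm (Fin n), (Polynomial.X - Polynomial.C (hι.perm g b))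
    have hQ : Q ∈ Polynomial.lifts (algebraMap C B) := by
      refine (Polynomial.lifts_iff_coeff_lifts _).2 fun k => (hinv _).2 fun g => ?_
      have h1 : Q.map (hι.perm g).toRingHom = Q := by
        rw [Polynomial.map_prod]
        refine Fintype.prod_equiv (Equiv.mulLeft g) _ _ fun g' => ?_
        rw [Polynomial.map_sub, Polynomial.map_X, Polynomial.map_C, Equiv.coe_mulLeft, hperm]
        rfl
      conv_rhs => rw [← h1]
      rw [Polynomial.coeff_map]
      rfl
    obtain ⟨q, hq, -, hqm⟩ := Polynomial.lifts_and_degree_eq_and_monic hQ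
      (Polynomial.monic_prod_of_monic _ _ fun g _ => Polynomial.monic_X_sub_C _)
    refine ⟨q, hqm, ?_⟩
    rw [Polynomial.eval₂_eq_eval_map, hq, Polynomial.eval_prod]
    exact Finset.prod_eq_zero (Finset.mem_univ 1) (by rw [hι.perm_one]; simp)⟩
  haveI : Algebra.FiniteType C B := Algebra.FiniteType.of_restrictScalars_finiteType R C B
  haveI hfinCB : Module.Finite C B := Algebra.IsIntegral.finite
  refine ⟨hfinCB, ?_⟩
  obtain ⟨s, hs⟩ := (inferInstance : Algebra.FiniteType R A).out
  let τ : Type u := ↥s
  let a : τ → A := fun j => j.1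
  let R' := MvPolynomial τ R
  let A' := MvPolynomial τ A
  let B' := MvPolynomial τ B
  let C' := MvPolynomial τ C
  let t : A' := ∑ j, MvPolynomial.X j * MvPolynomial.C (a j)
  haveI : IsNoetherianRing R' := inferInstanceAs (IsNoetherianRing (MvPolynomial τ R))
  haveI : IsScalarTower R' C' B' := IsScalarTower.of_algebraMap_eq fun p => by
    show MvPolynomial.map (algebraMap R B) p = MvPolynomial.map (algebraMap C B) (MvPolynomial.map (algebraMap R C) p)
    rw [MvPolynomial.map_map, ← IsScalarTower.algebraMap_eq R C B]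
  have hι' := hι.baseChange τ
  let ι' := SymPowAlg.baseι τ ι
  have hrangeC : ∀ i b, ι' i (MvPolynomial.C b) = MvPolynomial.C (ι i b) := fun i b => MvPolynomial.map_C _ _
  haveI : Algebra.FiniteType R' A' := Algebra.FiniteType.equiv inferInstance (Algebra.IsPushout.equiv R R' A A')
  haveI : Algebra.FiniteType R' B' := Algebra.FiniteType.equiv inferInstance (Algebra.IsPushout.equiv R R' B B')
  haveI : Module.Finite C' B' := Module.Finite.equiv (Algebra.IsPushout.equiv C C' B B').toLinearEquiv
  haveI : Algebra.FormallySmooth R' A' := Algebra.FormallySmooth.of_equiv (Algebra.IsPushout.equiv R R' A A')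
  letI algPA : Algebra (Polynomial R') A' := (Polynomial.aeval t).toRingHom.toAlgebra
  haveI : IsScalarTower R' (Polynomial R') A' := IsScalarTower.of_algebraMap_eq fun r => (Polynomial.aeval_C t r).symm
  have htX : algebraMap (Polynomial R') A' Polynomial.X = t := Polynomial.aeval_X t
  let x' : Fin n → B' := fun i => ι' i t
  letI algTB : Algebra (MvPolynomial (Fin n) R') B' :=
    (MvPolynomial.aeval (R := R') x').toRingHom.toAlgebra
  haveI : IsScalarTower R' (MvPolynomial (Fin n) R') B' :=
    IsScalarTower.of_algebraMap_eq fun r => (MvPolynomial.aeval_C x' r).symm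
  have hpts : ∀ i, SymEtaleCore.pts R' B' n i = x' i := fun i => MvPolynomial.aeval_X x' i
  have hx'eq : ∀ i, x' i = ∑ j, MvPolynomial.X j * MvPolynomial.C (ι i (a j)) := fun i => by
    show ι' i (∑ j, _) = _
    rw [map_sum]
    refine Finset.sum_congr rfl fun j _ => ?_
    rw [map_mul, hrangeC]
    congr 1
    exact MvPolynomial.map_X _ _
  let σ₀ : Equiv.Perm (Fin n) → B' →+* B' := fun g => MvPolynomial.map (hι.perm g).toRingHom
  have hσx : ∀ g i, σ₀ g (x' i) = x' (g i) := fun g i => by
    rw [hx'eq, hx'eq, map_sum]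
    refine Finset.sum_congr rfl fun j _ => ?_
    rw [map_mul]
    erw [MvPolynomial.map_X, MvPolynomial.map_C]
    exact congrArg (MvPolynomial.X j * MvPolynomial.C ·) (hι.perm_ι g i (a j))
  have hσC : ∀ g (c : C'), σ₀ g (algebraMap C' B' c) = algebraMap C' B' c := fun g c => by
    show MvPolynomial.map _ (MvPolynomial.map (algebraMap C B) c) = MvPolynomial.map (algebraMap C B) c
    rw [MvPolynomial.map_map]
    exact congrArg (fun φ : C →+* B => MvPolynomial.map φ c) (RingHom.ext fun z => hfix g z)
  have hinj' : Function.Injective (algebraMap C' B') := MvPolynomial.map_injective _ hinj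
  have hσ' : ∀ g : Equiv.Perm (Fin n), ∃ σ : B' →ₐ[C'] B',
      ∀ i, σ (SymEtaleCore.pts R' B' n i) = SymEtaleCore.pts R' B' n (g i) := fun g =>
    ⟨{ σ₀ g with commutes' := hσC g }, fun i => by rw [hpts, hpts]; exact hσx g i⟩
  obtain ⟨p', hp'⟩ : ∃ p : Polynomial C', p.map (algebraMap C' B') =
      ∏ i, (Polynomial.X - Polynomial.C (SymEtaleCore.pts R' B' n i)) := by
    refine (Polynomial.mem_lifts _).1 ((Polynomial.lifts_iff_coeff_lifts _).2 fun k => ?_)
    simp only [hpts]
    let U : Polynomial B' := ∏ i, (Polynomial.X - Polynomial.C (x' i))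
    have hU : ∀ g, U.map (σ₀ g) = U := fun g => by
      rw [Polynomial.map_prod]
      refine Fintype.prod_equiv g _ _ fun i => ?_
      rw [Polynomial.map_sub, Polynomial.map_X, Polynomial.map_C, hσx]
    show U.coeff k ∈ Set.range (MvPolynomial.map (algebraMap C B))
    rw [MvPolynomial.mem_range_map_iff_coeffs_subset]
    intro z hz
    obtain ⟨d, hd, rfl⟩ := MvPolynomial.mem_coeffs_iff.1 hz
    refine (hinv _).2 fun g => ?_
    conv_rhs => rw [← hU g, Polynomial.coeff_map]
    exact (MvPolynomial.coeff_map _ _ _).symm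
  let mky : C' →+* MvPolynomial τ (C ⧸ y) := MvPolynomial.map (Ideal.Quotient.mk y)
  let y' : Ideal C' := RingHom.ker mky
  haveI : y'.IsPrime := RingHom.ker_isPrime mky
  have indep : ∀ (K : Type u) [Field K] (e : C' →+* K), RingHom.ker e = y' → ∀ δ : τ → K,
      (∀ j, ((e.comp MvPolynomial.C)).IsIntegralElem (δ j)) →
      ∑ j, e (MvPolynomial.X j) * δ j = 0 → δ = 0 := by
    intro K _ e he δ hδ hsum
    have hy0 : ∀ c ∈ y, e (MvPolynomial.C c) = 0 := fun c hc => by
      rw [← RingHom.mem_ker, he]
      show mky _ = 0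
      rw [MvPolynomial.map_C, Ideal.Quotient.eq_zero_iff_mem.2 hc, map_zero]
    letI : Algebra (C ⧸ y) K := (Ideal.Quotient.lift y (e.comp MvPolynomial.C) hy0).toAlgebra
    have hai : AlgebraicIndependent (C ⧸ y) fun j => e (MvPolynomial.X j) := by
      rw [algebraicIndependent_iff]
      intro p hp
      obtain ⟨p, rfl⟩ := MvPolynomial.map_surjective _ Ideal.Quotient.mk_surjective p
      rw [← RingHom.mem_ker (f := mky)]
      show p ∈ y'
      rw [← he, RingHom.mem_ker, ← hp]
      refine RingHom.congr_fun (f := e)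
        (g := (MvPolynomial.aeval fun j => e (MvPolynomial.X j)).toRingHom.comp mky)
        (MvPolynomial.ringHom_ext (fun c => ?_) fun j => ?_) p
      · simp [mky]
        rfl
      · simp [mky]
        rfl
    haveI : NoZeroDivisors K := inferInstance
    have hai' := hai.integralClosure
    have hmem : ∀ j, δ j ∈ integralClosure (C ⧸ y) K := fun j => by
      obtain ⟨p, hpm, hp⟩ := hδ j
      refine ⟨p.map (Ideal.Quotient.mk y), hpm.map _, ?_⟩
      rw [Polynomial.eval₂_map]
      exact hp
    let P : MvPolynomial τ (integralClosure (C ⧸ y) K) := ∑ j, MvPolynomial.C ⟨δ j, hmem j⟩ * MvPolynomial.X j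
    have hP : P = 0 := hai'.eq_zero_of_aeval_eq_zero P (by
      rw [map_sum]
      simp only [map_mul, MvPolynomial.aeval_C, MvPolynomial.aeval_X]
      rw [← hsum]
      exact Finset.sum_congr rfl fun j _ => mul_comm _ _)
    funext j
    have h1 := congrArg (MvPolynomial.coeff (Finsupp.single j 1)) hP
    rw [MvPolynomial.coeff_sum, Finset.sum_eq_single j (fun j' _ hne => by
      rw [MvPolynomial.coeff_C_mul, MvPolynomial.coeff_X, if_neg fun h => hne (Finsupp.single_left_injective one_ne_zero h),
        mul_zero]) (by simp),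
      MvPolynomial.coeff_C_mul, MvPolynomial.coeff_X, if_pos rfl, mul_one, MvPolynomial.coeff_zero] at h1
    exact congrArg Subtype.val h1
  have hintB : ∀ (K : Type u) [Field K] (z : B' →+* K) (b : B),
      (((z.comp (algebraMap C' B'))).comp MvPolynomial.C).IsIntegralElem (z (MvPolynomial.C b)) := by
    intro K _ z b
    obtain ⟨p, hpm, hp⟩ := Algebra.IsIntegral.isIntegral (R := C) b
    refine ⟨p, hpm, ?_⟩
    have h1 := congrArg (z.comp MvPolynomial.C) hp
    rw [Polynomial.hom_eval₂, map_zero] at h1
    rw [← h1]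
    refine congrArg (fun φ : C →+* K => p.eval₂ φ _) (RingHom.ext fun c => congrArg z ?_)
    exact MvPolynomial.map_C _ _
  refine Exists.elim (SymEtaleCore.main (R := R') (C := C') (B := B') y' hinj' p' hp' hσ' ?het ?hsep) ?rest
  case hsep =>
    intro K _ z z' hC hker hx
    have hXz : ∀ j, z (MvPolynomial.X j) = z' (MvPolynomial.X j) := fun j => by
      have := RingHom.congr_fun hC (MvPolynomial.X j)
      exact (congrArg z (MvPolynomial.map_X (algebraMap C B) j).symm).trans
        (this.trans (congrArg z' (MvPolynomial.map_X (algebraMap C B) j)))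
    have hCz : ∀ c : C, z (MvPolynomial.C (algebraMap C B c)) = z' (MvPolynomial.C (algebraMap C B c)) := fun c => by
      have := RingHom.congr_fun hC (MvPolynomial.C c)
      exact (congrArg z (MvPolynomial.map_C (algebraMap C B) c).symm).trans
        (this.trans (congrArg z' (MvPolynomial.map_C (algebraMap C B) c)))
    have hbase : ∀ (i : Fin n) (j : τ), z (MvPolynomial.C (ι i (a j))) = z' (MvPolynomial.C (ι i (a j))) := by
      intro i
      have h0 : (fun j => z (MvPolynomial.C (ι i (a j))) - z' (MvPolynomial.C (ι i (a j)))) = 0 := by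
        refine indep K (z.comp (algebraMap C' B')) hker _ (fun j => ?_) ?_
        · refine RingHom.IsIntegralElem.sub _ (hintB K z _) ?_
          rw [hC]
          exact hintB K z' _
        · have h1 := hx i
          rw [hpts, hx'eq, map_sum, map_sum, ← sub_eq_zero, ← Finset.sum_sub_distrib] at h1
          rw [← h1]
          refine Finset.sum_congr rfl fun j _ => ?_
          rw [map_mul, map_mul, ← hXz, ← mul_sub]
          congr 1
          exact congrArg z (MvPolynomial.map_X _ _)
      exact fun j => sub_eq_zero.1 (congr_fun h0 j)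
    refine MvPolynomial.ringHom_ext (fun b => ?_) hXz
    have hb : b ∈ Algebra.adjoin R (⋃ i, Set.range (ι i)) := hgenB ▸ Algebra.mem_top
    induction hb using Algebra.adjoin_induction with
    | mem b hb =>
      obtain ⟨i, a₀, rfl⟩ := Set.mem_iUnion.1 hb
      clear hb
      have ha : a₀ ∈ Algebra.adjoin R (s : Set A) := hs ▸ Algebra.mem_top
      induction ha using Algebra.adjoin_induction with
      | mem a₁ ha₁ => exact hbase i ⟨a₁, ha₁⟩
      | algebraMap r => rw [AlgHom.commutes, IsScalarTower.algebraMap_apply R C B]; exact hCz _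
      | add a₁ a₂ _ _ h1 h2 => simp only [map_add]; exact congrArg₂ (· + ·) h1 h2
      | mul a₁ a₂ _ _ h1 h2 => simp only [map_mul]; exact congrArg₂ (· * ·) h1 h2
    | algebraMap r => rw [IsScalarTower.algebraMap_apply R C B]; exact hCz _
    | add a₁ a₂ _ _ h1 h2 => simp only [map_add, h1, h2]
    | mul a₁ a₂ _ _ h1 h2 => simp only [map_mul, h1, h2]
  case het =>
    intro P _ hP
    let π : (τ → A) →ₗ[A] Ω[A⁄R] := Fintype.linearCombination A fun j => KaehlerDifferential.D R A (a j)
    have hπ : Function.Surjective π := by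
      rw [← LinearMap.range_eq_top, eq_top_iff, ← KaehlerDifferential.span_range_derivation, Submodule.span_le]
      rintro _ ⟨a₀, rfl⟩
      have ha : a₀ ∈ Algebra.adjoin R (s : Set A) := hs ▸ Algebra.mem_top
      induction ha using Algebra.adjoin_induction with
      | mem a₁ ha₁ =>
        exact ⟨Pi.single ⟨a₁, ha₁⟩ 1, by simp [π, a]⟩
      | algebraMap r => rw [Derivation.map_algebraMap]; exact zero_mem _
      | add a₁ a₂ _ _ h1 h2 => rw [map_add]; exact add_mem h1 h2
      | mul a₁ a₂ _ _ h1 h2 =>
        rw [Derivation.leibniz]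
        exact add_mem (Submodule.smul_mem _ _ h2) (Submodule.smul_mem _ _ h1)
    obtain ⟨sec, hsec⟩ := Module.projective_lifting_property π LinearMap.id hπ
    let z : B' →+* FractionRing (B' ⧸ P) := (algebraMap (B' ⧸ P) _).comp (Ideal.Quotient.mk P)
    have hzker : ∀ w, z w = 0 ↔ w ∈ P := fun w => by
      show algebraMap (B' ⧸ P) (FractionRing (B' ⧸ P)) (Ideal.Quotient.mk P w) = 0 ↔ _
      rw [map_eq_zero_iff _ (IsFractionRing.injective _ _), Ideal.Quotient.eq_zero_iff_mem]
    have hker : RingHom.ker (z.comp (algebraMap C' B')) = y' := by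
      rw [← hP]
      exact Ideal.ext fun w => hzker _
    have hg : ∀ i : Fin n, ∃ g : A', ι' i g ∉ P ∧ Algebra.FormallyEtale (Polynomial R') (Localization.Away g) := by
      intro i
      let p : Ideal A := P.comap ((MvPolynomial.C : B →+* B').comp (ι i).toRingHom)
      haveI : p.IsPrime := Ideal.IsPrime.comap _
      let q : Ideal A' := P.comap (ι' i).toRingHom
      haveI : q.IsPrime := Ideal.IsPrime.comap _
      obtain ⟨k, hk⟩ : ∃ k : τ, z (ι' i (∑ j, MvPolynomial.X j * MvPolynomial.C (sec (KaehlerDifferential.D R A (a j)) k))) ≠ 0 := by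
        by_contra hall
        push Not at hall
        have h0 : ∀ k j, sec (KaehlerDifferential.D R A (a j)) k ∈ p := by
          intro k j
          have h1 := congr_fun (indep _ (z.comp (algebraMap C' B')) hker
            (fun j => z (MvPolynomial.C (ι i (sec (KaehlerDifferential.D R A (a j)) k)))) (fun j => hintB _ z _) (by
              rw [← hall k, map_sum, map_sum]
              refine Finset.sum_congr rfl fun j _ => ?_
              rw [map_mul, map_mul, hrangeC]
              congr 1
              refine congrArg z ?_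
              rw [MvPolynomial.algebraMap_def, MvPolynomial.map_X]
              exact (MvPolynomial.map_X _ _).symm)) j
          exact (hzker _).1 h1
        have hle : (⊤ : Submodule A Ω[A⁄R]) ≤ p • ⊤ := by
          intro w _
          obtain ⟨v, rfl⟩ := hπ w
          rw [show π v = π (sec (π v)) from (LinearMap.congr_fun hsec (π v)).symm]
          have hv : ∀ k, sec (π v) k ∈ p := fun k => by
            simp only [π, Fintype.linearCombination_apply, map_sum, map_smul, Finset.sum_apply, Pi.smul_apply,
              smul_eq_mul]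
            exact p.sum_mem fun j _ => p.mul_mem_left _ (h0 k j)
          rw [show π (sec (π v)) = ∑ k, sec (π v) k • KaehlerDifferential.D R A (a k) from
            Fintype.linearCombination_apply _ _ _]
          exact Submodule.sum_mem _ fun k _ => Submodule.smul_mem_smul (hv k) Submodule.mem_top
        obtain ⟨r, hr1, hr2⟩ :=
          Submodule.exists_sub_one_mem_and_smul_eq_zero_of_fg_of_le_smul p ⊤ Module.Finite.fg_top hle
        have hrp : r ∉ p := fun h => (inferInstance : p.IsPrime).ne_top ((Ideal.eq_top_iff_one p).2 (by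
          simpa using p.sub_mem h hr1))
        have h1 := hrank ⟨p, inferInstance⟩
        have hns : (⟨p, inferInstance⟩ : PrimeSpectrum A) ∉ Module.support A Ω[A⁄R] := by
          rw [Module.mem_support_iff_of_finite]
          exact fun h => hrp (h (Module.mem_annihilator.2 fun w => hr2 w Submodule.mem_top))
        rw [(Module.rankAtStalk_eq_zero_iff_notMem_support _).2 hns] at h1
        exact zero_ne_one h1
      let e := KaehlerDifferential.tensorKaehlerEquiv R R' A A'
      let lk : Ω[A⁄R] →ₗ[A] A := (LinearMap.proj k).comp sec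
      let lam : Ω[A'⁄R'] →ₗ[A'] A' :=
        (LinearMap.liftBaseChange A' ((Algebra.linearMap A A').comp lk)).comp e.symm.toLinearMap
      have hlamC : ∀ b, lam (KaehlerDifferential.D R' A' (MvPolynomial.C b)) =
          MvPolynomial.C (lk (KaehlerDifferential.D R A b)) := fun b => by
        have h1 : e ((1 : A') ⊗ₜ KaehlerDifferential.D R A b) = KaehlerDifferential.D R' A' (MvPolynomial.C b) := by
          rw [KaehlerDifferential.tensorKaehlerEquiv_tmul_D, one_smul]
          rfl
        show LinearMap.liftBaseChange A' _ (e.symm _) = _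
        rw [← h1, e.symm_apply_apply, LinearMap.liftBaseChange_tmul, one_smul]
        rfl
      have hlam : lam (KaehlerDifferential.D R' A' (algebraMap (Polynomial R') A' Polynomial.X)) =
          ∑ j, MvPolynomial.X j * MvPolynomial.C (sec (KaehlerDifferential.D R A (a j)) k) := by
        rw [htX, map_sum, map_sum]
        refine Finset.sum_congr rfl fun j _ => ?_
        rw [Derivation.leibniz, show (MvPolynomial.X j : A') = algebraMap R' A' (MvPolynomial.X j) from
            (MvPolynomial.map_X _ _).symm, Derivation.map_algebraMap, smul_zero, add_zero, map_smul, hlamC]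
        rfl
      haveI : Algebra.IsEtaleAt (Polynomial R') q := by
        refine isEtaleAt_coordinate (fun p => ?_) lam q ?_
        · rw [← Module.rankAtStalk_eq_of_equiv e, Module.rankAtStalk_baseChange, hrank]
        · rw [hlam]
          exact fun h => hk ((hzker _).2 h)
      haveI : Algebra.FiniteType (Polynomial R') A' := Algebra.FiniteType.of_restrictScalars_finiteType R' _ A'
      haveI : Algebra.FinitePresentation (Polynomial R') A' :=
        Algebra.FinitePresentation.of_finiteType.1 inferInstance
      obtain ⟨g, hg, het⟩ := Algebra.exists_etale_of_isEtaleAt (R := Polynomial R') q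
      exact ⟨g, hg, inferInstance⟩
    choose g hgP hget using hg
    have hG : ∏ i, ι' i (g i) ∉ P := fun h => by
      obtain ⟨i, -, hi⟩ := (inferInstance : P.IsPrime).prod_mem_iff.1 h
      exact hgP i hi
    haveI : Algebra.FormallyEtale (MvPolynomial (Fin n) R') (Localization.Away (∏ i, ι' i (g i))) :=
      SymPowAlg.IsPow.formallyEtale hι' (fun i => by
        show MvPolynomial.aeval x' (MvPolynomial.X i) = _
        rw [MvPolynomial.aeval_X, htX]) g hget
    exact Algebra.basicOpen_subset_etaleLocus_iff.2 inferInstance (show (⟨P, inferInstance⟩ : PrimeSpectrum B') ∈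
      PrimeSpectrum.basicOpen (∏ i, ι' i (g i)) from hG)
  -- descent along the variables
  rintro c' ⟨hc', hsm', ⟨bas⟩⟩
  obtain ⟨d₀, hd₀⟩ : ∃ d, MvPolynomial.coeff d c' ∉ y := by
    by_contra h
    push Not at h
    refine hc' ?_
    show mky c' = 0
    exact MvPolynomial.ext _ _ fun d => by
      rw [MvPolynomial.coeff_map, Ideal.Quotient.eq_zero_iff_mem.2 (h d), MvPolynomial.coeff_zero]
  refine ⟨MvPolynomial.coeff d₀ c', hd₀, ?_⟩
  set c := MvPolynomial.coeff d₀ c'
  let Cc := Localization.Away c
  let D₁ := Localization.Away c'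
  let D := Localization.Away (algebraMap C D₁ c)
  haveI : IsScalarTower R C' D₁ := inferInstance
  haveI : Algebra.Smooth R R' := ⟨inferInstance, inferInstance⟩
  haveI : Algebra.Smooth R' D₁ := hsm'
  haveI : Algebra.Smooth R D₁ := Algebra.Smooth.comp R R' D₁
  haveI : Algebra.Smooth C C' := ⟨inferInstance, inferInstance⟩
  haveI : Algebra.Smooth C' D₁ := Algebra.Smooth.of_isLocalization_Away c'
  haveI : Algebra.Smooth C D₁ := Algebra.Smooth.comp C C' D₁
  haveI : Algebra.Smooth D₁ D := Algebra.Smooth.of_isLocalization_Away (algebraMap C D₁ c)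
  haveI : Algebra.Smooth R D := Algebra.Smooth.comp R D₁ D
  haveI : Algebra.Smooth C D := Algebra.Smooth.comp C D₁ D
  letI : Algebra Cc D := (IsLocalization.Away.lift c (g := algebraMap C D) (by
    rw [IsScalarTower.algebraMap_apply C D₁ D]
    exact IsLocalization.Away.algebraMap_isUnit _)).toAlgebra
  haveI : IsScalarTower C Cc D := IsScalarTower.of_algebraMap_eq fun z =>
    (IsLocalization.Away.lift_eq c _ z).symm
  haveI : IsScalarTower R Cc D := IsScalarTower.of_algebraMap_eq fun r => by
    rw [IsScalarTower.algebraMap_apply R C Cc, ← IsScalarTower.algebraMap_apply C Cc D,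
      ← IsScalarTower.algebraMap_apply R C D]
  haveI : Algebra.FormallySmooth Cc D := Algebra.FormallySmooth.localization_base (Submonoid.powers c)
  haveI : Algebra.FinitePresentation Cc D := Algebra.FinitePresentation.of_restrict_scalars_finitePresentation C Cc D
  haveI : Algebra.Smooth Cc D := ⟨inferInstance, inferInstance⟩
  have hsurj : Function.Surjective (PrimeSpectrum.comap (algebraMap Cc D)) := by
    intro 𝔭
    let p : Ideal C := 𝔭.asIdeal.comap (algebraMap C Cc)
    haveI : p.IsPrime := Ideal.IsPrime.comap _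
    have hcp : c ∉ p := fun h => 𝔭.2.ne_top (Ideal.eq_top_of_isUnit_mem _ h (IsLocalization.Away.algebraMap_isUnit c))
    let e : C' →+* FractionRing (MvPolynomial τ (C ⧸ p)) :=
      (algebraMap (MvPolynomial τ (C ⧸ p)) _).comp (MvPolynomial.map (Ideal.Quotient.mk p))
    have he0 : ∀ w, e w = 0 → ∀ d, MvPolynomial.coeff d w ∈ p := fun w hw d => by
      have h1 : MvPolynomial.map (Ideal.Quotient.mk p) w = 0 :=
        (map_eq_zero_iff _ (IsFractionRing.injective (MvPolynomial τ (C ⧸ p)) (FractionRing (MvPolynomial τ (C ⧸ p))))).1 hw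
      have := congrArg (MvPolynomial.coeff d) h1
      rwa [MvPolynomial.coeff_map, MvPolynomial.coeff_zero, Ideal.Quotient.eq_zero_iff_mem] at this
    have h1 : IsUnit (e c') := IsUnit.mk0 _ fun h => hcp (he0 _ h d₀)
    let e₁ : D₁ →+* FractionRing (MvPolynomial τ (C ⧸ p)) := IsLocalization.Away.lift c' h1
    have he₁ : ∀ z, e₁ (algebraMap C D₁ z) = e (MvPolynomial.C z) := fun z => by
      rw [IsScalarTower.algebraMap_apply C C' D₁]
      exact IsLocalization.Away.lift_eq c' h1 _
    have h2 : IsUnit (e₁ (algebraMap C D₁ c)) := IsUnit.mk0 _ fun h => hcp (by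
      rw [he₁] at h
      simpa using he0 _ h 0)
    let e₂ : D →+* FractionRing (MvPolynomial τ (C ⧸ p)) := IsLocalization.Away.lift (algebraMap C D₁ c) h2
    refine ⟨⟨RingHom.ker e₂, RingHom.ker_isPrime _⟩, PrimeSpectrum.localization_comap_injective Cc (Submonoid.powers c)
      (PrimeSpectrum.ext (Ideal.ext fun z => ?_))⟩
    show e₂ (algebraMap Cc D (algebraMap C Cc z)) = 0 ↔ z ∈ p
    rw [← IsScalarTower.algebraMap_apply C Cc D, IsScalarTower.algebraMap_apply C D₁ D,
      show e₂ (algebraMap D₁ D (algebraMap C D₁ z)) = e₁ (algebraMap C D₁ z) from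
        IsLocalization.Away.lift_eq (algebraMap C D₁ c) h2 _, he₁]
    refine ⟨fun h => by simpa using he0 _ h 0, fun h => ?_⟩
    show algebraMap (MvPolynomial τ (C ⧸ p)) _ (MvPolynomial.map _ (MvPolynomial.C z)) = 0
    rw [MvPolynomial.map_C, Ideal.Quotient.eq_zero_iff_mem.2 h, map_zero, map_zero]
  haveI : Module.FaithfullyFlat Cc D := RingHom.faithfullyFlat_algebraMap_iff.1
    (RingHom.FaithfullyFlat.iff_flat_and_comap_surjective.2
      ⟨RingHom.flat_algebraMap_iff.2 inferInstance, hsurj⟩)
  haveI : Algebra.FiniteType R C :=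
    ⟨fg_of_fg_of_fg R C B (inferInstance : Algebra.FiniteType R B).out hfinCB.fg_top hinj⟩
  haveI : Algebra.FinitePresentation R C := Algebra.FinitePresentation.of_finiteType.1 inferInstance
  let M := Cc ⊗[C] B
  let eB : (D₁ ⊗[C] B) ≃ₗ[D₁] LocalizedModule (Submonoid.powers c') B' :=
    (TensorProduct.AlgebraTensorModule.cancelBaseChange C C' D₁ D₁ B).symm ≪≫ₗ
      TensorProduct.AlgebraTensorModule.congr (LinearEquiv.refl D₁ D₁)
        (Algebra.IsPushout.equiv C C' B B').toLinearEquiv ≪≫ₗ
      (LocalizedModule.equivTensorProduct _ _).symm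
  let bas₁ : Module.Basis (SymBasis.Idx n) D₁ (D₁ ⊗[C] B) := bas.map eB.symm
  let eM : (D ⊗[Cc] M) ≃ₗ[D] (D ⊗[D₁] (D₁ ⊗[C] B)) :=
    TensorProduct.AlgebraTensorModule.cancelBaseChange C Cc D D B ≪≫ₗ
      (TensorProduct.AlgebraTensorModule.cancelBaseChange C D₁ D D B).symm
  let bas₂ : Module.Basis (SymBasis.Idx n) D (D ⊗[Cc] M) := (Algebra.TensorProduct.basis D bas₁).map eM.symm
  haveI : Module.Free D (D ⊗[Cc] M) := Module.Free.of_basis bas₂
  haveI : Module.Flat Cc M := Module.Flat.of_flat_tensorProduct Cc M D
  refine ⟨SrcDescent.smooth_of_smooth_faithfullyFlat D, inferInstance, fun p => ?_⟩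
  obtain ⟨P, rfl⟩ := hsurj p
  haveI : Nontrivial D := ⟨0, 1, fun h => P.2.ne_top ((Ideal.eq_top_iff_one _).2 (h ▸ zero_mem _))⟩
  rw [← Module.rankAtStalk_baseChange, Module.rankAtStalk_eq_finrank_of_free, Pi.natCast_apply,
    Module.finrank_eq_card_basis bas₂, SymBasis.card_idx]
  rfl

end Groth.Agent.H23.SymGeneric
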