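import Groth.Agent.H23.SymCurve
import Groth.Agent.RelCurveDiv.Flags
import Groth.Agent.RelCurveDiv.AddPoint
import Groth.Agent.RelCurveDiv.Smooth
import Groth.Agent.RelCurveDiv.Split
import Groth.Agent.HilbDLib.RepCrit
import Groth.Agent.S1166
import Groth.Agent.S1167
import Groth.Agent.DescLib.IdealDescent
import Groth.Agent.EtSplit24.Comp
import Groth.Agent.SrcDescent.LocalAtSource
import Mathlib.AlgebraicGeometry.ZariskisMainTheorem

/-!
The symmetric power of a smooth proper curve is the scheme of divisors.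
-/

set_option autoImplicit false
set_option backward.isDefEq.respectTransparency false
set_option linter.style.haveILetI false
set_option maxHeartbeats 1000000

universe u

open CategoryTheory CategoryTheory.Limits AlgebraicGeometry TopologicalSpace

namespace Groth.Agent.H23.SymHilb

open SymProd Groth.Agent HilbDLib RelCurveDiv

variable {C S : Scheme.{u}} (f : C ⟶ S)

/-- The fibre power as a scheme over the base. -/
noncomputable abbrev powOver (n : ℕ) : Over S := Over.mk (WidePullback.base (fun _ : Fin n => f))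

/-- The sum of the tautological sections. -/
noncomputable def sumDiv (n : ℕ) : (PicF.XT f (powOver f n)).IdealSheafData :=
  ∏ i : Fin n, HilbD.secGraph f (powOver f n) (WidePullback.π (fun _ : Fin n => f) i)
    (WidePullback.π_arrow (fun _ : Fin n => f) i)

variable [IsSeparated f]

theorem sumDiv_deg [SmoothOfRelativeDimension 1 f] (n : ℕ) :
    Mor2.IsFinLocFreeOfDeg n ((sumDiv f n).subschemeι ≫ PicF.XTproj f (powOver f n)) := by
  classical
  haveI := smooth_XTproj f (powOver f n)
  suffices h : ∀ s : Finset (Fin n), HilbD.IsDivOfDeg (PicF.XTproj f (powOver f n)) s.card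
      (∏ i ∈ s, HilbD.secGraph f (powOver f n) (WidePullback.π (fun _ : Fin n => f) i)
        (WidePullback.π_arrow (fun _ : Fin n => f) i)) by
    have h1 := h Finset.univ
    rw [Finset.card_univ, Fintype.card_fin] at h1
    exact h1
  intro s
  induction s using Finset.induction_on with
  | empty =>
    rw [Finset.card_empty, Finset.prod_empty, Scheme.IdealSheafData.one_eq_top]
    exact top_deg_zero f (powOver f n)
  | @insert a s ha ih =>
    rw [Finset.prod_insert ha, Finset.card_insert_of_notMem ha, add_comm]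
    exact isDiv_mul _ (secGraph_deg f _ _ _) ih

/-- Pullback of ideal sheaves as a monoid homomorphism. -/
noncomputable def pullHom {T T' : Over S} (g : T' ⟶ T) :
    (PicF.XT f T).IdealSheafData →* (PicF.XT f T').IdealSheafData :=
  ⟨⟨HilbD.pull f g, by simp [pull_eq_comap]⟩, pull_mul f g⟩

theorem pull_sumDiv_perm (n : ℕ) (σ : Equiv.Perm (Fin n)) :
    HilbD.pull f (Over.homMk (permHom f n σ) (permHom_base f n σ) : powOver f n ⟶ powOver f n) (sumDiv f n) =
      sumDiv f n := by
  rw [sumDiv]
  refine (map_prod (pullHom f (Over.homMk (permHom f n σ) (permHom_base f n σ) : powOver f n ⟶ powOver f n)) _ _).trans ?_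
  refine Fintype.prod_equiv σ.symm _ _ fun i => ?_
  exact pull_secGraph f _ _ _ _ _ (permHom_π f n σ i)

variable [SmoothOfRelativeDimension 1 f]

/-- The classifying map of the sum of the tautological sections is finite locally free of degree `n!`. -/
theorem deg_classify (hrep : ∀ e : ℕ, HilbD.Representable f e) :
    ∀ (n : ℕ) (H : Over S) (Z : HilbD.Obj f n H), HilbD.IsUniversal f n H Z → ∀ (m : powOver f n ⟶ H),
      HilbD.pull f m Z.1 = sumDiv f n → Mor2.IsFinLocFreeOfDeg n.factorial m.left := by
  intro n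
  induction n with
  | zero =>
    intro H Z hZ m hm
    let e : S ⟶ fibPow f 0 := WidePullback.lift (𝟙 S) (fun i => i.elim0) (fun i => i.elim0)
    let T : Over S := Over.mk (𝟙 S)
    obtain ⟨σ, -, -⟩ := hZ T ⟨⊤, top_deg_zero f T⟩
    have h1 : (Over.homMk H.hom (Category.comp_id _) : H ⟶ T) ≫ σ = 𝟙 H := by
      haveI := smooth_XTproj f H
      refine (hZ H Z).unique ?_ (pull_id f Z.1)
      rw [eq_top_of_isDiv_zero (PicF.XTproj f H) Z.2]
      exact eq_top_of_isDiv_zero (PicF.XTproj f H) (isFinLocFreeOfDeg_pull f _ _ (top_deg_zero f H))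
    haveI : IsIso H.hom := ⟨σ.left, congrArg CommaMorphism.left h1, Over.w σ⟩
    haveI : IsIso (WidePullback.base (fun _ : Fin 0 => f)) := ⟨e,
      WidePullback.hom_ext _ _ _ (fun i => i.elim0) (by simp [e]), by simp [e]⟩
    haveI : IsIso (m.left ≫ H.hom) := by rw [Over.w m]; exact inferInstanceAs (IsIso (WidePullback.base _))
    haveI : IsIso m.left := IsIso.of_isIso_comp_right m.left H.hom
    exact ⟨⟨inferInstance, inferInstance, inferInstance⟩, fun y => by
      rw [Scheme.Hom.finrank_eq_one_of_isIso]; rfl⟩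
  | succ n ih =>
    intro H' Z' hZ' m' hm'
    obtain ⟨H, Z, hZ⟩ := hrep n
    haveI := SmoothOfRelativeDimension.smooth 1 f
    haveI := smooth_XTproj f (powOver f n)
    obtain ⟨m, hm, -⟩ := hZ (powOver f n) ⟨_, sumDiv_deg f n⟩
    change HilbD.pull f m Z.1 = sumDiv f n at hm
    have hdm := ih H Z hZ m hm
    let T : Over S := Over.mk (pullback.fst H.hom f ≫ H.hom)
    let p₁ : T ⟶ H := Over.homMk (pullback.fst H.hom f) rfl
    have hx : pullback.snd H.hom f ≫ f = T.hom := pullback.condition.symm
    haveI := smooth_XTproj f T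
    obtain ⟨a₁, ha₁, -⟩ := hZ' T ⟨_, isDiv_mul (PicF.XTproj f T) (isFinLocFreeOfDeg_pull f p₁ Z.1 Z.2)
      (secGraph_deg f T (pullback.snd H.hom f) hx)⟩
    have hpb : IsPullback p₁.left (pullback.snd H.hom f) H.hom f := IsPullback.of_hasPullback H.hom f
    have hdA := addPoint_finLocFree f n H Z hZ H' Z' hZ' T (pullback.snd H.hom f) hx p₁ hpb a₁ ha₁
    let rest : fibPow f (n + 1) ⟶ fibPow f n :=
      WidePullback.lift (WidePullback.base _) (fun i => WidePullback.π (fun _ : Fin (n + 1) => f) i.succ)
        (fun i => WidePullback.π_arrow _ i.succ)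
    let restO : powOver f (n + 1) ⟶ powOver f n := Over.homMk rest (WidePullback.lift_base _ _ _ _)
    let π0 := WidePullback.π (fun _ : Fin (n + 1) => f) 0
    have hw : (rest ≫ m.left) ≫ H.hom = π0 ≫ f := by
      rw [Category.assoc, Over.w m, WidePullback.π_arrow]
      exact WidePullback.lift_base _ _ _ _
    let ψ : fibPow f (n + 1) ⟶ pullback H.hom f := pullback.lift (rest ≫ m.left) π0 hw
    let ψO : powOver f (n + 1) ⟶ T := Over.homMk ψ (by
      show ψ ≫ pullback.fst H.hom f ≫ H.hom = _
      rw [pullback.lift_fst_assoc, hw, WidePullback.π_arrow]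
      rfl)
    have hP : IsPullback rest π0 (WidePullback.base (fun _ : Fin n => f)) f := by
      have w : rest ≫ WidePullback.base (fun _ : Fin n => f) = π0 ≫ f := by
        rw [WidePullback.π_arrow]; exact WidePullback.lift_base _ _ _ _
      refine IsPullback.of_isLimit' ⟨w⟩ (PullbackCone.IsLimit.mk _ (fun s =>
        WidePullback.lift (s.snd ≫ f)
          (Fin.cases s.snd fun i => s.fst ≫ WidePullback.π (fun _ : Fin n => f) i) (fun i => by
            induction i using Fin.cases with
            | zero => rfl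
            | succ i => simp only [Fin.cases_succ, Category.assoc]; rw [WidePullback.π_arrow (fun _ : Fin n => f) i, s.condition]))
        (fun s => ?_) (fun s => ?_) (fun s k h₁ h₂ => ?_))
      · refine WidePullback.hom_ext _ _ _ (fun i => ?_) ?_
        · simp [rest]
        · simp [rest, s.condition]
      · simp [π0]
      · refine WidePullback.hom_ext _ _ _ (fun i => ?_) ?_
        · induction i using Fin.cases with
          | zero => simp [← h₂, π0]
          | succ i => simp [← h₁, rest]
        · rw [WidePullback.lift_base, ← h₂, Category.assoc, WidePullback.π_arrow]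
    have hψ : IsPullback ψ rest (pullback.fst H.hom f) m.left := by
      refine IsPullback.of_right ?_ (pullback.lift_fst _ _ _) (IsPullback.of_hasPullback H.hom f).flip
      rw [pullback.lift_snd, Over.w m]
      exact hP.flip
    have hdψ : Mor2.IsFinLocFreeOfDeg n.factorial ψ := finLocFreeOfDeg_of_isPullback hψ.flip hdm
    have hcomp : ψO ≫ a₁ = m' := by
      refine (hZ' (powOver f (n + 1)) ⟨_, sumDiv_deg f (n + 1)⟩).unique ?_ hm'
      show HilbD.pull f (ψO ≫ a₁) Z'.1 = sumDiv f (n + 1)
      have e : ψO ≫ p₁ = restO ≫ m := Over.OverMorphism.ext (pullback.lift_fst _ _ _)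
      rw [← pull_pull, show HilbD.pull f a₁ Z'.1 = _ from ha₁, pull_mul, pull_pull, e, ← pull_pull, hm,
        pull_secGraph f ψO _ hx π0 (WidePullback.π_arrow _ 0) (pullback.lift_snd _ _ _)]
      rw [sumDiv, sumDiv, Fin.prod_univ_succ, mul_comm]
      congr 1
      refine (map_prod (pullHom f restO) _ _).trans (Finset.prod_congr rfl fun i _ => ?_)
      exact pull_secGraph f restO _ _ _ _ (WidePullback.lift_π _ _ _ _ i)
    obtain ⟨⟨a, b, c⟩, e₁⟩ := hdψ
    obtain ⟨⟨a', b', c'⟩, e₂⟩ := hdA
    haveI := a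
    haveI := b
    haveI := c
    haveI := a'
    haveI := b'
    haveI := c'
    rw [← hcomp]
    refine ⟨⟨inferInstanceAs (IsFinite (ψ ≫ a₁.left)), inferInstanceAs (Flat (ψ ≫ a₁.left)),
      inferInstanceAs (LocallyOfFinitePresentation (ψ ≫ a₁.left))⟩, fun y => ?_⟩
    show (ψ ≫ a₁.left).finrank y = _
    rw [EtSplit24.finrank_comp_const ψ a₁.left n.factorial e₁ y, e₂, Nat.factorial_succ, mul_comm]

theorem exists_iso [IsProper f] [IsLocallyNoetherian S] (hAF : IsAF f) (n : ℕ) {Y : Scheme.{u}}
    (q : fibPow f n ⟶ Y) (g : Y ⟶ S) (hq : IsSymProd f n q g) :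
    ∃ (Z : HilbD.Obj f n (Over.mk g)), HilbD.IsUniversal f n (Over.mk g) Z ∧
      HilbD.pull f (Over.homMk q hq.over : powOver f n ⟶ Over.mk g) Z.1 = sumDiv f n := by
  classical
  have hrep : ∀ e : ℕ, HilbD.Representable f e := fun e => S1166.result f e fun s x hx => by
    obtain ⟨U, hU, hUx⟩ := hAF s (Finset.univ.image x) fun z hz => by
      obtain ⟨i, -, rfl⟩ := Finset.mem_image.1 hz
      exact hx i
    exact ⟨U, hU, fun i => hUx _ (Finset.mem_image.2 ⟨i, Finset.mem_univ i, rfl⟩)⟩
  obtain ⟨H, Z, hZ⟩ := hrep n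
  obtain ⟨m, hm, -⟩ := hZ (powOver f n) ⟨_, sumDiv_deg f n⟩
  change HilbD.pull f m Z.1 = sumDiv f n at hm
  have hdm := deg_classify f hrep n H Z hZ m hm
  have hinv : ∀ σ : ULift.{u} (Equiv.Perm (Fin n)), (permActU f n σ).hom ≫ m.left = m.left := fun σ => by
    let P : powOver f n ⟶ powOver f n := Over.homMk (permHom f n σ.down) (permHom_base f n σ.down)
    have : P ≫ m = m := by
      refine (hZ (powOver f n) ⟨_, sumDiv_deg f n⟩).unique ?_ hm
      show HilbD.pull f (P ≫ m) Z.1 = sumDiv f n
      rw [← pull_pull, hm]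
      exact pull_sumDiv_perm f n σ.down
    exact congrArg CommaMorphism.left this
  obtain ⟨φ, hφ, -⟩ := SGA1Q.desc_existsUnique_isQuot hq.isQuot m.left hinv
  obtain ⟨⟨a, b, c⟩, e₁⟩ := hdm
  haveI := a
  haveI := b
  haveI := c
  obtain ⟨⟨a', b', c'⟩, e₂⟩ := SymCurve.finLocFreeOfDeg_symProd f hAF hq
  haveI := a'
  haveI := b'
  haveI := c'
  have hφS : φ ≫ H.hom = g := by
    obtain ⟨w, -, hu⟩ := SGA1Q.desc_existsUnique_isQuot hq.isQuot (WidePullback.base (fun _ : Fin n => f))
      (fun σ => permHom_base f n σ.down)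
    rw [hu (φ ≫ H.hom) (by beta_reduce; rw [reassoc_of% hφ]; exact Over.w m), hu g hq.over]
  obtain ⟨hgp, hgs⟩ := SymCurve.isProper_and_smooth f hAF hq
  haveI := hgp
  haveI := hgs
  haveI : IsSeparated H.hom := S1167.result f n H Z hZ
  haveI : IsProper (φ ≫ H.hom) := hφS.symm ▸ hgp
  haveI : IsProper φ := IsProper.of_comp φ H.hom
  haveI : Smooth H.hom := RelCurveDiv.smooth_of_isUniversal f hrep n H Z hZ
  haveI : IsLocallyNoetherian H.left := LocallyOfFiniteType.isLocallyNoetherian H.hom
  haveI : LocallyOfFinitePresentation φ :=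
    LocallyOfFinitePresentation.iff_locallyOfFiniteType.2 inferInstance
  haveI : Surjective q := ⟨SGA1Q.surjective hq.isQuot⟩
  haveI : LocallyQuasiFinite φ := LocallyQuasiFinite.of_finite_preimage_singleton φ fun x => by
    have h1 : (m.left ⁻¹' {x}).Finite := m.left.finite_preimage_singleton x
    refine (h1.image q.base).subset fun y hy => ?_
    obtain ⟨z, rfl⟩ := q.surjective y
    refine ⟨z, ?_, rfl⟩
    show m.left z ∈ ({x} : Set _)
    rw [← hφ]
    exact hy
  haveI : IsFinite φ := IsFinite.of_isProper_of_locallyQuasiFinite φ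
  haveI : Flat φ := Flat.of_stalkMap φ fun y => by
    obtain ⟨z, rfl⟩ := q.surjective y
    exact SrcDescent.flat_of_flat_comp q φ z (hφ.symm ▸ b)
  haveI : IsIso φ := by
    rw [Scheme.Hom.isIso_iff_finrank_eq]
    funext y
    have h2 := EtSplit24.finrank_comp_const q φ n.factorial e₂ y
    rw [show (q ≫ φ).finrank y = n.factorial by rw [show q ≫ φ = m.left from hφ]; exact e₁ y] at h2
    exact Nat.eq_of_mul_eq_mul_left n.factorial_pos (h2.symm.trans (mul_one _).symm)
  let j : Over.mk g ⟶ H := Over.homMk φ hφS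
  haveI : IsIso j := by
    haveI : IsIso ((Over.forget S).map j) := inferInstanceAs (IsIso φ)
    exact isIso_of_reflects_iso j (Over.forget S)
  refine ⟨⟨_, isFinLocFreeOfDeg_pull f j Z.1 Z.2⟩, fun T Z' => ?_, ?_⟩
  · obtain ⟨k, hk, hku⟩ := hZ T Z'
    refine ⟨k ≫ inv j, ?_, fun k' hk' => ?_⟩
    · show HilbD.pull f (k ≫ inv j) (HilbD.pull f j Z.1) = Z'.1
      rw [pull_pull, Category.assoc, IsIso.inv_hom_id, Category.comp_id]
      exact hk
    · have h1 : k' ≫ j = k := hku _ (by
        show HilbD.pull f (k' ≫ j) Z.1 = Z'.1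
        rw [← pull_pull]; exact hk')
      rw [← h1, Category.assoc, IsIso.hom_inv_id, Category.comp_id]
  · show HilbD.pull f _ (HilbD.pull f j Z.1) = _
    rw [pull_pull, show (Over.homMk q hq.over : powOver f n ⟶ Over.mk g) ≫ j = m from Over.OverMorphism.ext hφ]
    exact hm

omit [IsSeparated f] [SmoothOfRelativeDimension 1 f] in
/-- An ideal sheaf is determined by its inverse image along a faithfully flat quasi-compact morphism. -/
theorem eq_of_comap_eq {P Q : Scheme.{u}} (p : Q ⟶ P) [Flat p] [Surjective p] [QuasiCompact p]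
    {I J : P.IdealSheafData} (h : I.comap p = J.comap p) : I = J := by
  have hcov : Presieve.ofArrows (fun _ : PUnit.{u + 1} => Q) (fun _ => p) ∈ Scheme.fpqcPrecoverage P := by
    rw [Presieve.ofArrows_pUnit]
    exact p.singleton_mem_fpqcPrecoverage
  exact (DescLib.existsUnique_descend_fpqc (fun _ : PUnit.{u + 1} => p) hcov (fun _ => J.comap p) fun _ _ => by
    rw [← Scheme.IdealSheafData.comap_comp, ← Scheme.IdealSheafData.comap_comp, pullback.condition]).unique
      (fun _ => h) (fun _ => rfl)

end Groth.Agent.H23.SymHilb
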