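import Groth.Agent.H23.SymBox
import Groth.Agent.H23.AffineFinset

/-!
Near every point a fibre power is, compatibly with the stabiliser, a localisation of a tensor power.
-/

set_option autoImplicit false
set_option backward.isDefEq.respectTransparency false
set_option linter.style.haveILetI false

universe u

open CategoryTheory CategoryTheory.Limits AlgebraicGeometry TopologicalSpace
open scoped TensorProduct

namespace Groth.Agent.H23.SymLocal

open SymProd InvLoc SymBox

theorem isAway_comp {A B C : Type*} [CommRing A] [CommRing B] [CommRing C] {l₁ : A →+* B} {l₂ : B →+* C}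
    {e x : A} (h₁ : IsAway l₁ e) (h₂ : IsAway l₂ (l₁ x)) : IsAway (l₂.comp l₁) (e * x) := by
  refine ⟨?_, fun z => ?_, fun {a b} h => ?_⟩
  · show IsUnit (l₂ (l₁ (e * x)))
    rw [map_mul, map_mul]
    exact (h₁.isUnit.map l₂).mul h₂.isUnit
  · obtain ⟨n, y, hy⟩ := h₂.surj z
    obtain ⟨m, a, ha⟩ := h₁.surj y
    refine ⟨m + n, a * e ^ n * x ^ m, ?_⟩
    show z * l₂ (l₁ (e * x)) ^ (m + n) = l₂ (l₁ (a * e ^ n * x ^ m))
    simp only [map_mul, map_pow, ← ha, ← hy]
    ring
  · obtain ⟨n, hn⟩ := h₂.eq h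
    have hn' : l₁ (x ^ n * a) = l₁ (x ^ n * b) := by simpa only [map_mul, map_pow] using hn
    obtain ⟨m, hm⟩ := h₁.eq hn'
    refine ⟨m + n, ?_⟩
    linear_combination x ^ m * e ^ n * hm

theorem eq_of_specializes_apply {α : Type*} [TopologicalSpace α] [T0Space α] {φ : α → α} (hφ : Continuous φ)
    {N : ℕ} (hN : 0 < N) {a : α} (hfix : φ^[N] a = a) (h : a ⤳ φ a) : φ a = a := by
  have hk : ∀ k, φ a ⤳ φ^[k + 1] a := by
    intro k
    induction k with
    | zero => exact specializes_rfl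
    | succ k ih =>
      refine ih.trans ?_
      have := h.map (hφ.iterate (k + 1))
      rwa [← Function.iterate_succ_apply] at this
  obtain ⟨k, rfl⟩ : ∃ k, N = k + 1 := ⟨N - 1, by omega⟩
  have h2 := hk k
  rw [hfix] at h2
  exact ((h2.antisymm h) : Inseparable (φ a) a).eq

section ActLemmas

variable {P S : Scheme.{u}} {β : P ⟶ S} {V : S.Opens} {G : Type*} [Group G] (a : Act β G) {O : P.Opens}
  (hO : O ≤ β ⁻¹ᵁ V) (hinv : ∀ g, a.hom g ⁻¹ᵁ O = O)

theorem hom_hom (g h : G) (x : P) : (a.hom g).base ((a.hom h).base x) = (a.hom (g * h)).base x := by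
  rw [a.mul]
  rfl

theorem hom_one_apply (x : P) : (a.hom 1).base x = x := by
  rw [a.one]
  rfl

theorem eq_of_specializes_hom [Finite G] {g : G} {x : P} (h : x ⤳ (a.hom g).base x) : (a.hom g).base x = x := by
  refine eq_of_specializes_apply (a.hom g).continuous (orderOf_pos g) ?_ h
  have : ∀ n : ℕ, (⇑(a.hom g))^[n] x = (a.hom (g ^ n)).base x := by
    intro n
    induction n with
    | zero => rw [pow_zero, hom_one_apply]; rfl
    | succ n ih =>
      rw [Function.iterate_succ_apply', ih, pow_succ']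
      exact hom_hom a g (g ^ n) x
  rw [this, pow_orderOf_eq_one, hom_one_apply]

theorem mem_basicOpen_secAct (g : G) (t : Γ(P, O)) (x : P) :
    letI := secAlg β hO
    x ∈ P.basicOpen (secAct a hO hinv g t) ↔ (a.hom g⁻¹).base x ∈ P.basicOpen t := by
  letI := secAlg β hO
  rw [secAct_apply, Scheme.basicOpen_appLE]
  refine ⟨fun h => h.2, fun h => ⟨?_, h⟩⟩
  have h' : x ∈ a.hom g⁻¹ ⁻¹ᵁ O := P.basicOpen_le t h
  rwa [hinv] at h'

theorem preimage_basicOpen_of_inv (t : Γ(P, O))
    (ht : letI := secAlg β hO; t ∈ InvLoc.inv (secAct a hO hinv)) (g : G) :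
    a.hom g ⁻¹ᵁ P.basicOpen t = P.basicOpen t := by
  letI := secAlg β hO
  refine Opens.ext (Set.ext fun x => ?_)
  show (a.hom g).base x ∈ P.basicOpen t ↔ x ∈ P.basicOpen t
  conv_rhs => rw [← ht g⁻¹]
  rw [mem_basicOpen_secAct, inv_inv]

theorem exists_inv_basicOpen [Finite G] (g₀ : Γ(P, O)) :
    letI := secAlg β hO
    ∃ t, t ∈ InvLoc.inv (secAct a hO hinv) ∧
      ∀ x, x ∈ P.basicOpen t ↔ x ∈ O ∧ ∀ g, (a.hom g).base x ∈ P.basicOpen g₀ := by
  classical
  letI := secAlg β hO
  cases nonempty_fintype G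
  refine ⟨∏ g, secAct a hO hinv g g₀, fun h => ?_, fun x => ?_⟩
  · rw [map_prod]
    refine Fintype.prod_equiv (Equiv.mulLeft h) _ _ fun g => ?_
    rw [← AlgEquiv.mul_apply, ← map_mul]
    rfl
  · have key : ∀ s : Finset G, x ∈ P.basicOpen (∏ g ∈ s, secAct a hO hinv g g₀) ↔
        x ∈ O ∧ ∀ g ∈ s, (a.hom g⁻¹).base x ∈ P.basicOpen g₀ := by
      intro s
      induction s using Finset.induction_on with
      | empty =>
        rw [Finset.prod_empty, Scheme.basicOpen_of_isUnit _ isUnit_one]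
        simp
      | @insert b s hb ih =>
        rw [Finset.prod_insert hb, Scheme.basicOpen_mul, Finset.forall_mem_insert, TopologicalSpace.Opens.mem_inf, ih,
          mem_basicOpen_secAct]
        tauto
    rw [key Finset.univ]
    exact and_congr Iff.rfl ⟨fun h g => by simpa using h g⁻¹ (Finset.mem_univ _), fun h g _ => h g⁻¹⟩

end ActLemmas

variable {X S : Scheme.{u}} (f : X ⟶ S) (d : ℕ)

/-- A chart near a point, adapted to the stabiliser of its coincidence pattern. -/
structure Loc {V : S.Opens} {O : (fibPow f d).Opens} (hO : O ≤ (WidePullback.base (fun _ : Fin d => f)) ⁻¹ᵁ V)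
    (hinv : ∀ σ, permHom f d σ ⁻¹ᵁ O = O) (z : fibPow f d) where
  c : Fin d → Fin d
  U : Fin d → X.Opens
  hU : ∀ j, IsAffineOpen (U j)
  hUV : ∀ j, U j ≤ f ⁻¹ᵁ V
  D : (fibPow f d).Opens
  t : Γ(fibPow f d, O)
  hDt : D = (fibPow f d).basicOpen t
  hzD : z ∈ D
  ht : letI := secAlg (WidePullback.base (fun _ : Fin d => f)) hO
    t ∈ InvLoc.inv (res (secAct (powAct f d) hO hinv) (stab d c))
  translate : ∀ σ, σ ∉ stab d c → z ∉ permHom f d σ ⁻¹ᵁ (fibPow f d).basicOpen t
  le_box : D ≤ box f d V U c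
  x : letI := chartAlg hUV
    ⨂[Γ(S, V)] _ : Fin d, prodRing U
  hx : letI := chartAlg hUV
    x ∈ InvLoc.inv (res (SymSpan.permAlg Γ(S, V) (prodRing U) d) (stab d c))
  hDx : letI := chartAlg hUV
    D = (fibPow f d).basicOpen (theta d c hUV x)

variable {f d}

set_option maxHeartbeats 800000 in
theorem exists_loc {V : S.Opens} (hV : IsAffineOpen V) {O : (fibPow f d).Opens} (hOaff : IsAffineOpen O)
    (hO : O ≤ (WidePullback.base (fun _ : Fin d => f)) ⁻¹ᵁ V) (hinv : ∀ σ, permHom f d σ ⁻¹ᵁ O = O)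
    {z : fibPow f d} (hz : z ∈ O) : Nonempty (Loc f d hO hinv z) := by
  classical
  let β := WidePullback.base (fun _ : Fin d => f)
  let xs : Fin d → X := fun i => (WidePullback.π (fun _ : Fin d => f) i).base z
  let c : Fin d → Fin d := fun i => @Function.invFun _ _ ⟨i⟩ xs (xs i)
  have hc : ∀ i, xs (c i) = xs i := fun i => @Function.invFun_eq _ _ ⟨i⟩ _ _ ⟨i, rfl⟩
  have hcc : ∀ i j, xs i = xs j → c i = c j := fun i j h => by
    show @Function.invFun _ _ ⟨i⟩ xs (xs i) = @Function.invFun _ _ ⟨j⟩ xs (xs j)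
    rw [h]
  have hbase : ∀ i, f.base (xs i) ∈ V := fun i => by
    show f.base ((WidePullback.π (fun _ : Fin d => f) i).base z) ∈ V
    rw [SymAF.base_π f d z i]
    exact hO hz
  choose U hU hxU hUV' using fun j => exists_isAffineOpen_mem_and_subset (x := xs j) (U := f ⁻¹ᵁ V) (hbase j)
  have hUV : ∀ j, U j ≤ f ⁻¹ᵁ V := hUV'
  let H := stab d c
  let a := powAct f d
  let aH := a.comap H.subtype
  have hWinv : ∀ h : H, aH.hom h ⁻¹ᵁ box f d V U c = box f d V U c := fun h =>
    permHom_preimage_box (f := f) (V := V) (U := U) (c := c) h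
  have hW : IsAffineOpen (box f d V U c) := isAffineOpen_box hV hU hUV
  have hzW : z ∈ box f d V U c := mem_box.2 ⟨hO hz, fun i => by
    show xs i ∈ U (c i)
    rw [← hc i]
    exact hxU (c i)⟩
  have hfix : ∀ σ : Equiv.Perm (Fin d), (a.hom σ).base z = z → σ ∈ H := fun σ hσ i => by
    refine hcc _ _ ?_
    have h1 : (WidePullback.π (fun _ : Fin d => f) (σ i)).base ((a.hom σ).base z) = xs i := by
      show (permHom f d σ ≫ WidePullback.π (fun _ : Fin d => f) (σ i)).base z = xs i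
      rw [permHom_π, Equiv.symm_apply_apply]
    rw [hσ] at h1
    exact h1
  let P₁ : Finset (fibPow f d) := (Finset.univ : Finset H).image fun h => (aH.hom h).base z
  obtain ⟨g₁, hg₁O, hg₁⟩ := AffineFinset.exists_basicOpen_le hW O P₁
    (fun y hy => by
      obtain ⟨h, -, rfl⟩ := Finset.mem_image.1 hy
      exact (hWinv h).ge hzW)
    (fun y hy => by
      obtain ⟨h, -, rfl⟩ := Finset.mem_image.1 hy
      exact (hinv h.1).ge hz)
  obtain ⟨b, hb, hDb⟩ := exists_inv_basicOpen aH (box_le_base (U := U) (V := V) (c := c)) hWinv g₁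
  let Da := (fibPow f d).basicOpen b
  have hDaO : Da ≤ O := fun y hy => by
    have h := ((hDb y).1 hy).2 1
    rw [hom_one_apply] at h
    exact hg₁O h
  have hDaW : Da ≤ box f d V U c := (fibPow f d).basicOpen_le b
  have hDainv : ∀ h : H, aH.hom h ⁻¹ᵁ Da = Da := preimage_basicOpen_of_inv aH _ hWinv b hb
  have hzDa : ∀ h : H, (aH.hom h).base z ∈ Da := fun h => (hDainv h).ge ((hDb z).2
    ⟨hzW, fun g => hg₁ _ (Finset.mem_image.2 ⟨g, Finset.mem_univ _, rfl⟩)⟩)
  let N : (fibPow f d).Opens := (Finset.univ.filter fun σ : Equiv.Perm (Fin d) => σ ∉ H).inf fun σ =>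
    ⟨(closure {(a.hom σ).base z})ᶜ, isClosed_closure.isOpen_compl⟩
  have hN : ∀ y, y ∈ N ↔ ∀ σ : Equiv.Perm (Fin d), σ ∉ H → y ∉ closure {(a.hom σ).base z} := by
    intro y
    have h : ∀ s : Finset (Equiv.Perm (Fin d)),
        y ∈ (s.inf fun σ => (⟨(closure {(a.hom σ).base z})ᶜ, isClosed_closure.isOpen_compl⟩ : (fibPow f d).Opens)) ↔
          ∀ σ ∈ s, y ∉ closure {(a.hom σ).base z} := by
      intro s
      induction s using Finset.induction_on with
      | empty => simp
      | @insert b s hb ih =>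
        rw [Finset.inf_insert, Finset.forall_mem_insert, ← ih]
        exact Iff.rfl
    exact (h _).trans (by simp)
  have hzN : ∀ h : H, (aH.hom h).base z ∈ N := fun h => (hN _).2 fun σ hσ hmem => by
    have hsp : (a.hom σ).base z ⤳ (a.hom h.1).base z := specializes_iff_mem_closure.2 hmem
    have hmove : (a.hom (h.1 * σ⁻¹)).base ((a.hom σ).base z) = (a.hom h.1).base z := by
      rw [hom_hom, mul_assoc, inv_mul_cancel, mul_one]
    rw [← hmove] at hsp
    have heq := (eq_of_specializes_hom a hsp).symm.trans hmove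
    have h3 : (a.hom (σ⁻¹ * h.1)).base z = z := by
      rw [← hom_hom, ← heq, hom_hom, inv_mul_cancel, hom_one_apply]
    have h4 := H.mul_mem h.2 (H.inv_mem (hfix _ h3))
    rw [mul_inv_rev, inv_inv, ← mul_assoc, mul_inv_cancel, one_mul] at h4
    exact hσ h4
  obtain ⟨g₂, hg₂, hg₂'⟩ := AffineFinset.exists_basicOpen_le hOaff (Da ⊓ N) P₁
    (fun y hy => by
      obtain ⟨h, -, rfl⟩ := Finset.mem_image.1 hy
      exact (hinv h.1).ge hz)
    (fun y hy => by
      obtain ⟨h, -, rfl⟩ := Finset.mem_image.1 hy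
      exact ⟨hzDa h, hzN h⟩)
  obtain ⟨t, ht, hDt⟩ := exists_inv_basicOpen aH hO (fun h => hinv h.1) g₂
  have hDle : (fibPow f d).basicOpen t ≤ Da ⊓ N := fun y hy => by
    have h := ((hDt y).1 hy).2 1
    rw [hom_one_apply] at h
    exact hg₂ h
  have hDaβ : Da ≤ β ⁻¹ᵁ V := hDaO.trans hO
  letI := secAlg β hDaβ
  letI := secAlg β hO
  letI := secAlg β (box_le_base (f := f) (d := d) (U := U) (V := V) (c := c))
  letI := chartAlg hUV
  have hAwA : IsAway (resAlg (D := Da) (box_le_base (U := U) (V := V) (c := c)) hDaβ hDaW).toRingHom b :=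
    isAway_res hW hDaW b rfl
  have htA : resAlg hO hDaβ hDaO t ∈ InvLoc.inv (secAct aH hDaβ hDainv) := fun h => by
    refine (res_secAct a hO hinv H.subtype hDaβ hDaO hDainv h t).symm.trans ?_
    exact congrArg (fun y => (resAlg hO hDaβ hDaO) y) (ht h)
  obtain ⟨n, y, hy, hyt⟩ := hAwA.exists_inv_lift (σ := secAct aH (box_le_base (U := U) (V := V) (c := c)) hWinv)
    (σC := secAct aH hDaβ hDainv)
    (fun h x => res_secAct aH (box_le_base (U := U) (V := V) (c := c)) hWinv (MonoidHom.id H) hDaβ hDaW hDainv h x)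
    hb htA
  obtain ⟨m, x, hx, hxy⟩ := (isAway_theta (d := d) (c := c) hUV hV hU).exists_inv_lift
    (σ := res (SymSpan.permAlg Γ(S, V) (prodRing U) d) H)
    (σC := secAct aH (box_le_base (U := U) (V := V) (c := c)) hWinv)
    (fun h x => theta_perm hUV h x) (idem_mem_stab hUV) ((InvLoc.inv _).mul_mem hb hy)
  rw [theta_idem, one_pow, mul_one] at hxy
  refine ⟨⟨c, U, hU, hUV, _, t, rfl, (hDt z).2 ⟨hz, fun g => hg₂' _ (Finset.mem_image.2 ⟨g, Finset.mem_univ _, rfl⟩)⟩,
    ht, fun σ hσ hmem => ?_, hDle.trans (inf_le_left.trans hDaW), x, hx, ?_⟩⟩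
  · exact (hN _).1 (hDle hmem).2 σ hσ (subset_closure rfl)
  · rw [← hxy, Scheme.basicOpen_mul]
    have h1 : (fibPow f d).basicOpen (resAlg hO hDaβ hDaO t) = Da ⊓ (fibPow f d).basicOpen t :=
      Scheme.basicOpen_res _ _ _
    have h2 : (fibPow f d).basicOpen (resAlg (box_le_base (U := U) (V := V) (c := c)) hDaβ hDaW y) =
        Da ⊓ (fibPow f d).basicOpen y := Scheme.basicOpen_res _ _ _
    have h3 : (fibPow f d).basicOpen (resAlg (box_le_base (U := U) (V := V) (c := c)) hDaβ hDaW b) = Da :=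
      (Scheme.basicOpen_res _ _ _).trans (inf_eq_left.2 le_rfl)
    rw [← hyt, Scheme.basicOpen_mul] at h2
    rcases Nat.eq_zero_or_pos n with rfl | hn
    · rw [pow_zero, Scheme.basicOpen_of_isUnit _ isUnit_one] at h2
      rw [← inf_eq_right.2 (hDle.trans inf_le_left), ← h1]
      exact (inf_eq_left.2 ((fibPow f d).basicOpen_le _)).symm.trans h2
    · rw [(fibPow f d).basicOpen_pow _ hn, h3, h1] at h2
      rw [← inf_eq_right.2 (hDle.trans inf_le_left), ← h2, inf_eq_left.2 inf_le_left]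

end Groth.Agent.H23.SymLocal
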