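import Mathlib.RingTheory.Etale.Locus
import Mathlib.RingTheory.PiTensorProduct
import Mathlib.Algebra.MvPolynomial.Eval
import Mathlib.RingTheory.Nilpotent.Lemmas

/-!
Tensor powers of algebras through their universal property; formal étaleness of the power of an
étale coordinate.
-/

set_option autoImplicit false
set_option backward.isDefEq.respectTransparency false
set_option linter.style.haveILetI false

universe u

open scoped TensorProduct

namespace Groth.Agent.H23.SymPowAlg

variable {R A B : Type u} [CommRing R] [CommRing A] [CommRing B] [Algebra R A] [Algebra R B] {n : ℕ}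

/-- `B` with the maps `ι i` is a coproduct of `n` copies of `A` among commutative `R`-algebras. -/
def IsPow (ι : Fin n → A →ₐ[R] B) : Prop :=
  ∀ (E : Type u) [CommRing E] [Algebra R E] (f : Fin n → A →ₐ[R] E), ∃! h : B →ₐ[R] E, ∀ i, h.comp (ι i) = f i

theorem isPow_piTensor :
    IsPow (fun i : Fin n => (PiTensorProduct.singleAlgHom (R := R) (A := fun _ : Fin n => A) i)) := by
  classical
  intro E _ _ f
  let h : (⨂[R] _ : Fin n, A) →ₐ[R] E :=
    PiTensorProduct.liftAlgHom ((MultilinearMap.mkPiAlgebra R (Fin n) E).compLinearMap fun i => (f i).toLinearMap)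
      (by simp) (fun x y => by simp [Finset.prod_mul_distrib])
  have hh : ∀ i, h.comp (PiTensorProduct.singleAlgHom (R := R) (A := fun _ : Fin n => A) i) = f i := fun i =>
    AlgHom.ext fun b => by
      rw [AlgHom.comp_apply, PiTensorProduct.singleAlgHom_apply]
      show PiTensorProduct.lift _ (PiTensorProduct.tprod R (Pi.mulSingle (M := fun _ : Fin n => A) i b)) = _
      rw [PiTensorProduct.lift.tprod, MultilinearMap.compLinearMap_apply, MultilinearMap.mkPiAlgebra_apply]
      rw [Finset.prod_eq_single i (fun j _ hj => by simp [Pi.mulSingle_eq_of_ne hj]) (by simp), Pi.mulSingle_eq_same]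
      rfl
  exact ⟨h, hh, fun k hk => PiTensorProduct.algHom_ext fun i => (hk i).trans (hh i).symm⟩

variable {ι : Fin n → A →ₐ[R] B} (hι : IsPow ι)

include hι in
theorem IsPow.hom_ext {E : Type u} [CommRing E] [Algebra R E] {f g : B →ₐ[R] E}
    (h : ∀ i, f.comp (ι i) = g.comp (ι i)) : f = g :=
  (hι E fun i => g.comp (ι i)).unique h fun _ => rfl

/-- The permutation of the factors. -/
noncomputable def IsPow.perm (g : Equiv.Perm (Fin n)) : B →ₐ[R] B := (hι B fun i => ι (g i)).choose

theorem IsPow.perm_comp (g : Equiv.Perm (Fin n)) (i : Fin n) : (hι.perm g).comp (ι i) = ι (g i) :=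
  (hι B fun i => ι (g i)).choose_spec.1 i

theorem IsPow.perm_ι (g : Equiv.Perm (Fin n)) (i : Fin n) (a : A) : hι.perm g (ι i a) = ι (g i) a :=
  AlgHom.congr_fun (hι.perm_comp g i) a

theorem IsPow.perm_one : hι.perm 1 = AlgHom.id R B :=
  hι.hom_ext fun i => by rw [hι.perm_comp]; rfl

theorem IsPow.perm_mul (g g' : Equiv.Perm (Fin n)) : hι.perm (g * g') = (hι.perm g).comp (hι.perm g') :=
  hι.hom_ext fun i => by rw [AlgHom.comp_assoc, hι.perm_comp, hι.perm_comp, hι.perm_comp]; rfl

section BaseChange

attribute [local instance] MvPolynomial.algebraMvPolynomial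

variable (τ : Type u)

/-- The factors after adjoining variables. -/
noncomputable def baseι (ι : Fin n → A →ₐ[R] B) (i : Fin n) :
    MvPolynomial τ A →ₐ[MvPolynomial τ R] MvPolynomial τ B where
  __ := MvPolynomial.map (ι i).toRingHom
  commutes' p := by
    show MvPolynomial.map (ι i).toRingHom (MvPolynomial.map (algebraMap R A) p) = MvPolynomial.map (algebraMap R B) p
    rw [MvPolynomial.map_map]
    exact congrArg (fun φ : R →+* B => MvPolynomial.map φ p) (ι i).comp_algebraMap

theorem baseι_apply (i : Fin n) (p : MvPolynomial τ A) : baseι τ ι i p = MvPolynomial.map (ι i).toRingHom p := rfl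

include hι in
theorem IsPow.baseChange : IsPow (baseι τ ι) := by
  intro E _ _ f
  letI : Algebra R E := ((algebraMap (MvPolynomial τ R) E).comp MvPolynomial.C).toAlgebra
  let f₀ : Fin n → A →ₐ[R] E := fun i =>
    { (f i).toRingHom.comp MvPolynomial.C with
      commutes' := fun r => by
        show f i (MvPolynomial.C (algebraMap R A r)) = algebraMap (MvPolynomial τ R) E (MvPolynomial.C r)
        rw [← (f i).commutes]
        exact congrArg (f i) (MvPolynomial.map_C _ _).symm }
  obtain ⟨h₀, hh₀, huniq⟩ := hι E f₀
  let H₀ : MvPolynomial τ B →+* E :=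
    MvPolynomial.eval₂Hom h₀.toRingHom fun j => algebraMap (MvPolynomial τ R) E (MvPolynomial.X j)
  have hH₀ : ∀ p, H₀ (algebraMap (MvPolynomial τ R) (MvPolynomial τ B) p) = algebraMap (MvPolynomial τ R) E p := by
    intro p
    show H₀ (MvPolynomial.map (algebraMap R B) p) = _
    rw [MvPolynomial.eval₂Hom_map_hom]
    refine RingHom.congr_fun (MvPolynomial.ringHom_ext (fun r => ?_) fun j => ?_) p
    · rw [MvPolynomial.eval₂Hom_C]
      exact h₀.commutes r
    · rw [MvPolynomial.eval₂Hom_X']
  let H : MvPolynomial τ B →ₐ[MvPolynomial τ R] E := { H₀ with commutes' := hH₀ }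
  have hHX : ∀ (i : Fin n) (j : τ), f i (MvPolynomial.X j) = algebraMap (MvPolynomial τ R) E (MvPolynomial.X j) := by
    intro i j
    rw [← (f i).commutes]
    exact congrArg (f i) (MvPolynomial.map_X _ _).symm
  refine ⟨H, fun i => AlgHom.ext fun p => RingHom.congr_fun (f := (H.comp (baseι τ ι i)).toRingHom)
    (g := (f i).toRingHom) (MvPolynomial.ringHom_ext (fun a => ?_) fun j => ?_) p, fun K hK => ?_⟩
  · show H₀ (MvPolynomial.map (ι i).toRingHom (MvPolynomial.C a)) = f i (MvPolynomial.C a)
    rw [MvPolynomial.map_C, MvPolynomial.eval₂Hom_C]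
    exact AlgHom.congr_fun (hh₀ i) a
  · show H₀ (MvPolynomial.map (ι i).toRingHom (MvPolynomial.X j)) = f i (MvPolynomial.X j)
    rw [MvPolynomial.map_X, MvPolynomial.eval₂Hom_X', hHX]
  · let K₀ : B →ₐ[R] E :=
      { K.toRingHom.comp MvPolynomial.C with
        commutes' := fun r => by
          show K (MvPolynomial.C (algebraMap R B r)) = algebraMap (MvPolynomial τ R) E (MvPolynomial.C r)
          rw [← K.commutes]
          exact congrArg K (MvPolynomial.map_C _ _).symm }
    have hK₀ : K₀ = h₀ := huniq K₀ fun i => AlgHom.ext fun a => by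
      show K (MvPolynomial.C (ι i a)) = f i (MvPolynomial.C a)
      rw [← hK i, AlgHom.comp_apply, baseι_apply, MvPolynomial.map_C]
      rfl
    refine AlgHom.ext fun p => RingHom.congr_fun (f := K.toRingHom) (g := H₀)
      (MvPolynomial.ringHom_ext (fun b => ?_) fun j => ?_) p
    · rw [MvPolynomial.eval₂Hom_C]
      exact AlgHom.congr_fun hK₀ b
    · rw [MvPolynomial.eval₂Hom_X']
      show K (MvPolynomial.X j) = _
      rw [← K.commutes]
      exact congrArg K (MvPolynomial.map_X _ _).symm

end BaseChange

theorem existsUnique_lift {P A E : Type u} [CommRing P] [CommRing A] [CommRing E] [Algebra P A] [Algebra P E]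
    (g : A) [Algebra.FormallyEtale P (Localization.Away g)] (I : Ideal E) (hI : I ^ 2 = ⊥)
    (f : A →ₐ[P] E ⧸ I) (hg : IsUnit (f g)) :
    ∃! l : A →ₐ[P] E, (Ideal.Quotient.mkₐ P I).comp l = f := by
  have hu : ∀ (C : Type u) [CommRing C] [Algebra P C] (φ : A →ₐ[P] C), IsUnit (φ g) →
      ∀ y : Submonoid.powers g, IsUnit (φ y) := by
    rintro C _ _ φ hφ ⟨_, k, rfl⟩
    simp only [map_pow]
    exact hφ.pow k
  let F : Localization.Away g →ₐ[P] E ⧸ I := IsLocalization.liftAlgHom (hu _ f hg)
  obtain ⟨L, hL⟩ := (Algebra.FormallyEtale.comp_bijective P (Localization.Away g) I hI).2 F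
  refine ⟨L.comp (IsScalarTower.toAlgHom P A (Localization.Away g)), AlgHom.ext fun a => ?_, fun l hl => ?_⟩
  · show Ideal.Quotient.mkₐ P I (L (algebraMap A _ a)) = f a
    refine (AlgHom.congr_fun hL _).trans ?_
    exact IsLocalization.lift_eq _ a
  · have hlg : IsUnit (l g) := by
      have : IsUnit (Ideal.Quotient.mk I (l g)) := by
        have := AlgHom.congr_fun hl g
        rw [AlgHom.comp_apply, Ideal.Quotient.mkₐ_eq_mk] at this
        rwa [this]
      exact (IsNilpotent.isUnit_quotient_mk_iff ⟨2, hI⟩).1 this
    let L' : Localization.Away g →ₐ[P] E := IsLocalization.liftAlgHom (hu _ l hlg)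
    have h : L' = L := (Algebra.FormallyEtale.comp_bijective P (Localization.Away g) I hI).1 (by
      refine (IsLocalization.algHom_ext (Submonoid.powers g) (AlgHom.ext fun a => ?_)).trans hL.symm
      show Ideal.Quotient.mkₐ P I (L' (algebraMap A _ a)) = F (algebraMap A _ a)
      rw [show L' (algebraMap A _ a) = l a from IsLocalization.lift_eq _ a,
        show F (algebraMap A _ a) = f a from IsLocalization.lift_eq _ a]
      exact AlgHom.congr_fun hl a)
    rw [← h]
    exact AlgHom.ext fun a => (IsLocalization.lift_eq _ a).symm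

include hι in
/-- The power of an étale coordinate is étale. -/
theorem IsPow.formallyEtale [Algebra (Polynomial R) A] [IsScalarTower R (Polynomial R) A]
    [Algebra (MvPolynomial (Fin n) R) B] [IsScalarTower R (MvPolynomial (Fin n) R) B]
    (hx : ∀ i, algebraMap (MvPolynomial (Fin n) R) B (MvPolynomial.X i) =
      ι i (algebraMap (Polynomial R) A Polynomial.X))
    (g : Fin n → A) (hg : ∀ i, Algebra.FormallyEtale (Polynomial R) (Localization.Away (g i))) :
    Algebra.FormallyEtale (MvPolynomial (Fin n) R) (Localization.Away (∏ i, ι i (g i))) := by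
  set G := ∏ i, ι i (g i)
  refine Algebra.FormallyEtale.iff_comp_bijective.mpr fun E _ _ I hI => ?_
  letI : Algebra R E := Algebra.compHom E (algebraMap R (MvPolynomial (Fin n) R))
  haveI : IsScalarTower R (MvPolynomial (Fin n) R) E := IsScalarTower.of_algebraMap_eq' rfl
  let φ : Fin n → Polynomial R →ₐ[R] E := fun i =>
    Polynomial.aeval (algebraMap (MvPolynomial (Fin n) R) E (MvPolynomial.X i))
  have key : ∀ (C : Type u) [CommRing C] [Algebra R C] [Algebra (MvPolynomial (Fin n) R) C]
      [IsScalarTower R (MvPolynomial (Fin n) R) C] (F : Localization.Away G →ₐ[MvPolynomial (Fin n) R] C) (i : Fin n)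
      (p : Polynomial R), F (algebraMap B _ (ι i (algebraMap (Polynomial R) A p))) =
        Polynomial.aeval (algebraMap (MvPolynomial (Fin n) R) C (MvPolynomial.X i)) p := by
    intro C _ _ _ _ F i p
    refine AlgHom.congr_fun (Polynomial.algHom_ext (f := ((F.restrictScalars R).comp (IsScalarTower.toAlgHom R B _)).comp
      ((ι i).comp (IsScalarTower.toAlgHom R (Polynomial R) A))) ?_) p
    simp only [AlgHom.comp_apply, Polynomial.aeval_X, IsScalarTower.coe_toAlgHom']
    rw [← hx, ← IsScalarTower.algebraMap_apply]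
    exact F.commutes _
  refine ⟨fun L L' hLL' => ?_, fun F => ?_⟩
  · refine IsLocalization.algHom_ext (Submonoid.powers G) (AlgHom.ext fun b => ?_)
    have : (L.restrictScalars R).comp (IsScalarTower.toAlgHom R B (Localization.Away G)) =
        (L'.restrictScalars R).comp (IsScalarTower.toAlgHom R B (Localization.Away G)) := by
      refine hι.hom_ext fun i => ?_
      letI : Algebra (Polynomial R) E := (φ i).toRingHom.toAlgebra
      haveI := hg i
      let l : (Localization.Away G →ₐ[MvPolynomial (Fin n) R] E) → (A →ₐ[Polynomial R] E) := fun L =>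
        { (L.toRingHom.comp (algebraMap B _)).comp (ι i).toRingHom with
          commutes' := key E L i }
      have hu : IsUnit (Ideal.Quotient.mkₐ (Polynomial R) I (l L' (g i))) := by
        refine IsUnit.map _ ?_
        show IsUnit (L' (algebraMap B _ (ι i (g i))))
        refine isUnit_of_dvd_unit (map_dvd _ (map_dvd _ (Finset.dvd_prod_of_mem (fun i => ι i (g i)) (Finset.mem_univ i)))) ?_
        exact (IsLocalization.Away.algebraMap_isUnit G).map L'
      have h2 := (existsUnique_lift (g i) I hI ((Ideal.Quotient.mkₐ (Polynomial R) I).comp (l L')) hu).unique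
        (y₁ := l L) (y₂ := l L') (AlgHom.ext fun a => AlgHom.congr_fun hLL' (algebraMap B _ (ι i a))) rfl
      exact AlgHom.ext fun a => AlgHom.congr_fun h2 a
    exact AlgHom.congr_fun this b
  · have hstep : ∀ i, ∃ l : A →ₐ[R] E, (∀ p, l (algebraMap (Polynomial R) A p) = φ i p) ∧
        ∀ a, Ideal.Quotient.mk I (l a) = F (algebraMap B _ (ι i a)) := by
      intro i
      letI : Algebra (Polynomial R) E := (φ i).toRingHom.toAlgebra
      haveI := hg i
      let f : A →ₐ[Polynomial R] E ⧸ I :=
        { (F.toRingHom.comp (algebraMap B _)).comp (ι i).toRingHom with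
          commutes' := fun p => (key (E ⧸ I) F i p).trans (Polynomial.aeval_algHom_apply (Ideal.Quotient.mkₐ R I) _ _) }
      have hu : IsUnit (f (g i)) := by
        show IsUnit (F (algebraMap B _ (ι i (g i))))
        refine isUnit_of_dvd_unit (map_dvd _ (map_dvd _ (Finset.dvd_prod_of_mem (fun i => ι i (g i)) (Finset.mem_univ i)))) ?_
        exact (IsLocalization.Away.algebraMap_isUnit G).map F
      obtain ⟨l, hl, -⟩ := existsUnique_lift (g i) I hI f hu
      refine ⟨{ l.toRingHom with commutes' := fun r => ?_ }, l.commutes, fun a => AlgHom.congr_fun hl a⟩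
      show l (algebraMap R A r) = _
      rw [IsScalarTower.algebraMap_apply R (Polynomial R) A, l.commutes]
      exact (φ i).commutes r
    choose l hlφ hlF using hstep
    obtain ⟨h, hh, -⟩ := hι E l
    have hhF : (Ideal.Quotient.mkₐ R I).comp h =
        (F.restrictScalars R).comp (IsScalarTower.toAlgHom R B (Localization.Away G)) :=
      hι.hom_ext fun i => AlgHom.ext fun a => by
        rw [AlgHom.comp_assoc, hh]
        exact hlF i a
    let hT : B →ₐ[MvPolynomial (Fin n) R] E :=
      { h.toRingHom with
        commutes' := fun q => by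
          refine AlgHom.congr_fun (φ₁ := h.comp (IsScalarTower.toAlgHom R (MvPolynomial (Fin n) R) B))
            (φ₂ := IsScalarTower.toAlgHom R (MvPolynomial (Fin n) R) E) (MvPolynomial.algHom_ext fun i => ?_) q
          rw [AlgHom.comp_apply, IsScalarTower.coe_toAlgHom', hx,
            show h (ι i (algebraMap (Polynomial R) A Polynomial.X)) = l i (algebraMap (Polynomial R) A Polynomial.X) from
              AlgHom.congr_fun (hh i) _, hlφ]
          exact Polynomial.aeval_X _ }
    have hu : ∀ y : Submonoid.powers G, IsUnit (hT y) := by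
      rintro ⟨_, k, rfl⟩
      refine (IsNilpotent.isUnit_quotient_mk_iff ⟨2, hI⟩).1 ?_
      show IsUnit (Ideal.Quotient.mkₐ R I (h (G ^ k)))
      rw [← AlgHom.comp_apply, hhF]
      exact (IsLocalization.map_units (Localization.Away G) (⟨G ^ k, k, rfl⟩ : Submonoid.powers G)).map F
    refine ⟨IsLocalization.liftAlgHom hu, IsLocalization.algHom_ext (Submonoid.powers G) (AlgHom.ext fun b => ?_)⟩
    show Ideal.Quotient.mk I (IsLocalization.liftAlgHom hu (algebraMap B _ b)) = _
    rw [show IsLocalization.liftAlgHom hu (algebraMap B _ b) = h b from IsLocalization.lift_eq _ b]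
    exact AlgHom.congr_fun hhF b

end Groth.Agent.H23.SymPowAlg
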