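import Groth.Agent.S13115
import Groth.Agent.S13117
import Groth.Agent.H23.SymPowAlg
import Mathlib.LinearAlgebra.Matrix.Block
import Mathlib.RingTheory.Norm.Basic
import Mathlib.RingTheory.TensorProduct.Free
import Mathlib.Algebra.Polynomial.Roots

/-!
The norm on symmetric tensors: a finite free family of algebras under `A` of total rank `d` gives a
ring map out of the symmetric tensors of degree `d`, with the expected values at rational points.
-/

set_option autoImplicit false
set_option backward.isDefEq.respectTransparency false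
set_option linter.style.haveILetI false

universe u

open scoped TensorProduct

namespace Groth.Agent.H23.SymNormAlg

variable {k A R : Type u} [Field k] [CommRing A] [CommRing R] [Algebra k A] [Algebra k R] {d : ℕ}

/-- A linear map with multiplicative determinant is a ring map on invariant tensors. -/
theorem exists_hom [Infinite k] (μ : A →ₗ[k] Matrix (Fin d) (Fin d) R)
    (hmul : ∀ a b, (μ (a * b)).det = (μ a).det * (μ b).det) (hone : (μ 1).det = 1)
    {C : Type u} [CommRing C] [Algebra k C] (L : C →ₐ[k] ⨂[k] _ : Fin d, A)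
    (hL : ∀ c, ∀ σ, PiTensorProduct.reindex k (fun _ : Fin d => A) σ (L c) = L c) :
    ∃ r : C →ₐ[k] R, ∀ (χ : R →ₐ[k] k) (e : Fin d → A →ₐ[k] k) (E : (⨂[k] _ : Fin d, A) →ₐ[k] k),
      (∀ i a, E (PiTensorProduct.singleAlgHom (R := k) (A := fun _ : Fin d => A) i a) = e i a) →
      (∀ a, χ (μ a).det = ∏ i, e i a) → ∀ c, χ (r c) = E (L c) := by
  classical
  let m : MultilinearMap k (fun _ : Fin d => A) R :=
    ((Matrix.detRowAlternating (n := Fin d) (R := R)).toMultilinearMap.restrictScalars k).compLinearMap
      fun i => (LinearMap.proj i : Matrix (Fin d) (Fin d) R →ₗ[k] _).comp μ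
  let ψ : (⨂[k] _ : Fin d, A) →ₗ[k] R := PiTensorProduct.lift m
  have hψ : ∀ a, ψ (PiTensorProduct.tprod k fun _ => a) = (μ a).det := fun a => by
    show PiTensorProduct.lift m _ = _
    rw [PiTensorProduct.lift.tprod]
    rfl
  let Sp := Submodule.span k (Set.range fun v : A => PiTensorProduct.tprod k (fun _ : Fin d => v))
  have hmem : ∀ c, L c ∈ Sp := fun c => S13115.result k A d (L c) (hL c)
  have hψmul : ∀ x ∈ Sp, ∀ y ∈ Sp, ψ (x * y) = ψ x * ψ y := by
    intro x hx y hy
    induction hx using Submodule.span_induction with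
    | mem x hx =>
      obtain ⟨a, rfl⟩ := hx
      induction hy using Submodule.span_induction with
      | mem y hy =>
        obtain ⟨b, rfl⟩ := hy
        simp only [PiTensorProduct.tprod_mul_tprod, hψ]
        rw [← hmul, ← hψ (a * b)]
        rfl
      | zero => simp
      | add y y' _ _ h h' => simp [mul_add, h, h']
      | smul c y _ h => simp [h]
    | zero => simp
    | add x x' _ _ h h' => simp [add_mul, h, h']
    | smul c x _ h => simp [h]
  have hψone : ψ 1 = 1 := by
    rw [PiTensorProduct.one_def, ← hone, ← hψ 1]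
    rfl
  let r : C →ₐ[k] R :=
    AlgHom.ofLinearMap (ψ.comp L.toLinearMap) (by simp [hψone])
      (fun a b => by
        simp only [LinearMap.comp_apply, AlgHom.toLinearMap_apply, map_mul]
        exact hψmul _ (hmem a) _ (hmem b))
  refine ⟨r, fun χ e E hE hχ c => ?_⟩
  show χ (ψ (L c)) = E (L c)
  have hEt : ∀ a, E (PiTensorProduct.tprod k fun _ : Fin d => a) = ∏ i, e i a := fun a => by
    have : PiTensorProduct.tprod k (fun _ : Fin d => a) =
        ∏ i, PiTensorProduct.singleAlgHom (R := k) (A := fun _ : Fin d => A) i a := by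
      simp only [PiTensorProduct.singleAlgHom_apply, MonoidHom.mulSingle_apply]
      rw [← PiTensorProduct.tprod_prod]
      congr 1
      funext j
      rw [Finset.prod_apply, Finset.prod_eq_single j (fun i _ hi => Pi.mulSingle_eq_of_ne' hi _) (by simp),
        Pi.mulSingle_eq_same]
    rw [this, map_prod]
    exact Finset.prod_congr rfl fun i _ => hE i a
  have key : ∀ x ∈ Sp, χ (ψ x) = E x := fun x hx => by
    induction hx using Submodule.span_induction with
    | mem x hx =>
      obtain ⟨a, rfl⟩ := hx
      rw [hψ, hχ, hEt]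
    | zero => simp
    | add x x' _ _ h h' => simp [h, h']
    | smul c x _ h => simp [h]
  exact key _ (hmem c)

theorem det_blockDiagonal' {m : ℕ} {n : Fin m → Type} [∀ i, Fintype (n i)] [∀ i, DecidableEq (n i)]
    (M : ∀ i, Matrix (n i) (n i) R) : (Matrix.blockDiagonal' M).det = ∏ i, (M i).det := by
  classical
  have hT : (Matrix.blockDiagonal' M).BlockTriangular Sigma.fst := by
    rintro ⟨i, a⟩ ⟨j, b⟩ h
    exact Matrix.blockDiagonal'_apply_ne M a b (ne_of_gt h)
  rw [hT.det_fintype]
  refine Finset.prod_congr rfl fun i _ => ?_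
  rw [← Matrix.det_reindex_self (Equiv.sigmaSubtype i : {s : (j : Fin m) × n j // s.1 = i} ≃ n i)]
  congr 1
  ext a b
  simp [Matrix.reindex_apply, Matrix.toSquareBlock_def, Matrix.blockDiagonal'_apply_eq, Equiv.sigmaSubtype]

/-- The matrix of a family of finite free algebras. -/
theorem exists_matrix {m : ℕ} (B : Fin m → Type u) [∀ j, CommRing (B j)] [∀ j, Algebra R (B j)]
    [∀ j, Algebra k (B j)] [∀ j, IsScalarTower k R (B j)] [∀ j, Module.Free R (B j)]
    [∀ j, Module.Finite R (B j)] [Nontrivial R] (f : ∀ j, A →ₐ[k] B j) (hd : ∑ j, Module.finrank R (B j) = d) :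
    ∃ μ : A →ₗ[k] Matrix (Fin d) (Fin d) R,
      ∀ a, (μ a).det = ∏ j, Algebra.norm R (f j a) := by
  classical
  let n : Fin m → Type := fun j => Fin (Module.finrank R (B j))
  let b : ∀ j, Module.Basis (n j) R (B j) := fun j => Module.finBasis R (B j)
  let e : ((j : Fin m) × n j) ≃ Fin d :=
    Fintype.equivFinOfCardEq (by simp [n, Fintype.card_sigma, hd])
  let μ₀ : A →ₗ[k] Matrix ((j : Fin m) × n j) ((j : Fin m) × n j) R :=
    { toFun := fun a => Matrix.blockDiagonal' fun j => Algebra.leftMulMatrix (b j) (f j a)
      map_add' := fun x y => by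
        rw [← Matrix.blockDiagonal'_add]
        congr 1
        funext j
        simp
      map_smul' := fun c x => by
        rw [RingHom.id_apply, ← algebraMap_smul R c (Matrix.blockDiagonal' _), ← Matrix.blockDiagonal'_smul]
        congr 1
        funext j
        rw [Pi.smul_apply, map_smul (f j), ← algebraMap_smul R c (f j x), map_smul] }
  refine ⟨(Matrix.reindexLinearEquiv k R e e).toLinearMap.comp μ₀, fun a => ?_⟩
  show (Matrix.reindex e e (μ₀ a)).det = _
  rw [Matrix.det_reindex_self]
  show (Matrix.blockDiagonal' fun j => Algebra.leftMulMatrix (b j) (f j a)).det = _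
  rw [det_blockDiagonal']
  exact Finset.prod_congr rfl fun j _ => (Algebra.norm_eq_matrix_det (b j) _).symm

/-- Norms commute with base change. -/
theorem norm_baseChange {S B : Type u} [CommRing S] [CommRing B] [Algebra R S] [Algebra R B]
    [Module.Free R B] [Module.Finite R B] (x : B) :
    Algebra.norm S ((1 : S) ⊗ₜ[R] x) = algebraMap R S (Algebra.norm R x) := by
  classical
  let b := Module.Free.chooseBasis R B
  rw [Algebra.norm_eq_matrix_det (Algebra.TensorProduct.basis S b), Algebra.norm_eq_matrix_det b,
    RingHom.map_det]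
  congr 1
  ext i j
  simp [Algebra.leftMulMatrix_eq_repr_mul, RingHom.mapMatrix_apply, Algebra.TensorProduct.basis_apply,
    Algebra.TensorProduct.basis_repr_tmul, Algebra.TensorProduct.tmul_mul_tmul]

/-- Two powers which agree on all scalars have the same exponent. -/
theorem pow_inj_of_infinite [Infinite k] {a b : ℕ} (h : ∀ c : k, c ^ a = c ^ b) : a = b := by
  have h1 : (Polynomial.X ^ a : Polynomial k) = Polynomial.X ^ b := Polynomial.funext fun c => by simpa using h c
  simpa using congrArg Polynomial.natDegree h1

end Groth.Agent.H23.SymNormAlg
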