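import Groth.Agent.H23.SymApply
import Groth.Agent.H23.SymBC

/-!
The product of two symmetric products is the mixed symmetric product.
-/

set_option autoImplicit false
set_option backward.isDefEq.respectTransparency false
set_option linter.style.haveILetI false
set_option maxHeartbeats 800000

universe u

open CategoryTheory CategoryTheory.Limits AlgebraicGeometry TopologicalSpace
open scoped TensorProduct

namespace Groth.Agent.H23.SymProdProd

open SymProd InvLoc SymBox SymApply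

variable {X Z S P Q : Scheme.{u}} (f : X ⟶ S) (g : Z ⟶ S) (d e : ℕ)

theorem isQuot (h : (Flat f ∧ Flat g) ∨ ∀ n : ℕ, 0 < n → IsUnit ((n : ℕ) : Γ(S, ⊤)))
    (qX : fibPow f d ⟶ P) (pP : P ⟶ S) (hqX : IsSymProd f d qX pP)
    (qZ : fibPow g e ⟶ Q) (pQ : Q ⟶ S) (hqZ : IsSymProd g e qZ pQ)
    (ρ : ULift.{u} (Equiv.Perm (Fin d) × Equiv.Perm (Fin e)) →*
      Aut (pullback (WidePullback.base fun _ : Fin d => f) (WidePullback.base fun _ : Fin e => g)))
    (hρ : ∀ σ, (ρ σ).hom ≫ pullback.fst (WidePullback.base fun _ : Fin d => f) (WidePullback.base fun _ : Fin e => g) =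
        pullback.fst (WidePullback.base fun _ : Fin d => f) (WidePullback.base fun _ : Fin e => g) ≫
          permHom f d σ.down.1 ∧
      (ρ σ).hom ≫ pullback.snd (WidePullback.base fun _ : Fin d => f) (WidePullback.base fun _ : Fin e => g) =
        pullback.snd (WidePullback.base fun _ : Fin d => f) (WidePullback.base fun _ : Fin e => g) ≫
          permHom g e σ.down.2) :
    SGA1.IsQuot ρ (pullback.map (WidePullback.base fun _ : Fin d => f) (WidePullback.base fun _ : Fin e => g) pP pQ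
      qX qZ (𝟙 S) ((Category.comp_id _).trans hqX.over.symm) ((Category.comp_id _).trans hqZ.over.symm)) := by
  classical
  let bd := WidePullback.base fun _ : Fin d => f
  let be := WidePullback.base fun _ : Fin e => g
  let m := pullback.map bd be pP pQ qX qZ (𝟙 S) ((Category.comp_id _).trans hqX.over.symm)
    ((Category.comp_id _).trans hqZ.over.symm)
  have hm₁ : m ≫ pullback.fst pP pQ = pullback.fst bd be ≫ qX := pullback.lift_fst _ _ _
  have hm₂ : m ≫ pullback.snd pP pQ = pullback.snd bd be ≫ qZ := pullback.lift_snd _ _ _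
  have hinv : ∀ σ, (ρ σ).hom ≫ m = m := fun σ => by
    refine pullback.hom_ext ?_ ?_
    · rw [Category.assoc, hm₁, reassoc_of% (hρ σ).1]
      exact congrArg _ (hqX.isQuot.inv ⟨σ.down.1⟩)
    · rw [Category.assoc, hm₂, reassoc_of% (hρ σ).2]
      exact congrArg _ (hqZ.isQuot.inv ⟨σ.down.2⟩)
  haveI := hqX.isQuot.affine
  haveI := hqZ.isQuot.affine
  have haff : IsAffineHom m :=
    MorphismProperty.pullbackMap (P := @IsAffineHom) hqX.isQuot.affine hqZ.isQuot.affine hqX.over.symm hqZ.over.symm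
  refine SGA1Q.isQuot_of_affine_cover haff hinv fun y => ?_
  obtain ⟨V, hV, hyV, -⟩ := exists_isAffineOpen_mem_and_subset (x := pP (pullback.fst pP pQ y)) (U := ⊤) trivial
  obtain ⟨W, hW, hyW, hWV⟩ := exists_isAffineOpen_mem_and_subset (x := pullback.fst pP pQ y) (U := pP ⁻¹ᵁ V) hyV
  obtain ⟨W₁, hW₁, hyW₁, hW₁V⟩ := exists_isAffineOpen_mem_and_subset (x := pullback.snd pP pQ y) (U := pQ ⁻¹ᵁ V) (by
    show pQ (pullback.snd pP pQ y) ∈ V
    rw [← Scheme.Hom.comp_apply, ← pullback.condition, Scheme.Hom.comp_apply]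
    exact hyV)
  let O := pullback.fst pP pQ ⁻¹ᵁ W ⊓ pullback.snd pP pQ ⁻¹ᵁ W₁
  have hO : IsAffineOpen O := by
    haveI : IsAffine W.toScheme := hW
    haveI : IsAffine W₁.toScheme := hW₁
    haveI : IsAffine V.toScheme := hV
    let m' := pullback.map (pP.resLE V W hWV) (pQ.resLE V W₁ hW₁V) pP pQ W.ι W₁.ι V.ι
      (Scheme.Hom.resLE_comp_ι pP hWV) (Scheme.Hom.resLE_comp_ι pQ hW₁V)
    have : m'.opensRange = O := by
      refine Opens.ext ?_
      show Set.range m' = _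
      rw [Scheme.Pullback.range_map, Scheme.Opens.range_ι, Scheme.Opens.range_ι]
      rfl
    rw [← this]
    exact isAffineOpen_opensRange m'
  refine ⟨O, hO, ⟨hyW, hyW₁⟩, ?_⟩
  let OX := qX ⁻¹ᵁ W
  let OZ := qZ ⁻¹ᵁ W₁
  have hOX : IsAffineOpen OX := hW.preimage qX
  have hOZ : IsAffineOpen OZ := hW₁.preimage qZ
  have hX₀ := preimage_le_base hqX hWV
  have hZ₀ := preimage_le_base hqZ hW₁V
  have hpre : m ⁻¹ᵁ O = pullback.fst bd be ⁻¹ᵁ OX ⊓ pullback.snd bd be ⁻¹ᵁ OZ := by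
    show m ⁻¹ᵁ (pullback.fst pP pQ ⁻¹ᵁ W) ⊓ m ⁻¹ᵁ (pullback.snd pP pQ ⁻¹ᵁ W₁) = _
    rw [← Scheme.Hom.comp_preimage, ← Scheme.Hom.comp_preimage, hm₁, hm₂, Scheme.Hom.comp_preimage,
      Scheme.Hom.comp_preimage]
  have hpo₁ := (isIso_pushoutSection_iff (IsPullback.of_hasPullback pP pQ) (US := V) (UT := W₁) (UX := W) hW₁V hWV
    (UY := O) rfl).1
    (isIso_pushoutSection_of_isAffineOpen (IsPullback.of_hasPullback pP pQ) hW₁V hWV rfl hV hW₁ hW)
  have hpo₂ := (isIso_pushoutSection_iff (IsPullback.of_hasPullback bd be) (US := V) (UT := OZ) (UX := OX) hZ₀ hX₀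
    (UY := m ⁻¹ᵁ O) hpre).1
    (isIso_pushoutSection_of_isAffineOpen (IsPullback.of_hasPullback bd be) hZ₀ hX₀ hpre hV hOZ hOX)
  have l₁ : O ≤ pullback.fst pP pQ ⁻¹ᵁ W := inf_le_left
  have l₂ : O ≤ pullback.snd pP pQ ⁻¹ᵁ W₁ := inf_le_right
  have k₁ : m ⁻¹ᵁ O ≤ pullback.fst bd be ⁻¹ᵁ OX := hpre.trans_le inf_le_left
  have k₂ : m ⁻¹ᵁ O ≤ pullback.snd bd be ⁻¹ᵁ OZ := hpre.trans_le inf_le_right
  letI := (pP.appLE V W hWV).hom.toAlgebra
  letI := (pQ.appLE V W₁ hW₁V).hom.toAlgebra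
  letI := secAlg bd hX₀
  letI := secAlg be hZ₀
  letI := ((pullback.fst pP pQ).appLE W O l₁).hom.toAlgebra
  letI := ((pullback.snd pP pQ).appLE W₁ O l₂).hom.toAlgebra
  letI := ((pullback.fst bd be).appLE OX (m ⁻¹ᵁ O) k₁).hom.toAlgebra
  letI := ((pullback.snd bd be).appLE OZ (m ⁻¹ᵁ O) k₂).hom.toAlgebra
  letI := (((pullback.fst pP pQ).appLE W O l₁).hom.comp (pP.appLE V W hWV).hom).toAlgebra
  letI := (((pullback.fst bd be).appLE OX (m ⁻¹ᵁ O) k₁).hom.comp (bd.appLE V OX hX₀).hom).toAlgebra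
  haveI : IsScalarTower Γ(S, V) Γ(P, W) Γ(pullback pP pQ, O) := IsScalarTower.of_algebraMap_eq' rfl
  haveI : IsScalarTower Γ(S, V) Γ(Q, W₁) Γ(pullback pP pQ, O) :=
    IsScalarTower.of_algebraMap_eq' (congrArg CommRingCat.Hom.hom hpo₁.w)
  haveI : IsScalarTower Γ(S, V) Γ(fibPow f d, OX) Γ(pullback bd be, m ⁻¹ᵁ O) := IsScalarTower.of_algebraMap_eq' rfl
  haveI : IsScalarTower Γ(S, V) Γ(fibPow g e, OZ) Γ(pullback bd be, m ⁻¹ᵁ O) :=
    IsScalarTower.of_algebraMap_eq' (congrArg CommRingCat.Hom.hom hpo₂.w)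
  haveI : Algebra.IsPushout Γ(S, V) Γ(P, W) Γ(Q, W₁) Γ(pullback pP pQ, O) :=
    CommRingCat.isPushout_iff_isPushout.1 hpo₁
  haveI : Algebra.IsPushout Γ(S, V) Γ(fibPow f d, OX) Γ(fibPow g e, OZ) Γ(pullback bd be, m ⁻¹ᵁ O) :=
    CommRingCat.isPushout_iff_isPushout.1 hpo₂
  let σ := secAct (powAct f d) hX₀ (permHom_preimage hqX)
  let σ₁ := secAct (powAct g e) hZ₀ (permHom_preimage hqZ)
  let ι := chartHom hqX hWV
  let ι₁ := chartHom hqZ hW₁V
  have hcases : (Inj σ Γ(Q, W₁) ∧ Surj (Algebra.TensorProduct.includeRight :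
        Γ(fibPow f d, OX) →ₐ[Γ(S, V)] Γ(Q, W₁) ⊗[Γ(S, V)] Γ(fibPow f d, OX)).toRingHom σ (baseAct σ Γ(Q, W₁))) ∧
      (Inj σ₁ Γ(fibPow f d, OX) ∧ Surj (Algebra.TensorProduct.includeRight :
        Γ(fibPow g e, OZ) →ₐ[Γ(S, V)] Γ(fibPow f d, OX) ⊗[Γ(S, V)] Γ(fibPow g e, OZ)).toRingHom σ₁
          (baseAct σ₁ Γ(fibPow f d, OX))) := by
    rcases h with ⟨hf, hg⟩ | hu
    · haveI := hf; haveI := hg
      exact ⟨⟨SymCore.inj f hV hOX hX₀ _ _, SymCore.surj_base f hV hOX hX₀ _ _⟩,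
        ⟨SymCore.inj g hV hOZ hZ₀ _ _, SymCore.surj_base g hV hOZ hZ₀ _ _⟩⟩
    · exact ⟨tame σ (isUnit_factorial hu V d) _, tame σ₁ (isUnit_factorial hu V e) _⟩
  obtain ⟨hinjT, hrangeT⟩ := prod_invariants σ σ₁ (ι := ι) (ι₁ := ι₁) (chartHom_injective hqX hWV)
    (chartHom_injective hqZ hW₁V) (mem_range_chartHom hqX hWV) (mem_range_chartHom hqZ hW₁V)
    hcases.1.1 hcases.1.2 hcases.2.1 hcases.2.2
  let eB := Algebra.IsPushout.equiv Γ(S, V) Γ(P, W) Γ(Q, W₁) Γ(pullback pP pQ, O)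
  let eT := Algebra.IsPushout.equiv Γ(S, V) Γ(fibPow f d, OX) Γ(fibPow g e, OZ) Γ(pullback bd be, m ⁻¹ᵁ O)
  have happ : m.app O = m.appLE O (m ⁻¹ᵁ O) le_rfl := Scheme.Hom.app_eq_appLE m
  have hcomm : ∀ w, (m.app O).hom (eB w) = eT (Algebra.TensorProduct.map ι ι₁ w) := fun w => by
    induction w using TensorProduct.induction_on with
    | zero => simp
    | tmul a b =>
      rw [Algebra.IsPushout.equiv_tmul, map_mul, Algebra.TensorProduct.map_tmul, Algebra.IsPushout.equiv_tmul, happ]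
      have e₁ : (pullback.fst pP pQ).appLE W O l₁ ≫ m.appLE O (m ⁻¹ᵁ O) le_rfl =
          qX.appLE W OX le_rfl ≫ (pullback.fst bd be).appLE OX (m ⁻¹ᵁ O) k₁ := by
        rw [Scheme.Hom.appLE_comp_appLE, Scheme.Hom.appLE_comp_appLE]
        exact SGA1Q.appLE_congr_hom hm₁ _ _
      have e₂ : (pullback.snd pP pQ).appLE W₁ O l₂ ≫ m.appLE O (m ⁻¹ᵁ O) le_rfl =
          qZ.appLE W₁ OZ le_rfl ≫ (pullback.snd bd be).appLE OZ (m ⁻¹ᵁ O) k₂ := by
        rw [Scheme.Hom.appLE_comp_appLE, Scheme.Hom.appLE_comp_appLE]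
        exact SGA1Q.appLE_congr_hom hm₂ _ _
      exact congrArg₂ (· * ·) congr(($e₁).hom a) congr(($e₂).hom b)
    | add a b ha hb => simp only [map_add, ha, hb]
  refine ⟨fun a b hab => ?_, fun s hs => ?_⟩
  · obtain ⟨a, rfl⟩ := eB.surjective a
    obtain ⟨b, rfl⟩ := eB.surjective b
    rw [hcomm, hcomm] at hab
    rw [hinjT (eT.injective hab)]
  · obtain ⟨z, rfl⟩ := eT.surjective s
    have hact : ∀ (x : Equiv.Perm (Fin d)) (y : Equiv.Perm (Fin e)) (w : Γ(fibPow f d, OX) ⊗[Γ(S, V)] Γ(fibPow g e, OZ)),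
        ((ρ ⟨(x⁻¹, y⁻¹)⟩).hom.appLE (m ⁻¹ᵁ O) (m ⁻¹ᵁ O) (SGA1.preimage_le_of_inv ρ m hinv _ O)).hom (eT w) =
          eT (Algebra.TensorProduct.map (σ x : Γ(fibPow f d, OX) →ₐ[Γ(S, V)] Γ(fibPow f d, OX))
            (σ₁ y : Γ(fibPow g e, OZ) →ₐ[Γ(S, V)] Γ(fibPow g e, OZ)) w) := fun x y w => by
      induction w using TensorProduct.induction_on with
      | zero => simp
      | tmul a b =>
        rw [Algebra.IsPushout.equiv_tmul, map_mul, Algebra.TensorProduct.map_tmul, Algebra.IsPushout.equiv_tmul]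
        have e₁ : (pullback.fst bd be).appLE OX (m ⁻¹ᵁ O) k₁ ≫
            (ρ ⟨(x⁻¹, y⁻¹)⟩).hom.appLE (m ⁻¹ᵁ O) (m ⁻¹ᵁ O) (SGA1.preimage_le_of_inv ρ m hinv _ O) =
            ((powAct f d).hom x⁻¹).appLE OX OX (le_preimage (powAct f d) (permHom_preimage hqX) x⁻¹) ≫
              (pullback.fst bd be).appLE OX (m ⁻¹ᵁ O) k₁ := by
          rw [Scheme.Hom.appLE_comp_appLE, Scheme.Hom.appLE_comp_appLE]
          exact SGA1Q.appLE_congr_hom (hρ ⟨(x⁻¹, y⁻¹)⟩).1 _ _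
        have e₂ : (pullback.snd bd be).appLE OZ (m ⁻¹ᵁ O) k₂ ≫
            (ρ ⟨(x⁻¹, y⁻¹)⟩).hom.appLE (m ⁻¹ᵁ O) (m ⁻¹ᵁ O) (SGA1.preimage_le_of_inv ρ m hinv _ O) =
            ((powAct g e).hom y⁻¹).appLE OZ OZ (le_preimage (powAct g e) (permHom_preimage hqZ) y⁻¹) ≫
              (pullback.snd bd be).appLE OZ (m ⁻¹ᵁ O) k₂ := by
          rw [Scheme.Hom.appLE_comp_appLE, Scheme.Hom.appLE_comp_appLE]
          exact SGA1Q.appLE_congr_hom (hρ ⟨(x⁻¹, y⁻¹)⟩).2 _ _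
        exact congrArg₂ (· * ·) congr(($e₁).hom a) congr(($e₂).hom b)
      | add a b ha hb => simp only [map_add, ha, hb]
    obtain ⟨w, rfl⟩ := hrangeT z
      (fun x => by
        refine eT.injective ?_
        refine Eq.trans ?_ ((hact x 1 z).symm.trans (hs _))
        rw [map_one]
        rfl)
      (fun y => by
        refine eT.injective ?_
        refine Eq.trans ?_ ((hact 1 y z).symm.trans (hs _))
        rw [map_one]
        rfl)
    exact ⟨eB w, hcomm w⟩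

end Groth.Agent.H23.SymProdProd
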