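import Groth.Agent.HTopAwn.SchemeProps
import Groth.Agent.PolLib.FlatTS
import Groth.Prelude.Def_SymTen
import Mathlib.FieldTheory.PurelyInseparable.Exponent
import Mathlib.GroupTheory.PGroup

/-!
Diagonal values of symmetric tensors descend along finite universal homeomorphisms of seminormal rings.
-/

set_option autoImplicit false
set_option linter.style.haveILetI false
set_option maxHeartbeats 400000

universe u

open scoped TensorProduct
open AlgebraicGeometry CategoryTheory

namespace Groth.Agent.H23.SymSeminormal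

open PolLib HTopAwn MorLib.RUH

theorem pow_finrank_mem_range {k K : Type u} [Field k] [Field K] [Algebra k K] [FiniteDimensional k K]
    [IsPurelyInseparable k K] (a : K) : a ^ Module.finrank k K ∈ (algebraMap k K).range := by
  obtain ⟨j, hj⟩ : (minpoly k a).natDegree ∣ Module.finrank k K := minpoly.degree_dvd (IsIntegral.of_finite k a)
  rw [hj, IsPurelyInseparable.minpoly_natDegree_eq k a, pow_mul, ← IsPurelyInseparable.algebraMap_elemReduct_eq k a]
  exact ⟨IsPurelyInseparable.elemReduct k a ^ j, map_pow _ _ _⟩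

/-- The cyclic translation on `Fin m × ZMod N`, read on `Fin d`. -/
@[reducible] noncomputable def shiftAction {d m N : ℕ} {ι : Type} (e : Fin d ≃ Fin m × ZMod N) :
    MulAction (Multiplicative (ZMod N)) (Fin d → ι) where
  smul a w := fun i => w (e.symm ((e i).1, (e i).2 + a.toAdd))
  one_smul w := funext fun i => by
    show w (e.symm ((e i).1, (e i).2 + 0)) = w i
    rw [add_zero, Prod.mk.eta, Equiv.symm_apply_apply]
  mul_smul a b w := funext fun i => by
    show w (e.symm ((e i).1, (e i).2 + (a.toAdd + b.toAdd))) =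
      w (e.symm ((e (e.symm ((e i).1, (e i).2 + a.toAdd))).1, (e (e.symm ((e i).1, (e i).2 + a.toAdd))).2 + b.toAdd))
    rw [Equiv.apply_symm_apply, add_assoc]

/-- A product over an orbit of tuples, summed, descends along a purely inseparable extension whose degree divides
the length of the tuples. -/
theorem sum_fib_mem_range {k K : Type u} [Field k] [Field K] [Algebra k K] [FiniteDimensional k K]
    [IsPurelyInseparable k K] {d : ℕ} (hdvd : Module.finrank k K ∣ d) {m' : ℕ} (b : Fin m' → K)
    (q : Orb (Fin m') d) : ∑ c ∈ fib q, ∏ i, b (c i) ∈ (algebraMap k K).range := by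
  classical
  let N := Module.finrank k K
  obtain ⟨p, hp⟩ := ExpChar.exists k
  haveI := hp
  haveI : ExpChar K p := expChar_of_injective_algebraMap (algebraMap k K).injective p
  obtain ⟨n, hn⟩ := IsPurelyInseparable.finrank_eq_pow k K p
  have hconst : ∀ c ∈ fib q, ∀ c' ∈ fib q, ∏ i, b (c' i) = ∏ i, b (c i) := fun c hc c' hc' => by
    obtain ⟨σ, rfl⟩ := cls_eq_iff.mp ((mem_fib.mp hc).trans (mem_fib.mp hc').symm)
    exact Equiv.prod_comp σ fun i => b (c i)
  rcases hp with _ | hpr
  · have hN : N = 1 := by rw [show N = _ from hn, one_pow]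
    refine ⟨_, Classical.choose_spec (show ∃ x, algebraMap k K x = ∑ c ∈ fib q, ∏ i, b (c i) from ?_)⟩
    obtain ⟨x, hx⟩ := pow_finrank_mem_range (k := k) (∑ c ∈ fib q, ∏ i, b (c i))
    exact ⟨x, by rw [hx, show Module.finrank k K = 1 from hN, pow_one]⟩
  · haveI : CharP K p := charP_of_injective_algebraMap (algebraMap k K).injective p
    haveI : Fact p.Prime := ⟨by assumption⟩
    obtain ⟨m, hm⟩ := hdvd
    haveI : NeZero (p ^ n) := ⟨pow_ne_zero n (Fact.out (p := p.Prime)).ne_zero⟩
    let e : Fin d ≃ Fin m × ZMod (p ^ n) := Fintype.equivOfCardEq (by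
      rw [Fintype.card_prod, Fintype.card_fin, Fintype.card_fin, ZMod.card, hm, hn, mul_comm])
    letI : MulAction (Multiplicative (ZMod (p ^ n))) (Fin d → Fin m') := shiftAction e
    have hstab : ∀ (a : Multiplicative (ZMod (p ^ n))) c, c ∈ fib q → a • c ∈ fib q := fun a c hc => by
      let τ : Equiv.Perm (Fin d) := (e.trans ((Equiv.refl _).prodCongr (Equiv.addRight a.toAdd))).trans e.symm
      exact mem_fib.mpr ((cls_comp c τ).trans (mem_fib.mp hc))
    letI : MulAction (Multiplicative (ZMod (p ^ n))) ↥(fib q) :=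
      { smul := fun a c => ⟨a • c.1, hstab a c.1 c.2⟩
        one_smul := fun c => Subtype.ext (one_smul _ c.1)
        mul_smul := fun a a' c => Subtype.ext (mul_smul a a' c.1) }
    have hG : IsPGroup p (Multiplicative (ZMod (p ^ n))) := IsPGroup.of_card (n := n) (by simp)
    rcases (MulAction.fixedPoints (Multiplicative (ZMod (p ^ n))) ↥(fib q)).eq_empty_or_nonempty with hfix | ⟨c₀, hc₀⟩
    · have hcard : (p : ℕ) ∣ (fib q).card := by
        have h := hG.card_modEq_card_fixedPoints (α := ↥(fib q))
        rw [hfix] at h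
        simpa [Nat.modEq_zero_iff_dvd] using h
      rcases (fib q).eq_empty_or_nonempty with he | ⟨c₁, hc₁⟩
      · rw [he, Finset.sum_empty]; exact zero_mem _
      · rw [Finset.sum_congr rfl (fun c hc => hconst c₁ hc₁ c hc), Finset.sum_const, nsmul_eq_mul,
          (CharP.cast_eq_zero_iff K p _).mpr hcard, zero_mul]
        exact zero_mem _
    · rw [Finset.sum_congr rfl (fun c hc => hconst c₀.1 c₀.2 c hc), Finset.sum_const]
      refine nsmul_mem ?_ _
      have hval : ∀ j t, c₀.1 (e.symm (j, t)) = c₀.1 (e.symm (j, 0)) := fun j t => by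
        have h := congrFun (congrArg Subtype.val (hc₀ (Multiplicative.ofAdd t))) (e.symm (j, 0))
        refine Eq.trans ?_ h
        show _ = c₀.1 (e.symm ((e (e.symm (j, 0))).1, (e (e.symm (j, 0))).2 + t))
        rw [Equiv.apply_symm_apply, zero_add]
      rw [← e.symm.prod_comp, Fintype.prod_prod_type]
      refine prod_mem fun j _ => ?_
      rw [Finset.prod_congr rfl (fun t _ => congrArg b (hval j t)), Finset.prod_const, Finset.card_univ, ZMod.card]
      have h := pow_finrank_mem_range (k := k) (b (c₀.1 (e.symm (j, 0))))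
      rwa [show Module.finrank k K = p ^ n from hn] at h

/-- Values of symmetric tensors of a flat algebra at a point purely inseparable of degree dividing the degree. -/
theorem value_mem_range {A B k K : Type u} [CommRing A] [CommRing B] [Algebra A B] [Module.Flat A B] [Field k]
    [Field K] [Algebra A k] [Algebra A K] [Algebra k K] [IsScalarTower A k K] [FiniteDimensional k K]
    [IsPurelyInseparable k K] {d : ℕ} (hdvd : Module.finrank k K ∣ d) (ψ : B →ₐ[A] K)
    {x : ⨂[A] _ : Fin d, B} (hx : x ∈ SymTen.TS A B d) :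
    PiTensorProduct.lift ((MultilinearMap.mkPiAlgebra A (Fin d) K).compLinearMap fun _ => ψ.toLinearMap) x ∈
      (algebraMap k K).range := by
  classical
  obtain ⟨n, g, t, ht, hgt⟩ := exists_invariant_lift_family (fun _ : Fin 1 => x) fun _ σ => hx σ
  have : Finite (Orb (Fin n) d) := Finite.of_surjective cls cls_surjective
  let _ := Fintype.ofFinite (Orb (Fin n) d)
  rw [← hgt 0, eq_sum_orb (t 0) (ht 0)]
  simp only [map_sum, map_smul]
  refine sum_mem fun q _ => ?_
  rw [← algebraMap_smul k, Algebra.smul_def]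
  refine mul_mem ⟨_, rfl⟩ ?_
  rw [val_orb, map_sum, map_sum]
  convert! sum_fib_mem_range hdvd (fun a => ψ (g (Pi.basisFun A (Fin n) a))) q using 2 with c
  simp [beta_apply]

theorem main {A C C' B : Type u} [CommRing A] [CommRing C] [CommRing C'] [CommRing B]
    [Algebra A C] [Algebra A C'] [Algebra A B] (hC : HTop.IsSeminormalRing C)
    (g : C →ₐ[A] C') [IsReduced C']
    (hg : FlatMor.IsUnivHomeo (Spec.map (CommRingCat.ofHom g.toRingHom)))
    (d : ℕ) (hd : 0 < d)
    (hdeg : ∀ q : PrimeSpectrum C',
      @Module.finrank (PrimeSpectrum.comap g.toRingHom q).asIdeal.ResidueField q.asIdeal.ResidueField _ _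
          (Ideal.ResidueField.map (PrimeSpectrum.comap g.toRingHom q).asIdeal q.asIdeal g.toRingHom
            rfl).toAlgebra.toModule ∣ d)
    [Module.Flat A B] (φ : B →ₐ[A] C') (x : ⨂[A] _ : Fin d, B) (hx : x ∈ SymTen.TS A B d) :
    φ (PiTensorProduct.lift (MultilinearMap.mkPiAlgebra A (Fin d) B) x) ∈ g.range := by
  classical
  obtain ⟨hi, hrad, hsurj⟩ := (isUnivHomeo_SpecMap_iff g.toRingHom).mp hg
  haveI := isReduced_of_seminormal hC
  let c' := φ (PiTensorProduct.lift (MultilinearMap.mkPiAlgebra A (Fin d) B) x)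
  have key : ∀ q : PrimeSpectrum C', ∃ a s : C, g s ∉ q.asIdeal ∧ g s * c' - g a ∈ q.asIdeal := by
    intro q
    let p := PrimeSpectrum.comap g.toRingHom q
    let k := p.asIdeal.ResidueField
    let K := q.asIdeal.ResidueField
    let i := Ideal.ResidueField.map p.asIdeal q.asIdeal g.toRingHom rfl
    letI : Algebra k K := i.toAlgebra
    have hcomm : ∀ c : C, i (algebraMap C k c) = algebraMap C' K (g c) := fun c =>
      Ideal.ResidueField.map_algebraMap p.asIdeal q.asIdeal g.toRingHom rfl c
    haveI : IsScalarTower A k K := IsScalarTower.of_algebraMap_eq fun a => by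
      show algebraMap A K a = i (algebraMap A k a)
      rw [IsScalarTower.algebraMap_apply A C k, hcomm, AlgHom.commutes, ← IsScalarTower.algebraMap_apply]
    haveI : Algebra.IsAlgebraic k K := by
      haveI : Algebra.IsIntegral k K := ⟨fun z => by
        obtain ⟨u, v, hv, rfl⟩ := IsFractionRing.div_surjective (A := C' ⧸ q.asIdeal) z
        obtain ⟨u, rfl⟩ := Ideal.Quotient.mk_surjective u
        obtain ⟨v, rfl⟩ := Ideal.Quotient.mk_surjective v
        have hint : ∀ w : C', IsIntegral k (algebraMap C' K w) := fun w => by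
          obtain ⟨P, hP, hP0⟩ := hi w
          refine ⟨P.map (algebraMap C k), hP.map _, ?_⟩
          rw [Polynomial.eval₂_map, show (algebraMap k K).comp (algebraMap C k) =
            (algebraMap C' K).comp g.toRingHom from RingHom.ext hcomm, ← Polynomial.hom_eval₂, hP0, map_zero]
        rw [div_eq_mul_inv]
        exact (hint u).mul (hint v).inv⟩
      infer_instance
    haveI : IsPurelyInseparable k K := by
      rw [isPurelyInseparable_iff_subsingleton_emb]
      refine ⟨fun u v => AlgHom.coe_ringHom_injective (Ideal.ResidueField.ringHom_ext ?_)⟩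
      refine hrad _ _ _ (RingHom.ext fun c => ?_)
      show u (algebraMap C' K (g c)) = v (algebraMap C' K (g c))
      rw [← hcomm]
      exact (u.commutes _).trans (v.commutes _).symm
    haveI : FiniteDimensional k K := Module.finite_of_finrank_pos
      (Nat.pos_of_ne_zero fun h0 => hd.ne' (Nat.eq_zero_of_zero_dvd (h0 ▸ hdeg q)))
    let ψ : B →ₐ[A] K := (IsScalarTower.toAlgHom A C' K).comp φ
    obtain ⟨z, hz⟩ := value_mem_range (k := k) (hdeg q) ψ hx
    have hz' : i z = algebraMap C' K c' := by
      refine hz.trans ?_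
      have h : ∀ y, PiTensorProduct.lift ((MultilinearMap.mkPiAlgebra A (Fin d) K).compLinearMap fun _ => ψ.toLinearMap) y =
          ψ (PiTensorProduct.lift (MultilinearMap.mkPiAlgebra A (Fin d) B) y) := by
        intro y
        induction y using PiTensorProduct.induction_on with
        | smul_tprod r f => simp
        | add a b ha hb => simp only [map_add, ha, hb]
      exact h x
    obtain ⟨a, s, hs, rfl⟩ := IsFractionRing.div_surjective (A := C ⧸ p.asIdeal) z
    obtain ⟨a, rfl⟩ := Ideal.Quotient.mk_surjective a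
    obtain ⟨s, rfl⟩ := Ideal.Quotient.mk_surjective s
    have hs' : g s ∉ q.asIdeal := fun h => nonZeroDivisors.ne_zero hs (Ideal.Quotient.eq_zero_iff_mem.mpr h)
    refine ⟨a, s, hs', ?_⟩
    rw [← Ideal.algebraMap_residueField_eq_zero (I := q.asIdeal), map_sub, map_mul, ← hz', ← hcomm, ← hcomm,
      ← map_mul, ← map_sub]
    have hne : algebraMap C k s ≠ 0 := fun h =>
      nonZeroDivisors.ne_zero hs (Ideal.Quotient.eq_zero_iff_mem.mpr (Ideal.algebraMap_residueField_eq_zero.mp h))
    have ha : ∀ c, algebraMap (C ⧸ p.asIdeal) k (Ideal.Quotient.mk _ c) = algebraMap C k c := fun c =>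
      (IsScalarTower.algebraMap_apply C (C ⧸ p.asIdeal) k c).symm
    rw [ha, ha, mul_div_cancel₀ _ hne, sub_self, map_zero]
  letI : Algebra C C' := g.toRingHom.toAlgebra
  let D := Algebra.adjoin C ({c'} : Set C')
  haveI : IsReduced D := isReduced_of_injective D.val Subtype.val_injective
  have hginj : Function.Injective g := by
    rw [injective_iff_map_eq_zero]
    intro a ha
    refine IsNilpotent.eq_zero (nilpotent_iff_mem_prime.mpr fun J hJ => ?_)
    obtain ⟨q, hq⟩ := hsurj ⟨J, hJ⟩
    rw [← show (PrimeSpectrum.comap g.toRingHom q).asIdeal = J from congrArg PrimeSpectrum.asIdeal hq]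
    show g a ∈ q.asIdeal
    rw [ha]; exact zero_mem _
  have hinj : Function.Injective (algebraMap C D) := fun a b h => hginj (congrArg Subtype.val h)
  have hgood : Good (algebraMap C D) := good_subalgebra D ⟨hi, hrad⟩
  have hu := isUnivHomeo_of_injective (algebraMap C D) hinj hgood.1 hgood.2
  have hbij := HTopAwn.bijective_of_seminormal hC (algebraMap C D) hinj hu fun Q => by
    rw [residueFieldMap_surjective_iff]
    have hDint : (D.val.toRingHom).IsIntegral := RingHom.IsIntegral.tower_top (algebraMap C D) _ hi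
    obtain ⟨q, hq⟩ := hDint.comap_surjective Subtype.val_injective Q
    have hmem : ∀ w : D, w ∈ Q.asIdeal ↔ (w : C') ∈ q.asIdeal := fun w => by rw [← hq]; rfl
    rintro ⟨w, hw⟩
    suffices ∃ a s : C, g s ∉ q.asIdeal ∧ g s * w - g a ∈ q.asIdeal by
      obtain ⟨a, s, hs, hw'⟩ := this
      exact ⟨a, s, fun h => hs ((hmem _).mp h), (hmem _).mpr hw'⟩
    induction hw using Algebra.adjoin_induction with
    | mem w hw => obtain rfl := hw; exact key q
    | algebraMap c =>
      exact ⟨c, 1, fun h => q.isPrime.ne_top ((Ideal.eq_top_iff_one _).mpr (by rwa [map_one] at h)), by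
        rw [map_one, one_mul, show algebraMap C C' c = g c from rfl, sub_self]; exact zero_mem _⟩
    | add v w _ _ h h' =>
      obtain ⟨a, s, hs, hv⟩ := h
      obtain ⟨a', s', hs', hw⟩ := h'
      refine ⟨a * s' + a' * s, s * s', by rw [map_mul]; exact q.isPrime.mul_notMem hs hs', ?_⟩
      have h1 := q.asIdeal.add_mem (q.asIdeal.mul_mem_left (g s') hv) (q.asIdeal.mul_mem_left (g s) hw)
      convert h1 using 1
      simp only [map_add, map_mul]; ring
    | mul v w _ _ h h' =>
      obtain ⟨a, s, hs, hv⟩ := h
      obtain ⟨a', s', hs', hw⟩ := h'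
      refine ⟨a * a', s * s', by rw [map_mul]; exact q.isPrime.mul_notMem hs hs', ?_⟩
      have h1 := q.asIdeal.add_mem (q.asIdeal.mul_mem_left (g s' * w) hv) (q.asIdeal.mul_mem_left (g a) hw)
      convert h1 using 1
      simp only [map_mul]; ring
  obtain ⟨c, hc⟩ := hbij.2 ⟨c', Algebra.subset_adjoin rfl⟩
  exact ⟨c, congrArg Subtype.val hc⟩

end Groth.Agent.H23.SymSeminormal
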