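import Groth.Agent.H23.SymCurve
import Groth.Agent.SGA1Q.Free
import Groth.Agent.SGA1Q.Properties
import Groth.Agent.DimFormula.Fibre
import Groth.Agent.FibDim.RelDim
import Groth.Agent.FibDim.AffineSpaceFibre
import Groth.Agent.GrpSchLib.SmoothRegular
import Groth.Agent.RegLoc6.Normal
import Groth.Agent.RegLoc6.Basic
import Groth.Agent.S0255
import Groth.Agent.S0565
import Mathlib.AlgebraicGeometry.AlgClosed.Basic
import Mathlib.AlgebraicGeometry.Morphisms.FormallyUnramified

/-!
The singular locus of a symmetric power of a smooth variety of dimension at least two: off the big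
diagonal the quotient map is flat and unramified, the big diagonal has codimension at least two, and
purity of the branch locus forbids regular points below it.
-/

set_option autoImplicit false
set_option backward.isDefEq.respectTransparency false
set_option linter.style.haveILetI false

universe u

open CategoryTheory CategoryTheory.Limits AlgebraicGeometry TopologicalSpace

namespace Groth.Agent.H23.SymSing

open SymProd

variable {X S : Scheme.{u}} {f : X ⟶ S} {n : ℕ}

/-- The coordinates of the point are pairwise distinct, as points with values in its residue field. -/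
def Distinct (x : fibPow f n) : Prop :=
  ∀ i j : Fin n, i ≠ j → (fibPow f n).fromSpecResidueField x ≫ WidePullback.π (fun _ : Fin n => f) i ≠
    (fibPow f n).fromSpecResidueField x ≫ WidePullback.π (fun _ : Fin n => f) j

theorem eq_of_comp_eq [IsSeparated f] {W : Scheme.{u}} (h : W ⟶ fibPow f n) (w : W) {i j : Fin n}
    (e : h ≫ WidePullback.π (fun _ : Fin n => f) i = h ≫ WidePullback.π (fun _ : Fin n => f) j) :
    (fibPow f n).fromSpecResidueField (h w) ≫ WidePullback.π (fun _ : Fin n => f) i =
      (fibPow f n).fromSpecResidueField (h w) ≫ WidePullback.π (fun _ : Fin n => f) j := by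
  haveI : Surjective (Spec.map (h.residueFieldMap w)) := ⟨fun x => ⟨default, Subsingleton.elim _ _⟩⟩
  refine ext_of_isDominant_of_isSeparated f ?_ (Spec.map (h.residueFieldMap w)) ?_
  · simp only [Category.assoc]
    rw [WidePullback.π_arrow, WidePullback.π_arrow]
  · rw [Scheme.Hom.SpecMap_residueFieldMap_fromSpecResidueField_assoc,
      Scheme.Hom.SpecMap_residueFieldMap_fromSpecResidueField_assoc, e]

theorem not_distinct_of_comp_eq [IsSeparated f] {W : Scheme.{u}} (h : W ⟶ fibPow f n) (w : W) {i j : Fin n}
    (hij : i ≠ j)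
    (e : h ≫ WidePullback.π (fun _ : Fin n => f) i = h ≫ WidePullback.π (fun _ : Fin n => f) j) :
    ¬ Distinct (h w) := fun hd => hd i j hij (eq_of_comp_eq h w e)

theorem isClosed_eqLocus [IsSeparated f] (i j : Fin n) :
    IsClosed {x : fibPow f n | (fibPow f n).fromSpecResidueField x ≫ WidePullback.π (fun _ : Fin n => f) i =
      (fibPow f n).fromSpecResidueField x ≫ WidePullback.π (fun _ : Fin n => f) j} := by
  let p := pullback.lift (f := f) (g := f) (WidePullback.π (fun _ : Fin n => f) i) (WidePullback.π (fun _ : Fin n => f) j)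
    ((WidePullback.π_arrow _ i).trans (WidePullback.π_arrow _ j).symm)
  let ι := pullback.fst p (pullback.diagonal f)
  haveI : IsClosedImmersion ι := MorphismProperty.pullback_fst _ _ inferInstance
  suffices h : {x : fibPow f n | (fibPow f n).fromSpecResidueField x ≫ WidePullback.π (fun _ : Fin n => f) i =
      (fibPow f n).fromSpecResidueField x ≫ WidePullback.π (fun _ : Fin n => f) j} = Set.range ι by
    rw [h]; exact ι.isClosedEmbedding.isClosed_range
  ext x
  constructor
  · intro hx
    let a := (fibPow f n).fromSpecResidueField x ≫ WidePullback.π (fun _ : Fin n => f) i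
    have e : (fibPow f n).fromSpecResidueField x ≫ p = a ≫ pullback.diagonal f := by
      apply pullback.hom_ext
      · simp [p, a]
      · simp [p, a]
        exact hx.symm
    refine ⟨pullback.lift _ a e default, ?_⟩
    show (pullback.lift _ a e ≫ ι) default = x
    rw [pullback.lift_fst, Scheme.fromSpecResidueField_apply]
  · rintro ⟨w, rfl⟩
    refine eq_of_comp_eq ι w ?_
    have h1 := congrArg (fun k => k ≫ pullback.fst f f) (pullback.condition (f := p) (g := pullback.diagonal f))
    have h2 := congrArg (fun k => k ≫ pullback.snd f f) (pullback.condition (f := p) (g := pullback.diagonal f))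
    simp [p] at h1 h2
    exact h1.trans h2.symm

theorem isOpen_distinct [IsSeparated f] : IsOpen {x : fibPow f n | Distinct x} := by
  have h : {x : fibPow f n | Distinct x} =
      (⋃ i : Fin n, ⋃ j : Fin n, ⋃ (_ : i ≠ j), {x : fibPow f n | (fibPow f n).fromSpecResidueField x ≫ WidePullback.π (fun _ : Fin n => f) i =
      (fibPow f n).fromSpecResidueField x ≫ WidePullback.π (fun _ : Fin n => f) j})ᶜ := by
    ext x
    simp [Distinct]
  rw [h]
  exact (isClosed_iUnion_of_finite fun i => isClosed_iUnion_of_finite fun j =>
    isClosed_iUnion_of_finite fun _ => isClosed_eqLocus i j).isOpen_compl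

theorem distinct_permHom [IsSeparated f] {x : fibPow f n} (hx : Distinct x) (σ : Equiv.Perm (Fin n)) :
    Distinct (permHom f n σ x) := by
  intro i j hij e
  refine hx (σ.symm i) (σ.symm j) (σ.symm.injective.ne hij) ?_
  have e1 := congrArg (fun k => Spec.map ((permHom f n σ).residueFieldMap x) ≫ k) e
  simpa only [Scheme.Hom.SpecMap_residueFieldMap_fromSpecResidueField_assoc, permHom_π] using e1

/-- The open set of points with pairwise distinct coordinates. -/
noncomputable def distinctOpens [IsSeparated f] : (fibPow f n).Opens := ⟨{x | Distinct x}, isOpen_distinct⟩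

section Quot

variable [IsLocallyNoetherian S] {Y : Scheme.{u}} {q : fibPow f n ⟶ Y} {g : Y ⟶ S}

theorem isFinite [LocallyOfFiniteType f] (hq : IsSymProd f n q g) :
    IsFinite q ∧ LocallyOfFiniteType g := by
  haveI : LocallyOfFiniteType (WidePullback.base (fun _ : Fin n => f)) :=
    SymCurve.base_property @LocallyOfFiniteType f inferInstance n
  haveI := SGA1Q.locallyOfFiniteType_of_isQuot hq.isQuot hq.over inferInstance
  haveI : LocallyOfFiniteType (q ≫ g) := by rw [hq.over]; infer_instance
  haveI := locallyOfFiniteType_of_comp q g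
  exact ⟨(IsFinite.iff_isIntegralHom_and_locallyOfFiniteType q).2 ⟨SGA1Q.isIntegralHom hq.isQuot, inferInstance⟩,
    inferInstance⟩

/-- The quotient map is flat and unramified over the distinct locus. -/
theorem flat_unramified [IsSeparated f] [LocallyOfFiniteType f] (hq : IsSymProd f n q g) :
    Flat ((distinctOpens (f := f) (n := n)).ι ≫ q) ∧ FormallyUnramified ((distinctOpens (f := f) (n := n)).ι ≫ q) := by
  classical
  haveI := (isFinite hq).1
  let V : Y.Opens := ⟨(q '' {x | Distinct x}ᶜ)ᶜ,
    (q.isClosedMap _ isOpen_distinct.isClosed_compl).isOpen_compl⟩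
  have hV : q ⁻¹ᵁ V = distinctOpens (f := f) (n := n) := by
    refine Opens.ext (Set.ext fun x => ?_)
    constructor
    · intro h
      by_contra hd
      exact h ⟨x, hd, rfl⟩
    · rintro h ⟨y, hy, e⟩
      obtain ⟨σ, hσ⟩ := (SGA1Q.orbit_iff hq.isQuot x y).1 e.symm
      exact hy (hσ ▸ distinct_permHom h σ.down)
  rw [← hV]
  let O := q ⁻¹ᵁ V
  have hst : ∀ σ : ULift.{u} (Equiv.Perm (Fin n)), O ≤ (permActU f n σ).hom ⁻¹ᵁ O :=
    fun σ => SGA1.preimage_le_of_inv (permActU f n) q hq.isQuot.inv σ V
  let ρ := SGA1Q.restrictAction (permActU f n) O hst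
  have hρ : SGA1.IsQuot ρ (q ∣_ V) := SGA1Q.isQuot_morphismRestrict hq.isQuot V ρ
    fun σ => SGA1Q.restrictAction_hom_ι _ _ _ σ
  have hfree : SGA1Q.FreeOnGeomPoints ρ := by
    intro K _ _ ξ σ hσ
    have hd : Distinct ((ξ ≫ O.ι) default) := by
      exact (SetLike.ext_iff.1 hV _).1 (ξ default).2
    refine ULift.ext _ _ (Equiv.ext fun i => ?_)
    by_contra hne
    refine not_distinct_of_comp_eq (ξ ≫ O.ι) default (i := i) (j := σ.down i) (Ne.symm hne) ?_ hd
    have e1 := congrArg (fun k => k ≫ O.ι ≫ WidePullback.π (fun _ : Fin n => f) (σ.down i)) hσ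
    have e2 : (ρ σ).hom ≫ O.ι ≫ WidePullback.π (fun _ : Fin n => f) (σ.down i) =
        O.ι ≫ WidePullback.π (fun _ : Fin n => f) i := by
      rw [← Category.assoc, SGA1Q.restrictAction_hom_ι, Category.assoc, permActU_hom, permHom_π,
        Equiv.symm_apply_apply]
    simp only [Category.assoc, e2] at e1
    simpa only [Category.assoc] using e1
  haveI : Flat (q ∣_ V) := SGA1Q.flat_of_free hfree hρ
  haveI := SGA1Q.isIso_sigmaDesc_graphMap hfree hρ
  haveI : IsOpenImmersion (pullback.diagonal (q ∣_ V)) := by
    have h : pullback.diagonal (q ∣_ V) = Sigma.ι (fun _ : ULift.{u} (Equiv.Perm (Fin n)) => O.toScheme) 1 ≫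
        Sigma.desc (fun σ => SGA1Q.graphMap hρ.inv σ) := by
      rw [Sigma.ι_desc]
      apply pullback.hom_ext
      · simp [SGA1Q.graphMap]
        rfl
      · simp [SGA1Q.graphMap, map_one]
        rfl
    rw [h]
    infer_instance
  haveI : FormallyUnramified (q ∣_ V) := inferInstance
  rw [← morphismRestrict_ι]
  exact ⟨inferInstance, MorphismProperty.comp_mem _ _ _ inferInstance inferInstance⟩

end Quot

section Dim

variable {k : Type u} [Field k] {X : Scheme.{u}} (f : X ⟶ Spec (CommRingCat.of k))

theorem hasRelDim [IrreducibleSpace X] {d : ℕ} (hdim : topologicalKrullDim X = d) : Cyc.HasRelDim f d := by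
  intro y T hT
  haveI : Subsingleton ↥(Spec (CommRingCat.of k)) := inferInstanceAs (Subsingleton (PrimeSpectrum k))
  let e : ↥(f.fiber y) ≃ₜ X := (f.fiberι y).isEmbedding.toHomeomorph.trans
    ((Homeomorph.setCongr (by
      rw [Scheme.Hom.range_fiberι]
      exact Set.eq_univ_of_forall fun x => Subsingleton.elim _ _)).trans (Homeomorph.Set.univ X))
  haveI : IrreducibleSpace ↥(f.fiber y) := e.symm.surjective.irreducibleSpace e.symm.continuous
  rw [irreducibleComponents_eq_singleton] at hT
  rw [Set.mem_singleton_iff.1 hT, (Homeomorph.Set.univ _).isHomeomorph.topologicalKrullDim_eq,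
    e.isHomeomorph.topologicalKrullDim_eq, hdim]

theorem base_isPullback {S X : Scheme.{u}} (f : X ⟶ S) (m : ℕ) :
    IsPullback (WidePullback.π (fun _ : Fin (m + 1) => f) 0)
      (WidePullback.lift (WidePullback.base _) (fun i => WidePullback.π (fun _ : Fin (m + 1) => f) i.succ)
        (fun i => WidePullback.π_arrow _ i.succ) : fibPow f (m + 1) ⟶ fibPow f m)
      f (WidePullback.base (fun _ : Fin m => f)) := by
  refine IsPullback.of_isLimit' ⟨by rw [WidePullback.π_arrow, WidePullback.lift_base]⟩
    (PullbackCone.IsLimit.mk _ (fun s => WidePullback.lift (s.fst ≫ f)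
      (Fin.cases s.fst fun i => s.snd ≫ WidePullback.π (fun _ : Fin m => f) i) (fun i => by
        induction i using Fin.cases with
        | zero => rfl
        | succ i => simp only [Fin.cases_succ, Category.assoc]; rw [WidePullback.π_arrow (fun _ : Fin m => f) i, s.condition]))
      (fun s => by simp) (fun s => WidePullback.hom_ext _ _ _ (fun i => by simp) (by simp [s.condition]))
      (fun s l h₁ h₂ => WidePullback.hom_ext _ _ _ (fun i => ?_) ?_))
  · induction i using Fin.cases with
    | zero => simp [← h₁]
    | succ i => simp [← h₂]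
  · rw [WidePullback.lift_base, ← h₁, Category.assoc, WidePullback.π_arrow]

theorem fibreDimAt_base [Smooth f] [IrreducibleSpace X] {d : ℕ} (hdim : topologicalKrullDim X = d) :
    ∀ (m : ℕ) (x : fibPow f m),
      FlatMor.fibreDimAt (WidePullback.base (fun _ : Fin m => f)) x = (((m * d : ℕ) : ℕ∞) : WithBot ℕ∞)
  | 0, x => by
    haveI : IsIso (WidePullback.base (fun _ : Fin 0 => f)) :=
      ⟨WidePullback.lift (𝟙 _) (fun i => i.elim0) (fun i => i.elim0),
        WidePullback.hom_ext _ _ _ (fun i => i.elim0) (by simp), by simp⟩
    obtain ⟨z, -, -, -, he⟩ := FibDim.exists_fibMax_generization (WidePullback.base (fun _ : Fin 0 => f)) x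
    rw [he, FibDim.rd_eq_zero_of_quasiFinite, Nat.zero_mul]
  | m + 1, x => by
    let rest : fibPow f (m + 1) ⟶ fibPow f m := WidePullback.lift (WidePullback.base _)
      (fun i => WidePullback.π (fun _ : Fin (m + 1) => f) i.succ) (fun i => WidePullback.π_arrow _ i.succ)
    have hP := base_isPullback f m
    haveI : LocallyOfFiniteType rest := MorphismProperty.of_isPullback hP (inferInstanceAs (LocallyOfFiniteType f))
    haveI : Flat rest := MorphismProperty.of_isPullback hP (inferInstanceAs (Flat f))
    haveI : LocallyOfFiniteType (WidePullback.base (fun _ : Fin m => f)) :=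
      SymCurve.base_property @LocallyOfFiniteType f inferInstance m
    have hb : rest ≫ WidePullback.base (fun _ : Fin m => f) = WidePullback.base (fun _ : Fin (m + 1) => f) :=
      WidePullback.lift_base _ _ _ _
    rw [← hb, FibDim.fibreDimAt_comp_of_flat rest _ x (Flat.stalkMap _ x), fibreDimAt_base hdim m,
      FibDim.fibreDimAt_baseChange hP x, FibDim.fibreDimAt_eq_of_hasRelDim f (hasRelDim f hdim)]
    rw [← WithBot.coe_add, ← Nat.cast_add]
    congr 2
    ring

variable [Smooth f] [IrreducibleSpace X] {d : ℕ} (hdim : topologicalKrullDim X = d)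

include hdim in
theorem rd_add_fb (m : ℕ) (x : fibPow f m) :
    haveI : LocallyOfFiniteType (WidePullback.base (fun _ : Fin m => f)) :=
      SymCurve.base_property @LocallyOfFiniteType f inferInstance m
    FibDim.rd (WidePullback.base (fun _ : Fin m => f)) x + DimFormula.fb (WidePullback.base (fun _ : Fin m => f)) x =
      m * d := by
  haveI : LocallyOfFiniteType (WidePullback.base (fun _ : Fin m => f)) :=
    SymCurve.base_property @LocallyOfFiniteType f inferInstance m
  have h := DimFormula.fibreDimAt_eq_add (WidePullback.base (fun _ : Fin m => f)) x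
  rw [fibreDimAt_base f hdim] at h
  exact_mod_cast h.symm

omit [Smooth f] [IrreducibleSpace X] in
/-- Over a field the codimension is the codimension in the only fibre. -/
theorem codim_eq_fb {Z : Scheme.{u}} (h : Z ⟶ Spec (CommRingCat.of k)) [LocallyOfFiniteType h] (z : Z) :
    haveI := LocallyOfFiniteType.isLocallyNoetherian h
    DimFormula.codim z = DimFormula.fb h z := by
  haveI := LocallyOfFiniteType.isLocallyNoetherian h
  obtain ⟨w, -, -, -, hle, -⟩ := DimFormula.codim_add_fb_le h z
  have h0 : DimFormula.codim (h z) = 0 := DimFormula.codim_eq_zero_iff.2 fun v _ =>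
    @Subsingleton.elim _ (inferInstanceAs (Subsingleton (PrimeSpectrum k))) v (h z)
  have := DimFormula.codim_le_add h z
  omega

include hdim in
/-- The big diagonal has codimension at least `d`. -/
theorem le_codim_of_not_distinct [IsSeparated f] (x : fibPow f n) (hx : ¬ Distinct x) :
    haveI : LocallyOfFiniteType (WidePullback.base (fun _ : Fin n => f)) :=
      SymCurve.base_property @LocallyOfFiniteType f inferInstance n
    haveI := LocallyOfFiniteType.isLocallyNoetherian (WidePullback.base (fun _ : Fin n => f))
    d ≤ DimFormula.codim x := by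
  simp only [Distinct, not_forall, not_not] at hx
  obtain ⟨i, j, hij, e⟩ := hx
  obtain ⟨m, rfl⟩ : ∃ m, n = m + 1 := Nat.exists_eq_succ_of_ne_zero (by rintro rfl; exact i.elim0)
  obtain ⟨i', rfl⟩ := Fin.exists_succAbove_eq hij
  haveI hL : ∀ l, LocallyOfFiniteType (WidePullback.base (fun _ : Fin l => f)) := fun l =>
    SymCurve.base_property @LocallyOfFiniteType f inferInstance l
  haveI : IsSeparated (WidePullback.base (fun _ : Fin (m + 1) => f)) :=
    SymCurve.base_property @IsSeparated f inferInstance _
  let r : fibPow f (m + 1) ⟶ fibPow f m := WidePullback.lift (WidePullback.base _)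
    (fun l => WidePullback.π (fun _ : Fin (m + 1) => f) (j.succAbove l)) (fun l => WidePullback.π_arrow _ _)
  let D : fibPow f m ⟶ fibPow f (m + 1) := WidePullback.lift (WidePullback.base _)
    (j.insertNth (WidePullback.π (fun _ : Fin m => f) i') (fun l => WidePullback.π (fun _ : Fin m => f) l))
    (fun l => by
      induction l using j.succAboveCases with
      | x => simp
      | p l => simp)
  have hD : D ≫ WidePullback.base (fun _ : Fin (m + 1) => f) = WidePullback.base (fun _ : Fin m => f) :=
    WidePullback.lift_base _ _ _ _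
  have hDr : D ≫ r = 𝟙 _ := WidePullback.hom_ext _ _ _ (fun l => by simp [D, r]) (by simp [D, r])
  haveI : IsSeparated r := by
    haveI : IsSeparated (r ≫ WidePullback.base (fun _ : Fin m => f)) := by
      rw [show r ≫ WidePullback.base (fun _ : Fin m => f) = WidePullback.base (fun _ : Fin (m + 1) => f) from
        WidePullback.lift_base _ _ _ _]
      infer_instance
    exact IsSeparated.of_comp r (WidePullback.base (fun _ : Fin m => f))
  haveI : IsClosedImmersion (D ≫ r) := by rw [hDr]; infer_instance
  haveI : IsClosedImmersion D := IsClosedImmersion.of_comp D r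
  obtain ⟨a, rfl⟩ : ∃ a, D a = x := by
    refine ⟨r x, ?_⟩
    have h : (fibPow f (m + 1)).fromSpecResidueField x ≫ r ≫ D = (fibPow f (m + 1)).fromSpecResidueField x := by
      refine WidePullback.hom_ext _ _ _ (fun l => ?_) (by simp [D, r])
      induction l using j.succAboveCases with
      | x => simp [D, r, e]
      | p l => simp [D, r]
    have := congr(($h).base (default : Spec _))
    simpa using this
  have h1 := rd_add_fb f hdim (m + 1) (D a)
  have h2 := rd_add_fb f hdim m a
  have h3 : FibDim.rd (WidePullback.base (fun _ : Fin m => f)) a =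
      FibDim.rd (WidePullback.base (fun _ : Fin (m + 1) => f)) (D a) := by
    have h := FibDim.rd_comp D (WidePullback.base (fun _ : Fin (m + 1) => f)) a
    rw [FibDim.rd_eq_zero_of_quasiFinite D a, add_zero] at h
    convert h using 2
    exact hD.symm
  rw [codim_eq_fb (WidePullback.base (fun _ : Fin (m + 1) => f))]
  rw [add_one_mul] at h1
  omega

include hdim in
/-- The quotient map preserves codimension. -/
theorem codim_map {Y : Scheme.{u}} {q : fibPow f n ⟶ Y} {g : Y ⟶ Spec (CommRingCat.of k)}
    (hq : IsSymProd f n q g) (x : fibPow f n) :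
    haveI : LocallyOfFiniteType (WidePullback.base (fun _ : Fin n => f)) :=
      SymCurve.base_property @LocallyOfFiniteType f inferInstance n
    haveI := LocallyOfFiniteType.isLocallyNoetherian (WidePullback.base (fun _ : Fin n => f))
    haveI := (isFinite hq).2
    haveI := LocallyOfFiniteType.isLocallyNoetherian g
    DimFormula.codim (q x) = DimFormula.codim x := by
  haveI : LocallyOfFiniteType (WidePullback.base (fun _ : Fin n => f)) :=
    SymCurve.base_property @LocallyOfFiniteType f inferInstance n
  haveI := (isFinite hq).1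
  haveI := (isFinite hq).2
  have hrd : ∀ v, FibDim.rd (WidePullback.base (fun _ : Fin n => f)) v = FibDim.rd g (q v) := fun v => by
    have h := FibDim.rd_comp q g v
    rw [FibDim.rd_eq_zero_of_quasiFinite q v, add_zero] at h
    convert h using 2
    exact hq.over.symm
  have hsub : Subsingleton ↥(Spec (CommRingCat.of k)) := inferInstanceAs (Subsingleton (PrimeSpectrum k))
  have hg : FlatMor.fibreDimAt g (q x) = (((n * d : ℕ) : ℕ∞) : WithBot ℕ∞) := by
    refine le_antisymm ?_ ?_
    · obtain ⟨w, -, -, -, he⟩ := FibDim.exists_fibMax_generization g (q x)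
      obtain ⟨v, rfl⟩ := SGA1Q.surjective hq.isQuot w
      rw [he, ← hrd, ← fibreDimAt_base f hdim n v]
      exact FibDim.rd_le_fibreDimAt _ (specializes_refl v) rfl
    · obtain ⟨w, hw, -, -, he⟩ := FibDim.exists_fibMax_generization (WidePullback.base (fun _ : Fin n => f)) x
      rw [← fibreDimAt_base f hdim n x, he, hrd]
      exact FibDim.rd_le_fibreDimAt g (hw.map q.continuous) (hsub.elim _ _)
  rw [codim_eq_fb g, codim_eq_fb (WidePullback.base (fun _ : Fin n => f))]
  have h1 := rd_add_fb f hdim n x
  have h2 : FibDim.rd g (q x) + DimFormula.fb g (q x) = n * d := by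
    rw [DimFormula.fibreDimAt_eq_add] at hg
    exact_mod_cast hg
  rw [← hrd] at h2
  omega

end Dim

end Groth.Agent.H23.SymSing
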