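import Groth.Agent.H23.FinitePushEq
import Groth.Agent.H23.GenFibStalk
import Groth.Agent.CDiv6.Normal
import Mathlib.AlgebraicGeometry.IdealSheaf.Subscheme
import Mathlib.RingTheory.LocalProperties.Basic

/-!
# A prime divisor on a normal scheme which is locally the zero set of one function carries a Cartier structure
-/

set_option autoImplicit false
set_option linter.style.haveILetI false
set_option backward.isDefEq.respectTransparency false
set_option backward.isDefEq.respectTransparency.types false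

open CategoryTheory AlgebraicGeometry TopologicalSpace IsLocalRing

universe u

namespace Groth.Agent.H23.SymbolicDivisor

open Groth.Agent

variable {Y : Scheme.{u}} [IsIntegral Y] [IsNoetherian Y]

/-- Spreading a set-theoretic equation from the generizations of `y` to a neighbourhood. -/
theorem exists_nhd {η y : Y} (hy : η ⤳ y) (U : Y.Opens) (hyU : y ∈ U) (g : Γ(Y, U))
    (hg : ∀ z : Y, z ⤳ y → (z ∈ Y.basicOpen g ↔ z ∉ closure {η})) :
    ∃ V : Y.Opens, IsAffineOpen V ∧ y ∈ V ∧ V ≤ U ∧ ∀ z ∈ V, z ∈ Y.basicOpen g ↔ z ∉ closure {η} := by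
  let Z : Set Y := ((U : Set Y) \ closure {η}) \ (Y.basicOpen g : Set Y)
  have hy' : y ∉ closure Z := by
    intro hcl
    obtain ⟨T, hT, -, hTi, hTu⟩ :=
      NoetherianSpace.exists_finite_set_isClosed_irreducible (α := Z) isClosed_univ
    have hZ : Z = ⋃ t ∈ T, Subtype.val '' t := by
      rw [← Set.image_iUnion₂, ← Set.sUnion_eq_biUnion, ← hTu, Set.image_univ, Subtype.range_coe]
    rw [hZ, hT.closure_biUnion] at hcl
    obtain ⟨t, htT, hxt⟩ := Set.mem_iUnion₂.1 hcl
    have hirr : IsIrreducible (Subtype.val '' t) := (hTi t htT).image _ continuous_subtype_val.continuousOn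
    have hgen := hirr.isGenericPoint_genericPoint_closure
    obtain ⟨w, hw⟩ := hirr.1
    have hsub : Subtype.val '' t ⊆ Z := fun z ⟨a, _, e⟩ => e ▸ a.2
    have hmem : hirr.genericPoint ∈ ((U : Set Y) \ closure {η}) := by
      have h := (hgen.specializes (subset_closure hw)).mem_open
        (U.isOpen.sdiff isClosed_closure) (hsub hw).1
      exact h
    have hng : hirr.genericPoint ∉ Y.basicOpen g := fun hU => by
      obtain ⟨v, hvU, hv⟩ := mem_closure_iff.1 hgen.mem _ (Y.basicOpen g).isOpen hU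
      exact (hsub hv).2 hvU
    exact hng ((hg _ (hgen.specializes hxt)).2 hmem.2)
  obtain ⟨_, ⟨V, hV, rfl⟩, hyV, hVsub⟩ := Y.isBasis_affineOpens.exists_subset_of_mem_open
    (show y ∈ (U : Set Y) ∩ (closure Z)ᶜ from ⟨hyU, hy'⟩) (U.isOpen.inter isClosed_closure.isOpen_compl)
  refine ⟨V, hV, hyV, fun z hz => (hVsub hz).1, fun z hz => ⟨fun hzg hzD => ?_, fun hzD => ?_⟩⟩
  · exact (hg η hy).1 ((specializes_iff_mem_closure.2 hzD).mem_open (Y.basicOpen g).isOpen hzg)
      (subset_closure rfl)
  · by_contra hn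
    exact (hVsub hz).2 (subset_closure ⟨⟨(hVsub hz).1, hzD⟩, hn⟩)

variable (hY : Pi1.IsNormalScheme Y) {η : Y}

/-- The fat point `Spec (O_η / m^N)`. -/
noncomputable def fat (η : Y) (N : ℕ) :
    Spec (CommRingCat.of (Y.presheaf.stalk η ⧸ maximalIdeal (Y.presheaf.stalk η) ^ N)) ⟶ Y :=
  Spec.map (CommRingCat.ofHom (Ideal.Quotient.mk _)) ≫ Y.fromSpecStalk η

theorem range_fat (η : Y) {N : ℕ} (hN : 0 < N) : Set.range (fat η N) = {η} := by
  have hne : maximalIdeal (Y.presheaf.stalk η) ^ N ≠ ⊤ := fun h =>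
    (maximalIdeal.isMaximal (Y.presheaf.stalk η)).ne_top
      (top_le_iff.1 (h ▸ Ideal.pow_le_self (by omega)))
  haveI : Nontrivial (Y.presheaf.stalk η ⧸ maximalIdeal (Y.presheaf.stalk η) ^ N) :=
    Ideal.Quotient.nontrivial_iff.2 hne
  refine Set.eq_singleton_iff_nonempty_unique_mem.2 ⟨Set.range_nonempty _, ?_⟩
  rintro _ ⟨q, rfl⟩
  rw [fat, Scheme.Hom.comp_apply]
  have : Spec.map (CommRingCat.ofHom (Ideal.Quotient.mk (maximalIdeal (Y.presheaf.stalk η) ^ N))) q =
      IsLocalRing.closedPoint (Y.presheaf.stalk η) := by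
    let q' : PrimeSpectrum (Y.presheaf.stalk η) :=
      PrimeSpectrum.comap (Ideal.Quotient.mk (maximalIdeal (Y.presheaf.stalk η) ^ N)) q
    show q' = _
    refine PrimeSpectrum.ext ((maximalIdeal.isMaximal (Y.presheaf.stalk η)).eq_of_le q'.isPrime.ne_top ?_).symm
    refine q'.isPrime.le_of_pow_le (n := N) fun a ha => ?_
    show Ideal.Quotient.mk _ a ∈ q.asIdeal
    rw [Ideal.Quotient.eq_zero_iff_mem.2 ha]
    exact Submodule.zero_mem _
  exact (congrArg _ this).trans Scheme.fromSpecStalk_closedPoint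

theorem fat_app_eq_zero {N : ℕ} (hN : 0 < N) (U : Y.Opens) (hηU : η ∈ U) (f : Γ(Y, U)) :
    (fat η N).app U f = 0 ↔ Y.presheaf.germ U η hηU f ∈ maximalIdeal (Y.presheaf.stalk η) ^ N := by
  let φ := CommRingCat.ofHom (Ideal.Quotient.mk (maximalIdeal (Y.presheaf.stalk η) ^ N))
  have htop : fat η N ⁻¹ᵁ U = ⊤ := by
    ext q
    simp only [Opens.coe_top, Set.mem_univ, iff_true]
    show fat η N q ∈ U
    rw [show fat η N q = η from (range_fat η hN).le ⟨q, rfl⟩]
    exact hηU
  have hbij : Function.Bijective ((Spec (CommRingCat.of _)).presheaf.map (eqToHom htop.symm).op) :=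
    ConcreteCategory.bijective_of_isIso _
  rw [← map_eq_zero_iff _ hbij.1]
  have key : (fat η N).app U ≫ (Spec _).presheaf.map (eqToHom htop.symm).op =
      Y.presheaf.germ U η hηU ≫ φ ≫ (Scheme.ΓSpecIso _).inv := by
    show (Spec.map φ ≫ Y.fromSpecStalk η).app U ≫ _ = _
    rw [Scheme.Hom.comp_app, Scheme.fromSpecStalk_app hηU, Category.assoc, Category.assoc, Category.assoc,
      Scheme.ΓSpecIso_inv_naturality]
    congr 2
  rw [← CommRingCat.comp_apply, key, CommRingCat.comp_apply, CommRingCat.comp_apply,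
    map_eq_zero_iff _ (ConcreteCategory.bijective_of_isIso (Scheme.ΓSpecIso _).inv).1]
  exact Ideal.Quotient.eq_zero_iff_mem

include hY in
/-- A prime divisor locally set-theoretically cut out by one function is the support of an effective
Cartier divisor. -/
theorem exists_cartier (hη : ringKrullDim (Y.presheaf.stalk η) = 1)
    (hloc : ∀ y ∈ closure ({η} : Set Y), ∃ (U : Y.Opens) (g : Γ(Y, U)), y ∈ U ∧
      ∀ z : Y, z ⤳ y → (z ∈ Y.basicOpen g ↔ z ∉ closure {η})) :
    ∃ J : Y.IdealSheafData, FGA.IsEffCartier J ∧ (J.support : Set Y) = closure {η} := by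
  classical
  have hco : Order.coheight η = 1 := by
    rw [ringKrullDim_stalk_eq_coheight] at hη
    exact_mod_cast hη
  haveI := CDiv6.isDVR_of_coheight_one hY hco
  obtain ⟨ϖ, hϖ⟩ := IsDiscreteValuationRing.exists_irreducible (Y.presheaf.stalk η)
  -- affine equations near every point
  have hcov : ∀ y : Y, ∃ (V : Y.Opens) (g : Γ(Y, V)), IsAffineOpen V ∧ y ∈ V ∧
      ∀ z ∈ V, (z ∈ Y.basicOpen g ↔ z ∉ closure {η}) := by
    intro y
    by_cases hy : y ∈ closure ({η} : Set Y)
    · obtain ⟨U, g, hyU, hg⟩ := hloc y hy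
      obtain ⟨V, hV, hyV, hle, hVg⟩ := exists_nhd (specializes_iff_mem_closure.2 hy) U hyU g hg
      refine ⟨V, Y.presheaf.map (homOfLE hle).op g, hV, hyV, fun z hz => ?_⟩
      rw [Scheme.basicOpen_res]
      exact ⟨fun h => (hVg z hz).1 h.2, fun h => ⟨hz, (hVg z hz).2 h⟩⟩
    · obtain ⟨_, ⟨V, hV, rfl⟩, hyV, hVsub⟩ :=
        Y.isBasis_affineOpens.exists_subset_of_mem_open hy isClosed_closure.isOpen_compl
      refine ⟨V, 1, hV, hyV, fun z hz => ?_⟩
      rw [Scheme.basicOpen_of_isUnit _ isUnit_one]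
      exact ⟨fun _ => hVsub hz, fun _ => hz⟩
  choose V g hV hyV hg using hcov
  obtain ⟨K, hK⟩ := isCompact_univ.elim_finite_subcover (fun y => (V y : Set Y)) (fun y => (V y).isOpen)
    fun y _ => Set.mem_iUnion.2 ⟨y, hyV y⟩
  -- the orders along the divisor
  have hord : ∀ y, ∃ n : ℕ, ∀ h : η ∈ V y, 0 < n ∧
      ∃ u : (Y.presheaf.stalk η)ˣ, Y.presheaf.germ (V y) η h (g y) = u * ϖ ^ n := by
    intro y
    by_cases h : η ∈ V y
    · have hng : η ∉ Y.basicOpen (g y) := fun hh => (hg y η h).1 hh (subset_closure rfl)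
      rw [Scheme.mem_basicOpen _ _ _ h] at hng
      have hne : Y.presheaf.germ (V y) η h (g y) ≠ 0 := by
        intro h0
        haveI : Nonempty (V y) := ⟨⟨η, h⟩⟩
        have hz : genericPoint Y ∈ V y :=
          ((genericPoint_spec Y).mem_open_set_iff (V y).isOpen).2 ⟨η, trivial, h⟩
        have hgd : genericPoint Y ∉ closure {η} := fun hh => by
          have := ((specializes_iff_mem_closure.2 hh).antisymm
            ((genericPoint_spec Y).specializes (Set.mem_univ η))).eq
          have h0 : Order.coheight η = 0 := Order.coheight_eq_zero.2 fun b _ => by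
            show η ⤳ b
            rw [this]
            exact (genericPoint_spec Y).specializes (Set.mem_univ b)
          rw [hco] at h0
          exact one_ne_zero h0
        have h2 := (hg y _ hz).2 hgd
        rw [Scheme.mem_basicOpen _ _ _ hz] at h2
        have h3 : g y = 0 := (map_eq_zero_iff _ (germ_injective_of_isIntegral Y η h)).1 h0
        rw [h3, map_zero] at h2
        exact not_isUnit_zero h2
      obtain ⟨n, u, hu⟩ := IsDiscreteValuationRing.eq_unit_mul_pow_irreducible hne hϖ
      refine ⟨n, fun _ => ⟨Nat.pos_of_ne_zero fun h0 => hng ?_, u, hu⟩⟩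
      rw [hu, h0, pow_zero, mul_one]
      exact u.isUnit
    · exact ⟨1, fun h' => absurd h' h⟩
  choose n hn using hord
  let N := ∏ y ∈ K, if η ∈ V y then n y else 1
  have hNpos : 0 < N := Finset.prod_pos fun y _ => by
    split
    · next h => exact (hn y h).1
    · exact one_pos
  refine ⟨(fat η N).ker, fun y => ?_, ?_⟩
  swap
  · rw [Scheme.Hom.support_ker, range_fat η hNpos]
  obtain ⟨k, hk, hyk⟩ := Set.mem_iUnion₂.1 (hK (Set.mem_univ y))
  haveI : Nonempty (V k) := ⟨⟨y, hyk⟩⟩
  refine ⟨⟨V k, hV k⟩, hyk, ?_⟩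
  simp only [Scheme.Hom.ker_apply]
  by_cases hηk : η ∈ V k
  · obtain ⟨hpos, u, hu⟩ := hn k hηk
    have hdvd : n k ∣ N := by
      have := Finset.dvd_prod_of_mem (fun y => if η ∈ V y then n y else 1) hk
      simpa [hηk] using this
    obtain ⟨a, ha⟩ := hdvd
    haveI : IsDomain Γ(Y, V k) := inferInstance
    have hg0 : g k ≠ 0 := by
      intro h0
      rw [h0, map_zero] at hu
      exact mul_ne_zero u.ne_zero (pow_ne_zero _ hϖ.ne_zero) hu.symm
    refine ⟨g k ^ a, mem_nonZeroDivisors_of_ne_zero (pow_ne_zero _ hg0), ?_⟩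
    have hm : maximalIdeal (Y.presheaf.stalk η) ^ N = Ideal.span {ϖ ^ N} := by
      rw [hϖ.maximalIdeal_eq, Ideal.span_singleton_pow]
    have hga : Ideal.span {Y.presheaf.germ (V k) η hηk (g k ^ a)} = maximalIdeal (Y.presheaf.stalk η) ^ N := by
      rw [hm, map_pow, hu, mul_pow, ← pow_mul, ← ha]
      exact Ideal.span_singleton_mul_left_unit (u.isUnit.pow a) _
    ext f
    rw [RingHom.mem_ker, fat_app_eq_zero hNpos _ hηk, Ideal.mem_span_singleton]
    constructor
    · intro hf
      refine Ideal.mem_span_singleton.1 (Ideal.mem_of_localization_maximal fun P hP => ?_)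
      obtain ⟨z, hz⟩ := FinitePushEq.primeIdealOf_surjective (hV k) ⟨P, hP.isPrime⟩
      letI := Y.presheaf.algebra_section_stalk z
      haveI : IsLocalization.AtPrime (Y.presheaf.stalk z.1) P := by
        have := (hV k).isLocalization_stalk z
        rwa [hz] at this
      let e : Localization P.primeCompl ≃ₐ[Γ(Y, V k)] Y.presheaf.stalk z.1 :=
        IsLocalization.algEquiv P.primeCompl _ _
      show algebraMap _ (Localization P.primeCompl) f ∈ _
      rw [Ideal.map_span, Set.image_singleton, Ideal.mem_span_singleton, ← map_dvd_iff e, e.commutes, e.commutes]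
      show Y.presheaf.germ (V k) z.1 z.2 (g k ^ a) ∣ Y.presheaf.germ (V k) z.1 z.2 f
      refine GenFibStalk.span_le_of_height_one hY (fun h0 => pow_ne_zero a hg0
        ((map_eq_zero_iff _ (germ_injective_of_isIntegral Y _ z.2)).1 h0)) fun w hw hwd => ?_
      have hwV : w ∈ V k := hw.mem_open (V k).isOpen z.2
      simp only [← CommRingCat.comp_apply, TopCat.Presheaf.germ_stalkSpecializes]
      by_cases hwη : w ∈ closure ({η} : Set Y)
      · have hw' : w = η := by
          by_contra hne
          have hlt : w < η := lt_of_le_not_ge (specializes_iff_mem_closure.2 hwη)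
            (fun h => hne ((specializes_iff_mem_closure.2 hwη).antisymm h).eq.symm)
          have := Order.coheight_strictAnti hlt (by rw [hco]; exact ENat.one_lt_top)
          rw [ringKrullDim_stalk_eq_coheight] at hwd
          rw [hco, show Order.coheight w = 1 from by exact_mod_cast hwd] at this
          exact lt_irrefl _ this
        subst hw'
        rw [← Ideal.mem_span_singleton]
        rw [show TopCat.Presheaf.germ Y.presheaf (V k) w _ = Y.presheaf.germ (V k) w hηk from rfl, hga]
        exact hf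
      · refine IsUnit.dvd ?_
        rw [map_pow]
        exact ((Y.mem_basicOpen _ _ hwV).1 ((hg k w hwV).2 hwη)).pow a
    · rintro ⟨b, rfl⟩
      rw [map_mul, ← hga]
      exact Ideal.mem_span_singleton.2 (dvd_mul_right _ _)
  · refine ⟨1, one_mem _, ?_⟩
    rw [Ideal.span_singleton_one, Ideal.eq_top_iff_one, RingHom.mem_ker]
    have hbot : fat η N ⁻¹ᵁ V k = ⊥ := by
      ext q
      simp only [Opens.coe_bot, Set.mem_empty_iff_false, iff_false]
      intro hq
      exact hηk ((range_fat η hNpos).le ⟨q, rfl⟩ ▸ hq)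
    haveI : Subsingleton Γ(Spec (CommRingCat.of (Y.presheaf.stalk η ⧸ maximalIdeal (Y.presheaf.stalk η) ^ N)),
        fat η N ⁻¹ᵁ V k) := by
      rw [hbot]; infer_instance
    exact Subsingleton.elim _ _

end Groth.Agent.H23.SymbolicDivisor
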