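import Groth.Prelude.Def_SymTen
import Mathlib.Algebra.Colimit.Module
import Mathlib.Data.Finset.Order
import Mathlib.Data.Fintype.Perm

/-!
Symmetric tensors commute with filtered direct limits.
-/

set_option autoImplicit false

universe u

open scoped TensorProduct

namespace Groth.Agent.H23.TSDirLim

variable {A : Type u} [CommRing A] {B : Type u} [CommRing B] [Algebra A B]
  {ι : Type u} [Preorder ι] [IsDirected ι (fun i j => i ≤ j)] [Nonempty ι]
  {Bi : ι → Type u} [∀ i, CommRing (Bi i)] [∀ i, Algebra A (Bi i)]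
  (t : ∀ i j : ι, i ≤ j → (Bi i →ₐ[A] Bi j)) (φ : ∀ i : ι, Bi i →ₐ[A] B)
  (hcomp : ∀ (i j : ι) (h : i ≤ j), (φ j).comp (t i j h) = φ i)
  (hsurj : ∀ b : B, ∃ (i : ι) (x : Bi i), φ i x = b)
  (hzero : ∀ (i : ι) (x : Bi i), φ i x = 0 → ∃ (j : ι) (h : i ≤ j), t i j h x = 0)
  (hid : ∀ (i : ι) (h : i ≤ i), t i i h = AlgHom.id A (Bi i))
  (htrans : ∀ (i j k : ι) (hij : i ≤ j) (hjk : j ≤ k), (t j k hjk).comp (t i j hij) = t i k (hij.trans hjk))

theorem tmap_tmap {C D E : Type u} [CommRing C] [CommRing D] [CommRing E] [Algebra A C] [Algebra A D] [Algebra A E]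
    (f : C →ₐ[A] D) (g : D →ₐ[A] E) {d : ℕ} (x : ⨂[A] _ : Fin d, C) :
    SymTen.tmap A d g (SymTen.tmap A d f x) = SymTen.tmap A d (g.comp f) x := by
  induction x using PiTensorProduct.induction_on with
  | smul_tprod r v => simp
  | add a b ha hb => simp only [map_add, ha, hb]

include hcomp hsurj in
theorem exists_common {κ : Type*} [Fintype κ] (b : κ → B) (i : ι) :
    ∃ (j : ι) (_ : i ≤ j) (x : κ → Bi j), ∀ k, φ j (x k) = b k := by
  classical
  choose f x hx using fun k => hsurj (b k)
  obtain ⟨j, hj⟩ := Finset.exists_le (insert i (Finset.univ.image f))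
  refine ⟨j, hj i (Finset.mem_insert_self _ _), fun k => t (f k) j (hj _ (Finset.mem_insert_of_mem
    (Finset.mem_image_of_mem f (Finset.mem_univ k)))) (x k), fun k => ?_⟩
  exact (DFunLike.congr_fun (hcomp _ _ _) (x k)).trans (hx k)

include hcomp hzero htrans in
theorem exists_eq {κ : Type*} [Fintype κ] {i i' : ι} (x : κ → Bi i) (x' : κ → Bi i')
    (h : ∀ k, φ i (x k) = φ i' (x' k)) :
    ∃ (j : ι) (hi : i ≤ j) (hi' : i' ≤ j), ∀ k, t i j hi (x k) = t i' j hi' (x' k) := by
  classical
  obtain ⟨l, hl, hl'⟩ := exists_ge_ge i i'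
  choose f hf hf0 using fun k => hzero l (t i l hl (x k) - t i' l hl' (x' k)) (by
    rw [map_sub, show φ l (t i l hl (x k)) = φ i (x k) from DFunLike.congr_fun (hcomp _ _ _) _,
      show φ l (t i' l hl' (x' k)) = φ i' (x' k) from DFunLike.congr_fun (hcomp _ _ _) _, h, sub_self])
  obtain ⟨j, hj⟩ := Finset.exists_le (insert l (Finset.univ.image f))
  have hlj : l ≤ j := hj l (Finset.mem_insert_self _ _)
  refine ⟨j, hl.trans hlj, hl'.trans hlj, fun k => ?_⟩
  have hfk : f k ≤ j := hj _ (Finset.mem_insert_of_mem (Finset.mem_image_of_mem f (Finset.mem_univ k)))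
  have h0 := congrArg (t (f k) j hfk) (hf0 k)
  rw [map_zero, map_sub, map_sub, sub_eq_zero,
    show t (f k) j hfk (t l (f k) (hf k) (t i l hl (x k))) = t i j (hl.trans hlj) (x k) by
      rw [← AlgHom.comp_apply, htrans, ← AlgHom.comp_apply, htrans],
    show t (f k) j hfk (t l (f k) (hf k) (t i' l hl' (x' k))) = t i' j (hl'.trans hlj) (x' k) by
      rw [← AlgHom.comp_apply, htrans, ← AlgHom.comp_apply, htrans]] at h0
  exact h0

include hcomp hsurj hzero hid htrans in
theorem isDirectLimit (d : ℕ) :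
    (∀ z : SymTen.TS A B d, ∃ (i : ι) (y : SymTen.TS A (Bi i) d), SymTen.TSmap A d (φ i) y = z) ∧
      ∀ (i : ι) (y : SymTen.TS A (Bi i) d), SymTen.TSmap A d (φ i) y = 0 →
        ∃ (j : ι) (h : i ≤ j), SymTen.TSmap A d (t i j h) y = 0 := by
  classical
  let G : ι → Type u := fun i => ⨂[A] _ : Fin d, Bi i
  let tr : ∀ i j, i ≤ j → (G i →ₗ[A] G j) := fun i j h => (SymTen.tmap A d (t i j h)).toLinearMap
  haveI : DirectedSystem G fun i j h => tr i j h :=
    ⟨fun i x => by
      show SymTen.tmap A d (t i i le_rfl) x = x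
      rw [hid]
      induction x using PiTensorProduct.induction_on with
      | smul_tprod r v => simp
      | add a b ha hb => simp only [map_add, ha, hb],
    fun k j i hij hjk x => by
      show SymTen.tmap A d (t _ _ _) (SymTen.tmap A d (t _ _ _) x) = SymTen.tmap A d (t _ _ _) x
      rw [tmap_tmap, htrans]⟩
  let L := Module.DirectLimit G tr
  let o := Module.DirectLimit.of A ι G tr
  let F : (Fin d → B) → L := fun b =>
    let h := exists_common t φ hcomp hsurj b (Classical.arbitrary ι)
    o h.choose (PiTensorProduct.tprod A h.choose_spec.choose_spec.choose)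
  have hF : ∀ (j : ι) (x : Fin d → Bi j), F (fun k => φ j (x k)) = o j (PiTensorProduct.tprod A x) := by
    intro j x
    let h := exists_common t φ hcomp hsurj (fun k => φ j (x k)) (Classical.arbitrary ι)
    obtain ⟨l, h1, h2, hl⟩ := exists_eq t φ hcomp hzero htrans h.choose_spec.choose_spec.choose x
      h.choose_spec.choose_spec.choose_spec
    show o h.choose _ = _
    rw [← Module.DirectLimit.of_f (f := tr) (hij := h1), ← Module.DirectLimit.of_f (f := tr) (hij := h2)]
    refine congrArg _ ?_
    exact (SymTen.tmap_tprod A d _ _).trans ((congrArg _ (funext hl)).trans (SymTen.tmap_tprod A d _ _).symm)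
  let Ψ : MultilinearMap A (fun _ : Fin d => B) L := MultilinearMap.mk' F
    (fun b k u v => by
      obtain ⟨j, -, x, hx⟩ := exists_common t φ hcomp hsurj (Sum.elim b ![u, v]) (Classical.arbitrary ι)
      have hb : b = fun l => φ j (x (Sum.inl l)) := funext fun l => (hx (Sum.inl l)).symm
      have hu : u = φ j (x (Sum.inr 0)) := (hx (Sum.inr 0)).symm
      have hv : v = φ j (x (Sum.inr 1)) := (hx (Sum.inr 1)).symm
      have he : ∀ w : Bi j, Function.update b k (φ j w) =
          fun l => φ j (Function.update (fun l => x (Sum.inl l)) k w l) := fun w => by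
        rw [hb]
        funext l
        by_cases hlk : l = k
        · subst hlk; simp
        · simp [hlk]
      rw [hu, hv, ← map_add, he, he, he, hF, hF, hF, MultilinearMap.map_update_add, map_add])
    (fun b k c u => by
      obtain ⟨j, -, x, hx⟩ := exists_common t φ hcomp hsurj (Sum.elim b ![u]) (Classical.arbitrary ι)
      have hb : b = fun l => φ j (x (Sum.inl l)) := funext fun l => (hx (Sum.inl l)).symm
      have hu : u = φ j (x (Sum.inr 0)) := (hx (Sum.inr 0)).symm
      have he : ∀ w : Bi j, Function.update b k (φ j w) =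
          fun l => φ j (Function.update (fun l => x (Sum.inl l)) k w l) := fun w => by
        rw [hb]
        funext l
        by_cases hlk : l = k
        · subst hlk; simp
        · simp [hlk]
      rw [hu, ← map_smul, he, he, hF, hF, MultilinearMap.map_update_smul, map_smul])
  have hlift : ∀ (i : ι) (y : G i), PiTensorProduct.lift Ψ (SymTen.tmap A d (φ i) y) = o i y := fun i y => by
    induction y using PiTensorProduct.induction_on with
    | smul_tprod r v =>
      rw [map_smul, map_smul, map_smul, SymTen.tmap_tprod, PiTensorProduct.lift.tprod]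
      exact congrArg (r • ·) (hF i v)
    | add a b ha hb => simp only [map_add, ha, hb]
  have hexact : ∀ (i : ι) (y : G i), SymTen.tmap A d (φ i) y = 0 →
      ∃ (j : ι) (h : i ≤ j), SymTen.tmap A d (t i j h) y = 0 := fun i y hy => by
    have h0 : o i y = 0 := by rw [← hlift, hy, map_zero]
    exact Module.DirectLimit.of.zero_exact h0
  refine ⟨fun z => ?_, fun i y hy => ?_⟩
  · obtain ⟨i, y₀, hy₀⟩ : ∃ (i : ι) (y : G i), SymTen.tmap A d (φ i) y = z.1 := by
      induction z.1 using PiTensorProduct.induction_on with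
      | smul_tprod r v =>
        obtain ⟨j, -, x, hx⟩ := exists_common t φ hcomp hsurj v (Classical.arbitrary ι)
        exact ⟨j, r • PiTensorProduct.tprod A x, by rw [map_smul, SymTen.tmap_tprod, funext hx]⟩
      | add a b ha hb =>
        obtain ⟨i, x, rfl⟩ := ha
        obtain ⟨i', x', rfl⟩ := hb
        obtain ⟨j, hj, hj'⟩ := exists_ge_ge i i'
        exact ⟨j, SymTen.tmap A d (t i j hj) x + SymTen.tmap A d (t i' j hj') x', by
          rw [map_add, tmap_tmap, tmap_tmap, hcomp, hcomp]⟩
    choose f hf hf0 using fun σ : Equiv.Perm (Fin d) => hexact i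
      (PiTensorProduct.reindex A (fun _ : Fin d => Bi i) σ y₀ - y₀) (by
        rw [map_sub, SymTen.tmap_reindex, hy₀, z.2 σ, sub_self])
    obtain ⟨j, hj⟩ := Finset.exists_le (insert i (Finset.univ.image f))
    have hij : i ≤ j := hj i (Finset.mem_insert_self _ _)
    refine ⟨j, ⟨SymTen.tmap A d (t i j hij) y₀, fun σ => ?_⟩, Subtype.ext ?_⟩
    · have hfj : f σ ≤ j := hj _ (Finset.mem_insert_of_mem (Finset.mem_image_of_mem f (Finset.mem_univ σ)))
      have h0 := congrArg (SymTen.tmap A d (t (f σ) j hfj)) (hf0 σ)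
      rw [map_zero, tmap_tmap, htrans, map_sub, sub_eq_zero] at h0
      rw [← SymTen.tmap_reindex, h0]
    · show SymTen.tmap A d (φ j) (SymTen.tmap A d (t i j hij) y₀) = z.1
      rw [tmap_tmap, hcomp, hy₀]
  · obtain ⟨j, h, hj⟩ := hexact i y.1 (congrArg Subtype.val hy)
    exact ⟨j, h, Subtype.ext hj⟩

end Groth.Agent.H23.TSDirLim
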