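import Groth.Agent.S1850
import Groth.Agent.S1848
import Groth.Agent.CycLib.DivMap

/-! The tame symbol of rational functions on a one-dimensional local domain. -/

set_option autoImplicit false
set_option linter.style.haveILetI false
set_option linter.unusedSectionVars false

universe u

open IsLocalRing

namespace Groth.Agent.H23.TameFun

open Groth.Agent

variable {A : Type u} [CommRing A] [IsDomain A] [IsLocalRing A] [IsNoetherianRing A] [Ring.KrullDimLE 1 A]

/-- The tame symbol. -/
noncomputable def T (a b : A) : ResidueField A := CycAlg.tameSymbol A a b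

/-- The order, as an integer. -/
noncomputable def ordA (a : A) : ℤ := ((Ring.ord A a).toNat : ℤ)

variable {a a' b b' : A}

theorem T_ne_zero (ha : a ≠ 0) (hb : b ≠ 0) : T a b ≠ 0 :=
  TameLib.laws.1 a b (mem_nonZeroDivisors_of_ne_zero ha) (mem_nonZeroDivisors_of_ne_zero hb)

theorem T_mul_left (ha : a ≠ 0) (ha' : a' ≠ 0) (hb : b ≠ 0) : T (a * a') b = T a b * T a' b :=
  (TameLib.laws.2.1 a a' b (mem_nonZeroDivisors_of_ne_zero ha) (mem_nonZeroDivisors_of_ne_zero ha')
    (mem_nonZeroDivisors_of_ne_zero hb)).1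

theorem T_mul_right (ha : a ≠ 0) (ha' : a' ≠ 0) (hb : b ≠ 0) : T b (a * a') = T b a * T b a' :=
  (TameLib.laws.2.1 a a' b (mem_nonZeroDivisors_of_ne_zero ha) (mem_nonZeroDivisors_of_ne_zero ha')
    (mem_nonZeroDivisors_of_ne_zero hb)).2

theorem ordA_mul (ha : a ≠ 0) (hb : b ≠ 0) : ordA (a * b) = ordA a + ordA b := by
  rw [ordA, Ring.ord_mul A (mem_nonZeroDivisors_of_ne_zero hb),
    ENat.toNat_add (Ring.ord_ne_top (mem_nonZeroDivisors_of_ne_zero ha))
      (Ring.ord_ne_top (mem_nonZeroDivisors_of_ne_zero hb)), Nat.cast_add]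
  rfl

theorem T_self (ha : a ≠ 0) : T a a = (-1) ^ ordA a := by
  rw [ordA, zpow_natCast, Ring.ord]
  exact TameLib.laws.2.2.1 a (mem_nonZeroDivisors_of_ne_zero ha)

theorem T_swap (ha : a ≠ 0) (hb : b ≠ 0) : T a b * T b a = 1 := by
  have h := T_self (mul_ne_zero ha hb)
  rw [T_mul_left ha hb (mul_ne_zero ha hb), T_mul_right ha hb ha, T_mul_right ha hb hb, ordA_mul ha hb,
    zpow_add₀ (by norm_num : (-1 : ResidueField A) ≠ 0), ← T_self ha, ← T_self hb] at h
  have h0 : T a a * T b b ≠ 0 := mul_ne_zero (T_ne_zero ha ha) (T_ne_zero hb hb)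
  exact mul_right_cancel₀ h0 (by linear_combination h)

theorem T_unit_left {c : A} (hc : IsUnit c) (hb : b ≠ 0) : T c b = residue A c ^ ordA b := by
  rw [ordA, zpow_natCast, Ring.ord]
  obtain ⟨c, rfl⟩ := hc
  exact TameLib.laws.2.2.2.1 c b (mem_nonZeroDivisors_of_ne_zero hb)

theorem T_unit_right {c : A} (hc : IsUnit c) (hb : b ≠ 0) : T b c = residue A c ^ (-ordA b) := by
  rw [zpow_neg, ← T_unit_left hc hb]
  exact eq_inv_of_mul_eq_one_left (T_swap hb hc.ne_zero)

theorem ordA_unit {c : A} (hc : IsUnit c) : ordA c = 0 := by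
  rw [ordA, Ring.ord, Ideal.span_singleton_eq_top.2 hc, Module.length_eq_zero]
  rfl

theorem T_units {c d : A} (hc : IsUnit c) (hd : IsUnit d) : T c d = 1 := by
  rw [T_unit_left hc hd.ne_zero, ordA_unit hd, zpow_zero]

theorem T_congr_left (ha : a ≠ 0) (ha' : a' ≠ 0) {a₂ a₂' : A} (ha₂ : a₂ ≠ 0) (ha₂' : a₂' ≠ 0)
    (h : a * a₂' = a' * a₂) (hb : b ≠ 0) : T a b / T a₂ b = T a' b / T a₂' b := by
  rw [div_eq_div_iff (T_ne_zero ha₂ hb) (T_ne_zero ha₂' hb), ← T_mul_left ha ha₂' hb, ← T_mul_left ha' ha₂ hb, h]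

theorem T_congr_right (ha : a ≠ 0) (ha' : a' ≠ 0) {a₂ a₂' : A} (ha₂ : a₂ ≠ 0) (ha₂' : a₂' ≠ 0)
    (h : a * a₂' = a' * a₂) (hb : b ≠ 0) : T b a / T b a₂ = T b a' / T b a₂' := by
  rw [div_eq_div_iff (T_ne_zero hb ha₂) (T_ne_zero hb ha₂'), ← T_mul_right ha ha₂' hb, ← T_mul_right ha' ha₂ hb, h]

variable {K : Type u} [Field K] (ι : A →+* K)

/-- A presentation of a nonzero rational function as a fraction. -/
structure Rep (f : K) : Type u where
  num : A
  den : A
  num_ne : num ≠ 0
  den_ne : den ≠ 0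
  eq : f = ι num / ι den

variable {ι}

/-- The symbol of two presented functions. -/
noncomputable def repSym {f g : K} (p : Rep ι f) (q : Rep ι g) : ResidueField A :=
  (T p.num q.num / T p.den q.num) / (T p.num q.den / T p.den q.den)

theorem cross (hι : Function.Injective ι) {f : K} (p p' : Rep ι f) : p.num * p'.den = p'.num * p.den := by
  apply hι
  have h := p.eq.symm.trans p'.eq
  rw [div_eq_div_iff ((map_ne_zero_iff ι hι).2 p.den_ne) ((map_ne_zero_iff ι hι).2 p'.den_ne)] at h
  rw [map_mul, map_mul, h]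

theorem repSym_congr (hι : Function.Injective ι) {f g : K} (p p' : Rep ι f) (q q' : Rep ι g) :
    repSym p q = repSym p' q' := by
  unfold repSym
  rw [T_congr_left p.num_ne p'.num_ne p.den_ne p'.den_ne (cross hι p p') q.num_ne,
    T_congr_left p.num_ne p'.num_ne p.den_ne p'.den_ne (cross hι p p') q.den_ne]
  rw [div_div_div_comm, T_congr_right q.num_ne q'.num_ne q.den_ne q'.den_ne (cross hι q q') p'.num_ne,
    T_congr_right q.num_ne q'.num_ne q.den_ne q'.den_ne (cross hι q q') p'.den_ne, ← div_div_div_comm]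

open Classical in
/-- The tame symbol of two rational functions. -/
noncomputable def sym (ι : A →+* K) (f g : K) : ResidueField A :=
  if h : Nonempty (Rep ι f × Rep ι g) then repSym (Classical.choice h).1 (Classical.choice h).2 else 1

theorem sym_eq (hι : Function.Injective ι) {f g : K} (p : Rep ι f) (q : Rep ι g) : sym ι f g = repSym p q := by
  rw [sym, dif_pos ⟨p, q⟩]
  exact repSym_congr hι _ _ _ _

theorem repSym_ne_zero {f g : K} (p : Rep ι f) (q : Rep ι g) : repSym p q ≠ 0 :=
  div_ne_zero (div_ne_zero (T_ne_zero p.num_ne q.num_ne) (T_ne_zero p.den_ne q.num_ne))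
    (div_ne_zero (T_ne_zero p.num_ne q.den_ne) (T_ne_zero p.den_ne q.den_ne))

/-- The product of two presentations. -/
def Rep.mul {f g : K} (p : Rep ι f) (q : Rep ι g) : Rep ι (f * g) :=
  ⟨p.num * q.num, p.den * q.den, mul_ne_zero p.num_ne q.num_ne, mul_ne_zero p.den_ne q.den_ne, by
    simp only [map_mul, ← div_mul_div_comm, ← p.eq, ← q.eq]⟩

/-- The presentation of an element of the ring. -/
def Rep.of (a : A) (ha : a ≠ 0) : Rep ι (ι a) := ⟨a, 1, ha, one_ne_zero, by rw [map_one, div_one]⟩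

/-- The order of a presented function. -/
noncomputable def Rep.ord {f : K} (p : Rep ι f) : ℤ := ordA p.num - ordA p.den

theorem repSym_mul_left {f f' g : K} (p : Rep ι f) (p' : Rep ι f') (q : Rep ι g) :
    repSym (p.mul p') q = repSym p q * repSym p' q := by
  simp only [repSym, Rep.mul, T_mul_left p.num_ne p'.num_ne q.num_ne, T_mul_left p.num_ne p'.num_ne q.den_ne,
    T_mul_left p.den_ne p'.den_ne q.num_ne, T_mul_left p.den_ne p'.den_ne q.den_ne]
  simp only [div_eq_mul_inv, mul_inv, inv_inv]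
  ring

theorem repSym_mul_right {f g g' : K} (p : Rep ι f) (q : Rep ι g) (q' : Rep ι g') :
    repSym p (q.mul q') = repSym p q * repSym p q' := by
  simp only [repSym, Rep.mul, T_mul_right q.num_ne q'.num_ne p.num_ne, T_mul_right q.num_ne q'.num_ne p.den_ne,
    T_mul_right q.den_ne q'.den_ne p.num_ne, T_mul_right q.den_ne q'.den_ne p.den_ne]
  simp only [div_eq_mul_inv, mul_inv, inv_inv]
  ring

theorem repSym_of_left {g : K} {c : A} (hc : IsUnit c) (q : Rep ι g) :
    repSym (Rep.of (ι := ι) c hc.ne_zero) q = residue A c ^ q.ord := by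
  have hc0 : residue A c ≠ 0 := (hc.map (residue A)).ne_zero
  simp only [repSym, Rep.of, Rep.ord, T_unit_left hc q.num_ne, T_unit_left hc q.den_ne,
    T_unit_left isUnit_one q.num_ne, T_unit_left isUnit_one q.den_ne, map_one, one_zpow, div_one, zpow_sub₀ hc0]

theorem repSym_of_right {f : K} {c : A} (hc : IsUnit c) (p : Rep ι f) :
    repSym p (Rep.of (ι := ι) c hc.ne_zero) = residue A c ^ (-p.ord) := by
  have hc0 : residue A c ≠ 0 := (hc.map (residue A)).ne_zero
  simp only [repSym, Rep.of, Rep.ord, T_unit_right hc p.num_ne, T_unit_right hc p.den_ne,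
    T_unit_right isUnit_one p.num_ne, T_unit_right isUnit_one p.den_ne, map_one, one_zpow, div_one,
    neg_sub, ← zpow_sub₀ hc0]
  congr 1
  ring

theorem sym_ne_zero (hι : Function.Injective ι) {f g : K} (p : Rep ι f) (q : Rep ι g) : sym ι f g ≠ 0 := by
  rw [sym_eq hι p q]
  exact repSym_ne_zero p q

/-- Changing both functions by units. -/
theorem sym_mul_units (hι : Function.Injective ι) {f g : K} (p : Rep ι f) (q : Rep ι g) {c d : A}
    (hc : IsUnit c) (hd : IsUnit d) :
    sym ι (f * ι c) (g * ι d) = sym ι f g * residue A c ^ q.ord * residue A d ^ (-p.ord) := by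
  rw [sym_eq hι (p.mul (Rep.of c hc.ne_zero)) (q.mul (Rep.of d hd.ne_zero)), sym_eq hι p q, repSym_mul_left,
    repSym_mul_right, repSym_mul_right, repSym_of_right hd p, repSym_of_left hc q, repSym_of_left hc]
  rw [show (Rep.of (ι := ι) d hd.ne_zero).ord = 0 from by rw [Rep.ord, Rep.of, ordA_unit hd, ordA_unit isUnit_one, sub_zero],
    zpow_zero, mul_one]
  ring

theorem sym_units (hι : Function.Injective ι) {f g : K} {c d : A} (hc : IsUnit c) (hd : IsUnit d) (hf : f = ι c)
    (hg : g = ι d) : sym ι f g = 1 := by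
  subst hf hg
  rw [sym_eq hι (Rep.of c hc.ne_zero) (Rep.of d hd.ne_zero)]
  simp only [repSym, Rep.of, T_units hc hd, T_units hc isUnit_one, T_units isUnit_one hd,
    T_units isUnit_one isUnit_one, div_one]

/-- The tame symbol is invariant under isomorphisms. -/
theorem T_equiv {A' : Type u} [CommRing A'] [IsDomain A'] [IsLocalRing A'] [IsNoetherianRing A']
    (e : A ≃+* A') (hA : ringKrullDim A = 1) (ha : a ≠ 0) (hb : b ≠ 0) :
    CycAlg.tameSymbol A' (e a) (e b) = ResidueField.map (e : A →+* A') (T a b) := by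
  letI := (e : A →+* A').toAlgebra
  haveI : IsLocalHom (algebraMap A A') := IsLocalHom.of_surjective (e : A →+* A') e.surjective
  haveI : Module.Flat A A' :=
    Module.Flat.of_linearEquiv (LinearEquiv.ofBijective (Algebra.linearMap A A') e.bijective).symm
  have hA' : ringKrullDim A' = 1 := by rw [← ringKrullDim_eq_of_ringEquiv e, hA]
  have h := S1850.result A A' hA hA' a b (mem_nonZeroDivisors_of_ne_zero ha) (mem_nonZeroDivisors_of_ne_zero hb)
  have hm : Ideal.map (algebraMap A A') (maximalIdeal A) = maximalIdeal A' :=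
    IsLocalRing.map_maximalIdeal_of_surjective _ e.surjective
  rw [hm] at h
  have h1 : Module.length A' (A' ⧸ maximalIdeal A') = 1 := by
    rw [Module.length_eq_one_iff]
    exact isSimpleModule_iff_isCoatom.2 (maximalIdeal.isMaximal A').out
  rw [h1, ENat.toNat_one, pow_one] at h
  exact h.symm

end Groth.Agent.H23.TameFun
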