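import Groth.Agent.H23.TameFun
import Groth.Agent.H23.RatSec
import Groth.Agent.S1851

/-! Tame symbols of rational functions on an integral scheme and the key lemma. -/

set_option autoImplicit false
set_option linter.style.haveILetI false
set_option linter.unusedSectionVars false

universe u

open AlgebraicGeometry CategoryTheory TopologicalSpace IsLocalRing

namespace Groth.Agent.H23.TameScheme

open Groth.Agent CDiv6 StalkPrimes TameFun

variable {X : Scheme.{u}} [IsIntegral X]

theorem gen_sp (x : X) : genericPoint X ⤳ x := genericPoint_specializes x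

/-- The inclusion of a stalk into the field of rational functions. -/
noncomputable def inc (x : X) : X.presheaf.stalk x →+* X.residueField (genericPoint X) :=
  Cyc.specMap x (genericPoint X) (gen_sp x)

theorem primeOf_gen (x : X) : (primeOf (gen_sp x)).asIdeal = ⊥ := by
  obtain ⟨w, hw, e⟩ := exists_point (⊥ : Ideal (X.presheaf.stalk x))
  exact eq_bot_iff.2 (e ▸ (primeOf_le_iff hw (gen_sp x)).2 (gen_sp w))

theorem inc_injective (x : X) : Function.Injective (inc x) := by
  rw [RingHom.injective_iff_ker_eq_bot, inc, CycLib.ker_specMap, primeOf_gen]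

theorem inc_spec {x ξ : X} (h : ξ ⤳ x) (a : X.presheaf.stalk x) :
    inc ξ ((X.presheaf.stalkSpecializes h).hom a) = inc x a := by
  show X.residue _ ((X.presheaf.stalkSpecializes h ≫ X.presheaf.stalkSpecializes (gen_sp ξ)).hom a) = _
  rw [TopCat.Presheaf.stalkSpecializes_comp]
  rfl

theorem spec_ne_zero {x ξ : X} (h : ξ ⤳ x) {a : X.presheaf.stalk x} (ha : a ≠ 0) :
    (X.presheaf.stalkSpecializes h).hom a ≠ 0 := fun h0 => ha (inc_injective x (by
  rw [← inc_spec h, h0, map_zero, map_zero]))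

theorem exists_rep (x : X) {f : X.residueField (genericPoint X)} (hf : f ≠ 0) : Nonempty (Rep (inc x) f) := by
  obtain ⟨a, b, ha, hb, e⟩ := DivPull.exists_frac (gen_sp x) hf
  rw [primeOf_gen, Ideal.mem_bot] at ha hb
  exact ⟨⟨a, b, ha, hb, e⟩⟩

/-- A presentation at a point gives one at every generization. -/
noncomputable def repSpec {x ξ : X} (h : ξ ⤳ x) {f : X.residueField (genericPoint X)} (p : Rep (inc x) f) :
    Rep (inc ξ) f :=
  ⟨(X.presheaf.stalkSpecializes h).hom p.num, (X.presheaf.stalkSpecializes h).hom p.den,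
    spec_ne_zero h p.num_ne, spec_ne_zero h p.den_ne, by rw [inc_spec, inc_spec]; exact p.eq⟩

variable [IsLocallyNoetherian X] {δ : X → ℤ}

theorem dim_stalk (hd : Cyc.IsDimFun X δ) {ξ : X} (hξ : δ ξ + 1 = δ (genericPoint X)) :
    ringKrullDim (X.presheaf.stalk ξ) = 1 := by
  rw [CycLib.ringKrullDim_stalk_eq hd, show (δ (genericPoint X) - δ ξ).toNat = 1 by omega]
  rfl

theorem krullDimLE_stalk (hd : Cyc.IsDimFun X δ) {ξ : X} (hξ : δ ξ + 1 = δ (genericPoint X)) :
    Ring.KrullDimLE 1 (X.presheaf.stalk ξ) := by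
  rw [Ring.KrullDimLE, Order.krullDimLE_iff]
  exact (dim_stalk hd hξ).le

/-- The tame symbol of two rational functions at a point. -/
noncomputable def symAt (ξ : X) (f g : X.residueField (genericPoint X)) : X.residueField ξ :=
  haveI := Classical.propDecidable (Ring.KrullDimLE 1 (X.presheaf.stalk ξ))
  if h : Ring.KrullDimLE 1 (X.presheaf.stalk ξ) then
    haveI := h
    TameFun.sym (inc ξ) f g
  else 1

theorem symAt_eq {ξ : X} [h : Ring.KrullDimLE 1 (X.presheaf.stalk ξ)] (f g : X.residueField (genericPoint X)) :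
    symAt ξ f g = TameFun.sym (inc ξ) f g := by
  rw [symAt, dif_pos h]

theorem ordAt_rep (hd : Cyc.IsDimFun X δ) {ξ : X} [Ring.KrullDimLE 1 (X.presheaf.stalk ξ)]
    (hξ : δ ξ + 1 = δ (genericPoint X)) {f : X.residueField (genericPoint X)} (p : Rep (inc ξ) f) :
    Cyc.ordAt ξ (genericPoint X) (gen_sp ξ) f = p.ord := by
  have key : ∀ a : X.presheaf.stalk ξ, a ≠ 0 → Cyc.ordAt ξ (genericPoint X) (gen_sp ξ) (inc ξ a) = ordA a := by
    intro a ha
    have hmk : Ideal.Quotient.mk _ a ≠ (0 : Cyc.LocQuot ξ (genericPoint X) (gen_sp ξ)) := fun h0 =>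
      ha (inc_injective ξ ((RingHom.mem_ker.1 (Ideal.Quotient.eq_zero_iff_mem.1 h0)).trans (map_zero _).symm))
    rw [inc, ← CycLib.algebraMap_locQuot_mk, CycLib.ordAt_algebraMap hd (gen_sp ξ) hξ hmk, ordA]
    let e : X.presheaf.stalk ξ ≃+* Cyc.LocQuot ξ (genericPoint X) (gen_sp ξ) :=
      RingEquiv.ofBijective (Ideal.Quotient.mk _) ⟨(injective_iff_map_eq_zero _).2 fun b hb => by
        rw [Ideal.Quotient.eq_zero_iff_mem, RingHom.mem_ker] at hb
        exact inc_injective ξ (hb.trans (map_zero _).symm), Ideal.Quotient.mk_surjective⟩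
    rw [← CycLib.ord_ringEquiv e a]
    rfl
  have hn : inc ξ p.num ≠ 0 := (map_ne_zero_iff _ (inc_injective ξ)).2 p.num_ne
  have hn' : inc ξ p.den ≠ 0 := (map_ne_zero_iff _ (inc_injective ξ)).2 p.den_ne
  conv_lhs => rw [p.eq]
  rw [div_eq_mul_inv, CycLib.ordAt_mul hd (gen_sp ξ) hξ hn (inv_ne_zero hn'),
    CycLib.ordAt_inv hd (gen_sp ξ) hξ hn', key _ p.num_ne, key _ p.den_ne, Rep.ord]
  ring

theorem symAt_ne_zero {ξ : X} {f g : X.residueField (genericPoint X)} (hf : f ≠ 0) (hg : g ≠ 0) :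
    symAt ξ f g ≠ 0 := by
  by_cases h : Ring.KrullDimLE 1 (X.presheaf.stalk ξ)
  · haveI := h
    obtain ⟨p⟩ := exists_rep ξ hf
    obtain ⟨q⟩ := exists_rep ξ hg
    rw [symAt_eq]
    exact sym_ne_zero (inc_injective ξ) p q
  · rw [symAt, dif_neg h]
    exact one_ne_zero

theorem symAt_mul_units (hd : Cyc.IsDimFun X δ) {ξ : X} (hξ : δ ξ + 1 = δ (genericPoint X))
    {f g : X.residueField (genericPoint X)} (hf : f ≠ 0) (hg : g ≠ 0) {c d : X.presheaf.stalk ξ} (hc : IsUnit c)
    (hd' : IsUnit d) :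
    symAt ξ (f * inc ξ c) (g * inc ξ d) = symAt ξ f g *
      X.residue ξ c ^ Cyc.ordAt ξ (genericPoint X) (gen_sp ξ) g *
      X.residue ξ d ^ (-Cyc.ordAt ξ (genericPoint X) (gen_sp ξ) f) := by
  haveI := krullDimLE_stalk hd hξ
  obtain ⟨p⟩ := exists_rep ξ hf
  obtain ⟨q⟩ := exists_rep ξ hg
  rw [symAt_eq, symAt_eq, ordAt_rep hd hξ p, ordAt_rep hd hξ q]
  exact sym_mul_units (inc_injective ξ) p q hc hd'

theorem symAt_units (hd : Cyc.IsDimFun X δ) {ξ : X} (hξ : δ ξ + 1 = δ (genericPoint X))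
    {f g : X.residueField (genericPoint X)} {c d : X.presheaf.stalk ξ} (hc : IsUnit c) (hd' : IsUnit d)
    (hf : f = inc ξ c) (hg : g = inc ξ d) : symAt ξ f g = 1 := by
  haveI := krullDimLE_stalk hd hξ
  rw [symAt_eq]
  exact sym_units (inc_injective ξ) hc hd' hf hg

open Classical in
/-- The order at `x` of the symbol at `ξ` of two elements of the stalk at `x`. -/
noncomputable def ordT (δ : X → ℤ) (x : X) (a b : X.presheaf.stalk x) (ξ : X) : ℤ :=
  if h : ξ ⤳ x ∧ δ ξ + 1 = δ (genericPoint X) then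
    Cyc.ordAt x ξ h.1 (CycAlg.tameSymbol (X.presheaf.stalk ξ) ((X.presheaf.stalkSpecializes h.1).hom a)
      ((X.presheaf.stalkSpecializes h.1).hom b))
  else 0

theorem ordT_eq_zero_of_units (hd : Cyc.IsDimFun X δ) {x : X} (hx : δ x + 2 = δ (genericPoint X))
    {a b : X.presheaf.stalk x} {ξ : X}
    (hu : ∀ h : ξ ⤳ x, IsUnit ((X.presheaf.stalkSpecializes h).hom a) ∧ IsUnit ((X.presheaf.stalkSpecializes h).hom b)) :
    ordT δ x a b ξ = 0 := by
  classical
  rw [ordT]
  split_ifs with h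
  · haveI := krullDimLE_stalk hd h.2
    have := T_units (A := X.presheaf.stalk ξ) (hu h.1).1 (hu h.1).2
    rw [T] at this
    rw [this]
    exact CycLib.ordAt_one hd h.1 (by omega)
  · rfl

theorem finite_ordT_support (hd : Cyc.IsDimFun X δ) {x : X} (hx : δ x + 2 = δ (genericPoint X))
    {a b : X.presheaf.stalk x} (ha : a ≠ 0) (hb : b ≠ 0) : (Function.support (ordT δ x a b)).Finite := by
  classical
  let e : X → Ideal (X.presheaf.stalk x) := fun ξ => if h : ξ ⤳ x then (primeOf h).asIdeal else ⊤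
  have hmem : ∀ ξ ∈ Function.support (ordT δ x a b), (ξ ⤳ x ∧ δ ξ + 1 = δ (genericPoint X)) ∧
      e ξ ∈ (Ideal.span {a * b}).minimalPrimes := by
    intro ξ hξ
    by_cases h : ξ ⤳ x ∧ δ ξ + 1 = δ (genericPoint X)
    swap
    · exact absurd (dif_neg h) hξ
    refine ⟨h, ?_⟩
    simp only [e, dif_pos h.1]
    have hab : a * b ∈ (primeOf h.1).asIdeal := by
      by_contra hn
      refine hξ (ordT_eq_zero_of_units hd hx fun h' => ?_)
      rw [mem_primeOf, map_mul] at hn
      exact IsUnit.mul_iff.1 (by_contra fun hu => hn hu)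
    refine ⟨⟨(primeOf h.1).2, by rwa [Ideal.span_le, Set.singleton_subset_iff]⟩, fun q hq hle => ?_⟩
    haveI := hq.1
    obtain ⟨w, hw, rfl⟩ := exists_point q
    have hξw := (primeOf_le_iff h.1 hw).1 hle
    rcases eq_or_ne w ξ with rfl | hne
    · exact le_rfl
    · have h1 := CycLib.delta_lt hd hξw hne
      have hwη : w = genericPoint X := ((CycLib.eq_of_delta_le hd (gen_sp w) (by omega))).symm
      subst hwη
      exact absurd (by simpa [primeOf_gen] using hq.2 (Ideal.mem_span_singleton_self _)) (mul_ne_zero ha hb)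
  refine Set.Finite.of_finite_image (((Ideal.finite_minimalPrimes_of_isNoetherianRing _
    (Ideal.span {a * b}))).subset (Set.image_subset_iff.2 fun ξ hξ => (hmem ξ hξ).2)) fun ξ hξ ζ hζ he => ?_
  have h1 := (hmem ξ hξ).1.1
  have h2 := (hmem ζ hζ).1.1
  simp only [e, dif_pos h1, dif_pos h2] at he
  exact primeOf_inj h1 h2 he

theorem ordT_eq (hd : Cyc.IsDimFun X δ) {x ξ : X} (h : ξ ⤳ x) (hξ : δ ξ + 1 = δ (genericPoint X))
    {a b : X.presheaf.stalk x} (ha : a ≠ 0) (hb : b ≠ 0) :
    (primeOf h).asIdeal.height = 1 ∧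
    ordT δ x a b ξ = CycAlg.ordFrac (X.presheaf.stalk x ⧸ (primeOf h).asIdeal) (primeOf h).asIdeal.ResidueField
      (CycAlg.tameSymbol (Localization.AtPrime (primeOf h).asIdeal)
        (algebraMap _ (Localization.AtPrime (primeOf h).asIdeal) a)
        (algebraMap _ (Localization.AtPrime (primeOf h).asIdeal) b)) := by
  letI := (X.presheaf.stalkSpecializes h).hom.toAlgebra
  haveI := isLocalization_primeOf h
  let q := (primeOf h).asIdeal
  let e : Localization.AtPrime q ≃ₐ[X.presheaf.stalk x] X.presheaf.stalk ξ :=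
    IsLocalization.algEquiv q.primeCompl _ _
  have hdimA : ringKrullDim (Localization.AtPrime q) = 1 := by
    rw [ringKrullDim_eq_of_ringEquiv e.toRingEquiv]
    exact dim_stalk hd hξ
  have hq : q.height = 1 := by
    have := IsLocalization.AtPrime.ringKrullDim_eq_height q (Localization.AtPrime q)
    rw [hdimA] at this
    exact WithBot.coe_injective this.symm
  refine ⟨hq, ?_⟩
  haveI : Ring.KrullDimLE 1 (Localization.AtPrime q) := by
    rw [Ring.KrullDimLE, Order.krullDimLE_iff]; exact hdimA.le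
  haveI : IsNoetherianRing (Localization.AtPrime q) :=
    IsLocalization.isNoetherianRing q.primeCompl _ inferInstance
  haveI : IsDomain (Localization.AtPrime q) := e.toRingEquiv.toMulEquiv.isDomain
  have hne : ∀ c : X.presheaf.stalk x, c ≠ 0 → algebraMap _ (Localization.AtPrime q) c ≠ 0 := fun c hc h0 =>
    spec_ne_zero h hc (by
      have := congrArg e h0
      rwa [e.commutes, map_zero] at this)
  have hT := T_equiv e.toRingEquiv hdimA (hne a ha) (hne b hb)
  rw [ordT, dif_pos ⟨h, hξ⟩]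
  have e1 : ∀ c, e.toRingEquiv (algebraMap _ (Localization.AtPrime q) c) = (X.presheaf.stalkSpecializes h).hom c :=
    fun c => e.commutes c
  rw [e1, e1] at hT
  rw [hT]
  haveI : IsLocalHom (e.toRingEquiv : Localization.AtPrime q →+* X.presheaf.stalk ξ) :=
    IsLocalHom.of_surjective _ e.toRingEquiv.surjective
  let r : (X.presheaf.stalk x ⧸ q) ≃+* Cyc.LocQuot x ξ h := Ideal.quotEquivOfEq (CycLib.ker_specMap h).symm
  refine CycLib.ordFrac_congr (K' := X.residueField ξ) r (ResidueField.map (e.toRingEquiv : Localization.AtPrime q →+* X.presheaf.stalk ξ))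
    (fun c => ?_) _
  obtain ⟨c, rfl⟩ := Ideal.Quotient.mk_surjective c
  rw [Ideal.quotEquivOfEq_mk, CycLib.algebraMap_locQuot_mk]
  show ResidueField.map (e.toRingEquiv : Localization.AtPrime q →+* X.presheaf.stalk ξ)
    (residue _ (algebraMap _ (Localization.AtPrime q) c)) = _
  rw [ResidueField.map_residue]
  exact congrArg (residue _) (e1 c)

theorem finsum_ordT (hd : Cyc.IsDimFun X δ) {x : X} (hx : δ x + 2 = δ (genericPoint X))
    {a b : X.presheaf.stalk x} (ha : a ≠ 0) (hb : b ≠ 0) : ∑ᶠ ξ, ordT δ x a b ξ = 0 := by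
  classical
  have hA : ringKrullDim (X.presheaf.stalk x) = 2 := by
    rw [CycLib.ringKrullDim_stalk_eq hd, show (δ (genericPoint X) - δ x).toNat = 2 by omega]
    rfl
  rw [← S1851.result (X.presheaf.stalk x) hA a b (mem_nonZeroDivisors_of_ne_zero ha)
    (mem_nonZeroDivisors_of_ne_zero hb)]
  let S : Set X := {ξ | ξ ⤳ x ∧ δ ξ + 1 = δ (genericPoint X)}
  have h1 : ∑ᶠ ξ, ordT δ x a b ξ = ∑ᶠ ξ ∈ S, ordT δ x a b ξ := by
    rw [finsum_mem_def]
    refine finsum_congr fun ξ => ?_
    by_cases hξ : ξ ∈ S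
    · rw [Set.indicator_of_mem hξ]
    · rw [Set.indicator_of_notMem hξ]
      exact dif_neg hξ
  rw [h1]
  let P : X → PrimeSpectrum (X.presheaf.stalk x) := fun ξ =>
    if h : ξ ⤳ x then primeOf h else IsLocalRing.closedPoint _
  refine finsum_mem_eq_of_bijOn P ⟨fun ξ hξ => ?_, fun ξ hξ ζ hζ he => ?_, fun q hq => ?_⟩ fun ξ hξ => ?_
  · simp only [P, dif_pos hξ.1, Set.mem_setOf_eq]
    exact (ordT_eq hd hξ.1 hξ.2 ha hb).1
  · simp only [P, dif_pos hξ.1, dif_pos hζ.1] at he
    exact primeOf_inj hξ.1 hζ.1 (congrArg PrimeSpectrum.asIdeal he)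
  · obtain ⟨w, hw, e⟩ := exists_point q.asIdeal
    refine ⟨w, ⟨hw, ?_⟩, ?_⟩
    · letI := (X.presheaf.stalkSpecializes hw).hom.toAlgebra
      haveI := isLocalization_primeOf hw
      have h2 := IsLocalization.AtPrime.ringKrullDim_eq_height (primeOf hw).asIdeal (X.presheaf.stalk w)
      rw [e, show q.asIdeal.height = 1 from hq, CycLib.ringKrullDim_stalk_eq hd] at h2
      have h3 : (δ (genericPoint X) - δ w).toNat = 1 := by exact_mod_cast h2
      omega
    · simp only [P, dif_pos hw]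
      exact PrimeSpectrum.ext e
  · let G : PrimeSpectrum (X.presheaf.stalk x) → ℤ := fun q =>
      CycAlg.ordFrac (X.presheaf.stalk x ⧸ q.asIdeal) q.asIdeal.ResidueField
        (CycAlg.tameSymbol (Localization.AtPrime q.asIdeal) (algebraMap _ (Localization.AtPrime q.asIdeal) a)
          (algebraMap _ (Localization.AtPrime q.asIdeal) b))
    exact (ordT_eq hd hξ.1 hξ.2 ha hb).2.trans (congrArg G (dif_pos hξ.1 : P ξ = primeOf hξ.1).symm)

/-- The key lemma on an integral scheme. -/
theorem key (hd : Cyc.IsDimFun X δ) {x : X} (hx : δ x + 2 = δ (genericPoint X))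
    {F G : X.residueField (genericPoint X)} (hF : F ≠ 0) (hG : G ≠ 0) :
    (Function.support fun ξ => Cyc.divFun δ ξ (symAt ξ F G) x *
      (if δ ξ + 1 = δ (genericPoint X) then (1 : ℤ) else 0)).Finite ∧
    ∑ᶠ ξ, Cyc.divFun δ ξ (symAt ξ F G) x * (if δ ξ + 1 = δ (genericPoint X) then (1 : ℤ) else 0) = 0 := by
  classical
  obtain ⟨p⟩ := exists_rep x hF
  obtain ⟨q⟩ := exists_rep x hG
  have e : ∀ ξ, Cyc.divFun δ ξ (symAt ξ F G) x * (if δ ξ + 1 = δ (genericPoint X) then (1 : ℤ) else 0) =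
      ordT δ x p.num q.num ξ - ordT δ x p.den q.num ξ - ordT δ x p.num q.den ξ + ordT δ x p.den q.den ξ := by
    intro ξ
    by_cases h : ξ ⤳ x ∧ δ ξ + 1 = δ (genericPoint X)
    · haveI := krullDimLE_stalk hd h.2
      have hxξ : δ x + 1 = δ ξ := by omega
      rw [if_pos h.2, mul_one, CycLib.divFun_eq δ _ h.1 hxξ, symAt_eq,
        sym_eq (inc_injective ξ) (repSpec h.1 p) (repSpec h.1 q)]
      simp only [repSym, repSpec, ordT, dif_pos h]
      have n1 := T_ne_zero (spec_ne_zero h.1 p.num_ne) (spec_ne_zero h.1 q.num_ne)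
      have n2 := T_ne_zero (spec_ne_zero h.1 p.den_ne) (spec_ne_zero h.1 q.num_ne)
      have n3 := T_ne_zero (spec_ne_zero h.1 p.num_ne) (spec_ne_zero h.1 q.den_ne)
      have n4 := T_ne_zero (spec_ne_zero h.1 p.den_ne) (spec_ne_zero h.1 q.den_ne)
      unfold T at n1 n2 n3 n4 ⊢
      simp only [div_eq_mul_inv, mul_inv, inv_inv]
      erw [CycLib.ordAt_mul hd h.1 hxξ (mul_ne_zero n1 (inv_ne_zero n2)) (mul_ne_zero (inv_ne_zero n3) n4),
        CycLib.ordAt_mul hd h.1 hxξ n1 (inv_ne_zero n2), CycLib.ordAt_mul hd h.1 hxξ (inv_ne_zero n3) n4,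
        CycLib.ordAt_inv hd h.1 hxξ n2, CycLib.ordAt_inv hd h.1 hxξ n3]
      ring
    · simp only [ordT, dif_neg h, sub_zero, add_zero]
      by_cases hξ : δ ξ + 1 = δ (genericPoint X)
      · rw [CycLib.divFun_eq_zero_of_not_specializes δ _ fun hh => h ⟨hh, hξ⟩, zero_mul]
      · rw [if_neg hξ, mul_zero]
  have f1 := finite_ordT_support hd hx p.num_ne q.num_ne
  have f2 := finite_ordT_support hd hx p.den_ne q.num_ne
  have f3 := finite_ordT_support hd hx p.num_ne q.den_ne
  have f4 := finite_ordT_support hd hx p.den_ne q.den_ne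
  refine ⟨((f1.union f2).union (f3.union f4)).subset fun ξ hξ => ?_, ?_⟩
  · by_contra hn
    simp only [Set.mem_union, Function.mem_support, not_or, not_not] at hn
    refine hξ ((e ξ).trans ?_)
    rw [hn.1.1, hn.1.2, hn.2.1, hn.2.2]
    ring
  · rw [finsum_congr e, finsum_add_distrib, finsum_sub_distrib, finsum_sub_distrib f1 f2,
      finsum_ordT hd hx p.num_ne q.num_ne, finsum_ordT hd hx p.den_ne q.num_ne,
      finsum_ordT hd hx p.num_ne q.den_ne, finsum_ordT hd hx p.den_ne q.den_ne]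
    · ring
    · exact (f1.union f2).subset (Function.support_sub _ _)
    · exact f3
    · exact ((f1.union f2).union f3).subset ((Function.support_sub _ _).trans
        (Set.union_subset_union_left _ (Function.support_sub _ _)))
    · exact f4

end Groth.Agent.H23.TameScheme
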