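import Groth.Agent.H23.DblAlg

/-!
Splitting of the trace and its kernel.
-/

universe u

open CategoryTheory CategoryTheory.Limits AlgebraicGeometry TopologicalSpace Opposite

namespace Groth.Agent.H23.TraceSplit

variable {X : Scheme.{u}}

theorem res_res {M : X.Modules} {W'' W' W : X.Opens} (h : W'' ≤ W') (h' : W' ≤ W) (a : Γ(M, W)) :
    M.presheaf.map (homOfLE h).op (M.presheaf.map (homOfLE h').op a) =
      M.presheaf.map (homOfLE (h.trans h')).op a := by
  rw [← ConcreteCategory.comp_apply, ← M.presheaf.map_comp]; rfl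

theorem app_res {M N : X.Modules} (φ : M ⟶ N) {W' W : X.Opens} (h : W' ≤ W) (a : Γ(M, W)) :
    N.presheaf.map (homOfLE h).op (φ.app W a) = φ.app W' (M.presheaf.map (homOfLE h).op a) :=
  (ConcreteCategory.congr_hom (φ.mapPresheaf.naturality (homOfLE h).op) a).symm

variable {M : X.Modules} (τ : M ⟶ Coh.structureModule X) (σ : Coh.structureModule X ⟶ M)

theorem exists_retraction (hστ : σ ≫ τ = 𝟙 _) :
    ∃ q : M ⟶ kernel τ, kernel.ι τ ≫ q = 𝟙 _ ∧ q ≫ kernel.ι τ + τ ≫ σ = 𝟙 _ ∧ σ ≫ q = 0 := by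
  let q : M ⟶ kernel τ := kernel.lift τ (𝟙 M - τ ≫ σ) (by simp [hστ])
  have hq : q ≫ kernel.ι τ = 𝟙 M - τ ≫ σ := kernel.lift_ι _ _ _
  refine ⟨q, ?_, by rw [hq, sub_add_cancel], ?_⟩
  · rw [← cancel_mono (kernel.ι τ), Category.assoc, hq]; simp
  · rw [← cancel_mono (kernel.ι τ), Category.assoc, hq]; simp [reassoc_of% hστ]

theorem kernel_ι_injective (W : X.Opens) : Function.Injective ((kernel.ι τ).app W) :=
  QCoh.app_injective (kernel.ι τ) W

theorem exists_eq_kernel_ι (hστ : σ ≫ τ = 𝟙 _) (W : X.Opens) (a : Γ(M, W)) (ha : τ.app W a = 0) :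
    ∃ l, (kernel.ι τ).app W l = a := by
  obtain ⟨q, -, hq, -⟩ := exists_retraction τ σ hστ
  refine ⟨q.app W a, ?_⟩
  have h := congrArg (fun φ : M ⟶ M => φ.app W a) hq
  change (kernel.ι τ).app W (q.app W a) + σ.app W (τ.app W a) = a at h
  rwa [ha, map_zero, add_zero] at h

theorem kernel_rank {d : ℕ} (hM : FlatMod.IsFinLocFreeOfRank d M) (hστ : σ ≫ τ = 𝟙 _) :
    FlatMod.IsFinLocFreeOfRank (d - 1) (kernel τ) := by
  classical
  intro x
  obtain ⟨U, hx, ⟨e⟩⟩ := hM x
  obtain ⟨s, hs⟩ := Frame.exists_frame e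
  obtain ⟨q, hιq, hq, hσq⟩ := exists_retraction τ σ hστ
  obtain ⟨c, hc⟩ := (hs U le_rfl).2 (σ.app U (Frame.one U))
  let t : Fin d → Γ(X, U) := fun i => τ.app U (s i)
  have hres : ∀ i, M.presheaf.map (homOfLE (le_refl U)).op (s i) = s i := fun i => by
    rw [show (homOfLE (le_refl U)).op = 𝟙 _ from rfl, M.presheaf.map_id]; rfl
  have hsum : ∑ i, c i * t i = 1 := by
    have h := congrArg (τ.app U) hc
    rw [Frame.comb, map_sum] at h
    have h' : τ.app U (σ.app U (Frame.one U)) = Frame.one U :=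
      congr($(congrArg (fun φ => Scheme.Modules.Hom.app φ U) hστ) (Frame.one U))
    rw [h'] at h
    refine Eq.trans (Finset.sum_congr rfl fun i _ => ?_) h
    rw [Scheme.Modules.Hom.app_smul, hres]
    rfl
  obtain ⟨i₀, hi₀⟩ : ∃ i, x ∈ X.basicOpen (c i) := by
    by_contra! hno
    have h1 : ∀ i, X.presheaf.germ U x hx (c i) ∈ IsLocalRing.maximalIdeal (X.presheaf.stalk x) := fun i => by
      rw [IsLocalRing.mem_maximalIdeal, mem_nonunits_iff]
      exact fun hu => hno i ((X.mem_basicOpen _ _ hx).mpr hu)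
    have h2 := congrArg (X.presheaf.germ U x hx) hsum
    rw [map_one, map_sum] at h2
    exact (IsLocalRing.maximalIdeal (X.presheaf.stalk x)).ne_top_iff_one.mp (IsLocalRing.maximalIdeal.isMaximal _).ne_top
      (h2 ▸ Ideal.sum_mem _ fun i _ => by rw [map_mul]; exact Ideal.mul_mem_right _ _ (h1 i))
  let V := X.basicOpen (c i₀)
  have hVU : V ≤ U := X.basicOpen_le _
  refine ⟨V, hi₀, ?_⟩
  obtain ⟨n, rfl⟩ : ∃ n, d = n + 1 := ⟨d - 1, by have := i₀.2; omega⟩
  simp only [Nat.add_sub_cancel]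
  let k : Fin n → Γ(kernel τ, V) := fun i => q.app V (M.presheaf.map (homOfLE hVU).op (s (i₀.succAbove i)))
  refine Frame.exists_iso_of_frame k fun W hW => ?_
  have hWU : W ≤ U := hW.trans hVU
  have hk : ∀ a : Fin n → Γ(X, W), Frame.comb (kernel τ) k W hW a =
      q.app W (∑ i, a i • M.presheaf.map (homOfLE hWU).op (s (i₀.succAbove i))) := fun a => by
    rw [Frame.comb, map_sum]
    refine Finset.sum_congr rfl fun i _ => ?_
    rw [Scheme.Modules.Hom.app_smul]
    refine congrArg (a i • ·) ?_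
    show (kernel τ).presheaf.map (homOfLE hW).op (q.app V _) = _
    rw [app_res, res_res]
  let cW : Fin (n + 1) → Γ(X, W) := fun i => X.presheaf.map (homOfLE hWU).op (c i)
  have hcW : Frame.comb M s W hWU cW = σ.app W (Frame.one W) := by
    rw [← Frame.app_one_res σ hWU, ← hc, Frame.comb, Frame.comb, map_sum]
    refine Finset.sum_congr rfl fun i _ => ?_
    rw [Scheme.Modules.map_smul, hres]
  have hu : IsUnit (cW i₀) := by
    have h := (RingedSpace.isUnit_res_basicOpen X.toRingedSpace (c i₀)).map (X.presheaf.map (homOfLE hW).op).hom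
    have e1 : cW i₀ = (X.presheaf.map (homOfLE hW).op).hom (X.presheaf.map (homOfLE hVU).op (c i₀)) :=
      (FinTrace.res_resO hW hVU (c i₀)).symm
    rw [e1]; exact h
  obtain ⟨v, hv⟩ := hu
  constructor
  · intro a b hab
    let f : Fin (n + 1) → Γ(X, W) := Fin.insertNth i₀ 0 (a - b)
    have hf : Frame.comb M s W hWU f = ∑ i, (a - b) i • M.presheaf.map (homOfLE hWU).op (s (i₀.succAbove i)) := by
      rw [Frame.comb, Fin.sum_univ_succAbove _ i₀]
      simp [f]
    have h0 : q.app W (Frame.comb M s W hWU f) = 0 := by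
      rw [hf, ← hk]
      show Frame.comb (kernel τ) k W hW (a - b) = 0
      have : Frame.comb (kernel τ) k W hW (a - b) =
          Frame.comb (kernel τ) k W hW a - Frame.comb (kernel τ) k W hW b := by
        simp [Frame.comb, sub_smul, Finset.sum_sub_distrib]
      rw [this, hab, sub_self]
    let r : Γ(X, W) := τ.app W (Frame.comb M s W hWU f)
    have h1 : Frame.comb M s W hWU f = Frame.comb M s W hWU (fun i => r * cW i) := by
      have h := congrArg (fun φ : M ⟶ M => φ.app W (Frame.comb M s W hWU f)) hq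
      change (kernel.ι τ).app W (q.app W _) + σ.app W (τ.app W _) = _ at h
      rw [h0, map_zero, zero_add] at h
      refine h.symm.trans ?_
      refine (Frame.app_eq_smul σ W r).trans ?_
      rw [← hcW, Frame.comb, Frame.comb, Finset.smul_sum]
      exact Finset.sum_congr rfl fun i _ => (mul_smul _ _ _).symm
    have h2 := (hs W hWU).1 h1
    have hr : r = 0 := by
      have := congrFun h2 i₀
      simp only [f, Fin.insertNth_apply_same] at this
      rw [← hv] at this
      exact (Units.mul_left_eq_zero v).mp this.symm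
    funext i
    have := congrFun h2 (i₀.succAbove i)
    simp only [f, Fin.insertNth_apply_succAbove, hr, zero_mul, Pi.sub_apply] at this
    exact sub_eq_zero.mp this
  · intro y
    obtain ⟨g, hg⟩ := (hs W hWU).2 ((kernel.ι τ).app W y)
    let r : Γ(X, W) := g i₀ * ↑v⁻¹
    refine ⟨fun i => g (i₀.succAbove i) - r * cW (i₀.succAbove i), ?_⟩
    rw [hk]
    have h : (∑ i, (g (i₀.succAbove i) - r * cW (i₀.succAbove i)) • M.presheaf.map (homOfLE hWU).op (s (i₀.succAbove i)))
        = (kernel.ι τ).app W y - r • σ.app W (Frame.one W) := by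
      rw [← hg, ← hcW, Frame.comb, Frame.comb, Fin.sum_univ_succAbove _ i₀, Fin.sum_univ_succAbove _ i₀]
      have hr : r * cW i₀ = g i₀ := by simp [r, ← hv, mul_assoc]
      simp only [sub_smul, Finset.sum_sub_distrib, smul_add, Finset.smul_sum, smul_smul, hr]
      abel
    rw [h, map_sub, Scheme.Modules.Hom.app_smul]
    have h1 : q.app W ((kernel.ι τ).app W y) = y :=
      congr($(congrArg (fun φ => Scheme.Modules.Hom.app φ W) hιq) y)
    have h2 : q.app W (σ.app W (Frame.one W)) = 0 :=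
      congr($(congrArg (fun φ => Scheme.Modules.Hom.app φ W) hσq) (Frame.one W))
    rw [h1, h2, smul_zero, sub_zero]

theorem exists_section {A : RelSpec.QCAlg X} {d : ℕ} (hA : FlatMod.IsFinLocFreeOfRank d A.toModule)
    {τ : A.toModule ⟶ Coh.structureModule X} (hτ : FinCov.IsTrace A τ) (hd : IsUnit ((d : Γ(X, ⊤)))) :
    ∃ σ : Coh.structureModule X ⟶ A.toModule, σ ≫ τ = 𝟙 _ ∧
      ∀ (W : X.Opens), ∃ u : Γ(X, W), σ.app W (Frame.one W) = (A.str.app (op W)).hom u := by
  obtain ⟨w, hw⟩ := hd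
  let μ : Coh.structureModule X ⟶ Coh.structureModule X :=
    QCoh.homOfTop (P := Coh.structureModule X) (show Γ(Coh.structureModule X, ⊤) from (↑w⁻¹ : Γ(X, ⊤)))
  refine ⟨μ ≫ FinCov.strMod A, ?_, fun W => ⟨μ.app W (Frame.one W), rfl⟩⟩
  rw [Category.assoc, DblAlg.strMod_comp_trace hA hτ, Preadditive.comp_nsmul, Category.comp_id]
  refine Scheme.Modules.hom_ext _ _ fun W => ?_
  ext r
  have e1 : (d • μ).app W r = d • μ.app W r :=
    map_nsmul ({ toFun := fun φ => φ.app W r, map_zero' := rfl, map_add' := fun _ _ => rfl } :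
      (Coh.structureModule X ⟶ Coh.structureModule X) →+ Γ(Coh.structureModule X, W)) d μ
  refine e1.trans ?_
  rw [show μ.app W r = (show Γ(X, W) from r) • _ from QCoh.homOfTop_app _ (show Γ(X, W) from r)]
  show d • ((show Γ(X, W) from r) * X.presheaf.map (homOfLE le_top).op (↑w⁻¹ : Γ(X, ⊤))) = (show Γ(X, W) from r)
  have key : ∀ a : Γ(X, W), (d : Γ(X, W)) * (a * X.presheaf.map (homOfLE (le_top : W ≤ ⊤)).op (↑w⁻¹ : Γ(X, ⊤))) = a :=
    fun a => by
      rw [mul_left_comm, ← map_natCast (X.presheaf.map (homOfLE (le_top : W ≤ ⊤)).op).hom d]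
      refine (congrArg (a * ·) ?_).trans (mul_one a)
      refine ((map_mul (X.presheaf.map (homOfLE (le_top : W ≤ ⊤)).op).hom _ _).symm).trans ?_
      rw [← hw, Units.mul_inv, map_one]
  exact (nsmul_eq_mul d _).trans (key _)

end Groth.Agent.H23.TraceSplit
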