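import Groth.Agent.TwistX.Global
import Groth.Agent.InvX.Tensor
import Groth.Prelude.Def_CohB1

/-!
# `O(n)` on a `Proj` covered by degree one elements
-/

universe u

open CategoryTheory AlgebraicGeometry TopologicalSpace Opposite

set_option backward.isDefEq.respectTransparency false
set_option backward.isDefEq.respectTransparency.types false

namespace Groth.Agent.H23.TwistAmple

open Groth.Agent

variable {R A : Type u} [CommRing R] [CommRing A] [Algebra R A]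
  {𝒜 : ℕ → Submodule R A} [GradedAlgebra 𝒜]

theorem pow_mem {g : A} (hg : g ∈ 𝒜 1) (n : ℕ) : g ^ n ∈ 𝒜 n := by simpa using SetLike.pow_mem_graded n hg

/-- The section `g ^ n / 1`. -/
noncomputable def sec {g : A} (hg : g ∈ 𝒜 1) (n : ℕ) : Γ(Twist.twist 𝒜 (n : ℤ), ⊤) :=
  Twist.globalOf 𝒜 ⟨g ^ n, pow_mem hg n⟩

theorem isFrame_sec {g : A} (hg : g ∈ 𝒜 1) (n : ℕ) :
    InvX.IsFrame (AModX.res (Twist.twist 𝒜 (n : ℤ)) (le_top : Proj.basicOpen 𝒜 g ≤ ⊤) (sec hg n)) :=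
  TwistX.isFrame_res_globalOf _ fun y => TwistX.notMem_pow (show g ∉ y.1.asHomogeneousIdeal from y.2) n

theorem genLocus_sec (hcov : (⨆ g : 𝒜 1, Proj.basicOpen 𝒜 (g : A)) = ⊤) {g : A} (hg : g ∈ 𝒜 1) {n : ℕ}
    (hn : 0 < n) : CohB1.genLocus (Twist.twist 𝒜 (n : ℤ)) (InvX.ofSect (sec hg n)) = Proj.basicOpen 𝒜 g := by
  refine le_antisymm (fun x hx => ?_) (InvX.le_genLocus _ (by rw [InvX.one_ofSect]; exact isFrame_sec hg n))
  obtain ⟨U, hxU, hU⟩ := InvX.mem_genLocus hx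
  rw [InvX.one_ofSect] at hU
  obtain ⟨g', hg'⟩ := Opens.mem_iSup.1 (hcov.ge (trivial : x ∈ (⊤ : (Proj 𝒜).Opens)))
  obtain ⟨r, hr⟩ := hU.exists_coord (inf_le_left : U ⊓ Proj.basicOpen 𝒜 (g' : A) ≤ U)
    (AModX.res (Twist.twist 𝒜 (n : ℤ)) le_top (sec g'.2 n))
  rw [AModX.res_res] at hr
  have h := congrArg (fun q => ((show Twist.sectN (𝒜 := 𝒜) (n : ℤ) (op (U ⊓ Proj.basicOpen 𝒜 (g' : A))) from q).1
    ⟨x, hxU, hg'⟩).1) hr
  have h' : (Localization.mk ((g' : A) ^ n) 1 : Twist.Loc 𝒜 x) =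
      ((show Twist.O (𝒜 := 𝒜) (op (U ⊓ Proj.basicOpen 𝒜 (g' : A))) from r).1 ⟨x, hxU, hg'⟩).val *
        Localization.mk (g ^ n) 1 :=
    h.trans (Twist.coe_smul_val (n : ℤ) x _ _)
  have hu : IsUnit (Localization.mk ((g' : A) ^ n) 1 : Twist.Loc 𝒜 x) := by
    rw [Localization.mk_one_eq_algebraMap]
    exact (IsLocalization.AtPrime.isUnit_to_map_iff _ x.asHomogeneousIdeal.toIdeal _).2
      (TwistX.notMem_pow hg' n)
  rw [h'] at hu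
  have hu' := isUnit_of_mul_isUnit_right hu
  rw [Localization.mk_one_eq_algebraMap] at hu'
  exact fun hgx => (IsLocalization.AtPrime.isUnit_to_map_iff _ x.asHomogeneousIdeal.toIdeal _).1 hu'
    (Ideal.pow_mem_of_mem _ hgx n hn)

theorem generatedBy (hcov : (⨆ g : 𝒜 1, Proj.basicOpen 𝒜 (g : A)) = ⊤) (n : ℕ) :
    ProjUP.GeneratedBy (Twist.twist 𝒜 (n : ℤ))
      (fun b : 𝒜 n => (Twist.globalOf 𝒜 b : ProjUP.Γm (Twist.twist 𝒜 (n : ℤ)))) :=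
  ProjUPX.generatedBy_of_frames _ fun x => by
    obtain ⟨g, hg⟩ := Opens.mem_iSup.1 (hcov.ge (trivial : x ∈ (⊤ : (Proj 𝒜).Opens)))
    exact ⟨⟨(g : A) ^ n, pow_mem g.2 n⟩, Proj.basicOpen 𝒜 (g : A), hg, isFrame_sec g.2 n⟩

theorem isAmple (hcov : (⨆ g : 𝒜 1, Proj.basicOpen 𝒜 (g : A)) = ⊤) [CompactSpace (Proj 𝒜)] {n : ℕ}
    (hn : 0 < n) : CohB1.IsAmple (Twist.twist 𝒜 (n : ℤ)) := by
  have hmem : ∀ x : Proj 𝒜, ∃ g : 𝒜 1, x ∈ Proj.basicOpen 𝒜 (g : A) := fun x => Opens.mem_iSup.1 (hcov.ge (trivial : x ∈ (⊤ : (Proj 𝒜).Opens)))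
  have hL : PicF.IsInvertible (Twist.twist 𝒜 (n : ℤ)) := InvX.isInvertible_of_frames fun x => by
    obtain ⟨g, hg⟩ := hmem x
    exact ⟨_, hg, _, isFrame_sec g.2 n⟩
  refine ⟨hL, inferInstance, fun x => ?_⟩
  obtain ⟨g, hg⟩ := hmem x
  refine ⟨0, InvX.powHom (InvX.ofSect (sec g.2 n)) 1, ?_⟩
  rw [InvX.genLocus_powHom hL _ 0, genLocus_sec hcov g.2 hn]
  exact ⟨hg, Proj.isAffineOpen_basicOpen 𝒜 (g : A) g.2 Nat.one_pos⟩

end Groth.Agent.H23.TwistAmple
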