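import Groth.Agent.TwistX.Global
import Groth.Agent.InvX.Tensor
import Groth.Agent.PnCoh.Finite.TwistTensor
import Groth.Agent.ZeroCycLib.Small
import Groth.Agent.S13168
import Groth.Prelude.Def_CohB1

/-!
# `O(n)` on `Proj` of a graded algebra generated in mixed degrees
-/

universe u

open CategoryTheory AlgebraicGeometry TopologicalSpace Opposite

set_option backward.isDefEq.respectTransparency false
set_option backward.isDefEq.respectTransparency.types false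

namespace Groth.Agent.H23.TwistLcm

open Groth.Agent

variable {R A : Type u} [CommRing R] [CommRing A] [Algebra R A]
  {𝒜 : ℕ → Submodule R A} [GradedAlgebra 𝒜]

/-- A homogeneous element as a section of the twisting sheaf of its degree. -/
noncomputable def sec {n : ℕ} {g : A} (hg : g ∈ 𝒜 n) : Γ(Twist.twist 𝒜 (n : ℤ), ⊤) :=
  Twist.globalOf 𝒜 ⟨g, hg⟩

theorem isFrame_sec {n : ℕ} {g : A} (hg : g ∈ 𝒜 n) :
    InvX.IsFrame (AModX.res (Twist.twist 𝒜 (n : ℤ)) (le_top : Proj.basicOpen 𝒜 g ≤ ⊤) (sec hg)) :=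
  TwistX.isFrame_res_globalOf _ fun y => y.2

theorem genLocus_sec {n : ℕ} (hcov : ∀ x : Proj 𝒜, ∃ g : 𝒜 n, x ∈ Proj.basicOpen 𝒜 (g : A))
    {g : A} (hg : g ∈ 𝒜 n) :
    CohB1.genLocus (Twist.twist 𝒜 (n : ℤ)) (InvX.ofSect (sec hg)) = Proj.basicOpen 𝒜 g := by
  refine le_antisymm (fun x hx => ?_) (InvX.le_genLocus _ (by rw [InvX.one_ofSect]; exact isFrame_sec hg))
  obtain ⟨U, hxU, hU⟩ := InvX.mem_genLocus hx
  rw [InvX.one_ofSect] at hU
  obtain ⟨g', hg'⟩ := hcov x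
  obtain ⟨r, hr⟩ := hU.exists_coord (inf_le_left : U ⊓ Proj.basicOpen 𝒜 (g' : A) ≤ U)
    (AModX.res (Twist.twist 𝒜 (n : ℤ)) le_top (sec g'.2))
  rw [AModX.res_res] at hr
  have h := congrArg (fun q => ((show Twist.sectN (𝒜 := 𝒜) (n : ℤ) (op (U ⊓ Proj.basicOpen 𝒜 (g' : A))) from q).1
    ⟨x, hxU, hg'⟩).1) hr
  have h' : (Localization.mk (g' : A) 1 : Twist.Loc 𝒜 x) =
      ((show Twist.O (𝒜 := 𝒜) (op (U ⊓ Proj.basicOpen 𝒜 (g' : A))) from r).1 ⟨x, hxU, hg'⟩).val *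
        Localization.mk g 1 :=
    h.trans (Twist.coe_smul_val (n : ℤ) x _ _)
  have hu : IsUnit (Localization.mk (g' : A) 1 : Twist.Loc 𝒜 x) := by
    rw [Localization.mk_one_eq_algebraMap]
    exact (IsLocalization.AtPrime.isUnit_to_map_iff _ x.asHomogeneousIdeal.toIdeal _).2 hg'
  rw [h'] at hu
  have hu' := isUnit_of_mul_isUnit_right hu
  rw [Localization.mk_one_eq_algebraMap] at hu'
  exact (IsLocalization.AtPrime.isUnit_to_map_iff _ x.asHomogeneousIdeal.toIdeal _).1 hu'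

theorem isInvertible {n : ℕ} (hcov : ∀ x : Proj 𝒜, ∃ g : 𝒜 n, x ∈ Proj.basicOpen 𝒜 (g : A)) :
    PicF.IsInvertible (Twist.twist 𝒜 (n : ℤ)) :=
  InvX.isInvertible_of_frames fun x => by
    obtain ⟨g, hg⟩ := hcov x
    exact ⟨_, hg, _, isFrame_sec g.2⟩

theorem generatedBy {n : ℕ} (hcov : ∀ x : Proj 𝒜, ∃ g : 𝒜 n, x ∈ Proj.basicOpen 𝒜 (g : A)) :
    ProjUP.GeneratedBy (Twist.twist 𝒜 (n : ℤ))
      (fun b : 𝒜 n => (Twist.globalOf 𝒜 b : ProjUP.Γm (Twist.twist 𝒜 (n : ℤ)))) :=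
  ProjUPX.generatedBy_of_frames _ fun x => by
    obtain ⟨g, hg⟩ := hcov x
    exact ⟨g, Proj.basicOpen 𝒜 (g : A), hg, isFrame_sec g.2⟩

theorem isAmple {n : ℕ} (hn : 0 < n) (hcov : ∀ x : Proj 𝒜, ∃ g : 𝒜 n, x ∈ Proj.basicOpen 𝒜 (g : A))
    [CompactSpace (Proj 𝒜)] : CohB1.IsAmple (Twist.twist 𝒜 (n : ℤ)) := by
  refine ⟨isInvertible hcov, inferInstance, fun x => ?_⟩
  obtain ⟨g, hg⟩ := hcov x
  refine ⟨0, InvX.powHom (InvX.ofSect (sec g.2)) 1, ?_⟩
  rw [InvX.genLocus_powHom (isInvertible hcov) _ 0, genLocus_sec hcov g.2]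
  exact ⟨hg, Proj.isAffineOpen_basicOpen 𝒜 (g : A) g.2 hn⟩

section MixedDegree

variable {s : ℕ} {f : Fin s → A} {deg : Fin s → ℕ}

theorem lcm_pos (hdeg : ∀ i, 0 < deg i) : 0 < Finset.univ.lcm deg := by
  refine Nat.pos_of_ne_zero fun h => ?_
  rw [Finset.lcm_eq_zero_iff] at h
  obtain ⟨i, -, hi⟩ := h
  exact (hdeg i).ne' hi

theorem cover_mul_lcm (hdeg : ∀ i, 0 < deg i) (hf : ∀ i, f i ∈ 𝒜 (deg i))
    (hgen : Algebra.adjoin R (Set.range f) = ⊤) {a : ℕ} (ha : 0 < a) (x : Proj 𝒜) :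
    ∃ g : 𝒜 (a * Finset.univ.lcm deg), x ∈ Proj.basicOpen 𝒜 (g : A) :=
  Opens.mem_iSup.1 ((S13168.result 𝒜 f deg hdeg hf hgen a ha).ge (trivial : x ∈ (⊤ : (Proj 𝒜).Opens)))

theorem exists_notMem (hdeg : ∀ i, 0 < deg i) (hf : ∀ i, f i ∈ 𝒜 (deg i))
    (hgen : Algebra.adjoin R (Set.range f) = ⊤) (x : Proj 𝒜) : ∃ i, x ∈ Proj.basicOpen 𝒜 (f i) := by
  obtain ⟨g, hg⟩ := cover_mul_lcm hdeg hf hgen Nat.one_pos x
  by_contra! h
  refine hg (Submodule.span_le (p := (x.asHomogeneousIdeal.toIdeal).restrictScalars R).2 ?_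
    (ZeroCycLib.le_span_monomials 𝒜 f deg hf hgen _ g.2))
  rintro _ ⟨e, he, rfl⟩
  obtain ⟨k, hk⟩ : ∃ k, e k ≠ 0 := by
    by_contra! hz
    have := lcm_pos hdeg
    simp [hz] at he
    omega
  exact Ideal.prod_mem _ (Finset.mem_univ k) (Ideal.pow_mem_of_mem _ (not_not.1 (h k)) _ (Nat.pos_of_ne_zero hk))

theorem compactSpace (hdeg : ∀ i, 0 < deg i) (hf : ∀ i, f i ∈ 𝒜 (deg i))
    (hgen : Algebra.adjoin R (Set.range f) = ⊤) : CompactSpace (Proj 𝒜) := by
  refine ⟨?_⟩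
  rw [show (Set.univ : Set (Proj 𝒜)) = ⋃ i, (Proj.basicOpen 𝒜 (f i) : Set (Proj 𝒜)) from ?_]
  · exact isCompact_iUnion fun i => (Proj.isAffineOpen_basicOpen 𝒜 (f i) (hf i) (hdeg i)).isCompact
  · exact (Set.eq_univ_of_forall fun x => Set.mem_iUnion.2 (exists_notMem hdeg hf hgen x)).symm

/-- The section given by a fraction. -/
noncomputable def fracS {m : ℤ} {i j : ℕ} {a t : A} (ha : a ∈ 𝒜 i) (ht : t ∈ 𝒜 j) (hd : (i : ℤ) = j + m)
    {U : (Proj 𝒜).Opens} (hU : TwistX.NonVan (𝒜 := 𝒜) t U) : Γ(Twist.twist 𝒜 m, U) :=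
  (⟨fun x => ⟨Localization.mk a ⟨t, hU x⟩,
      Submodule.subset_span ⟨i, j, ⟨a, ha⟩, ⟨t, ht⟩, hU x, hd, rfl⟩⟩,
    fun x => ⟨U, x.2, 𝟙 _, i, j, ⟨a, ha⟩, ⟨t, ht⟩, fun y => hU y, Or.inl hd, fun _ => rfl⟩⟩ :
    Twist.sectN (𝒜 := 𝒜) m (op U))

/-- The function given by a fraction of degree zero. -/
noncomputable def ratS {k : ℕ} {a t : A} (ha : a ∈ 𝒜 k) (ht : t ∈ 𝒜 k)
    {U : (Proj 𝒜).Opens} (hU : TwistX.NonVan (𝒜 := 𝒜) t U) : Γ(Proj 𝒜, U) :=
  (⟨fun x => HomogeneousLocalization.mk ⟨k, ⟨a, ha⟩, ⟨t, ht⟩, hU x⟩,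
    fun x => ⟨U, x.2, 𝟙 _, k, ⟨a, ha⟩, ⟨t, ht⟩, fun y => hU y, fun _ => rfl⟩⟩ : Twist.O (𝒜 := 𝒜) (op U))

theorem fracS_eq_smul {n i j k : ℕ} {a t b c d : A} (ha : a ∈ 𝒜 i) (ht : t ∈ 𝒜 j) (hd' : (i : ℤ) = j + n)
    (hb : b ∈ 𝒜 n) (hc : c ∈ 𝒜 k) (hd : d ∈ 𝒜 k) {U : (Proj 𝒜).Opens}
    (hUt : TwistX.NonVan (𝒜 := 𝒜) t U) (hUd : TwistX.NonVan (𝒜 := 𝒜) d U) (h : a * d = c * b * t) :
    fracS ha ht hd' hUt = ratS hc hd hUd • AModX.res (Twist.twist 𝒜 (n : ℤ)) (le_top : U ≤ ⊤) (sec hb) := by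
  refine Subtype.ext (funext fun x => Subtype.ext ?_)
  refine Eq.trans ?_ (Twist.coe_smul_val (n : ℤ) x.1 _ _).symm
  show Localization.mk a _ = (HomogeneousLocalization.mk _).val * Localization.mk b _
  rw [HomogeneousLocalization.val_mk, Localization.mk_mul, Localization.mk_eq_mk_iff, Localization.r_iff_exists]
  refine ⟨1, ?_⟩
  simp only [OneMemClass.coe_one, Submonoid.coe_mul, one_mul, mul_one]
  linear_combination h

theorem exists_monomial_split (hdeg : ∀ i, 0 < deg i) (hf : ∀ i, f i ∈ 𝒜 (deg i)) {n j q : ℕ} (i : Fin s)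
    (hn : (s - 1) * (Finset.univ.lcm deg - 1) ≤ n) (hq : j = q * deg i) (e : Fin s → ℕ)
    (he : ∑ k, e k * deg k = n + j) :
    ∃ (k : ℕ) (b c : A) (M : ℕ), b ∈ 𝒜 n ∧ c ∈ 𝒜 k ∧ k = M * deg i ∧
      (∏ k, f k ^ e k) * f i ^ M = c * b * f i ^ q := by
  classical
  set L := Finset.univ.lcm deg with hL
  have hdvd : ∀ k, deg k ∣ L := fun k => Finset.dvd_lcm (Finset.mem_univ k)
  have hLpos : 0 < L := lcm_pos hdeg
  choose p hp using hdvd
  have hp0 : ∀ k, 0 < p k := fun k => Nat.pos_of_ne_zero fun h => by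
    have := hp k; rw [h, mul_zero] at this; exact hLpos.ne' this
  let Q : ℕ := ∑ k ∈ Finset.univ.erase i, e k / p k
  let r : Fin s → ℕ := fun k => e k % p k
  let S : ℕ := ∑ k ∈ Finset.univ.erase i, r k * deg k
  have hS : S ≤ n := by
    refine le_trans ?_ hn
    calc S ≤ ∑ _k ∈ Finset.univ.erase i, (L - 1) := Finset.sum_le_sum fun k _ => by
          have h1 : r k * deg k < p k * deg k := Nat.mul_lt_mul_of_pos_right (Nat.mod_lt _ (hp0 k)) (hdeg k)
          have h2 : p k * deg k = L := by rw [mul_comm, ← hp k]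
          omega
      _ = (s - 1) * (L - 1) := by simp
  have hsum : S + (Q * p i + e i) * deg i = n + j := by
    rw [← he, ← Finset.sum_erase_add _ _ (Finset.mem_univ i), add_mul, ← add_assoc]
    congr 1
    have hQ : Q * p i * deg i = ∑ k ∈ Finset.univ.erase i, e k / p k * p k * deg k := by
      rw [mul_assoc, mul_comm (p i), ← hp i, Finset.sum_mul]
      refine Finset.sum_congr rfl fun k _ => ?_
      rw [mul_assoc, mul_comm (p k), ← hp k]
    rw [hQ, ← Finset.sum_add_distrib]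
    refine Finset.sum_congr rfl fun k _ => ?_
    rw [← add_mul, mul_comm (e k / p k), Nat.mod_add_div]
  have hqle : q ≤ Q * p i + e i := by
    exact Nat.le_of_mul_le_mul_right (show q * deg i ≤ (Q * p i + e i) * deg i by omega) (hdeg i)
  let b : A := (∏ k ∈ Finset.univ.erase i, f k ^ r k) * f i ^ (Q * p i + e i - q)
  let c : A := ∏ k ∈ Finset.univ.erase i, (f k ^ p k) ^ (e k / p k)
  have hb : b ∈ 𝒜 n := by
    have h1 : ∏ k ∈ Finset.univ.erase i, f k ^ r k ∈ 𝒜 S :=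
      SetLike.prod_mem_graded 𝒜 (fun k => r k * deg k) _ fun k _ => by simpa using SetLike.pow_mem_graded (r k) (hf k)
    have h2 : f i ^ (Q * p i + e i - q) ∈ 𝒜 ((Q * p i + e i - q) * deg i) := by
      simpa using SetLike.pow_mem_graded _ (hf i)
    have h3 : S + (Q * p i + e i - q) * deg i = n := by
      rw [Nat.sub_mul]
      have := Nat.mul_le_mul_right (deg i) hqle
      omega
    exact h3 ▸ SetLike.mul_mem_graded h1 h2
  have hc : c ∈ 𝒜 (Q * p i * deg i) := by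
    have h1 : c ∈ 𝒜 (∑ k ∈ Finset.univ.erase i, e k / p k * L) :=
      SetLike.prod_mem_graded 𝒜 (fun k => e k / p k * L) _ fun k _ => by
        have : f k ^ p k ∈ 𝒜 L := by
          have := SetLike.pow_mem_graded (p k) (hf k)
          rwa [smul_eq_mul, mul_comm, ← hp k] at this
        simpa using SetLike.pow_mem_graded (e k / p k) this
    rw [show Q * p i * deg i = Q * L by rw [mul_assoc, mul_comm (p i), ← hp i], show Q * L = _ from Finset.sum_mul ..]
    exact h1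
  refine ⟨Q * p i * deg i, b, c, Q * p i, hb, hc, rfl, ?_⟩
  have hprod : (∏ k ∈ Finset.univ.erase i, f k ^ e k) = c * ∏ k ∈ Finset.univ.erase i, f k ^ r k := by
    rw [← Finset.prod_mul_distrib]
    refine Finset.prod_congr rfl fun k _ => ?_
    rw [← pow_mul, ← pow_add]
    exact congrArg (f k ^ ·) (Nat.div_add_mod (e k) (p k)).symm
  have hpow : f i ^ e i * f i ^ (Q * p i) = f i ^ (Q * p i + e i - q) * f i ^ q := by
    rw [← pow_add, ← pow_add, Nat.sub_add_cancel hqle, add_comm]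
  rw [← Finset.prod_erase_mul _ _ (Finset.mem_univ i), hprod]
  show c * _ * _ * _ = c * ((∏ k ∈ Finset.univ.erase i, f k ^ r k) * f i ^ (Q * p i + e i - q)) * _
  linear_combination (c * ∏ k ∈ Finset.univ.erase i, f k ^ r k) * hpow

theorem generatedBy_large (hdeg : ∀ i, 0 < deg i) (hf : ∀ i, f i ∈ 𝒜 (deg i))
    (hgen : Algebra.adjoin R (Set.range f) = ⊤) (n : ℕ) (hn : (s - 1) * (Finset.univ.lcm deg - 1) ≤ n) :
    ProjUP.GeneratedBy (Twist.twist 𝒜 (n : ℤ))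
      (fun b : 𝒜 n => (Twist.globalOf 𝒜 b : ProjUP.Γm (Twist.twist 𝒜 (n : ℤ)))) := by
  classical
  intro x
  refine eq_top_iff.2 fun y _ => ?_
  obtain ⟨W, hxW, σ, rfl⟩ := TopCat.Presheaf.exists_germ_eq (Twist.twist 𝒜 (n : ℤ)).presheaf y
  obtain ⟨i, hi⟩ := exists_notMem hdeg hf hgen x
  obtain ⟨V, hxV, iV, p, q, ⟨a, ha⟩, ⟨t, ht⟩, nin, hpq, w⟩ :=
    (show Twist.sectN (𝒜 := 𝒜) (n : ℤ) (op W) from σ).2 ⟨x, hxW⟩
  dsimp only at hpq
  rcases hpq with hpq | ha0
  swap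
  · -- the zero section
    have h0 : AModX.res (Twist.twist 𝒜 (n : ℤ)) (leOfHom iV) σ = 0 := by
      refine Subtype.ext (funext fun z => Subtype.ext ?_)
      refine (w z).trans ?_
      simp only [ha0]
      exact Localization.mk_zero _
    rw [← InvX.germ_res' (leOfHom iV) hxV σ, h0, map_zero]
    exact zero_mem _
  -- replace the denominator by one of degree divisible by `deg i`
  let U : (Proj 𝒜).Opens := V ⊓ Proj.basicOpen 𝒜 (f i)
  have hUW : U ≤ W := inf_le_left.trans (leOfHom iV)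
  have hxU : x ∈ U := ⟨hxV, hi⟩
  have hd1 := hdeg i
  have ht' : t ^ deg i ∈ 𝒜 (deg i * q) := by simpa using SetLike.pow_mem_graded (deg i) ht
  have hpn : p = q + n := by omega
  have ha' : a * t ^ (deg i - 1) ∈ 𝒜 (n + q * deg i) := by
    have h1 : t ^ (deg i - 1) ∈ 𝒜 ((deg i - 1) * q) := by simpa using SetLike.pow_mem_graded (deg i - 1) ht
    have h2 : p + (deg i - 1) * q = n + q * deg i := by
      obtain ⟨d, hd⟩ : ∃ d, deg i = d + 1 := ⟨deg i - 1, by omega⟩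
      simp only [hd, Nat.add_sub_cancel, hpn]
      ring
    exact h2 ▸ SetLike.mul_mem_graded ha h1
  have hUt : TwistX.NonVan (𝒜 := 𝒜) (t ^ deg i) U := fun z => TwistX.notMem_pow (nin ⟨z.1, z.2.1⟩) _
  have hσ : AModX.res (Twist.twist 𝒜 (n : ℤ)) hUW σ =
      fracS ha' ht' (by push_cast; ring) hUt := by
    refine Subtype.ext (funext fun z => Subtype.ext ?_)
    refine (w ⟨z.1, z.2.1⟩).trans ?_
    show Localization.mk a _ = Localization.mk _ _
    rw [Localization.mk_eq_mk_iff, Localization.r_iff_exists]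
    refine ⟨1, ?_⟩
    simp only [OneMemClass.coe_one, one_mul]
    obtain ⟨d, hd⟩ : ∃ d, deg i = d + 1 := ⟨deg i - 1, by omega⟩
    simp only [hd, Nat.add_sub_cancel]
    ring
  rw [← InvX.germ_res' hUW hxU σ, hσ]
  clear hσ
  -- reduce to monomials
  have key : ∀ c ∈ Submodule.span R ((fun e : Fin s → ℕ => ∏ k, f k ^ e k) ''
      {e | ∑ k, e k * deg k = n + q * deg i}),
      ∃ hc : c ∈ 𝒜 (n + q * deg i), (Twist.twist 𝒜 (n : ℤ)).presheaf.germ U x hxU
        (fracS hc ht' (by push_cast; ring) hUt) ∈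
        Submodule.span ((Proj 𝒜).presheaf.stalk x) (Set.range fun b : 𝒜 n =>
          ((Twist.twist 𝒜 (n : ℤ)).presheaf.germ ⊤ x trivial).hom (Twist.globalOf 𝒜 b)) := by
    intro c hc
    induction hc using Submodule.span_induction with
    | mem c hc =>
      obtain ⟨e, he, rfl⟩ := hc
      refine ⟨(show ∑ k, e k * deg k = _ from he) ▸ ZeroCycLib.monomial_mem 𝒜 f deg hf e, ?_⟩
      obtain ⟨k, b, c, M, hb, hc, hk, hsplit⟩ := exists_monomial_split hdeg hf i hn rfl e he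
      have hnum : c * f i ^ q ∈ 𝒜 (k + q * deg i) :=
        SetLike.mul_mem_graded hc (by simpa using SetLike.pow_mem_graded q (hf i))
      have hden : f i ^ M * t ^ deg i ∈ 𝒜 (k + q * deg i) := by
        rw [hk, mul_comm q]
        exact SetLike.mul_mem_graded (by simpa using SetLike.pow_mem_graded M (hf i)) ht'
      have hnv : TwistX.NonVan (𝒜 := 𝒜) (f i ^ M * t ^ deg i) U := fun z =>
        TwistX.mul_notMem (TwistX.notMem_pow z.2.2 _) (hUt z)
      rw [fracS_eq_smul _ ht' _ hb hnum hden hUt hnv (by linear_combination (t ^ deg i) * hsplit),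
        QCoh.germ_smul', InvX.germ_res' (le_top : U ≤ ⊤) hxU (sec hb)]
      exact Submodule.smul_mem _ _ (Submodule.subset_span ⟨⟨b, hb⟩, rfl⟩)
    | zero =>
      refine ⟨zero_mem _, ?_⟩
      have : fracS (zero_mem (𝒜 (n + q * deg i))) ht' (m := (n : ℤ)) (by push_cast; ring) hUt = 0 :=
        Subtype.ext (funext fun z => Subtype.ext (Localization.mk_zero _))
      rw [this, map_zero]
      exact zero_mem _
    | add c d _ _ hc hd =>
      obtain ⟨hc, hc'⟩ := hc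
      obtain ⟨hd, hd'⟩ := hd
      refine ⟨add_mem hc hd, ?_⟩
      have : fracS (add_mem hc hd) ht' (m := (n : ℤ)) (by push_cast; ring) hUt =
          fracS hc ht' (by push_cast; ring) hUt + fracS hd ht' (by push_cast; ring) hUt :=
        Subtype.ext (funext fun z => Subtype.ext (Localization.add_mk_self _ _ _).symm)
      rw [this, map_add]
      exact add_mem hc' hd'
    | smul r c _ hc =>
      obtain ⟨hc, hc'⟩ := hc
      refine ⟨Submodule.smul_mem _ r hc, ?_⟩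
      have hr : algebraMap R A r ∈ 𝒜 0 := SetLike.algebraMap_mem_graded _ r
      have h1 : TwistX.NonVan (𝒜 := 𝒜) (1 : A) U := fun z h =>
        z.1.isPrime.ne_top ((Ideal.eq_top_iff_one _).mpr h)
      have : fracS (Submodule.smul_mem _ r hc) ht' (m := (n : ℤ)) (by push_cast; ring) hUt =
          ratS hr SetLike.GradedOne.one_mem h1 • fracS hc ht' (by push_cast; ring) hUt := by
        refine Subtype.ext (funext fun z => Subtype.ext ?_)
        refine Eq.trans ?_ (Twist.coe_smul_val (n : ℤ) z.1 _ _).symm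
        show Localization.mk (r • c) _ = (HomogeneousLocalization.mk _).val * Localization.mk c _
        rw [HomogeneousLocalization.val_mk, Localization.mk_mul, Algebra.smul_def]
        congr 1
        exact Subtype.ext (one_mul _).symm
      rw [this, QCoh.germ_smul']
      exact Submodule.smul_mem _ _ hc'
  obtain ⟨_, h⟩ := key _ (ZeroCycLib.le_span_monomials 𝒜 f deg hf hgen _ ha')
  exact h

end MixedDegree

end Groth.Agent.H23.TwistLcm
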