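import Groth.Agent.TwistX.Global
import Groth.Agent.InvX.Tensor
import Groth.Agent.PnCoh.Finite.TwistTensor

/-!
# `O(a) ⊗ O(b) ≅ O(a + b)` when `O(a)` is locally generated by a fraction
-/

universe u

open CategoryTheory CategoryTheory.Limits AlgebraicGeometry TopologicalSpace Opposite MonoidalCategory
open Groth.Agent.KFlatLib

set_option backward.isDefEq.respectTransparency false
set_option backward.isDefEq.respectTransparency.types false

namespace Groth.Agent.H23.TwistMulUnit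

open Groth.Agent Groth.Agent.PnCoh.Finite

variable {R A : Type u} [CommRing R] [CommRing A] [Algebra R A]
  {𝒜 : ℕ → Submodule R A} [GradedAlgebra 𝒜]

/-- The inverse fraction. -/
noncomputable def inv {m : ℤ} {U : Opens (ProjectiveSpectrum.top 𝒜)} (φ : TwistX.UnitFrac (𝒜 := 𝒜) m U) :
    TwistX.UnitFrac (𝒜 := 𝒜) (-m) U where
  i := φ.j
  j := φ.i
  num := φ.den
  den := φ.num
  num_mem := φ.den_mem
  den_mem := φ.num_mem
  deg := by have := φ.deg; omega
  num_ne := φ.den_ne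
  den_ne := φ.num_ne

/-- The product of two sections, in a prescribed degree. -/
noncomputable def mulTo (a b c : ℤ) (h : a + b = c) {U : (Opens (ProjectiveSpectrum.top 𝒜))ᵒᵖ}
    (s : Twist.sectN (𝒜 := 𝒜) a U) (t : Twist.sectN (𝒜 := 𝒜) b U) : Twist.sectN (𝒜 := 𝒜) c U :=
  ⟨fun x => ⟨(s.1 x).1 * (t.1 x).1, h ▸ mul_mem_twistAt (s.1 x).2 (t.1 x).2⟩, fun x => by
    obtain ⟨V, hxV, iV, i, j, p, q, nq, hij, w⟩ := (mulSect a b s t).2 x
    exact ⟨V, hxV, iV, i, j, p, q, nq, hij.imp (fun e => by omega) id, w⟩⟩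

theorem isIso_stalk_mulPre {a : ℤ} {U : (Proj 𝒜).Opens} (φ : TwistX.UnitFrac (𝒜 := 𝒜) a U) {x : Proj 𝒜}
    (hx : x ∈ U) (b : ℤ) : IsIso ((stalkP x).map (mulPre (𝒜 := 𝒜) a b)) := by
  rw [ConcreteCategory.isIso_iff_bijective]
  let P := DCoh.toP.obj (Twist.twist 𝒜 a)
  let Q := DCoh.toP.obj (Twist.twist 𝒜 b)
  let ga : (stalkMod x P : Type u) := germP P U hx (TwistX.fracSect φ)
  let ea := LinearEquiv.ofBijective (LinearMap.toSpanSingleton ((Proj 𝒜).presheaf.stalk x) (stalkMod x P : Type u) ga)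
    ((TwistX.isFrame_fracSect φ).germ_bijective hx)
  let L : (stalkMod x (P ⊗ Q) : Type u) →ₗ[(Proj 𝒜).presheaf.stalk x]
      (stalkMod x (DCoh.toP.obj (Twist.twist 𝒜 (a + b))) : Type u) := ((stalkP x).map (mulPre a b)).hom
  let T := (tensorStalkEquiv P Q).symm.trans ((TensorProduct.congr ea.symm (LinearEquiv.refl _ _)).trans
    (TensorProduct.lid _ _))
  have key : ∀ (W : (Proj 𝒜).Opens) (hW : W ≤ U) (hxW : x ∈ W) (σ : Twist.sectN (𝒜 := 𝒜) b (op W)),
      L (T.symm (germP Q W hxW σ)) =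
        germP (DCoh.toP.obj (Twist.twist 𝒜 (a + b))) W hxW (mulSect a b (TwistX.fracSect (φ.res hW)) σ) := by
    intro W hW hxW σ
    have h1 : T.symm (germP Q W hxW σ) = tensorStalkEquiv P Q (ga ⊗ₜ germP Q W hxW σ) := by
      show tensorStalkEquiv P Q ((TensorProduct.congr ea.symm (LinearEquiv.refl _ _)).symm
        ((TensorProduct.lid _ _).symm _)) = _
      rw [TensorProduct.lid_symm_apply, TensorProduct.congr_symm_tmul]
      show tensorStalkEquiv P Q (((1 : (Proj 𝒜).presheaf.stalk x) • ga) ⊗ₜ _) = _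
      rw [one_smul]
      rfl
    rw [h1]
    have h2 : ga = germP P W hxW (TwistX.fracSect (φ.res hW)) :=
      (germP_res (P := P) (homOfLE hW) hxW _).symm
    rw [h2]
    exact (congrArg _ (ofTensor_germ W hxW _ _)).trans (stalkModMap_germ (mulPre a b) W hxW _)
  have e : ⇑L = (fun z => L (T.symm z)) ∘ T := funext fun z => congrArg L (T.symm_apply_apply z).symm
  show Function.Bijective ⇑L
  rw [e]
  refine Function.Bijective.comp ⟨(injective_iff_map_eq_zero ((L.comp T.symm.toLinearMap))).2 fun m hm => ?_,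
    fun y => ?_⟩ T.bijective
  · obtain ⟨W₀, hxW₀, σ₀, rfl⟩ := exists_germP (P := Q) m
    let W := W₀ ⊓ U
    have hW : W ≤ U := inf_le_right
    have hxW : x ∈ W := ⟨hxW₀, hx⟩
    let i : W ⟶ W₀ := homOfLE inf_le_left
    rw [← germP_res i hxW] at hm ⊢
    replace hm := (key W hW hxW _).symm.trans hm
    obtain ⟨W', hxW', j, j', hjj⟩ := TopCat.Presheaf.germ_eq (C := AddCommGrpCat.{u})
      (DCoh.toP.obj (Twist.twist 𝒜 (a + b))).presheaf x hxW hxW _ 0
      (hm.trans (map_zero (germP (DCoh.toP.obj (Twist.twist 𝒜 (a + b))) W hxW)).symm)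
    rw [← germP_res j hxW']
    refine (congrArg (germP Q W' hxW') (show res Q j (res Q i σ₀) = 0 from ?_)).trans (map_zero _)
    refine Subtype.ext (funext fun y => Subtype.ext ?_)
    have hz := congrArg (fun q => ((show Twist.sectN (𝒜 := 𝒜) (a + b) (op W') from q).1 y).1)
      (hjj.trans (map_zero _))
    exact ((TwistX.isUnit_frac φ ⟨y.1, hW (j.le y.2)⟩).mul_right_eq_zero).1 hz
  · obtain ⟨W₀, hxW₀, τ₀, rfl⟩ := exists_germP (P := DCoh.toP.obj (Twist.twist 𝒜 (a + b))) y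
    let W := W₀ ⊓ U
    have hW : W ≤ U := inf_le_right
    have hxW : x ∈ W := ⟨hxW₀, hx⟩
    let τ : Twist.sectN (𝒜 := 𝒜) (a + b) (op W) := Twist.resN (a + b) (homOfLE inf_le_left).op τ₀
    let σ : Twist.sectN (𝒜 := 𝒜) b (op W) :=
      mulTo (-a) (a + b) b (by omega) (TwistX.fracSect (inv (φ.res hW))) τ
    refine ⟨germP Q W hxW σ, (key W hW hxW σ).trans ?_⟩
    rw [← germP_res (P := DCoh.toP.obj (Twist.twist 𝒜 (a + b))) (homOfLE (inf_le_left : W ≤ W₀)) hxW]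
    refine congrArg (germP (DCoh.toP.obj (Twist.twist 𝒜 (a + b))) W hxW)
      (Subtype.ext (funext fun y => Subtype.ext ?_))
    show Localization.mk φ.num ⟨φ.den, φ.den_ne ⟨y.1, hW y.2⟩⟩ *
      (Localization.mk φ.den ⟨φ.num, φ.num_ne ⟨y.1, hW y.2⟩⟩ * (τ.1 y).1) = (τ.1 y).1
    rw [← mul_assoc, Localization.mk_mul]
    refine (congrArg (· * _) ?_).trans (one_mul _)
    rw [← Localization.mk_one, Localization.mk_eq_mk_iff, Localization.r_iff_exists]
    exact ⟨1, by simp [mul_comm]⟩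

/-- `O(a) ⊗ O(b) ≅ O(a + b)`. -/
theorem nonempty_iso (a b : ℤ)
    (hcov : ∀ x : Proj 𝒜, ∃ (U : (Proj 𝒜).Opens) (_ : TwistX.UnitFrac (𝒜 := 𝒜) a U), x ∈ U) :
    Nonempty (CohB1.tensorMod (Twist.twist 𝒜 a) (Twist.twist 𝒜 b) ≅ Twist.twist 𝒜 (a + b)) := by
  suffices IsIso (mulHom (𝒜 := 𝒜) a b) from ⟨@asIso _ _ _ _ (mulHom a b) this⟩
  apply isIso_of_stalk
  intro x
  obtain ⟨U, φ, hx⟩ := hcov x
  have h : unitShP (DCoh.toP.obj (Twist.twist 𝒜 a) ⊗ DCoh.toP.obj (Twist.twist 𝒜 b)) ≫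
      DCoh.toP.map (mulHom (𝒜 := 𝒜) a b) = mulPre a b :=
    ((PresheafOfModules.sheafificationAdjunction (𝟙 (Proj 𝒜).ringCatSheaf.obj)).homEquiv_unit
      (f := mulHom a b)).symm.trans (Equiv.apply_symm_apply _ _)
  have : IsIso ((stalkP x).map (DCoh.toP.map (mulHom (𝒜 := 𝒜) a b))) :=
    @IsIso.of_isIso_fac_left _ _ _ _ _
      ((stalkP x).map (unitShP (DCoh.toP.obj (Twist.twist 𝒜 a) ⊗ DCoh.toP.obj (Twist.twist 𝒜 b))))
      _ ((stalkP x).map (mulPre a b)) (isIso_stalk_unitShP _) (isIso_stalk_mulPre φ hx b)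
      (((stalkP x).map_comp _ _).symm.trans (congrArg (fun φ => (stalkP x).map φ) h))
  exact (NatIso.isIso_map_iff (stalkToPIso x) (mulHom (𝒜 := 𝒜) a b)).2 this

end Groth.Agent.H23.TwistMulUnit
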