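import Mathlib.Algebra.Algebra.Operations
import Mathlib.GroupTheory.Index
import Mathlib.RingTheory.Nilpotent.Basic
import Mathlib.LinearAlgebra.FiniteDimensional.Defs
import Mathlib.Algebra.CharZero.Defs
import Mathlib.Algebra.Ring.GeomSum

/-!
# Unipotent actions on vector spaces
-/

universe u v w

namespace Groth.Agent.H23.Unipotent

section Single

variable {K : Type u} [Field K] [CharZero K] {V : Type v} [AddCommGroup V] [Module K V]

theorem ker_pow_sub_one (g : Module.End K V) (hg : IsNilpotent (g - 1)) {n : ℕ} (hn : 0 < n) :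
    LinearMap.ker (g ^ n - 1) = LinearMap.ker (g - 1) := by
  set S := ∑ i ∈ Finset.range n, g ^ i with hS
  have hmul : S * (g - 1) = g ^ n - 1 := geom_sum_mul g n
  have hcomm : Commute g (g - 1) := (Commute.refl g).sub_right (Commute.one_right g)
  have hnil : IsNilpotent (S - (n : Module.End K V)) := by
    have : S - (n : Module.End K V) = ∑ i ∈ Finset.range n, (g ^ i - 1) := by
      rw [Finset.sum_sub_distrib, Finset.sum_const, Finset.card_range, nsmul_one]
    rw [this]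
    have hci : ∀ i, g ^ i - 1 = (∑ j ∈ Finset.range i, g ^ j) * (g - 1) := fun i =>
      (geom_sum_mul g i).symm
    simp only [hci]
    rw [← Finset.sum_mul]
    exact Commute.isNilpotent_mul_left
      (Commute.sum_left _ _ _ fun i _ => Commute.sum_left _ _ _ fun j _ => hcomm.pow_left j) hg
  have hu : IsUnit S := by
    have hcs : Commute (S - (n : Module.End K V)) (n : Module.End K V) := Nat.commute_cast _ n
    have hn' : IsUnit (n : Module.End K V) := by
      rw [← map_natCast (algebraMap K (Module.End K V))]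
      exact (isUnit_iff_ne_zero.2 (Nat.cast_ne_zero.2 hn.ne')).map _
    have := hnil.isUnit_add_left_of_commute hn' hcs
    simpa using this
  obtain ⟨T, hT⟩ := hu
  apply le_antisymm
  · intro x hx
    rw [LinearMap.mem_ker] at hx ⊢
    have h1 : (T : Module.End K V) ((g - 1) x) = 0 := by
      rw [← Module.End.mul_apply, hT, hmul]; exact hx
    have h2 : ((↑T⁻¹ * ↑T : Module.End K V)) ((g - 1) x) = 0 := by
      rw [Module.End.mul_apply, h1, map_zero]
    rwa [Units.inv_mul, Module.End.one_apply] at h2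
  · intro x hx
    rw [LinearMap.mem_ker] at hx ⊢
    rw [← hmul, Module.End.mul_apply, hx, map_zero]

theorem fixed_of_fixed_finiteIndex {G : Type w} [Group G] (ρ : G →* (V ≃ₗ[K] V))
    (hunip : ∀ g : G, IsNilpotent (((ρ g : V ≃ₗ[K] V) : Module.End K V) - 1))
    (H : Subgroup G) [H.FiniteIndex] (v : V) (hv : ∀ h ∈ H, ρ h v = v) (g : G) :
    ρ g v = v := by
  obtain ⟨n, hn, -, hgn⟩ :=
    Subgroup.exists_pow_mem_of_index_ne_zero (H := H) Subgroup.FiniteIndex.index_ne_zero g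
  have hp : ∀ m : ℕ, ((ρ (g ^ m) : V ≃ₗ[K] V) : Module.End K V) =
      ((ρ g : V ≃ₗ[K] V) : Module.End K V) ^ m := fun m => by
    induction m with
    | zero => simp; rfl
    | succ m ih => rw [pow_succ, map_mul, pow_succ, ← ih]; rfl
  have hk : v ∈ LinearMap.ker ((((ρ g : V ≃ₗ[K] V) : Module.End K V)) ^ n - 1) := by
    rw [LinearMap.mem_ker, LinearMap.sub_apply, Module.End.one_apply, ← hp, sub_eq_zero]
    exact hv _ hgn
  rw [ker_pow_sub_one _ (hunip g) hn, LinearMap.mem_ker, LinearMap.sub_apply,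
    Module.End.one_apply, sub_eq_zero] at hk
  exact hk

end Single

section Sup

variable {K : Type u} [Field K] {V : Type v} [AddCommGroup V] [Module K V]

local notation "E" => Module.End K V

/-- The span of the `h - 1`. -/
def aug (H : Subgroup (V ≃ₗ[K] V)) : Submodule K E :=
  Submodule.span K (Set.range fun h : H => (((h : V ≃ₗ[K] V)) : E) - 1)

theorem mem_aug {H : Subgroup (V ≃ₗ[K] V)} {h : V ≃ₗ[K] V} (hh : h ∈ H) :
    (h : E) - 1 ∈ aug H :=
  Submodule.subset_span ⟨⟨h, hh⟩, rfl⟩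

theorem aug_pow_eq_bot {H : Subgroup (V ≃ₗ[K] V)} {n : ℕ}
    (h : ∀ f : Fin n → ↥H,
      (List.ofFn fun i => (((f i : ↥H) : V ≃ₗ[K] V) : E) - 1).prod = 0) : aug H ^ n = ⊥ := by
  rw [aug, Submodule.span_pow, Submodule.span_eq_bot]
  intro x hx
  obtain ⟨f, rfl⟩ := Set.mem_pow.1 hx
  choose e he using fun i => (f i).2
  have hfe : (fun i => (f i : E)) = fun i => (((e i : ↥H) : V ≃ₗ[K] V) : E) - 1 :=
    funext fun i => (he i).symm
  rw [hfe]
  exact h e

theorem coe_mul' (a b : V ≃ₗ[K] V) : ((a * b : V ≃ₗ[K] V) : E) = (a : E) * (b : E) := rfl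

theorem exists_sup (H₁ H₂ : Subgroup (V ≃ₗ[K] V))
    (hnorm : ∀ g ∈ H₂, ∀ h ∈ H₁, g * h * g⁻¹ ∈ H₁)
    (h₁ : ∃ n : ℕ, ∀ f : Fin n → ↥H₁,
      (List.ofFn fun i => (((f i : ↥H₁) : V ≃ₗ[K] V) : E) - 1).prod = 0)
    (h₂ : ∃ n : ℕ, ∀ f : Fin n → ↥H₂,
      (List.ofFn fun i => (((f i : ↥H₂) : V ≃ₗ[K] V) : E) - 1).prod = 0) :
    ∃ n : ℕ, ∀ f : Fin n → ↥(H₁ ⊔ H₂),
      (List.ofFn fun i => (((f i : ↥(H₁ ⊔ H₂)) : V ≃ₗ[K] V) : E) - 1).prod = 0 := by
  obtain ⟨n₁, hn₁⟩ := h₁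
  obtain ⟨n₂, hn₂⟩ := h₂
  let B : Submodule K E :=
    Submodule.span K (Set.range fun g : ↥(H₁ ⊔ H₂) => (((g : V ≃ₗ[K] V)) : E))
  let P : Submodule K E := aug H₁ * B
  let Q : Submodule K E := aug H₂ * B ⊔ P
  have memB : ∀ {g : V ≃ₗ[K] V}, g ∈ H₁ ⊔ H₂ → (g : E) ∈ B := fun {g} hg =>
    Submodule.subset_span ⟨⟨g, hg⟩, rfl⟩
  have oneB : (1 : E) ∈ B := memB (one_mem _)
  have BB : B * B ≤ B := by
    simp only [B, Submodule.span_mul_span]
    refine Submodule.span_le.2 ?_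
    rintro _ ⟨_, ⟨a, rfl⟩, _, ⟨b, rfl⟩, rfl⟩
    exact memB (g := (a : V ≃ₗ[K] V) * b) (mul_mem a.2 b.2)
  have hI₁B : aug H₁ ≤ B := Submodule.span_le.2 (by
    rintro _ ⟨h, rfl⟩; exact B.sub_mem (memB (Subgroup.mem_sup_left h.2)) oneB)
  have hI₂B : aug H₂ ≤ B := Submodule.span_le.2 (by
    rintro _ ⟨h, rfl⟩; exact B.sub_mem (memB (Subgroup.mem_sup_right h.2)) oneB)
  have le_mulB : ∀ M : Submodule K E, M ≤ M * B := fun M x hx => by
    simpa using Submodule.mul_mem_mul hx oneB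
  have hn : H₁ ⊔ H₂ ≤ Subgroup.normalizer (H₁ : Set (V ≃ₗ[K] V)) := by
    refine sup_le Subgroup.le_normalizer fun g hg => ?_
    rw [Subgroup.mem_normalizer_iff]
    refine fun h => ⟨hnorm g hg h, fun hh => ?_⟩
    have := hnorm g⁻¹ (inv_mem hg) _ hh
    simpa [mul_assoc] using this
  -- moving `B` to the right of the first augmentation
  have BI₁ : B * aug H₁ ≤ P := by
    simp only [B, aug, Submodule.span_mul_span]
    refine Submodule.span_le.2 ?_
    rintro _ ⟨_, ⟨g, rfl⟩, _, ⟨h, rfl⟩, rfl⟩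
    have hh' : (g : V ≃ₗ[K] V) * h * (g : V ≃ₗ[K] V)⁻¹ ∈ H₁ :=
      ((Subgroup.mem_normalizer_iff.1 (hn g.2)) h).1 h.2
    have : ((g : V ≃ₗ[K] V) : E) * ((((h : V ≃ₗ[K] V)) : E) - 1) =
        ((((g : V ≃ₗ[K] V) * h * (g : V ≃ₗ[K] V)⁻¹ : V ≃ₗ[K] V) : E) - 1) *
          ((g : V ≃ₗ[K] V) : E) := by
      rw [mul_sub, sub_mul, mul_one, one_mul, ← coe_mul', ← coe_mul', inv_mul_cancel_right]
    show ((g : V ≃ₗ[K] V) : E) * ((((h : V ≃ₗ[K] V)) : E) - 1) ∈ P
    rw [this]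
    exact Submodule.mul_mem_mul (mem_aug hh') (memB g.2)
  have BP : B * P ≤ P := calc
    B * P = B * aug H₁ * B := (mul_assoc _ _ _).symm
    _ ≤ P * B := mul_le_mul' BI₁ le_rfl
    _ = aug H₁ * (B * B) := mul_assoc _ _ _
    _ ≤ P := mul_le_mul' le_rfl BB
  have PB : P * B ≤ P := calc
    P * B = aug H₁ * (B * B) := mul_assoc _ _ _
    _ ≤ P := mul_le_mul' le_rfl BB
  have QB : Q * B ≤ Q := by
    rw [Submodule.sup_mul, mul_assoc]
    exact sup_le_sup (mul_le_mul' le_rfl BB) PB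
  -- every element of the generated group is congruent to one modulo `Q`
  have hQ : ∀ g ∈ H₁ ⊔ H₂, (g : E) - 1 ∈ Q := by
    intro g hg
    rw [Subgroup.sup_eq_closure] at hg
    induction hg using Subgroup.closure_induction with
    | mem x hx =>
      rcases hx with hx | hx
      · exact Submodule.mem_sup_right (le_mulB _ (mem_aug hx))
      · exact Submodule.mem_sup_left (le_mulB _ (mem_aug hx))
    | one => rw [show ((1 : V ≃ₗ[K] V) : E) = 1 from rfl, sub_self]; exact Q.zero_mem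
    | mul x y hx hy ihx ihy =>
      rw [← Subgroup.sup_eq_closure] at hx hy
      have : ((x * y : V ≃ₗ[K] V) : E) - 1 = ((x : E) - 1) * (y : E) + ((y : E) - 1) := by
        rw [coe_mul', sub_mul, one_mul]; abel
      rw [this]
      exact Q.add_mem (QB (Submodule.mul_mem_mul ihx (memB hy))) ihy
    | inv x hx ihx =>
      rw [← Subgroup.sup_eq_closure] at hx
      have : ((x⁻¹ : V ≃ₗ[K] V) : E) - 1 = -(((x : E) - 1) * ((x⁻¹ : V ≃ₗ[K] V) : E)) := by
        rw [sub_mul, one_mul, ← coe_mul', mul_inv_cancel]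
        exact (neg_sub _ _).symm
      rw [this]
      exact Q.neg_mem (QB (Submodule.mul_mem_mul ihx (memB (inv_mem hx))))
  -- moving `B` to the right of the second augmentation, modulo `P`
  have BI₂ : B * aug H₂ ≤ Q := by
    simp only [B, aug, Submodule.span_mul_span]
    refine Submodule.span_le.2 ?_
    rintro _ ⟨_, ⟨g, rfl⟩, _, ⟨h, rfl⟩, rfl⟩
    have : ((g : V ≃ₗ[K] V) : E) * ((((h : V ≃ₗ[K] V)) : E) - 1) =
        (((((g : V ≃ₗ[K] V) * h : V ≃ₗ[K] V)) : E) - 1) - (((g : V ≃ₗ[K] V) : E) - 1) := by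
      rw [mul_sub, mul_one, coe_mul']; abel
    show ((g : V ≃ₗ[K] V) : E) * ((((h : V ≃ₗ[K] V)) : E) - 1) ∈ Q
    rw [this]
    exact Q.sub_mem (hQ _ (mul_mem g.2 (Subgroup.mem_sup_right h.2))) (hQ _ g.2)
  have hQ_le : Q ≤ B := sup_le ((mul_le_mul' hI₂B le_rfl).trans BB)
    ((mul_le_mul' hI₁B le_rfl).trans BB)
  have hstep : ∀ n, Q ^ (n + 1) ≤ aug H₂ ^ (n + 1) * B ⊔ P := by
    intro n
    induction n with
    | zero => simp only [zero_add, pow_one, Q]; exact le_rfl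
    | succ n ih =>
      have hpow : aug H₂ ^ (n + 1) * B ≤ B := by
        have : ∀ m, aug H₂ ^ (m + 1) ≤ B := fun m => by
          induction m with
          | zero => simpa using hI₂B
          | succ m ihm => rw [pow_succ]; exact (mul_le_mul' ihm hI₂B).trans BB
        exact (mul_le_mul' (this n) le_rfl).trans BB
      calc Q ^ (n + 1 + 1) = Q ^ (n + 1) * Q := pow_succ _ _
        _ ≤ (aug H₂ ^ (n + 1) * B ⊔ P) * Q := mul_le_mul' ih le_rfl
        _ ≤ aug H₂ ^ (n + 1 + 1) * B ⊔ P := by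
          rw [Submodule.sup_mul]
          refine sup_le ?_ (le_sup_of_le_right ((mul_le_mul' le_rfl hQ_le).trans PB))
          simp only [Q]
          rw [Submodule.mul_sup]
          refine sup_le ?_ (le_sup_of_le_right ((mul_le_mul' hpow le_rfl).trans BP))
          calc aug H₂ ^ (n + 1) * B * (aug H₂ * B)
              = aug H₂ ^ (n + 1) * (B * aug H₂) * B := by simp only [mul_assoc]
            _ ≤ aug H₂ ^ (n + 1) * Q * B := mul_le_mul' (mul_le_mul' le_rfl BI₂) le_rfl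
            _ = aug H₂ ^ (n + 1) * (Q * B) := mul_assoc _ _ _
            _ ≤ aug H₂ ^ (n + 1) * Q := mul_le_mul' le_rfl QB
            _ = aug H₂ ^ (n + 1) * (aug H₂ * B) ⊔ aug H₂ ^ (n + 1) * P := Submodule.mul_sup _ _ _
            _ ≤ aug H₂ ^ (n + 1 + 1) * B ⊔ P := by
              refine sup_le_sup (le_of_eq ?_) ?_
              · rw [pow_succ _ (n + 1), mul_assoc]
              · calc aug H₂ ^ (n + 1) * P ≤ aug H₂ ^ (n + 1) * B * P :=
                      mul_le_mul' (le_mulB _) le_rfl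
                  _ ≤ B * P := mul_le_mul' hpow le_rfl
                  _ ≤ P := BP
  have hP : ∀ k, P ^ (k + 1) ≤ aug H₁ ^ (k + 1) * B := by
    intro k
    induction k with
    | zero => simp only [zero_add, pow_one, P]; exact le_rfl
    | succ k ih =>
      calc P ^ (k + 1 + 1) = P ^ (k + 1) * P := pow_succ _ _
        _ ≤ aug H₁ ^ (k + 1) * B * P := mul_le_mul' ih le_rfl
        _ = aug H₁ ^ (k + 1) * (B * P) := mul_assoc _ _ _
        _ ≤ aug H₁ ^ (k + 1) * P := mul_le_mul' le_rfl BP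
        _ = aug H₁ ^ (k + 1 + 1) * B := by simp only [P, ← mul_assoc, ← pow_succ]
  have hz : Q ^ ((n₂ + 1) * (n₁ + 1)) = ⊥ := by
    rw [pow_mul, eq_bot_iff]
    refine le_trans (pow_le_pow_left' ((hstep n₂).trans (le_of_eq ?_)) _) ((hP n₁).trans (le_of_eq ?_))
    · rw [pow_succ, aug_pow_eq_bot hn₂, Submodule.bot_mul, Submodule.bot_mul, bot_sup_eq]
    · rw [pow_succ, aug_pow_eq_bot hn₁, Submodule.bot_mul, Submodule.bot_mul]
  refine ⟨(n₂ + 1) * (n₁ + 1), fun f => ?_⟩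
  rw [← Submodule.mem_bot K, ← hz]
  refine Submodule.pow_subset_pow _ ?_
  exact Set.mem_pow.2 ⟨fun i => ⟨_, hQ _ (f i).2⟩, rfl⟩

end Sup

end Groth.Agent.H23.Unipotent
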