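import Groth.Prelude.Def_W4stkchowbivarWeakCl
import Groth.Agent.H23.DefBC
import Groth.Agent.H23.DefBuild
import Groth.Agent.H23.FlatClass
import Groth.Agent.H23.GysinClass

/-! A rule compatible with the Gysin maps of trivial normal bundles is a bivariant class. -/

set_option autoImplicit false
set_option linter.style.haveILetI false
set_option backward.isDefEq.respectTransparency false
set_option backward.isDefEq.respectTransparency.types false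

universe u

open CategoryTheory CategoryTheory.Limits AlgebraicGeometry TopologicalSpace Opposite

noncomputable section

namespace Groth.Agent.H23.WeakClDef

open Groth.Agent FlatClass

variable {X Y : Scheme.{u}} {δX : X → ℤ} {δY : Y → ℤ} {f : X ⟶ Y} {p : ℤ}

theorem op_cast (c : Bivar.WeakCl p f δX δY) (s : Bivar.Sq f δX δY) {m n : ℤ} (e : m = n)
    {a : AlgebraicCycle s.Y' ℤ} {b : AlgebraicCycle s.X' ℤ} (ha : a ∈ Cyc.Zk s.Y' s.δY' m)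
    (hb : b ∈ Cyc.Zk s.X' s.δX' (m - p)) (h : c.op s m (ChowOps.cl a ha) = ChowOps.cl b hb) :
    c.op s n (ChowOps.cl a (e ▸ ha)) = ChowOps.cl b (e ▸ hb) := by
  subst e
  exact h

theorem gysinOK (hX : Cyc.IsSetup X δX) (hY : Cyc.IsSetup Y δY) (c : Bivar.WeakCl p f δX δY)
    (s t : Bivar.Sq f δX δY) (i : t.Y' ⟶ s.Y') [IsClosedImmersion i] (j : t.X' ⟶ s.X') [IsClosedImmersion j]
    (w₁ : i ≫ s.g = t.g) (w₂ : j ≫ s.f' = t.f' ≫ i) (w₃ : j ≫ s.g' = t.g') (L : s.Y'.Modules)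
    (hL : PicF.IsInvertible L) (σ : L.presheaf.obj (op (⊤ : s.Y'.Opens))) (hσ : Cyc.IsZeroSchemeOf i L σ)
    (τ : ((Scheme.Modules.pullback s.f').obj L).presheaf.obj (op (⊤ : s.X'.Opens)))
    (hτ : Cyc.IsZeroSchemeOf j ((Scheme.Modules.pullback s.f').obj L) τ) (k : ℤ) :
    Bivar.GysinOK s.δY' t.δY' s.δX' t.δX' i L σ j ((Scheme.Modules.pullback s.f').obj L) τ
      (c.op s k) (c.op t (k - 1)) := by
  intro α hα
  have hs := isSetup_Y' hY s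
  have ht := isSetup_Y' hY t
  have hs' := isSetup_X' hX s
  have ht' := isSetup_X' hX t
  haveI := hs.1
  haveI := ht.1
  haveI := hs'.1
  haveI := ht'.1
  haveI := s.lft
  haveI := lft_g' s
  haveI := t.lft
  haveI := lft_g' t
  have sq := isPullback_hom i j w₁ w₂ w₃
  obtain ⟨S, ⟨eN⟩⟩ := DefBundle.exists_data hL hσ
  let S' := S.bc sq
  let eN' := S.bcN sq eN
  haveI := S.qcρ
  haveI := S'.qcρ
  have hSM := S.setupM hs
  have hSD := S.setupD' hs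
  have hSM' := S'.setupM hs'
  have hSD' := S'.setupD' hs'
  haveI := hSM.1
  haveI := hSD.1
  haveI := hSM'.1
  haveI := hSD'.1
  have hdi := delta_closedImmersionY i w₁
  have hdj := delta_closedImmersionX j w₃
  let sM : Bivar.Sq f δX δY :=
    { Y' := S.M, X' := S'.M, g := (S.jM ≫ S.ρ) ≫ s.g, f' := S.fM sq, g' := (S'.jM ≫ S'.ρ) ≫ s.g'
      isPullback := (S.sqM sq).paste_vert s.isPullback
      lft := inferInstance
      δY' := S.δM s.δY', δX' := S'.δM s.δX'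
      compatY := Bivar.deltaCompat_comp _ s.g _ _ _ (S.compat_q s.δY') s.compatY
      compatX := Bivar.deltaCompat_comp _ s.g' _ _ _ (S'.compat_q s.δX') s.compatX }
  let sD : Bivar.Sq f δX δY :=
    { Y' := S.D', X' := S'.D', g := S.p ≫ t.g, f' := S.fD sq, g' := S'.p ≫ t.g'
      isPullback := (S.sqD sq).paste_vert t.isPullback
      lft := inferInstance
      δY' := S.δD' s.δY', δX' := S'.δD' s.δX'
      compatY := Bivar.deltaCompat_comp S.p t.g _ t.δY' _ (hdi ▸ S.compat_p) t.compatY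
      compatX := Bivar.deltaCompat_comp S'.p t.g' _ t.δX' _ (hdj ▸ S'.compat_p) t.compatX }
  have hq : Cyc.HasRelDim (S.jM ≫ S.ρ) 1 := S.hasRelDim_q hs
  have hq' : Cyc.HasRelDim (S'.jM ≫ S'.ρ) 1 := S'.hasRelDim_q hs'
  have hcq := FlatShift.hasShift_of_hasRelDim (S.jM ≫ S.ρ) hq (S.compat_q s.δY')
  have hcp := FlatShift.hasShift_of_hasRelDim S.p S.hasRelDim_p (S.compat_p (δ := s.δY'))
  have hcp' := FlatShift.hasShift_of_hasRelDim S'.p S'.hasRelDim_p (S'.compat_p (δ := s.δX'))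
  -- pull back to the deformation space
  obtain ⟨β, hβ, eβ, Hq⟩ := c.pull s sM (S.jM ≫ S.ρ) (S'.jM ≫ S'.ρ) 1 hq hq' rfl (S.sqM sq).w.symm rfl k α hα
  refine ⟨β, hβ, eβ, fun w hw γ hγe hγ w' hw' => ?_⟩
  let α₁ : AlgebraicCycle S.M ℤ := pullCycle hcq hSM.2.2 α
  have hα₁ : α₁ ∈ Cyc.Zk S.M (S.δM s.δY') (k + 1) := pullCycle_mem hcq hSM.2.2 hα (by norm_num)
  obtain ⟨β₁, hβ₁, hβ₁e, eβ₁⟩ := Hq α₁ rfl hα₁
  have hLX := PicClLib.isInvertible_pullback s.f' hL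
  let ζ := GysinLib.gysinCycle hLX hs'.2.2 j τ β hw'
  have hζ : ζ ∈ Cyc.Zk t.X' t.δX' (k - 1 - p) := fun d hd => by
    show Cyc.c1CapFun s.δX' _ ⇑β (Cyc.gysinChoice _ τ w') (j d) = 0
    refine GysinLib.c1CapFun_degree _ (fun ξ hξ => hβ ξ hξ) _ ?_
    simp only [hdj] at hd
    omega
  refine ⟨ζ, hζ, fun _ => rfl, ?_⟩
  -- pull back to the special fibre
  obtain ⟨β₂, hβ₂, eβ₂, Hp⟩ := c.pull t sD S.p S'.p 1 S.hasRelDim_p S'.hasRelDim_p rfl (S.fD_p sq).symm rfl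
    (k - 1) γ hγ
  let m : ℤ := k - 1 + ((1 : ℕ) : ℤ)
  let γ₁ : AlgebraicCycle S.D' ℤ := pullCycle hcp hSD.2.2 γ
  have hγ₁e : ⇑γ₁ = Cyc.pullFun S.p (S.δD' s.δY') t.δY' ((1 : ℕ) : ℤ) ⇑γ := by rw [hdi]; rfl
  have hγ₁ : γ₁ ∈ Cyc.Zk S.D' (S.δD' s.δY') m := Bivar.pullFun_mem_Zk S.p _ t.δY' _ _ hγ γ₁ hγ₁e
  obtain ⟨β₂', hβ₂', hβ₂'e, eβ₂'⟩ := Hp γ₁ hγ₁e hγ₁
  -- the Gysin maps of the time
  have hOM := InvX.isInvertible_structureModule (X := S.M)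
  have hOM' := PicClLib.isInvertible_pullback (S.fM sq) hOM
  let eO := (SeesawX.unitIso (S.fM sq)).symm
  let τ' := eO.hom.app ⊤ S'.s'
  have hτ' : Cyc.IsZeroSchemeOf (pullback.fst S'.jM S'.jV) _ τ' := RatSec.isZeroSchemeOf_mapIso eO S'.hs'
  have hg := c.gysinTriv sM sD (pullback.fst S.jM S.jV) (pullback.fst S'.jM S'.jV)
    (show pullback.fst S.jM S.jV ≫ (S.jM ≫ S.ρ) ≫ s.g = S.p ≫ t.g by
      rw [← Category.assoc, S.w, Category.assoc, w₁])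
    (S.fD_fst sq).symm
    (show pullback.fst S'.jM S'.jV ≫ (S'.jM ≫ S'.ρ) ≫ s.g' = S'.p ≫ t.g' by
      rw [← Category.assoc, S'.w, Category.assoc, w₃])
    (Coh.structureModule S.M) hOM ⟨SeesawX.unitIso _⟩ S.s' S.hs' τ' hτ' (k + ((1 : ℕ) : ℤ))
  obtain ⟨β₃, hβ₃, eβ₃, Hg⟩ := hg α₁ hα₁
  obtain ⟨wM, hwM⟩ := RatSec.exists_sections (X := S.M) hOM
  obtain ⟨vM, hvM⟩ := RatSec.exists_sections (X := S'.M) (InvX.isInvertible_structureModule (X := S'.M))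
  let wM' := fun ξ => RatSec.mapSec eO ξ (vM ξ)
  have hwM' : ∀ ξ, wM' ξ ≠ 0 := RatSec.mapSec_ne_zero eO hvM
  let γ₃ := GysinLib.gysinCycle hOM hSM.2.2 (pullback.fst S.jM S.jV) S.s' α₁ hwM
  have hγ₃ : γ₃ ∈ Cyc.Zk S.D' (S.δD' s.δY') (k + ((1 : ℕ) : ℤ) - 1) :=
    GysinClass.gysinCycle_mem hOM hSM.2.2 rfl hα₁ hwM
  obtain ⟨ζ₃, hζ₃, hζ₃e, eζ₃⟩ := Hg wM hwM γ₃ (fun _ => rfl) hγ₃ wM' hwM'
  have e₃ := op_cast c sD (show k + ((1 : ℕ) : ℤ) - 1 = m by simp only [m]; ring) hγ₃ hζ₃ eζ₃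
  -- upstairs
  have hkY : Cyc.RatEquiv (S.δD' s.δY') m γ₁ γ₃ :=
    S.key hs hL hσ eN α (fun x hx => hα x (by omega)) hw hwM (ζ₁ := γ₁) (ζ₂ := γ₃)
      (by rw [hγ₁e, hdi, funext hγe]; rfl) fun _ => rfl
  have h23 : ChowOps.cl β₂' hβ₂' = ChowOps.cl ζ₃ (show ζ₃ ∈ Cyc.Zk S'.D' (S'.δD' s.δX') (m - p) from
      (show k + ((1 : ℕ) : ℤ) - 1 - p = m - p by simp only [m]; ring) ▸ hζ₃) := by
    rw [← eβ₂', ← e₃]
    exact congrArg _ (ChowDesc.cl_eq_of_ratEquiv hγ₁ _ hkY)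
  have r23 : Cyc.RatEquiv (S'.δD' s.δX') (m - p) β₂' ζ₃ := ClEq.ratEquiv_of_cl_eq hSD'.2.2 h23
  -- downstairs
  have r13 : Cyc.RatEquiv (S'.δM s.δX') (k + ((1 : ℕ) : ℤ) - p) β₃ β₁ :=
    ClEq.ratEquiv_of_cl_eq hSM'.2.2 (eβ₃.symm.trans eβ₁)
  let ζ₁ := GysinLib.gysinCycle hOM' hSM'.2.2 (pullback.fst S'.jM S'.jV) τ' β₁ hwM'
  have r31 : Cyc.RatEquiv (S'.δD' s.δX') (m - p) ζ₃ ζ₁ := by
    rw [show m - p = k + ((1 : ℕ) : ℤ) - p - 1 by simp only [m]; ring]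
    exact SelfInt.gysin_congr hOM' hSM'.2.2 hτ' rfl hwM' r13 hζ₃e fun _ => rfl
  let ζ₀ := pullCycle hcp' hSD'.2.2 ζ
  have r01 : Cyc.RatEquiv (S'.δD' s.δX') (m - p) ζ₀ ζ₁ := by
    rw [show m - p = k - 1 - p + 1 by simp only [m]; push_cast; ring]
    refine S'.key hs' hLX hτ eN' β (fun x hx => hβ x (by omega)) hw' hvM (ζ₁ := ζ₀) (ζ₂ := ζ₁) rfl fun z => ?_
    show Cyc.c1CapFun _ _ ⇑β₁ _ _ = _
    rw [hβ₁e, show Cyc.gysinChoice _ τ' wM' = fun ξ => RatSec.mapSec eO ξ (Cyc.gysinChoice _ S'.s' vM ξ) from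
        funext fun ξ => (RatSec.mapSec_gysinChoice eO S'.s' vM ξ).symm]
    exact congrFun (RatSec.c1CapFun_mapSec eO (InvX.isInvertible_structureModule (X := S'.M)) hOM' hSM'.2.2 _
      (GysinLib.gysinChoice_ne_zero S'.s' hvM)) _
  have hdD' := hSD'.2.2
  have r20 : Cyc.RatEquiv (S'.δD' s.δX') (k - 1 - p + 1) β₂' ζ₀ := by
    rw [show k - 1 - p + 1 = m - p by simp only [m]; push_cast; ring]
    exact RatOn.trans hdD' r23 (RatOn.trans hdD' r31 (RatOn.symm hdD' r01))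
  rw [eβ₂]
  refine ChowDesc.cl_eq_of_ratEquiv hβ₂ hζ ?_
  show Cyc.RatEquivZero t.δX' (k - 1 - p) (β₂ - ζ)
  rw [hdj]
  refine S'.pullp_injective hs' (β' := β₂' - ζ₀) (fun x hx => ?_) ?_ r20
  · show β₂ x - ζ x = 0
    rw [hβ₂ x (by rw [hdj]; exact hx), hζ x (by rw [hdj]; exact hx), sub_zero]
  · rw [Function.locallyFinsuppWithin.coe_sub, Function.locallyFinsuppWithin.coe_sub, hβ₂'e, hdj]
    funext x
    show Cyc.pullFun S'.p (S'.δD' s.δX') (fun d => s.δX' (j d)) ((1 : ℕ) : ℤ) ⇑β₂ x -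
        Cyc.pullFun S'.p (S'.δD' s.δX') (fun d => s.δX' (j d)) ((1 : ℕ) : ℤ) ⇑ζ x =
      Cyc.pullFun S'.p (S'.δD' s.δX') (fun d => s.δX' (j d)) 1 (⇑β₂ - ⇑ζ) x
    simp only [Cyc.pullFun, Pi.sub_apply, Nat.cast_one]
    split_ifs <;> ring

/-- A weak class is a class. -/
theorem exists_cl (hX : Cyc.IsSetup X δX) (hY : Cyc.IsSetup Y δY) (c : Bivar.WeakCl p f δX δY) :
    ∃ c' : Bivar.Cl p f δX δY, c'.op = c.op :=
  ⟨{ op := c.op, push := c.push, pull := c.pull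
     gysin := fun s t i _ j _ w₁ w₂ w₃ L hL σ hσ τ hτ k => gysinOK hX hY c s t i j w₁ w₂ w₃ L hL σ hσ τ hτ k },
    rfl⟩

end Groth.Agent.H23.WeakClDef
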