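import Groth.Agent.H23.WeilDet
import Groth.Agent.H23.PrincipalPair

/-! Prime divisors inject the Weil divisor class group into the first graded piece of the coniveau
filtration of `K₀` of coherent modules. -/

set_option autoImplicit false
set_option backward.isDefEq.respectTransparency false
set_option backward.isDefEq.respectTransparency.types false
set_option linter.style.haveILetI false

universe u

open CategoryTheory CategoryTheory.Limits AlgebraicGeometry TopologicalSpace Opposite

namespace Groth.Agent.H23.WeilClass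

open Groth.Agent CodimOneRank WeilDet
open Groth.Agent.KZ.CycleClass (len len_eq_zero)

variable {X : Scheme.{u}} [IsNoetherian X] [IsIntegral X]

theorem subsingleton_gen {F : X.Modules} (h : genericPoint X ∉ CohB1.support F) :
    Subsingleton (F.presheaf.stalk (genericPoint X)) := not_not.1 h

theorem clsD_small {F : X.Modules} (hF : Coh.IsCoh F)
    (h : ∀ x ∈ CohB1.support F, (2 : WithBot ℕ∞) ≤ ringKrullDim (X.presheaf.stalk x)) : clsD F = 0 := by
  haveI := subsingleton_gen (F := F) fun hη => by
    have := h _ hη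
    rw [show ringKrullDim (X.presheaf.stalk (genericPoint X)) = 0 from isMax_genericPoint] at this
    exact absurd this (by decide)
  rw [clsD_of_subsingleton hF, ← QuotientAddGroup.mk_zero]
  congr 1
  funext x
  have h0 : len F x.1 = 0 := len_eq_zero fun hm => by
    have := h x.1 hm
    rw [show ringKrullDim (X.presheaf.stalk x.1) = 1 from x.2] at this
    exact absurd this (by decide)
  show ((len F x.1).toNat : ℤ) = 0
  rw [h0]
  rfl

theorem clsD_closure [DecidableEq X] {z : X} (hz : Dim1 z) :
    clsD (Cyc.closureStructureSheaf z) = QuotientAddGroup.mk (fun x : P X => if x.1 = z then 1 else 0) := by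
  have hzm := not_isMax_of_ne (ne_genericPoint_of_dim1 hz)
  haveI := subsingleton_gen (F := Cyc.closureStructureSheaf z) fun hη => ne_genericPoint_of_dim1 hz
    (MaxRank.isMax_iff.1 isMax_genericPoint z
      (specializes_iff_mem_closure.2 (KZ.CycleClass.support_closureStructureSheaf_subset z hη)))
  rw [clsD_of_subsingleton (KZ.CycleClass.isCoh_closureStructureSheaf z)]
  congr 1
  funext x
  split_ifs with hx
  · rw [hx]
    exact congrArg (fun n : ℕ∞ => (n.toNat : ℤ)) (SkyPoint.length_closure_self z)
  · have h0 : len (Cyc.closureStructureSheaf z) x.1 = 0 := len_eq_zero fun hm => hx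
      (eq_of_dim1 hzm x.2
        (specializes_iff_mem_closure.2 (KZ.CycleClass.support_closureStructureSheaf_subset z hm))).symm
    show ((len (Cyc.closureStructureSheaf z) x.1).toNat : ℤ) = 0
    rw [h0]
    rfl

theorem principal_of_mem (D : X →₀ ℤ) (hD : ∀ x ∈ D.support, Dim1 x)
    (h : (D.sum fun x n => n • KZero.clSub (fun M : X.Modules => Coh.IsCoh M) (Cyc.closureStructureSheaf x)) ∈
      H2) :
    ∃ f : X.residueField (genericPoint X), f ≠ 0 ∧ ∀ x : X, Dim1 x →
      D x = Cyc.ordAt x (genericPoint X) (RefX.specializes_genericPoint x) f := by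
  classical
  obtain ⟨φ, hφ⟩ := exists_detHom (X := X)
  have h0 : ∀ c ∈ H2 (X := X), φ c = 0 := by
    intro c hc
    refine AddSubgroup.closure_induction ?_ (map_zero φ) (fun a b _ _ ha hb => ?_) (fun a _ ha => ?_) hc
    · rintro _ ⟨F, hF, hd, rfl⟩
      rw [hφ F hF, clsD_small hF hd]
    · rw [map_add, ha, hb, add_zero]
    · rw [map_neg, ha, neg_zero]
  have h1 := h0 _ h
  rw [Finsupp.sum, map_sum] at h1
  have h2 : ∀ z ∈ D.support,
      φ (D z • KZero.clSub (fun M : X.Modules => Coh.IsCoh M) (Cyc.closureStructureSheaf z)) =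
        QuotientAddGroup.mk (D z • fun x : P X => if x.1 = z then (1 : ℤ) else 0) := fun z hz => by
    rw [map_zsmul, hφ _ (KZ.CycleClass.isCoh_closureStructureSheaf z), clsD_closure (hD z hz),
      QuotientAddGroup.mk_zsmul]
  rw [Finset.sum_congr rfl h2, ← QuotientAddGroup.mk_sum, QuotientAddGroup.eq_zero_iff] at h1
  obtain ⟨f, hf, he⟩ := h1
  refine ⟨f, hf, fun x hx => ?_⟩
  have := congrFun he ⟨x, hx⟩
  simp only [Finset.sum_apply, Pi.smul_apply, smul_eq_mul, mul_ite, mul_one, mul_zero,
    Finset.sum_ite_eq] at this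
  rw [show D x = if x ∈ D.support then D x else 0 by
    split_ifs with hs
    · rfl
    · exact Finsupp.notMem_support_iff.1 hs]
  exact this

theorem mem_of_principal (D : X →₀ ℤ) (hD : ∀ x ∈ D.support, Dim1 x) {f : X.residueField (genericPoint X)}
    (hf : f ≠ 0) (hfD : ∀ x : X, Dim1 x →
      D x = Cyc.ordAt x (genericPoint X) (RefX.specializes_genericPoint x) f) :
    (D.sum fun x n => n • KZero.clSub (fun M : X.Modules => Coh.IsCoh M) (Cyc.closureStructureSheaf x)) ∈
      H2 := by
  classical
  obtain ⟨M, a, b, ha, hb, hM, -, ⟨hsa, hsb⟩, hlen⟩ := PrincipalPair.exists_pair (genericPoint X) hf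
  have hO := SkyPoint.isCoh_closure (genericPoint X)
  have hca := QCoh.isCoh_cokernel hO.1 hM a
  have hcb := QCoh.isCoh_cokernel hO.1 hM b
  have hsa' : ∀ (g : Cyc.closureStructureSheaf (genericPoint X) ⟶ M), Coh.IsCoh (cokernel g) → Mono g →
      Function.Surjective (LocFinCoprod.stk g (genericPoint X)) → genericPoint X ∉ CohB1.support (cokernel g) := by
    intro g hc _ hs hm
    obtain ⟨-, he, hq⟩ := CycLib.stalk_shortExact
      (T := ShortComplex.mk g (cokernel.π g) (cokernel.condition g))
      (.mk' (ShortComplex.exact_of_g_is_cokernel _ (cokernelIsCokernel g)) ‹_› inferInstance)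
      hO.1 hM.1 hc.1 (genericPoint X)
    refine hm (subsingleton_of_forall_eq 0 fun t => ?_)
    obtain ⟨m, rfl⟩ := hq t
    obtain ⟨w, rfl⟩ := hs m
    exact (he _).2 ⟨w, rfl⟩
  set C := CohB1.support (cokernel a) ∪ CohB1.support (cokernel b)
  have hC : IsClosed C :=
    (QCoh.isClosed_support_of_isFT hca.1 hca.2).union (QCoh.isClosed_support_of_isFT hcb.1 hcb.2)
  have hηC : genericPoint X ∉ C := fun h => h.elim (hsa' a hca ha hsa) (hsa' b hcb hb hsb)
  let S := (finite_dim1 hC hηC).toFinset
  have hS : ∀ x, x ∈ S ↔ x ∈ C ∧ Dim1 x := fun x => Set.Finite.mem_toFinset _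
  have ga := (good_all hC hηC hS hca Set.subset_union_left).2
  have gb := (good_all hC hηC hS hcb Set.subset_union_right).2
  have hd : ∀ x : X, Dim1 x → D x = lv (cokernel b) x - lv (cokernel a) x := fun x hx => by
    rw [hfD x hx]
    exact (hlen x _ (RefX.krullDimLE_locQuot_gen (coheight_of_dim1 hx))).symm
  have hsub : D.support ⊆ S := fun x hx => (hS x).2 ⟨by
    by_contra hxC
    have h := hd x (hD x hx)
    simp only [C, Set.mem_union, not_or] at hxC
    rw [show lv (cokernel b) x = 0 by simp [lv, len_eq_zero hxC.2],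
      show lv (cokernel a) x = 0 by simp [lv, len_eq_zero hxC.1], sub_zero] at h
    exact Finsupp.mem_support_iff.1 hx h, hD x hx⟩
  rw [Finsupp.sum_of_support_subset D hsub (fun x n => n • KZero.clSub (fun M : X.Modules => Coh.IsCoh M)
    (Cyc.closureStructureSheaf x)) fun _ _ => zero_smul _ _]
  have hcomb : comb S (fun x => D x) = comb S (lv (cokernel b)) - comb S (lv (cokernel a)) := by
    rw [← comb_sub]
    exact Finset.sum_congr rfl fun x hx => congrArg (fun n : ℤ => n • KZero.clSub (fun M : X.Modules => Coh.IsCoh M) (Cyc.closureStructureSheaf x)) (hd x ((hS x).1 hx).2)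
  show comb S (fun x => D x) ∈ H2
  have hzero : KZero.clSub (fun M : X.Modules => Coh.IsCoh M) (cokernel b) -
      KZero.clSub (fun M : X.Modules => Coh.IsCoh M) (cokernel a) = 0 := by
    have e1 := KZ.clSub_ses (fun M : X.Modules => Coh.IsCoh M)
      (S := ShortComplex.mk a (cokernel.π a) (cokernel.condition a))
      (.mk' (ShortComplex.exact_of_g_is_cokernel _ (cokernelIsCokernel a)) ‹_› inferInstance) hO hM hca
    have e2 := KZ.clSub_ses (fun M : X.Modules => Coh.IsCoh M)
      (S := ShortComplex.mk b (cokernel.π b) (cokernel.condition b))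
      (.mk' (ShortComplex.exact_of_g_is_cokernel _ (cokernelIsCokernel b)) ‹_› inferInstance) hO hM hcb
    exact sub_eq_zero.2 (add_left_cancel (e2.symm.trans e1))
  have := H2.sub_mem ga gb
  rw [hcomb]
  convert this using 1
  rw [sub_eq_zero.1 hzero]
  abel

end Groth.Agent.H23.WeilClass
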