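import Groth.Agent.H23.LatDet
import Groth.Agent.H23.CodimOneRank
import Groth.Agent.RefX.SecOrd

/-! The determinant class of a coherent module in the Weil divisor class group of an integral scheme. -/

set_option autoImplicit false
set_option backward.isDefEq.respectTransparency false
set_option backward.isDefEq.respectTransparency.types false
set_option linter.style.haveILetI false

universe u

open CategoryTheory CategoryTheory.Limits AlgebraicGeometry TopologicalSpace Opposite

namespace Groth.Agent.H23.WeilDet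

open Groth.Agent CodimOneRank

variable {X : Scheme.{u}} [IsIntegral X]

variable (X) in
/-- The points of codimension one. -/
abbrev P : Type u := {x : X // Dim1 x}

noncomputable instance moduleFunctionField (F : X.Modules) :
    Module X.functionField (F.presheaf.stalk (genericPoint X)) :=
  inferInstanceAs (Module (X.presheaf.stalk (genericPoint X)) (F.presheaf.stalk (genericPoint X)))

noncomputable instance moduleGen (F : X.Modules) (x : P X) :
    Module (X.presheaf.stalk x.1) (F.presheaf.stalk (genericPoint X)) :=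
  Module.compHom _ (algebraMap (X.presheaf.stalk x.1) X.functionField)

instance towerGen (F : X.Modules) (x : P X) :
    IsScalarTower (X.presheaf.stalk x.1) X.functionField (F.presheaf.stalk (genericPoint X)) :=
  IsScalarTower.of_algebraMap_smul fun _ _ => rfl

variable [IsNoetherian X]

/-- The localization map to the generic stalk. -/
noncomputable def sGen (F : X.Modules) (x : P X) :
    F.presheaf.stalk x.1 →ₗ[X.presheaf.stalk x.1] F.presheaf.stalk (genericPoint X) :=
  { RefX.spM F (RefX.specializes_genericPoint x.1) with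
    map_smul' := fun a m => RefX.spM_smul F _ a m }

instance finite_stalk {F : X.Modules} [h : Fact (Coh.IsCoh F)] (x : X) :
    Module.Finite (X.presheaf.stalk x) (F.presheaf.stalk x) :=
  QCoh.finite_stalk_of_isFT h.out.1 h.out.2 x

instance finite_gen {F : X.Modules} [h : Fact (Coh.IsCoh F)] :
    Module.Finite X.functionField (F.presheaf.stalk (genericPoint X)) :=
  QCoh.finite_stalk_of_isFT h.out.1 h.out.2 (genericPoint X)

theorem isGen {F : X.Modules} (hF : Coh.IsCoh F) (x : P X) : LatDet.IsGen (sGen F x) := by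
  have hne : ∀ {U : X.Opens} (hx : x.1 ∈ U) (hη : genericPoint X ∈ U) (a : Γ(X, U)),
      IsUnit (X.presheaf.germ U (genericPoint X) hη a) → X.presheaf.germ U x.1 hx a ≠ 0 :=
    fun {U} hx hη a hu h0 => by
      have h1 : (X.presheaf.stalkSpecializes (RefX.specializes_genericPoint x.1)).hom (X.presheaf.germ U x.1 hx a) =
          X.presheaf.germ U (genericPoint X) hη a :=
        ConcreteCategory.congr_hom (TopCat.Presheaf.germ_stalkSpecializes X.presheaf hx
          (RefX.specializes_genericPoint x.1)) a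
      rw [h0, map_zero] at h1
      exact hu.ne_zero h1.symm
  constructor
  · intro m hm
    obtain ⟨U, hU, hx, n, rfl⟩ := CycLib.exists_germ_affine F m
    have hη : genericPoint X ∈ U := (RefX.specializes_genericPoint x.1).mem_open U.2 hx
    obtain ⟨a, ha, h0⟩ := (QCoh.germ_eq_zero_iff hF.1 hU hη n).1
      ((RefX.spM_germ F (RefX.specializes_genericPoint x.1) hx n).symm.trans hm)
    refine ⟨X.presheaf.germ U x.1 hx a, hne hx hη a ((X.mem_basicOpen _ _ hη).1 ha), ?_⟩
    rw [← QCoh.germ_smul', h0, map_zero]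
  · intro v
    obtain ⟨_, ⟨U, hU, rfl⟩, hx, -⟩ :=
      X.isBasis_affineOpens.exists_subset_of_mem_open (Set.mem_univ x.1) isOpen_univ
    have hU' : IsAffineOpen U := hU
    have hη : genericPoint X ∈ U := (RefX.specializes_genericPoint x.1).mem_open U.2 hx
    letI := QCoh.stalkModule F hη
    haveI := QCoh.isLocalizedModule_germLin hF.1 hU' hη
    obtain ⟨⟨n, a⟩, h⟩ := IsLocalizedModule.surj (hU'.primeIdealOf ⟨genericPoint X, hη⟩).asIdeal.primeCompl
      (QCoh.germLin F hη) v
    refine ⟨X.presheaf.germ U x.1 hx a, hne hx hη _ ((X.mem_basicOpen _ _ hη).1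
      ((QCoh.mem_basicOpen_iff_notMem hU' hη _).2 a.2)), F.presheaf.germ U x.1 hx n, ?_⟩
    refine (RefX.spM_germ F _ hx n).trans (h.symm.trans ?_)
    show X.presheaf.germ U (genericPoint X) hη (a : Γ(X, U)) • v =
      (X.presheaf.stalkSpecializes (RefX.specializes_genericPoint x.1)).hom (X.presheaf.germ U x.1 hx a) • v
    congr 1
    exact (ConcreteCategory.congr_hom (TopCat.Presheaf.germ_stalkSpecializes X.presheaf hx
      (RefX.specializes_genericPoint x.1)) _).symm

theorem ordFrac_eq_ordK (x : P X) {g : X.functionField} (hg : g ≠ 0) :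
    CycAlg.ordFrac (X.presheaf.stalk x.1) X.functionField g = RefX.ordK x.1 g := by
  haveI := krullDimLE_of_dim1 x.2
  haveI := RefX.krullDimLE_locQuot_gen (coheight_of_dim1 x.2)
  obtain ⟨a, b, hb, rfl⟩ := IsFractionRing.div_surjective (A := X.presheaf.stalk x.1) g
  have hmul : ∀ f g : X.functionField, f ≠ 0 → g ≠ 0 →
      RefX.ordK x.1 (f * g) = RefX.ordK x.1 f + RefX.ordK x.1 g := fun f g hf hg => by
    unfold RefX.ordK Cyc.ordAt
    rw [map_mul]
    exact IntThLib.ordFrac_mul ((map_ne_zero_iff _ RefX.residue_injective).2 hf)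
      ((map_ne_zero_iff _ RefX.residue_injective).2 hg)
  have halg : ∀ c : X.presheaf.stalk x.1, c ≠ 0 → RefX.ordK x.1 (algebraMap _ X.functionField c) =
      CycAlg.ordFrac (X.presheaf.stalk x.1) X.functionField (algebraMap _ _ c) := fun c hc => by
    have h0 : Ideal.Quotient.mk _ c ≠ (0 : Cyc.LocQuot x.1 (genericPoint X) (RefX.specializes_genericPoint x.1)) :=
      fun h => hc ((RefX.locQuotEquiv x.1).injective (h.trans (map_zero _).symm))
    unfold RefX.ordK Cyc.ordAt
    rw [show X.residue (genericPoint X) (algebraMap (X.presheaf.stalk x.1) X.functionField c) =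
      algebraMap (Cyc.LocQuot x.1 (genericPoint X) (RefX.specializes_genericPoint x.1))
        (X.residueField (genericPoint X)) (Ideal.Quotient.mk _ c) from rfl, IntThLib.ordFrac_algebraMap h0,
      show Ideal.Quotient.mk _ c = RefX.locQuotEquiv x.1 c from rfl, CycLib.ord_ringEquiv,
      IntThLib.ordFrac_algebraMap hc]
  have hb0 : b ≠ 0 := nonZeroDivisors.ne_zero hb
  have ha0 : a ≠ 0 := fun h => hg (by rw [h, map_zero, zero_div])
  have hB : algebraMap _ X.functionField b ≠ 0 := (map_ne_zero_iff _ (IsFractionRing.injective _ _)).2 hb0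
  have h1 := hmul _ _ hg hB
  have h2 := IntThLib.ordFrac_mul (A := X.presheaf.stalk x.1) hg hB
  rw [div_mul_cancel₀ _ hB] at h1 h2
  have h3 := halg a ha0
  have h4 := halg b hb0
  linarith

theorem ordAt_mul (x : P X) {f g : X.residueField (genericPoint X)} (hf : f ≠ 0) (hg : g ≠ 0) :
    Cyc.ordAt x.1 (genericPoint X) (RefX.specializes_genericPoint x.1) (f * g) =
      Cyc.ordAt x.1 (genericPoint X) (RefX.specializes_genericPoint x.1) f +
        Cyc.ordAt x.1 (genericPoint X) (RefX.specializes_genericPoint x.1) g := by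
  haveI := RefX.krullDimLE_locQuot_gen (coheight_of_dim1 x.2)
  exact IntThLib.ordFrac_mul hf hg

/-- The divisor of a rational function, at the points of codimension one. -/
noncomputable def divAt (f : X.residueField (genericPoint X)) : P X → ℤ :=
  fun x => Cyc.ordAt x.1 (genericPoint X) (RefX.specializes_genericPoint x.1) f

theorem divAt_one : divAt (1 : X.residueField (genericPoint X)) = 0 := funext fun x => by
  have h := ordAt_mul x (one_ne_zero (α := X.residueField (genericPoint X))) one_ne_zero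
  rw [mul_one] at h
  show Cyc.ordAt _ _ _ _ = 0
  omega

variable (X) in
/-- The principal divisors. -/
def Pr : AddSubgroup (P X → ℤ) where
  carrier := {g | ∃ f : X.residueField (genericPoint X), f ≠ 0 ∧ g = divAt f}
  zero_mem' := ⟨1, one_ne_zero, divAt_one.symm⟩
  add_mem' := by
    rintro _ _ ⟨f, hf, rfl⟩ ⟨g, hg, rfl⟩
    exact ⟨f * g, mul_ne_zero hf hg, funext fun x => (ordAt_mul x hf hg).symm⟩
  neg_mem' := by
    rintro _ ⟨f, hf, rfl⟩
    refine ⟨f⁻¹, inv_ne_zero hf, funext fun x => ?_⟩
    have h := ordAt_mul x hf (inv_ne_zero hf)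
    have h1 : Cyc.ordAt x.1 (genericPoint X) (RefX.specializes_genericPoint x.1) 1 = 0 := congrFun divAt_one x
    rw [mul_inv_cancel₀ hf, h1] at h
    show -Cyc.ordAt x.1 (genericPoint X) (RefX.specializes_genericPoint x.1) f = Cyc.ordAt _ _ _ _
    omega

/-- The divisor of a module with respect to a basis of the generic stalk. -/
noncomputable def D {F : X.Modules} {ι : Type*} [Fintype ι] [DecidableEq ι]
    (e : Module.Basis ι X.functionField (F.presheaf.stalk (genericPoint X))) : P X → ℤ :=
  fun x => haveI := krullDimLE_of_dim1 x.2; LatDet.d (sGen F x) e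

open Classical in
/-- The class of a module. -/
noncomputable def clsD (F : X.Modules) : (P X → ℤ) ⧸ Pr X :=
  if h : Coh.IsCoh F then
    haveI : Fact (Coh.IsCoh F) := ⟨h⟩
    QuotientAddGroup.mk (D (Module.finBasis X.functionField (F.presheaf.stalk (genericPoint X))))
  else 0

theorem clsD_eq {F : X.Modules} (hF : Coh.IsCoh F) {ι : Type} [Fintype ι] [DecidableEq ι]
    (e : Module.Basis ι X.functionField (F.presheaf.stalk (genericPoint X))) :
    clsD F = QuotientAddGroup.mk (D e) := by
  haveI : Fact (Coh.IsCoh F) := ⟨hF⟩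
  rw [clsD, dif_pos hF]
  let e₀ := Module.finBasis X.functionField (F.presheaf.stalk (genericPoint X))
  let σ := e.indexEquiv e₀
  rw [QuotientAddGroup.eq_iff_sub_mem]
  have hu : (e.reindex σ).det e₀ ≠ 0 := ((e.reindex σ).isUnit_det e₀).ne_zero
  refine ⟨X.residue (genericPoint X) ((e.reindex σ).det e₀), (map_ne_zero_iff _ RefX.residue_injective).2 hu,
    funext fun x => ?_⟩
  haveI := krullDimLE_of_dim1 x.2
  show LatDet.d (sGen F x) e₀ - LatDet.d (sGen F x) e = _
  rw [LatDet.d_change (isGen hF x) (e.reindex σ) e₀, LatDet.d_reindex (isGen hF x) e σ, add_sub_cancel_left]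
  exact ordFrac_eq_ordK x hu

theorem clsD_of_subsingleton {F : X.Modules} (hF : Coh.IsCoh F)
    [Subsingleton (F.presheaf.stalk (genericPoint X))] :
    clsD F = QuotientAddGroup.mk (fun x : P X =>
      ((Module.length (X.presheaf.stalk x.1) (F.presheaf.stalk x.1)).toNat : ℤ)) := by
  haveI : Fact (Coh.IsCoh F) := ⟨hF⟩
  rw [clsD_eq hF (Module.Basis.empty (ι := Fin 0) (F.presheaf.stalk (genericPoint X)))]
  congr 1
  funext x
  haveI := krullDimLE_of_dim1 x.2
  exact LatDet.d_zero (isGen hF x) _

theorem sGen_natural {F G : X.Modules} (φ : F ⟶ G) (x : P X) (m : F.presheaf.stalk x.1) :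
    sGen G x (CycLib.stalkLin φ x.1 m) = CycLib.stalkLin φ (genericPoint X) (sGen F x m) := by
  obtain ⟨U, hU, hx, n, rfl⟩ := CycLib.exists_germ_affine F m
  show RefX.spM G _ (CycLib.stalkAdd φ x.1 _) = CycLib.stalkAdd φ _ (RefX.spM F _ _)
  rw [CycLib.stalkAdd_germ, RefX.spM_germ, RefX.spM_germ, CycLib.stalkAdd_germ]

theorem clsD_ses {S : ShortComplex X.Modules} (hS : S.ShortExact) (h₁ : Coh.IsCoh S.X₁)
    (h₂ : Coh.IsCoh S.X₂) (h₃ : Coh.IsCoh S.X₃) : clsD S.X₂ = clsD S.X₁ + clsD S.X₃ := by
  haveI : Fact (Coh.IsCoh S.X₁) := ⟨h₁⟩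
  haveI : Fact (Coh.IsCoh S.X₂) := ⟨h₂⟩
  haveI : Fact (Coh.IsCoh S.X₃) := ⟨h₃⟩
  let VA := S.X₁.presheaf.stalk (genericPoint X)
  let VB := S.X₂.presheaf.stalk (genericPoint X)
  let VC := S.X₃.presheaf.stalk (genericPoint X)
  obtain ⟨hi, he, hs⟩ := CycLib.stalk_shortExact hS h₁.1 h₂.1 h₃.1 (genericPoint X)
  let φ : VA →ₗ[X.functionField] VB := CycLib.stalkLin S.f (genericPoint X)
  let ψ : VB →ₗ[X.functionField] VC := CycLib.stalkLin S.g (genericPoint X)
  obtain ⟨σ, hσ⟩ := ψ.exists_rightInverse_of_surjective (LinearMap.range_eq_top.2 hs)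
  have hσ' : ∀ v, ψ (σ v) = v := fun v => LinearMap.congr_fun hσ v
  have hgf : ∀ v, ψ (φ v) = 0 := fun v => (he _).2 ⟨v, rfl⟩
  have hbij : Function.Bijective (φ.coprod σ) := by
    refine ⟨(injective_iff_map_eq_zero _).2 fun p hp => ?_, fun w => ?_⟩
    · rw [LinearMap.coprod_apply] at hp
      have h2 : p.2 = 0 := by simpa [hσ', hgf] using congrArg ψ hp
      rw [h2, map_zero, add_zero] at hp
      exact Prod.ext (hi (hp.trans (map_zero _).symm)) h2
    · obtain ⟨v, hv⟩ := (he (w - σ (ψ w))).1 (by
        show ψ (w - σ (ψ w)) = 0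
        rw [map_sub, hσ', sub_self])
      exact ⟨(v, ψ w), by rw [LinearMap.coprod_apply]; exact (congrArg (· + σ (ψ w)) hv).trans (sub_add_cancel _ _)⟩
  let eA := Module.finBasis X.functionField VA
  let eC := Module.finBasis X.functionField VC
  let eB := (eA.prod eC).map (LinearEquiv.ofBijective _ hbij)
  rw [clsD_eq h₁ eA, clsD_eq h₂ eB, clsD_eq h₃ eC, ← QuotientAddGroup.mk_add]
  congr 1
  funext x
  haveI := krullDimLE_of_dim1 x.2
  obtain ⟨xi, xe, xs⟩ := CycLib.stalk_shortExact hS h₁.1 h₂.1 h₃.1 x.1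
  refine LatDet.exists_d_add (isGen h₁ x) (isGen h₂ x) (isGen h₃ x) xi xe xs (φ := φ) (ψ := ψ)
    (sGen_natural S.f x) (sGen_natural S.g x) eA eC eB (fun i => ?_) fun j => ?_
  · refine (Module.Basis.map_apply _ _ _).trans ?_
    show φ.coprod σ _ = _
    rw [LinearMap.coprod_apply, Module.Basis.prod_apply_inl_fst, Module.Basis.prod_apply_inl_snd, map_zero,
      add_zero]
  · rw [show eB (.inr j) = φ.coprod σ ((eA.prod eC) (.inr j)) from Module.Basis.map_apply _ _ _,
      LinearMap.coprod_apply, Module.Basis.prod_apply_inr_fst, Module.Basis.prod_apply_inr_snd, map_zero,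
      zero_add, hσ']

theorem exists_detHom : ∃ φ : KZero.K0sub (fun M : X.Modules => Coh.IsCoh M) →+ (P X → ℤ) ⧸ Pr X,
    ∀ F : X.Modules, Coh.IsCoh F → φ (KZero.clSub (fun M : X.Modules => Coh.IsCoh M) F) = clsD F :=
  KZ.exists_liftSub (fun M : X.Modules => Coh.IsCoh M) clsD fun _ hS h₁ h₂ h₃ => clsD_ses hS h₁ h₂ h₃

end Groth.Agent.H23.WeilDet
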