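import Mathlib.RingTheory.PowerSeries.Derivative
import Mathlib.RingTheory.PowerSeries.Inverse
import Mathlib.RingTheory.Polynomial.Basic
import Mathlib.Algebra.Polynomial.FieldDivision
import Mathlib.Algebra.Polynomial.Monic
import Mathlib.LinearAlgebra.FiniteDimensional.Basic
import Mathlib.Data.Nat.Choose.Sum
import Mathlib.Tactic.LinearCombination

/-!
# Ramification of some linear systems on the pointed line
-/

open Polynomial

namespace Groth.Agent.H23.Wronsk

variable {k : Type*} [Field k]

theorem mulLeft_inj {Q : k[X]} (hQ : Q ≠ 0) : Function.Injective (LinearMap.mulLeft k Q) :=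
  fun _ _ h => mul_left_cancel₀ hQ h

theorem mul_mem_of_le_finrank {S : Submodule k k[X]} {Q : k[X]} (hQ : Q ≠ 0) (n : ℕ)
    (hS : ∀ G ∈ S, ∃ R : k[X], R.degree < n ∧ G = Q * R) (hn : n ≤ Module.finrank k S) :
    ∀ R : k[X], R.degree < n → Q * R ∈ S := by
  let T : Submodule k k[X] := (degreeLT k n).map (LinearMap.mulLeft k Q)
  haveI : Module.Finite k (degreeLT k n) := Module.Finite.equiv (degreeLTEquiv k n).symm
  have hd : Module.finrank k T = n := by
    rw [← (Submodule.equivMapOfInjective _ (mulLeft_inj hQ) _).finrank_eq,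
      (degreeLTEquiv k n).finrank_eq, Module.finrank_fin_fun]
  haveI : Module.Finite k T :=
    Module.Finite.equiv (Submodule.equivMapOfInjective _ (mulLeft_inj hQ) _)
  have hle : S ≤ T := fun G hG => by
    obtain ⟨R, hR, rfl⟩ := hS G hG
    exact ⟨R, mem_degreeLT.2 hR, rfl⟩
  have := Submodule.eq_of_le_of_finrank_le hle (hd.le.trans hn)
  exact fun R hR => this ▸ ⟨R, mem_degreeLT.2 hR, rfl⟩

theorem natDegree_le_of_degreeLE {G : k[X]} {n : ℕ} (h : G ∈ degreeLE k ↑n) : G.natDegree ≤ n :=
  natDegree_le_of_degree_le (mem_degreeLE.1 h)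

theorem exists_quot {Q G : k[X]} (hQ : Q.Monic) {n m : ℕ} (hG : G ∈ Ideal.span {Q})
    (hd : G.natDegree ≤ n) (hm : n < Q.natDegree + m) :
    ∃ R : k[X], R.degree < m ∧ G = Q * R := by
  obtain ⟨R, rfl⟩ := Ideal.mem_span_singleton'.1 hG
  refine ⟨R, ?_, mul_comm _ _⟩
  by_cases hR : R = 0
  · rw [hR, degree_zero]; exact WithBot.bot_lt_coe _
  · rw [← natDegree_lt_iff_degree_lt hR]
    rw [natDegree_mul hR hQ.ne_zero] at hd
    omega

section Binomial

variable [CharZero k]

theorem choose_succ_eq (i m : ℕ) :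
    ((i.choose (m + 1) : ℕ) : k) * ((m : k) + 1) = (i.choose m : k) * ((i : k) - m) := by
  rcases le_or_gt m i with h | h
  · have := congrArg (Nat.cast (R := k)) (Nat.choose_succ_right_eq i m)
    push_cast [Nat.cast_sub h] at this
    exact this
  · rw [Nat.choose_eq_zero_of_lt h, Nat.choose_eq_zero_of_lt (h.trans (Nat.lt_succ_self m))]
    simp

theorem rootMultiplicity_le_one (i j n : ℕ) (c : k) (hc0 : c ≠ 0) (hc1 : c ≠ 1) :
    rootMultiplicity c
      (∑ l ∈ Finset.range (n + 1),
        C (((i.choose l) * (j.choose (n - l)) : ℕ) : k) * X ^ (n - l)) ≤ 1 := by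
  set h := ∑ l ∈ Finset.range (n + 1),
        C (((i.choose l) * (j.choose (n - l)) : ℕ) : k) * X ^ (n - l) with hh
  have hcoef : ∀ m, h.coeff m =
      if m ≤ n then (i.choose (n - m) : k) * (j.choose m : k) else 0 := by
    intro m
    rw [hh, finsetSum_coeff]
    simp only [coeff_C_mul, coeff_X_pow, mul_ite, mul_one, mul_zero]
    split_ifs with hm
    · rw [Finset.sum_eq_single (n - m)]
      · rw [if_pos (Nat.sub_sub_self hm).symm, Nat.sub_sub_self hm]; push_cast; rfl
      · intro l hl hne
        rw [Finset.mem_range] at hl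
        rw [if_neg (by omega)]
      · intro hnm; exact absurd (Finset.mem_range.2 (by omega)) hnm
    · exact Finset.sum_eq_zero fun l hl => if_neg (by omega)
  -- the hypergeometric recursion
  have hrec : ∀ m : ℕ, ((m : k) + 1) * ((m : k) + 1 + i - n) * h.coeff (m + 1) =
      ((m : k) - n) * ((m : k) - j) * h.coeff m := by
    intro m
    rw [hcoef, hcoef]
    rcases lt_trichotomy m n with hm | rfl | hm
    · obtain ⟨l, rfl⟩ := Nat.exists_eq_add_of_lt hm
      rw [if_pos (by omega), if_pos (by omega), show m + l + 1 - (m + 1) = l by omega,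
        show m + l + 1 - m = l + 1 by omega]
      have e1 := choose_succ_eq (k := k) i l
      have e2 := choose_succ_eq (k := k) j m
      push_cast
      linear_combination ((i : k) - l) * (i.choose l : k) * e2 -
        ((j : k) - m) * (j.choose m : k) * e1
    · rw [if_neg (by omega), if_pos le_rfl]; simp
    · rw [if_neg (by omega), if_neg (by omega)]; simp
  have hode : X * (1 - X) * derivative (derivative h) =
      C ((j : k) * n) * h -
        (C (1 + (i : k) - n) + C ((n : k) + j - 1) * X) * derivative h := by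
    ext m
    rw [coeff_sub, coeff_C_mul, add_mul, mul_assoc X, coeff_add, coeff_C_mul, mul_assoc (C _) X,
      coeff_C_mul, sub_mul, one_mul]
    rcases m with _ | m
    · simp only [coeff_X_mul_zero, coeff_derivative]
      have := hrec 0
      push_cast at this ⊢
      linear_combination this
    · rw [coeff_X_mul, coeff_X_mul, coeff_sub]
      rcases m with _ | m
      · simp only [coeff_X_mul_zero, coeff_derivative]
        have := hrec 1
        push_cast at this ⊢
        linear_combination this
      · simp only [coeff_X_mul, coeff_derivative]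
        have := hrec (m + 2)
        push_cast at this ⊢
        linear_combination this
  by_contra hr
  rw [not_le] at hr
  set r := rootMultiplicity c h with hrdef
  have hne : h ≠ 0 := fun h0 => by simp [hrdef, h0] at hr
  have hroot : h.IsRoot c := (rootMultiplicity_pos hne).1 (by rw [← hrdef]; omega)
  have hr1 : rootMultiplicity c (derivative h) = r - 1 := derivative_rootMultiplicity_of_root hroot
  have hd1 : derivative h ≠ 0 := fun h0 => by rw [h0, rootMultiplicity_zero] at hr1; omega
  have hroot1 : (derivative h).IsRoot c := (rootMultiplicity_pos hd1).1 (by omega)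
  have hr2 : rootMultiplicity c (derivative (derivative h)) = r - 1 - 1 := by
    rw [derivative_rootMultiplicity_of_root hroot1, hr1]
  have hdd : derivative (derivative h) ≠ 0 := fun h0 => by
    have := natDegree_eq_zero_of_derivative_eq_zero h0
    rw [natDegree_eq_zero] at this
    obtain ⟨x, hx⟩ := this
    rw [← hx] at hroot1 hd1
    simp only [IsRoot, eval_C] at hroot1
    exact hd1 (by rw [hroot1, C_0])
  have hdvd : (X - C c) ^ (r - 1) ∣ derivative (derivative h) := by
    have h1 : (X - C c) ^ (r - 1) ∣ X * (1 - X) * derivative (derivative h) := by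
      rw [hode]
      exact dvd_sub
        (dvd_mul_of_dvd_right ((pow_dvd_pow _ (Nat.sub_le _ _)).trans
          (pow_rootMultiplicity_dvd h c)) _)
        (dvd_mul_of_dvd_right (hr1 ▸ pow_rootMultiplicity_dvd _ c) _)
    refine IsCoprime.dvd_of_dvd_mul_left (IsCoprime.pow_left ?_) h1
    rw [(prime_X_sub_C c).irreducible.coprime_iff_not_dvd, dvd_iff_isRoot]
    simp [IsRoot, sub_eq_zero, hc0, Ne.symm hc1]
  have := (le_rootMultiplicity_iff hdd).2 hdvd
  omega

end Binomial

section TwoPlusOne

/-- The pointed system is cut out by `G(0) = G(-1)`. -/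
theorem mem_twoPlusOne_iff {a : ℕ} {G : k[X]} :
    G ∈ Submodule.span k {(1 : k[X])} ⊔
      ((Ideal.span {(X : k[X]) * (X + 1)}).restrictScalars k ⊓ degreeLE k ↑(a + 1)) ↔
    G.natDegree ≤ a + 1 ∧ G.eval 0 = G.eval (-1) := by
  constructor
  · intro hG
    obtain ⟨u, hu, v, hv, rfl⟩ := Submodule.mem_sup.1 hG
    obtain ⟨c, rfl⟩ := Submodule.mem_span_singleton.1 hu
    obtain ⟨hv1, hv2⟩ := hv
    obtain ⟨R, rfl⟩ := Ideal.mem_span_singleton'.1 hv1
    refine ⟨?_, by simp⟩
    refine (natDegree_add_le _ _).trans (max_le ?_ (natDegree_le_of_degreeLE hv2))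
    rw [smul_eq_C_mul, mul_one, natDegree_C]
    exact Nat.zero_le _
  · rintro ⟨hd, he⟩
    refine Submodule.mem_sup.2 ⟨C (G.eval 0), ?_, G - C (G.eval 0), ⟨?_, ?_⟩, by ring⟩
    · exact Submodule.mem_span_singleton.2 ⟨G.eval 0, by rw [smul_eq_C_mul, mul_one]⟩
    · show G - C (G.eval 0) ∈ Ideal.span {(X : k[X]) * (X + 1)}
      rw [Ideal.mem_span_singleton]
      refine IsCoprime.mul_dvd ?_ ?_ ?_
      · exact ⟨-1, 1, by ring⟩
      · rw [X_dvd_iff, coeff_zero_eq_eval_zero]; simp
      · rw [show (X : k[X]) + 1 = X - C (-1) by simp, dvd_iff_isRoot]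
        simp [IsRoot, he]
    · rw [SetLike.mem_coe, mem_degreeLE]
      exact degree_le_of_natDegree_le ((natDegree_sub_le _ _).trans (by rw [natDegree_C]; omega))

theorem no_special_two_plus_one (a : ℕ) (ha : 0 < a) (V : Submodule k k[X])
    (hV : V = Submodule.span k {(1 : k[X])} ⊔
      ((Ideal.span {(X : k[X]) * (X + 1)}).restrictScalars k ⊓ degreeLE k ↑(a + 1))) :
    (∀ p : k, Module.finrank k ↥(V ⊓ (Ideal.span {(X - C p) ^ a}).restrictScalars k) ≤ 1) ∧
      Module.finrank k ↥(V ⊓ degreeLT k 2) ≤ 1 := by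
  have hmem : ∀ G ∈ V, G.natDegree ≤ a + 1 ∧ G.eval 0 = G.eval (-1) := fun G hG =>
    mem_twoPlusOne_iff.1 (hV ▸ hG)
  refine ⟨fun p => ?_, ?_⟩
  · by_contra hlt
    have hQ : ((X - C p) ^ a).Monic := (monic_X_sub_C p).pow a
    have key := mul_mem_of_le_finrank (S := V ⊓ (Ideal.span {(X - C p) ^ a}).restrictScalars k) hQ.ne_zero 2
      (fun G hG => exists_quot hQ hG.2 (hmem G hG.1).1
      (by rw [natDegree_pow, natDegree_X_sub_C]; omega)) (not_le.1 hlt)
    have h1 := (hmem _ (key 1 (by rw [degree_one]; norm_num)).1).2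
    have h2 := (hmem _ (key X (by rw [degree_X]; norm_num)).1).2
    simp at h1 h2
    rw [h2.1] at h1
    simp [h2.2] at h1
    exact one_ne_zero (show (1 : k) = 0 by linear_combination -h2.1 - h1)
  · by_contra hlt
    have key := mul_mem_of_le_finrank (S := V ⊓ degreeLT k 2) (one_ne_zero (α := k[X])) 2
      (fun G hG => ⟨G, mem_degreeLT.1 hG.2, (one_mul G).symm⟩) (not_le.1 hlt)
    have h2 := (hmem _ (key X (by rw [degree_X]; norm_num)).1).2
    simp at h2

theorem three_le_iff (a i j : ℕ) (hi : 0 < i) (hj : 0 < j) (hij : i + j + 1 = a)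
    (V : Submodule k k[X])
    (hV : V = Submodule.span k {(1 : k[X])} ⊔
      ((Ideal.span {(X : k[X]) * (X + 1)}).restrictScalars k ⊓ degreeLE k ↑(a + 1)))
    (p q : k) :
    3 ≤ Module.finrank k ↥(V ⊓ (Ideal.span {(X - C p) ^ i * (X - C q) ^ j}).restrictScalars k) ↔
      (p = 0 ∧ q = -1) ∨ (p = -1 ∧ q = 0) := by
  set Q : k[X] := (X - C p) ^ i * (X - C q) ^ j with hQdef
  have hQ : Q.Monic := ((monic_X_sub_C p).pow i).mul ((monic_X_sub_C q).pow j)
  have hQd : Q.natDegree = i + j := by
    rw [hQdef, ((monic_X_sub_C p).pow i).natDegree_mul ((monic_X_sub_C q).pow j), natDegree_pow,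
      natDegree_pow, natDegree_X_sub_C, natDegree_X_sub_C, mul_one, mul_one]
  have hS : ∀ G ∈ V ⊓ (Ideal.span {Q}).restrictScalars k,
      ∃ R : k[X], R.degree < (3 : ℕ) ∧ G = Q * R := fun G hG =>
    exists_quot hQ hG.2 (mem_twoPlusOne_iff.1 (hV ▸ hG.1)).1 (by omega)
  constructor
  · intro h3
    have key := mul_mem_of_le_finrank hQ.ne_zero 3 hS h3
    have h1 := (mem_twoPlusOne_iff.1 (hV ▸ (key 1 (by rw [degree_one]; norm_num)).1)).2
    have h2 := (mem_twoPlusOne_iff.1 (hV ▸ (key X (by rw [degree_X]; norm_num)).1)).2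
    simp [hQdef, hi.ne', hj.ne'] at h1 h2
    have e0 : ((-p) ^ i * (-q) ^ j : k) = 0 := by
      rcases h2 with h | h
      · rw [h1, h]; simp [hi.ne']
      · rw [h1, h]; simp [hj.ne']
    simp [hi.ne', hj.ne'] at e0
    have e1 : p = -1 ∨ q = -1 := h2.imp (fun h => by linear_combination -h) fun h => by
      linear_combination -h
    rcases e0 with rfl | rfl
    · exact Or.inl ⟨rfl, e1.resolve_left fun h => one_ne_zero (show (1 : k) = 0 by
        linear_combination h)⟩
    · exact Or.inr ⟨e1.resolve_right fun h => one_ne_zero (show (1 : k) = 0 by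
        linear_combination h), rfl⟩
  · intro hpq
    let φ : degreeLT k 3 →ₗ[k] ↥(V ⊓ (Ideal.span {Q}).restrictScalars k) :=
      ((LinearMap.mulLeft k Q).domRestrict (degreeLT k 3)).codRestrict _ fun R => by
        refine ⟨?_, Ideal.mem_span_singleton'.2 ⟨R.1, mul_comm _ _⟩⟩
        rw [hV, SetLike.mem_coe, mem_twoPlusOne_iff]
        refine ⟨(natDegree_mul_le (p := Q) (q := R.1)).trans ?_, ?_⟩
        · have := mem_degreeLT.1 R.2
          have : (R.1).natDegree ≤ 2 := by
            rcases eq_or_ne R.1 0 with h0 | h0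
            · simp [h0]
            · have := (natDegree_lt_iff_degree_lt h0).2 this; omega
          omega
        · rcases hpq with ⟨rfl, rfl⟩ | ⟨rfl, rfl⟩ <;> simp [hQdef, hi.ne', hj.ne']
    have hφ : Function.Injective φ := fun x y hxy => by
      have := congrArg Subtype.val hxy
      exact Subtype.ext (mulLeft_inj hQ.ne_zero this)
    have hfin : Module.Finite k ↥(V ⊓ (Ideal.span {Q}).restrictScalars k) := by
      haveI : Module.Finite k (degreeLT k (a + 2)) :=
        Module.Finite.equiv (degreeLTEquiv k (a + 2)).symm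
      refine Submodule.finiteDimensional_of_le (S₂ := degreeLT k (a + 2)) fun G hG => ?_
      rw [mem_degreeLT]
      exact lt_of_le_of_lt (degree_le_of_natDegree_le (mem_twoPlusOne_iff.1 (hV ▸ hG.1)).1)
        (by exact_mod_cast Nat.lt_succ_self (a + 1))
    have := LinearMap.finrank_le_finrank_of_injective hφ
    rwa [(degreeLTEquiv k 3).finrank_eq, Module.finrank_fin_fun] at this

end TwoPlusOne

section Line

variable [CharZero k]

theorem no_special_line (a b i : ℕ) (ha : 0 < a) (hb : 0 < b) (hi : 0 < i) (hiab : i < a + b)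
    (V : Submodule k k[X])
    (hV : V = degreeLE k ↑(a + b - i) ⊓
      LinearMap.ker ((lcoeff k a).comp (LinearMap.mulLeft k (((X : k[X]) + 1) ^ i))))
    (q : k) (hq : q ≠ 0) :
    Module.finrank k ↥(V ⊓ (Ideal.span {(X - C q) ^ (a + b - i - 1)}).restrictScalars k) ≤ 1 := by
  by_contra hlt
  subst hV
  set N := a + b - i - 1 with hN
  set Q : k[X] := (X - C q) ^ N with hQdef
  have hQ : Q.Monic := (monic_X_sub_C q).pow N
  have key := mul_mem_of_le_finrank (S := degreeLE k ↑(a + b - i) ⊓
      LinearMap.ker ((lcoeff k a).comp (LinearMap.mulLeft k (((X : k[X]) + 1) ^ i))) ⊓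
      (Ideal.span {Q}).restrictScalars k) hQ.ne_zero 2 (fun G hG => exists_quot hQ hG.2
    (natDegree_le_of_degreeLE hG.1.1) (by rw [natDegree_pow, natDegree_X_sub_C]; omega))
    (not_le.1 hlt)
  have h1 := (key 1 (by rw [degree_one]; norm_num)).1.2
  have h2 := (key X (by rw [degree_X]; norm_num)).1.2
  simp only [SetLike.mem_coe, LinearMap.mem_ker, LinearMap.comp_apply, LinearMap.mulLeft_apply,
    lcoeff_apply, mul_one] at h1 h2
  set H : k[X] := (X + 1) ^ i * Q with hH
  obtain ⟨a', rfl⟩ : ∃ a', a = a' + 1 := ⟨a - 1, by omega⟩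
  rw [← mul_assoc, coeff_mul_X] at h2
  have hHm : H.Monic := ((monic_X_add_C (1 : k)).pow i).mul hQ |> fun h => by simpa using h
  have hHd : H.natDegree = a' + b := by
    rw [hH, natDegree_mul (pow_ne_zero _ (X_add_C_ne_zero (1 : k) |> fun h => by simpa using h))
      hQ.ne_zero, natDegree_pow, natDegree_pow, natDegree_X_sub_C,
      show ((X : k[X]) + 1).natDegree = 1 by simpa using natDegree_X_add_C (1 : k)]
    omega
  have hd : (X + 1) * (X - C q) * derivative H =
      (C (i : k) * (X - C q) + C (N : k) * (X + 1)) * H := by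
    rw [hH, hQdef, derivative_mul]
    rcases Nat.exists_eq_add_of_lt hi with ⟨i', rfl⟩
    simp only [derivative_pow, derivative_add, derivative_X, derivative_one, derivative_C,
      derivative_sub, add_zero, sub_zero, mul_one, zero_add]
    rcases N with _ | N'
    · simp only [Nat.cast_zero, C_0, pow_zero, Nat.cast_add, Nat.cast_one]
      rw [show i' + 1 - 1 = i' by omega]
      ring
    · simp only [Nat.add_sub_cancel]
      ring
  have hz : ∀ m, H.coeff (a' + m) = 0 ∧ H.coeff (a' + m + 1) = 0 := by
    intro m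
    induction m with
    | zero => exact ⟨by simpa using h2, by simpa using h1⟩
    | succ m ih =>
      refine ⟨ih.2, ?_⟩
      have e := congrArg (fun P : k[X] => P.coeff (a' + m + 1)) hd
      rw [show (X + 1) * (X - C q) * derivative H =
          X * (X * derivative H) + C (1 - q) * (X * derivative H) - C q * derivative H by
        rw [C_sub, C_1]; ring,
        show (C (i : k) * (X - C q) + C (N : k) * (X + 1)) * H =
          C ((i : k) + N) * (X * H) + C ((N : k) - i * q) * H by
        rw [C_sub, C_mul, C_add]; ring] at e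
      simp only [coeff_sub, coeff_add, coeff_C_mul, coeff_X_mul, coeff_derivative, ih.1, ih.2] at e
      rcases Nat.eq_zero_or_pos (a' + m) with h0 | h0
      · simp only [h0, coeff_X_mul_zero] at e
        push_cast at e
        simp at e
        rcases e with e | e
        · exact absurd e hq
        · rw [show a' + (m + 1) + 1 = 2 by omega]; exact e
      · obtain ⟨l, hl⟩ := Nat.exists_eq_add_of_lt h0
        rw [zero_add] at hl
        rw [hl, coeff_X_mul, coeff_derivative, ← hl, ih.1] at e
        simp at e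
        rcases e with e | e | e
        · exact absurd e hq
        · rw [show a' + (m + 1) + 1 = a' + m + 1 + 1 by omega]; exact e
        · exact absurd e (by exact_mod_cast Nat.succ_ne_zero (a' + m + 1))
  have := (hz b).1
  rw [← hHd] at this
  exact one_ne_zero (hHm.leadingCoeff.symm.trans this)

end Line

section Three

variable [CharZero k]

/-- The functional which cuts out the low degree part of the three pointed system. -/
noncomputable def lam (a b : ℕ) : k[X] →ₗ[k] k where
  toFun G := PowerSeries.coeff a ((G : PowerSeries k) * ((1 - PowerSeries.X)⁻¹) ^ (b + 1))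
  map_add' G H := by rw [coe_add, add_mul, map_add]
  map_smul' c G := by
    rw [smul_eq_C_mul, coe_mul, coe_C, mul_assoc, PowerSeries.coeff_C_mul]; rfl

omit [CharZero k] in
theorem lam_apply (a b : ℕ) (G : k[X]) : lam a b G =
    PowerSeries.coeff a ((G : PowerSeries k) * ((1 - PowerSeries.X)⁻¹) ^ (b + 1)) := rfl

omit [CharZero k] in
theorem const_one_sub_X : PowerSeries.constantCoeff (1 - PowerSeries.X : PowerSeries k) ≠ 0 := by
  simp

omit [CharZero k] in
theorem mem_three {a b : ℕ} {G : k[X]}
    (hG : G ∈ ((Ideal.span {(X : k[X]) ^ (a + 1)}).restrictScalars k ⊓ degreeLE k ↑(a + b)) ⊔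
      ((Ideal.span {((X : k[X]) - 1) ^ (b + 1)}).restrictScalars k ⊓ degreeLE k ↑(a + b)) ⊔
      Submodule.span k {(X : k[X]) ^ (a + 1) * (X - 1) ^ (b + 1)}) :
    G.natDegree ≤ a + b + 2 ∧
      G.coeff (a + b + 1) = -((b : k) + 1) * G.coeff (a + b + 2) ∧ lam a b G = 0 := by
  obtain ⟨w, hw, z, hz, rfl⟩ := Submodule.mem_sup.1 hG
  obtain ⟨u, hu, v, hv, rfl⟩ := Submodule.mem_sup.1 hw
  obtain ⟨c, rfl⟩ := Submodule.mem_span_singleton.1 hz
  have hud := natDegree_le_of_degreeLE hu.2
  have hvd := natDegree_le_of_degreeLE hv.2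
  have hlam : ∀ R : k[X], lam a b (X ^ (a + 1) * R) = 0 := fun R => by
    rw [lam_apply]
    rw [coe_mul, coe_pow, coe_X, mul_assoc, PowerSeries.coeff_X_pow_mul', if_neg (by omega)]
  set P : k[X] := (X : k[X]) ^ (a + 1) * (X - 1) ^ (b + 1) with hPdef
  have hX1 : ((X : k[X]) - 1).Monic := by simpa using monic_X_sub_C (1 : k)
  have hX1d : ((X : k[X]) - 1).natDegree = 1 := by simpa using natDegree_X_sub_C (1 : k)
  have hPm : P.Monic := (monic_X_pow _).mul (hX1.pow _)
  have hPd : P.natDegree = a + b + 2 := by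
    rw [hPdef, (monic_X_pow _).natDegree_mul (hX1.pow _), natDegree_X_pow, natDegree_pow, hX1d]
    omega
  have hP1 : P.coeff (a + b + 1) = -((b : k) + 1) := by
    have h1 : P.nextCoeff = P.coeff (a + b + 1) := by
      rw [nextCoeff_of_natDegree_pos (by omega), hPd]
      rfl
    rw [← h1, hPdef, (monic_X_pow _).nextCoeff_mul (hX1.pow _), hX1.nextCoeff_pow,
      monic_X.nextCoeff_pow]
    have e1 : (X : k[X]).nextCoeff = 0 := by simpa using nextCoeff_X_sub_C (0 : k)
    have e2 : ((X : k[X]) - 1).nextCoeff = -1 := by simpa using nextCoeff_X_sub_C (1 : k)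
    rw [e1, e2]
    simp
  have hPl : lam a b P = 0 := hlam _
  have hul : lam a b u = 0 := by
    obtain ⟨R, rfl⟩ := Ideal.mem_span_singleton'.1 hu.1
    rw [mul_comm]; exact hlam _
  have hvl : lam a b v = 0 := by
    obtain ⟨R, rfl⟩ := Ideal.mem_span_singleton'.1 hv.1
    rcases eq_or_ne R 0 with rfl | hR
    · simp
    rw [natDegree_mul hR (pow_ne_zero _ hX1.ne_zero), natDegree_pow, hX1d] at hvd
    rw [lam_apply]
    rw [coe_mul, coe_pow, coe_sub, coe_X, coe_one, mul_assoc, ← mul_pow,
      show ((PowerSeries.X : PowerSeries k) - 1) * (1 - PowerSeries.X)⁻¹ = -1 by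
        rw [← neg_sub (1 : PowerSeries k) PowerSeries.X, neg_mul,
          PowerSeries.mul_inv_cancel _ const_one_sub_X]]
    rcases neg_one_pow_eq_or (PowerSeries k) (b + 1) with h | h <;> rw [h] <;>
      simp [coeff_coe, coeff_eq_zero_of_natDegree_lt (show R.natDegree < a by omega)]
  refine ⟨?_, ?_, by rw [map_add, map_add, map_smul, hul, hvl, hPl, smul_zero, add_zero, add_zero]⟩
  · refine (natDegree_add_le _ _).trans (max_le ((natDegree_add_le _ _).trans (by omega)) ?_)
    exact (natDegree_smul_le _ _).trans hPd.le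
  · simp only [coeff_add, coeff_smul, smul_eq_mul]
    rw [coeff_eq_zero_of_natDegree_lt (show u.natDegree < a + b + 1 by omega),
      coeff_eq_zero_of_natDegree_lt (show v.natDegree < a + b + 1 by omega),
      coeff_eq_zero_of_natDegree_lt (show u.natDegree < a + b + 2 by omega),
      coeff_eq_zero_of_natDegree_lt (show v.natDegree < a + b + 2 by omega), hP1,
      show P.coeff (a + b + 2) = 1 by rw [← hPd]; exact hPm.leadingCoeff]
    ring

/-- The numerical consequences of the two dimension conditions. -/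
theorem conditions {a b i j : ℕ} (hi : 0 < i) (hj : 0 < j) (hij : i + j = a + b + 2)
    (V : Submodule k k[X])
    (hV : V = ((Ideal.span {(X : k[X]) ^ (a + 1)}).restrictScalars k ⊓ degreeLE k ↑(a + b)) ⊔
      ((Ideal.span {((X : k[X]) - 1) ^ (b + 1)}).restrictScalars k ⊓ degreeLE k ↑(a + b)) ⊔
      Submodule.span k {(X : k[X]) ^ (a + 1) * (X - 1) ^ (b + 1)})
    (p q : k)
    (h1 : 1 ≤ Module.finrank k ↥(V ⊓ (Ideal.span {(X - C p) ^ i * (X - C q) ^ j}).restrictScalars k))
    (h2 : 2 ≤ Module.finrank k
      ↥(V ⊓ (Ideal.span {(X - C p) ^ (i - 1) * (X - C q) ^ (j - 1)}).restrictScalars k)) :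
    (i : k) * p + (j : k) * q = (b : k) + 1 ∧
      lam a b ((X - C p) ^ i * (X - C q) ^ j) = 0 ∧
      lam a b ((X - C p) ^ (i - 1) * (X - C q) ^ (j - 1)) = 0 := by
  set D : k[X] := (X - C p) ^ i * (X - C q) ^ j with hDdef
  set D' : k[X] := (X - C p) ^ (i - 1) * (X - C q) ^ (j - 1) with hD'def
  have hDm : D.Monic := ((monic_X_sub_C p).pow i).mul ((monic_X_sub_C q).pow j)
  have hD'm : D'.Monic := ((monic_X_sub_C p).pow _).mul ((monic_X_sub_C q).pow _)
  have hDd : D.natDegree = a + b + 2 := by
    rw [hDdef, ((monic_X_sub_C p).pow i).natDegree_mul ((monic_X_sub_C q).pow j), natDegree_pow,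
      natDegree_pow, natDegree_X_sub_C, natDegree_X_sub_C]
    omega
  have hD'd : D'.natDegree = a + b := by
    rw [hD'def, ((monic_X_sub_C p).pow _).natDegree_mul ((monic_X_sub_C q).pow _), natDegree_pow,
      natDegree_pow, natDegree_X_sub_C, natDegree_X_sub_C]
    omega
  obtain ⟨G, hG, hG0⟩ : ∃ G ∈ V ⊓ (Ideal.span {D}).restrictScalars k, G ≠ 0 := by
    by_contra hall
    push Not at hall
    have : V ⊓ (Ideal.span {D}).restrictScalars k = ⊥ := (Submodule.eq_bot_iff _).2 hall
    rw [this, finrank_bot] at h1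
    omega
  obtain ⟨hGd, hGc, hGl⟩ := mem_three (hV ▸ hG.1)
  obtain ⟨R, hR, rfl⟩ := exists_quot hDm hG.2 hGd (show a + b + 2 < D.natDegree + 1 by omega)
  obtain ⟨c, rfl⟩ : ∃ c, R = C c := ⟨_, eq_C_of_degree_le_zero (Nat.WithBot.lt_one_iff_le_zero.mp hR)⟩
  have hc : c ≠ 0 := fun h => hG0 (by rw [h, C_0, mul_zero])
  rw [mul_comm D, ← smul_eq_C_mul, map_smul, smul_eq_mul, mul_eq_zero] at hGl
  rw [mul_comm D, coeff_C_mul, coeff_C_mul,
    show D.coeff (a + b + 2) = 1 by rw [← hDd]; exact hDm.leadingCoeff] at hGc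
  refine ⟨?_, hGl.resolve_left hc, ?_⟩
  · have hn : D.nextCoeff = D.coeff (a + b + 1) := by
      rw [nextCoeff_of_natDegree_pos (by omega), hDd]
      rfl
    rw [← hn, hDdef, ((monic_X_sub_C p).pow i).nextCoeff_mul ((monic_X_sub_C q).pow j),
      (monic_X_sub_C p).nextCoeff_pow, (monic_X_sub_C q).nextCoeff_pow, nextCoeff_X_sub_C,
      nextCoeff_X_sub_C] at hGc
    simp only [nsmul_eq_mul] at hGc
    apply mul_left_cancel₀ hc
    linear_combination -hGc
  · haveI := Module.finite_of_finrank_pos (show 0 < Module.finrank k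
      ↥(V ⊓ (Ideal.span {D'}).restrictScalars k) by omega)
    let φ := (lcoeff k (a + b + 2)).domRestrict (V ⊓ (Ideal.span {D'}).restrictScalars k)
    obtain ⟨E, hE, hE0⟩ : ∃ E ∈ LinearMap.ker φ, E ≠ 0 := by
      by_contra hall
      push Not at hall
      have hinj : Function.Injective φ :=
        LinearMap.ker_eq_bot.1 ((Submodule.eq_bot_iff _).2 hall)
      have := LinearMap.finrank_le_finrank_of_injective hinj
      rw [Module.finrank_self] at this
      omega
    have hEV := hV.le E.2.1
    obtain ⟨hEd, hEc, hEl⟩ := mem_three hEV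
    have hE2 : (E : k[X]).coeff (a + b + 2) = 0 := hE
    rw [hE2, mul_zero] at hEc
    have hEd' : (E : k[X]).natDegree ≤ a + b := by
      by_contra hlt
      have hl := leadingCoeff_ne_zero.2 (fun h => hE0 (Subtype.ext h) : (E : k[X]) ≠ 0)
      rcases (show (E : k[X]).natDegree = a + b + 1 ∨ (E : k[X]).natDegree = a + b + 2 by omega)
        with h | h <;> rw [leadingCoeff, h] at hl
      · exact hl hEc
      · exact hl hE2
    obtain ⟨R, hR, hER⟩ := exists_quot hD'm E.2.2 hEd' (show a + b < D'.natDegree + 1 by omega)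
    obtain ⟨c', rfl⟩ : ∃ c', R = C c' :=
      ⟨_, eq_C_of_degree_le_zero (Nat.WithBot.lt_one_iff_le_zero.mp hR)⟩
    rw [hER, mul_comm D', ← smul_eq_C_mul, map_smul, smul_eq_mul, mul_eq_zero] at hEl
    exact hEl.resolve_left fun h => hE0 (Subtype.ext (by rw [hER, h, C_0, mul_zero]; rfl))

end Three

section Recursion

variable [CharZero k]

variable (a b i j : ℕ) (p q : k)

/-- The series `(X-p)^(i-1) (X-q)^(j-1) / (1-X)^(b+1)`. -/
noncomputable def phi : PowerSeries k :=
  (((X - C p) ^ (i - 1) * (X - C q) ^ (j - 1) : k[X]) : PowerSeries k) *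
    ((1 - PowerSeries.X)⁻¹) ^ (b + 1)

variable {a b i j p q}

omit [CharZero k] in
theorem phi_derivative (hi : 0 < i) (hj : 0 < j) (hij : i + j = a + b + 2)
    (hs : (i : k) * p + (j : k) * q = (b : k) + 1) :
    (-(PowerSeries.X ^ 3) + PowerSeries.C (1 + p + q) * PowerSeries.X ^ 2
        - PowerSeries.C (p + q + p * q) * PowerSeries.X + PowerSeries.C (p * q)) *
      PowerSeries.derivative k (phi b i j p q) =
    (PowerSeries.C (1 - (a : k)) * PowerSeries.X ^ 2 +
        PowerSeries.C ((a : k) - 1 + a * (p + q)) * PowerSeries.X +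
        PowerSeries.C (((b : k) + 1) * (1 + p * q) - ((a : k) + b + 1) * (p + q))) *
      phi b i j p q := by
  set D : k[X] := (X - C p) ^ (i - 1) * (X - C q) ^ (j - 1) with hD
  set Φ := phi b i j p q with hΦ
  let Z : k[X] := (1 - X) ^ (b + 1)
  have hZ : (Z : PowerSeries k) * Φ = (D : PowerSeries k) := by
    simp only [Z, hΦ, phi, ← hD, coe_pow, coe_sub, coe_one, coe_X]
    rw [mul_left_comm, ← mul_pow, PowerSeries.mul_inv_cancel _ const_one_sub_X, one_pow, mul_one]
  have hZ0 : (Z : PowerSeries k) ≠ 0 := by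
    intro h
    have := congrArg PowerSeries.constantCoeff h
    simp [Z] at this
  have hdZ : (1 - X) * derivative Z = -C ((b : k) + 1) * Z := by
    simp only [Z, derivative_pow, derivative_sub, derivative_one, derivative_X, Nat.add_sub_cancel]
    push_cast
    ring
  have hdD : (X - C p) * (X - C q) * derivative D =
      (C ((i - 1 : ℕ) : k) * (X - C q) + C ((j - 1 : ℕ) : k) * (X - C p)) * D := by
    rw [hD]
    simp only [derivative_mul, derivative_pow, derivative_X_sub_C, mul_one]
    rcases (i - 1) with _ | i' <;> rcases (j - 1) with _ | j' <;>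
      simp only [Nat.cast_zero, C_0, pow_zero, Nat.add_sub_cancel] <;> ring
  have hder : PowerSeries.derivative k (D : PowerSeries k) =
      (Z : PowerSeries k) * PowerSeries.derivative k Φ +
        Φ * PowerSeries.derivative k (Z : PowerSeries k) := by
    rw [← hZ, Derivation.leibniz, smul_eq_mul, smul_eq_mul]
  rw [PowerSeries.derivative_coe, PowerSeries.derivative_coe] at hder
  have e1 : (i - 1 : ℕ) = (i : k) - 1 := by rw [Nat.cast_sub hi]; simp
  have e2 : (j - 1 : ℕ) = (j : k) - 1 := by rw [Nat.cast_sub hj]; simp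
  rw [e1, e2] at hdD
  have hdZ' := congrArg (fun P : k[X] => (P : PowerSeries k)) hdZ
  have hdD' := congrArg (fun P : k[X] => (P : PowerSeries k)) hdD
  simp only [coe_mul, coe_sub, coe_one, coe_X, coe_C, coe_add, coe_neg] at hdZ' hdD'
  have hij' : (i : k) + j = a + b + 2 := by
    have := congrArg (Nat.cast (R := k)) hij; push_cast at this; exact this
  have hiC := congrArg (PowerSeries.C (R := k)) hij'
  have hsC := congrArg (PowerSeries.C (R := k)) hs
  apply mul_left_cancel₀ hZ0
  simp only [map_add, map_sub, map_mul, map_one, map_ofNat] at hdZ' hdD' hiC hsC ⊢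
  linear_combination
    (-(1 - PowerSeries.X) * (PowerSeries.X - PowerSeries.C p) *
      (PowerSeries.X - PowerSeries.C q)) * hder
    - ((PowerSeries.X - PowerSeries.C p) * (PowerSeries.X - PowerSeries.C q) * Φ) * hdZ'
    + (1 - PowerSeries.X) * hdD'
    - (1 - PowerSeries.X) *
      ((PowerSeries.C (i : k) - 1) * (PowerSeries.X - PowerSeries.C q) +
       (PowerSeries.C (j : k) - 1) * (PowerSeries.X - PowerSeries.C p)) * hZ
    + ((1 - PowerSeries.X) * (PowerSeries.X - PowerSeries.C p - PowerSeries.C q) *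
        (Z : PowerSeries k) * Φ) * hiC
    + ((1 - PowerSeries.X) * (Z : PowerSeries k) * Φ) * hsC

theorem contra (hi : 0 < i) (hj : 0 < j) (hij : i + j = a + b + 2)
    (hs : (i : k) * p + (j : k) * q = (b : k) + 1)
    (h₀ : lam a b ((X - C p) ^ (i - 1) * (X - C q) ^ (j - 1)) = 0)
    (hne : ((X - C p) ^ (i - 1) * (X - C q) ^ (j - 1) : k[X]).eval 1 ≠ 0)
    (hprop : (p * q ≠ 0 ∧ lam a b ((X - C p) ^ i * (X - C q) ^ j) = 0) ∨ (p = 0 ∧ i ≤ a)) :
    False := by
  set Φ := phi b i j p q with hΦ
  let c : ℕ → k := fun n => PowerSeries.coeff n Φ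
  have hca : c a = 0 := h₀
  have hc : ∀ n, PowerSeries.coeff n Φ = c n := fun n => rfl
  have hrec := phi_derivative hi hj hij hs
  rw [← hΦ] at hrec
  -- the coefficients of the two sides
  have hX : ∀ (n : ℕ) (f : PowerSeries k), PowerSeries.coeff (n + 1) (PowerSeries.X * f) =
      PowerSeries.coeff n f := fun n f => PowerSeries.coeff_succ_X_mul n f
  have hX0 : ∀ f : PowerSeries k, PowerSeries.coeff 0 (PowerSeries.X * f) = 0 := fun f => by
    rw [PowerSeries.coeff_zero_eq_constantCoeff_apply, map_mul, PowerSeries.constantCoeff_X,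
      zero_mul]
  set s := p + q
  set π := p * q
  set N₀ := ((b : k) + 1) * (1 + π) - ((a : k) + b + 1) * s
  have hL : (-(PowerSeries.X ^ 3) + PowerSeries.C (1 + s) * PowerSeries.X ^ 2
        - PowerSeries.C (s + π) * PowerSeries.X + PowerSeries.C π) *
      PowerSeries.derivative k Φ =
    -(PowerSeries.X * (PowerSeries.X * (PowerSeries.X * PowerSeries.derivative k Φ))) +
      PowerSeries.C (1 + s) * (PowerSeries.X * (PowerSeries.X * PowerSeries.derivative k Φ)) -
      PowerSeries.C (s + π) * (PowerSeries.X * PowerSeries.derivative k Φ) +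
      PowerSeries.C π * PowerSeries.derivative k Φ := by ring
  have hR : (PowerSeries.C (1 - (a : k)) * PowerSeries.X ^ 2 +
        PowerSeries.C ((a : k) - 1 + a * s) * PowerSeries.X + PowerSeries.C N₀) * Φ =
    PowerSeries.C (1 - (a : k)) * (PowerSeries.X * (PowerSeries.X * Φ)) +
      PowerSeries.C ((a : k) - 1 + a * s) * (PowerSeries.X * Φ) + PowerSeries.C N₀ * Φ := by ring
  have hrec' : (-(PowerSeries.X ^ 3) + PowerSeries.C (1 + s) * PowerSeries.X ^ 2
        - PowerSeries.C (s + π) * PowerSeries.X + PowerSeries.C π) *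
      PowerSeries.derivative k Φ =
    (PowerSeries.C (1 - (a : k)) * PowerSeries.X ^ 2 +
        PowerSeries.C ((a : k) - 1 + a * s) * PowerSeries.X + PowerSeries.C N₀) * Φ := by
    simpa only [add_assoc] using hrec
  rw [hL, hR] at hrec'
  have recn : ∀ n : ℕ,
      -((n : k) + 1) * c (n + 1) + (1 + s) * (((n : k) + 2) * c (n + 2)) -
          (s + π) * (((n : k) + 3) * c (n + 3)) + π * (((n : k) + 4) * c (n + 4)) =
        (1 - (a : k)) * c (n + 1) + ((a : k) - 1 + a * s) * c (n + 2) + N₀ * c (n + 3) := by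
    intro n
    have e := congrArg (PowerSeries.coeff (n + 1 + 1 + 1)) hrec'
    simp only [LinearMap.map_add, LinearMap.map_sub, LinearMap.map_neg, PowerSeries.coeff_C_mul, hX,
      PowerSeries.coeff_derivative] at e
    simp only [hc, add_assoc, Nat.reduceAdd] at e
    push_cast at e
    linear_combination e
  have rec2 : (1 + s) * c 1 - (s + π) * (2 * c 2) + π * (3 * c 3) =
      (1 - (a : k)) * c 0 + ((a : k) - 1 + a * s) * c 1 + N₀ * c 2 := by
    have e := congrArg (PowerSeries.coeff (0 + 1 + 1)) hrec'
    simp only [LinearMap.map_add, LinearMap.map_sub, LinearMap.map_neg, PowerSeries.coeff_C_mul, hX, hX0,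
      PowerSeries.coeff_derivative] at e
    simp only [hc, add_assoc, Nat.reduceAdd] at e
    push_cast at e
    linear_combination e
  have rec1 : -(s + π) * c 1 + π * (2 * c 2) = ((a : k) - 1 + a * s) * c 0 + N₀ * c 1 := by
    have e := congrArg (PowerSeries.coeff (0 + 1)) hrec'
    simp only [LinearMap.map_add, LinearMap.map_sub, LinearMap.map_neg, PowerSeries.coeff_C_mul, hX, hX0,
      PowerSeries.coeff_derivative] at e
    simp only [hc, add_assoc, Nat.reduceAdd] at e
    push_cast at e
    linear_combination e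
  -- all coefficients from degree `a` on vanish
  have hall : ∀ n, a ≤ n → c n = 0 := by
    rcases hprop with ⟨hπ, hlamD⟩ | ⟨hp, hia⟩
    · have hD : lam a b ((X - C p) ^ i * (X - C q) ^ j) =
          PowerSeries.coeff a (PowerSeries.X * (PowerSeries.X * Φ)) -
            s * PowerSeries.coeff a (PowerSeries.X * Φ) + π * c a := by
        have e : ((X - C p) ^ i * (X - C q) ^ j : k[X]) =
            (X * X - C s * X + C π) * ((X - C p) ^ (i - 1) * (X - C q) ^ (j - 1)) := by
          obtain ⟨i', rfl⟩ : ∃ i', i = i' + 1 := ⟨i - 1, by omega⟩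
          obtain ⟨j', rfl⟩ : ∃ j', j = j' + 1 := ⟨j - 1, by omega⟩
          simp only [s, π, map_add, map_mul, Nat.add_sub_cancel, pow_succ]
          ring
        rw [lam_apply]
        rw [e, coe_mul, mul_assoc]
        change PowerSeries.coeff a (_ * Φ) = _
        simp only [coe_add, coe_sub, coe_mul, coe_X, coe_C, sub_mul, add_mul, map_sub, map_add,
          mul_assoc, PowerSeries.coeff_C_mul]
        rfl
      rw [hlamD, hca, mul_zero, add_zero] at hD
      -- the coefficient of degree `a + 1`
      have hca1 : c (a + 1) = 0 := by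
        rcases a with _ | _ | _ | a'
        · have e := congrArg (PowerSeries.coeff 0) hrec'
          simp only [LinearMap.map_add, LinearMap.map_sub, LinearMap.map_neg, PowerSeries.coeff_C_mul, hX0,
            PowerSeries.coeff_derivative] at e
          have hca' : PowerSeries.coeff 0 Φ = 0 := hca
          push_cast at e
          simp [hca', hπ] at e
          exact e
        · simp only [hX, hX0] at hD
          simp only [hc, zero_add, Nat.reduceAdd] at hD hca
          push_cast at rec1 hca
          have : π * (2 * c 2) = 0 := by linear_combination rec1 + hD + (s + π + N₀) * hca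
          simpa [hπ] using this
        · simp only [hX, hX0] at hD
          simp only [hc, zero_add, Nat.reduceAdd] at hD hca
          push_cast at rec2 hca
          have : π * (3 * c 3) = 0 := by
            linear_combination rec2 + hD + (2 * (s + π) + N₀) * hca
          simpa [hπ] using this
        · simp only [hX] at hD
          simp only [hc, add_assoc, Nat.reduceAdd] at hD hca
          have e := recn a'
          push_cast at e hca
          have : π * (((a' : k) + 4) * c (a' + 4)) = 0 := by
            linear_combination e + hD + ((s + π) * ((a' : k) + 3) + N₀) * hca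
          simpa [hπ, show ((a' : k) + 4) ≠ 0 by exact_mod_cast Nat.succ_ne_zero (a' + 3)] using this
      have step : ∀ n, (∀ l, a ≤ l → l ≤ a + n → c l = 0) ∧ c (a + n) = 0 ∧ c (a + n + 1) = 0 := by
        intro n
        induction n with
        | zero =>
          exact ⟨fun l h1 h2 => by rw [show l = a by omega]; exact hca, by simpa using hca,
            by simpa using hca1⟩
        | succ n ih' =>
          obtain ⟨ihc, ih⟩ := ih'
          refine ⟨fun l h1 h2 => ?_, ih.2, ?_⟩
          · rcases Nat.eq_or_lt_of_le h2 with h | h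
            · rw [h]; exact ih.2
            · exact ihc l h1 (by omega)
          rw [show a + (n + 1) + 1 = a + n + 2 by omega]
          -- the recursion in degree `a + n + 1`
          rcases Nat.eq_zero_or_pos (a + n) with h0 | h0
          · have ha0 : a = 0 := by omega
            have hn0 : n = 0 := by omega
            subst ha0 hn0
            have i1 : c 0 = 0 := by simpa using ih.1
            have i2 : c 1 = 0 := by simpa using ih.2
            push_cast at rec1
            have : π * (2 * c 2) = 0 := by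
              linear_combination rec1 + (-1 : k) * i1 + (N₀ + s + π) * i2
            simpa [hπ] using this
          rcases Nat.eq_or_lt_of_le (show 1 ≤ a + n from h0) with h1 | h1
          · have i1 : c 1 = 0 := by rw [h1]; exact ih.1
            have i2 : c 2 = 0 := by rw [show 2 = a + n + 1 by omega]; exact ih.2
            have i0 : (1 - (a : k)) * c 0 = 0 := by
              rcases Nat.eq_zero_or_pos a with ha | ha
              · subst ha; rw [show c 0 = 0 from hca, mul_zero]
              · rw [show a = 1 by omega]; simp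
            have : π * (3 * c 3) = 0 := by
              linear_combination rec2 + i0 + ((a : k) - 1 + a * s - (1 + s)) * i1 +
                (N₀ + 2 * (s + π)) * i2
            rw [show a + n + 2 = 3 by omega]
            simpa [hπ] using this
          · obtain ⟨m, hm⟩ : ∃ m, a + n = m + 2 := ⟨a + n - 2, by omega⟩
            have e := recn m
            rw [← hm, show m + 3 = a + n + 1 by omega, show m + 4 = a + n + 2 by omega] at e
            have i0 : (((m : k) + 1) + (1 - (a : k))) * c (m + 1) = 0 := by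
              rcases Nat.eq_zero_or_pos n with hn | hn
              · subst hn
                have : (a : k) = m + 2 := by exact_mod_cast (by omega : a = m + 2)
                rw [this]; ring
              · rcases Nat.eq_or_lt_of_le (show a ≤ m + 1 by omega) with h | h
                · rw [← h, hca, mul_zero]
                · rw [ihc (m + 1) h.le (by omega), mul_zero]
            have : π * (((m : k) + 4) * c (a + n + 2)) = 0 := by
              linear_combination e + i0 + ((a : k) - 1 + a * s - (1 + s) * ((m : k) + 2)) * ih.1 +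
                (N₀ + (s + π) * ((m : k) + 3)) * ih.2
            simpa [hπ, show ((m : k) + 4) ≠ 0 by exact_mod_cast Nat.succ_ne_zero (m + 3)] using this
      intro n hn
      obtain ⟨m, rfl⟩ := Nat.exists_eq_add_of_le hn
      exact (step m).2.1
    · subst hp
      intro n hn
      induction n using Nat.strong_induction_on with
      | _ n ih =>
      rcases Nat.eq_or_lt_of_le hn with rfl | hlt
      · exact hca
      have hjk : (j : k) ≠ 0 := Nat.cast_ne_zero.2 hj.ne'
      have hπ0 : π = 0 := zero_mul q
      have hsq : s = q := zero_add q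
      have hq : (j : k) * q = (b : k) + 1 := by simpa using hs
      have hij' : (i : k) + j = a + b + 2 := by exact_mod_cast hij
      have hK : s * (n : k) + N₀ ≠ 0 := by
        intro h0
        have h1 : ((b : k) + 1) * (((n : k) + 1) - i) = 0 := by
          simp only [N₀, hπ0, hsq] at h0
          linear_combination (j : k) * h0 + ((a : k) + b + 1 - n) * hq - ((b : k) + 1) * hij'
        rcases mul_eq_zero.1 h1 with h | h
        · exact absurd h (by exact_mod_cast Nat.succ_ne_zero b)
        · have : n + 1 = i := by exact_mod_cast sub_eq_zero.1 h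
          omega
      obtain ⟨m, rfl⟩ : ∃ m, n = m + 1 := ⟨n - 1, by omega⟩
      have hm : c m = 0 := ih m (by omega) (by omega)
      rcases m with _ | _ | m
      · omega
      · have i0 : (1 - (a : k)) * c 0 = 0 := by
          rw [show a = 1 by omega]; simp
        have : (s * (2 : k) + N₀) * c 2 = 0 := by
          rw [hπ0] at rec2
          linear_combination -rec2 + (1 + s - ((a : k) - 1 + a * s)) * hm - i0
        exact (mul_eq_zero.1 this).resolve_left (by push_cast at hK; exact hK)
      · have e := recn m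
        rw [hπ0] at e
        have i0 : ((m : k) + 1 + (1 - (a : k))) * c (m + 1) = 0 := by
          rcases Nat.eq_or_lt_of_le (show a ≤ m + 2 by omega) with h | h
          · have : (a : k) = m + 2 := by exact_mod_cast h
            rw [this]; ring
          · rw [ih (m + 1) (by omega) (by omega), mul_zero]
        have : (s * ((m : k) + 3) + N₀) * c (m + 3) = 0 := by
          linear_combination -e + ((1 + s) * ((m : k) + 2) - ((a : k) - 1 + a * s)) * hm - i0
        refine (mul_eq_zero.1 this).resolve_left ?_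
        push_cast at hK
        convert hK using 2
        ring
  -- so `Φ` is a polynomial
  let Z : k[X] := (1 - X) ^ (b + 1)
  let T : k[X] := PowerSeries.trunc a Φ
  have hT : (T : PowerSeries k) = Φ := by
    ext n
    rw [coeff_coe, PowerSeries.coeff_trunc]
    split_ifs with h
    · rfl
    · exact (hall n (by omega)).symm
  have hZT : Z * T = (X - C p) ^ (i - 1) * (X - C q) ^ (j - 1) := by
    apply Polynomial.coe_inj.1
    rw [coe_mul, hT, hΦ, phi]
    simp only [Z, coe_pow, coe_sub, coe_one, coe_X]
    rw [mul_left_comm, ← mul_pow, PowerSeries.mul_inv_cancel _ const_one_sub_X, one_pow, mul_one]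
  apply hne
  rw [← hZT]
  simp [Z]

end Recursion

theorem no_pair [CharZero k] (a b i j : ℕ) (hi : 0 < i) (hiab : i ≤ a + b)
    (hj : i + j = a + b + 2) (V : Submodule k k[X])
    (hV : V = ((Ideal.span {(X : k[X]) ^ (a + 1)}).restrictScalars k ⊓ degreeLE k ↑(a + b)) ⊔
      ((Ideal.span {((X : k[X]) - 1) ^ (b + 1)}).restrictScalars k ⊓ degreeLE k ↑(a + b)) ⊔
      Submodule.span k {(X : k[X]) ^ (a + 1) * (X - 1) ^ (b + 1)})
    (p q : k) (hp0 : p ≠ 0) (hp1 : p ≠ 1) (hq0 : q ≠ 0) (hq1 : q ≠ 1) :
    ¬ (1 ≤ Module.finrank k ↥(V ⊓ (Ideal.span {(X - C p) ^ i * (X - C q) ^ j}).restrictScalars k) ∧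
       2 ≤ Module.finrank k
        ↥(V ⊓ (Ideal.span {(X - C p) ^ (i - 1) * (X - C q) ^ (j - 1)}).restrictScalars k)) := by
  rintro ⟨h1, h2⟩
  obtain ⟨hs, hD, hD'⟩ := conditions hi (show 0 < j by omega) hj V hV p q h1 h2
  refine contra hi (show 0 < j by omega) hj hs hD' ?_ (Or.inl ⟨mul_ne_zero hp0 hq0, hD⟩)
  simp [sub_eq_zero, Ne.symm hp1, Ne.symm hq1]

theorem le_of_pair [CharZero k] (a b i j : ℕ) (hi : 0 < i) (hiab : i ≤ a + b)
    (hj : i + j = a + b + 2) (V : Submodule k k[X])
    (hV : V = ((Ideal.span {(X : k[X]) ^ (a + 1)}).restrictScalars k ⊓ degreeLE k ↑(a + b)) ⊔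
      ((Ideal.span {((X : k[X]) - 1) ^ (b + 1)}).restrictScalars k ⊓ degreeLE k ↑(a + b)) ⊔
      Submodule.span k {(X : k[X]) ^ (a + 1) * (X - 1) ^ (b + 1)})
    (q : k)
    (h1 : 1 ≤ Module.finrank k ↥(V ⊓ (Ideal.span {(X : k[X]) ^ i * (X - C q) ^ j}).restrictScalars k))
    (h2 : 2 ≤ Module.finrank k
      ↥(V ⊓ (Ideal.span {(X : k[X]) ^ (i - 1) * (X - C q) ^ (j - 1)}).restrictScalars k)) :
    a + 1 ≤ i := by
  by_contra hlt
  have hXC : (X : k[X]) = X - C 0 := by simp
  rw [show (X : k[X]) ^ i = (X - C 0) ^ i by rw [← hXC]] at h1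
  rw [show (X : k[X]) ^ (i - 1) = (X - C 0) ^ (i - 1) by rw [← hXC]] at h2
  obtain ⟨hs, hD, hD'⟩ := conditions hi (show 0 < j by omega) hj V hV 0 q h1 h2
  refine contra hi (show 0 < j by omega) hj hs hD' ?_ (Or.inr ⟨rfl, by omega⟩)
  have : q ≠ 1 := fun h => by
    subst h
    have : (j : k) = ((b + 1 : ℕ) : k) := by push_cast; linear_combination hs
    have := Nat.cast_injective this
    omega
  simp [sub_eq_zero, Ne.symm this]

end Groth.Agent.H23.Wronsk
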