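import Groth.Agent.H23.SymNormAlg
import Groth.Agent.AlgEqPts.Main
import Groth.Agent.TFCurvLib.ExtOne
import Groth.Agent.H23.FiniteFibreSum
import Groth.Prelude.Def_AlgEqCyc
import Mathlib.AlgebraicGeometry.Morphisms.Finite
import Mathlib.AlgebraicGeometry.AlgClosed.Basic

/-!
One finite component of a correspondence in an affine chart of the parameter space: the norm at a
rational point is the product of the values at the points of the fibre, with multiplicities.
-/

set_option autoImplicit false
set_option backward.isDefEq.respectTransparency false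
set_option linter.style.haveILetI false

universe u

open CategoryTheory CategoryTheory.Limits AlgebraicGeometry
open scoped TensorProduct

namespace Groth.Agent.H23.ZCorrComp

variable {k : Type u} [Field k] [IsAlgClosed k] {X W : Scheme.{u}} (p : X ⟶ Spec (CommRingCat.of k))
  (q₀ : W ⟶ Spec (CommRingCat.of k))

/-- The multiplicity of the component with generic point `ξ` in the fibre cycle at `x`. -/
noncomputable def mult (u : Spec (CommRingCat.of k) ⟶ W) (hu : u ≫ q₀ = 𝟙 _) (ξ : ↥(pullback p q₀)) (x : X) : ℕ :=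
  open Classical in
  if h : ξ ⤳ AlgEqCyc.slice p q₀ u hu x then AlgEqCyc.fibreMult (pullback.snd p q₀) _ ξ h else 0

/-- A rational point of the product over `u` is a point of the slice. -/
theorem point_eq_slice (u : Spec (CommRingCat.of k) ⟶ W) (hu : u ≫ q₀ = 𝟙 _)
    (T : Spec (CommRingCat.of k) ⟶ pullback p q₀) (hT : T ≫ pullback.snd p q₀ = u) (t : Spec (CommRingCat.of k)) :
    AlgEqCyc.slice p q₀ u hu ((T ≫ pullback.fst p q₀) t) = T t := by
  have h1 : T ≫ pullback.fst p q₀ ≫ p = 𝟙 _ := by rw [pullback.condition, reassoc_of% hT, hu]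
  have h : (T ≫ pullback.fst p q₀) ≫ AlgEqCyc.slice p q₀ u hu = T := by
    apply pullback.hom_ext
    · simp [AlgEqCyc.slice]
    · simp only [AlgEqCyc.slice, Category.assoc, pullback.lift_snd]
      rw [reassoc_of% h1, hT]
  exact congr(($h).base t)

/-- A ring map onto an algebra with residue field `k` computes the multiplicity. -/
theorem length_eq {O L : Type u} [CommRing O] [CommRing L] [Algebra k L] [Module.Finite k L] (χ : L →ₐ[k] k)
    [IsLocalRing L] (K : Ideal O) (J : Ideal (O ⧸ K)) (Λ : O →+* L) (hsurj : Function.Surjective Λ)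
    (hker : RingHom.ker Λ = J.comap (Ideal.Quotient.mk K)) :
    Module.length O ((O ⧸ K) ⧸ J) = Module.finrank k L := by
  letI := Λ.toAlgebra
  let g : O →ₗ[O] (O ⧸ K) ⧸ J := Algebra.linearMap O ((O ⧸ K) ⧸ J)
  have hg : Function.Surjective g := Ideal.Quotient.mk_surjective.comp Ideal.Quotient.mk_surjective
  have hgk : LinearMap.ker g = RingHom.ker Λ := by
    ext o
    rw [hker, LinearMap.mem_ker]
    exact Ideal.Quotient.eq_zero_iff_mem
  let e1 : (O ⧸ RingHom.ker Λ) ≃ₗ[O] (O ⧸ K) ⧸ J :=
    (Submodule.quotEquivOfEq _ _ hgk.symm).trans (g.quotKerEquivOfSurjective hg)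
  have hl : LinearMap.ker (Algebra.linearMap O L) = RingHom.ker Λ := rfl
  let e2 : (O ⧸ RingHom.ker Λ) ≃ₗ[O] L :=
    (Submodule.quotEquivOfEq _ _ hl.symm).trans ((Algebra.linearMap O L).quotKerEquivOfSurjective hsurj)
  rw [← e1.length_eq, e2.length_eq, Module.length_eq_of_surjective (S := O) (R := L) (M := L) hsurj]
  refine TFCurvLib.length_eq_finrank χ (fun a ha => ?_) L
  by_contra hu
  haveI hmax : (RingHom.ker χ.toRingHom).IsMaximal :=
    RingHom.ker_isMaximal_of_surjective _ fun r => ⟨algebraMap k L r, χ.commutes r⟩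
  have hmem : a ∈ RingHom.ker χ.toRingHom := by
    rw [IsLocalRing.eq_maximalIdeal hmax]
    exact (IsLocalRing.mem_maximalIdeal a).2 hu
  exact ha hmem

variable {Z : Scheme.{u}} [IsIntegral Z] (ι : Z ⟶ pullback p q₀) [IsClosedImmersion ι]
  {R B A : Type u} [CommRing R] [CommRing B] [CommRing A] [Algebra k R] [Algebra k B] [Algebra k A] [Algebra R B]
  [IsScalarTower k R B] [Module.Finite R B]
  (j : Spec (CommRingCat.of R) ⟶ W) [IsOpenImmersion j] (hj : j ≫ q₀ = Spec.map (CommRingCat.ofHom (algebraMap k R)))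
  (jB : Spec (CommRingCat.of B) ⟶ Z)
  (hB : IsPullback jB (Spec.map (CommRingCat.ofHom (algebraMap R B))) (ι ≫ pullback.snd p q₀) j)
  (c : Spec (CommRingCat.of A) ⟶ X) (f : A →ₐ[k] B)
  (hf : Spec.map (CommRingCat.ofHom f.toRingHom) ≫ c = jB ≫ ι ≫ pullback.fst p q₀)
  (χ : R →ₐ[k] k)

include hB in
theorem isOpenImmersion_jB : IsOpenImmersion jB :=
  MorphismProperty.of_isPullback hB.flip (inferInstance : IsOpenImmersion j)

include hB hf in
/-- The multiplicity at the point given by an algebra map is the dimension of the local ring. -/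
theorem mult_point (u : Spec (CommRingCat.of k) ⟶ W) (hu : u ≫ q₀ = 𝟙 _)
    (huχ : Spec.map (CommRingCat.ofHom χ.toRingHom) ≫ j = u)
    [Algebra R k] (hχ : algebraMap R k = χ.toRingHom) [IsScalarTower k R k]
    (φ : (k ⊗[R] B) →ₐ[k] k) (φB : B →ₐ[k] k) (hφB : ∀ b, φB b = φ (1 ⊗ₜ b)) :
    mult p q₀ u hu (ι (genericPoint Z))
        ((Spec.map (CommRingCat.ofHom (φB.comp f).toRingHom) ≫ c) (IsLocalRing.closedPoint k)) =
      Module.finrank k (Localization.AtPrime (Ideal.comap φ ⊥)) := by
  haveI := isOpenImmersion_jB p q₀ ι j jB hB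
  let g : B →+* k ⊗[R] B := (Algebra.TensorProduct.includeRight : B →ₐ[R] k ⊗[R] B).toRingHom
  have hχs : Function.Surjective (algebraMap R k) := fun a => ⟨algebraMap k R a, by rw [hχ]; exact χ.commutes a⟩
  have hgs : Function.Surjective g := Algebra.TensorProduct.includeRight_surjective B hχs
  have hgk : RingHom.ker g = (RingHom.ker χ).map (algebraMap R B) := by
    refine le_antisymm ?_ (Ideal.map_le_iff_le_comap.2 fun r hr => ?_)
    · intro b hb
      let e := Algebra.TensorProduct.quotIdealMapEquivTensorQuot B (RingHom.ker χ)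
      let m : k →ₗ[R] R ⧸ RingHom.ker χ :=
        { toFun := fun a => Ideal.Quotient.mk _ (algebraMap k R a)
          map_add' := fun a a' => by simp
          map_smul' := fun r a => by
            rw [RingHom.id_apply, Algebra.smul_def, hχ, Algebra.smul_def, map_mul, map_mul]
            congr 1
            refine Ideal.Quotient.eq.2 ?_
            show χ (algebraMap k R (χ r) - r) = 0
            simp }
      have h1 : TensorProduct.map m LinearMap.id ((1 : k) ⊗ₜ[R] b) = (0 : (R ⧸ RingHom.ker χ) ⊗[R] B) := by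
        rw [show (1 : k) ⊗ₜ[R] b = 0 from hb, map_zero]
      rw [TensorProduct.map_tmul] at h1
      have h2 := congrArg (TensorProduct.quotTensorEquivQuotSMul B (RingHom.ker χ)) h1
      have hm1 : m 1 = Ideal.Quotient.mk _ 1 := congrArg (Ideal.Quotient.mk _) (map_one (algebraMap k R))
      rw [map_zero, LinearMap.id_apply, hm1] at h2
      erw [TensorProduct.quotTensorEquivQuotSMul_mk_tmul] at h2
      rw [one_smul, Submodule.Quotient.mk_eq_zero, Ideal.smul_top_eq_map] at h2
      exact h2
    · show (1 : k) ⊗ₜ[R] (algebraMap R B r) = 0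
      rw [Algebra.algebraMap_eq_smul_one, ← TensorProduct.smul_tmul, Algebra.smul_def, hχ]
      have hr0 : χ.toRingHom r = 0 := hr
      rw [hr0, zero_mul, TensorProduct.zero_tmul]
  let P : Spec (CommRingCat.of B) := Spec.map (CommRingCat.ofHom φB.toRingHom) (IsLocalRing.closedPoint k)
  have hP : P.asIdeal = RingHom.ker φB := by
    show (IsLocalRing.closedPoint k).asIdeal.comap φB.toRingHom = _
    rw [show (IsLocalRing.closedPoint k).asIdeal = (⊥ : Ideal k) from IsLocalRing.maximalIdeal_eq_bot]
    rfl
  let Q : Ideal (k ⊗[R] B) := Ideal.comap φ ⊥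
  haveI : Q.IsPrime := RingHom.ker_isPrime φ.toRingHom
  have hQP : Q.comap g = P.asIdeal := by
    rw [hP]; ext b
    show φ (1 ⊗ₜ b) = 0 ↔ φB b = 0
    rw [hφB]
  let T : Spec (CommRingCat.of k) ⟶ pullback p q₀ := Spec.map (CommRingCat.ofHom φB.toRingHom) ≫ jB ≫ ι
  have hφχ : ∀ r, φB (algebraMap R B r) = χ r := fun r => by
    rw [hφB, Algebra.algebraMap_eq_smul_one, ← TensorProduct.smul_tmul, Algebra.smul_def, hχ, mul_one,
      show (χ.toRingHom r) ⊗ₜ[R] (1 : B) = algebraMap k (k ⊗[R] B) (χ r) from rfl, AlgHom.commutes]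
    rfl
  have hT : T ≫ pullback.snd p q₀ = u := by
    simp only [T, Category.assoc]
    rw [hB.w, ← Spec.map_comp_assoc, ← huχ]
    congr 2
    exact CommRingCat.hom_ext (RingHom.ext hφχ)
  have hTf : T ≫ pullback.fst p q₀ = Spec.map (CommRingCat.ofHom (φB.comp f).toRingHom) ≫ c := by
    simp only [T, Category.assoc, ← hf]
    rw [← Spec.map_comp_assoc]
    rfl
  rw [← hTf]
  have hv : AlgEqCyc.slice p q₀ u hu ((T ≫ pullback.fst p q₀) (IsLocalRing.closedPoint k)) = ι (jB P) :=
    point_eq_slice p q₀ u hu T hT _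
  have hsp : ι (genericPoint Z) ⤳ ι (jB P) := ((genericPoint_spec Z).specializes trivial).map ι.continuous
  have hsp' : ι (genericPoint Z) ⤳
      AlgEqCyc.slice p q₀ u hu ((T ≫ pullback.fst p q₀) (IsLocalRing.closedPoint k)) := hv ▸ hsp
  rw [mult, dif_pos hsp']
  suffices h : ∀ (v : ↥(pullback p q₀)) (h : ι (genericPoint Z) ⤳ v), v = ι (jB P) →
      AlgEqCyc.fibreMult (pullback.snd p q₀) v (ι (genericPoint Z)) h =
        Module.finrank k (Localization.AtPrime Q) from h _ hsp' hv
  rintro _ hspec rfl
  unfold AlgEqCyc.fibreMult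
  -- the local ring of the chart
  letI : Algebra B ((Spec (CommRingCat.of B)).presheaf.stalk P) := FiniteFibreSum.stalkAlg (CommRingCat.of B) P
  haveI : IsLocalization.AtPrime ((Spec (CommRingCat.of B)).presheaf.stalk P) P.asIdeal :=
    StructureSheaf.IsLocalization.to_stalk (CommRingCat.of B) P
  have hle : P.asIdeal.primeCompl ≤ Q.primeCompl.comap g := fun b hb hb' => hb (hQP ▸ hb')
  let l : (Spec (CommRingCat.of B)).presheaf.stalk P →+* Localization.AtPrime Q :=
    IsLocalization.map (Localization.AtPrime Q) g hle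
  haveI : IsArtinianRing (k ⊗[R] B) := isArtinian_of_tower k inferInstance
  have hls : Function.Surjective l := by
    intro y
    obtain ⟨z, rfl⟩ := IsArtinianRing.localization_surjective Q.primeCompl (Localization.AtPrime Q) y
    obtain ⟨b, rfl⟩ := hgs z
    exact ⟨algebraMap B _ b, IsLocalization.map_eq hle b⟩
  have hlk : RingHom.ker l = ((RingHom.ker χ).map (algebraMap R B)).map
      (algebraMap B ((Spec (CommRingCat.of B)).presheaf.stalk P)) := by
    refine le_antisymm (fun y hy => ?_) (Ideal.map_le_iff_le_comap.2 fun b hb => ?_)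
    · obtain ⟨⟨b, s⟩, hbs⟩ := IsLocalization.surj P.asIdeal.primeCompl y
      have h0 : algebraMap (k ⊗[R] B) (Localization.AtPrime Q) (g b) = 0 := by
        rw [← IsLocalization.map_eq (S := (Spec (CommRingCat.of B)).presheaf.stalk P) (Q := Localization.AtPrime Q) hle b,
          ← hbs]
        show l (y * _) = 0
        rw [map_mul, show l y = 0 from hy, zero_mul]
      obtain ⟨t, ht⟩ := (IsLocalization.map_eq_zero_iff Q.primeCompl _ _).1 h0
      obtain ⟨t₀, ht₀⟩ := hgs t.1
      have hmem : t₀ * b ∈ (RingHom.ker χ).map (algebraMap R B) := by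
        rw [← hgk, RingHom.mem_ker, map_mul, ht₀]
        exact ht
      have hu1 : IsUnit (algebraMap B ((Spec (CommRingCat.of B)).presheaf.stalk P) (t₀ * s.1)) :=
        IsLocalization.map_units _ (⟨t₀ * s.1, mul_mem (show t₀ ∈ P.asIdeal.primeCompl from fun h => t.2 (by
          rw [← hQP] at h
          rw [← ht₀]
          exact h)) s.2⟩ : P.asIdeal.primeCompl)
      refine (Ideal.unit_mul_mem_iff_mem _ hu1).1 ?_
      rw [map_mul, mul_assoc, mul_comm (algebraMap B _ s.1) y, hbs, ← map_mul]
      exact Ideal.mem_map_of_mem _ hmem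
    · rw [Ideal.mem_comap, RingHom.mem_ker]
      show IsLocalization.map _ g hle (algebraMap B _ b) = 0
      rw [IsLocalization.map_eq, show g b = 0 from RingHom.mem_ker.1 (hgk.symm ▸ hb), map_zero]
  haveI : IsArtinianRing (Localization.AtPrime Q) := IsArtinianRing.localization_artinian Q.primeCompl _
  haveI : Module.Finite k (Localization.AtPrime Q) :=
    Module.Finite.of_surjective (IsScalarTower.toAlgHom k (k ⊗[R] B) (Localization.AtPrime Q)).toLinearMap
      (IsArtinianRing.localization_surjective Q.primeCompl (Localization.AtPrime Q))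
  have hφu : ∀ y : Q.primeCompl, IsUnit (φ y.1) := fun y => isUnit_iff_ne_zero.2 y.2
  let χL : Localization.AtPrime Q →ₐ[k] k := IsLocalization.liftAlgHom hφu
  let G := jB ≫ ι
  let Λ : (pullback p q₀).presheaf.stalk (ι (jB P)) →+* Localization.AtPrime Q := l.comp (G.stalkMap P).hom
  have hGs : Function.Surjective (G.stalkMap P).hom := by
    rw [show G.stalkMap P = ι.stalkMap (jB P) ≫ jB.stalkMap P from Scheme.Hom.stalkMap_comp jB ι P,
      CommRingCat.hom_comp]
    exact (ConcreteCategory.bijective_of_isIso (jB.stalkMap P)).2.comp (ι.stalkMap_surjective _)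
  have hGk : RingHom.ker (G.stalkMap P).hom = RingHom.ker (Cyc.specMap (ι (jB P)) (ι (genericPoint Z)) hspec) := by
    rw [AlgEqPts.ker_specMap_section ι (jB P) hspec,
      show G.stalkMap P = ι.stalkMap (jB P) ≫ jB.stalkMap P from Scheme.Hom.stalkMap_comp jB ι P,
      CommRingCat.hom_comp]
    exact RingHom.ker_comp_of_injective _ (ConcreteCategory.bijective_of_isIso (jB.stalkMap P)).1
  set K := RingHom.ker (Cyc.specMap (ι (jB P)) (ι (genericPoint Z)) hspec) with hK
  set J : Ideal (Cyc.LocQuot (ι (jB P)) (ι (genericPoint Z)) hspec) :=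
    (IsLocalRing.maximalIdeal (W.presheaf.stalk (pullback.snd p q₀ (ι (jB P))))).map
      ((Ideal.Quotient.mk K).comp ((pullback.snd p q₀).stalkMap (ι (jB P))).hom) with hJ
  have himg : (IsLocalRing.maximalIdeal (W.presheaf.stalk (pullback.snd p q₀ (ι (jB P))))).map
      ((G.stalkMap P).hom.comp ((pullback.snd p q₀).stalkMap (ι (jB P))).hom) =
      ((RingHom.ker χ).map (algebraMap R B)).map
        (algebraMap B ((Spec (CommRingCat.of B)).presheaf.stalk P)) := by
    let sg : Spec (CommRingCat.of B) ⟶ Spec (CommRingCat.of R) := Spec.map (CommRingCat.ofHom (algebraMap R B))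
    have hw : G ≫ pullback.snd p q₀ = sg ≫ j := by
      rw [Category.assoc]; exact hB.w
    have e1 : ((G.stalkMap P).hom.comp ((pullback.snd p q₀).stalkMap (ι (jB P))).hom) =
        ((sg.stalkMap P).hom.comp (j.stalkMap (sg P)).hom).comp
          (W.presheaf.stalkCongr (.of_eq (congr(($hw).base P)))).hom.hom := by
      have h1 := Scheme.Hom.stalkMap_congr_hom _ _ hw P
      rw [show (G ≫ pullback.snd p q₀).stalkMap P = (pullback.snd p q₀).stalkMap (G P) ≫ G.stalkMap P from
          Scheme.Hom.stalkMap_comp _ _ _,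
        show (sg ≫ j).stalkMap P = j.stalkMap (sg P) ≫ sg.stalkMap P from Scheme.Hom.stalkMap_comp _ _ _] at h1
      exact congrArg CommRingCat.Hom.hom h1
    rw [e1]
    erw [← Ideal.map_map]
    have hiso1 : Function.Bijective
        (W.presheaf.stalkCongr (.of_eq (congr(($hw).base P)))).hom.hom := ConcreteCategory.bijective_of_isIso _
    erw [show (IsLocalRing.maximalIdeal _).map
        (W.presheaf.stalkCongr (.of_eq (congr(($hw).base P)))).hom.hom = IsLocalRing.maximalIdeal _ from
      IsLocalRing.map_maximalIdeal_of_surjective _ hiso1.2, ← Ideal.map_map,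
      IsLocalRing.map_maximalIdeal_of_surjective _ (ConcreteCategory.bijective_of_isIso (j.stalkMap (sg P))).2]
    letI : Algebra R ((Spec (CommRingCat.of R)).presheaf.stalk (sg P)) := FiniteFibreSum.stalkAlg (CommRingCat.of R) (sg P)
    haveI : IsLocalization.AtPrime ((Spec (CommRingCat.of R)).presheaf.stalk (sg P)) (sg P).asIdeal :=
      StructureSheaf.IsLocalization.to_stalk (CommRingCat.of R) (sg P)
    rw [← IsLocalization.AtPrime.map_eq_maximalIdeal (sg P).asIdeal ((Spec (CommRingCat.of R)).presheaf.stalk (sg P)),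
      Ideal.map_map, Ideal.map_map]
    have hsgP : (sg P).asIdeal = RingHom.ker χ := by
      show P.asIdeal.comap (algebraMap R B) = _
      rw [hP]; ext r
      show φB (algebraMap R B r) = 0 ↔ χ r = 0
      rw [hφχ]
    rw [hsgP]
    congr 1
    exact RingHom.ext fun r => FiniteFibreSum.stalkMap_algebraMap (CommRingCat.ofHom (algebraMap R B)) P r
  rw [length_eq χL K J Λ (hls.comp hGs) ?_]
  · rfl
  · show RingHom.ker (l.comp (G.stalkMap P).hom) = _
    rw [← RingHom.comap_ker, hlk, ← himg, hJ, ← Ideal.map_map, ← Ideal.map_map,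
      Ideal.comap_map_of_surjective _ hGs, Ideal.comap_map_of_surjective _ Ideal.Quotient.mk_surjective,
      ← RingHom.ker_eq_comap_bot, ← RingHom.ker_eq_comap_bot, Ideal.mk_ker, hGk]

include hB hf in
/-- One component: the points of the fibre over `u` with their multiplicities. -/
theorem exists_points (u : Spec (CommRingCat.of k) ⟶ W) (hu : u ≫ q₀ = 𝟙 _)
    (huχ : Spec.map (CommRingCat.ofHom χ.toRingHom) ≫ j = u)
    [Algebra R k] (hχ : algebraMap R k = χ.toRingHom) [IsScalarTower k R k] :
    ∃ (I : Type u) (_ : Fintype I) (e : I → A →ₐ[k] k),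
      (∀ a, Algebra.norm k ((1 : k) ⊗ₜ[R] f a) = ∏ i, e i a) ∧
      ∀ x : X, Nat.card {i : I // (Spec.map (CommRingCat.ofHom (e i).toRingHom) ≫ c) (IsLocalRing.closedPoint k) = x} =
        mult p q₀ u hu (ι (genericPoint Z)) x := by
  classical
  haveI := isOpenImmersion_jB p q₀ ι j jB hB
  haveI : IsArtinianRing (k ⊗[R] B) := isArtinian_of_tower k inferInstance
  let inc : B →ₐ[k] k ⊗[R] B := (Algebra.TensorProduct.includeRight : B →ₐ[R] k ⊗[R] B).restrictScalars k
  have hχs : Function.Surjective (algebraMap R k) := fun a => ⟨algebraMap k R a, by rw [hχ]; exact χ.commutes a⟩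
  have hincs : Function.Surjective inc := Algebra.TensorProduct.includeRight_surjective B hχs
  let m : ((k ⊗[R] B) →ₐ[k] k) → ℕ := fun φ => Module.finrank k (Localization.AtPrime (Ideal.comap φ ⊥))
  let pt : ((k ⊗[R] B) →ₐ[k] k) → X := fun φ =>
    (Spec.map (CommRingCat.ofHom ((φ.comp inc).comp f).toRingHom) ≫ c) (IsLocalRing.closedPoint k)
  haveI : Finite ((k ⊗[R] B) →ₐ[k] k) := by
    refine Finite.of_injective (fun φ => (⟨RingHom.ker φ, RingHom.ker_isPrime φ.toRingHom⟩ : PrimeSpectrum (k ⊗[R] B)))
      fun φ ψ h => AlgHom.ext fun z => ?_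
    have h1 : RingHom.ker φ = RingHom.ker ψ := congrArg PrimeSpectrum.asIdeal h
    have h2 : z - algebraMap k _ (φ z) ∈ RingHom.ker φ := by
      rw [RingHom.mem_ker, map_sub, AlgHom.commutes]; exact sub_self _
    rw [h1, RingHom.mem_ker, map_sub, AlgHom.commutes, sub_eq_zero] at h2
    exact h2.symm
  haveI := Fintype.ofFinite ((k ⊗[R] B) →ₐ[k] k)
  let I := Σ φ : (k ⊗[R] B) →ₐ[k] k, Fin (m φ)
  refine ⟨I, inferInstance, fun i => (i.1.comp inc).comp f, fun a => ?_, fun x => ?_⟩
  · rw [S13117.result k (k ⊗[R] B) ((1 : k) ⊗ₜ[R] f a), finprod_eq_prod_of_fintype, Fintype.prod_sigma]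
    refine Finset.prod_congr rfl fun φ _ => ?_
    show _ = ∏ _t : Fin (m φ), φ (inc (f a))
    rw [Finset.prod_const, Finset.card_univ, Fintype.card_fin]
    rfl
  · have hinj : Function.Injective pt := by
      intro φ ψ h
      have hT : ∀ φ : (k ⊗[R] B) →ₐ[k] k,
          (Spec.map (CommRingCat.ofHom (φ.comp inc).toRingHom) ≫ jB ≫ ι) ≫ pullback.snd p q₀ = u := fun φ => by
        simp only [Category.assoc]
        rw [hB.w, ← Spec.map_comp_assoc, ← huχ]
        congr 2
        refine CommRingCat.hom_ext (RingHom.ext fun r => ?_)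
        show φ ((1 : k) ⊗ₜ[R] algebraMap R B r) = χ r
        rw [Algebra.algebraMap_eq_smul_one, ← TensorProduct.smul_tmul, Algebra.smul_def, hχ, mul_one,
          show (χ.toRingHom r) ⊗ₜ[R] (1 : B) = algebraMap k (k ⊗[R] B) (χ r) from rfl, AlgHom.commutes]
        rfl
      have hpt : ∀ φ : (k ⊗[R] B) →ₐ[k] k,
          (Spec.map (CommRingCat.ofHom (φ.comp inc).toRingHom) ≫ jB ≫ ι) (IsLocalRing.closedPoint k) =
            AlgEqCyc.slice p q₀ u hu (pt φ) := fun φ => by
        rw [← point_eq_slice p q₀ u hu _ (hT φ)]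
        congr 1
        simp only [pt, Category.assoc, ← hf]
        rw [← Spec.map_comp_assoc]
        rfl
      have h1 : (Spec.map (CommRingCat.ofHom (φ.comp inc).toRingHom)) (IsLocalRing.closedPoint k) =
          (Spec.map (CommRingCat.ofHom (ψ.comp inc).toRingHom)) (IsLocalRing.closedPoint k) := by
        apply jB.isOpenEmbedding.injective
        apply ι.isClosedEmbedding.injective
        exact (hpt φ).trans ((congrArg _ h).trans (hpt ψ).symm)
      have h2 : RingHom.ker (φ.comp inc) = RingHom.ker (ψ.comp inc) := by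
        have h3 := congrArg PrimeSpectrum.asIdeal h1
        change (IsLocalRing.closedPoint k).asIdeal.comap (φ.comp inc).toRingHom =
          (IsLocalRing.closedPoint k).asIdeal.comap (ψ.comp inc).toRingHom at h3
        rw [show (IsLocalRing.closedPoint k).asIdeal = (⊥ : Ideal k) from IsLocalRing.maximalIdeal_eq_bot] at h3
        exact h3
      refine AlgHom.ext fun z => ?_
      obtain ⟨b, rfl⟩ := hincs z
      have h4 : b - algebraMap k B (φ (inc b)) ∈ RingHom.ker (φ.comp inc) := by
        rw [RingHom.mem_ker, map_sub, AlgHom.commutes]; exact sub_self _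
      rw [h2, RingHom.mem_ker, map_sub, AlgHom.commutes, sub_eq_zero] at h4
      exact h4.symm
    by_cases hx : ∃ φ, pt φ = x
    · obtain ⟨φ, rfl⟩ := hx
      rw [mult_point p q₀ ι j jB hB c f hf χ u hu huχ hχ φ (φ.comp inc) fun b => rfl]
      refine (Nat.card_congr (?_ : {i : I // pt i.1 = pt φ} ≃ Fin (m φ))).trans (Nat.card_fin _)
      exact
        { toFun := fun i => (hinj i.2) ▸ i.1.2
          invFun := fun t => ⟨⟨φ, t⟩, rfl⟩
          left_inv := by
            rintro ⟨⟨φ', t⟩, h⟩
            obtain rfl := hinj h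
            rfl
          right_inv := fun t => rfl }
    · haveI : IsEmpty {i : I // pt i.1 = x} := ⟨fun i => hx ⟨i.1.1, i.2⟩⟩
      refine Nat.card_of_isEmpty.trans ?_
      rw [mult, dif_neg]
      intro hsp
      set v := AlgEqCyc.slice p q₀ u hu x with hvdef
      obtain ⟨z, hz⟩ : v ∈ Set.range ι := by
        refine hsp.mem_closed ι.isClosedEmbedding.isClosed_range ⟨_, rfl⟩
      have hsv : pullback.snd p q₀ v = u (IsLocalRing.closedPoint k) := by
        show (AlgEqCyc.slice p q₀ u hu ≫ pullback.snd p q₀) x = _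
        rw [AlgEqCyc.slice, pullback.lift_snd, Scheme.Hom.comp_apply]
        exact congrArg u (Subsingleton.elim (α := PrimeSpectrum k) _ _)
      have hzr : z ∈ Set.range jB := by
        rw [← hB.isoPullback_hom_fst, Scheme.Hom.comp_base, TopCat.coe_comp, Set.range_comp,
          Set.range_eq_univ.2 (ConcreteCategory.bijective_of_isIso hB.isoPullback.hom.base).surjective,
          Set.image_univ, Scheme.Pullback.range_fst]
        refine ⟨Spec.map (CommRingCat.ofHom χ.toRingHom) (IsLocalRing.closedPoint k), ?_⟩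
        rw [Scheme.Hom.comp_apply, hz, hsv, ← huχ]
        rfl
      obtain ⟨P, rfl⟩ := hzr
      have hPχ : P.asIdeal.comap (algebraMap R B) = RingHom.ker χ := by
        have h1 : j (Spec.map (CommRingCat.ofHom (algebraMap R B)) P) =
            j (Spec.map (CommRingCat.ofHom χ.toRingHom) (IsLocalRing.closedPoint k)) := by
          show (Spec.map (CommRingCat.ofHom (algebraMap R B)) ≫ j) P = _
          rw [← hB.w]
          show pullback.snd p q₀ (ι (jB P)) = (Spec.map (CommRingCat.ofHom χ.toRingHom) ≫ j) _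
          rw [hz, hsv, huχ]
        have h2 := congrArg PrimeSpectrum.asIdeal (j.isOpenEmbedding.injective h1)
        change P.asIdeal.comap (algebraMap R B) = (IsLocalRing.closedPoint k).asIdeal.comap χ.toRingHom at h2
        rw [show (IsLocalRing.closedPoint k).asIdeal = (⊥ : Ideal k) from IsLocalRing.maximalIdeal_eq_bot] at h2
        exact h2
      haveI := P.isPrime
      haveI : P.asIdeal.IsMaximal := by
        haveI : Algebra.IsIntegral R B := inferInstance
        refine Ideal.isMaximal_of_isIntegral_of_isMaximal_comap (R := R) (S := B) P.asIdeal ?_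
        show (P.asIdeal.comap (algebraMap R B)).IsMaximal
        rw [hPχ]
        exact RingHom.ker_isMaximal_of_surjective χ.toRingHom fun a => ⟨algebraMap k R a, χ.commutes a⟩
      letI := Ideal.Quotient.field P.asIdeal
      let K := B ⧸ P.asIdeal
      have hK : Function.Surjective (algebraMap k K) := by
        haveI : Algebra.IsIntegral k K := ⟨fun z => by
          obtain ⟨b, rfl⟩ := Ideal.Quotient.mk_surjective z
          have hi : IsIntegral R (Ideal.Quotient.mk P.asIdeal b) :=
            (Algebra.IsIntegral.isIntegral (R := R) b).map (Ideal.Quotient.mkₐ R P.asIdeal)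
          obtain ⟨F, hF, hF0⟩ := hi
          refine ⟨F.map χ.toRingHom, hF.map _, ?_⟩
          rw [Polynomial.eval₂_map]
          rw [show (algebraMap k K).comp χ.toRingHom = algebraMap R K from RingHom.ext fun r => ?_]
          · exact hF0
          · show algebraMap k K (χ r) = algebraMap R K r
            rw [IsScalarTower.algebraMap_apply k R K, ← sub_eq_zero, ← map_sub,
              IsScalarTower.algebraMap_apply R B K, Ideal.Quotient.algebraMap_eq, Ideal.Quotient.eq_zero_iff_mem]
            show algebraMap k R (χ r) - r ∈ P.asIdeal.comap (algebraMap R B)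
            rw [hPχ, RingHom.mem_ker, map_sub, AlgHom.commutes]
            exact sub_self _⟩
        exact IsAlgClosed.algebraMap_bijective_of_isIntegral.2
      let eK : k ≃ₐ[k] K := AlgEquiv.ofBijective (Algebra.ofId k K) ⟨(algebraMap k K).injective, hK⟩
      let φB : B →ₐ[k] k := eK.symm.toAlgHom.comp (Ideal.Quotient.mkₐ k P.asIdeal)
      have hφBχ : ∀ r, φB (algebraMap R B r) = χ r := fun r => by
        apply eK.injective
        show eK (eK.symm _) = algebraMap k K (χ r)
        rw [eK.apply_symm_apply]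
        show Ideal.Quotient.mk P.asIdeal (algebraMap R B r) = _
        rw [IsScalarTower.algebraMap_apply k B K, Ideal.Quotient.algebraMap_eq, Ideal.Quotient.eq,
          IsScalarTower.algebraMap_apply k R B, ← map_sub]
        show r - algebraMap k R (χ r) ∈ P.asIdeal.comap (algebraMap R B)
        rw [hPχ, RingHom.mem_ker, map_sub, AlgHom.commutes]
        exact sub_self _
      let φR : B →ₐ[R] k := { φB.toRingHom with commutes' := fun r => (hφBχ r).trans (congrArg (fun h : R →+* k => h r) hχ.symm) }
      let φ : (k ⊗[R] B) →ₐ[k] k := Algebra.TensorProduct.lift (AlgHom.id k k) φR fun _ _ => Commute.all _ _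
      have hφ : φ.comp inc = φB := AlgHom.ext fun b => by
        show φ ((1 : k) ⊗ₜ[R] b) = φB b
        rw [Algebra.TensorProduct.lift_tmul, map_one, one_mul]
        rfl
      refine hx ⟨φ, ?_⟩
      have hPpt : Spec.map (CommRingCat.ofHom φB.toRingHom) (IsLocalRing.closedPoint k) = P := by
        apply PrimeSpectrum.ext
        show (IsLocalRing.closedPoint k).asIdeal.comap φB.toRingHom = _
        rw [show (IsLocalRing.closedPoint k).asIdeal = (⊥ : Ideal k) from IsLocalRing.maximalIdeal_eq_bot]
        ext b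
        show eK.symm (Ideal.Quotient.mk P.asIdeal b) = 0 ↔ _
        rw [map_eq_zero_iff _ eK.symm.injective, Ideal.Quotient.eq_zero_iff_mem]
      calc pt φ = (Spec.map (CommRingCat.ofHom φB.toRingHom) ≫ jB ≫ ι ≫ pullback.fst p q₀)
            (IsLocalRing.closedPoint k) := by
            simp only [pt, hφ, ← hf]
            rw [← Spec.map_comp_assoc]
            rfl
        _ = pullback.fst p q₀ v := by
            simp only [Scheme.Hom.comp_apply, hPpt, hz]
        _ = x := by
            show (AlgEqCyc.slice p q₀ u hu ≫ pullback.fst p q₀) x = x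
            rw [AlgEqCyc.slice, pullback.lift_fst]
            rfl

end Groth.Agent.H23.ZCorrComp
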