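import Groth.Agent.AVTors.CurveThru
import Groth.Agent.Pic13Lib.CurveThru

/-!
An affine normal curve through a rational point inside a given open.
-/

set_option autoImplicit false
set_option linter.style.haveILetI false
set_option linter.unusedSectionVars false
set_option backward.isDefEq.respectTransparency false
set_option backward.isDefEq.respectTransparency.types false

universe u

open CategoryTheory CategoryTheory.Limits AlgebraicGeometry TopologicalSpace Order

namespace Groth.Agent.H23.ZCorrCurve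

open Groth.Agent Groth.Agent.AVTors

set_option maxHeartbeats 1000000 in
/-- An affine smooth curve through a closed point, inside an open, with given generic image. -/
theorem exists_curve_ring {k : Type u} [Field k] [IsAlgClosed k] {X : Scheme.{u}} [IsIntegral X]
    (f : X ⟶ Spec (CommRingCat.of k)) [LocallyOfFiniteType f] {x : X} (hxc : IsClosed ({x} : Set X)) (V : X.Opens)
    (hxV : x ∈ V) {ξ : X} (hξ : ξ ⤳ x) (hdeg : VarDim.deg f ξ = 1) :
    ∃ (C : Type u) (_ : CommRing C) (_ : IsDomain C) (_ : IsDedekindDomain C) (_ : Algebra k C)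
      (_ : Algebra.FiniteType k C) (χ : C →ₐ[k] k) (w : Spec (CommRingCat.of C) ⟶ X),
      ringKrullDim C = 1 ∧ w ≫ f = Spec.map (CommRingCat.ofHom (algebraMap k C)) ∧ Set.range w ⊆ V ∧
      w ⟨RingHom.ker χ, RingHom.ker_isPrime _⟩ = x ∧ w (⟨⊥, Ideal.isPrime_bot⟩ : PrimeSpectrum C) = ξ := by
  classical
  obtain ⟨U, hU, hxU, hUV⟩ := exists_isAffineOpen_mem_and_subset (x := x) (U := V) hxV
  obtain ⟨P, rfl⟩ := VarDim.exists_fromSpec_eq hU (hξ.mem_open U.2 hxU)
  obtain ⟨m, hm⟩ := VarDim.exists_fromSpec_eq hU hxU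
  have hPm : P ≤ m := (VarDim.fromSpec_specializes_iff hU P m).1 (hm.symm ▸ hξ)
  obtain ⟨φ, hφ⟩ := Spec.map_surjective (hU.fromSpec ≫ f)
  let A := Γ(X, U)
  letI : Algebra k A := φ.hom.toAlgebra
  haveI : Algebra.FiniteType k A := by
    have h : LocallyOfFiniteType (hU.fromSpec ≫ f) := inferInstance
    rw [← hφ, HasRingHomProperty.Spec_iff (P := @LocallyOfFiniteType)] at h
    exact h
  haveI : P.asIdeal.IsPrime := P.isPrime
  let B := A ⧸ P.asIdeal
  haveI : IsDomain B := Ideal.Quotient.isDomain P.asIdeal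
  haveI : Algebra.FiniteType k B := Algebra.FiniteType.trans (S := A) inferInstance inferInstance
  let L := FractionRing B
  let C := integralClosure B L
  haveI hfin : Module.Finite B C :=
    NormCurve.finite_integralClosure_of_nagata (NagataLib.isNagata_of_finiteType k B) L
  haveI : IsNoetherianRing B := Algebra.FiniteType.isNoetherianRing k B
  haveI : Algebra.FiniteType k C := Algebra.FiniteType.trans (S := B) inferInstance inferInstance
  haveI : IsNoetherianRing C := Algebra.FiniteType.isNoetherianRing k C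
  haveI : FaithfulSMul B C := (faithfulSMul_iff_algebraMap_injective B C).2 fun a b h =>
    IsFractionRing.injective B L (congrArg Subtype.val h)
  haveI : IsIntegrallyClosed C := integralClosure.isIntegrallyClosedOfFiniteExtension L
  have hdimC : ringKrullDim C = 1 := by
    rw [VarDim.ringKrullDim_eq_of_isIntegral (R := B) (S := C),
      ← VarDim.coheight_eq_ringKrullDim_quotient P, VarDim.deg_eq_coheight f hU, hdeg]
    rfl
  haveI : Ring.KrullDimLE 1 C := Ring.krullDimLE_iff.2 (by exact le_of_eq hdimC)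
  haveI : Ring.DimensionLEOne C := dimensionLEOne_of_dim hdimC.le
  haveI : IsDedekindRing C := IsDedekindRing.mk
  haveI hded : IsDedekindDomain C := IsDedekindDomain.mk
  let π : A →+* C := (algebraMap B C).comp (Ideal.Quotient.mk P.asIdeal)
  have hπk : φ ≫ CommRingCat.ofHom π = CommRingCat.ofHom (algebraMap k C) := rfl
  let w : Spec (CommRingCat.of C) ⟶ X := Spec.map (CommRingCat.ofHom π) ≫ hU.fromSpec
  have hwq : w ≫ f = Spec.map (CommRingCat.ofHom (algebraMap k C)) := by
    show (Spec.map (CommRingCat.ofHom π) ≫ hU.fromSpec) ≫ f = Spec.map _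
    rw [Category.assoc, ← hφ, ← Spec.map_comp, hπk]
  have hw : ∀ p : PrimeSpectrum C, w p = hU.fromSpec ⟨p.asIdeal.comap π, Ideal.IsPrime.comap π⟩ := fun p => rfl
  -- a point over `x`
  haveI : Algebra.IsIntegral B C := Algebra.IsIntegral.of_finite B C
  let mB := m.asIdeal.map (Ideal.Quotient.mk P.asIdeal)
  have hcm : mB.comap (Ideal.Quotient.mk P.asIdeal) = m.asIdeal := by
    rw [Ideal.comap_map_of_surjective _ Ideal.Quotient.mk_surjective, ← RingHom.ker_eq_comap_bot, Ideal.mk_ker,
      sup_eq_left.2 (show P.asIdeal ≤ m.asIdeal from hPm)]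
  haveI : mB.IsPrime := Ideal.map_isPrime_of_surjective Ideal.Quotient.mk_surjective (Ideal.mk_ker.le.trans hPm)
  obtain ⟨Q, -, hQp, hQ⟩ := Ideal.exists_ideal_over_prime_of_isIntegral mB (⊥ : Ideal C) (by
    rw [← RingHom.ker_eq_comap_bot, (RingHom.injective_iff_ker_eq_bot _).1 (FaithfulSMul.algebraMap_injective B C)]
    exact bot_le)
  have hmB : mB.IsMaximal := by
    have hmm : m.asIdeal.IsMaximal := by
      refine (PrimeSpectrum.isClosed_singleton_iff_isMaximal m).1 ?_
      have : ({m} : Set _) = hU.fromSpec ⁻¹' {x} := by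
        ext p
        simp only [Set.mem_singleton_iff, Set.mem_preimage, ← hm]
        exact hU.fromSpec.isOpenEmbedding.injective.eq_iff.symm
      rw [this]
      exact hxc.preimage hU.fromSpec.continuous
    exact Ideal.IsMaximal.map_of_surjective_of_ker_le Ideal.Quotient.mk_surjective (Ideal.mk_ker.le.trans hPm)
  have hQm : Q.IsMaximal := Ideal.isMaximal_of_isIntegral_of_isMaximal_comap Q (hQ.symm ▸ hmB)
  haveI := hQm
  haveI : Algebra.IsAlgebraic k (C ⧸ Q) := by
    haveI : Module.Finite k (C ⧸ Q) := by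
      letI := Ideal.Quotient.field Q
      exact finite_of_finite_type_of_isJacobsonRing k (C ⧸ Q)
    exact Algebra.IsAlgebraic.of_finite k _
  have hbij : Function.Bijective (algebraMap k (C ⧸ Q)) :=
    IsAlgClosed.algebraMap_bijective_of_isIntegral
  let χ : C →ₐ[k] k := ((AlgEquiv.ofBijective (Algebra.ofId k (C ⧸ Q)) hbij).symm.toAlgHom).comp (Ideal.Quotient.mkₐ k Q)
  have hχ : RingHom.ker χ = Q := by
    ext c
    show (AlgEquiv.ofBijective (Algebra.ofId k (C ⧸ Q)) hbij).symm (Ideal.Quotient.mk Q c) = 0 ↔ _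
    rw [EmbeddingLike.map_eq_zero_iff, Ideal.Quotient.eq_zero_iff_mem]
  refine ⟨C, inferInstance, inferInstance, hded, inferInstance, inferInstance, χ, w, hdimC, hwq, ?_, ?_, ?_⟩
  · rintro _ ⟨p, rfl⟩
    refine hUV ?_
    rw [hw]
    exact hU.range_fromSpec.le ⟨_, rfl⟩
  · rw [hw]
    refine Eq.trans ?_ hm
    congr 1
    refine PrimeSpectrum.ext ?_
    show (RingHom.ker χ).comap π = m.asIdeal
    rw [hχ, ← Ideal.comap_comap, ← hcm, ← hQ]
  · rw [hw]
    congr 1
    refine PrimeSpectrum.ext ?_
    show (⊥ : Ideal C).comap π = P.asIdeal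
    rw [← RingHom.ker_eq_comap_bot, RingHom.ker_comp_of_injective _ (FaithfulSMul.algebraMap_injective B C),
      Ideal.mk_ker]

end Groth.Agent.H23.ZCorrCurve
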