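import Groth.Agent.H23.CorrLoci
import Groth.Agent.H23.MultTrans
import Groth.Agent.ConsPropLib.Noetherian
import Groth.Agent.FibDim.AffineSpaceFibre
import Groth.Agent.AlgEqPts.Main
import Mathlib.RingTheory.Flat.TorsionFree

/-!
Flatness of the components of a correspondence over the base.
-/

set_option autoImplicit false
set_option linter.style.haveILetI false
set_option linter.unusedSectionVars false
set_option backward.isDefEq.respectTransparency false

universe u

open CategoryTheory CategoryTheory.Limits AlgebraicGeometry IsLocalRing TopologicalSpace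

namespace Groth.Agent.H23.ZCorrFlat

open Groth.Agent

variable {P S : Scheme.{u}} (g : P ⟶ S)

/-- The closure of `ξ` is flat over `S` at `z`. -/
def FlatAt {ξ z : P} (h : ξ ⤳ z) : Prop :=
  ((Ideal.Quotient.mk (RingHom.ker (Cyc.specMap z ξ h))).comp (g.stalkMap z).hom).Flat

/-- A dominating component is flat where the base is a valuation ring. -/
theorem flatAt_of_valuationRing [IsIntegral S] {ξ z : P} (h : ξ ⤳ z) (hgen : g ξ = genericPoint S)
    [ValuationRing (S.presheaf.stalk (g z))] : FlatAt g h := by
  let c := g z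
  let ψ := (Ideal.Quotient.mk (RingHom.ker (Cyc.specMap z ξ h))).comp (g.stalkMap z).hom
  haveI : (RingHom.ker (Cyc.specMap z ξ h)).IsPrime := RingHom.ker_isPrime _
  letI : Algebra (S.presheaf.stalk c) (Cyc.LocQuot z ξ h) := ψ.toAlgebra
  have hs : g ξ ⤳ c := h.map g.continuous
  have hinj : Function.Injective ψ := by
    have e : (Cyc.specMap z ξ h).comp (g.stalkMap z).hom = (g.residueFieldMap ξ).hom.comp (Cyc.specMap c (g ξ) hs) := by
      have key : g.stalkMap z ≫ P.presheaf.stalkSpecializes h ≫ P.residue ξ =
          S.presheaf.stalkSpecializes hs ≫ S.residue _ ≫ g.residueFieldMap ξ := by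
        rw [Scheme.residue_residueFieldMap, ← Category.assoc, ← Scheme.Hom.stalkSpecializes_stalkMap g ξ z h, Category.assoc]
      exact congrArg CommRingCat.Hom.hom key
    have hi : ∀ (w : S), w = genericPoint S → ∀ hw : w ⤳ c, Function.Injective (Cyc.specMap c w hw) := by
      rintro w rfl hw
      have h1 : Function.Injective (S.presheaf.stalkSpecializes hw).hom :=
        IsFractionRing.injective (S.presheaf.stalk c) S.functionField
      have h2 : Function.Injective (S.residue (genericPoint S)).hom :=
        RingHom.injective (R := S.functionField) (S.residue (genericPoint S)).hom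
      exact h2.comp h1
    intro a b hab
    have h1 : (Cyc.specMap z ξ h).comp (g.stalkMap z).hom a = (Cyc.specMap z ξ h).comp (g.stalkMap z).hom b := by
      have h2 := Ideal.Quotient.eq.1 hab
      rwa [RingHom.mem_ker, map_sub, sub_eq_zero] at h2
    rw [e] at h1
    exact hi _ hgen hs ((g.residueFieldMap ξ).hom.injective h1)
  haveI : Module.IsTorsionFree (S.presheaf.stalk c) (Cyc.LocQuot z ξ h) :=
    Module.isTorsionFree_iff_algebraMap_injective.2 hinj
  exact (Module.Flat.flat_iff_torsion_eq_bot_of_isBezout).2 (Submodule.isTorsionFree_iff_torsion_eq_bot.1 ‹_›)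

/-- A discrete valuation ring at a point whose maximal ideal has one generator. -/
theorem valuationRing_of_principal [IsIntegral S] [IsLocallyNoetherian S] {v : S} (t : S.presheaf.stalk v)
    (h : maximalIdeal (S.presheaf.stalk v) = Ideal.span {t}) : ValuationRing (S.presheaf.stalk v) := by
  have hP : (maximalIdeal (S.presheaf.stalk v)).IsPrincipal := ⟨⟨t, h⟩⟩
  exact ((tfae_of_isNoetherianRing_of_isLocalRing_of_isDomain (S.presheaf.stalk v)).out 4 1).1 hP

/-- The points over which the closure of `ξ` is flat form an open set. -/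
theorem isOpen_flat [IsIntegral S] [IsLocallyNoetherian S] [IsProper g] [IsLocallyNoetherian P] (ξ : P) :
    IsOpen {v : S | ∀ z (h : ξ ⤳ z), g z = v → FlatAt g h} := by
  obtain ⟨Z, ι, hci, hint, hrange, hgen⟩ := ConsPropLib.exists_integral_closure ξ
  haveI := hci; haveI := hint
  haveI : IsProper (ι ≫ g) := inferInstance
  haveI : LocallyOfFinitePresentation (ι ≫ g) := inferInstance
  have key : ∀ (d : Z) (h : ξ ⤳ ι d), FlatAt g h ↔ ((ι ≫ g).stalkMap d).hom.Flat := by
    intro d h
    subst hgen
    let e : Cyc.LocQuot (ι d) (ι (genericPoint Z)) h ≃+* Z.presheaf.stalk d :=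
      (Ideal.quotEquivOfEq (AlgEqPts.ker_specMap_section ι d h)).trans
        (RingHom.quotientKerEquivOfSurjective (ι.stalkMap_surjective d))
    have he : ((ι ≫ g).stalkMap d).hom =
        e.toRingHom.comp ((Ideal.Quotient.mk (RingHom.ker (Cyc.specMap (ι d) (ι (genericPoint Z)) h))).comp (g.stalkMap (ι d)).hom) := by
      rw [Scheme.Hom.stalkMap_comp]
      rfl
    rw [he]
    constructor
    · exact fun hf => RingHom.Flat.comp hf (RingHom.Flat.of_bijective (f := e.toRingHom) e.bijective)
    · intro hf
      have h2 := RingHom.Flat.comp hf (RingHom.Flat.of_bijective (f := e.symm.toRingHom) e.symm.bijective)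
      have hid : e.symm.toRingHom.comp e.toRingHom = RingHom.id _ := RingHom.ext fun a => e.symm_apply_apply a
      rw [← RingHom.comp_assoc, hid, RingHom.id_comp] at h2
      exact h2
  have hset : {v : S | ∀ z (h : ξ ⤳ z), g z = v → FlatAt g h} =
      {v : S | ∀ d : Z, (ι ≫ g) d = v → ((ι ≫ g).stalkMap d).hom.Flat} := by
    ext v
    refine ⟨fun hv d hd => ?_, fun hv z h hz => ?_⟩
    · have h : ξ ⤳ ι d := specializes_iff_mem_closure.2 (hrange ▸ Set.mem_range_self d)
      exact (key d h).1 (hv _ h hd)
    · obtain ⟨d, rfl⟩ : z ∈ Set.range ι := hrange ▸ specializes_iff_mem_closure.1 h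
      exact (key d h).2 (hv d hz)
  rw [hset]
  exact (CorrLoci.isOpen_flatFibre_and_nonempty (ι ≫ g) (ι ≫ g).isClosedMap).1

/-- Points of a component with finite fibres have relative dimension zero. -/
theorem rd_eq_zero [IsProper g] [IsLocallyNoetherian S] {ξ z : P} (h : ξ ⤳ z)
    (hfin : ∀ w : S, (closure {ξ} ∩ g ⁻¹' {w}).Finite) : FibDim.rd g z = 0 := by
  haveI : IsLocallyNoetherian P := LocallyOfFiniteType.isLocallyNoetherian g
  obtain ⟨Z, ι, hci, hint, hrange, hgen⟩ := ConsPropLib.exists_integral_closure ξ
  haveI := hci; haveI := hint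
  haveI : LocallyQuasiFinite (ι ≫ g) := LocallyQuasiFinite.of_finite_preimage_singleton _ fun w => by
    refine ((hfin w).preimage ι.isClosedEmbedding.injective.injOn).subset fun d hd => ?_
    exact ⟨hrange ▸ Set.mem_range_self d, hd⟩
  obtain ⟨d, rfl⟩ : z ∈ Set.range ι := hrange ▸ specializes_iff_mem_closure.1 h
  have h1 := CycLib.rd_comp ι g d
  rw [FibDim.rd_eq_zero_of_quasiFinite (ι ≫ g)] at h1
  omega

end Groth.Agent.H23.ZCorrFlat
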