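import Groth.Agent.H23.ZCorrSym
import Groth.Agent.H23.QuotUH
import Mathlib.RingTheory.Norm.Transitivity
import Mathlib.FieldTheory.IsAlgClosed.AlgebraicClosure

/-!
Tools for the converse correspondence: lifts of geometric points, Galois conjugates of points, and
rational points separated by products of values.
-/

set_option autoImplicit false
set_option backward.isDefEq.respectTransparency false
set_option linter.style.haveILetI false

universe u

open CategoryTheory CategoryTheory.Limits AlgebraicGeometry TopologicalSpace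
open scoped TensorProduct

namespace Groth.Agent.H23.ZCorrGeneric

/-- Geometric points lift along surjective morphisms of finite type. -/
theorem exists_lift {P Y : Scheme.{u}} (r : P ⟶ Y) [Surjective r] [LocallyOfFiniteType r]
    (Ω : Type u) [Field Ω] [IsAlgClosed Ω] (y : Spec (CommRingCat.of Ω) ⟶ Y) :
    ∃ t : Spec (CommRingCat.of Ω) ⟶ P, t ≫ r = y := by
  let h := pullback.snd r y
  haveI : JacobsonSpace ↥(pullback r y) := LocallyOfFiniteType.jacobsonSpace h
  obtain ⟨z₀, -⟩ := h.surjective (IsLocalRing.closedPoint Ω)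
  obtain ⟨z, -, hz⟩ := nonempty_inter_closedPoints (Z := (Set.univ : Set ↥(pullback r y)))
    ⟨z₀, trivial⟩ isClosed_univ.isLocallyClosed
  refine ⟨pointOfClosedPoint h z hz ≫ pullback.fst r y, ?_⟩
  rw [Category.assoc, pullback.condition, ← Category.assoc]
  have h1 : pointOfClosedPoint h z hz ≫ h = 𝟙 _ := pointOfClosedPoint_comp h z hz
  rw [h1, Category.id_comp]

/-- A field valued point in the image of a preimmersion factors through it. -/
theorem exists_factor {A B : Scheme.{u}} (G : A ⟶ B) [IsPreimmersion G] {K : Type u} [Field K]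
    (T : Spec (CommRingCat.of K) ⟶ B) (a : A) (h : T (IsLocalRing.closedPoint K) = G a) :
    ∃ l : Spec (CommRingCat.of K) ⟶ A, l ≫ G = T ∧ l (IsLocalRing.closedPoint K) = a := by
  obtain ⟨⟨b, σ⟩, rfl⟩ := (Scheme.SpecToEquivOfField K B).symm.surjective T
  change (Spec.map σ ≫ B.fromSpecResidueField b) (IsLocalRing.closedPoint K) = G a at h
  rw [Scheme.Hom.comp_apply, Scheme.fromSpecResidueField_apply] at h
  subst h
  haveI : IsIso (G.residueFieldMap a) := by
    rw [ConcreteCategory.isIso_iff_bijective]
    refine ⟨(G.residueFieldMap a).hom.injective, fun y => ?_⟩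
    obtain ⟨s, rfl⟩ := IsLocalRing.residue_surjective y
    obtain ⟨s', rfl⟩ := G.stalkMap_surjective a s
    exact ⟨IsLocalRing.residue _ s', rfl⟩
  refine ⟨Spec.map (inv (G.residueFieldMap a) ≫ σ) ≫ A.fromSpecResidueField a, ?_, ?_⟩
  · show _ = Spec.map σ ≫ B.fromSpecResidueField (G a)
    rw [Category.assoc, ← Scheme.Hom.SpecMap_residueFieldMap_fromSpecResidueField, ← Spec.map_comp_assoc,
      IsIso.hom_inv_id_assoc]
  · rw [Scheme.Hom.comp_apply, Scheme.fromSpecResidueField_apply]

theorem exists_ext {F S M : Type u} [Field F] [Field S] [Field M] [IsAlgClosed M] (iS : Algebra F S)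
    (iM : Algebra F M) [Algebra.IsAlgebraic F S] :
    ∃ s : S →+* M, ∀ c, s (algebraMap F S c) = algebraMap F M c :=
  ⟨(IsAlgClosed.lift : S →ₐ[F] M).toRingHom, fun c => AlgHom.commutes _ c⟩

/-- Two points over the same point of the base with values in an algebraic closure of its residue
field and with the same image are conjugate. -/
theorem exists_conj {P W : Scheme.{u}} (π : P ⟶ W) (w : W) (Ω : Type u) [Field Ω] [IsAlgClosed Ω]
    [Algebra (W.residueField w) Ω] [Algebra.IsAlgebraic (W.residueField w) Ω]
    (T₁ T₂ : Spec (CommRingCat.of Ω) ⟶ P)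
    (h₁ : T₁ ≫ π = Spec.map (CommRingCat.ofHom (algebraMap (W.residueField w) Ω)) ≫ W.fromSpecResidueField w)
    (h₂ : T₂ ≫ π = Spec.map (CommRingCat.ofHom (algebraMap (W.residueField w) Ω)) ≫ W.fromSpecResidueField w)
    (h : T₁ (IsLocalRing.closedPoint Ω) = T₂ (IsLocalRing.closedPoint Ω)) :
    ∃ σ : Ω ≃ₐ[W.residueField w] Ω, Spec.map (CommRingCat.ofHom σ.toRingEquiv.toRingHom) ≫ T₁ = T₂ := by
  obtain ⟨⟨ξ, a⟩, rfl⟩ := (Scheme.SpecToEquivOfField Ω P).symm.surjective T₁
  obtain ⟨⟨ξ', b⟩, rfl⟩ := (Scheme.SpecToEquivOfField Ω P).symm.surjective T₂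
  change (Spec.map a ≫ P.fromSpecResidueField ξ) (IsLocalRing.closedPoint Ω) =
    (Spec.map b ≫ P.fromSpecResidueField ξ') (IsLocalRing.closedPoint Ω) at h
  rw [Scheme.Hom.comp_apply, Scheme.fromSpecResidueField_apply, Scheme.Hom.comp_apply,
    Scheme.fromSpecResidueField_apply] at h
  subst h
  change (Spec.map a ≫ P.fromSpecResidueField ξ) ≫ π = _ at h₁
  change (Spec.map b ≫ P.fromSpecResidueField ξ) ≫ π = _ at h₂
  have hw : π ξ = w := by
    have := congr(($h₁).base (IsLocalRing.closedPoint Ω))
    simp only [Scheme.Hom.comp_apply, Scheme.fromSpecResidueField_apply] at this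
    exact this.trans (Scheme.fromSpecResidueField_apply w _)
  subst hw
  rw [Category.assoc, ← Scheme.Hom.SpecMap_residueFieldMap_fromSpecResidueField, ← Spec.map_comp_assoc,
    cancel_mono, Spec.map_inj] at h₁ h₂
  letI := (π.residueFieldMap ξ).hom.toAlgebra
  let aA : P.residueField ξ →ₐ[W.residueField (π ξ)] Ω := ⟨a.hom, fun c => congr(($h₁).hom c)⟩
  let bA : P.residueField ξ →ₐ[W.residueField (π ξ)] Ω := ⟨b.hom, fun c => congr(($h₂).hom c)⟩
  letI : Algebra (P.residueField ξ) Ω := a.hom.toAlgebra
  haveI : IsScalarTower (W.residueField (π ξ)) (P.residueField ξ) Ω :=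
    IsScalarTower.of_algebraMap_eq fun c => (aA.commutes c).symm
  haveI : Algebra.IsAlgebraic (W.residueField (π ξ)) (P.residueField ξ) :=
    Algebra.IsAlgebraic.of_injective aA aA.toRingHom.injective
  haveI : Algebra.IsAlgebraic (P.residueField ξ) Ω :=
    Algebra.IsAlgebraic.tower_top (K := W.residueField (π ξ)) (P.residueField ξ)
  -- extend `b` along `a`
  obtain ⟨s, hs⟩ := exists_ext (M := Ω) (inferInstance : Algebra (P.residueField ξ) Ω) b.hom.toAlgebra
  let sK : Ω →ₐ[W.residueField (π ξ)] Ω :=
    ⟨s, fun c => by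
      exact ((congrArg s (aA.commutes c).symm).trans
        (hs (algebraMap (W.residueField (π ξ)) (P.residueField ξ) c))).trans (bA.commutes c)⟩
  refine ⟨AlgEquiv.ofBijective sK (Algebra.IsAlgebraic.algHom_bijective sK), ?_⟩
  show Spec.map _ ≫ Spec.map a ≫ P.fromSpecResidueField ξ = Spec.map b ≫ P.fromSpecResidueField ξ
  rw [← Spec.map_comp_assoc]
  congr 2
  exact CommRingCat.hom_ext (RingHom.ext fun c => hs c)

/-- Two families of rational points with the same products of values agree as multisets. -/
theorem card_eq_of_prod_eq {k A : Type u} [Field k] [Infinite k] [CommRing A] [Algebra k A]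
    {I I' : Type u} [Fintype I] [Fintype I'] (e : I → A →ₐ[k] k) (e' : I' → A →ₐ[k] k)
    (h : ∀ a, ∏ i, e i a = ∏ i, e' i a) (φ : A →ₐ[k] k) :
    Nat.card {i // e i = φ} = Nat.card {i // e' i = φ} := by
  classical
  let all : Finset (A →ₐ[k] k) := (Finset.univ.image e ∪ Finset.univ.image e').erase φ
  have hsep : ∀ ψ : A →ₐ[k] k, ψ ≠ φ → ∃ a, ψ a = 0 ∧ φ a = 1 := fun ψ hψ => by
    obtain ⟨x, hx⟩ : ∃ x, ψ x ≠ φ x := not_forall.1 fun hall => hψ (AlgHom.ext hall)
    refine ⟨(algebraMap k A (φ x - ψ x)⁻¹) * (x - algebraMap k A (ψ x)), by simp, ?_⟩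
    simp only [map_mul, map_sub, AlgHom.commutes]
    exact inv_mul_cancel₀ (sub_ne_zero.2 (Ne.symm hx))
  choose b hb0 hb1 using hsep
  let g : A := ∏ ψ ∈ all.attach, b ψ.1 (Finset.ne_of_mem_erase ψ.2)
  have hgφ : φ g = 1 := by
    rw [map_prod]; exact Finset.prod_eq_one fun ψ _ => hb1 _ _
  have hgψ : ∀ ψ ∈ Finset.univ.image e ∪ Finset.univ.image e', ψ ≠ φ → ψ g = 0 := fun ψ hψ hne => by
    rw [map_prod]
    exact Finset.prod_eq_zero (Finset.mem_attach _ ⟨ψ, Finset.mem_erase.2 ⟨hne, hψ⟩⟩) (hb0 _ _)
  have hval : ∀ (J : Type u) [Fintype J] (ε : J → A →ₐ[k] k),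
      (∀ j, ε j ∈ Finset.univ.image e ∪ Finset.univ.image e') → ∀ c : k,
      ∏ j, ε j (1 + algebraMap k A (c - 1) * g) = c ^ Nat.card {j // ε j = φ} := by
    intro J _ ε hε c
    rw [Nat.card_eq_fintype_card, Fintype.card_subtype, ← Finset.prod_const,
      Finset.prod_filter]
    refine Finset.prod_congr rfl fun j _ => ?_
    rw [map_add, map_one, map_mul, AlgHom.commutes]
    split_ifs with hj
    · rw [hj, hgφ]; simp
    · rw [hgψ _ (hε j) hj, mul_zero, add_zero]
  refine SymNormAlg.pow_inj_of_infinite (k := k) fun c => ?_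
  rw [← hval I e (fun i => Finset.mem_union_left _ (Finset.mem_image_of_mem e (Finset.mem_univ i))) c,
    ← hval I' e' (fun i => Finset.mem_union_right _ (Finset.mem_image_of_mem e' (Finset.mem_univ i))) c, h]

/-- The norm of a finite free domain as a product over the maps to an algebraically closed field. -/
theorem norm_eq_prod {R B Ω : Type u} [CommRing R] [IsDomain R] [CharZero R] [CommRing B] [IsDomain B]
    [Algebra R B] [Module.Free R B] [Module.Finite R B] [Field Ω] [IsAlgClosed Ω] [Algebra R Ω]
    (hinj : Function.Injective (algebraMap R Ω)) (x : B) :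
    ∃ _ : Fintype (B →ₐ[R] Ω), algebraMap R Ω (Algebra.norm R x) = ∏ φ : B →ₐ[R] Ω, φ x := by
  classical
  let K := FractionRing R
  have hRB : Function.Injective (algebraMap R B) := fun a c h => by
    have hs : Nonempty (Module.Free.ChooseBasisIndex R B) := by
      by_contra hne
      haveI := not_nonempty_iff.1 hne
      haveI : Subsingleton B := (Module.Free.chooseBasis R B).repr.toEquiv.subsingleton
      exact false_of_nontrivial_of_subsingleton B
    obtain ⟨i⟩ := hs
    rw [← sub_eq_zero, ← map_sub, Algebra.algebraMap_eq_smul_one] at h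
    exact sub_eq_zero.1 ((smul_eq_zero.1 h).resolve_right one_ne_zero)
  let M := Algebra.algebraMapSubmonoid B (nonZeroDivisors R)
  let L := Localization M
  have hM : M ≤ nonZeroDivisors B := by
    rintro _ ⟨r, hr, rfl⟩
    exact mem_nonZeroDivisors_of_ne_zero fun h => nonZeroDivisors.ne_zero hr (hRB (h.trans (map_zero _).symm))
  haveI : IsDomain L := IsLocalization.isDomain_localization hM
  letI : Algebra K L := localizationAlgebra (nonZeroDivisors R) B
  haveI : IsScalarTower R K L := IsScalarTower.of_algebraMap_eq fun r => by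
    show _ = (IsLocalization.map L (algebraMap R B) _ : K →+* L) (algebraMap R K r)
    rw [IsLocalization.map_eq, ← IsScalarTower.algebraMap_apply]
  haveI : Module.Finite K L := Module.Finite.of_isLocalization R B (nonZeroDivisors R)
  have hLf : IsField L := isField_of_isIntegral_of_isField'
    (R := K) (S := L) (Field.toIsField K)
  letI := hLf.toField
  letI : Algebra K Ω := (IsFractionRing.lift hinj).toAlgebra
  haveI : IsScalarTower R K Ω := IsScalarTower.of_algebraMap_eq fun r => (IsFractionRing.lift_algebraMap hinj r).symm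
  haveI : CharZero K := charZero_of_injective_ringHom (IsFractionRing.injective R K)
  haveI : Algebra.IsSeparable K L := Algebra.IsAlgebraic.isSeparable_of_perfectField
  let E : (L →ₐ[K] Ω) ≃ (B →ₐ[R] Ω) :=
    { toFun := fun σ => (σ.restrictScalars R).comp (IsScalarTower.toAlgHom R B L)
      invFun := fun φ =>
        let l : L →+* Ω := IsLocalization.lift (M := M) (g := φ.toRingHom) fun y => by
          obtain ⟨_, r, hr, rfl⟩ := y
          show IsUnit (φ (algebraMap R B r))
          rw [φ.commutes]
          exact isUnit_iff_ne_zero.2 fun h => nonZeroDivisors.ne_zero hr (hinj (h.trans (map_zero _).symm))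
        { l with
          commutes' := fun c => by
            refine RingHom.congr_fun (f := l.comp (algebraMap K L)) (g := algebraMap K Ω)
              (IsLocalization.ringHom_ext (nonZeroDivisors R) (RingHom.ext fun r => ?_)) c
            show l (algebraMap K L (algebraMap R K r)) = algebraMap K Ω (algebraMap R K r)
            rw [← IsScalarTower.algebraMap_apply, ← IsScalarTower.algebraMap_apply,
              IsScalarTower.algebraMap_apply R B L, IsLocalization.lift_eq]
            exact φ.commutes r }
      left_inv := fun σ => by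
        refine AlgHom.ext fun y => RingHom.congr_fun (g := σ.toRingHom) (IsLocalization.ringHom_ext M ?_) y
        exact RingHom.ext fun b => IsLocalization.lift_eq _ b
      right_inv := fun φ => AlgHom.ext fun b => IsLocalization.lift_eq _ b }
  let ft : Fintype (B →ₐ[R] Ω) := Fintype.ofEquiv _ E
  refine ⟨ft, ?_⟩
  rw [IsScalarTower.algebraMap_apply R K Ω, ← Algebra.norm_localization (Rₘ := K) (Sₘ := L) R (nonZeroDivisors R) x,
    Algebra.norm_eq_prod_embeddings K Ω]
  exact Fintype.prod_equiv E _ _ fun σ => rfl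

end Groth.Agent.H23.ZCorrGeneric
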