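import Groth.Agent.H23.ZCorrGeneric
import Groth.Agent.H23.CorrLoci
import Groth.Agent.FibDim.AffineSpaceFibre
import Groth.Agent.VarDim.Top

/-!
The correspondence attached to a morphism into a symmetric power: the components are the images of
the coordinates of a geometric generic lift, the multiplicity is the number of coordinates giving
the same geometric point.
-/

set_option autoImplicit false
set_option backward.isDefEq.respectTransparency false
set_option linter.style.haveILetI false

universe u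

open CategoryTheory CategoryTheory.Limits AlgebraicGeometry TopologicalSpace
open scoped TensorProduct

namespace Groth.Agent.H23.ZCorrGraph

open SymProd SymAF SymTensorChart ZCorrGeneric

variable {k : Type u} [Field k] [IsAlgClosed k] [CharZero k] {X W Y : Scheme.{u}}
  (p : X ⟶ Spec (CommRingCat.of k)) (q₀ : W ⟶ Spec (CommRingCat.of k))
  [IsProper p] [LocallyOfFiniteType q₀] [QuasiCompact q₀] [IsIntegral W]
  {d : ℕ} {q : fibPow p d ⟶ Y} {g : Y ⟶ Spec (CommRingCat.of k)}
  (F : W ⟶ Y)

/-- The `i`-th coordinate family on `W ×_Y X^d`. -/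
noncomputable def coord (hq : IsSymProd p d q g) (hF : F ≫ g = q₀) (i : Fin d) :
    pullback F q ⟶ pullback p q₀ :=
  pullback.lift (pullback.snd F q ≫ WidePullback.π (fun _ : Fin d => p) i) (pullback.fst F q) (by
    rw [Category.assoc, WidePullback.π_arrow, ← hq.over, ← hF, pullback.condition_assoc])

omit [IsAlgClosed k] [CharZero k] [QuasiCompact q₀] [IsIntegral W] in
theorem finite_fibre (hq : IsSymProd p d q g) (hF : F ≫ g = q₀) (i : Fin d) (ξ : ↥(pullback p q₀))
    (hξ : ξ ∈ Set.range (coord p q₀ F hq hF i)) (w : W) :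
    (closure {ξ} ∩ pullback.snd p q₀ ⁻¹' {w}).Finite := by
  haveI := (SymSing.isFinite hq).1
  haveI : IsFinite (pullback.fst F q) := MorphismProperty.pullback_fst _ _ inferInstance
  have hs : coord p q₀ F hq hF i ≫ pullback.snd p q₀ = pullback.fst F q := pullback.lift_snd _ _ _
  haveI : IsFinite (coord p q₀ F hq hF i) := by
    haveI : IsFinite (coord p q₀ F hq hF i ≫ pullback.snd p q₀) := by rw [hs]; infer_instance
    exact IsFinite.of_comp (coord p q₀ F hq hF i) (pullback.snd p q₀)
  refine (((pullback.fst F q).finite_preimage_singleton w).image (coord p q₀ F hq hF i)).subset ?_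
  rintro z ⟨hz, hzw⟩
  obtain ⟨z', rfl⟩ : z ∈ Set.range (coord p q₀ F hq hF i) :=
    closure_minimal (Set.singleton_subset_iff.2 hξ) (coord p q₀ F hq hF i).isClosedMap.isClosed_range hz
  refine ⟨z', ?_, rfl⟩
  show pullback.fst F q z' = w
  rw [← hs]
  exact hzw

omit [IsProper p] [LocallyOfFiniteType q₀] [QuasiCompact q₀] [IsIntegral W] [IsAlgClosed k] [CharZero k] in
/-- A flat restriction has flat sections. -/
theorem flat_app {Z : Scheme.{u}} (π : Z ⟶ W) [IsAffineHom π] {V : W.Opens} (hV : IsAffineOpen V)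
    (h : ∀ z : Z, π z ∈ V → (π.stalkMap z).hom.Flat) : (π.app V).hom.Flat := by
  haveI : Flat (π ∣_ V) := by
    refine Flat.of_stalkMap _ fun z => ?_
    have h1 := h ((π ⁻¹ᵁ V).ι z) z.2
    have e := Scheme.Hom.stalkMap_congr_hom ((π ∣_ V) ≫ V.ι) ((π ⁻¹ᵁ V).ι ≫ π) (morphismRestrict_ι π V) z
    rw [Scheme.Hom.stalkMap_comp, Scheme.Hom.stalkMap_comp] at e
    have hfl : (V.ι.stalkMap ((π ∣_ V) z) ≫ (π ∣_ V).stalkMap z).hom.Flat := by
      rw [e]
      exact (RingHom.Flat.respectsIso.cancel_left_isIso _ _).2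
        ((RingHom.Flat.respectsIso.cancel_right_isIso _ ((π ⁻¹ᵁ V).ι.stalkMap z)).2 h1)
    exact (RingHom.Flat.respectsIso.cancel_left_isIso (V.ι.stalkMap ((π ∣_ V) z)) _).1 hfl
  have hp := CoverPush.isPullback_fromSpec π hV
  have e1 : Arrow.mk (π ∣_ V) ≅ Arrow.mk (Spec.map (π.app V)) :=
    Arrow.isoMk (hV.preimage π).isoSpec hV.isoSpec (by
      rw [← cancel_mono hV.fromSpec]
      show ((hV.preimage π).isoSpec.hom ≫ Spec.map (π.app V)) ≫ hV.fromSpec =
        ((π ∣_ V) ≫ hV.isoSpec.hom) ≫ hV.fromSpec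
      rw [Category.assoc, hp.w, Category.assoc, IsAffineOpen.isoSpec_hom_fromSpec,
        ← Category.assoc, IsAffineOpen.isoSpec_hom_fromSpec, morphismRestrict_ι])
  exact Flat.SpecMap_iff.1 ((MorphismProperty.arrow_mk_iso_iff @Flat e1).1 inferInstance)

set_option maxHeartbeats 1600000 in
/-- The effective correspondence of a morphism to the symmetric power. -/
theorem exists_cycle (hAF : IsAF p) (hq : IsSymProd p d q g) (hF : F ≫ g = q₀)
    (δ : ↥(pullback p q₀) → ℤ) (hδ : Cyc.DeltaCompat (pullback.fst p q₀ ≫ p) δ (fun _ => 0))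
    (n : ℕ) (hdim : topologicalKrullDim W = n) :
    ∃ Γ : AlgebraicCycle (pullback p q₀) ℤ, Γ ∈ Cyc.Zk (pullback p q₀) δ n ∧ (∀ ξ, 0 ≤ Γ ξ) ∧
      (∀ ξ, Γ ξ ≠ 0 → ∀ w : W, (closure {ξ} ∩ pullback.snd p q₀ ⁻¹' {w}).Finite) ∧
      ∀ (u : Spec (CommRingCat.of k) ⟶ W) (hu : u ≫ q₀ = 𝟙 _),
        (∀ ξ, Γ ξ ≠ 0 → ∀ (z : ↥(pullback p q₀)) (h : ξ ⤳ z),
          pullback.snd p q₀ z = u (IsLocalRing.closedPoint k) →
            ((Ideal.Quotient.mk (RingHom.ker (Cyc.specMap z ξ h))).comp
              ((pullback.snd p q₀).stalkMap z).hom).Flat) →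
        ZCorr.IsCycleOfSymPt p d q (u ≫ F) (AlgEqCyc.fibreFun p q₀ Γ u hu) := by
  classical
  haveI := (SymSing.isFinite hq).1
  haveI := (SymSing.isFinite hq).2
  haveI : Surjective q := ⟨SGA1Q.surjective hq.isQuot⟩
  haveI : IsLocallyNoetherian W := LocallyOfFiniteType.isLocallyNoetherian q₀
  haveI : IsLocallyNoetherian (pullback p q₀) := LocallyOfFiniteType.isLocallyNoetherian (pullback.snd p q₀)
  -- the geometric generic point
  let η := genericPoint W
  let K := W.residueField η
  let Ω := AlgebraicClosure K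
  let gη : Spec (CommRingCat.of Ω) ⟶ W :=
    Spec.map (CommRingCat.ofHom (algebraMap K Ω)) ≫ W.fromSpecResidueField η
  have hgη : ∀ x, gη x = η := fun x => by
    show W.fromSpecResidueField η _ = η
    exact Scheme.fromSpecResidueField_apply _ _
  obtain ⟨ψ, hψ⟩ := Spec.map_surjective (W.fromSpecResidueField η ≫ q₀)
  haveI : CharZero K := charZero_of_injective_ringHom ψ.hom.injective
  haveI : CharZero Ω := charZero_of_injective_ringHom (algebraMap K Ω).injective
  obtain ⟨t₀, ht₀⟩ := exists_lift q Ω (gη ≫ F)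
  have ht₀b : t₀ ≫ WidePullback.base (fun _ : Fin d => p) = gη ≫ q₀ := by
    rw [← hq.over, reassoc_of% ht₀, hF]
  let T : Fin d → (Spec (CommRingCat.of Ω) ⟶ pullback p q₀) := fun i =>
    pullback.lift (t₀ ≫ WidePullback.π (fun _ : Fin d => p) i) gη (by
      rw [Category.assoc, WidePullback.π_arrow, ht₀b])
  have hT1 : ∀ i, T i ≫ pullback.fst p q₀ = t₀ ≫ WidePullback.π (fun _ : Fin d => p) i :=
    fun i => pullback.lift_fst _ _ _
  have hT2 : ∀ i, T i ≫ pullback.snd p q₀ = gη := fun i => pullback.lift_snd _ _ _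
  let ξ : Fin d → ↥(pullback p q₀) := fun i => T i (IsLocalRing.closedPoint Ω)
  have hξη : ∀ i, pullback.snd p q₀ (ξ i) = η := fun i =>
    (congr(($(hT2 i)).base (IsLocalRing.closedPoint Ω))).trans (hgη _)
  -- conjugation
  have conj : ∀ (T' : Spec (CommRingCat.of Ω) ⟶ pullback p q₀), T' ≫ pullback.snd p q₀ = gη → ∀ i,
      ξ i = T' (IsLocalRing.closedPoint Ω) →
        ∃ (a : Spec (CommRingCat.of Ω) ≅ Spec (CommRingCat.of Ω)) (τ : Equiv.Perm (Fin d)),
          a.hom ≫ T i = T' ∧ ∀ l, a.hom ≫ T l = T (τ l) := by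
    intro T' hT' i hi
    obtain ⟨σ, hσ⟩ := exists_conj (pullback.snd p q₀) η Ω (T i) T' (hT2 i) hT' hi
    let a : Spec (CommRingCat.of Ω) ≅ Spec (CommRingCat.of Ω) :=
      Scheme.Spec.mapIso σ.toRingEquiv.toCommRingCatIso.op
    have ha : a.hom = Spec.map (CommRingCat.ofHom σ.toRingEquiv.toRingHom) := rfl
    have hag : a.hom ≫ gη = gη := by
      rw [ha, ← Spec.map_comp_assoc]
      congr 2
      exact CommRingCat.hom_ext (RingHom.ext fun c => σ.commutes c)
    obtain ⟨γ, hγ⟩ := QuotUH.geomTrans hq.isQuot Ω t₀ (a.hom ≫ t₀) (by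
      rw [Category.assoc, ht₀, reassoc_of% hag])
    refine ⟨a, γ.down.symm, hσ, fun l => ?_⟩
    apply pullback.hom_ext
    · rw [Category.assoc, hT1, hT1, ← Category.assoc, ← hγ, Category.assoc, permActU_hom, permHom_π]
    · rw [Category.assoc, hT2, hT2, hag]
  -- the multiplicities
  let m : ↥(pullback p q₀) → ℕ := fun z =>
    if h : ∃ i, ξ i = z then Nat.card {l // T l = T h.choose} else 0
  have hm : ∀ (T' : Spec (CommRingCat.of Ω) ⟶ pullback p q₀), T' ≫ pullback.snd p q₀ = gη → ∀ i,
      ξ i = T' (IsLocalRing.closedPoint Ω) → m (ξ i) = Nat.card {l // T l = T'} := by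
    intro T' hT' i hi
    have hex : ∃ l, ξ l = ξ i := ⟨i, rfl⟩
    simp only [m, dif_pos hex]
    obtain ⟨a, τ, ha, haτ⟩ := conj T' hT' hex.choose (hex.choose_spec.trans hi)
    refine Nat.card_congr (τ.subtypeEquiv fun l => ?_)
    rw [← haτ, ← ha]
    exact ⟨fun h => by rw [h], fun h => (cancel_epi a.hom).1 h⟩
  have hmpos : ∀ i, m (ξ i) ≠ 0 := fun i => by
    rw [hm (T i) (hT2 i) i rfl]
    haveI : Nonempty {l // T l = T i} := ⟨⟨i, rfl⟩⟩
    exact Nat.card_pos.ne'
  have hm0 : ∀ z, m z ≠ 0 → ∃ i, ξ i = z := fun z hz => by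
    by_contra h
    exact hz (dif_neg h)
  let Γ : AlgebraicCycle (pullback p q₀) ℤ :=
    { toFun := fun z => (m z : ℤ)
      supportWithinDomain' := fun _ _ => trivial
      supportLocallyFiniteWithinDomain' := fun z _ => ⟨Set.univ, Filter.univ_mem,
        (Set.finite_range ξ).subset fun y hy => hm0 y (fun h0 => hy.2 (by simp [h0]))⟩ }
  have hΓ : ∀ z, Γ z = (m z : ℤ) := fun z => rfl
  have hΓ' : ∀ z, Γ z ≠ 0 → ∃ i, ξ i = z := fun z hz => hm0 z (fun h0 => hz (by rw [hΓ, h0]; rfl))
  have hfinfib : ∀ i (w : W), (closure {ξ i} ∩ pullback.snd p q₀ ⁻¹' {w}).Finite := fun i w => by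
    refine finite_fibre p q₀ F hq hF i (ξ i) ⟨(pullback.lift gη t₀ ht₀.symm) (IsLocalRing.closedPoint Ω), ?_⟩ w
    have h : pullback.lift gη t₀ ht₀.symm ≫ coord p q₀ F hq hF i = T i := by
      apply pullback.hom_ext
      · simp [coord, hT1]
      · simp [coord, hT2]
    exact congr(($h).base (IsLocalRing.closedPoint Ω))
  -- the components
  choose Z iota hci hint hrange hgen using fun s : Set.range ξ => ConsPropLib.exists_integral_closure s.1
  haveI := hci
  haveI := hint
  let π := fun s => iota s ≫ pullback.snd p q₀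
  have hπfin : ∀ s, IsFinite (π s) := fun s => by
    haveI : IsProper (π s) := inferInstanceAs (IsProper (iota s ≫ pullback.snd p q₀))
    haveI : LocallyQuasiFinite (π s) := LocallyQuasiFinite.of_finite_preimage_singleton (π s) fun w => by
      obtain ⟨i, hi⟩ := s.2
      refine ((hfinfib i w).preimage (iota s).isClosedEmbedding.injective.injOn).subset fun z hz => ?_
      exact ⟨hi ▸ (hrange s).le ⟨z, rfl⟩, hz⟩
    exact IsFinite.of_isProper_of_locallyQuasiFinite (π s)
  refine ⟨Γ, fun z hz => ?_, fun z => Int.natCast_nonneg _, fun z hz w => ?_, fun u hu hflat => ?_⟩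
  · -- dimensions
    by_contra hne
    obtain ⟨i, rfl⟩ := hΓ' z hne
    let s : Set.range ξ := ⟨ξ i, i, rfl⟩
    haveI := hπfin
    obtain ⟨e, he, hδe⟩ := hδ (ξ i)
    have h1 : FibDim.rd (pullback.fst p q₀ ≫ p) (ξ i) = e := by
      have h := FibDim.rd_eq_rdeg (pullback.fst p q₀ ≫ p) (ξ i)
      exact_mod_cast h.trans he
    have h2 : FibDim.rd (pullback.snd p q₀ ≫ q₀) (ξ i) = n := by
      rw [CycLib.rd_comp, hξη]
      have h3 : FibDim.rd (pullback.snd p q₀) (ξ i) = 0 := by
        have h := CycLib.rd_comp (iota s) (pullback.snd p q₀) (genericPoint (Z s))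
        have hz : FibDim.rd (iota s ≫ pullback.snd p q₀) (genericPoint (Z s)) = 0 :=
          FibDim.rd_eq_zero_of_quasiFinite (π s) _
        rw [hz, hgen s] at h
        simp only [s] at h
        omega
      have h4 : FibDim.rd q₀ η = n := by
        have h := CycLib.rd_eq_of_hasRelDim q₀ (SymSing.hasRelDim q₀ hdim) (x := η)
          (FibDim.fibMax_of_maximal q₀ fun z hz => hz.antisymm (genericPoint_specializes z) |>.eq)
        exact h
      rw [h3, h4, add_zero]
    refine hz ?_
    rw [hδe, ← h1]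
    simp only [zero_add]
    rw [← h2]
    congr 2
    exact pullback.condition
  · obtain ⟨i, rfl⟩ := hΓ' z hz
    exact hfinfib i w
  · -- the fibre over a rational point
    haveI := hπfin
    haveI : ∀ s, LocallyOfFinitePresentation (π s) := fun s => inferInstance
    have hπflat : ∀ s, ∀ z : Z s, π s z = u (IsLocalRing.closedPoint k) → ((π s).stalkMap z).hom.Flat := by
      intro s z hzu
      have hsp' : iota s (genericPoint (Z s)) ⤳ iota s z :=
        ((genericPoint_spec (Z s)).specializes trivial).map (iota s).continuous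
      have hk := AlgEqPts.ker_specMap_section (iota s) z hsp'
      let e : Cyc.LocQuot (iota s z) (iota s (genericPoint (Z s))) hsp' ≃+* (Z s).presheaf.stalk z :=
        (Ideal.quotEquivOfEq hk).trans
          (RingHom.quotientKerEquivOfSurjective ((iota s).stalkMap_surjective z))
      have h1 := hflat _ (by
        rw [hgen s]; obtain ⟨i, hi⟩ := s.2
        rw [← hi, hΓ]; exact_mod_cast hmpos i) (iota s z) hsp' hzu
      rw [show (π s).stalkMap z = (pullback.snd p q₀).stalkMap (iota s z) ≫ (iota s).stalkMap z from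
        Scheme.Hom.stalkMap_comp _ _ _, CommRingCat.hom_comp]
      have h2 := RingHom.Flat.comp h1 (RingHom.Flat.of_bijective (f := e.toRingHom) e.bijective)
      exact h2
    obtain ⟨t, ht⟩ := exists_lift q k (u ≫ F)
    refine ⟨t, ht, ?_⟩
    rcases Nat.eq_zero_or_pos d with rfl | hd
    · intro x
      have h0 : AlgEqCyc.fibreFun p q₀ Γ u hu x = 0 := by
        rw [ZCorrSym.fibreFun_eq_sum p q₀ Γ ∅ (fun s hs => (hΓ' s hs).choose.elim0) u hu x, Finset.sum_empty]
      rw [h0]
      simp
    -- a chart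
    let w := u (IsLocalRing.closedPoint k)
    let Tset : Finset X := (Finset.univ.biUnion fun s : Set.range ξ =>
      ((π s).finite_preimage_singleton w).toFinset.image fun z => pullback.fst p q₀ (iota s z)) ∪
        Finset.univ.image fun i => (t ≫ WidePullback.π (fun _ : Fin d => p) i) (IsLocalRing.closedPoint k)
    obtain ⟨U, hU, hTU⟩ := hAF (Classical.choice (inferInstanceAs (Nonempty (PrimeSpectrum k)))) Tset
      fun x _ => @Subsingleton.elim _ (inferInstanceAs (Subsingleton (PrimeSpectrum k))) _ _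
    obtain ⟨W', hW', hpre⟩ := ZCorrSym.exists_affine_nhd p hd hq hU
    have hW := isAffineOpen_pow p hd hU (isAffineOpen_top (Spec (CommRingCat.of k))) (le_top : U ≤ p ⁻¹ᵁ ⊤)
    have htU : t (IsLocalRing.closedPoint k) ∈ pow p d U := (mem_pow p d).2 fun i => by
      exact hTU _ (Finset.mem_union_right _ (Finset.mem_image_of_mem _ (Finset.mem_univ i)))
    let bad : Set W := ⋃ s : Set.range ξ, π s '' ((iota s ≫ pullback.fst p q₀) ⁻¹ᵁ U : Set (Z s))ᶜ
    have hbad : IsClosed bad := isClosed_iUnion_of_finite fun s =>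
      (π s).isClosedMap _ (((iota s ≫ pullback.fst p q₀) ⁻¹ᵁ U).isOpen.isClosed_compl)
    have hwbad : w ∉ bad := by
      rintro ⟨_, ⟨s, rfl⟩, z, hz, hzw⟩
      exact hz (hTU _ (Finset.mem_union_left _ (Finset.mem_biUnion.2 ⟨s, Finset.mem_univ _, Finset.mem_image.2
        ⟨z, (Set.Finite.mem_toFinset _).2 hzw, rfl⟩⟩)))
    let good : W.Opens := ⟨badᶜ ∩ (F ⁻¹ᵁ W' : Set W) ∩ ⋂ s : Set.range ξ,
        {v : W | ∀ z : Z s, π s z = v → ((π s).stalkMap z).hom.Flat},
      (hbad.isOpen_compl.inter (F ⁻¹ᵁ W').isOpen).inter (isOpen_iInter_of_finite fun s =>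
        (CorrLoci.isOpen_flatFibre_and_nonempty (π s) (π s).isClosedMap).1)⟩
    have hwgood : w ∈ good := by
      refine ⟨⟨hwbad, ?_⟩, Set.mem_iInter.2 fun s z hz => hπflat s z hz⟩
      show (u ≫ F) (IsLocalRing.closedPoint k) ∈ W'
      rw [← ht, Scheme.Hom.comp_apply]
      exact hpre.ge htU
    obtain ⟨V, hV, hwV, hVgood⟩ := exists_isAffineOpen_mem_and_subset (x := w) (U := good) hwgood
    obtain ⟨φ0, hφ0⟩ := Spec.map_surjective (hV.fromSpec ≫ q₀)
    letI : Algebra k Γ(W, V) := φ0.hom.toAlgebra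
    let B₀ := fun s : Set.range ξ => Γ(Z s, π s ⁻¹ᵁ V)
    letI : ∀ s, Algebra Γ(W, V) (B₀ s) := fun s => ((π s).app V).hom.toAlgebra
    haveI : IsNoetherianRing Γ(W, V) := IsLocallyNoetherian.component_noetherian ⟨V, hV⟩
    haveI : ∀ s, Module.Finite Γ(W, V) (B₀ s) := fun s => (π s).finite_app V hV
    haveI : ∀ s, Module.Flat Γ(W, V) (B₀ s) := fun s =>
      flat_app (π s) hV fun z hz => Set.mem_iInter.1 (hVgood hz).2 s z rfl
    haveI : ∀ s, Module.FinitePresentation Γ(W, V) (B₀ s) := fun s =>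
      Module.finitePresentation_of_finite Γ(W, V) (B₀ s)
    let P := hV.primeIdealOf ⟨w, hwV⟩
    have hfree : ∀ s, ∃ r : Γ(W, V), r ∉ P.asIdeal ∧
        ∀ r' : Γ(W, V), r ∣ r' → Module.Free (Localization.Away r') (Localization.Away r' ⊗[Γ(W, V)] B₀ s) := fun s => by
      haveI : Module.Free (Localization.AtPrime P.asIdeal) (LocalizedModule P.asIdeal.primeCompl (B₀ s)) :=
        Module.free_of_flat_of_isLocalRing
      obtain ⟨r, hr, hfr, -⟩ := Module.FinitePresentation.exists_free_localizedModule_powers P.asIdeal.primeCompl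
        (LocalizedModule.mkLinearMap P.asIdeal.primeCompl (B₀ s)) (Localization.AtPrime P.asIdeal)
      refine ⟨r, hr, fun r' hrr' => ?_⟩
      haveI := hfr
      haveI : Module.Free (Localization.Away r) (Localization.Away r ⊗[Γ(W, V)] B₀ s) :=
        Module.Free.of_equiv ((IsLocalizedModule.isBaseChange (Submonoid.powers r) (Localization.Away r)
          (LocalizedModule.mkLinearMap (Submonoid.powers r) (B₀ s))).equiv).symm
      letI : Algebra (Localization.Away r) (Localization.Away r') :=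
        (IsLocalization.Away.lift (S := Localization.Away r) r
          (g := algebraMap Γ(W, V) (Localization.Away r'))
          (isUnit_of_dvd_unit (map_dvd _ hrr') (IsLocalization.Away.algebraMap_isUnit r'))).toAlgebra
      haveI : IsScalarTower Γ(W, V) (Localization.Away r) (Localization.Away r') :=
        IsScalarTower.of_algebraMap_eq fun c => (IsLocalization.Away.lift_eq r _ c).symm
      exact Module.Free.of_equiv
        (TensorProduct.AlgebraTensorModule.cancelBaseChange Γ(W, V) (Localization.Away r) (Localization.Away r')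
          (Localization.Away r') (B₀ s))
    choose rs hrs hrfree using hfree
    let r₀ : Γ(W, V) := ∏ s, rs s
    have hr₀ : r₀ ∉ P.asIdeal := fun h => by
      obtain ⟨s, -, hs⟩ := (Ideal.IsPrime.prod_mem_iff).1 h
      exact hrs s hs
    let R := Localization.Away r₀
    haveI : ∀ s, Module.Free R (R ⊗[Γ(W, V)] B₀ s) := fun s =>
      hrfree s r₀ (Finset.dvd_prod_of_mem rs (Finset.mem_univ s))
    let loc : Γ(W, V) ⟶ CommRingCat.of R := CommRingCat.ofHom (algebraMap Γ(W, V) R)
    haveI : IsOpenImmersion (Spec.map loc) := IsOpenImmersion.of_isLocalization r₀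
    let j : Spec (CommRingCat.of R) ⟶ W := Spec.map loc ≫ hV.fromSpec
    have hwj : w ∈ Set.range j := by
      obtain ⟨z, hz⟩ : P ∈ Set.range (PrimeSpectrum.comap (algebraMap Γ(W, V) R)) := by
        rw [PrimeSpectrum.localization_away_comap_range R r₀]
        exact hr₀
      exact ⟨z, (congrArg hV.fromSpec hz).trans (hV.fromSpec_primeIdealOf ⟨w, hwV⟩)⟩
    have hjV : ∀ z, j z ∈ V := fun z => by
      have : j z ∈ Set.range hV.fromSpec := ⟨_, rfl⟩
      rwa [hV.range_fromSpec] at this
    have hj : j ≫ q₀ = Spec.map (CommRingCat.ofHom (algebraMap k R)) := by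
      rw [Category.assoc, ← hφ0, ← Spec.map_comp]
      congr 1
    let BR := fun s : Set.range ξ => R ⊗[Γ(W, V)] B₀ s
    let jB : ∀ s, Spec (CommRingCat.of (BR s)) ⟶ Z s := fun s =>
      Spec.map (CommRingCat.ofHom (Algebra.TensorProduct.includeRight : B₀ s →ₐ[Γ(W, V)] BR s).toRingHom) ≫
        (hV.preimage (π s)).fromSpec
    have hB : ∀ s, IsPullback (jB s) (Spec.map (CommRingCat.ofHom (algebraMap R (BR s)))) (π s) j := fun s => by
      have hpo : IsPushout loc ((π s).app V) (CommRingCat.ofHom (algebraMap R (BR s)))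
          (CommRingCat.ofHom (Algebra.TensorProduct.includeRight : B₀ s →ₐ[Γ(W, V)] BR s).toRingHom) :=
        CommRingCat.isPushout_tensorProduct Γ(W, V) R (B₀ s)
      exact ((isPullback_SpecMap_of_isPushout _ _ _ _ hpo).paste_vert
        (CoverPush.isPullback_fromSpec (π s) hV).flip.flip).flip
    obtain ⟨φA, hφA⟩ := Spec.map_surjective (hU.fromSpec ≫ p)
    letI : Algebra k Γ(X, U) := φA.hom.toAlgebra
    have hf : ∀ s, ∃ f : Γ(X, U) →ₐ[k] BR s,
        Spec.map (CommRingCat.ofHom f.toRingHom) ≫ hU.fromSpec = jB s ≫ iota s ≫ pullback.fst p q₀ := fun s => by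
      have hr : Set.range (jB s ≫ iota s ≫ pullback.fst p q₀) ⊆ Set.range hU.fromSpec := by
        rintro _ ⟨y, rfl⟩
        rw [hU.range_fromSpec]
        by_contra hy
        have h1 : π s (jB s y) ∈ V := by
          have : jB s y ∈ Set.range (hV.preimage (π s)).fromSpec := ⟨_, rfl⟩
          rw [(hV.preimage (π s)).range_fromSpec] at this
          exact this
        exact (hVgood h1).1.1 (Set.mem_iUnion.2 ⟨s, jB s y, hy, rfl⟩)
      obtain ⟨f₀, hf₀⟩ := Spec.map_surjective (IsOpenImmersion.lift hU.fromSpec _ hr)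
      have hf₁ : Spec.map f₀ ≫ hU.fromSpec = jB s ≫ iota s ≫ pullback.fst p q₀ := by
        rw [hf₀, IsOpenImmersion.lift_fac]
      have hk : φA ≫ f₀ = CommRingCat.ofHom (algebraMap k (BR s)) := Spec.map_injective (by
        have hw := congrArg (fun m => m ≫ q₀) (hB s).w
        simp only [π, Category.assoc] at hw
        rw [Spec.map_comp, hφA, reassoc_of% hf₁, pullback.condition, hw, hj, ← Spec.map_comp]
        congr 1)
      exact ⟨{ f₀.hom with commutes' := fun c => congr(($hk).hom c) }, hf₁⟩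
    choose f hf using hf
    -- the norm section
    let πi := fun i => (WidePullback.π (fun _ : Fin d => p) i).appLE U (pow p d U) (pow_le_π p i)
    have hπi : ∀ i, Spec.map (πi i) ≫ hU.fromSpec = hW.fromSpec ≫ WidePullback.π (fun _ : Fin d => p) i :=
      fun i => IsAffineOpen.SpecMap_appLE_fromSpec _ hU hW _
    let qC := q.appLE W' (pow p d U) hpre.ge
    have hqC : Spec.map qC ≫ hW'.fromSpec = hW.fromSpec ≫ q := IsAffineOpen.SpecMap_appLE_fromSpec _ hW' hW _
    have hsec : ∀ a : Γ(X, U), ∃ c : Γ(Y, W'), qC.hom c = ∏ i, (πi i).hom a := fun a => by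
      refine (SGA1Q.range_appLE_iff hq.isQuot W' _ hpre.symm _).2 fun σ hσ => ?_
      rw [map_prod, ← Equiv.prod_comp σ.down (fun i => ((permActU p d σ).hom.appLE _ _ hσ).hom ((πi i).hom a))]
      refine Finset.prod_congr rfl fun i _ => ?_
      have hpp : πi (σ.down i) ≫ (permActU p d σ).hom.appLE (pow p d U) (pow p d U) hσ = πi i := by
        rw [Scheme.Hom.appLE_comp_appLE]
        refine SGA1Q.appLE_congr_hom ?_ _ _
        rw [permActU_hom, permHom_π, Equiv.symm_apply_apply]
      exact congr(($hpp).hom a)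
    have hjF : Set.range (j ≫ F) ⊆ Set.range hW'.fromSpec := by
      rintro _ ⟨z, rfl⟩
      rw [hW'.range_fromSpec]
      exact (hVgood (hjV z)).1.2
    obtain ⟨φF, hφF⟩ := Spec.map_surjective (IsOpenImmersion.lift hW'.fromSpec _ hjF)
    have hφF' : Spec.map φF ≫ hW'.fromSpec = j ≫ F := by rw [hφF, IsOpenImmersion.lift_fac]
    -- the generic point in the chart
    have hηj : η ∈ Set.range j :=
      ((genericPoint_spec W).mem_open_set_iff j.isOpenEmbedding.isOpen_range).2 ⟨w, trivial, hwj⟩
    obtain ⟨ρ, hρ⟩ := Spec.map_surjective (IsOpenImmersion.lift j gη (by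
      rintro _ ⟨x, rfl⟩; rw [hgη]; exact hηj))
    have hρ' : Spec.map ρ ≫ j = gη := by rw [hρ, IsOpenImmersion.lift_fac]
    haveI : IsDomain R := by
      haveI : Nonempty V.toScheme := ⟨⟨w, hwV⟩⟩
      haveI : IsDomain Γ(W, V) := IsIntegral.component_integral V
      exact IsLocalization.isDomain_localization (powers_le_nonZeroDivisors_of_noZeroDivisors
        fun h0 => hr₀ (h0 ▸ zero_mem _))
    letI : Algebra R Ω := ρ.hom.toAlgebra
    have hρinj : Function.Injective (algebraMap R Ω) := by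
      have h0 : Spec.map ρ (IsLocalRing.closedPoint Ω) = genericPoint (Spec (CommRingCat.of R)) := by
        apply j.isOpenEmbedding.injective
        rw [genericPoint_eq_of_isOpenImmersion j]
        exact (congr(($hρ').base (IsLocalRing.closedPoint Ω))).trans (hgη _)
      rw [genericPoint_eq_bot_of_affine] at h0
      have h1 := congrArg PrimeSpectrum.asIdeal h0
      rw [RingHom.injective_iff_ker_eq_bot]
      change (IsLocalRing.closedPoint Ω).asIdeal.comap ρ.hom = ⊥ at h1
      rw [show (IsLocalRing.closedPoint Ω).asIdeal = (⊥ : Ideal Ω) from IsLocalRing.maximalIdeal_eq_bot] at h1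
      exact h1
    haveI : CharZero R := charZero_of_injective_ringHom (show Function.Injective (algebraMap k R) from
      (algebraMap k R).injective)
    -- components in the chart
    have hjBη : ∀ s : Set.range ξ, genericPoint (Z s) ∈ Set.range (jB s) := fun s => by
      obtain ⟨zη, hzη⟩ := hηj
      haveI : IsOpenImmersion (jB s) := ZCorrComp.isOpenImmersion_jB p q₀ (iota s) j (jB s) (hB s)
      rw [← (hB s).isoPullback_hom_fst, Scheme.Hom.comp_base, TopCat.coe_comp, Set.range_comp,
        Set.range_eq_univ.2 (ConcreteCategory.bijective_of_isIso (hB s).isoPullback.hom.base).surjective,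
        Set.image_univ, Scheme.Pullback.range_fst]
      refine ⟨zη, ?_⟩
      obtain ⟨i, hi⟩ := s.2
      rw [hzη]
      show η = pullback.snd p q₀ (iota s (genericPoint (Z s)))
      rw [hgen s, ← hi, hξη]
    haveI : ∀ s, IsDomain (BR s) := fun s => by
      haveI : IsOpenImmersion (jB s) := ZCorrComp.isOpenImmersion_jB p q₀ (iota s) j (jB s) (hB s)
      obtain ⟨P', -⟩ := hjBη s
      haveI : Nonempty (Spec (CommRingCat.of (BR s))) := ⟨P'⟩
      haveI := isIntegral_of_isOpenImmersion (jB s)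
      exact (affine_isIntegral_iff _).1 this
    -- maps to `Ω` and geometric points of the components
    let Tφ : ∀ s : Set.range ξ, (BR s →ₐ[R] Ω) → (Spec (CommRingCat.of Ω) ⟶ pullback p q₀) := fun s φ =>
      Spec.map (CommRingCat.ofHom φ.toRingHom) ≫ jB s ≫ iota s
    have hTφ2 : ∀ s φ, Tφ s φ ≫ pullback.snd p q₀ = gη := fun s φ => by
      simp only [Tφ, Category.assoc]
      rw [(hB s).w, ← Spec.map_comp_assoc, ← hρ']
      congr 2
      exact CommRingCat.hom_ext (RingHom.ext fun r => φ.commutes r)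
    have hTφξ : ∀ (s : Set.range ξ) φ, Tφ s φ (IsLocalRing.closedPoint Ω) = s.1 := fun s φ => by
      haveI : IsOpenImmersion (jB s) := ZCorrComp.isOpenImmersion_jB p q₀ (iota s) j (jB s) (hB s)
      let z := Spec.map (CommRingCat.ofHom φ.toRingHom) (IsLocalRing.closedPoint Ω)
      have hz : jB s z = genericPoint (Z s) := by
        haveI : LocallyQuasiFinite (π s) := inferInstance
        obtain ⟨i, hi⟩ := s.2
        have hzη : π s (jB s z) = η := by
          show pullback.snd p q₀ (iota s (jB s z)) = η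
          exact (congr(($(hTφ2 s φ)).base (IsLocalRing.closedPoint Ω))).trans (hgη _)
        have hgenη : π s (genericPoint (Z s)) = η := by
          show pullback.snd p q₀ (iota s (genericPoint (Z s))) = η
          rw [hgen s, ← hi, hξη]
        have hsp : genericPoint (Z s) ⤳ jB s z := (genericPoint_spec (Z s)).specializes trivial
        haveI : DiscreteTopology ↥((π s) ⁻¹' {η}) :=
          isDiscrete_iff_discreteTopology.1 ((π s).isDiscrete_preimage_singleton η)
        have h : (⟨genericPoint (Z s), hgenη⟩ : ↥((π s) ⁻¹' {η})) ⤳ ⟨jB s z, hzη⟩ :=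
          Topology.IsInducing.subtypeVal.specializes_iff.1 hsp
        exact congrArg Subtype.val h.eq.symm
      show iota s (jB s z) = s.1
      rw [hz, hgen s]
    have hTφinj : ∀ s, Function.Injective (Tφ s) := fun s φ φ' h => by
      haveI : IsOpenImmersion (jB s) := ZCorrComp.isOpenImmersion_jB p q₀ (iota s) j (jB s) (hB s)
      have h1 := (cancel_mono (jB s ≫ iota s)).1 h
      exact AlgHom.ext fun b => congr(($(Spec.map_injective h1)).hom b)
    have hclass : ∀ i, ∃ φ : BR ⟨ξ i, i, rfl⟩ →ₐ[R] Ω, Tφ ⟨ξ i, i, rfl⟩ φ = T i := fun i => by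
      let s : Set.range ξ := ⟨ξ i, i, rfl⟩
      haveI : IsOpenImmersion (jB s) := ZCorrComp.isOpenImmersion_jB p q₀ (iota s) j (jB s) (hB s)
      obtain ⟨zη, hzη⟩ := hjBη s
      obtain ⟨l, hl, -⟩ := exists_factor (jB s ≫ iota s) (T i) zη (by
        rw [Scheme.Hom.comp_apply, hzη, hgen s])
      obtain ⟨l₀, rfl⟩ := Spec.map_surjective l
      refine ⟨{ l₀.hom with commutes' := fun r => ?_ }, hl⟩
      have h2 : CommRingCat.ofHom (algebraMap R (BR s)) ≫ l₀ = ρ := by
        refine Spec.map_injective ((cancel_mono j).1 ?_)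
        rw [Spec.map_comp_assoc, ← (hB s).w, hρ', ← hT2 i, ← hl]
        simp only [π, Category.assoc]
      exact congr(($h2).hom r)
    choose cl hcl using hclass
    let Φ : Fin d → Σ s : Set.range ξ, (BR s →ₐ[R] Ω) := fun i => ⟨⟨ξ i, i, rfl⟩, cl i⟩
    have hΦ : ∀ i x, Φ i = x ↔ T i = Tφ x.1 x.2 := by
      rintro i ⟨s, φ⟩
      refine ⟨fun h => by rw [← h]; exact (hcl i).symm, fun h => ?_⟩
      have hs : s = ⟨ξ i, i, rfl⟩ := Subtype.ext ((hTφξ s φ).symm.trans
        (congr(($h).base (IsLocalRing.closedPoint Ω))).symm)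
      subst hs
      show (⟨_, cl i⟩ : Σ s : Set.range ξ, (BR s →ₐ[R] Ω)) = _
      exact congrArg (Sigma.mk _) (hTφinj _ ((hcl i).trans h))
    -- the norm identity
    have hkey : ∀ a c, qC.hom c = ∏ i, (πi i).hom a →
        φF.hom c = ∏ s : Set.range ξ, Algebra.norm R (f s a) ^ m s.1 := by
      intro a c hc
      have htU₀ : Set.range t₀ ⊆ Set.range hW.fromSpec := by
        rintro _ ⟨x, rfl⟩
        rw [hW.range_fromSpec, ← hpre]
        show (t₀ ≫ q) x ∈ W'
        rw [ht₀, Scheme.Hom.comp_apply, hgη]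
        exact (hVgood (by obtain ⟨z, hz⟩ := hηj; exact hz ▸ hjV z)).1.2
      obtain ⟨τ, hτ⟩ := Spec.map_surjective (IsOpenImmersion.lift hW.fromSpec t₀ htU₀)
      have hτ' : Spec.map τ ≫ hW.fromSpec = t₀ := by rw [hτ, IsOpenImmersion.lift_fac]
      have h1 : qC ≫ τ = φF ≫ ρ := by
        refine Spec.map_injective ((cancel_mono hW'.fromSpec).1 ?_)
        rw [Spec.map_comp_assoc, hqC, reassoc_of% hτ', ht₀, Spec.map_comp_assoc, hφF', reassoc_of% hρ']
      have hci : ∀ i, τ.hom ((πi i).hom a) = (Φ i).2 (f (Φ i).1 a) := fun i => by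
        have h2 : πi i ≫ τ = CommRingCat.ofHom (f (Φ i).1).toRingHom ≫ CommRingCat.ofHom (Φ i).2.toRingHom := by
          refine Spec.map_injective ((cancel_mono hU.fromSpec).1 ?_)
          rw [Spec.map_comp_assoc, hπi, reassoc_of% hτ', ← hT1, ← hcl i, Spec.map_comp_assoc, hf]
          simp only [Tφ, Category.assoc]
          rfl
        exact congr(($h2).hom a)
      apply hρinj
      show ρ.hom (φF.hom c) = algebraMap R Ω _
      rw [show ρ.hom (φF.hom c) = τ.hom (qC.hom c) from congr(($h1.symm).hom c), hc, map_prod, map_prod]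
      simp only [hci, map_pow]
      haveI : ∀ s, Finite (BR s →ₐ[R] Ω) := fun s =>
        haveI := (norm_eq_prod (B := BR s) hρinj (0 : BR s)).choose
        inferInstance
      haveI : ∀ s, Fintype (BR s →ₐ[R] Ω) := fun s => Fintype.ofFinite _
      rw [← Finset.prod_fiberwise_of_maps_to (g := Φ) (fun i _ => Finset.mem_univ _)
        (fun i => (Φ i).2 (f (Φ i).1 a)), Fintype.prod_sigma]
      refine Finset.prod_congr rfl fun s _ => ?_
      obtain ⟨ft, hft⟩ := norm_eq_prod (B := BR s) hρinj (f s a)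
      rw [hft, ← Finset.prod_pow]
      refine (Finset.prod_congr rfl fun φ _ => ?_).trans (Finset.prod_congr (by ext; simp) fun _ _ => rfl)
      rw [Finset.prod_congr rfl (g := fun _ => φ (f s a)) fun i hi => by rw [(Finset.mem_filter.1 hi).2],
        Finset.prod_const]
      congr 1
      obtain ⟨i, hi⟩ := s.2
      rw [← hi, hm (Tφ s φ) (hTφ2 s φ) i (hi.trans (hTφξ s φ).symm), Nat.card_eq_fintype_card,
        Fintype.card_subtype]
      exact congrArg Finset.card (Finset.filter_congr fun l _ => hΦ l ⟨s, φ⟩)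
    -- the rational point
    obtain ⟨χ₀, hχ₀⟩ := Spec.map_surjective (IsOpenImmersion.lift j u (by
      rintro _ ⟨x, rfl⟩
      rw [@Subsingleton.elim _ (inferInstanceAs (Subsingleton (PrimeSpectrum k))) x (IsLocalRing.closedPoint k)]
      exact hwj))
    have hχj : Spec.map χ₀ ≫ j = u := by rw [hχ₀, IsOpenImmersion.lift_fac]
    have hk : CommRingCat.ofHom (algebraMap k R) ≫ χ₀ = 𝟙 _ := Spec.map_injective (by
      rw [Spec.map_comp, Spec.map_id, ← hj, reassoc_of% hχj, hu])
    let χ : R →ₐ[k] k := { χ₀.hom with commutes' := fun c => congr(($hk).hom c) }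
    letI : Algebra R k := χ.toRingHom.toAlgebra
    haveI : IsScalarTower k R k := IsScalarTower.of_algebraMap_eq fun c => (χ.commutes c).symm
    choose I hI e he hcard using fun s : Set.range ξ => ZCorrComp.exists_points p q₀ (iota s) j (jB s) (hB s)
      hU.fromSpec (f s) (hf s) χ u hu hχj rfl
    obtain ⟨τk, hτk⟩ := Spec.map_surjective (IsOpenImmersion.lift hW.fromSpec t (by
      rintro _ ⟨x, rfl⟩
      rw [hW.range_fromSpec,
        @Subsingleton.elim _ (inferInstanceAs (Subsingleton (PrimeSpectrum k))) x (IsLocalRing.closedPoint k)]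
      exact htU))
    have hτk' : Spec.map τk ≫ hW.fromSpec = t := by rw [hτk, IsOpenImmersion.lift_fac]
    have hbk : ∀ i, φA ≫ πi i ≫ τk = 𝟙 _ := fun i => Spec.map_injective (by
      rw [Spec.map_comp, Spec.map_comp, hφA.trans rfl, Category.assoc, reassoc_of% (hπi i), Spec.map_id,
        reassoc_of% hτk', WidePullback.π_arrow, ← hq.over, reassoc_of% ht, hF, hu])
    let b : ULift.{u} (Fin d) → Γ(X, U) →ₐ[k] k := fun i =>
      { (πi i.down ≫ τk).hom with commutes' := fun c => congr(($(hbk i.down)).hom c) }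
    let It := Σ jj : (Σ s : Set.range ξ, Fin (m s.1)), I jj.1
    let et : It → Γ(X, U) →ₐ[k] k := fun i => e i.1.1 i.2
    have hprod : ∀ a, ∏ i, et i a = ∏ i, b i a := fun a => by
      obtain ⟨c, hc⟩ := hsec a
      have h1 : qC ≫ τk = φF ≫ χ₀ := by
        refine Spec.map_injective ((cancel_mono hW'.fromSpec).1 ?_)
        rw [Spec.map_comp_assoc, hqC, reassoc_of% hτk', ht, Spec.map_comp_assoc, hφF', reassoc_of% hχj]
      rw [Fintype.prod_sigma]
      rw [← Equiv.prod_comp Equiv.ulift.symm (fun i => b i a)]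
      show _ = ∏ i, τk.hom ((πi i).hom a)
      rw [← map_prod, ← hc, show τk.hom (qC.hom c) = χ (φF.hom c) from congr(($h1).hom c), hkey a c hc, map_prod,
        Fintype.prod_sigma]
      refine Finset.prod_congr rfl fun s _ => ?_
      rw [map_pow, show χ (Algebra.norm R (f s a)) = algebraMap R k (Algebra.norm R (f s a)) from rfl,
        ← SymNormAlg.norm_baseChange, he s a]
      show ∏ _x : Fin (m s.1), ∏ i, e s i a = _
      rw [Finset.prod_const, Finset.card_univ, Fintype.card_fin]
    let pt : (Γ(X, U) →ₐ[k] k) → X := fun φ =>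
      (Spec.map (CommRingCat.ofHom φ.toRingHom) ≫ hU.fromSpec) (IsLocalRing.closedPoint k)
    have hpt : Function.Injective pt := fun φ φ' h => by
      have hover : ∀ φ : Γ(X, U) →ₐ[k] k, (Spec.map (CommRingCat.ofHom φ.toRingHom) ≫ hU.fromSpec) ≫ p = 𝟙 _ :=
        fun φ => by
          rw [Category.assoc, ← hφA, ← Spec.map_comp, ← Spec.map_id]
          congr 1
          exact CommRingCat.hom_ext φ.comp_algebraMap
      have h1 := ext_of_apply_closedPoint_eq p (hover φ) (hover φ') h
      exact AlgHom.ext fun a => congr(($(Spec.map_injective ((cancel_mono hU.fromSpec).1 h1))).hom a)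
    have hcount : ∀ (J : Type u) [Fintype J] (ε : J → Γ(X, U) →ₐ[k] k) (φ : Γ(X, U) →ₐ[k] k),
        Nat.card {i // pt (ε i) = pt φ} = Nat.card {i // ε i = φ} := fun J _ ε φ =>
      Nat.card_congr (Equiv.subtypeEquivRight fun i => hpt.eq_iff)
    have hmain : ∀ x, Nat.card {i // pt (et i) = x} = Nat.card {i // pt (b i) = x} := fun x => by
      by_cases hx : ∃ φ, pt φ = x
      · obtain ⟨φ, rfl⟩ := hx
        rw [hcount It et φ, hcount _ b φ]
        exact card_eq_of_prod_eq et b hprod φ
      · haveI : IsEmpty {i // pt (et i) = x} := ⟨fun i => hx ⟨_, i.2⟩⟩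
        haveI : IsEmpty {i // pt (b i) = x} := ⟨fun i => hx ⟨_, i.2⟩⟩
        simp
    intro x
    let S : Finset ↥(pullback p q₀) := Finset.univ.image (fun s : Set.range ξ => s.1)
    rw [ZCorrSym.fibreFun_eq_sum p q₀ Γ S (fun z hz => by
        obtain ⟨i, hi⟩ := hΓ' z hz
        exact Finset.mem_image.2 ⟨⟨z, i, hi⟩, Finset.mem_univ _, rfl⟩) u hu x,
      Finset.sum_image (fun a _ b _ h => Subtype.ext h)]
    have hlhs : (∑ s : Set.range ξ, Γ s.1 * (ZCorrComp.mult p q₀ u hu s.1 x : ℤ)) =
        (Nat.card {i // pt (et i) = x} : ℤ) := by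
      let E : {i : It // pt (et i) = x} ≃ Σ jj : (Σ s : Set.range ξ, Fin (m s.1)),
          {i : I jj.1 // pt (e jj.1 i) = x} :=
        { toFun := fun i => ⟨i.1.1, ⟨i.1.2, i.2⟩⟩
          invFun := fun i => ⟨⟨i.1, i.2.1⟩, i.2.2⟩
          left_inv := fun _ => rfl
          right_inv := fun _ => rfl }
      rw [Nat.card_congr E, Nat.card_sigma, Nat.cast_sum, Fintype.sum_sigma]
      refine Finset.sum_congr rfl fun s _ => ?_
      have h1 : Nat.card {i : I s // pt (e s i) = x} = ZCorrComp.mult p q₀ u hu s.1 x := by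
        rw [← congrArg (fun z => ZCorrComp.mult p q₀ u hu z x) (hgen s)]
        exact hcard s x
      simp only [h1, Finset.sum_const, Finset.card_univ, Fintype.card_fin, nsmul_eq_mul]
      rw [hΓ]
    rw [hlhs, hmain]
    congr 1
    refine Nat.card_congr (Equiv.ulift.subtypeEquiv fun i => ?_)
    have h2 : Spec.map (CommRingCat.ofHom (b i).toRingHom) ≫ hU.fromSpec =
        t ≫ WidePullback.π (fun _ : Fin d => p) i.down := by
      show Spec.map (πi i.down ≫ τk) ≫ hU.fromSpec = _
      rw [Spec.map_comp_assoc, hπi, reassoc_of% hτk']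
    show pt (b i) = x ↔ (t ≫ WidePullback.π (fun _ : Fin d => p) i.down) (IsLocalRing.closedPoint k) = x
    simp only [pt, h2]

end Groth.Agent.H23.ZCorrGraph
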