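import Groth.Agent.GrpSchLib.TensorDomain
import Groth.Agent.GrLib8.Cone.Product
import Groth.Agent.SmoothVarLib.Basic
import Groth.Agent.RegLoc6.Basic
import Mathlib.RingTheory.Ideal.KrullsHeightTheorem

/-!
A surface in the product of two curves and a smooth variety containing the graphs of two maps of the curves.
-/

set_option autoImplicit false
set_option linter.style.haveILetI false
set_option linter.unusedSimpArgs false

universe u

open IsLocalRing
open scoped TensorProduct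

namespace Groth.Agent.H23.ZCorrSurfAlg

open Groth.Agent

variable {k : Type u} [Field k]

theorem lift₃ {R₁ R₂ R₃ D : Type u} [CommRing R₁] [CommRing R₂] [CommRing R₃] [CommRing D] [Algebra k R₁]
    [Algebra k R₂] [Algebra k R₃] [Algebra k D] (f : R₁ →ₐ[k] D) (g : R₂ →ₐ[k] D) (h : R₃ →ₐ[k] D) (a : R₁) (b : R₂)
    (c : R₃) :
    Algebra.TensorProduct.lift f (Algebra.TensorProduct.lift g h fun _ _ => Commute.all _ _)
      (fun _ _ => Commute.all _ _) (a ⊗ₜ (b ⊗ₜ c)) = f a * (g b * h c) := rfl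

theorem ker_le_of_inc {R₁ R₂ R₃ : Type u} [CommRing R₁] [CommRing R₂] [CommRing R₃] [Algebra k R₁] [Algebra k R₂]
    [Algebra k R₃] (χ₁ : R₁ →ₐ[k] k) (χ₂ : R₂ →ₐ[k] k) (χ₃ : R₃ →ₐ[k] k)
    (ε : R₁ ⊗[k] (R₂ ⊗[k] R₃) →ₐ[k] k)
    (hε : ∀ a b c, ε (a ⊗ₜ (b ⊗ₜ c)) = χ₁ a * (χ₂ b * χ₃ c)) (J : Ideal (R₁ ⊗[k] (R₂ ⊗[k] R₃)))
    (h₁ : ∀ a, χ₁ a = 0 → a ⊗ₜ (1 : R₂ ⊗[k] R₃) ∈ J)
    (h₂ : ∀ b, χ₂ b = 0 → (1 : R₁) ⊗ₜ (b ⊗ₜ (1 : R₃)) ∈ J)
    (h₃ : ∀ c, χ₃ c = 0 → (1 : R₁) ⊗ₜ ((1 : R₂) ⊗ₜ c) ∈ J) : RingHom.ker ε ≤ J := by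
  have key : ∀ r, r - algebraMap k _ (ε r) ∈ J := by
    have e1 : ∀ a, a ⊗ₜ (1 : R₂ ⊗[k] R₃) - algebraMap k _ (χ₁ a) ∈ J := fun a => by
      have := h₁ (a - algebraMap k R₁ (χ₁ a)) (by simp)
      rw [TensorProduct.sub_tmul] at this
      exact this
    have e2 : ∀ b, (1 : R₁) ⊗ₜ (b ⊗ₜ (1 : R₃)) - algebraMap k _ (χ₂ b) ∈ J := fun b => by
      have := h₂ (b - algebraMap k R₂ (χ₂ b)) (by simp)
      rw [TensorProduct.sub_tmul, TensorProduct.tmul_sub, Algebra.algebraMap_eq_smul_one (R := k) (A := R₂),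
        ← TensorProduct.smul_tmul', TensorProduct.tmul_smul] at this
      rw [Algebra.algebraMap_eq_smul_one]
      exact this
    have e3 : ∀ c, (1 : R₁) ⊗ₜ ((1 : R₂) ⊗ₜ c) - algebraMap k _ (χ₃ c) ∈ J := fun c => by
      have := h₃ (c - algebraMap k R₃ (χ₃ c)) (by simp)
      rw [TensorProduct.tmul_sub, TensorProduct.tmul_sub, Algebra.algebraMap_eq_smul_one (R := k) (A := R₃),
        TensorProduct.tmul_smul, TensorProduct.tmul_smul] at this
      rw [Algebra.algebraMap_eq_smul_one]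
      exact this
    intro r
    rw [← Ideal.Quotient.eq]
    suffices (Ideal.Quotient.mkₐ k J) = (Algebra.ofId k _).comp ε from DFunLike.congr_fun this r
    refine Algebra.TensorProduct.ext (AlgHom.ext fun a => ?_)
      (Algebra.TensorProduct.ext (AlgHom.ext fun b => ?_) (AlgHom.ext fun c => ?_))
    · refine (Ideal.Quotient.eq.2 (e1 a)).trans ?_
      have : ε (a ⊗ₜ (1 : R₂ ⊗[k] R₃)) = χ₁ a := by rw [Algebra.TensorProduct.one_def, hε]; simp
      simp only [AlgHom.comp_apply, AlgHom.restrictScalars_apply, Algebra.TensorProduct.includeLeft_apply,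
        Algebra.TensorProduct.includeRight_apply, this, Algebra.ofId_apply]
      rfl
    · refine (Ideal.Quotient.eq.2 (e2 b)).trans ?_
      have : ε (1 ⊗ₜ (b ⊗ₜ 1)) = χ₂ b := by rw [hε]; simp
      simp only [AlgHom.comp_apply, AlgHom.restrictScalars_apply, Algebra.TensorProduct.includeLeft_apply,
        Algebra.TensorProduct.includeRight_apply, this, Algebra.ofId_apply]
      rfl
    · refine (Ideal.Quotient.eq.2 (e3 c)).trans ?_
      have : ε (1 ⊗ₜ (1 ⊗ₜ c)) = χ₃ c := by rw [hε]; simp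
      simp only [AlgHom.comp_apply, AlgHom.restrictScalars_apply, Algebra.TensorProduct.includeLeft_apply,
        Algebra.TensorProduct.includeRight_apply, this, Algebra.ofId_apply]
      rfl
  intro r hr
  have := key r
  rwa [RingHom.mem_ker.1 hr, map_zero, sub_zero] at this

/-- A finitely generated ideal contained, locally at a prime, in another one is so after inverting one element. -/
theorem exists_mul_mem {B : Type u} [CommRing B] [IsNoetherianRing B] (m : Ideal B) [m.IsPrime] {S : Type u}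
    [CommRing S] [Algebra B S] [IsLocalization.AtPrime S m] (I J : Ideal B)
    (h : I.map (algebraMap B S) ≤ J.map (algebraMap B S)) : ∃ u ∉ m, ∀ a ∈ I, u * a ∈ J := by
  classical
  obtain ⟨g, rfl⟩ := IsNoetherian.noetherian I
  have key : ∀ a : g, ∃ u ∉ m, u * a.1 ∈ J := fun a => by
    obtain ⟨u, hu, hmem⟩ := (IsLocalization.algebraMap_mem_map_algebraMap_iff m.primeCompl S J a.1).1
      (h (Ideal.mem_map_of_mem _ (Submodule.subset_span a.2)))
    exact ⟨u, hu, hmem⟩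
  choose u hu hua using key
  refine ⟨∏ a, u a, fun h' => ?_, fun a ha => ?_⟩
  · obtain ⟨a, -, ha⟩ := Ideal.IsPrime.prod_mem_iff.1 h'
    exact hu a ha
  · induction ha using Submodule.span_induction with
    | mem x hx =>
      rw [← Finset.mul_prod_erase Finset.univ u (Finset.mem_univ ⟨x, hx⟩), mul_right_comm]
      exact J.mul_mem_right _ (hua ⟨x, hx⟩)
    | zero => rw [mul_zero]; exact J.zero_mem
    | add x y _ _ hx hy => rw [mul_add]; exact J.add_mem hx hy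
    | smul c x _ hx => rw [smul_eq_mul, mul_left_comm]; exact J.mul_mem_left _ hx

/-- Extending to a localisation. -/
theorem exists_away_lift {B₀ D : Type u} [CommRing B₀] [CommRing D] [Algebra k B₀] [Algebra k D] (h : B₀)
    (g : B₀ →ₐ[k] D) (hg : IsUnit (g h)) :
    ∃ E : Localization.Away h →ₐ[k] D, E.comp (IsScalarTower.toAlgHom k B₀ (Localization.Away h)) = g := by
  have hu : ∀ y : Submonoid.powers h, IsUnit (g y) := fun ⟨_, j, rfl⟩ => by
    simp only [map_pow]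
    exact hg.pow _
  exact ⟨IsLocalization.liftAlgHom hu, AlgHom.ext fun b => IsLocalization.lift_eq (g := g.toRingHom) hu b⟩

/-- The kernel of a map onto a domain, in a local ring with maximal ideal `(s, t)`. -/
theorem ker_eq_span {L D : Type u} [CommRing L] [IsLocalRing L] [IsNoetherianRing L] [CommRing D] [IsDomain D]
    {s t : L} (hm : maximalIdeal L = Ideal.span {s, t}) (e : L →+* D) (ht : e t = 0) (hs : e s ≠ 0) :
    RingHom.ker e = Ideal.span {t} := by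
  refine le_antisymm ?_ ((Ideal.span_singleton_le_iff_mem (I := RingHom.ker e)).2 ht)
  refine Submodule.le_of_le_smul_of_le_jacobson_bot (I := maximalIdeal L) (IsNoetherian.noetherian _)
    (maximalIdeal_le_jacobson _) fun a ha => ?_
  have hm' : a ∈ Ideal.span {s, t} := hm ▸ le_maximalIdeal (RingHom.ker_ne_top e) ha
  obtain ⟨b, c, rfl⟩ := Ideal.mem_span_pair.1 hm'
  have hb : b ∈ RingHom.ker e := by
    rw [RingHom.mem_ker, map_add, map_mul, map_mul, ht, mul_zero, add_zero] at ha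
    exact (mul_eq_zero.1 ha).resolve_right hs
  refine Submodule.mem_sup.2 ⟨c * t, Ideal.mem_span_singleton'.2 ⟨c, rfl⟩, b * s, ?_, add_comm _ _⟩
  rw [smul_eq_mul, mul_comm b s]
  exact Ideal.mul_mem_mul (hm ▸ Ideal.subset_span (Set.mem_insert s _)) hb

set_option maxHeartbeats 1000000 in
/-- Inverting the bad function. -/
theorem exists_surface_away [IsAlgClosed k] {B₀ R₁ R₂ : Type u} [CommRing B₀] [IsDomain B₀] [CommRing R₁] [CommRing R₂]
    [IsDomain R₁] [IsDomain R₂] [Algebra k B₀] [Algebra.FiniteType k B₀] [Algebra k R₁] [Algebra k R₂]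
    (hd₀ : ringKrullDim B₀ = 2) (ε₀ : B₀ →ₐ[k] k) (a₁ : B₀ →ₐ[k] R₁) (a₂ : B₀ →ₐ[k] R₂)
    (ha₁s : Function.Surjective a₁) (ha₂s : Function.Surjective a₂) (χ₁ : R₁ →ₐ[k] k) (χ₂ : R₂ →ₐ[k] k)
    (hε₁ : χ₁.comp a₁ = ε₀) (hε₂ : χ₂.comp a₂ = ε₀) (s₀ t₀ h : B₀) (hs₀ : ε₀ s₀ = 0) (ht₀ : ε₀ t₀ = 0)
    (ha₁t : a₁ t₀ = 0) (ha₂s0 : a₂ s₀ = 0) (hh : ε₀ h ≠ 0)
    (hk₀ : ∀ b ∈ RingHom.ker ε₀, h * b ∈ Ideal.span {s₀, t₀}) (hk₁ : ∀ b ∈ RingHom.ker a₁, h * b ∈ Ideal.span {t₀})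
    (hk₂ : ∀ b ∈ RingHom.ker a₂, h * b ∈ Ideal.span {s₀}) :
    ∃ (B : Type u) (_ : CommRing B) (_ : IsDomain B) (_ : Algebra k B) (_ : Algebra.FiniteType k B)
      (εB : B →ₐ[k] k) (π : B₀ →ₐ[k] B) (s t : B) (h₁ : R₁) (h₂ : R₂)
      (e₁ : B →ₐ[k] Localization.Away h₁) (e₂ : B →ₐ[k] Localization.Away h₂),
      ringKrullDim B = 2 ∧ χ₁ h₁ ≠ 0 ∧ χ₂ h₂ ≠ 0 ∧ εB.comp π = ε₀ ∧
      Function.Surjective e₁ ∧ Function.Surjective e₂ ∧
      e₁.comp π = (IsScalarTower.toAlgHom k R₁ _).comp a₁ ∧ e₂.comp π = (IsScalarTower.toAlgHom k R₂ _).comp a₂ ∧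
      RingHom.ker εB = Ideal.span {s, t} ∧ RingHom.ker e₁ = Ideal.span {t} ∧ RingHom.ker e₂ = Ideal.span {s} ∧
      (∀ χ : Localization.Away h₁ →ₐ[k] k, (∀ r, χ (algebraMap R₁ _ r) = χ₁ r) → χ.comp e₁ = εB) ∧
      (∀ χ : Localization.Away h₂ →ₐ[k] k, (∀ r, χ (algebraMap R₂ _ r) = χ₂ r) → χ.comp e₂ = εB) := by
  classical
  haveI : IsNoetherianRing B₀ := Algebra.FiniteType.isNoetherianRing k B₀
  let B := Localization.Away h
  haveI : IsDomain B := IsLocalization.isDomain_localization (powers_le_nonZeroDivisors_of_noZeroDivisors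
    (fun e => hh (by rw [e, map_zero])))
  haveI : Algebra.FiniteType k B := Algebra.FiniteType.trans (S := B₀) inferInstance
    (IsLocalization.finiteType_of_monoid_fg (Submonoid.powers h) B)
  let toB : B₀ →ₐ[k] B := IsScalarTower.toAlgHom k B₀ B
  have hkey : ∀ {D D' : Type u} [CommRing D] [CommRing D'] [Algebra k D] [Algebra k D'] (a : B₀ →ₐ[k] D)
      (ι : D →ₐ[k] D') (_ : Function.Injective ι) (hu : IsUnit ((ι.comp a) h)) (J : Ideal B₀),
      J ≤ RingHom.ker a → (∀ b ∈ RingHom.ker a, h * b ∈ J) →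
      ∀ (e : B →ₐ[k] D'), e.comp toB = ι.comp a → RingHom.ker e = J.map toB := by
    intro D D' _ _ _ _ a ι hι hu J hJ hJ' e he
    refine le_antisymm (fun z hz => ?_) ?_
    · obtain ⟨⟨b, w⟩, hb⟩ := IsLocalization.surj (Submonoid.powers h) z
      have h1 : a b = 0 := by
        refine hι ?_
        rw [map_zero, ← AlgHom.comp_apply, ← he, AlgHom.comp_apply]
        show e (algebraMap B₀ B b) = 0
        rw [← hb, map_mul, RingHom.mem_ker.1 hz, zero_mul]
      have hu' : IsUnit (toB h) := IsLocalization.map_units B (⟨h, Submonoid.mem_powers h⟩ : Submonoid.powers h)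
      have h2 : algebraMap B₀ B b ∈ J.map toB := by
        rw [← Ideal.unit_mul_mem_iff_mem _ hu']
        show toB h * toB b ∈ _
        rw [← map_mul]
        exact Ideal.mem_map_of_mem _ (hJ' b h1)
      rw [← hb, mul_comm] at h2
      exact (Ideal.unit_mul_mem_iff_mem _ (IsLocalization.map_units B w)).1 h2
    · rw [Ideal.map_le_iff_le_comap]
      intro b hb
      show e (toB b) = 0
      rw [← AlgHom.comp_apply, he, AlgHom.comp_apply, RingHom.mem_ker.1 (hJ hb), map_zero]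
  let T₁ := IsScalarTower.toAlgHom k R₁ (Localization.Away (a₁ h))
  let T₂ := IsScalarTower.toAlgHom k R₂ (Localization.Away (a₂ h))
  obtain ⟨E₁, hE₁⟩ := exists_away_lift h (T₁.comp a₁) (IsLocalization.map_units (Localization.Away (a₁ h))
      (⟨a₁ h, Submonoid.mem_powers _⟩ : Submonoid.powers (a₁ h)))
  obtain ⟨E₂, hE₂⟩ := exists_away_lift h (T₂.comp a₂) (IsLocalization.map_units (Localization.Away (a₂ h))
      (⟨a₂ h, Submonoid.mem_powers _⟩ : Submonoid.powers (a₂ h)))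
  obtain ⟨εB, hεB'⟩ := exists_away_lift h ε₀ (IsUnit.mk0 _ hh)
  have hinj : ∀ {D : Type u} [CommRing D] [IsDomain D] [Algebra k D] (χ : D →ₐ[k] k) (c : D), χ c ≠ 0 →
      Function.Injective (algebraMap D (Localization.Away c)) := fun χ c hc => by
    have hc0 : c ≠ 0 := fun e => hc (by rw [e, map_zero])
    exact IsLocalization.injective _ (powers_le_nonZeroDivisors_of_noZeroDivisors hc0)
  have hh₁ : χ₁ (a₁ h) ≠ 0 := by rw [← AlgHom.comp_apply, hε₁]; exact hh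
  have hh₂ : χ₂ (a₂ h) ≠ 0 := by rw [← AlgHom.comp_apply, hε₂]; exact hh
  have hsurj : ∀ {D : Type u} [CommRing D] [Algebra k D] (a : B₀ →ₐ[k] D), Function.Surjective a →
      ∀ (e : B →ₐ[k] Localization.Away (a h)), e.comp toB = (IsScalarTower.toAlgHom k D _).comp a →
        Function.Surjective e := by
    intro D _ _ a ha e he z
    obtain ⟨⟨c, w⟩, hc⟩ := IsLocalization.surj (Submonoid.powers (a h)) z
    obtain ⟨b, rfl⟩ := ha c
    obtain ⟨_, j, rfl⟩ := w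
    refine ⟨IsLocalization.mk' B b (⟨h ^ j, j, rfl⟩ : Submonoid.powers h), ?_⟩
    have h1 := congrArg e (IsLocalization.mk'_spec B b (⟨h ^ j, j, rfl⟩ : Submonoid.powers h))
    rw [map_mul] at h1
    have hcomm : ∀ b', e (algebraMap B₀ B b') = algebraMap D _ (a b') := fun b' => DFunLike.congr_fun he b'
    rw [hcomm, hcomm, map_pow] at h1
    exact (IsLocalization.map_units _ (⟨a h ^ j, j, rfl⟩ : Submonoid.powers (a h))).mul_left_injective (h1.trans hc.symm)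
  have hdB : ringKrullDim B = 2 := by
    haveI : IsNoetherianRing B := Algebra.FiniteType.isNoetherianRing k B
    obtain ⟨d, hd, -⟩ := VarDim.exists_dim_eq_trdeg (k := k) B
    let m₀ : Ideal B₀ := RingHom.ker ε₀
    haveI : m₀.IsMaximal := RingHom.ker_isMaximal_of_surjective ε₀ fun c => ⟨algebraMap k B₀ c, ε₀.commutes c⟩
    let P : Ideal B := RingHom.ker εB
    haveI : P.IsMaximal := RingHom.ker_isMaximal_of_surjective εB fun c => ⟨algebraMap k B c, εB.commutes c⟩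
    have hP : P.comap (algebraMap B₀ B) = m₀ := by
      ext b
      show εB (algebraMap B₀ B b) = 0 ↔ ε₀ b = 0
      rw [show εB (algebraMap B₀ B b) = ε₀ b from DFunLike.congr_fun hεB' b]
    haveI : IsLocalization.AtPrime (Localization.AtPrime P) m₀ := by
      have := IsLocalization.isLocalization_isLocalization_atPrime_isLocalization (Submonoid.powers h)
        (Localization.AtPrime P) P (S := B)
      simp only [Ideal.under_def, hP] at this
      exact this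
    rw [hd, ← SmoothVarLib.ringKrullDim_localization_maximal k B
      (by rw [nilradical_eq_zero]; exact Ideal.isPrime_bot) d hd P,
      ringKrullDim_eq_of_ringEquiv (IsLocalization.algEquiv m₀.primeCompl (Localization.AtPrime P) (Localization.AtPrime m₀)).toRingEquiv,
      SmoothVarLib.ringKrullDim_localization_maximal k B₀ (by rw [nilradical_eq_zero]; exact Ideal.isPrime_bot) 2
        (by simpa using hd₀) m₀]
    norm_num
  refine ⟨B, inferInstance, inferInstance, inferInstance, inferInstance, εB, toB, toB s₀, toB t₀,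
    a₁ h, a₂ h, E₁, E₂, hdB, hh₁, hh₂, hεB', hsurj a₁ ha₁s E₁ hE₁, hsurj a₂ ha₂s E₂ hE₂, hE₁, hE₂, ?_, ?_, ?_, ?_, ?_⟩
  · rw [hkey ε₀ (AlgHom.id k k) Function.injective_id (IsUnit.mk0 _ hh) (Ideal.span {s₀, t₀})
      (Ideal.span_le.2 (by rintro _ (rfl | rfl); · exact hs₀
                           · exact ht₀))
      hk₀ εB hεB',
      Ideal.map_span, Set.image_insert_eq, Set.image_singleton]
  · rw [hkey a₁ T₁ (hinj χ₁ _ hh₁) (IsLocalization.map_units _ (⟨a₁ h, Submonoid.mem_powers _⟩ : Submonoid.powers (a₁ h))) (Ideal.span {t₀})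
      ((Ideal.span_singleton_le_iff_mem (I := RingHom.ker a₁)).2 ha₁t)
      hk₁ E₁ hE₁, Ideal.map_span, Set.image_singleton]
  · rw [hkey a₂ T₂ (hinj χ₂ _ hh₂) (IsLocalization.map_units _ (⟨a₂ h, Submonoid.mem_powers _⟩ : Submonoid.powers (a₂ h))) (Ideal.span {s₀})
      ((Ideal.span_singleton_le_iff_mem (I := RingHom.ker a₂)).2 ha₂s0)
      hk₂ E₂ hE₂, Ideal.map_span, Set.image_singleton]
  · intro χ hχ
    refine AlgHom.coe_ringHom_injective (IsLocalization.ringHom_ext (Submonoid.powers h) (RingHom.ext fun b => ?_))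
    show χ (E₁ (toB b)) = εB (toB b)
    rw [← AlgHom.comp_apply E₁, hE₁, ← AlgHom.comp_apply εB, hεB', ← hε₁]
    exact hχ (a₁ b)
  · intro χ hχ
    refine AlgHom.coe_ringHom_injective (IsLocalization.ringHom_ext (Submonoid.powers h) (RingHom.ext fun b => ?_))
    show χ (E₂ (toB b)) = εB (toB b)
    rw [← AlgHom.comp_apply E₂, hE₂, ← AlgHom.comp_apply εB, hεB', ← hε₂]
    exact hχ (a₂ b)

set_option maxHeartbeats 4000000 in
/-- The surface, given its germ. -/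
theorem exists_surface_aux [IsAlgClosed k] {R R₁ R₂ : Type u} [CommRing R] [IsDomain R] [CommRing R₁] [CommRing R₂]
    [IsDomain R₁] [IsDomain R₂] [Algebra k R] [Algebra.FiniteType k R] [Algebra k R₁] [Algebra k R₂] (n : ℕ)
    (hdR : ringKrullDim R = ((n + 2 : ℕ) : WithBot ℕ∞)) (ε : R →ₐ[k] k) (eA : R →ₐ[k] R₁) (eB : R →ₐ[k] R₂)
    (heA : Function.Surjective eA) (heB : Function.Surjective eB) (χ₁ : R₁ →ₐ[k] k) (χ₂ : R₂ →ₐ[k] k)
    (hεA : χ₁.comp eA = ε) (hεB : χ₂.comp eB = ε) (f : Fin n → R) (hfA : ∀ i, eA (f i) = 0) (hfB : ∀ i, eB (f i) = 0)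
    (sR tR : R) (hAt : eA tR = 0) (hAs : eA sR ≠ 0) (hBs : eB sR = 0) (hBt : eB tR ≠ 0)
    (hgen : ∀ r, ε r = 0 → ∃ u, ε u ≠ 0 ∧ u * r ∈ Ideal.span (Set.range f) ⊔ Ideal.span {sR, tR}) :
    ∃ (B : Type u) (_ : CommRing B) (_ : IsDomain B) (_ : Algebra k B) (_ : Algebra.FiniteType k B)
      (εB : B →ₐ[k] k) (π : R →ₐ[k] B) (s t : B) (h₁ : R₁) (h₂ : R₂)
      (e₁ : B →ₐ[k] Localization.Away h₁) (e₂ : B →ₐ[k] Localization.Away h₂),
      ringKrullDim B = 2 ∧ χ₁ h₁ ≠ 0 ∧ χ₂ h₂ ≠ 0 ∧ εB.comp π = ε ∧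
      Function.Surjective e₁ ∧ Function.Surjective e₂ ∧
      e₁.comp π = (IsScalarTower.toAlgHom k R₁ _).comp eA ∧ e₂.comp π = (IsScalarTower.toAlgHom k R₂ _).comp eB ∧
      RingHom.ker εB = Ideal.span {s, t} ∧ RingHom.ker e₁ = Ideal.span {t} ∧ RingHom.ker e₂ = Ideal.span {s} ∧
      (∀ χ : Localization.Away h₁ →ₐ[k] k, (∀ r, χ (algebraMap R₁ _ r) = χ₁ r) → χ.comp e₁ = εB) ∧
      (∀ χ : Localization.Away h₂ →ₐ[k] k, (∀ r, χ (algebraMap R₂ _ r) = χ₂ r) → χ.comp e₂ = εB) := by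
  classical
  haveI : IsNoetherianRing R := Algebra.FiniteType.isNoetherianRing k R
  let m : Ideal R := RingHom.ker ε
  haveI hmax : m.IsMaximal := RingHom.ker_isMaximal_of_surjective ε fun c => ⟨algebraMap k R c, ε.commutes c⟩
  let A := Localization.AtPrime m
  haveI : IsNoetherianRing A := IsLocalization.isNoetherianRing m.primeCompl A inferInstance
  let al : R →+* A := algebraMap R A
  let K : Ideal A := Ideal.span (Set.range fun i => al (f i))
  have hfm : ∀ i, f i ∈ m := fun i => by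
    show ε (f i) = 0
    rw [← hεA, AlgHom.comp_apply, hfA, map_zero]
  have hKle : K ≤ maximalIdeal A := Ideal.span_le.2 (by
    rintro _ ⟨i, rfl⟩
    exact (IsLocalization.AtPrime.to_map_mem_maximal_iff A m _).2 (hfm i))
  have hsR : ε sR = 0 := by rw [← hεB, AlgHom.comp_apply, hBs, map_zero]
  have htR : ε tR = 0 := by rw [← hεA, AlgHom.comp_apply, hAt, map_zero]
  let J : Ideal A := K ⊔ Ideal.span {al sR, al tR}
  have hmJ : maximalIdeal A ≤ J := by
    rw [← IsLocalization.AtPrime.map_eq_maximalIdeal m A, Ideal.map_le_iff_le_comap]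
    intro r hr
    obtain ⟨u, hu, hur⟩ := hgen r hr
    have h1 : al (u * r) ∈ (Ideal.span (Set.range f) ⊔ Ideal.span {sR, tR}).map al := Ideal.mem_map_of_mem al hur
    rw [Ideal.map_sup, Ideal.map_span, Ideal.map_span, ← Set.range_comp, Set.image_insert_eq, Set.image_singleton,
      map_mul] at h1
    exact (Ideal.unit_mul_mem_iff_mem J (IsLocalization.map_units A (⟨u, hu⟩ : m.primeCompl))).1 h1
  -- the germ of the surface
  let L := A ⧸ K
  have hKtop : K ≠ ⊤ := fun h' => (maximalIdeal.isMaximal A).ne_top (top_le_iff.1 (h'.symm.le.trans hKle))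
  haveI : Nontrivial L := Ideal.Quotient.nontrivial_iff.2 hKtop
  haveI : IsLocalRing L := IsLocalRing.of_surjective' (Ideal.Quotient.mk K) Ideal.Quotient.mk_surjective
  let mL := Ideal.Quotient.mk K
  let sL := mL (al (sR))
  let tL := mL (al (tR))
  have hsm : ∀ r : R, ε r = 0 → mL (al r) ∈ maximalIdeal L := fun r hr => by
    rw [← IsLocalRing.map_maximalIdeal_of_surjective mL Ideal.Quotient.mk_surjective]
    exact Ideal.mem_map_of_mem _ ((IsLocalization.AtPrime.to_map_mem_maximal_iff A m _).2 hr)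
  have hmL : maximalIdeal L = Ideal.span {sL, tL} := by
    refine le_antisymm ?_ (Ideal.span_le.2 ?_)
    · rw [← IsLocalRing.map_maximalIdeal_of_surjective mL Ideal.Quotient.mk_surjective]
      refine (Ideal.map_mono hmJ).trans ?_
      rw [Ideal.map_sup, Ideal.map_quotient_self, bot_sup_eq, Ideal.map_span, Set.image_insert_eq, Set.image_singleton]
    · rintro _ (rfl | rfl)
      · exact hsm _ hsR
      · exact hsm _ htR
  have hdA : ringKrullDim A = ((n + 2 : ℕ) : WithBot ℕ∞) :=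
    SmoothVarLib.ringKrullDim_localization_maximal k R (by rw [nilradical_eq_zero]; exact Ideal.isPrime_bot) _ hdR m
  have hdL : (2 : WithBot ℕ∞) ≤ ringKrullDim L := by
    have h1 := ringKrullDim_le_ringKrullDim_quotient_add_card (Finset.univ.image fun i => al (f i)) (R := A) (by
      rw [IsLocalRing.ringJacobson_eq_maximalIdeal]
      intro a ha
      obtain ⟨i, -, rfl⟩ := Finset.mem_image.1 ha
      exact (IsLocalization.AtPrime.to_map_mem_maximal_iff A m _).2 (hfm i))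
    rw [show Ideal.span ((Finset.univ.image fun i => al (f i) : Finset A) : Set A) = K by simp [K], hdA] at h1
    have h2 : (Finset.univ.image fun i => al (f i)).card ≤ n := Finset.card_image_le.trans (by simp)
    have h3 : ((n + 2 : ℕ) : WithBot ℕ∞) ≤ ringKrullDim L + (n : WithBot ℕ∞) :=
      h1.trans (add_le_add le_rfl (by exact_mod_cast h2))
    rcases eq_or_ne (ringKrullDim L) ⊥ with hb | hb
    · exact absurd hb ringKrullDim_ne_bot
    obtain ⟨d, hd⟩ := WithBot.ne_bot_iff_exists.1 hb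
    rw [← hd] at h3 ⊢
    rw [show ((n + 2 : ℕ) : WithBot ℕ∞) = (((n : ℕ∞) + 2 : ℕ∞) : WithBot ℕ∞) by push_cast; rfl,
      show ((n : WithBot ℕ∞)) = ((n : ℕ∞) : WithBot ℕ∞) from rfl, ← WithBot.coe_add, WithBot.coe_le_coe] at h3
    rw [add_comm d] at h3
    exact WithBot.coe_le_coe.2 ((ENat.add_le_add_iff_left (ENat.natCast_ne_top n)).1 h3)
  haveI hregL : IsRegularLocalRing L := IsRegularLocalRing.of_spanFinrank_maximalIdeal_le L (by
    refine le_trans ?_ hdL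
    have h1 : (maximalIdeal L).spanFinrank ≤ 2 := by
      rw [hmL]
      exact (Submodule.spanFinrank_span_le_ncard_of_finite (Set.toFinite _)).trans ((Set.ncard_insert_le _ _).trans (by simp))
    exact_mod_cast h1)
  haveI := RegLoc6.isDomain_of_isRegularLocalRing L
  have hdL2 : ringKrullDim L = 2 := le_antisymm (by
    rw [← IsRegularLocalRing.spanFinrank_maximalIdeal (R := L), hmL]
    exact_mod_cast (Submodule.spanFinrank_span_le_ncard_of_finite (Set.toFinite _)).trans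
      ((Set.ncard_insert_le _ _).trans (by simp))) hdL
  haveI : K.IsPrime := (Ideal.Quotient.isDomain_iff_prime K).1 ‹_›
  -- the global surface
  let Q : Ideal R := K.comap al
  let B₀ := R ⧸ Q
  haveI : IsDomain B₀ := Ideal.Quotient.isDomain Q
  haveI : Algebra.FiniteType k B₀ := Algebra.FiniteType.of_surjective (Ideal.Quotient.mkₐ k Q) Ideal.Quotient.mk_surjective
  haveI : IsNoetherianRing B₀ := Algebra.FiniteType.isNoetherianRing k B₀
  let pr : R →ₐ[k] B₀ := Ideal.Quotient.mkₐ k Q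
  have hQK : Q.map al = K := IsLocalization.map_under m.primeCompl A K
  have hQfac : ∀ {D : Type u} [CommRing D] [IsDomain D] (E : R →+* D) (χ : D →+* k),
      (∀ r, χ (E r) = ε r) → (∀ i, E (f i) = 0) → ∀ r ∈ Q, E r = 0 := by
    intro D _ _ E χ hχ hE r hr
    have h1 : al r ∈ (Ideal.span (Set.range f)).map al := by
      rw [Ideal.map_span, ← Set.range_comp]
      exact hr
    obtain ⟨u, hu, hur⟩ := (IsLocalization.algebraMap_mem_map_algebraMap_iff m.primeCompl A _ r).1 h1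
    have h2 : E (u * r) = 0 := by
      have : Ideal.span (Set.range f) ≤ RingHom.ker E := Ideal.span_le.2 (by rintro _ ⟨i, rfl⟩; exact hE i)
      exact this hur
    rw [map_mul] at h2
    exact (mul_eq_zero.1 h2).resolve_left fun h0 => hu (by
      show ε u = 0
      rw [← hχ, h0, map_zero])
  have hQA : ∀ r ∈ Q, eA r = 0 := hQfac eA.toRingHom χ₁.toRingHom (fun r => DFunLike.congr_fun hεA r) hfA
  have hQB : ∀ r ∈ Q, eB r = 0 := hQfac eB.toRingHom χ₂.toRingHom (fun r => DFunLike.congr_fun hεB r) hfB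
  have hQε : ∀ r ∈ Q, ε r = 0 := fun r hr => by rw [← hεA, AlgHom.comp_apply, hQA r hr, map_zero]
  let a₁ : B₀ →ₐ[k] R₁ := Ideal.Quotient.liftₐ Q eA hQA
  let a₂ : B₀ →ₐ[k] R₂ := Ideal.Quotient.liftₐ Q eB hQB
  let ε₀ : B₀ →ₐ[k] k := Ideal.Quotient.liftₐ Q ε hQε
  have ha₁s : Function.Surjective a₁ := fun a => by
    obtain ⟨r, rfl⟩ := heA a
    exact ⟨pr r, rfl⟩
  have ha₂s : Function.Surjective a₂ := fun a => by
    obtain ⟨r, rfl⟩ := heB a
    exact ⟨pr r, rfl⟩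
  have hε₁ : χ₁.comp a₁ = ε₀ := Ideal.Quotient.algHom_ext k (AlgHom.ext fun r => DFunLike.congr_fun hεA r)
  have hε₂ : χ₂.comp a₂ = ε₀ := Ideal.Quotient.algHom_ext k (AlgHom.ext fun r => DFunLike.congr_fun hεB r)
  let m₀ : Ideal B₀ := RingHom.ker ε₀
  haveI : m₀.IsMaximal := RingHom.ker_isMaximal_of_surjective ε₀ fun c => ⟨algebraMap k B₀ c, ε₀.commutes c⟩
  -- the germ is the local ring of the quotient
  let alg : B₀ →+* L := Ideal.Quotient.lift Q (mL.comp al) fun r hr => Ideal.Quotient.eq_zero_iff_mem.2 hr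
  letI : Algebra B₀ L := alg.toAlgebra
  haveI : IsLocalization.AtPrime L m₀ := by
    have h1 : IsLocalization (m.primeCompl.map (Ideal.Quotient.mk Q)) L :=
      IsLocalization.of_surjective m.primeCompl A (Ideal.Quotient.mk Q) Ideal.Quotient.mk_surjective
        mL Ideal.Quotient.mk_surjective (RingHom.ext fun r => rfl) (by rw [Ideal.mk_ker, Ideal.mk_ker, hQK])
    have e : m.primeCompl.map (Ideal.Quotient.mk Q) = m₀.primeCompl := by
      ext c
      obtain ⟨c, rfl⟩ := Ideal.Quotient.mk_surjective c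
      constructor
      · rintro ⟨d, hd, hdc⟩ hmem
        rw [← hdc] at hmem
        exact hd hmem
      · intro h'
        exact ⟨c, h', rfl⟩
    rwa [e] at h1
  let s₀ : B₀ := pr (sR)
  let t₀ : B₀ := pr (tR)
  have ha₁t : a₁ t₀ = 0 := hAt
  have ha₁s0 : a₁ s₀ ≠ 0 := hAs
  have ha₂s0 : a₂ s₀ = 0 := hBs
  have ha₂t : a₂ t₀ ≠ 0 := hBt
  have hkmap : ∀ {D : Type u} [CommRing D] [IsDomain D] [Algebra k D] (χ : D →ₐ[k] k) (a : B₀ →ₐ[k] D),
      χ.comp a = ε₀ → ∀ (p q : B₀), a p = 0 → a q ≠ 0 → maximalIdeal L = Ideal.span {algebraMap B₀ L q, algebraMap B₀ L p} →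
        (RingHom.ker a).map (algebraMap B₀ L) ≤ (Ideal.span {p}).map (algebraMap B₀ L) := by
    intro D _ _ _ χ a hχ p q hp hq hmx
    let FD := FractionRing D
    let E : B₀ →+* FD := (algebraMap D FD).comp a.toRingHom
    have hu : ∀ y : m₀.primeCompl, IsUnit (E y) := fun y => by
      refine IsUnit.mk0 _ fun h0 => y.2 ?_
      have : a (y : B₀) = 0 := IsFractionRing.injective D FD (h0.trans (map_zero _).symm)
      show ε₀ y = 0
      rw [← hχ, AlgHom.comp_apply, this, map_zero]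
    let EL : L →+* FD := IsLocalization.lift hu
    have hEL : ∀ b, EL (algebraMap B₀ L b) = E b := IsLocalization.lift_eq hu
    have hk := ker_eq_span hmx EL (by rw [hEL]; show algebraMap D FD (a p) = 0; rw [hp, map_zero])
      (by rw [hEL]; exact fun h0 => hq (IsFractionRing.injective D FD (h0.trans (map_zero _).symm)))
    rw [Ideal.map_le_iff_le_comap, Ideal.map_span, Set.image_singleton, ← hk]
    intro b hb
    show EL (algebraMap B₀ L b) = 0
    rw [hEL]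
    show algebraMap D FD (a b) = 0
    rw [RingHom.mem_ker.1 hb, map_zero]
  obtain ⟨u₁, hu₁, hk₁⟩ := exists_mul_mem m₀ (S := L) (RingHom.ker a₁) (Ideal.span {t₀})
    (hkmap χ₁ a₁ hε₁ t₀ s₀ ha₁t ha₁s0 hmL)
  obtain ⟨u₂, hu₂, hk₂⟩ := exists_mul_mem m₀ (S := L) (RingHom.ker a₂) (Ideal.span {s₀})
    (hkmap χ₂ a₂ hε₂ s₀ t₀ ha₂s0 ha₂t (hmL.trans (by rw [Set.pair_comm]; rfl)))
  obtain ⟨u₀, hu₀, hk₀⟩ := exists_mul_mem m₀ (S := L) m₀ (Ideal.span {s₀, t₀}) (by
    rw [IsLocalization.AtPrime.map_eq_maximalIdeal, Ideal.map_span, Set.image_insert_eq, Set.image_singleton]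
    exact hmL.le)
  let h : B₀ := u₀ * (u₁ * u₂)
  have hh : ε₀ h ≠ 0 := by
    rw [map_mul, map_mul]
    exact mul_ne_zero hu₀ (mul_ne_zero hu₁ hu₂)
  have hd₀ : ringKrullDim B₀ = 2 := by
    obtain ⟨d, hd, -⟩ := VarDim.exists_dim_eq_trdeg (k := k) B₀
    rw [hd, ← SmoothVarLib.ringKrullDim_localization_maximal k B₀
      (by rw [nilradical_eq_zero]; exact Ideal.isPrime_bot) d hd m₀,
      ringKrullDim_eq_of_ringEquiv (IsLocalization.algEquiv m₀.primeCompl (Localization.AtPrime m₀) L).toRingEquiv]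
    exact hdL2
  obtain ⟨B, i1, i2, i3, i4, εB, π, s, t, h₁, h₂, e₁, e₂, c0, c1, c2, hπ, hs₁, hs₂, he₁, he₂, c3, c4, c5, c6, c7⟩ :=
    exists_surface_away hd₀ ε₀ a₁ a₂ ha₁s ha₂s χ₁ χ₂ hε₁ hε₂ s₀ t₀ h hsR htR ha₁t ha₂s0 hh
      (fun b hb => by rw [show h * b = (u₁ * u₂) * (u₀ * b) by ring]; exact Ideal.mul_mem_left _ _ (hk₀ b hb))
      (fun b hb => by rw [show h * b = (u₀ * u₂) * (u₁ * b) by ring]; exact Ideal.mul_mem_left _ _ (hk₁ b hb))
      (fun b hb => by rw [show h * b = (u₀ * u₁) * (u₂ * b) by ring]; exact Ideal.mul_mem_left _ _ (hk₂ b hb))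
  refine ⟨B, i1, i2, i3, i4, εB, π.comp pr, s, t, h₁, h₂, e₁, e₂, c0, c1, c2, ?_, hs₁, hs₂, ?_, ?_, c3, c4, c5, c6, c7⟩
  · rw [← AlgHom.comp_assoc, hπ]
    rfl
  · rw [← AlgHom.comp_assoc, he₁]
    rfl
  · rw [← AlgHom.comp_assoc, he₂]
    rfl

set_option maxHeartbeats 2000000 in
/-- The surface. -/
theorem exists_surface [IsAlgClosed k] {R₁ R₂ R₃ : Type u} [CommRing R₁] [CommRing R₂] [CommRing R₃]
    [IsDomain R₁] [IsDomain R₂] [IsDomain R₃] [Algebra k R₁] [Algebra k R₂] [Algebra k R₃]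
    [Algebra.FiniteType k R₁] [Algebra.FiniteType k R₂] [Algebra.FiniteType k R₃]
    (hd₁ : ringKrullDim R₁ = 1) (hd₂ : ringKrullDim R₂ = 1) (n : ℕ) (hd₃ : ringKrullDim R₃ = n)
    (χ₁ : R₁ →ₐ[k] k) (χ₂ : R₂ →ₐ[k] k) (χ₃ : R₃ →ₐ[k] k) (φ₁ : R₃ →ₐ[k] R₁) (φ₂ : R₃ →ₐ[k] R₂)
    (hφ₁ : χ₁.comp φ₁ = χ₃) (hφ₂ : χ₂.comp φ₂ = χ₃)
    (hr₁ : ∀ (m : Ideal R₁) [m.IsMaximal], IsRegularLocalRing (Localization.AtPrime m))
    (hr₂ : ∀ (m : Ideal R₂) [m.IsMaximal], IsRegularLocalRing (Localization.AtPrime m))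
    (hr₃ : ∀ (m : Ideal R₃) [m.IsMaximal], IsRegularLocalRing (Localization.AtPrime m)) :
    ∃ (B : Type u) (_ : CommRing B) (_ : IsDomain B) (_ : Algebra k B) (_ : Algebra.FiniteType k B)
      (ε : B →ₐ[k] k) (π : R₃ →ₐ[k] B) (s t : B) (h₁ : R₁) (h₂ : R₂)
      (e₁ : B →ₐ[k] Localization.Away h₁) (e₂ : B →ₐ[k] Localization.Away h₂),
      ringKrullDim B = 2 ∧ χ₁ h₁ ≠ 0 ∧ χ₂ h₂ ≠ 0 ∧ ε.comp π = χ₃ ∧
      Function.Surjective e₁ ∧ Function.Surjective e₂ ∧
      e₁.comp π = (IsScalarTower.toAlgHom k R₁ _).comp φ₁ ∧ e₂.comp π = (IsScalarTower.toAlgHom k R₂ _).comp φ₂ ∧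
      RingHom.ker ε = Ideal.span {s, t} ∧ RingHom.ker e₁ = Ideal.span {t} ∧ RingHom.ker e₂ = Ideal.span {s} ∧
      (∀ χ : Localization.Away h₁ →ₐ[k] k, (∀ r, χ (algebraMap R₁ _ r) = χ₁ r) → χ.comp e₁ = ε) ∧
      (∀ χ : Localization.Away h₂ →ₐ[k] k, (∀ r, χ (algebraMap R₂ _ r) = χ₂ r) → χ.comp e₂ = ε) := by
  classical
  haveI := GrpSchLib.isDomain_tensor_of_isAlgClosed (K := k) (A := R₂) (B := R₃)
  haveI := GrpSchLib.isDomain_tensor_of_isAlgClosed (K := k) (A := R₁) (B := R₂ ⊗[k] R₃)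
  haveI : Algebra.FiniteType k (R₂ ⊗[k] R₃) := Algebra.FiniteType.trans (S := R₂) inferInstance inferInstance
  haveI : Algebra.FiniteType k (R₁ ⊗[k] (R₂ ⊗[k] R₃)) := Algebra.FiniteType.trans (S := R₁) inferInstance inferInstance
  haveI : IsNoetherianRing (R₁ ⊗[k] (R₂ ⊗[k] R₃)) := Algebra.FiniteType.isNoetherianRing k (R₁ ⊗[k] (R₂ ⊗[k] R₃))
  have hdR : ringKrullDim (R₁ ⊗[k] (R₂ ⊗[k] R₃)) = ((n + 2 : ℕ) : WithBot ℕ∞) := by
    rw [GrLib8.Cone.ringKrullDim_tensor, GrLib8.Cone.ringKrullDim_tensor, hd₁, hd₂, hd₃]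
    push_cast
    rw [← one_add_one_eq_two]
    abel
  let i₁ : R₁ →ₐ[k] (R₁ ⊗[k] (R₂ ⊗[k] R₃)) := Algebra.TensorProduct.includeLeft
  let i₂ : R₂ →ₐ[k] (R₁ ⊗[k] (R₂ ⊗[k] R₃)) := (Algebra.TensorProduct.includeRight).comp Algebra.TensorProduct.includeLeft
  let i₃ : R₃ →ₐ[k] (R₁ ⊗[k] (R₂ ⊗[k] R₃)) := (Algebra.TensorProduct.includeRight).comp Algebra.TensorProduct.includeRight
  let ε : (R₁ ⊗[k] (R₂ ⊗[k] R₃)) →ₐ[k] k := Algebra.TensorProduct.lift χ₁
    (Algebra.TensorProduct.lift χ₂ χ₃ fun _ _ => Commute.all _ _) fun _ _ => Commute.all _ _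
  have hεi : ε.comp i₁ = χ₁ ∧ ε.comp i₂ = χ₂ ∧ ε.comp i₃ = χ₃ := ⟨AlgHom.ext fun a => (lift₃ χ₁ χ₂ χ₃ a 1 1).trans (by simp),
    AlgHom.ext fun a => (lift₃ χ₁ χ₂ χ₃ 1 a 1).trans (by simp), AlgHom.ext fun a => (lift₃ χ₁ χ₂ χ₃ 1 1 a).trans (by simp)⟩
  let eA : (R₁ ⊗[k] (R₂ ⊗[k] R₃)) →ₐ[k] R₁ := Algebra.TensorProduct.lift (AlgHom.id k R₁)
    (Algebra.TensorProduct.lift ((Algebra.ofId k R₁).comp χ₂) φ₁ fun _ _ => Commute.all _ _) fun _ _ => Commute.all _ _
  let eB : (R₁ ⊗[k] (R₂ ⊗[k] R₃)) →ₐ[k] R₂ := Algebra.TensorProduct.lift ((Algebra.ofId k R₂).comp χ₁)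
    (Algebra.TensorProduct.lift (AlgHom.id k R₂) φ₂ fun _ _ => Commute.all _ _) fun _ _ => Commute.all _ _
  have hA : (∀ a, eA (i₁ a) = a) ∧ (∀ b, eA (i₂ b) = algebraMap k R₁ (χ₂ b)) ∧ ∀ c, eA (i₃ c) = φ₁ c :=
    ⟨fun a => (lift₃ _ _ _ a 1 1).trans (by simp), fun a => (lift₃ _ _ _ 1 a 1).trans (by simp [Algebra.ofId_apply]),
      fun a => (lift₃ _ _ _ 1 1 a).trans (by simp)⟩
  have hB : (∀ a, eB (i₁ a) = algebraMap k R₂ (χ₁ a)) ∧ (∀ b, eB (i₂ b) = b) ∧ ∀ c, eB (i₃ c) = φ₂ c :=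
    ⟨fun a => (lift₃ _ _ _ a 1 1).trans (by simp [Algebra.ofId_apply]), fun a => (lift₃ _ _ _ 1 a 1).trans (by simp),
      fun a => (lift₃ _ _ _ 1 1 a).trans (by simp)⟩
  have hεA : χ₁.comp eA = ε := by
    refine Algebra.TensorProduct.ext (AlgHom.ext fun a => ?_)
      (Algebra.TensorProduct.ext (AlgHom.ext fun b => ?_) (AlgHom.ext fun c => ?_))
    · show χ₁ (eA (i₁ a)) = ε (i₁ a)
      rw [hA.1]; exact (DFunLike.congr_fun hεi.1 a).symm
    · show χ₁ (eA (i₂ b)) = ε (i₂ b)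
      rw [hA.2.1, AlgHom.commutes]; exact (DFunLike.congr_fun hεi.2.1 b).symm
    · show χ₁ (eA (i₃ c)) = ε (i₃ c)
      rw [hA.2.2, ← AlgHom.comp_apply, hφ₁]; exact (DFunLike.congr_fun hεi.2.2 c).symm
  have hεB : χ₂.comp eB = ε := by
    refine Algebra.TensorProduct.ext (AlgHom.ext fun a => ?_)
      (Algebra.TensorProduct.ext (AlgHom.ext fun b => ?_) (AlgHom.ext fun c => ?_))
    · show χ₂ (eB (i₁ a)) = ε (i₁ a)
      rw [hB.1, AlgHom.commutes]; exact (DFunLike.congr_fun hεi.1 a).symm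
    · show χ₂ (eB (i₂ b)) = ε (i₂ b)
      rw [hB.2.1]; exact (DFunLike.congr_fun hεi.2.1 b).symm
    · show χ₂ (eB (i₃ c)) = ε (i₃ c)
      rw [hB.2.2, ← AlgHom.comp_apply, hφ₂]; exact (DFunLike.congr_fun hεi.2.2 c).symm
  have hsurjε : Function.Surjective ε := fun c => ⟨algebraMap k (R₁ ⊗[k] (R₂ ⊗[k] R₃)) c, ε.commutes c⟩
  let m : Ideal (R₁ ⊗[k] (R₂ ⊗[k] R₃)) := RingHom.ker ε
  haveI hmax : m.IsMaximal := RingHom.ker_isMaximal_of_surjective ε hsurjε
  -- parameters on the factors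
  have param : ∀ {T : Type u} [CommRing T] [IsDomain T] [Algebra k T] [Algebra.FiniteType k T] (χ : T →ₐ[k] k),
      (∀ (p : Ideal T) [p.IsMaximal], IsRegularLocalRing (Localization.AtPrime p)) → ∀ (e : ℕ), ringKrullDim T = e →
        ∃ x : Fin e → T, (∀ i, χ (x i) = 0) ∧ ∀ a, χ a = 0 → ∃ u, χ u ≠ 0 ∧ u * a ∈ Ideal.span (Set.range x) := by
    intro T _ _ _ _ χ hreg e he
    have hχ : Function.Surjective χ := fun c => ⟨algebraMap k T c, χ.commutes c⟩
    let p : Ideal T := RingHom.ker χ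
    haveI : p.IsMaximal := RingHom.ker_isMaximal_of_surjective χ hχ
    haveI := hreg p
    haveI : IsNoetherianRing T := Algebra.FiniteType.isNoetherianRing k T
    let L := Localization.AtPrime p
    have hL := SmoothVarLib.ringKrullDim_localization_maximal k T
      (by rw [nilradical_eq_zero]; exact Ideal.isPrime_bot) e he p
    have hsr : (maximalIdeal L).spanFinrank = e := by
      have := IsRegularLocalRing.spanFinrank_maximalIdeal (R := L)
      rw [hL] at this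
      exact_mod_cast this
    obtain ⟨g, hg⟩ : ∃ g : Fin e → L, Ideal.span (Set.range g) = maximalIdeal L := by
      obtain ⟨G, hG1, hG2⟩ := Submodule.FG.exists_span_set_encard_eq_spanFinrank (IsNoetherian.noetherian (maximalIdeal L))
      have hGf : G.Finite := Set.encard_ne_top_iff.1 (by rw [hG1]; exact ENat.natCast_ne_top _)
      haveI := hGf.fintype
      have hc : Fintype.card G = e := by
        have := hGf.encard_eq_coe_toFinset_card
        rw [hG1, hsr, Nat.cast_inj] at this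
        rw [this, Set.Finite.toFinset_eq_toFinset, Set.toFinset_card]
      let eq := (Fintype.equivFinOfCardEq hc).symm
      exact ⟨fun i => (eq i : L), by rw [show (Set.range fun i => (eq i : L)) = G by
        simp [Set.range_comp' Subtype.val eq]]; exact hG2⟩
    choose y hy using fun i => IsLocalization.surj p.primeCompl (g i)
    refine ⟨fun i => (y i).1, fun i => ?_, fun a ha => ?_⟩
    · have h1 : algebraMap T L (y i).1 ∈ maximalIdeal L := by
        rw [← hy i]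
        exact Ideal.mul_mem_right _ _ (hg ▸ Ideal.subset_span ⟨i, rfl⟩)
      exact (IsLocalization.AtPrime.to_map_mem_maximal_iff L p _).1 h1
    · have h1 : algebraMap T L a ∈ (Ideal.span (Set.range fun i => (y i).1)).map (algebraMap T L) := by
        have h2 : algebraMap T L a ∈ maximalIdeal L := (IsLocalization.AtPrime.to_map_mem_maximal_iff L p _).2 ha
        rw [← hg] at h2
        refine Ideal.span_le.2 ?_ h2
        rintro _ ⟨i, rfl⟩
        have := Ideal.mem_map_of_mem (algebraMap T L) (Ideal.subset_span (α := T) (Set.mem_range_self (f := fun i => (y i).1) i))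
        rw [← hy i, mul_comm] at this
        exact (Ideal.unit_mul_mem_iff_mem _ (IsLocalization.map_units L (y i).2)).1 this
      obtain ⟨u, hu, hua⟩ := (IsLocalization.algebraMap_mem_map_algebraMap_iff p.primeCompl L _ a).1 h1
      exact ⟨u, hu, hua⟩
  obtain ⟨x₁, hx₁, hg₁⟩ := param χ₁ hr₁ 1 (by simpa using hd₁)
  obtain ⟨x₂, hx₂, hg₂⟩ := param χ₂ hr₂ 1 (by simpa using hd₂)
  obtain ⟨x₃, hx₃, hg₃⟩ := param χ₃ hr₃ n hd₃
  let f : Fin n → (R₁ ⊗[k] (R₂ ⊗[k] R₃)) := fun i => i₃ (x₃ i) - i₁ (φ₁ (x₃ i)) - i₂ (φ₂ (x₃ i))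
  have hfA : ∀ i, eA (f i) = 0 := fun i => by
    have h0 : χ₂ (φ₂ (x₃ i)) = 0 := by rw [← AlgHom.comp_apply, hφ₂]; exact hx₃ i
    simp [f, map_sub, hA.1, hA.2.1, hA.2.2, h0]
  have hfB : ∀ i, eB (f i) = 0 := fun i => by
    have h0 : χ₁ (φ₁ (x₃ i)) = 0 := by rw [← AlgHom.comp_apply, hφ₁]; exact hx₃ i
    simp [f, map_sub, hB.1, hB.2.1, hB.2.2, h0]
  let J : Ideal (R₁ ⊗[k] (R₂ ⊗[k] R₃)) := Ideal.span (Set.range f) ⊔ Ideal.span {i₁ (x₁ 0), i₂ (x₂ 0)}
  let G : Ideal (R₁ ⊗[k] (R₂ ⊗[k] R₃)) := (J.map (algebraMap _ (Localization.AtPrime m))).comap (algebraMap _ (Localization.AtPrime m))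
  have hG : ∀ {T : Type u} [CommRing T] [Algebra k T] (χ : T →ₐ[k] k) (ι : T →ₐ[k] (R₁ ⊗[k] (R₂ ⊗[k] R₃))), ε.comp ι = χ →
      ∀ {σ : Type} (x : σ → T), (∀ a, χ a = 0 → ∃ u, χ u ≠ 0 ∧ u * a ∈ Ideal.span (Set.range x)) →
        (∀ i, ι (x i) ∈ G) → ∀ a, χ a = 0 → ι a ∈ G := by
    intro T _ _ χ ι hι σ x hg hx a ha
    obtain ⟨u, hu, hua⟩ := hg a ha
    have h1 : ι (u * a) ∈ G :=
      (Ideal.span_le.2 (by rintro _ ⟨i, rfl⟩; exact hx i) : Ideal.span (Set.range x) ≤ G.comap ι.toRingHom) hua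
    rw [map_mul, Ideal.mem_comap, map_mul] at h1
    refine Ideal.mem_comap.2 ((Ideal.unit_mul_mem_iff_mem _ (IsLocalization.map_units (Localization.AtPrime m)
      (⟨ι u, fun h' => hu ?_⟩ : m.primeCompl))).1 h1)
    rw [← hι]; exact h'
  have hJG : J ≤ G := Ideal.le_comap_map
  have hJ₁ : ∀ a, χ₁ a = 0 → i₁ a ∈ G := hG χ₁ i₁ hεi.1 x₁ hg₁ fun i => by
    rw [Subsingleton.elim i 0]
    exact hJG (Ideal.mem_sup_right (Ideal.subset_span (Set.mem_insert _ _)))
  have hJ₂ : ∀ a, χ₂ a = 0 → i₂ a ∈ G := hG χ₂ i₂ hεi.2.1 x₂ hg₂ fun i => by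
    rw [Subsingleton.elim i 0]
    exact hJG (Ideal.mem_sup_right (Ideal.subset_span (Set.mem_insert_of_mem _ rfl)))
  have hJ₃ : ∀ a, χ₃ a = 0 → i₃ a ∈ G := hG χ₃ i₃ hεi.2.2 x₃ hg₃ fun i => by
    have h1 := hJ₁ (φ₁ (x₃ i)) (by rw [← AlgHom.comp_apply, hφ₁]; exact hx₃ i)
    have h2 := hJ₂ (φ₂ (x₃ i)) (by rw [← AlgHom.comp_apply, hφ₂]; exact hx₃ i)
    have h0 : f i ∈ G := hJG (Ideal.mem_sup_left (Ideal.subset_span ⟨i, rfl⟩))
    have e : i₃ (x₃ i) = f i + i₁ (φ₁ (x₃ i)) + i₂ (φ₂ (x₃ i)) := by simp only [f]; ring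
    rw [e]
    exact G.add_mem (G.add_mem h0 h1) h2
  have hne : ∀ {D : Type u} [CommRing D] [IsDomain D] [Algebra k D] (χ : D →ₐ[k] k), ringKrullDim D = 1 →
      ∀ x : Fin 1 → D, (∀ a, χ a = 0 → ∃ u, χ u ≠ 0 ∧ u * a ∈ Ideal.span (Set.range x)) → x 0 ≠ 0 := by
    intro D _ _ _ χ hD x hg h0
    have hk : RingHom.ker χ = ⊥ := by
      refine eq_bot_iff.2 fun a ha => ?_
      obtain ⟨u, hu, hua⟩ := hg a ha
      have : Set.range x = {0} := Set.eq_singleton_iff_unique_mem.2 ⟨⟨0, h0⟩, by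
        rintro _ ⟨i, rfl⟩; rw [Subsingleton.elim i 0, h0]⟩
      rw [this, Ideal.span_singleton_zero, Ideal.mem_bot] at hua
      exact (mul_eq_zero.1 hua).resolve_left fun e => hu (by rw [e, map_zero])
    have hχ : Function.Surjective χ := fun c => ⟨algebraMap k D c, χ.commutes c⟩
    have hmax' : (⊥ : Ideal D).IsMaximal := hk ▸ RingHom.ker_isMaximal_of_surjective χ hχ
    have hf : IsField D := (RingEquiv.quotientBot D).symm.toMulEquiv.isField
      ((Ideal.Quotient.maximal_ideal_iff_isField_quotient ⊥).1 hmax')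
    rw [ringKrullDim_eq_zero_of_isField hf] at hD
    exact zero_ne_one hD
  obtain ⟨B, _, _, _, _, εB, π, s, t, h₁, h₂, e₁, e₂, hdB, hh₁, hh₂, hπ, hs₁, hs₂, he₁, he₂, c1, c2, c3, c4, c5⟩ :=
    exists_surface_aux n hdR ε eA eB (fun a => ⟨i₁ a, hA.1 a⟩) (fun a => ⟨i₂ a, hB.2.1 a⟩) χ₁ χ₂ hεA hεB f hfA hfB
      (i₁ (x₁ 0)) (i₂ (x₂ 0)) (by rw [hA.2.1, hx₂, map_zero]) (by rw [hA.1]; exact hne χ₁ hd₁ x₁ hg₁)
      (by rw [hB.1, hx₁, map_zero]) (by rw [hB.2.1]; exact hne χ₂ hd₂ x₂ hg₂) fun r hr => by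
        have h1 : algebraMap _ (Localization.AtPrime m) r ∈ J.map (algebraMap _ (Localization.AtPrime m)) :=
          ker_le_of_inc χ₁ χ₂ χ₃ ε (fun a b c => lift₃ χ₁ χ₂ χ₃ a b c) G hJ₁ hJ₂ hJ₃ hr
        obtain ⟨u, hu, hur⟩ := (IsLocalization.algebraMap_mem_map_algebraMap_iff m.primeCompl _ J r).1 h1
        exact ⟨u, hu, hur⟩
  refine ⟨B, inferInstance, inferInstance, inferInstance, inferInstance, εB, π.comp i₃, s, t, h₁, h₂, e₁, e₂, hdB,
    hh₁, hh₂, ?_, hs₁, hs₂, ?_, ?_, c1, c2, c3, c4, c5⟩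
  · rw [← AlgHom.comp_assoc, hπ]
    exact hεi.2.2
  · rw [← AlgHom.comp_assoc, he₁]
    exact AlgHom.ext fun r => congrArg (IsScalarTower.toAlgHom k R₁ (Localization.Away h₁)) (hA.2.2 r)
  · rw [← AlgHom.comp_assoc, he₂]
    exact AlgHom.ext fun r => congrArg (IsScalarTower.toAlgHom k R₂ (Localization.Away h₂)) (hB.2.2 r)

end Groth.Agent.H23.ZCorrSurfAlg
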