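import Groth.Agent.H23.ZCorrLimit
import Groth.Agent.H23.ZCorrSurfAlg
import Groth.Agent.H23.ZCorrCurve
import Groth.Agent.H23.RedSub
import Groth.Agent.H23.SymCurve

/-!
Two points of the closure of the graph of a map into a symmetric power over the same point of the base have
rationally equivalent zero-cycles.
-/

set_option autoImplicit false
set_option linter.style.haveILetI false
set_option linter.unusedSectionVars false
set_option backward.isDefEq.respectTransparency false
set_option backward.isDefEq.respectTransparency.types false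

universe u

open CategoryTheory CategoryTheory.Limits AlgebraicGeometry IsLocalRing TopologicalSpace

namespace Groth.Agent.H23.ZCorrGraphClosure

open Groth.Agent CDiv6 StalkPrimes SymProd SymAF

section Ring

variable {B : Type u} [CommRing B]

theorem residue_zero_iff (v : Spec (CommRingCat.of B)) (b : B) :
    (Spec (CommRingCat.of B)).residue v ((Spec (CommRingCat.of B)).presheaf.germ ⊤ v trivial
      ((Scheme.ΓSpecIso (CommRingCat.of B)).inv b)) = 0 ↔ b ∈ PrimeSpectrum.asIdeal (R := B) v := by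
  letI : Algebra B ((Spec (CommRingCat.of B)).presheaf.stalk v) := StructureSheaf.stalkAlgebra B v
  haveI : IsLocalization.AtPrime ((Spec (CommRingCat.of B)).presheaf.stalk v) (PrimeSpectrum.asIdeal (R := B) v) :=
    StructureSheaf.IsLocalization.to_stalk (CommRingCat.of B) v
  refine Ideal.Quotient.eq_zero_iff_mem.trans ?_
  exact IsLocalization.AtPrime.to_map_mem_maximal_iff _ (PrimeSpectrum.asIdeal (R := B) v) b

theorem maximal_eq_span (v : Spec (CommRingCat.of B)) (T : Set B) (h : PrimeSpectrum.asIdeal (R := B) v = Ideal.span T) :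
    maximalIdeal ((Spec (CommRingCat.of B)).presheaf.stalk v) = Ideal.span ((fun b =>
      (Spec (CommRingCat.of B)).presheaf.germ ⊤ v trivial ((Scheme.ΓSpecIso (CommRingCat.of B)).inv b)) '' T) := by
  letI : Algebra B ((Spec (CommRingCat.of B)).presheaf.stalk v) := StructureSheaf.stalkAlgebra B v
  haveI : IsLocalization.AtPrime ((Spec (CommRingCat.of B)).presheaf.stalk v) (PrimeSpectrum.asIdeal (R := B) v) :=
    StructureSheaf.IsLocalization.to_stalk (CommRingCat.of B) v
  refine (IsLocalization.AtPrime.map_eq_maximalIdeal (PrimeSpectrum.asIdeal (R := B) v) _).symm.trans ?_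
  rw [h]
  exact Ideal.map_span _ _

theorem SpecMap_apply {A : Type u} [CommRing A] (f : B →+* A) (v : PrimeSpectrum A) :
    Spec.map (CommRingCat.ofHom f) v = (⟨v.asIdeal.comap f, Ideal.IsPrime.comap f⟩ : PrimeSpectrum B) := rfl

theorem SpecMap_closedPoint {K : Type u} [Field K] (f : B →+* K) :
    Spec.map (CommRingCat.ofHom f) (closedPoint K) = (⟨RingHom.ker f, RingHom.ker_isPrime f⟩ : PrimeSpectrum B) := by
  refine PrimeSpectrum.ext ?_
  show (maximalIdeal K).comap f = RingHom.ker f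
  rw [IsLocalRing.maximalIdeal_eq_bot]
  rfl

end Ring

/-- Inverting a function not vanishing at a rational point keeps the dimension. -/
theorem away_dim {k : Type u} [Field k] [IsAlgClosed k] {A : Type u} [CommRing A] [IsDomain A] [Algebra k A]
    [Algebra.FiniteType k A] (χ : A →ₐ[k] k) (h : A) (hh : χ h ≠ 0) (d : ℕ) (hd : ringKrullDim A = d) :
    ringKrullDim (Localization.Away h) = d := by
  haveI : IsNoetherianRing A := Algebra.FiniteType.isNoetherianRing k A
  haveI : IsDomain (Localization.Away h) := IsLocalization.isDomain_localization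
    (powers_le_nonZeroDivisors_of_noZeroDivisors fun e => hh (by rw [e, map_zero]))
  haveI : Algebra.FiniteType k (Localization.Away h) := Algebra.FiniteType.trans (S := A) inferInstance
    (IsLocalization.finiteType_of_monoid_fg (Submonoid.powers h) (Localization.Away h))
  obtain ⟨d', hd', -⟩ := VarDim.exists_dim_eq_trdeg (k := k) (Localization.Away h)
  obtain ⟨χ', hχ'⟩ := ZCorrSurfAlg.exists_away_lift h χ (IsUnit.mk0 _ hh)
  let P : Ideal (Localization.Away h) := RingHom.ker χ'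
  haveI : P.IsMaximal := RingHom.ker_isMaximal_of_surjective χ' fun c => ⟨algebraMap k _ c, χ'.commutes c⟩
  let m : Ideal A := RingHom.ker χ
  haveI : m.IsMaximal := RingHom.ker_isMaximal_of_surjective χ fun c => ⟨algebraMap k _ c, χ.commutes c⟩
  have hP : P.comap (algebraMap A (Localization.Away h)) = m := by
    ext a
    show χ' (algebraMap A _ a) = 0 ↔ χ a = 0
    rw [show χ' (algebraMap A _ a) = χ a from DFunLike.congr_fun hχ' a]
  haveI : IsLocalization.AtPrime (Localization.AtPrime P) m := by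
    have := IsLocalization.isLocalization_isLocalization_atPrime_isLocalization (Submonoid.powers h)
      (Localization.AtPrime P) P (S := Localization.Away h)
    simp only [Ideal.under_def, hP] at this
    exact this
  rw [hd', ← SmoothVarLib.ringKrullDim_localization_maximal k _ (by rw [nilradical_eq_zero]; exact Ideal.isPrime_bot) d' hd' P,
    ringKrullDim_eq_of_ringEquiv (IsLocalization.algEquiv m.primeCompl (Localization.AtPrime P) (Localization.AtPrime m)).toRingEquiv,
    SmoothVarLib.ringKrullDim_localization_maximal k A (by rw [nilradical_eq_zero]; exact Ideal.isPrime_bot) d hd m]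

theorem deg_eq_rd {k : Type u} [Field k] {T : Scheme.{u}} (g : T ⟶ Spec (CommRingCat.of k)) [LocallyOfFiniteType g]
    (x : T) : VarDim.deg g x = FibDim.rd g x := by
  have h : (VarDim.deg g x : Cardinal) = (FibDim.rd g x : Cardinal) := by
    rw [FibDim.rd_eq_rdeg, VarDim.deg_eq_tdeg, VarDim.tdeg_eq_rdeg]
  exact_mod_cast h

variable {k : Type u} [Field k] [IsAlgClosed k] [CharZero k] {X W Y : Scheme.{u}}
  (p : X ⟶ Spec (CommRingCat.of k)) [IsProper p] {d : ℕ} {q : fibPow p d ⟶ Y} {g : Y ⟶ Spec (CommRingCat.of k)}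

set_option maxHeartbeats 1600000 in
/-- The graph closure over the domain of the map is the graph. -/
theorem mem_range_of_mem_closure [IsSeparated g] (qW : W ⟶ Spec (CommRingCat.of k)) (U : W.Opens)
    (F : (U : Scheme.{u}) ⟶ Y) (hF : U.ι ≫ qW = F ≫ g) :
    IsImmersion (pullback.lift U.ι F hF) ∧ ∀ z, z ∈ closure (Set.range (pullback.lift U.ι F hF)) →
      pullback.fst qW g z ∈ U → z ∈ Set.range (pullback.lift U.ι F hF) := by
  let l := pullback.lift U.ι F hF
  let π := pullback.fst qW g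
  have hr : Set.range l ⊆ Set.range (π ⁻¹ᵁ U).ι := by
    rintro _ ⟨a, rfl⟩
    rw [Scheme.Opens.range_ι]
    show π (l a) ∈ U
    rw [← Scheme.Hom.comp_apply, pullback.lift_fst]
    exact a.2
  let l' := IsOpenImmersion.lift (π ⁻¹ᵁ U).ι l hr
  have hl : l' ≫ (π ⁻¹ᵁ U).ι = l := IsOpenImmersion.lift_fac _ _ _
  have hs : l' ≫ (π ∣_ U) = 𝟙 _ := by
    rw [← cancel_mono U.ι, Category.assoc, morphismRestrict_ι, reassoc_of% hl, Category.id_comp]
    exact pullback.lift_fst _ _ _
  haveI : IsSeparated π := inferInstance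
  haveI : IsSeparated (π ∣_ U) := IsZariskiLocalAtTarget.restrict (inferInstance : IsSeparated π) U
  haveI : IsClosedImmersion (l' ≫ (π ∣_ U)) := by rw [hs]; infer_instance
  haveI : IsClosedImmersion l' := IsClosedImmersion.of_comp l' (π ∣_ U)
  refine ⟨by show IsImmersion l; rw [← hl]; infer_instance, fun z hz hzU => ?_⟩
  let z' : ↥(π ⁻¹ᵁ U) := ⟨z, hzU⟩
  have h1 : z' ∈ closure (Set.range l') := by
    rw [(π ⁻¹ᵁ U).ι.isOpenEmbedding.isInducing.closure_eq_preimage_closure_image, Set.mem_preimage, ← Set.range_comp,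
      show (⇑(π ⁻¹ᵁ U).ι ∘ ⇑l') = ⇑l from funext fun a => congr(($hl).base a)]
    exact hz
  rw [l'.isClosedEmbedding.isClosed_range.closure_eq] at h1
  obtain ⟨a, ha⟩ := h1
  exact ⟨a, (congr(($hl).base a)).symm.trans (congrArg (fun y => (π ⁻¹ᵁ U).ι y) ha)⟩

set_option maxHeartbeats 3200000 in
/-- The main statement. -/
theorem ratEquiv (hAF : IsAF p) (hq : IsSymProd p d q g) (qW : W ⟶ Spec (CommRingCat.of k)) [Smooth qW]
    [IsIntegral W] (n : ℕ) (hdimW : topologicalKrullDim W = n) (δX : X → ℤ) (hδX : Cyc.DeltaCompat p δX (fun _ => 0))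
    (U : W.Opens) (hU : (U : Set W).Nonempty) (F : (U : Scheme.{u}) ⟶ Y) (hF : U.ι ≫ qW = F ≫ g)
    (z₁ z₂ : Spec (CommRingCat.of k) ⟶ pullback qW g)
    (hz₁ : z₁ ≫ pullback.fst qW g ≫ qW = 𝟙 _) (hz₂ : z₂ ≫ pullback.fst qW g ≫ qW = 𝟙 _)
    (hG₁ : z₁ (closedPoint k) ∈ closure (Set.range (pullback.lift U.ι F hF)))
    (hG₂ : z₂ (closedPoint k) ∈ closure (Set.range (pullback.lift U.ι F hF)))
    (hsame : z₁ ≫ pullback.fst qW g = z₂ ≫ pullback.fst qW g)
    (α₁ α₂ : AlgebraicCycle X ℤ) (hα₁ : ZCorr.IsCycleOfSymPt p d q (z₁ ≫ pullback.snd qW g) ⇑α₁)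
    (hα₂ : ZCorr.IsCycleOfSymPt p d q (z₂ ≫ pullback.snd qW g) ⇑α₂) : Cyc.RatEquiv δX 0 α₁ α₂ := by
  classical
  haveI : IsProper (WidePullback.base (fun _ : Fin d => p)) := SymCurve.base_property @IsProper p inferInstance d
  haveI : IsSeparated g := (SGA1Q.isSeparated_iff_of_isQuot hq.isQuot hq.over).1 inferInstance
  haveI := (SymSing.isFinite hq).2
  haveI : IsLocallyNoetherian W := LocallyOfFiniteType.isLocallyNoetherian qW
  let l := pullback.lift U.ι F hF
  obtain ⟨hlimm, hcl⟩ := mem_range_of_mem_closure qW U F hF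
  let w := pullback.fst qW g (z₁ (closedPoint k))
  have hw₂ : pullback.fst qW g (z₂ (closedPoint k)) = w := congr(($(hsame.symm)).base (closedPoint k))
  have hl1 : ∀ a, pullback.fst qW g (l a) = U.ι a := fun a => congr(($(pullback.lift_fst U.ι F hF)).base a)
  by_cases hwU : w ∈ U
  · obtain ⟨a₁, ha₁⟩ := hcl _ hG₁ hwU
    obtain ⟨a₂, ha₂⟩ := hcl _ hG₂ (hw₂.symm ▸ hwU)
    have ha : a₁ = a₂ := U.ι.isOpenEmbedding.injective (by
      rw [← hl1, ← hl1]
      show pullback.fst qW g (pullback.lift U.ι F hF a₁) = pullback.fst qW g (pullback.lift U.ι F hF a₂)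
      rw [ha₁, ha₂, hw₂])
    have hz : z₁ = z₂ := ext_of_apply_closedPoint_eq (pullback.fst qW g ≫ qW) hz₁ hz₂ (by rw [← ha₁, ← ha₂, ha])
    subst hz
    refine RatOn.ratEquiv (T := Set.univ) (RatOn.congr (RatOn.zero _) fun x => ?_)
    rw [congrFun (ZCorrRat.cycle_unique p hq hα₁ hα₂) x, sub_self]
  haveI : Nonempty (U : Scheme.{u}) := hU.to_subtype
  haveI : IsIntegral (U : Scheme.{u}) := isIntegral_of_isOpenImmersion U.ι
  let ξ₀ := l (genericPoint (U : Scheme.{u}))
  obtain ⟨Z, ιZ, hci, hint, hZr, hZg⟩ := ConsPropLib.exists_integral_closure ξ₀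
  haveI := hci; haveI := hint
  let qZ := ιZ ≫ pullback.fst qW g ≫ qW
  have hcl0 : closure (Set.range l) ⊆ Set.range ιZ := by
    rw [hZr]
    refine closure_minimal ?_ isClosed_closure
    rintro _ ⟨a, rfl⟩
    exact specializes_iff_mem_closure.1 ((genericPoint_specializes a).map l.continuous)
  have hcl1 : Set.range ιZ ⊆ closure (Set.range l) := by
    rw [hZr]
    exact closure_mono (Set.singleton_subset_iff.2 ⟨_, rfl⟩)
  obtain ⟨V, hV, hwV, -⟩ := exists_isAffineOpen_mem_and_subset (x := w) (U := ⊤) trivial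
  -- the curves
  have curve : ∀ (z : Spec (CommRingCat.of k) ⟶ pullback qW g), z ≫ pullback.fst qW g ≫ qW = 𝟙 _ →
      z (closedPoint k) ∈ closure (Set.range l) → pullback.fst qW g (z (closedPoint k)) = w →
      ∃ (C : Type u) (_ : CommRing C) (_ : IsDomain C) (_ : IsDedekindDomain C) (_ : Algebra k C)
        (_ : Algebra.FiniteType k C) (χ : C →ₐ[k] k) (c : Spec (CommRingCat.of C) ⟶ pullback qW g),
        ringKrullDim C = 1 ∧ c ≫ pullback.fst qW g ≫ qW = Spec.map (CommRingCat.ofHom (algebraMap k C)) ∧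
        (∀ a, pullback.fst qW g (c a) ∈ V) ∧ (∀ a, c a ∈ closure (Set.range l)) ∧
        Spec.map (CommRingCat.ofHom χ.toRingHom) ≫ c = z ∧
        pullback.fst qW g (c (⟨⊥, Ideal.isPrime_bot⟩ : PrimeSpectrum C)) ∈ U := by
    intro z hz hzG hzw
    obtain ⟨x, hx⟩ := hcl0 hzG
    have hxc : IsClosed ({x} : Set Z) := by
      have h1 := ((pointEquivClosedPoint (pullback.fst qW g ≫ qW)) ⟨z, hz⟩).2
      rw [mem_closedPoints_iff, pointEquivClosedPoint_apply_coe] at h1
      have e : ({x} : Set Z) = ιZ ⁻¹' {z (closedPoint k)} := by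
        ext y
        exact ⟨fun h => by rw [show y = x from h]; exact hx, fun h => ιZ.isClosedEmbedding.injective (Eq.trans h hx.symm)⟩
      rw [e]
      exact h1.preimage ιZ.continuous
    let Zc : Set Z := (ιZ ≫ pullback.fst qW g) ⁻¹' (U : Set W)ᶜ
    have hZc : Zc ≠ Set.univ := fun h => by
      have h1 : genericPoint Z ∈ Zc := h ▸ Set.mem_univ _
      refine h1 ?_
      show pullback.fst qW g (ιZ (genericPoint Z)) ∈ U
      rw [hZg, hl1]
      exact (genericPoint (U : Scheme.{u})).2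
    have hxZ : x ∈ Zc := fun h => hwU (by
      have h' : pullback.fst qW g (ιZ x) ∈ U := h
      rwa [hx, hzw] at h')
    obtain ⟨ξ, hξx, hξd, hξZ⟩ := Pic13Lib.exists_curve_leaving qZ hxc
      (U.isOpen.isClosed_compl.preimage (ιZ ≫ pullback.fst qW g).continuous) hZc hxZ
    obtain ⟨C, i1, i2, i3, i4, i5, χ, c, hdC, hcq, hcV, hcx, hcξ⟩ := ZCorrCurve.exists_curve_ring qZ hxc
      ((ιZ ≫ pullback.fst qW g) ⁻¹ᵁ V) (by show pullback.fst qW g (ιZ x) ∈ V; rw [hx, hzw]; exact hwV) hξx hξd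
    refine ⟨C, i1, i2, i3, i4, i5, χ, c ≫ ιZ, hdC, by rw [Category.assoc]; exact hcq, fun a => hcV ⟨a, rfl⟩,
      fun a => hcl1 ⟨c a, rfl⟩, ?_, ?_⟩
    · refine ext_of_apply_closedPoint_eq (pullback.fst qW g ≫ qW) ?_ hz ?_
      · rw [Category.assoc, Category.assoc, show c ≫ ιZ ≫ pullback.fst qW g ≫ qW = _ from hcq, ← Spec.map_comp,
          show CommRingCat.ofHom (algebraMap k C) ≫ CommRingCat.ofHom χ.toRingHom = 𝟙 _ from
            CommRingCat.hom_ext (RingHom.ext fun a => χ.commutes a), Spec.map_id]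
      · rw [Scheme.Hom.comp_apply, Scheme.Hom.comp_apply, SpecMap_closedPoint]
        exact (congrArg ιZ hcx).trans hx
    · have hξU : ¬ pullback.fst qW g (ιZ ξ) ∉ U := hξZ
      rw [not_not, ← hcξ] at hξU
      exact hξU
  obtain ⟨C₁, _, _, _, _, _, χ₁, c₁, hd₁, hc₁q, hc₁V, hc₁G, hc₁z, hc₁U⟩ := curve z₁ hz₁ hG₁ rfl
  obtain ⟨C₂, _, _, _, _, _, χ₂, c₂, hd₂, hc₂q, hc₂V, hc₂G, hc₂z, hc₂U⟩ := curve z₂ hz₂ hG₂ hw₂
  -- the chart
  let R := Γ(W, V)
  obtain ⟨φ0, hφ0⟩ := Spec.map_surjective (hV.fromSpec ≫ qW)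
  letI : Algebra k R := φ0.hom.toAlgebra
  haveI : Nonempty V := ⟨⟨w, hwV⟩⟩
  haveI : Algebra.FiniteType k R := by
    have h : LocallyOfFiniteType (hV.fromSpec ≫ qW) := inferInstance
    rw [← hφ0, HasRingHomProperty.Spec_iff (P := @LocallyOfFiniteType)] at h
    exact h
  have hd₃ : ringKrullDim R = n := by
    haveI : IsIntegral (Spec Γ(W, V)) := isIntegral_of_isOpenImmersion hV.fromSpec
    have h1 : topologicalKrullDim (Spec Γ(W, V)) = n := by
      rw [VarDim.topologicalKrullDim_eq_deg_genericPoint (hV.fromSpec ≫ qW)]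
      rw [VarDim.topologicalKrullDim_eq_deg_genericPoint qW] at hdimW
      rw [← hdimW]
      congr 2
      have h2 := CycLib.rd_comp hV.fromSpec qW (genericPoint (Spec Γ(W, V)))
      rw [FibDim.rd_eq_zero_of_quasiFinite hV.fromSpec, genericPoint_eq_of_isOpenImmersion hV.fromSpec, add_zero] at h2
      rw [deg_eq_rd, deg_eq_rd, h2]
    rw [← h1]
    exact (PrimeSpectrum.topologicalKrullDim_eq_ringKrullDim R).symm
  have hr₃ : ∀ (m : Ideal R) [m.IsMaximal], IsRegularLocalRing (Localization.AtPrime m) := fun m _ => by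
    let v : Spec Γ(W, V) := ⟨m, inferInstance⟩
    haveI := GrpSchLib.isRegularLocalRing_stalk_of_smooth (hV.fromSpec ≫ qW) v
    letI : Algebra R ((Spec Γ(W, V)).presheaf.stalk v) := StructureSheaf.stalkAlgebra R v
    haveI : IsLocalization.AtPrime ((Spec Γ(W, V)).presheaf.stalk v) m :=
      StructureSheaf.IsLocalization.to_stalk Γ(W, V) v
    exact IsRegularLocalRing.of_ringEquiv
      (IsLocalization.algEquiv m.primeCompl ((Spec Γ(W, V)).presheaf.stalk v) (Localization.AtPrime m)).toRingEquiv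
  have toChart : ∀ (C : Type u) [CommRing C] [Algebra k C] (c : Spec (CommRingCat.of C) ⟶ pullback qW g),
      c ≫ pullback.fst qW g ≫ qW = Spec.map (CommRingCat.ofHom (algebraMap k C)) →
      (∀ a, pullback.fst qW g (c a) ∈ V) →
      ∃ φ : R →ₐ[k] C, Spec.map (CommRingCat.ofHom φ.toRingHom) ≫ hV.fromSpec = c ≫ pullback.fst qW g := by
    intro C _ _ c hcq hcV
    have hr : Set.range (c ≫ pullback.fst qW g) ⊆ Set.range hV.fromSpec := by
      rw [hV.range_fromSpec]
      rintro _ ⟨a, rfl⟩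
      exact hcV a
    obtain ⟨φ, hφ⟩ := Spec.map_surjective (IsOpenImmersion.lift hV.fromSpec (c ≫ pullback.fst qW g) hr)
    have hfac : Spec.map φ ≫ hV.fromSpec = c ≫ pullback.fst qW g := by rw [hφ, IsOpenImmersion.lift_fac]
    have hk : φ0 ≫ φ = CommRingCat.ofHom (algebraMap k C) := Spec.map_injective (by
      rw [Spec.map_comp, hφ0, reassoc_of% hfac]
      exact hcq)
    exact ⟨{ φ.hom with commutes' := fun a => congr(($hk).hom a) }, hfac⟩
  obtain ⟨φ₁, hφ₁⟩ := toChart C₁ c₁ hc₁q hc₁V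
  obtain ⟨φ₂, hφ₂⟩ := toChart C₂ c₂ hc₂q hc₂V
  let χ₃ : R →ₐ[k] k := χ₁.comp φ₁
  have hχ : χ₂.comp φ₂ = χ₃ := by
    have e : Spec.map (CommRingCat.ofHom (χ₂.comp φ₂).toRingHom) ≫ hV.fromSpec =
        Spec.map (CommRingCat.ofHom (χ₁.comp φ₁).toRingHom) ≫ hV.fromSpec := by
      rw [show CommRingCat.ofHom (χ₂.comp φ₂).toRingHom = CommRingCat.ofHom φ₂.toRingHom ≫ CommRingCat.ofHom χ₂.toRingHom from rfl,
        show CommRingCat.ofHom (χ₁.comp φ₁).toRingHom = CommRingCat.ofHom φ₁.toRingHom ≫ CommRingCat.ofHom χ₁.toRingHom from rfl,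
        Spec.map_comp, Spec.map_comp, Category.assoc, Category.assoc, hφ₁, hφ₂, reassoc_of% hc₁z, reassoc_of% hc₂z]
      exact hsame.symm
    have h1 := Spec.map_injective ((cancel_mono hV.fromSpec).1 e)
    exact AlgHom.ext fun a => congr(($h1).hom a)
  obtain ⟨B, _, _, _, _, ε, π, s, t, h₁, h₂, e₁, e₂, hdB, hh₁, hh₂, hεπ, hs₁, hs₂, he₁π, he₂π, hkε, hk₁, hk₂, hχ₁, hχ₂⟩ :=
    ZCorrSurfAlg.exists_surface hd₁ hd₂ n hd₃ χ₁ χ₂ χ₃ φ₁ φ₂ rfl hχ
      (fun m _ => IsRegularRing.isRegularLocalRing_localization m)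
      (fun m _ => IsRegularRing.isRegularLocalRing_localization m) hr₃
  haveI : IsNoetherianRing B := Algebra.FiniteType.isNoetherianRing k B
  let S := Spec (CommRingCat.of B)
  let qS : S ⟶ Spec (CommRingCat.of k) := Spec.map (CommRingCat.ofHom (algebraMap k B))
  haveI : LocallyOfFiniteType qS := by
    rw [HasRingHomProperty.Spec_iff (P := @LocallyOfFiniteType)]
    exact RingHom.finiteType_algebraMap.2 inferInstance
  haveI : IsLocallyNoetherian S := LocallyOfFiniteType.isLocallyNoetherian qS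
  let πS : S ⟶ W := Spec.map (CommRingCat.ofHom π.toRingHom) ≫ hV.fromSpec
  have hπS : πS ≫ qW = qS := by
    rw [Category.assoc, ← hφ0, ← Spec.map_comp]
    congr 1
    exact CommRingCat.hom_ext (RingHom.ext fun a => π.commutes a)
  let US : S.Opens := πS ⁻¹ᵁ U
  let FS : (US : Scheme.{u}) ⟶ Y := (πS ∣_ U) ≫ F
  have hFS : FS ≫ g = US.ι ≫ qS := by
    rw [Category.assoc, ← hF, ← Category.assoc, morphismRestrict_ι, Category.assoc, hπS]
  let u₀ : Spec (CommRingCat.of k) ⟶ S := Spec.map (CommRingCat.ofHom ε.toRingHom)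
  have hu₀ : u₀ ≫ qS = 𝟙 _ := by
    rw [← Spec.map_comp, show CommRingCat.ofHom (algebraMap k B) ≫ CommRingCat.ofHom ε.toRingHom = 𝟙 _ from
      CommRingCat.hom_ext (RingHom.ext fun a => ε.commutes a), Spec.map_id]
  let p0 := u₀ (closedPoint k)
  have hp0 : PrimeSpectrum.asIdeal (R := B) p0 = Ideal.span {s, t} := by
    rw [show p0 = _ from SpecMap_closedPoint ε.toRingHom]; exact hkε
  let sS : Γ(S, ⊤) := (Scheme.ΓSpecIso (CommRingCat.of B)).inv s
  let tS : Γ(S, ⊤) := (Scheme.ΓSpecIso (CommRingCat.of B)).inv t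
  have hSdim : topologicalKrullDim S = ((2 : ℕ) : WithBot ℕ∞) := by
    rw [show topologicalKrullDim S = ringKrullDim B from PrimeSpectrum.topologicalKrullDim_eq_ringKrullDim B, hdB]
    rfl
  have rdgen : ∀ {T : Scheme.{u}} [IsIntegral T] (qT : T ⟶ Spec (CommRingCat.of k)) [LocallyOfFiniteType qT] (m : ℕ),
      topologicalKrullDim T = m → FibDim.rd qT (genericPoint T) = m := fun {T} _ qT _ m hm => by
    haveI : IsLocallyNoetherian T := LocallyOfFiniteType.isLocallyNoetherian qT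
    exact CycLib.rd_eq_of_hasRelDim qT (SymSing.hasRelDim qT hm) (x := genericPoint T)
      (FibDim.fibMax_of_maximal qT fun z hz => hz.antisymm (genericPoint_specializes z) |>.eq)
  -- one curve on the surface
  have side : ∀ (C : Type u) [CommRing C] [IsDomain C] [IsDedekindDomain C] [Algebra k C] [Algebra.FiniteType k C]
      (χ : C →ₐ[k] k) (φ : R →ₐ[k] C) (c : Spec (CommRingCat.of C) ⟶ pullback qW g) (h : C)
      (e : B →ₐ[k] Localization.Away h) (a b : B) (z : Spec (CommRingCat.of k) ⟶ pullback qW g),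
      ringKrullDim C = 1 → χ h ≠ 0 → Spec.map (CommRingCat.ofHom χ.toRingHom) ≫ c = z →
      c ≫ pullback.fst qW g ≫ qW = Spec.map (CommRingCat.ofHom (algebraMap k C)) →
      Spec.map (CommRingCat.ofHom φ.toRingHom) ≫ hV.fromSpec = c ≫ pullback.fst qW g →
      (∀ y, c y ∈ closure (Set.range l)) → pullback.fst qW g (c (⟨⊥, Ideal.isPrime_bot⟩ : PrimeSpectrum C)) ∈ U →
      Function.Surjective e → e.comp π = (IsScalarTower.toAlgHom k C _).comp φ → RingHom.ker e = Ideal.span {a} →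
      RingHom.ker ε = Ideal.span {b, a} →
      (∀ χ' : Localization.Away h →ₐ[k] k, (∀ r, χ' (algebraMap C _ r) = χ r) → χ'.comp e = ε) →
      ∃ η : S, η ∈ US ∧ PrimeSpectrum.asIdeal (R := B) η = Ideal.span {a} ∧ η ≠ p0 ∧ η ⤳ p0 ∧ b ∉ Ideal.span {a} ∧
        (∀ v : S, v ⤳ p0 → a ∈ PrimeSpectrum.asIdeal (R := B) v → v = p0 ∨ v = η) ∧
        ∀ (J : pullback p (US.ι ≫ qS) ⟶ pullback p qS), J ≫ pullback.fst p qS = pullback.fst p (US.ι ≫ qS) →
          J ≫ pullback.snd p qS = pullback.snd p (US.ι ≫ qS) ≫ US.ι →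
          ∀ (Γ : AlgebraicCycle (pullback p (US.ι ≫ qS)) ℤ),
          (∀ ξ, Γ ξ ≠ 0 → US.ι (pullback.snd p (US.ι ≫ qS) ξ) = genericPoint S) →
          (∀ ξ, Γ ξ ≠ 0 → ∀ w', (closure {ξ} ∩ pullback.snd p (US.ι ≫ qS) ⁻¹' {w'}).Finite) →
          (∀ (u : Spec (CommRingCat.of k) ⟶ (US : Scheme.{u})) (hu : u ≫ US.ι ≫ qS = 𝟙 _),
            (∀ ξ, Γ ξ ≠ 0 → ∀ (y : ↥(pullback p (US.ι ≫ qS))) (hy : ξ ⤳ y),
              pullback.snd p (US.ι ≫ qS) y = u (closedPoint k) → ZCorrFlat.FlatAt (pullback.snd p (US.ι ≫ qS)) hy) →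
            ZCorr.IsCycleOfSymPt p d q (u ≫ FS) (AlgEqCyc.fibreFun p (US.ι ≫ qS) Γ u hu)) →
          ∀ α : ↥(pullback p qS) → ℤ, (∀ ξ, α (J ξ) = Γ ξ) → (∀ y, y ∉ Set.range J → α y = 0) →
          ∀ (a' : X → ℤ), ZCorr.IsCycleOfSymPt p d q (z ≫ pullback.snd qW g) a' → ∀ x,
            a' x = ZCorrTwo.limFun p qS (fun y => (FibDim.rd (pullback.fst p qS ≫ p) y : ℤ)) α η
              (AlgEqCyc.slice p qS u₀ hu₀ x) := by
    intro C _ _ _ _ _ χ φ c h e a b z hdC hh hcz hcq hφ hcG hcU hes heπ hke hkε' hχe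
    have h0 : h ≠ 0 := fun e' => hh (by rw [e', map_zero])
    haveI : IsDomain (Localization.Away h) :=
      IsLocalization.isDomain_localization (powers_le_nonZeroDivisors_of_noZeroDivisors h0)
    haveI : IsDedekindDomain (Localization.Away h) :=
      IsLocalization.isDedekindDomain C (powers_le_nonZeroDivisors_of_noZeroDivisors h0) _
    haveI : Algebra.FiniteType k (Localization.Away h) := Algebra.FiniteType.trans (S := C) inferInstance
      (IsLocalization.finiteType_of_monoid_fg (Submonoid.powers h) (Localization.Away h))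
    haveI : IsNoetherianRing (Localization.Away h) := Algebra.FiniteType.isNoetherianRing k _
    haveI : Algebra.Smooth k (Localization.Away h) := SmoothVarLib.smooth_of_regular k _
    let C' := Spec (CommRingCat.of (Localization.Away h))
    let qC : C' ⟶ Spec (CommRingCat.of k) := Spec.map (CommRingCat.ofHom (algebraMap k (Localization.Away h)))
    haveI : Smooth qC := by
      rw [HasRingHomProperty.Spec_iff (P := @Smooth)]
      exact RingHom.smooth_algebraMap.2 inferInstance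
    let eS : C' ⟶ S := Spec.map (CommRingCat.ofHom e.toRingHom)
    haveI : IsClosedImmersion eS := IsClosedImmersion.spec_of_surjective _ hes
    have heq : eS ≫ qS = qC := by
      rw [← Spec.map_comp]
      congr 1
      exact CommRingCat.hom_ext (RingHom.ext fun r => e.commutes r)
    let lo : C' ⟶ Spec (CommRingCat.of C) := Spec.map (CommRingCat.ofHom (algebraMap C (Localization.Away h)))
    have hloq : lo ≫ Spec.map (CommRingCat.ofHom (algebraMap k C)) = qC := by
      rw [← Spec.map_comp]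
      congr 1
    have heW : eS ≫ πS = lo ≫ c ≫ pullback.fst qW g := by
      rw [← hφ, ← Category.assoc, ← Category.assoc, ← Spec.map_comp, ← Spec.map_comp]
      congr 2
      exact CommRingCat.hom_ext (RingHom.ext fun r => DFunLike.congr_fun heπ r)
    have hgen : genericPoint C' = (⟨⊥, Ideal.isPrime_bot⟩ : PrimeSpectrum (Localization.Away h)) :=
      genericPoint_eq_bot_of_affine (CommRingCat.of (Localization.Away h))
    let η : S := eS (genericPoint C')
    have hηid : PrimeSpectrum.asIdeal (R := B) η = Ideal.span {a} := by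
      show PrimeSpectrum.asIdeal (R := B) (eS (genericPoint C')) = _
      rw [hgen, SpecMap_apply]
      show (⊥ : Ideal (Localization.Away h)).comap e.toRingHom = _
      rw [← RingHom.ker_eq_comap_bot]
      exact hke
    have hηU : η ∈ US := by
      show πS (eS (genericPoint C')) ∈ U
      have e0 : lo (genericPoint C') = (⟨⊥, Ideal.isPrime_bot⟩ : PrimeSpectrum C) := by
        rw [hgen]
        refine PrimeSpectrum.ext ?_
        exact (RingHom.ker_eq_comap_bot _).symm.trans ((RingHom.injective_iff_ker_eq_bot _).1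
          (IsLocalization.injective (Localization.Away h) (powers_le_nonZeroDivisors_of_noZeroDivisors h0)))
      rw [← Scheme.Hom.comp_apply, heW, Scheme.Hom.comp_apply, Scheme.Hom.comp_apply, e0]
      exact hcU
    obtain ⟨χ', hχ'⟩ := ZCorrSurfAlg.exists_away_lift h χ (IsUnit.mk0 _ hh)
    have hχ'e : χ'.comp e = ε := hχe χ' fun r => DFunLike.congr_fun hχ' r
    let u : Spec (CommRingCat.of k) ⟶ C' := Spec.map (CommRingCat.ofHom χ'.toRingHom)
    have hu : u ≫ qC = 𝟙 _ := by
      rw [← Spec.map_comp, show CommRingCat.ofHom (algebraMap k (Localization.Away h)) ≫ CommRingCat.ofHom χ'.toRingHom = 𝟙 _ from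
        CommRingCat.hom_ext (RingHom.ext fun r => χ'.commutes r), Spec.map_id]
    have hue : u ≫ eS = u₀ := by
      rw [← Spec.map_comp]
      congr 1
      exact CommRingCat.hom_ext (RingHom.ext fun r => DFunLike.congr_fun hχ'e r)
    have hdC' : topologicalKrullDim C' = 1 := by
      rw [show topologicalKrullDim C' = ringKrullDim (Localization.Away h) from PrimeSpectrum.topologicalKrullDim_eq_ringKrullDim _]
      simpa using away_dim χ h hh 1 (by simpa using hdC)
    have hrd : FibDim.rd qS η = 1 := by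
      have h1 := CycLib.rd_comp eS qS (genericPoint C')
      rw [heq, rdgen qC 1 (by simpa using hdC'), FibDim.rd_eq_zero_of_quasiFinite eS, add_zero] at h1
      exact h1.symm
    have hsp : η ⤳ p0 := by
      have : genericPoint C' ⤳ u (closedPoint k) := genericPoint_specializes _
      have h1 := this.map eS.continuous
      rwa [← Scheme.Hom.comp_apply, hue] at h1
    have hne : η ≠ p0 := fun e' => by
      have h1 := ((pointEquivClosedPoint qS) ⟨u₀, hu₀⟩).2
      rw [mem_closedPoints_iff, pointEquivClosedPoint_apply_coe] at h1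
      have := DeltaFun13.rd_eq_zero_of_closed qS (z := η) (e'.symm ▸ h1)
      rw [this] at hrd
      exact zero_ne_one hrd
    have hb : b ∉ Ideal.span {a} := fun hb => hne (PrimeSpectrum.ext (by
      rw [hηid, show PrimeSpectrum.asIdeal (R := B) p0 = RingHom.ker ε by
        rw [show p0 = _ from SpecMap_closedPoint ε.toRingHom]; rfl, hkε', Ideal.span_insert,
        sup_eq_right.2 ((Ideal.span_singleton_le_iff_mem (I := Ideal.span {a})).2 hb)]))
    refine ⟨η, hηU, hηid, hne, hsp, hb, fun v hv hav => ?_, ?_⟩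
    · have hker : RingHom.ker e.toRingHom ≤ PrimeSpectrum.asIdeal (R := B) v := by
        show RingHom.ker e ≤ _
        rw [hke]
        exact (Ideal.span_singleton_le_iff_mem _).2 hav
      haveI := PrimeSpectrum.isPrime (R := B) v
      haveI hP : ((PrimeSpectrum.asIdeal (R := B) v).map e.toRingHom).IsPrime :=
        Ideal.map_isPrime_of_surjective hes hker
      have hback : ((PrimeSpectrum.asIdeal (R := B) v).map e.toRingHom).comap e.toRingHom = PrimeSpectrum.asIdeal (R := B) v := by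
        rw [Ideal.comap_map_of_surjective e.toRingHom hes, ← RingHom.ker_eq_comap_bot, sup_eq_left.2 hker]
      by_cases h' : (PrimeSpectrum.asIdeal (R := B) v).map e.toRingHom = ⊥
      · right
        refine PrimeSpectrum.ext ?_
        rw [hηid, ← hke, ← hback, h', ← RingHom.ker_eq_comap_bot]
        rfl
      · left
        haveI := hP.isMaximal h'
        haveI hmax : (PrimeSpectrum.asIdeal (R := B) v).IsMaximal := by
          rw [← hback]
          exact Ideal.comap_isMaximal_of_surjective _ hes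
        refine PrimeSpectrum.ext (hmax.eq_of_le (PrimeSpectrum.isPrime (R := B) p0).ne_top ?_)
        exact (PrimeSpectrum.le_iff_specializes (R := B) v p0).2 hv
    intro J hJ₁ hJ₂ Γ hgenΓ hfin hfib α hα hα' a' ha' x
    let FC : C' ⟶ Y := (lo ≫ c) ≫ pullback.snd qW g
    have hFC : FC ≫ g = qC := by
      rw [Category.assoc, ← pullback.condition, Category.assoc, hcq, hloq]
    have hcompat : (eS ∣_ US) ≫ FS = (eS ⁻¹ᵁ US).ι ≫ FC := by
      haveI := hlimm
      let cc := (eS ⁻¹ᵁ US).ι ≫ lo ≫ c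
      have hr : Set.range cc ⊆ Set.range l := by
        rintro _ ⟨y, rfl⟩
        refine hcl _ (hcG _) ?_
        have h1 := congr(($heW).base ((eS ⁻¹ᵁ US).ι y))
        show pullback.fst qW g (c (lo ((eS ⁻¹ᵁ US).ι y))) ∈ U
        have h2 : (eS ≫ πS) ((eS ⁻¹ᵁ US).ι y) ∈ U := y.2
        rw [heW] at h2
        exact h2
      haveI : IsReduced (eS ⁻¹ᵁ US : Scheme.{u}) := isReduced_of_isOpenImmersion (eS ⁻¹ᵁ US).ι
      obtain ⟨γ, hγ⟩ := RedSub.exists_lift cc l hr
      have hγU : γ ≫ U.ι = (eS ⁻¹ᵁ US).ι ≫ eS ≫ πS := by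
        rw [heW, show U.ι = l ≫ pullback.fst qW g from (pullback.lift_fst _ _ _).symm, reassoc_of% hγ]
        rfl
      have hγF : γ ≫ F = (eS ⁻¹ᵁ US).ι ≫ FC := by
        rw [show F = l ≫ pullback.snd qW g from (pullback.lift_snd _ _ _).symm, reassoc_of% hγ]
        rfl
      have hγe : γ = (eS ∣_ US) ≫ (πS ∣_ U) := by
        rw [← cancel_mono U.ι, hγU, Category.assoc, morphismRestrict_ι]
        exact ((reassoc_of% (morphismRestrict_ι eS US)) πS).symm
      rw [← hγF, hγe, Category.assoc]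
    have hue' : (u ≫ eS) ≫ qS = 𝟙 _ := by rw [hue, hu₀]
    have hpt : u ≫ FC = z ≫ pullback.snd qW g := by
      rw [← hcz, ← Category.assoc, ← Category.assoc, ← Spec.map_comp]
      congr 3
      exact CommRingCat.hom_ext (RingHom.ext fun r => DFunLike.congr_fun hχ' r)
    have hmax : maximalIdeal (S.presheaf.stalk η) = Ideal.span {S.presheaf.germ ⊤ η trivial
        ((Scheme.ΓSpecIso (CommRingCat.of B)).inv a)} := by
      rw [maximal_eq_span η {a} hηid, Set.image_singleton]
    have hlim := ZCorrLimit.limFun_eq_cycle p qS qC hAF hq US FS hFS Γ hgenΓ hfin hfib J hJ₁ hJ₂ α hα hα' hdC' eS heq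
      hηU hrd _ hmax FC hFC hcompat u hu hue' a' (by rw [hpt]; exact ha') x
    rw [hlim]
    congr 1
    have key : ∀ (u' : Spec (CommRingCat.of k) ⟶ S) (h : u' ≫ qS = 𝟙 _), u' = u₀ →
        AlgEqCyc.slice p qS u' h x = AlgEqCyc.slice p qS u₀ hu₀ x := by
      rintro _ _ rfl; rfl
    exact key _ _ hue
  obtain ⟨η₁, hη₁U, hη₁id, hη₁ne, hη₁sp, hsη, hV₁, hlim₁⟩ := side C₁ χ₁ φ₁ c₁ h₁ e₁ t s z₁ hd₁ hh₁ hc₁z hc₁q hφ₁ hc₁G hc₁U
    hs₁ he₁π hk₁ hkε hχ₁
  obtain ⟨η₂, hη₂U, hη₂id, hη₂ne, hη₂sp, htη, hV₂, hlim₂⟩ := side C₂ χ₂ φ₂ c₂ h₂ e₂ s t z₂ hd₂ hh₂ hc₂z hc₂q hφ₂ hc₂G hc₂U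
    hs₂ he₂π hk₂ (by rw [hkε, Set.pair_comm]) hχ₂
  -- the family
  haveI : AlgebraicGeometry.IsNoetherian S := {}
  haveI : Nonempty (US : Scheme.{u}) := ⟨⟨η₁, hη₁U⟩⟩
  haveI : IsIntegral (US : Scheme.{u}) := isIntegral_of_isOpenImmersion US.ι
  haveI : QuasiCompact US.ι := inferInstance
  let qU := US.ι ≫ qS
  haveI : LocallyOfFiniteType qU := inferInstance
  haveI : QuasiCompact qU := inferInstance
  have hgenS : FibDim.rd qS (genericPoint S) = 2 := rdgen qS 2 hSdim
  have hrdU : FibDim.rd qU (genericPoint (US : Scheme.{u})) = 2 := by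
    have h := CycLib.rd_comp US.ι qS (genericPoint (US : Scheme.{u}))
    rw [genericPoint_eq_of_isOpenImmersion, FibDim.rd_eq_zero_of_quasiFinite US.ι, hgenS, add_zero] at h
    exact h
  have hUdim : topologicalKrullDim (US : Scheme.{u}) = ((2 : ℕ) : WithBot ℕ∞) := by
    rw [VarDim.topologicalKrullDim_eq_deg_genericPoint qU]
    rw [deg_eq_rd, hrdU]
    rfl
  obtain ⟨Γ, hΓZ, -, hfin, hfib⟩ := ZCorrGraph.exists_cycle p qU FS hAF hq hFS
    (fun z => (FibDim.rd (pullback.fst p qU ≫ p) z : ℤ)) (CycLib.deltaCompat_rd _) 2 hUdim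
  have hΓdim : ∀ ξ, Γ ξ ≠ 0 → FibDim.rd (pullback.fst p qU ≫ p) ξ = 2 := fun ξ hξ => by
    by_contra hne
    exact hξ (hΓZ ξ fun h => hne (by simp only at h; exact_mod_cast h))
  have hΓgen : ∀ ξ, Γ ξ ≠ 0 → US.ι (pullback.snd p qU ξ) = genericPoint S := fun ξ hξ => by
    have h0 := ZCorrFlat.rd_eq_zero (pullback.snd p qU) (specializes_refl ξ) (hfin ξ hξ)
    have h1 := CycLib.rd_comp (pullback.snd p qU) qU ξ
    rw [← pullback.condition, hΓdim ξ hξ, h0, add_zero] at h1
    have h2 := CycLib.rd_comp US.ι qS (pullback.snd p qU ξ)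
    rw [← h1, FibDim.rd_eq_zero_of_quasiFinite US.ι, add_zero] at h2
    by_contra hne
    have hd := (SetupLFT.isSetup qS (CycLib.isSetup_spec_field k) (CycLib.deltaCompat_rd qS)).2.2
    have h3 := CycLib.delta_lt hd (genericPoint_specializes (US.ι (pullback.snd p qU ξ))) (Ne.symm hne)
    rw [hgenS, ← h2] at h3
    omega
  let J : pullback p qU ⟶ pullback p qS := pullback.map p qU p qS (𝟙 X) US.ι (𝟙 _) (by simp) (by simp [qU])
  have hJ₁ : J ≫ pullback.fst p qS = pullback.fst p qU := by simp [J]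
  have hJ₂ : J ≫ pullback.snd p qS = pullback.snd p qU ≫ US.ι := by simp [J]
  have hsq : IsPullback J (pullback.snd p qU) (pullback.snd p qS) US.ι := by
    refine IsPullback.of_right ?_ hJ₂ (IsPullback.of_hasPullback p qS)
    rw [hJ₁]
    exact IsPullback.of_hasPullback p qU
  haveI : IsOpenImmersion J := MorphismProperty.of_isPullback hsq.flip (inferInstance : IsOpenImmersion US.ι)
  let α : ↥(pullback p qS) → ℤ := Function.extend J (⇑Γ) 0
  have hα : ∀ ξ, α (J ξ) = Γ ξ := fun ξ => J.isOpenEmbedding.injective.extend_apply _ _ ξ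
  have hα' : ∀ y, y ∉ Set.range J → α y = 0 := fun y hy => Function.extend_apply' _ _ _ hy
  haveI : IsLocallyNoetherian (pullback p qS) := LocallyOfFiniteType.isLocallyNoetherian (pullback.snd p qS)
  let δ : ↥(pullback p qS) → ℤ := fun y => (FibDim.rd (pullback.fst p qS ≫ p) y : ℤ)
  have hd : Cyc.IsDimFun (pullback p qS) δ :=
    (SetupLFT.isSetup (pullback.fst p qS ≫ p) (CycLib.isSetup_spec_field k) (CycLib.deltaCompat_rd _)).2.2
  have hαsupp : ∀ y, α y ≠ 0 → ∃ ξ, J ξ = y ∧ Γ ξ ≠ 0 := fun y hy => by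
    obtain ⟨ξ, rfl⟩ : y ∈ Set.range J := by_contra fun hn => hy (hα' y hn)
    exact ⟨ξ, rfl, hα ξ ▸ hy⟩
  have hα2 : ∀ y, δ y ≠ 2 → α y = 0 := fun y hy => by_contra fun hne => by
    obtain ⟨ξ, rfl, hξ⟩ := hαsupp y hne
    have h4 := CycLib.rd_comp J (pullback.fst p qS ≫ p) ξ
    rw [reassoc_of% hJ₁, hΓdim ξ hξ, FibDim.rd_eq_zero_of_quasiFinite J, add_zero] at h4
    exact hy (by show (FibDim.rd (pullback.fst p qS ≫ p) (J ξ) : ℤ) = 2; rw [← h4]; rfl)
  have hδsl : ∀ x, δ (AlgEqCyc.slice p qS u₀ hu₀ x) = δX x := fun x => by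
    haveI := ZCorrSlice.isClosedImmersion_slice p qS u₀ hu₀
    have h4 := CycLib.rd_comp (AlgEqCyc.slice p qS u₀ hu₀) (pullback.fst p qS ≫ p) x
    rw [reassoc_of% (ZCorrSlice.slice_fst p qS u₀ hu₀), FibDim.rd_eq_zero_of_quasiFinite (AlgEqCyc.slice p qS u₀ hu₀), add_zero] at h4
    rw [CycLib.deltaCompat_eq p hδX x, zero_add]
    show (FibDim.rd (pullback.fst p qS ≫ p) (AlgEqCyc.slice p qS u₀ hu₀ x) : ℤ) = _
    rw [← h4]
  have hclosed : ∀ (y : Spec (CommRingCat.of k) ⟶ Y) (a' : X → ℤ), ZCorr.IsCycleOfSymPt p d q y a' → y ≫ g = 𝟙 _ →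
      ∀ x, δX x ≠ 0 → a' x = 0 := by
    rintro y a' ⟨s', hs', has⟩ hyg x hx
    rw [has]
    by_contra hne
    have hne' := (Nat.card_ne_zero.1 (by exact_mod_cast hne)).1
    obtain ⟨i, hi⟩ := hne'
    apply hx
    rw [CycLib.deltaCompat_eq p hδX x, zero_add]
    have hsp' : (s' ≫ WidePullback.π (fun _ : Fin d => p) i) ≫ p = 𝟙 _ := by
      rw [Category.assoc, WidePullback.π_arrow, ← hq.over, reassoc_of% hs', hyg]
    have h1 := ((pointEquivClosedPoint p) ⟨_, hsp'⟩).2
    rw [mem_closedPoints_iff, pointEquivClosedPoint_apply_coe] at h1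
    rw [← hi, DeltaFun13.rd_eq_zero_of_closed p h1]
    rfl
  have hres : ∀ (v : S) (b : B), S.residue v (S.presheaf.germ ⊤ v trivial ((Scheme.ΓSpecIso (CommRingCat.of B)).inv b)) = 0 ↔
      b ∈ PrimeSpectrum.asIdeal (R := B) v := residue_zero_iff
  have hgen0 : ∀ b : B, b ∈ PrimeSpectrum.asIdeal (R := B) (genericPoint S) → b = 0 := fun b hb => by
    rw [show genericPoint S = (⟨⊥, Ideal.isPrime_bot⟩ : PrimeSpectrum B) from
      genericPoint_eq_bot_of_affine (CommRingCat.of B)] at hb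
    exact hb
  refine ZCorrTwo.ratEquiv_limits p qS hd hα2 ?_ (fun y hy => ?_) sS tS u₀ hu₀ η₁ η₂ ?_ ?_ ?_ ?_ ?_ ?_ ?_ ?_ ?_ ?_ δX hδsl α₁ α₂
    (hclosed _ _ hα₁ (by rw [Category.assoc, ← pullback.condition]; exact hz₁))
    (hclosed _ _ hα₂ (by rw [Category.assoc, ← pullback.condition]; exact hz₂))
    (fun x _ => hlim₁ J hJ₁ hJ₂ Γ hΓgen hfin hfib α hα hα' _ hα₁ x)
    (fun x _ => hlim₂ J hJ₁ hJ₂ Γ hΓgen hfin hfib α hα hα' _ hα₂ x)
  · refine ((ZCorrSym.finite_support p qU Γ).image J).subset fun y hy => ?_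
    obtain ⟨ξ, rfl, hξ⟩ := hαsupp y hy
    exact ⟨ξ, hξ, rfl⟩
  · obtain ⟨ξ, rfl, hξ⟩ := hαsupp y hy
    exact (congr(($hJ₂).base ξ)).trans (hΓgen ξ hξ)
  · intro h
    have h0 := hgen0 t ((hres _ t).1 h)
    exact htη (by rw [h0]; exact Ideal.zero_mem _)
  · intro h
    have h0 := hgen0 s ((hres _ s).1 h)
    exact hsη (by rw [h0]; exact Ideal.zero_mem _)
  · rw [maximal_eq_span η₁ {t} hη₁id, Set.image_singleton]
  · rw [maximal_eq_span η₂ {s} hη₂id, Set.image_singleton]
  · rw [maximal_eq_span p0 {s, t} hp0, Set.image_insert_eq, Set.image_singleton]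
  · intro h
    have := (hres _ s).1 h
    rw [hη₁id] at this
    exact hsη this
  · intro h
    have := (hres _ t).1 h
    rw [hη₂id] at this
    exact htη this
  · exact fun v hv h => hV₁ v hv ((hres v t).1 h)
  · exact fun v hv h => hV₂ v hv ((hres v s).1 h)
  · intro v ht' hs'
    refine PrimeSpectrum.ext ?_
    have hle : PrimeSpectrum.asIdeal (R := B) p0 ≤ PrimeSpectrum.asIdeal (R := B) v := by
      rw [hp0, Ideal.span_le, Set.insert_subset_iff, Set.singleton_subset_iff]
      exact ⟨(hres v s).1 hs', (hres v t).1 ht'⟩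
    have hm : (PrimeSpectrum.asIdeal (R := B) p0).IsMaximal := by
      rw [show p0 = _ from SpecMap_closedPoint ε.toRingHom]
      exact RingHom.ker_isMaximal_of_surjective ε.toRingHom fun c => ⟨algebraMap k B c, ε.commutes c⟩
    exact (hm.eq_of_le (PrimeSpectrum.isPrime (R := B) v).ne_top hle).symm

end Groth.Agent.H23.ZCorrGraphClosure
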