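import Groth.Agent.H23.ZCorrP1
import Groth.Agent.H23.ZCorrGraph
import Groth.Agent.H23.ProjBd.Ops
import Groth.Agent.H23.Chern.Rank
import Groth.Agent.S1900
import Groth.Agent.S1901
import Groth.Agent.S10829
import Groth.Agent.H23.QuotUH

/-!
Rational equivalence of effective zero-cycles through morphisms of the projective line to symmetric powers.
-/

set_option autoImplicit false
set_option linter.style.haveILetI false
set_option backward.isDefEq.respectTransparency false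
set_option backward.isDefEq.respectTransparency.types false

universe u

open CategoryTheory CategoryTheory.Limits AlgebraicGeometry TopologicalSpace IsLocalRing

namespace Groth.Agent.H23.ZCorrRat

open Groth.Agent SymProd

variable {k : Type u} [Field k] [IsAlgClosed k] {X : Scheme.{u}} (p : X ⟶ Spec (CommRingCat.of k)) [IsProper p]

/-- A function with finite support as a cycle. -/
noncomputable def ofFinite (f : X → ℤ) (hf : (Function.support f).Finite) : AlgebraicCycle X ℤ where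
  toFun := f
  supportWithinDomain' := fun _ _ => trivial
  supportLocallyFiniteWithinDomain' := fun _ _ => ⟨Set.univ, Filter.univ_mem, by rwa [Set.univ_inter]⟩

omit [IsAlgClosed k] [IsProper p] in
@[simp] theorem ofFinite_apply (f : X → ℤ) (hf : (Function.support f).Finite) (x : X) : ofFinite f hf x = f x := rfl

variable [IsIntegral (CohB1.ProjSpace 1 k)]
  (u : Spec (CommRingCat.of k) ⟶ CohB1.ProjSpace 1 k) (hu : u ≫ CohB1.ProjSpace.toSpec 1 k = 𝟙 _)

/-- The multiplicity function of a component. -/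
local notation "μ" => ZCorrComp.mult p (CohB1.ProjSpace.toSpec 1 k)

omit [IsAlgClosed k] [IsProper p] in
include hu in
theorem apply_ne_generic : u (closedPoint k) ≠ genericPoint ↥(CohB1.ProjSpace 1 k) := by
  haveI : IsProper (CohB1.ProjSpace.toSpec 1 k) := PnCoh.Chow.isProper_toSpec 1 k
  intro h
  have hc : IsClosed ({u (closedPoint k)} : Set (CohB1.ProjSpace 1 k)) := by
    haveI : IsClosedImmersion (u ≫ CohB1.ProjSpace.toSpec 1 k) := by rw [hu]; infer_instance
    haveI : IsClosedImmersion u := IsClosedImmersion.of_comp u (CohB1.ProjSpace.toSpec 1 k)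
    have e : Set.range u = {u (closedPoint k)} := by
      refine Set.eq_singleton_iff_unique_mem.2 ⟨⟨_, rfl⟩, ?_⟩
      rintro _ ⟨y, rfl⟩
      rw [@Subsingleton.elim _ (inferInstanceAs (Subsingleton (PrimeSpectrum k))) y (closedPoint k)]
    exact e ▸ u.isClosedEmbedding.isClosed_range
  rw [h] at hc
  have h0 := DeltaFun13.rd_eq_zero_of_closed (CohB1.ProjSpace.toSpec 1 k) hc
  rw [ZCorrP1.rd_line k] at h0
  exact one_ne_zero h0

omit [IsAlgClosed k] in
theorem snd_slice (x : X) :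
    pullback.snd p (CohB1.ProjSpace.toSpec 1 k) (AlgEqCyc.slice p _ u hu x) = u (closedPoint k) := by
  rw [← Scheme.Hom.comp_apply, ZCorrSlice.slice_snd, Scheme.Hom.comp_apply,
    @Subsingleton.elim _ (inferInstanceAs (Subsingleton (PrimeSpectrum k))) (p x) (closedPoint k)]

/-- The fibre cycle of a component dominating the line lives on the closed points. -/
theorem mult_eq_zero (δ : X → ℤ) (hδ : Cyc.DeltaCompat p δ (fun _ => 0))
    (ξ : ↥(pullback p (CohB1.ProjSpace.toSpec 1 k)))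
    (hgen : pullback.snd p (CohB1.ProjSpace.toSpec 1 k) ξ = genericPoint _)
    (hdim : FibDim.rd (pullback.fst p (CohB1.ProjSpace.toSpec 1 k) ≫ p) ξ = 1) (x : X) (hx : δ x ≠ 0) :
    μ u hu ξ x = 0 := by
  rw [ZCorrComp.mult, dif_neg]
  intro hsp
  haveI : IsProper (CohB1.ProjSpace.toSpec 1 k) := PnCoh.Chow.isProper_toSpec 1 k
  haveI := ZCorrSlice.isClosedImmersion_slice p (CohB1.ProjSpace.toSpec 1 k) u hu
  haveI : JacobsonSpace ↥(pullback p (CohB1.ProjSpace.toSpec 1 k)) :=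
    LocallyOfFiniteType.jacobsonSpace (pullback.fst p (CohB1.ProjSpace.toSpec 1 k) ≫ p)
  have hcl : IsClosed (closure {ξ} ∩ pullback.snd p (CohB1.ProjSpace.toSpec 1 k) ⁻¹' {u (closedPoint k)}) :=
    isClosed_closure.inter ((ZCorrP1.isClosed_of_ne_generic _ (apply_ne_generic u hu)).preimage
      (pullback.snd p _).continuous)
  have h := mem_closedPoints_iff.1 (FibreVanish.mem_closedPoints_of_finite hcl
    (ZCorrP1.finite_fibres p ξ hgen hdim _) ⟨specializes_iff_mem_closure.1 hsp, snd_slice p u hu x⟩)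
  have h' : IsClosed ({x} : Set X) := by
    have e : ({x} : Set X) = AlgEqCyc.slice p _ u hu ⁻¹' {AlgEqCyc.slice p _ u hu x} := by
      ext y
      exact ⟨fun hy => by rw [hy]; rfl, fun hy => (AlgEqCyc.slice p _ u hu).isClosedEmbedding.injective hy⟩
    rw [e]
    exact h.preimage (AlgEqCyc.slice p _ u hu).continuous
  exact hx (RatLine.delta_closed p hδ h')

/-- A point of the slice lies over the rational point. -/
theorem mult_eq_zero_of_vertical (ξ : ↥(pullback p (CohB1.ProjSpace.toSpec 1 k)))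
    (hgen : pullback.snd p (CohB1.ProjSpace.toSpec 1 k) ξ ≠ genericPoint _)
    (hξ : ξ ∉ Set.range (AlgEqCyc.slice p (CohB1.ProjSpace.toSpec 1 k) u hu)) (x : X) :
    μ u hu ξ x = 0 := by
  rw [ZCorrComp.mult, dif_neg]
  intro hsp
  have h1 := hsp.map (pullback.snd p (CohB1.ProjSpace.toSpec 1 k)).continuous
  have h2 : pullback.snd p (CohB1.ProjSpace.toSpec 1 k) ξ = u (closedPoint k) := by
    have h3 := (ZCorrP1.isClosed_of_ne_generic _ hgen).stableUnderSpecialization h1 rfl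
    rw [← snd_slice p u hu x]
    exact (Set.mem_singleton_iff.1 h3).symm
  obtain ⟨z, hz, -⟩ := Scheme.exists_preimage_of_isPullback
    (ZCorrSlice.isPullback_slice p (CohB1.ProjSpace.toSpec 1 k) u hu) ξ (closedPoint k) h2
  exact hξ ⟨z, hz⟩

theorem finite_support_mult (ξ : ↥(pullback p (CohB1.ProjSpace.toSpec 1 k)))
    (hgen : pullback.snd p (CohB1.ProjSpace.toSpec 1 k) ξ = genericPoint _)
    (hdim : FibDim.rd (pullback.fst p (CohB1.ProjSpace.toSpec 1 k) ≫ p) ξ = 1) :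
    (Function.support fun x => (μ u hu ξ x : ℤ)).Finite := by
  refine ((ZCorrP1.finite_fibres p ξ hgen hdim (u (closedPoint k))).image
    (pullback.fst p (CohB1.ProjSpace.toSpec 1 k))).subset fun x hx => ?_
  refine ⟨AlgEqCyc.slice p _ u hu x, ⟨specializes_iff_mem_closure.1 ?_, snd_slice p u hu x⟩, ?_⟩
  · by_contra h
    exact hx (by simp [ZCorrComp.mult, dif_neg h])
  · rw [← Scheme.Hom.comp_apply, ZCorrSlice.slice_fst]
    rfl

omit u hu in
/-- A closed subscheme of the line over the scheme and its fibres, read in a frame. -/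
theorem subschemeFun_sect (t : Spec (CommRingCat.of k) ⟶ CohB1.ProjSpace 1 k)
    (ht : t ≫ CohB1.ProjSpace.toSpec 1 k = 𝟙 _) (i : Fin (1 + 1))
    (e : CohB1.ProjSpaceOver 1 X ≅ pullback p (CohB1.ProjSpace.toSpec 1 k))
    (he : P1.sect X i ≫ e.hom = AlgEqCyc.slice p _ t ht) {Z : Scheme.{u}} [IsIntegral Z]
    (ι : Z ⟶ CohB1.ProjSpaceOver 1 X) [IsClosedImmersion ι] (δ : X → ℤ) (x : X) (hx : δ x = 0) :
    Cyc.subschemeFun δ 0 (pullback.snd ι (P1.sect X i)) x = (μ t ht (e.hom (ι (genericPoint Z))) x : ℤ) := by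
  haveI : IsProper (CohB1.ProjSpace.toSpec 1 k) := PnCoh.Chow.isProper_toSpec 1 k
  have h : IsPullback (pullback.fst (AlgEqCyc.slice p _ t ht) (ι ≫ e.hom))
      (pullback.snd (AlgEqCyc.slice p _ t ht) (ι ≫ e.hom)) (P1.sect X i) ι :=
    IsPullback.of_iso (IsPullback.of_hasPullback _ _) (Iso.refl _) (Iso.refl _) (Iso.refl _) e.symm
      (by simp) (by simp) (by simp [← he]) (by simp)
  rw [← ZCorrSlice.subschemeFun_iso_comp h.flip.isoPullback.hom (pullback.snd ι (P1.sect X i)) δ 0,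
    h.flip.isoPullback_hom_snd, ZCorrSlice.subschemeFun_eq_mult p _ t ht (ι ≫ e.hom) δ x hx, Scheme.Hom.comp_apply]

omit u hu in
/-- The two fibres of a component are rationally equivalent. -/
theorem ratEquiv_component (δ : X → ℤ) (hδ : Cyc.DeltaCompat p δ (fun _ => 0))
    (ξ : ↥(pullback p (CohB1.ProjSpace.toSpec 1 k)))
    (hgen : pullback.snd p (CohB1.ProjSpace.toSpec 1 k) ξ = genericPoint _)
    (hdim : FibDim.rd (pullback.fst p (CohB1.ProjSpace.toSpec 1 k) ≫ p) ξ = 1)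
    (t : Fin (1 + 1) → (Spec (CommRingCat.of k) ⟶ CohB1.ProjSpace 1 k))
    (ht : ∀ i, t i ≫ CohB1.ProjSpace.toSpec 1 k = 𝟙 _) (ht' : t 0 ≠ t 1) :
    Cyc.RatEquiv δ 0 (ofFinite _ (finite_support_mult p (t 0) (ht 0) ξ hgen hdim))
      (ofFinite _ (finite_support_mult p (t 1) (ht 1) ξ hgen hdim)) := by
  obtain ⟨e, hef, hes⟩ := ZCorrP1.exists_iso_prod p t ht ht'
  obtain ⟨Z, iota, hc, hi, -, hξ⟩ := ConsPropLib.exists_integral_closure ξ
  haveI := hc
  haveI := hi
  let ι := iota ≫ e.inv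
  let δP : ↥(CohB1.ProjSpaceOver 1 X) → ℤ := fun z => (FibDim.rd (CohB1.ProjSpaceOver.toBase 1 X ≫ p) z : ℤ)
  have hP := CycLib.deltaCompat_of_comp (CohB1.ProjSpaceOver.toBase 1 X) p hδ _ rfl
  have hιe : e.hom (ι (genericPoint Z)) = ξ := by
    simp only [ι, Scheme.Hom.comp_apply]
    rw [← Scheme.Hom.comp_apply, e.inv_hom_id]
    exact hξ
  have hW : δP (ι (genericPoint Z)) = 0 + 1 := by
    have h1 := CycLib.rd_comp e.hom (pullback.fst p (CohB1.ProjSpace.toSpec 1 k) ≫ p) (ι (genericPoint Z))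
    rw [hιe, hdim, FibDim.rd_eq_zero_of_quasiFinite e.hom, ← Category.assoc, hef] at h1
    simp only [δP]
    omega
  have hne : ∀ i, ι (genericPoint Z) ∉ Set.range (P1.sect X i) := by
    rintro i ⟨x, hx⟩
    refine apply_ne_generic (t i) (ht i) ?_
    rw [← snd_slice p (t i) (ht i) x, ← hgen, ← hιe, ← hx,
      show e.hom (P1.sect X i x) = AlgEqCyc.slice p _ (t i) (ht i) x from congr(($(hes i)).base x)]
  have hfun : ∀ i, ⇑(ofFinite _ (finite_support_mult p (t i) (ht i) ξ hgen hdim)) =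
      Cyc.subschemeFun δ 0 (pullback.snd ι (P1.sect X i)) := fun i => funext fun x => by
    by_cases hx : δ x = 0
    · rw [ofFinite_apply, subschemeFun_sect p (t i) (ht i) i e (hes i) ι δ x hx, hιe]
    · rw [ofFinite_apply, mult_eq_zero p (t i) (ht i) δ hδ ξ hgen hdim x hx, Cyc.subschemeFun, if_neg hx]
      rfl
  exact S1900.result X δ (SetupLFT.isSetup p (CycLib.isSetup_spec_field k) hδ) δP hP 0 Z ι hW (hne 0) (hne 1) _ _
    (hfun 0) (hfun 1)

omit u hu in
/-- Any two fibre cycles of a family over the line are rationally equivalent. -/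
theorem ratEquiv_fibres (δ : X → ℤ) (hδ : Cyc.DeltaCompat p δ (fun _ => 0))
    (Γ : AlgebraicCycle (pullback p (CohB1.ProjSpace.toSpec 1 k)) ℤ)
    (S : Finset ↥(pullback p (CohB1.ProjSpace.toSpec 1 k))) (hS : ∀ s, Γ s ≠ 0 → s ∈ S)
    (hgen : ∀ s, Γ s ≠ 0 → pullback.snd p (CohB1.ProjSpace.toSpec 1 k) s = genericPoint _)
    (hdim : ∀ s, Γ s ≠ 0 → FibDim.rd (pullback.fst p (CohB1.ProjSpace.toSpec 1 k) ≫ p) s = 1)
    (t₀ t₁ : Spec (CommRingCat.of k) ⟶ CohB1.ProjSpace 1 k) (h₀ : t₀ ≫ CohB1.ProjSpace.toSpec 1 k = 𝟙 _)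
    (h₁ : t₁ ≫ CohB1.ProjSpace.toSpec 1 k = 𝟙 _) (a b : AlgebraicCycle X ℤ)
    (ha : ⇑a = AlgEqCyc.fibreFun p _ Γ t₀ h₀) (hb : ⇑b = AlgEqCyc.fibreFun p _ Γ t₁ h₁) :
    Cyc.RatEquiv δ 0 a b := by
  classical
  have hX : Cyc.IsSetup X δ := SetupLFT.isSetup p (CycLib.isSetup_spec_field k) hδ
  by_cases hne : t₀ = t₁
  · subst hne
    exact Chern.ratEquiv_of_eq (DFunLike.coe_injective (ha.trans hb.symm))
  haveI := hX.1
  let t : Fin (1 + 1) → (Spec (CommRingCat.of k) ⟶ CohB1.ProjSpace 1 k) := ![t₀, t₁]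
  have ht : ∀ i, t i ≫ CohB1.ProjSpace.toSpec 1 k = 𝟙 _ := fun i => by fin_cases i <;> assumption
  let T := {s // s ∈ S ∧ Γ s ≠ 0}
  haveI : Fintype T := (Set.Finite.subset S.finite_toSet fun s hs => hs.1 :
    Set.Finite {s | s ∈ S ∧ Γ s ≠ 0}).fintype
  let A : T → Fin (1 + 1) → AlgebraicCycle X ℤ := fun s i =>
    ofFinite _ (finite_support_mult p (t i) (ht i) s.1 (hgen _ s.2.2) (hdim _ s.2.2))
  have hA : ∀ (i : Fin (1 + 1)) x, AlgEqCyc.fibreFun p _ Γ (t i) (ht i) x = ∑ s : T, Γ s.1 * A s i x := fun i x => by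
    rw [ZCorrSym.fibreFun_eq_sum p _ Γ S hS (t i) (ht i) x, ← Finset.sum_filter_add_sum_filter_not S (fun s => Γ s ≠ 0),
      Finset.sum_eq_zero (s := S.filter fun s => ¬Γ s ≠ 0) fun s hs => by simp [not_not.1 (Finset.mem_filter.1 hs).2],
      add_zero, Finset.sum_subtype (S.filter fun s => Γ s ≠ 0) (p := fun s => s ∈ S ∧ Γ s ≠ 0) fun s => Finset.mem_filter]
    rfl
  have e : a - b = ∑ s : T, Γ s.1 • (A s 0 - A s 1) := by
    refine Function.locallyFinsuppWithin.ext fun x => ?_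
    rw [Function.locallyFinsuppWithin.coe_sum, Finset.sum_apply, Function.locallyFinsuppWithin.coe_sub, Pi.sub_apply,
      ha, hb]
    show AlgEqCyc.fibreFun p _ Γ (t 0) (ht 0) x - AlgEqCyc.fibreFun p _ Γ (t 1) (ht 1) x = _
    rw [hA, hA, ← Finset.sum_sub_distrib]
    refine Finset.sum_congr rfl fun s _ => ?_
    simp [mul_sub]
  show _ ∈ ProjBd.ratZero hX.2.2 0
  rw [e]
  exact AddSubgroup.sum_mem _ fun s _ => AddSubgroup.zsmul_mem _
    (ratEquiv_component p δ hδ s.1 (hgen _ s.2.2) (hdim _ s.2.2) t ht hne) _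

omit u hu [IsIntegral (CohB1.ProjSpace 1 k)] in
/-- Rationally equivalent zero-cycles on a proper scheme have the same degree. -/
theorem finsum_eq_zero (δ : X → ℤ) (hδ : Cyc.DeltaCompat p δ (fun _ => 0)) (α : AlgebraicCycle X ℤ)
    (hα : α ∈ Cyc.Zk X δ 0) (h : Cyc.RatEquivZero δ 0 α) : ∑ᶠ x, α x = 0 := by
  have hX : Cyc.IsSetup X δ := SetupLFT.isSetup p (CycLib.isSetup_spec_field k) hδ
  obtain ⟨ι, ξ, f, h1, -, -, h4⟩ := CycLib.ratEquivZero_map p hX (CycLib.isSetup_spec_field k) hδ h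
  haveI : IsEmpty ι := ⟨fun i => by simpa using h1 i⟩
  have h5 := h4 (closedPoint k)
  rw [finsum_of_isEmpty, CycLib.map_apply', CycLib.preimage_pt, finsum_mem_univ] at h5
  refine Eq.trans (finsum_congr fun x => ?_) h5
  rw [CycLib.mapCoeff_point]
  by_cases hx : δ x = 0
  · rw [if_pos hx, RatLine.residueDegree_closed p hδ hx, Nat.cast_one, mul_one]
  · rw [hα x hx, zero_mul]

omit u hu [IsIntegral (CohB1.ProjSpace 1 k)] in
/-- The cycle of a rational point of the symmetric power is unique. -/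
theorem cycle_unique {Y : Scheme.{u}} {d : ℕ} {q : fibPow p d ⟶ Y} {g : Y ⟶ Spec (CommRingCat.of k)}
    (hq : IsSymProd p d q g) {y : Spec (CommRingCat.of k) ⟶ Y} {a b : X → ℤ}
    (ha : ZCorr.IsCycleOfSymPt p d q y a) (hb : ZCorr.IsCycleOfSymPt p d q y b) : a = b := by
  obtain ⟨s, hs, has⟩ := ha
  obtain ⟨s', hs', hbs⟩ := hb
  obtain ⟨γ, hγ⟩ := QuotUH.geomTrans hq.isQuot k s s' (hs.trans hs'.symm)
  funext x
  rw [has, hbs]
  congr 1
  refine (Nat.card_congr (γ.down.symm.subtypeEquiv fun l => ?_)).symm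
  rw [← hγ, Category.assoc, permActU_hom, permHom_π]

end Groth.Agent.H23.ZCorrRat
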