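import Groth.Agent.H23.ZCorrTwo
import Groth.Agent.H23.ZCorrFlat
import Groth.Agent.H23.ZCorrRat
import Groth.Agent.H23.ZCorrGraph
import Groth.Agent.CurveCohLib.SubBundle

/-!
The limit of a family of zero-cycles along a curve in a surface is the cycle of the limit point of the curve.
-/

set_option autoImplicit false
set_option linter.style.haveILetI false
set_option linter.unusedSectionVars false
set_option backward.isDefEq.respectTransparency false
set_option backward.isDefEq.respectTransparency.types false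

universe u

open CategoryTheory CategoryTheory.Limits AlgebraicGeometry IsLocalRing TopologicalSpace

namespace Groth.Agent.H23.ZCorrLimit

open Groth.Agent CDiv6 StalkPrimes SymProd SymAF

/-- The multiplicity, extended by zero. -/
noncomputable def M {P S : Scheme.{u}} (g : P ⟶ S) (ξ y : P) : ℤ :=
  open Classical in if h : ξ ⤳ y then (AlgEqCyc.fibreMult g y ξ h : ℤ) else 0

theorem M_preimmersion {P S P' S' : Scheme.{u}} (g : P ⟶ S) (g' : P' ⟶ S') (j : P' ⟶ P) [IsPreimmersion j]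
    (e : S' ⟶ S) [IsPreimmersion e] (w : g' ≫ e = j ≫ g) (ξ y : P') : M g (j ξ) (j y) = M g' ξ y := by
  classical
  by_cases h : ξ ⤳ y
  · rw [M, M, dif_pos h, dif_pos (h.map j.continuous), MultTrans.fibreMult_preimmersion g g' j e w h]
  · rw [M, M, dif_neg h, dif_neg fun h' => h (j.isEmbedding.isInducing.specializes_iff.1 h')]

/-- A smooth curve has valuation rings as local rings. -/
theorem valuationRing_curve {k : Type u} [Field k] {C : Scheme.{u}} (qC : C ⟶ Spec (CommRingCat.of k)) [Smooth qC]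
    [IsIntegral C] (hdim : topologicalKrullDim C = 1) (c : C) :
    ValuationRing (C.presheaf.stalk c) ∧ ∃ a : C.presheaf.stalk c, maximalIdeal (C.presheaf.stalk c) = Ideal.span {a} := by
  haveI : IsLocallyNoetherian C := LocallyOfFiniteType.isLocallyNoetherian qC
  haveI := GrpSchLib.isRegularLocalRing_stalk_of_smooth qC c
  have h1 : (maximalIdeal (C.presheaf.stalk c)).spanFinrank ≤ 1 := by
    have h := IsRegularLocalRing.spanFinrank_maximalIdeal (R := C.presheaf.stalk c)
    have h2 := CurveCohLib.ringKrullDim_stalk_le_topologicalKrullDim (X := C) c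
    rw [hdim, ← h] at h2
    exact_mod_cast h2
  obtain ⟨G, hG1, hG2⟩ := Submodule.FG.exists_span_set_encard_eq_spanFinrank
    (IsNoetherian.noetherian (maximalIdeal (C.presheaf.stalk c)))
  have hG : G.Subsingleton := Set.encard_le_one_iff_subsingleton.1 (by rw [hG1]; exact_mod_cast h1)
  obtain ⟨a, ha⟩ : ∃ a, maximalIdeal (C.presheaf.stalk c) = Ideal.span {a} := by
    rcases hG.eq_empty_or_singleton with rfl | ⟨a, rfl⟩
    · exact ⟨0, by rw [← hG2]; simp⟩
    · exact ⟨a, hG2.symm⟩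
  exact ⟨ZCorrFlat.valuationRing_of_principal a ha, a, ha⟩

variable {k : Type u} [Field k] [IsAlgClosed k] [CharZero k] {X Y S C : Scheme.{u}}
  (p : X ⟶ Spec (CommRingCat.of k)) (qS : S ⟶ Spec (CommRingCat.of k)) (qC : C ⟶ Spec (CommRingCat.of k))
  [IsProper p] [LocallyOfFiniteType qS] [QuasiCompact qS] [IsSeparated qS] [IsIntegral S]
  [Smooth qC] [QuasiCompact qC] [IsSeparated qC] [IsIntegral C]
  {d : ℕ} {q : fibPow p d ⟶ Y} {g : Y ⟶ Spec (CommRingCat.of k)}

/-- The slice over a point that factors through `e`. -/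
theorem slice_map (j : pullback p qC ⟶ pullback p qS) (e : C ⟶ S) (hj₁ : j ≫ pullback.fst p qS = pullback.fst p qC)
    (hj₂ : j ≫ pullback.snd p qS = pullback.snd p qC ≫ e) (u : Spec (CommRingCat.of k) ⟶ C) (hu : u ≫ qC = 𝟙 _)
    (hv : (u ≫ e) ≫ qS = 𝟙 _) (x : X) : j (AlgEqCyc.slice p qC u hu x) = AlgEqCyc.slice p qS (u ≫ e) hv x := by
  have h : AlgEqCyc.slice p qC u hu ≫ j = AlgEqCyc.slice p qS (u ≫ e) hv := by
    apply pullback.hom_ext
    · rw [Category.assoc, hj₁, ZCorrSlice.slice_fst, ZCorrSlice.slice_fst]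
    · rw [Category.assoc, hj₂, reassoc_of% (ZCorrSlice.slice_snd p qC u hu), ZCorrSlice.slice_snd]
  exact congr(($h).base x)

set_option maxHeartbeats 3200000 in
/-- The limit along the curve `e` is the cycle of the limit point. -/
theorem limFun_eq_cycle (hAF : IsAF p) (hq : IsSymProd p d q g) (U : S.Opens) (F : (U : Scheme.{u}) ⟶ Y)
    (hF : F ≫ g = U.ι ≫ qS) (Γ : AlgebraicCycle (pullback p (U.ι ≫ qS)) ℤ)
    (hΓgen : ∀ ξ, Γ ξ ≠ 0 → U.ι (pullback.snd p (U.ι ≫ qS) ξ) = genericPoint S)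
    (hfin : ∀ ξ, Γ ξ ≠ 0 → ∀ w, (closure {ξ} ∩ pullback.snd p (U.ι ≫ qS) ⁻¹' {w}).Finite)
    (hfib : ∀ (u : Spec (CommRingCat.of k) ⟶ (U : Scheme.{u})) (hu : u ≫ U.ι ≫ qS = 𝟙 _),
      (∀ ξ, Γ ξ ≠ 0 → ∀ (z : ↥(pullback p (U.ι ≫ qS))) (h : ξ ⤳ z),
        pullback.snd p (U.ι ≫ qS) z = u (closedPoint k) → ZCorrFlat.FlatAt (pullback.snd p (U.ι ≫ qS)) h) →
      ZCorr.IsCycleOfSymPt p d q (u ≫ F) (AlgEqCyc.fibreFun p (U.ι ≫ qS) Γ u hu))
    (J : pullback p (U.ι ≫ qS) ⟶ pullback p qS) (hJ₁ : J ≫ pullback.fst p qS = pullback.fst p (U.ι ≫ qS))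
    (hJ₂ : J ≫ pullback.snd p qS = pullback.snd p (U.ι ≫ qS) ≫ U.ι)
    (α : ↥(pullback p qS) → ℤ) (hα₁ : ∀ ξ, α (J ξ) = Γ ξ) (hα₂ : ∀ z, z ∉ Set.range J → α z = 0)
    (hdimC : topologicalKrullDim C = 1) (e : C ⟶ S) [IsClosedImmersion e] (he : e ≫ qS = qC)
    (hηU : e (genericPoint C) ∈ U) (hη1 : FibDim.rd qS (e (genericPoint C)) = 1) (t : S.presheaf.stalk (e (genericPoint C)))
    (ht : maximalIdeal (S.presheaf.stalk (e (genericPoint C))) = Ideal.span {t})
    (FC : C ⟶ Y) (hFC : FC ≫ g = qC) (hcompat : (e ∣_ U) ≫ F = (e ⁻¹ᵁ U).ι ≫ FC)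
    (u₀ : Spec (CommRingCat.of k) ⟶ C) (hu₀ : u₀ ≫ qC = 𝟙 _) (hv₀ : (u₀ ≫ e) ≫ qS = 𝟙 _)
    (a : X → ℤ) (ha : ZCorr.IsCycleOfSymPt p d q (u₀ ≫ FC) a) (x₀ : X) :
    a x₀ = ZCorrTwo.limFun p qS (fun z => (FibDim.rd (pullback.fst p qS ≫ p) z : ℤ)) α (e (genericPoint C))
      (AlgEqCyc.slice p qS (u₀ ≫ e) hv₀ x₀) := by
  classical
  haveI : IsLocallyNoetherian S := LocallyOfFiniteType.isLocallyNoetherian qS
  haveI : IsLocallyNoetherian C := LocallyOfFiniteType.isLocallyNoetherian qC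
  haveI : CompactSpace S := QuasiCompact.compactSpace_of_compactSpace qS
  haveI : AlgebraicGeometry.IsNoetherian S := {}
  haveI : QuasiCompact U.ι := inferInstance
  let qU := U.ι ≫ qS
  haveI : Nonempty (U : Scheme.{u}) := ⟨⟨_, hηU⟩⟩
  haveI : IsIntegral (U : Scheme.{u}) := isIntegral_of_isOpenImmersion U.ι
  haveI : IsLocallyNoetherian (pullback p qS) := LocallyOfFiniteType.isLocallyNoetherian (pullback.snd p qS)
  haveI : IsLocallyNoetherian (pullback p qU) := LocallyOfFiniteType.isLocallyNoetherian (pullback.snd p qU)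
  haveI hJopen : IsOpenImmersion J := by
    have hsq : IsPullback J (pullback.snd p qU) (pullback.snd p qS) U.ι := by
      refine IsPullback.of_right ?_ hJ₂ (IsPullback.of_hasPullback p qS)
      rw [hJ₁]
      exact IsPullback.of_hasPullback p qU
    exact MorphismProperty.of_isPullback hsq.flip (inferInstance : IsOpenImmersion U.ι)
  let η := e (genericPoint C)
  let j : pullback p qC ⟶ pullback p qS := pullback.map p qC p qS (𝟙 X) e (𝟙 _) (by simp) (by simp [he])
  have hj₁ : j ≫ pullback.fst p qS = pullback.fst p qC := by simp [j]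
  have hj₂ : j ≫ pullback.snd p qS = pullback.snd p qC ≫ e := by simp [j]
  have hjsq : IsPullback j (pullback.snd p qC) (pullback.snd p qS) e := by
    refine IsPullback.of_right ?_ hj₂ (IsPullback.of_hasPullback p qS)
    rw [hj₁, he]
    exact IsPullback.of_hasPullback p qC
  haveI : IsClosedImmersion j := MorphismProperty.of_isPullback hjsq.flip (inferInstance : IsClosedImmersion e)
  have hJrange : ∀ z, pullback.snd p qS z ∈ U → ∃ z', J z' = z := fun z hz => by
    obtain ⟨z', h1, -⟩ := Scheme.exists_preimage_of_isPullback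
      (show IsPullback J (pullback.snd p qU) (pullback.snd p qS) U.ι by
        refine IsPullback.of_right ?_ hJ₂ (IsPullback.of_hasPullback p qS)
        rw [hJ₁]
        exact IsPullback.of_hasPullback p qU) z ⟨_, hz⟩ rfl
    exact ⟨z', h1⟩
  have hJsnd : ∀ z, pullback.snd p qS (J z) = U.ι (pullback.snd p qU z) := fun z => congr(($hJ₂).base z)
  have hjsnd : ∀ z, pullback.snd p qS (j z) = e (pullback.snd p qC z) := fun z => congr(($hj₂).base z)
  have hJsp : ∀ a b, J a ⤳ J b ↔ a ⤳ b := fun a b => J.isOpenEmbedding.isInducing.specializes_iff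
  let T := (ZCorrSym.finite_support p qU Γ).toFinset
  have hT : ∀ ξ, ξ ∈ T ↔ Γ ξ ≠ 0 := fun ξ => (Set.Finite.mem_toFinset _)
  -- finite fibres
  have hfinS : ∀ ξ ∈ T, ∀ v ∈ U, (closure {J ξ} ∩ pullback.snd p qS ⁻¹' {v}).Finite := fun ξ hξ v hv => by
    refine ((hfin ξ ((hT ξ).1 hξ) ⟨v, hv⟩).image J).subset ?_
    rintro z ⟨hz, hzv⟩
    obtain ⟨z', rfl⟩ := hJrange z (by rw [hzv]; exact hv)
    refine ⟨z', ⟨specializes_iff_mem_closure.1 ((hJsp _ _).1 (specializes_iff_mem_closure.2 hz)), ?_⟩, rfl⟩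
    apply Subtype.ext
    exact (hJsnd z').symm.trans hzv
  have hZfin : {z | pullback.snd p qS z = η ∧ ∃ ξ ∈ T, J ξ ⤳ z}.Finite := by
    refine (T.finite_toSet.biUnion fun ξ hξ => hfinS ξ hξ η hηU).subset ?_
    rintro z ⟨hz, ξ, hξ, h⟩
    exact Set.mem_biUnion hξ ⟨specializes_iff_mem_closure.1 h, hz⟩
  let Zη := hZfin.toFinset
  have hZ : ∀ z, z ∈ Zη ↔ pullback.snd p qS z = η ∧ ∃ ξ ∈ T, J ξ ⤳ z := fun z => Set.Finite.mem_toFinset _
  let δ : ↥(pullback p qS) → ℤ := fun z => (FibDim.rd (pullback.fst p qS ≫ p) z : ℤ)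
  have hδ : ∀ z, pullback.snd p qS z = η → (∃ ξ ∈ T, J ξ ⤳ z) → FibDim.rd (pullback.fst p qS ≫ p) z = 1 := by
    rintro z hz ⟨ξ, hξ, h⟩
    obtain ⟨z', rfl⟩ := hJrange z (hz ▸ hηU)
    have h1 := ZCorrFlat.rd_eq_zero (pullback.snd p qU) ((hJsp _ _).1 h) (hfin ξ ((hT ξ).1 hξ))
    have h2 := CycLib.rd_comp (pullback.snd p qU) qU z'
    have h3 := CycLib.rd_comp U.ι qS (pullback.snd p qU z')
    have h4 := CycLib.rd_comp J (pullback.fst p qS ≫ p) z'
    have h5 : U.ι (pullback.snd p qU z') = η := (hJsnd z').symm.trans hz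
    rw [h5, hη1, FibDim.rd_eq_zero_of_quasiFinite U.ι] at h3
    have e1 : J ≫ pullback.fst p qS ≫ p = pullback.snd p qU ≫ qU := by
      rw [reassoc_of% hJ₁, pullback.condition]
    rw [e1, h2, h1, h3, FibDim.rd_eq_zero_of_quasiFinite J] at h4
    omega
  let N : ↥(pullback p qS) → ℤ := fun z => ∑ ξ ∈ T, Γ ξ * M (pullback.snd p qS) (J ξ) z
  have hN0 : ∀ z, N z ≠ 0 → ∃ ξ ∈ T, J ξ ⤳ z := fun z hz => by
    obtain ⟨ξ, hξ, hne⟩ := Finset.exists_ne_zero_of_sum_ne_zero hz
    refine ⟨ξ, hξ, ?_⟩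
    by_contra hn
    exact hne (by rw [M, dif_neg hn, mul_zero])
  have hinner : ∀ z, (∑ᶠ ξ, α ξ * (if h : ξ ⤳ z then (AlgEqCyc.fibreMult (pullback.snd p qS) z ξ h : ℤ) else 0)) = N z := by
    intro z
    rw [finsum_eq_sum_of_support_subset (s := T.image J), Finset.sum_image fun a _ b _ h => J.isOpenEmbedding.injective h]
    · exact Finset.sum_congr rfl fun ξ _ => by rw [hα₁]; rfl
    · intro ξ hξ
      have hα : α ξ ≠ 0 := left_ne_zero_of_mul hξ
      obtain ⟨ξ', rfl⟩ : ξ ∈ Set.range J := by_contra fun hn => hα (hα₂ ξ hn)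
      exact Finset.mem_image.2 ⟨ξ', (hT _).2 (by rwa [← hα₁]), rfl⟩
  have hlim : ∀ y, ZCorrTwo.limFun p qS δ α η y = ∑ z ∈ Zη, N z * M (pullback.snd p qS) z y := by
    intro y
    rw [ZCorrTwo.limFun, finsum_eq_sum_of_support_subset (s := Zη)]
    · refine Finset.sum_congr rfl fun z hz => ?_
      obtain ⟨h1, h2⟩ := (hZ z).1 hz
      rw [if_pos ⟨h1, by show (FibDim.rd (pullback.fst p qS ≫ p) z : ℤ) = 1; rw [hδ z h1 h2]; rfl⟩, hinner]
      rfl
    · intro z hz
      have h1 := left_ne_zero_of_mul hz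
      have hc : pullback.snd p qS z = η ∧ δ z = 1 := by_contra fun hn => h1 (if_neg hn)
      rw [if_pos hc, hinner] at h1
      exact (hZ z).2 ⟨hc.1, hN0 z h1⟩
  -- the family over the curve
  have hZj : ∀ z ∈ Zη, ∃ z', j z' = z ∧ pullback.snd p qC z' = genericPoint C := fun z hz => by
    obtain ⟨z', h1, h2⟩ := Scheme.exists_preimage_of_isPullback hjsq z (genericPoint C) ((hZ z).1 hz).1
    exact ⟨z', h1, h2⟩
  let Zc := Zη.preimage j j.isClosedEmbedding.injective.injOn
  let β : AlgebraicCycle (pullback p qC) ℤ := ZCorrRat.ofFinite (fun z => if j z ∈ Zη then N (j z) else 0)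
    (Zc.finite_toSet.subset fun z hz => Finset.mem_preimage.2 (by_contra fun hn => hz (if_neg hn)))
  have hβ : ∀ z, β z ≠ 0 → j z ∈ Zη := fun z hz => by
    by_contra hn
    exact hz (if_neg hn)
  have hfibβ : ∀ (u : Spec (CommRingCat.of k) ⟶ C) (hu : u ≫ qC = 𝟙 _) (hv : (u ≫ e) ≫ qS = 𝟙 _) (x : X),
      AlgEqCyc.fibreFun p qC β u hu x = ∑ z ∈ Zη, N z * M (pullback.snd p qS) z (AlgEqCyc.slice p qS (u ≫ e) hv x) := by
    intro u hu hv x
    rw [ZCorrSym.fibreFun_eq_sum p qC β Zc (fun z hz => Finset.mem_preimage.2 (hβ z hz)) u hu x]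
    refine Finset.sum_bij (fun z _ => j z) (fun z hz => Finset.mem_preimage.1 hz)
      (fun a _ b _ h => j.isClosedEmbedding.injective h) (fun z hz => ?_) fun z hz => ?_
    · obtain ⟨z', h1, -⟩ := hZj z hz
      exact ⟨z', Finset.mem_preimage.2 (h1 ▸ hz), h1⟩
    · congr 1
      · exact if_pos (Finset.mem_preimage.1 hz)
      · rw [← slice_map p qS qC j e hj₁ hj₂ u hu hv x, M_preimmersion _ (pullback.snd p qC) j e hj₂.symm, M,
          ZCorrComp.mult]
        split_ifs <;> rfl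
  obtain ⟨ΓC, hΓCZ, -, hΓCfin, hΓCfib⟩ := ZCorrGraph.exists_cycle p qC FC hAF hq hFC
    (fun z => (FibDim.rd (pullback.fst p qC ≫ p) z : ℤ)) (CycLib.deltaCompat_rd _) 1 (by simpa using hdimC)
  have hrdC : FibDim.rd qC (genericPoint C) = 1 := by
    have h := CycLib.rd_comp e qS (genericPoint C)
    rw [he, hη1, FibDim.rd_eq_zero_of_quasiFinite e] at h
    omega
  have hΓCdim : ∀ z, ΓC z ≠ 0 → FibDim.rd (pullback.fst p qC ≫ p) z = 1 := fun z hz => by
    by_contra hne
    exact hz (hΓCZ z fun h => hne (by simp only at h; exact_mod_cast h))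
  have hcl : ∀ c : C, c ≠ genericPoint C → IsClosed ({c} : Set C) := fun c hc => by
    have hd := (SetupLFT.isSetup qC (CycLib.isSetup_spec_field k) (CycLib.deltaCompat_rd qC)).2.2
    have h1 := CycLib.delta_lt hd (genericPoint_specializes c) (Ne.symm hc)
    simp only [hrdC] at h1
    refine isClosed_of_closure_subset fun c' hc' => ?_
    by_contra hne
    have h2 := CycLib.delta_lt hd (specializes_iff_mem_closure.2 hc') (Ne.symm hne)
    omega
  have hΓCgen : ∀ z, ΓC z ≠ 0 → pullback.snd p qC z = genericPoint C := fun z hz => by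
    have h0 := ZCorrFlat.rd_eq_zero (pullback.snd p qC) (specializes_refl z) (hΓCfin z hz)
    have h1 := CycLib.rd_comp (pullback.snd p qC) qC z
    rw [← pullback.condition, hΓCdim z hz, h0, add_zero] at h1
    by_contra hne
    rw [DeltaFun13.rd_eq_zero_of_closed qC (hcl _ hne)] at h1
    exact one_ne_zero h1
  have hflatC : ∀ z, ΓC z ≠ 0 → ∀ w (h : z ⤳ w), ZCorrFlat.FlatAt (pullback.snd p qC) h := fun z hz w h => by
    haveI := (valuationRing_curve qC hdimC (pullback.snd p qC w)).1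
    exact ZCorrFlat.flatAt_of_valuationRing _ h (hΓCgen z hz)
  have hcycC : ∀ (u : Spec (CommRingCat.of k) ⟶ C) (hu : u ≫ qC = 𝟙 _),
      ZCorr.IsCycleOfSymPt p d q (u ≫ FC) (AlgEqCyc.fibreFun p qC ΓC u hu) := fun u hu =>
    hΓCfib u hu fun z hz w h _ => hflatC z hz w h
  -- the open set of good points
  haveI : ValuationRing (S.presheaf.stalk η) := ZCorrFlat.valuationRing_of_principal t ht
  let ηU : (U : Scheme.{u}) := ⟨η, hηU⟩
  let OS : Set S := ⋂ ξ ∈ T, {v : S | ∀ z (h : J ξ ⤳ z), pullback.snd p qS z = v → ZCorrFlat.FlatAt (pullback.snd p qS) h}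
  let OU : Set S := U.ι '' ⋂ ξ ∈ T, {v : (U : Scheme.{u}) | ∀ z (h : ξ ⤳ z), pullback.snd p qU z = v →
    ZCorrFlat.FlatAt (pullback.snd p qU) h}
  have hOS : IsOpen OS := isOpen_biInter_finset fun ξ _ => ZCorrFlat.isOpen_flat _ _
  have hOU : IsOpen OU := U.ι.isOpenEmbedding.isOpenMap _ (isOpen_biInter_finset fun ξ _ => ZCorrFlat.isOpen_flat _ _)
  have hgenU : ∀ ξ ∈ T, pullback.snd p qU ξ = genericPoint (U : Scheme.{u}) := fun ξ hξ =>
    U.ι.isOpenEmbedding.injective ((hΓgen ξ ((hT ξ).1 hξ)).trans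
      (genericPoint_eq_of_isOpenImmersion U.ι).symm)
  have hηOS : η ∈ OS := Set.mem_iInter₂.2 fun ξ hξ z h hz => by
    haveI : ValuationRing (S.presheaf.stalk (pullback.snd p qS z)) := by rw [hz]; infer_instance
    exact ZCorrFlat.flatAt_of_valuationRing _ h ((hJsnd ξ).trans (hΓgen ξ ((hT ξ).1 hξ)))
  have hηOU : η ∈ OU := ⟨ηU, Set.mem_iInter₂.2 fun ξ hξ z h hz => by
    haveI : ValuationRing (S.presheaf.stalk (U.ι ηU)) := ‹ValuationRing (S.presheaf.stalk η)›
    haveI : ValuationRing ((U : Scheme.{u}).presheaf.stalk ηU) :=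
      RatExtend.valuationRing_of_ringEquiv (asIso (U.ι.stalkMap ηU)).commRingCatIsoToRingEquiv
    haveI : ValuationRing ((U : Scheme.{u}).presheaf.stalk (pullback.snd p qU z)) := by rw [hz]; infer_instance
    exact ZCorrFlat.flatAt_of_valuationRing _ h (hgenU ξ hξ), rfl⟩
  let U' : C.Opens := ⟨e ⁻¹' (OS ∩ OU), (hOS.inter hOU).preimage e.continuous⟩
  have hU'U : ∀ c, c ∈ U' → e c ∈ U := fun c hc => by
    obtain ⟨v, -, hv⟩ := hc.2
    rw [← hv]
    exact v.2
  have hdiff : β - ΓC = 0 := by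
    refine FibreVanish.eq_zero p qC (δ := fun z => (FibDim.rd (pullback.fst p qC ≫ p) z : ℤ)) (n := 1)
      (CycLib.deltaCompat_rd _) (β - ΓC) ?_ ?_ U' ⟨genericPoint C, hηOS, hηOU⟩ ?_ ?_
    · intro z hz
      by_cases hc : ΓC z = 0
      · have hb : β z ≠ 0 := fun h => hz (by simp [h, hc])
        obtain ⟨h1, h2⟩ := (hZ _).1 (hβ z hb)
        have h4 := CycLib.rd_comp j (pullback.fst p qS ≫ p) z
        rw [reassoc_of% hj₁, hδ _ h1 h2, FibDim.rd_eq_zero_of_quasiFinite j] at h4
        show (FibDim.rd (pullback.fst p qC ≫ p) z : ℤ) = 1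
        rw [h4]; rfl
      · show (FibDim.rd (pullback.fst p qC ≫ p) z : ℤ) = 1
        rw [hΓCdim z hc]; rfl
    · intro z hz
      by_cases hc : ΓC z = 0
      · obtain ⟨h1, -⟩ := (hZ _).1 (hβ z fun h => hz (by simp [h, hc]))
        exact e.isClosedEmbedding.injective ((hjsnd z).symm.trans h1)
      · exact hΓCgen z hc
    · intro z hz w hw
      by_cases hc : ΓC z = 0
      · obtain ⟨-, ξ, hξ, h2⟩ := (hZ _).1 (hβ z fun h => hz (by simp [h, hc]))
        refine ((hfinS ξ hξ (e w) (hU'U w hw)).preimage j.isClosedEmbedding.injective.injOn).subset ?_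
        rintro y ⟨hy, hyw⟩
        refine ⟨specializes_iff_mem_closure.1 (h2.trans ((specializes_iff_mem_closure.2 hy).map j.continuous)), ?_⟩
        show pullback.snd p qS (j y) = e w
        rw [hjsnd, show pullback.snd p qC y = w from hyw]
      · exact hΓCfin z hc w
    · intro u hu huU x
      have hv : (u ≫ e) ≫ qS = 𝟙 _ := by rw [Category.assoc, he, hu]
      have hsplit : AlgEqCyc.fibreFun p qC (β - ΓC) u hu x =
          AlgEqCyc.fibreFun p qC β u hu x - AlgEqCyc.fibreFun p qC ΓC u hu x := by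
        let A := Zc ∪ (ZCorrSym.finite_support p qC ΓC).toFinset
        have hA1 : ∀ z, β z ≠ 0 → z ∈ A := fun z hz => Finset.mem_union_left _ (Finset.mem_preimage.2 (hβ z hz))
        have hA2 : ∀ z, ΓC z ≠ 0 → z ∈ A := fun z hz => Finset.mem_union_right _ ((Set.Finite.mem_toFinset _).2 hz)
        rw [ZCorrSym.fibreFun_eq_sum p qC β A hA1 u hu x, ZCorrSym.fibreFun_eq_sum p qC ΓC A hA2 u hu x,
          ZCorrSym.fibreFun_eq_sum p qC (β - ΓC) A (fun z hz => ?_) u hu x, ← Finset.sum_sub_distrib]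
        · exact Finset.sum_congr rfl fun z _ => by
            rw [Function.locallyFinsuppWithin.coe_sub, Pi.sub_apply, sub_mul]
        · by_cases hc : ΓC z = 0
          · exact hA1 z fun h => hz (by simp [h, hc])
          · exact hA2 z hc
      rw [hsplit, hfibβ u hu hv x, sub_eq_zero]
      -- the point in the open subscheme
      have hrange : Set.range (u ≫ e) ⊆ Set.range U.ι := by
        rintro _ ⟨a, rfl⟩
        rw [show a = closedPoint k from @Subsingleton.elim _ (inferInstanceAs (Subsingleton (PrimeSpectrum k))) _ _]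
        exact ⟨⟨_, hU'U _ huU⟩, rfl⟩
      let vU := IsOpenImmersion.lift U.ι (u ≫ e) hrange
      have hvU : vU ≫ U.ι = u ≫ e := IsOpenImmersion.lift_fac _ _ _
      have hvUq : vU ≫ U.ι ≫ qS = 𝟙 _ := by rw [reassoc_of% hvU, he, hu]
      have hvpt : U.ι (vU (closedPoint k)) = e (u (closedPoint k)) := congr(($hvU).base (closedPoint k))
      have hflatU := hfib vU hvUq fun ξ hξ z h hz => by
        obtain ⟨w, hw, hwv⟩ := huU.2
        have hw' : w = vU (closedPoint k) := U.ι.isOpenEmbedding.injective (hwv.trans hvpt.symm)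
        exact Set.mem_iInter₂.1 hw ξ ((hT ξ).2 hξ) z h (hz.trans hw'.symm)
      have hsame : vU ≫ F = u ≫ FC := by
        have hr : Set.range u ⊆ Set.range (e ⁻¹ᵁ U).ι := by
          rintro _ ⟨a, rfl⟩
          rw [show a = closedPoint k from @Subsingleton.elim _ (inferInstanceAs (Subsingleton (PrimeSpectrum k))) _ _]
          exact ⟨⟨_, hU'U _ huU⟩, rfl⟩
        let u' := IsOpenImmersion.lift (e ⁻¹ᵁ U).ι u hr
        have hu' : u' ≫ (e ⁻¹ᵁ U).ι = u := IsOpenImmersion.lift_fac _ _ _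
        have h : u' ≫ (e ∣_ U) = vU := by
          rw [← cancel_mono U.ι, hvU, Category.assoc, morphismRestrict_ι, reassoc_of% hu']
        rw [← h, Category.assoc, hcompat, reassoc_of% hu']
      rw [hsame] at hflatU
      rw [← congrFun (ZCorrRat.cycle_unique p hq hflatU (hcycC u hu)) x,
        ZCorrSym.fibreFun_eq_sum p (U.ι ≫ qS) Γ T (fun z hz => (hT z).2 hz) vU hvUq x]
      let y := AlgEqCyc.slice p qS (u ≫ e) hv x
      have hy : J (AlgEqCyc.slice p qU vU hvUq x) = y := by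
        have h : AlgEqCyc.slice p qU vU hvUq ≫ J = AlgEqCyc.slice p qS (u ≫ e) hv := by
          apply pullback.hom_ext
          · rw [Category.assoc, hJ₁, ZCorrSlice.slice_fst, ZCorrSlice.slice_fst]
          · rw [Category.assoc, hJ₂, reassoc_of% (ZCorrSlice.slice_snd p qU vU hvUq), ZCorrSlice.slice_snd, hvU]
        exact congr(($h).base x)
      simp only [N, Finset.sum_mul]
      rw [Finset.sum_comm]
      refine Finset.sum_congr rfl fun ξ hξ => ?_
      have hm : (ZCorrComp.mult p qU vU hvUq ξ x : ℤ) = M (pullback.snd p qS) (J ξ) y := by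
        rw [← hy, M_preimmersion _ (pullback.snd p qU) J U.ι hJ₂.symm, M, ZCorrComp.mult]
        split_ifs <;> rfl
      rw [hm, Finset.sum_congr rfl (fun z _ => mul_assoc (Γ ξ) _ _), ← Finset.mul_sum]
      congr 1
      by_cases hsp : J ξ ⤳ y
      swap
      · rw [Finset.sum_eq_zero fun z _ => ?_]
        · rw [M, dif_neg hsp]
        by_cases h1 : J ξ ⤳ z
        · rw [show M (pullback.snd p qS) z y = 0 from dif_neg fun h2 => hsp (h1.trans h2), mul_zero]
        · rw [show M (pullback.snd p qS) (J ξ) z = 0 from dif_neg h1, zero_mul]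
      have hsndy : pullback.snd p qS y = e (u (closedPoint k)) := by
        refine (congr(($(ZCorrSlice.slice_snd p qS (u ≫ e) hv)).base x)).trans ?_
        exact congrArg (u ≫ e) (@Subsingleton.elim _ (inferInstanceAs (Subsingleton (PrimeSpectrum k))) _ _)
      have hucl : IsClosed ({u (closedPoint k)} : Set C) := by
        have := ((pointEquivClosedPoint qC) ⟨u, hu⟩).2
        rwa [mem_closedPoints_iff, pointEquivClosedPoint_apply_coe] at this
      have hvcl : IsClosed ({pullback.snd p qS y} : Set S) := by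
        rw [hsndy, ← Set.image_singleton]
        exact e.isClosedEmbedding.isClosedMap _ hucl
      have hne : η ≠ pullback.snd p qS y := fun h => by
        have := DeltaFun13.rd_eq_zero_of_closed qS (z := η) (h ▸ hvcl)
        rw [this] at hη1
        exact one_ne_zero hη1.symm
      have hηsp : η ⤳ pullback.snd p qS y := hsndy ▸ (genericPoint_specializes _).map e.continuous
      obtain ⟨σ, hσ⟩ : ∃ σ : S.presheaf.stalk (pullback.snd p qS y),
          (primeOf hηsp).asIdeal ⊔ Ideal.span {σ} = maximalIdeal _ := by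
        have key : ∀ (v : S) (hv' : η ⤳ v), v = e (u (closedPoint k)) →
            ∃ σ : S.presheaf.stalk v, (primeOf hv').asIdeal ⊔ Ideal.span {σ} = maximalIdeal _ := by
          rintro v hv' rfl
          obtain ⟨a, ha⟩ := (valuationRing_curve qC hdimC (u (closedPoint k))).2
          obtain ⟨σ, hσ⟩ := e.stalkMap_surjective (u (closedPoint k)) a
          refine ⟨σ, ?_⟩
          rw [← CycLib.ker_specMap hv', AlgEqPts.ker_specMap_section e (u (closedPoint k)) hv']
          have h1 : (maximalIdeal (C.presheaf.stalk (u (closedPoint k)))).comap (e.stalkMap (u (closedPoint k))).hom =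
              maximalIdeal (S.presheaf.stalk (e (u (closedPoint k)))) :=
            IsLocalRing.eq_maximalIdeal (Ideal.comap_isMaximal_of_surjective _ (e.stalkMap_surjective _))
          rw [← h1, ha, ← hσ, ← Set.image_singleton, ← Ideal.map_span,
            Ideal.comap_map_of_surjective _ (e.stalkMap_surjective _), ← RingHom.ker_eq_comap_bot, sup_comm]
        exact key _ hηsp hsndy
      have hiso : ∀ z, J ξ ⤳ z → z ⤳ y → pullback.snd p qS z = pullback.snd p qS y → z = y := fun z h1 h2 h3 => by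
        haveI : JacobsonSpace ↥(pullback p qS) := LocallyOfFiniteType.jacobsonSpace (pullback.fst p qS ≫ p)
        have hc := mem_closedPoints_iff.1 (FibreVanish.mem_closedPoints_of_finite
          (isClosed_closure.inter (hvcl.preimage (pullback.snd p qS).continuous))
          (hfinS ξ hξ _ (hsndy ▸ hU'U _ huU)) ⟨specializes_iff_mem_closure.1 h1, h3⟩)
        exact (h2.mem_closed hc rfl : y ∈ ({z} : Set _)).symm
      have hflat : ZCorrFlat.FlatAt (pullback.snd p qS) hsp := Set.mem_iInter₂.1 huU.1 ξ hξ y hsp hsndy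
      rw [show M (pullback.snd p qS) (J ξ) y = (AlgEqCyc.fibreMult (pullback.snd p qS) y (J ξ) hsp : ℤ) from dif_pos hsp,
        MultTrans.fibreMult_trans (pullback.snd p qS) hsp hiso hflat hηsp hσ hne
          (Zη.filter fun z => J ξ ⤳ z ∧ z ⤳ y) (fun z => by
            rw [Finset.mem_filter, hZ]
            exact ⟨fun h => ⟨h.2.1, h.2.2, h.1.1⟩, fun h => ⟨⟨h.2.2, ξ, hξ, h.1⟩, h.1, h.2.1⟩⟩),
        Nat.cast_sum, Finset.sum_filter]
      refine Finset.sum_congr rfl fun z _ => ?_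
      by_cases h : J ξ ⤳ z ∧ z ⤳ y
      · rw [if_pos h, dif_pos h, M, M, dif_pos h.1, dif_pos h.2, Nat.cast_mul]
      · rw [if_neg h]
        rcases not_and_or.1 h with h | h
        · rw [show M (pullback.snd p qS) (J ξ) z = 0 from dif_neg h, zero_mul]
        · rw [show M (pullback.snd p qS) z y = 0 from dif_neg h, mul_zero]
  rw [sub_eq_zero] at hdiff
  rw [congrFun (ZCorrRat.cycle_unique p hq ha (hcycC u₀ hu₀)) x₀, ← hdiff, hfibβ u₀ hu₀ hv₀ x₀, hlim]

end Groth.Agent.H23.ZCorrLimit
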