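import Groth.Agent.H23.ZCorrRat

/-!
Rationally equivalent effective zero-cycles are joined by a line in a symmetric power, and conversely.
-/

set_option autoImplicit false
set_option linter.style.haveILetI false
set_option backward.isDefEq.respectTransparency false
set_option backward.isDefEq.respectTransparency.types false

universe u

open CategoryTheory CategoryTheory.Limits AlgebraicGeometry TopologicalSpace IsLocalRing

namespace Groth.Agent.H23.ZCorrMain

open Groth.Agent SymProd SymAF ZCorrRat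

variable {k : Type u} [Field k] [IsAlgClosed k] {X : Scheme.{u}} (p : X ⟶ Spec (CommRingCat.of k)) [IsProper p]

/-- The zero-cycles of two points joined by a line in the symmetric power are rationally equivalent. -/
theorem ratEquiv_of_map [CharZero k] (hAF : IsAF p) {Y : Scheme.{u}} {n : ℕ} {q : fibPow p n ⟶ Y}
    {g : Y ⟶ Spec (CommRingCat.of k)} (hq : IsSymProd p n q g) (δ : X → ℤ)
    (hδ : Cyc.DeltaCompat p δ (fun _ => 0)) (f : CohB1.ProjSpace 1 k ⟶ Y)
    (hf : f ≫ g = CohB1.ProjSpace.toSpec 1 k) (t₀ t₁ : Spec (CommRingCat.of k) ⟶ CohB1.ProjSpace 1 k)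
    (h₀ : t₀ ≫ CohB1.ProjSpace.toSpec 1 k = 𝟙 _) (h₁ : t₁ ≫ CohB1.ProjSpace.toSpec 1 k = 𝟙 _)
    (a b : AlgebraicCycle X ℤ) (ha : ZCorr.IsCycleOfSymPt p n q (t₀ ≫ f) ⇑a)
    (hb : ZCorr.IsCycleOfSymPt p n q (t₁ ≫ f) ⇑b) : Cyc.RatEquiv δ 0 a b := by
  haveI := ZCorrP1.isIntegral_line k
  haveI : IsProper (CohB1.ProjSpace.toSpec 1 k) := PnCoh.Chow.isProper_toSpec 1 k
  let π := pullback.fst p (CohB1.ProjSpace.toSpec 1 k) ≫ p
  obtain ⟨Γ, hΓZ, -, hfin, hfib⟩ := ZCorrGraph.exists_cycle p (CohB1.ProjSpace.toSpec 1 k) f hAF hq hf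
    (fun z => (FibDim.rd π z : ℤ)) (CycLib.deltaCompat_rd π) 1 (by simpa using S10829.result k 1)
  have hdim : ∀ s, Γ s ≠ 0 → FibDim.rd π s = 1 := fun s hs => by
    by_contra hne
    exact hs (hΓZ s fun h => hne (by simp only at h; exact_mod_cast h))
  have hgen : ∀ s, Γ s ≠ 0 → pullback.snd p (CohB1.ProjSpace.toSpec 1 k) s = genericPoint _ :=
    fun s hs => ZCorrP1.snd_eq_generic p s (hdim s hs) (hfin s hs)
  have hflat : ∀ (u : Spec (CommRingCat.of k) ⟶ CohB1.ProjSpace 1 k) (hu : u ≫ CohB1.ProjSpace.toSpec 1 k = 𝟙 _),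
      ZCorr.IsCycleOfSymPt p n q (u ≫ f) (AlgEqCyc.fibreFun p _ Γ u hu) := fun u hu =>
    hfib u hu fun s hs z h _ => ZCorrP1.flat_component p s z h (hgen s hs)
  exact ratEquiv_fibres p δ hδ Γ (ZCorrSym.finite_support p _ Γ).toFinset
    (fun s hs => (Set.Finite.mem_toFinset _).2 hs) hgen hdim t₀ t₁ h₀ h₁ a b
    (cycle_unique p hq ha (hflat t₀ h₀)) (cycle_unique p hq hb (hflat t₁ h₁))

set_option maxHeartbeats 1000000 in
/-- The constant family at a closed point. -/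
theorem exists_constant [IsIntegral (CohB1.ProjSpace 1 k)] (x : X) (hx : IsClosed ({x} : Set X)) :
    ∃ ζ : ↥(pullback p (CohB1.ProjSpace.toSpec 1 k)),
      pullback.snd p (CohB1.ProjSpace.toSpec 1 k) ζ = genericPoint _ ∧
      FibDim.rd (pullback.fst p (CohB1.ProjSpace.toSpec 1 k) ≫ p) ζ = 1 ∧
      ∀ (u : Spec (CommRingCat.of k) ⟶ CohB1.ProjSpace 1 k) (hu : u ≫ CohB1.ProjSpace.toSpec 1 k = 𝟙 _) (y : X),
        (y = x → ZCorrComp.mult p _ u hu ζ y = 1) ∧ (y ≠ x → ZCorrComp.mult p _ u hu ζ y = 0) := by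
  haveI : IsProper (CohB1.ProjSpace.toSpec 1 k) := PnCoh.Chow.isProper_toSpec 1 k
  obtain ⟨P, hP, hPx⟩ : ∃ P : Spec (CommRingCat.of k) ⟶ X, P ≫ p = 𝟙 _ ∧ ∀ a, P a = x :=
    ⟨pointOfClosedPoint p x hx, pointOfClosedPoint_comp _ _ _, pointOfClosedPoint_apply _ _ _⟩
  let c : CohB1.ProjSpace 1 k ⟶ pullback p (CohB1.ProjSpace.toSpec 1 k) :=
    pullback.lift (CohB1.ProjSpace.toSpec 1 k ≫ P) (𝟙 _) (by rw [Category.assoc, hP, Category.comp_id, Category.id_comp])
  have hc : c ≫ pullback.snd p (CohB1.ProjSpace.toSpec 1 k) = 𝟙 _ := pullback.lift_snd _ _ _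
  have hc1 : c ≫ pullback.fst p (CohB1.ProjSpace.toSpec 1 k) = CohB1.ProjSpace.toSpec 1 k ≫ P := pullback.lift_fst _ _ _
  haveI : IsClosedImmersion (c ≫ pullback.snd p (CohB1.ProjSpace.toSpec 1 k)) := by rw [hc]; infer_instance
  haveI : IsClosedImmersion c := IsClosedImmersion.of_comp c (pullback.snd p _)
  let η := genericPoint ↥(CohB1.ProjSpace 1 k)
  have hsnd : pullback.snd p (CohB1.ProjSpace.toSpec 1 k) (c η) = η := congr(($hc).base η)
  have hfst : pullback.fst p (CohB1.ProjSpace.toSpec 1 k) (c η) = x :=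
    by
    rw [← Scheme.Hom.comp_apply, hc1, Scheme.Hom.comp_apply]
    exact hPx _
  refine ⟨c η, hsnd, ?_, fun u hu y => ⟨?_, fun hy => ?_⟩⟩
  · have h1 := CycLib.rd_comp c (pullback.fst p (CohB1.ProjSpace.toSpec 1 k) ≫ p) η
    rw [reassoc_of% hc1, hP, Category.comp_id, FibDim.rd_eq_zero_of_quasiFinite c, ZCorrP1.rd_line k] at h1
    omega
  · rintro rfl
    have h1 := ZCorrComp.point_eq_slice p _ u hu (u ≫ c) (by rw [Category.assoc, hc, Category.comp_id])
      (closedPoint k)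
    have h2 : ((u ≫ c) ≫ pullback.fst p (CohB1.ProjSpace.toSpec 1 k)) (closedPoint k) = y := by
      rw [Category.assoc, hc1, Scheme.Hom.comp_apply, Scheme.Hom.comp_apply]
      exact hPx _
    rw [h2] at h1
    have hsp : c η ⤳ AlgEqCyc.slice p _ u hu y := by
      rw [h1, Scheme.Hom.comp_apply]
      exact (genericPoint_specializes _).map c.continuous
    rw [ZCorrComp.mult, dif_pos hsp]
    exact AlgEqPts.fibreMult_section (pullback.snd p _) c hc (u (closedPoint k)) _ _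
      (h1.trans (Scheme.Hom.comp_apply _ _ _)) rfl hsp
  · rw [ZCorrComp.mult, dif_neg]
    intro h
    have h1 := h.map (pullback.fst p (CohB1.ProjSpace.toSpec 1 k)).continuous
    rw [hfst, ← Scheme.Hom.comp_apply, ZCorrSlice.slice_fst] at h1
    exact hy (hx.stableUnderSpecialization h1 rfl)

set_option maxHeartbeats 2000000 in
/-- Rationally equivalent effective zero-cycles are joined by a line after adding a common cycle. -/
theorem exists_map (hAF : IsAF p) (Sy : ℕ → Scheme.{u}) (q : (n : ℕ) → (fibPow p n ⟶ Sy n))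
    (g : (n : ℕ) → (Sy n ⟶ Spec (CommRingCat.of k))) (hS : ∀ n, IsSymProd p n (q n) (g n))
    (δ : X → ℤ) (hδ : Cyc.DeltaCompat p δ (fun _ => 0)) (d : ℕ) (α β : AlgebraicCycle X ℤ)
    (hα : α ∈ Cyc.Zk X δ 0) (hβ : β ∈ Cyc.Zk X δ 0) (hα0 : ∀ x, 0 ≤ α x) (hβ0 : ∀ x, 0 ≤ β x)
    (hαd : ∑ᶠ x, α x = (d : ℤ)) (h : Cyc.RatEquiv δ 0 α β) :
    ∃ (m : ℕ) (γ : AlgebraicCycle X ℤ), γ ∈ Cyc.Zk X δ 0 ∧ (∀ x, 0 ≤ γ x) ∧ ∑ᶠ x, γ x = (m : ℤ) ∧
      ∃ (f : CohB1.ProjSpace 1 k ⟶ Sy (d + m)) (t₀ t₁ : Spec (CommRingCat.of k) ⟶ CohB1.ProjSpace 1 k),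
        f ≫ g (d + m) = CohB1.ProjSpace.toSpec 1 k ∧ t₀ ≫ CohB1.ProjSpace.toSpec 1 k = 𝟙 _ ∧
        t₁ ≫ CohB1.ProjSpace.toSpec 1 k = 𝟙 _ ∧
        ZCorr.IsCycleOfSymPt p (d + m) (q (d + m)) (t₀ ≫ f) ⇑(α + γ) ∧
        ZCorr.IsCycleOfSymPt p (d + m) (q (d + m)) (t₁ ≫ f) ⇑(β + γ) := by
  classical
  haveI := ZCorrP1.isIntegral_line k
  haveI : IsProper (CohB1.ProjSpace.toSpec 1 k) := PnCoh.Chow.isProper_toSpec 1 k
  haveI : CompactSpace X := QuasiCompact.compactSpace_of_compactSpace p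
  haveI : CompactSpace ↥(CohB1.ProjSpaceOver 1 X) :=
    QuasiCompact.compactSpace_of_compactSpace (CohB1.ProjSpaceOver.toBase 1 X ≫ p)
  let π := pullback.fst p (CohB1.ProjSpace.toSpec 1 k) ≫ p
  have hX : Cyc.IsSetup X δ := SetupLFT.isSetup p (CycLib.isSetup_spec_field k) hδ
  haveI := hX.1
  let δP : ↥(CohB1.ProjSpaceOver 1 X) → ℤ := fun z => (FibDim.rd (CohB1.ProjSpaceOver.toBase 1 X ≫ p) z : ℤ)
  have hP := CycLib.deltaCompat_of_comp (CohB1.ProjSpaceOver.toBase 1 X) p hδ _ rfl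
  obtain ⟨a, ha⟩ := ZCorrP1.exists_iso_line k
  let t : Fin (1 + 1) → (Spec (CommRingCat.of k) ⟶ CohB1.ProjSpace 1 k) :=
    fun i => P1.sect (Spec (CommRingCat.of k)) i ≫ a.hom
  have ht : ∀ i, t i ≫ CohB1.ProjSpace.toSpec 1 k = 𝟙 _ := fun i => by
    simp only [t, Category.assoc, ha, P1Sect.sect_toBase]
  have ht' : t 0 ≠ t 1 := fun h => P1Vert.sect_ne_sect (closedPoint k) (closedPoint k)
    (congr(($((cancel_mono a.hom).1 h)).base (closedPoint k)))
  obtain ⟨e, hef, hes⟩ := ZCorrP1.exists_iso_prod p t ht ht'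
  obtain ⟨I, W, ι, hW, hι, hd, hlf, hsum⟩ := S1901.result X δ hX δP hP 0 (α - β)
    (fun x hx => by rw [Function.locallyFinsuppWithin.coe_sub, Pi.sub_apply, hα x hx, hβ x hx, sub_zero]) h
  haveI := hW
  haveI := hι
  haveI : Finite I := by
    choose U hUo hUm hUf using hlf
    obtain ⟨S, hS'⟩ := isCompact_univ.elim_finite_subcover U hUo fun z _ => Set.mem_iUnion.2 ⟨z, hUm z⟩
    refine Set.finite_univ_iff.1 ((S.finite_toSet.biUnion fun z _ => hUf z).subset fun i _ => ?_)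
    obtain ⟨z, hz, hiz⟩ := Set.mem_iUnion₂.1 (hS' (Set.mem_univ (ι i (genericPoint (W i)))))
    exact Set.mem_biUnion hz ⟨_, ⟨_, rfl⟩, hiz⟩
  haveI : Fintype I := Fintype.ofFinite I
  let ξ : I → ↥(pullback p (CohB1.ProjSpace.toSpec 1 k)) := fun i => e.hom (ι i (genericPoint (W i)))
  have hξdim : ∀ i, FibDim.rd π (ξ i) = 1 := fun i => by
    have h1 := CycLib.rd_comp e.hom π (ι i (genericPoint (W i)))
    rw [FibDim.rd_eq_zero_of_quasiFinite e.hom, reassoc_of% hef] at h1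
    have h2 := (hd i).1
    simp only [δP] at h2
    simp only [ξ]
    omega
  have hξsl : ∀ i (j : Fin (1 + 1)), ξ i ∉ Set.range (AlgEqCyc.slice p _ (t j) (ht j)) := by
    rintro i j ⟨x, hx⟩
    have h1 : e.hom (P1.sect X j x) = e.hom (ι i (genericPoint (W i))) :=
      (congr(($(hes j)).base x)).trans hx
    have h2 := e.hom.homeomorph.injective h1
    rcases (Fin.forall_fin_two.2 ⟨Or.inl rfl, Or.inr rfl⟩ : ∀ j : Fin (1 + 1), j = 0 ∨ j = 1) j with rfl | rfl
    · exact (hd i).2.1 ⟨x, h2⟩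
    · exact (hd i).2.2 ⟨x, h2⟩
  let M : I → (u : Spec (CommRingCat.of k) ⟶ CohB1.ProjSpace 1 k) → (u ≫ CohB1.ProjSpace.toSpec 1 k = 𝟙 _) → X → ℤ :=
    fun i u hu x => (ZCorrComp.mult p _ u hu (ξ i) x : ℤ)
  have hterm : ∀ i (j : Fin (1 + 1)) x,
      Cyc.subschemeFun δ 0 (pullback.snd (ι i) (P1.sect X j)) x =
        if pullback.snd p (CohB1.ProjSpace.toSpec 1 k) (ξ i) = genericPoint _ then M i (t j) (ht j) x else 0 := by
    intro i j x
    by_cases hx : δ x = 0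
    · rw [subschemeFun_sect p (t j) (ht j) j e (hes j) (ι i) δ x hx]
      split_ifs with hg
      · rfl
      · rw [mult_eq_zero_of_vertical p (t j) (ht j) (ξ i) hg (hξsl i j) x]
        rfl
    · rw [Cyc.subschemeFun, if_neg hx]
      split_ifs with hg
      · simp only [M, mult_eq_zero p (t j) (ht j) δ hδ (ξ i) hg (hξdim i) x hx, Nat.cast_zero]
      · rfl
  let G := {i : I // pullback.snd p (CohB1.ProjSpace.toSpec 1 k) (ξ i) = genericPoint _}
  have hβf : (Function.support ⇑β).Finite := by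
    have h1 := β.locallyFiniteSupport.finite_inter_support_of_isCompact (isCompact_univ (X := X))
    rwa [Set.univ_inter] at h1
  let C := {x : X // x ∈ hβf.toFinset}
  have hcl : ∀ x : C, IsClosed ({x.1} : Set X) := fun x => by
    have h1 : δ x.1 = 0 := by
      by_contra hne
      exact (hβf.mem_toFinset.1 x.2) (hβ x.1 hne)
    refine isClosed_of_closure_subset fun y hy => ?_
    by_contra hne
    have h2 := (hX.2.2 x.1 y (specializes_iff_mem_closure.2 hy) (Ne.symm hne)).1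
    obtain ⟨n', -, hn'⟩ := hδ y
    simp only at hn'
    omega
  choose ζ hζg hζd hζm using fun x : C => exists_constant p x.1 (hcl x)
  let J := G ⊕ C
  let c : J → ℤ := Sum.elim (fun _ => 1) (fun x => β x.1)
  let pt : J → ↥(pullback p (CohB1.ProjSpace.toSpec 1 k)) := Sum.elim (fun i => ξ i.1) ζ
  let Γ : AlgebraicCycle (pullback p (CohB1.ProjSpace.toSpec 1 k)) ℤ :=
    ofFinite (fun z => ∑ j : J, if pt j = z then c j else 0) ((Set.finite_range pt).subset fun z hz => by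
      by_contra hn
      exact hz (Finset.sum_eq_zero fun j _ => if_neg fun e => hn ⟨j, e⟩))
  have hΓ0 : ∀ z, 0 ≤ Γ z := fun z => Finset.sum_nonneg fun j _ => by
    split_ifs
    · rcases j with i | x
      · exact zero_le_one
      · exact hβ0 x.1
    · exact le_rfl
  have hΓ : ∀ z, Γ z ≠ 0 → ∃ j, pt j = z := fun z hz => by
    by_contra hn
    exact hz (Finset.sum_eq_zero fun j _ => if_neg fun e => hn ⟨j, e⟩)
  have hgen : ∀ z, Γ z ≠ 0 → pullback.snd p (CohB1.ProjSpace.toSpec 1 k) z = genericPoint _ := fun z hz => by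
    obtain ⟨i | x, rfl⟩ := hΓ z hz
    · exact i.2
    · exact hζg x
  have hdim : ∀ z, Γ z ≠ 0 → FibDim.rd π z = 1 := fun z hz => by
    obtain ⟨i | x, rfl⟩ := hΓ z hz
    · exact hξdim i.1
    · exact hζd x
  let S : Finset ↥(pullback p (CohB1.ProjSpace.toSpec 1 k)) := Finset.univ.image pt
  have hSΓ : ∀ z, Γ z ≠ 0 → z ∈ S := fun z hz => by
    obtain ⟨j, hj⟩ := hΓ z hz
    exact Finset.mem_image.2 ⟨j, Finset.mem_univ _, hj⟩
  have hfib : ∀ u hu x, AlgEqCyc.fibreFun p _ Γ u hu x = (∑ i : G, M i.1 u hu x) + β x := by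
    intro u hu x
    rw [ZCorrSym.fibreFun_eq_sum p _ Γ S hSΓ u hu x]
    have e1 : ∀ s, Γ s * (ZCorrComp.mult p _ u hu s x : ℤ) =
        ∑ j : J, if pt j = s then c j * (ZCorrComp.mult p _ u hu (pt j) x : ℤ) else 0 := fun s => by
      show (∑ j : J, if pt j = s then c j else 0) * _ = _
      rw [Finset.sum_mul]
      refine Finset.sum_congr rfl fun j _ => ?_
      by_cases hj : pt j = s
      · rw [if_pos hj, if_pos hj, hj]
      · rw [if_neg hj, if_neg hj, zero_mul]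
    rw [Finset.sum_congr rfl fun s _ => e1 s, Finset.sum_comm]
    simp only [Finset.sum_ite_eq, S, Finset.mem_image, Finset.mem_univ, true_and, exists_apply_eq_apply, if_true]
    rw [Fintype.sum_sum_type]
    simp only [c, pt, Sum.elim_inl, Sum.elim_inr, one_mul]
    congr 1
    by_cases hx : x ∈ hβf.toFinset
    · rw [Finset.sum_eq_single (⟨x, hx⟩ : C) (fun b _ hb => by
          rw [((hζm b u hu x).2 fun e => hb (Subtype.ext e.symm)), Nat.cast_zero, mul_zero])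
        (fun h => absurd (Finset.mem_univ _) h), (hζm ⟨x, hx⟩ u hu x).1 rfl]
      simp
    · rw [Finset.sum_eq_zero fun b _ => by
        rw [((hζm b u hu x).2 fun (e : x = b.1) => hx (e ▸ b.2)), Nat.cast_zero, mul_zero]]
      exact (not_not.1 fun h => hx (hβf.mem_toFinset.2 h)).symm
  have hBf : (Function.support fun x => ∑ i : G, M i.1 (t 1) (ht 1) x).Finite := by
    refine (Set.finite_iUnion fun i : G => finite_support_mult p (t 1) (ht 1) (ξ i.1) i.2 (hξdim i.1)).subset ?_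
    intro x hx
    obtain ⟨i, -, hi⟩ := Finset.exists_ne_zero_of_sum_ne_zero hx
    exact Set.mem_iUnion.2 ⟨i, hi⟩
  let γ := ofFinite _ hBf
  have hγ0 : ∀ x, 0 ≤ γ x := fun x => Finset.sum_nonneg fun i _ => Int.natCast_nonneg _
  have hγZ : γ ∈ Cyc.Zk X δ 0 := fun x hx => Finset.sum_eq_zero fun i _ => by
    simp only [M, mult_eq_zero p (t 1) (ht 1) δ hδ (ξ i.1) i.2 (hξdim i.1) x hx, Nat.cast_zero]
  obtain ⟨m, hm⟩ : ∃ m : ℕ, ∑ᶠ x, γ x = (m : ℤ) := ⟨(∑ᶠ x, γ x).toNat,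
    (Int.toNat_of_nonneg (finsum_nonneg hγ0)).symm⟩
  have hf1 : ∀ x, AlgEqCyc.fibreFun p _ Γ (t 1) (ht 1) x = β x + γ x := fun x => by
    rw [hfib, add_comm]
    rfl
  have hf0 : ∀ x, AlgEqCyc.fibreFun p _ Γ (t 0) (ht 0) x = α x + γ x := fun x => by
    have h1 := hsum x
    rw [finsum_eq_sum_of_fintype, Function.locallyFinsuppWithin.coe_sub, Pi.sub_apply] at h1
    simp only [hterm] at h1
    rw [Finset.sum_sub_distrib, ← Finset.sum_filter, ← Finset.sum_filter,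
      Finset.sum_subtype (p := fun i => pullback.snd p (CohB1.ProjSpace.toSpec 1 k) (ξ i) = genericPoint _) _
        (fun i => by simp),
      Finset.sum_subtype (p := fun i => pullback.snd p (CohB1.ProjSpace.toSpec 1 k) (ξ i) = genericPoint _) _
        (fun i => by simp)] at h1
    rw [hfib]
    show _ = α x + ∑ i : G, M i.1 (t 1) (ht 1) x
    linarith
  have hαf : (Function.support ⇑α).Finite := by
    have h1 := α.locallyFiniteSupport.finite_inter_support_of_isCompact (isCompact_univ (X := X))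
    rwa [Set.univ_inter] at h1
  have hαγ : ∑ᶠ x, AlgEqCyc.fibreFun p _ Γ (t 0) (ht 0) x = ((d + m : ℕ) : ℤ) := by
    rw [finsum_congr hf0]
    show ∑ᶠ x, (α x + (fun x => ∑ i : G, M i.1 (t 1) (ht 1) x) x) = _
    rw [finsum_add_distrib hαf hBf, hαd]
    push_cast
    rw [show (∑ᶠ x, ∑ i : G, M i.1 (t 1) (ht 1) x) = (m : ℤ) from hm]
  have hfinS : ∀ u hu, (Function.support fun x => AlgEqCyc.fibreFun p _ Γ u hu x).Finite := fun u hu => by
    refine ((Set.finite_iUnion fun i : G => finite_support_mult p u hu (ξ i.1) i.2 (hξdim i.1)).union hβf).subset ?_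
    intro x hx
    simp only [Function.mem_support, hfib] at hx
    by_cases hb : β x = 0
    · rw [hb, add_zero] at hx
      obtain ⟨i, -, hi⟩ := Finset.exists_ne_zero_of_sum_ne_zero hx
      exact Or.inl (Set.mem_iUnion.2 ⟨i, hi⟩)
    · exact Or.inr hb
  have hdeg : ∀ (u : Spec (CommRingCat.of k) ⟶ CohB1.ProjSpace 1 k) (hu : u ≫ CohB1.ProjSpace.toSpec 1 k = 𝟙 _),
      ∑ᶠ x, AlgEqCyc.fibreFun p _ Γ u hu x = ((d + m : ℕ) : ℤ) := by
    intro u hu
    have hZk : ∀ u hu, ofFinite _ (hfinS u hu) ∈ Cyc.Zk X δ 0 := fun u hu x hx => by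
      show AlgEqCyc.fibreFun p _ Γ u hu x = 0
      rw [hfib, hβ x hx, add_zero]
      exact Finset.sum_eq_zero fun i _ => by
        simp only [M, mult_eq_zero p u hu δ hδ (ξ i.1) i.2 (hξdim i.1) x hx, Nat.cast_zero]
    have hr : Cyc.RatEquivZero δ 0 (ofFinite _ (hfinS u hu) - ofFinite _ (hfinS (t 0) (ht 0))) :=
      ratEquiv_fibres p δ hδ Γ S hSΓ hgen hdim u (t 0) hu (ht 0) _ _ rfl rfl
    have h0 := finsum_eq_zero p δ hδ _
      (fun x hx => by rw [Function.locallyFinsuppWithin.coe_sub, Pi.sub_apply, hZk u hu x hx,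
        hZk (t 0) (ht 0) x hx, sub_zero]) hr
    simp only [Function.locallyFinsuppWithin.coe_sub, Pi.sub_apply, ofFinite_apply] at h0
    rw [finsum_sub_distrib (hfinS u hu) (hfinS (t 0) (ht 0)), sub_eq_zero, hαγ] at h0
    exact h0
  obtain ⟨F, hF, hFc⟩ := ZCorrSym.exists_morphism p (CohB1.ProjSpace.toSpec 1 k) Γ hAF (hS (d + m)) hΓ0
    (fun z hz => ZCorrP1.finite_fibres p z (hgen z hz) (hdim z hz))
    (fun z hz w h => ZCorrP1.flat_component p z w h (hgen z hz)) hdeg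
  refine ⟨m, γ, hγZ, hγ0, hm, F, t 0, t 1, hF, ht 0, ht 1, ?_, ?_⟩
  · rw [show ⇑(α + γ) = AlgEqCyc.fibreFun p _ Γ (t 0) (ht 0) from funext fun x => (hf0 x).symm]
    exact hFc _ _
  · rw [show ⇑(β + γ) = AlgEqCyc.fibreFun p _ Γ (t 1) (ht 1) from funext fun x => (hf1 x).symm]
    exact hFc _ _

end Groth.Agent.H23.ZCorrMain
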