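import Groth.Agent.H23.ZCorrSlice
import Groth.Agent.H23.ProjAut
import Groth.Agent.H23.P1Vert
import Groth.Agent.H23.RatExtend
import Groth.Agent.H23.RatLine
import Groth.Agent.H23.FibreVanish
import Groth.Agent.SeesawX.PnSpec
import Groth.Agent.FibDim.AffineSpaceFibre
import Mathlib.RingTheory.Flat.TorsionFree

/-!
Families of zero-cycles parametrised by the projective line over an algebraically closed field.
-/

set_option autoImplicit false
set_option linter.style.haveILetI false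
set_option backward.isDefEq.respectTransparency false
set_option backward.isDefEq.respectTransparency.types false

universe u

open CategoryTheory CategoryTheory.Limits AlgebraicGeometry TopologicalSpace IsLocalRing Matrix

namespace Groth.Agent.H23.ZCorrP1

open Groth.Agent

variable (k : Type u) [Field k] [IsAlgClosed k]

omit [IsAlgClosed k] in
theorem exists_iso_line : ∃ a : CohB1.ProjSpaceOver 1 (Spec (CommRingCat.of k)) ≅ (CohB1.ProjSpace 1 k),
    a.hom ≫ (CohB1.ProjSpace.toSpec 1 k) = CohB1.ProjSpaceOver.toBase 1 _ := by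
  obtain ⟨a, ha, -⟩ := SeesawX.PnSpec.exists_iso 1 k
  exact ⟨a, ha⟩

omit [IsAlgClosed k] in
theorem isIntegral_line : IsIntegral (CohB1.ProjSpace 1 k) := by
  obtain ⟨a, -⟩ := exists_iso_line k
  exact IsIntegral.of_isIso a.hom

omit [IsAlgClosed k] in
theorem valuationRing_line [IsIntegral (CohB1.ProjSpace 1 k)] (c : (CohB1.ProjSpace 1 k)) : ValuationRing ((CohB1.ProjSpace 1 k).presheaf.stalk c) := by
  obtain ⟨a, -⟩ := exists_iso_line k
  obtain ⟨c', rfl⟩ := a.hom.homeomorph.surjective c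
  haveI := RatExtend.valuationRing_stalk k c'
  exact RatExtend.valuationRing_of_ringEquiv (asIso (a.hom.stalkMap c')).commRingCatIsoToRingEquiv.symm

omit [IsAlgClosed k] in
theorem rd_line [IsIntegral (CohB1.ProjSpace 1 k)] : FibDim.rd (CohB1.ProjSpace.toSpec 1 k) (genericPoint (CohB1.ProjSpace 1 k)) = 1 := by
  obtain ⟨a, ha⟩ := exists_iso_line k
  let S := Spec (CommRingCat.of k)
  have hδ : Cyc.DeltaCompat (𝟙 S) (fun x => (FibDim.rd (𝟙 S) x : ℤ)) (fun _ => 0) := CycLib.deltaCompat_rd (𝟙 S)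
  have hS : Cyc.IsSetup S (fun x => (FibDim.rd (𝟙 S) x : ℤ)) :=
    SetupLFT.isSetup (𝟙 S) (CycLib.isSetup_spec_field k) hδ
  have hP := CycLib.deltaCompat_of_comp (CohB1.ProjSpaceOver.toBase 1 S) (𝟙 S) hδ
    (CohB1.ProjSpaceOver.toBase 1 S ≫ 𝟙 S) rfl
  have h := P1Proper.delta_generic (𝟙 S) hδ hP hS (n := 0)
    (by exact_mod_cast FibDim.rd_eq_zero_of_quasiFinite (𝟙 S) _)
  haveI := P1Proper.isIntegral (𝟙 S)
  have e : a.hom (genericPoint (CohB1.ProjSpaceOver 1 S)) = genericPoint (CohB1.ProjSpace 1 k) := by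
    haveI : IsOpenImmersion a.hom := inferInstance
    exact genericPoint_eq_of_isOpenImmersion a.hom
  have h2 := CycLib.rd_comp a.hom (CohB1.ProjSpace.toSpec 1 k) (genericPoint (CohB1.ProjSpaceOver 1 S))
  rw [ha, e, FibDim.rd_eq_zero_of_quasiFinite a.hom, add_zero] at h2
  rw [← h2]
  simp only [Category.comp_id] at h
  exact_mod_cast h

section Points

variable {k}

open Groth.Agent.SBAut Groth.Agent.SBAut.ProjIso in
/-- Two pairs of distinct rational points differ by an automorphism. -/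
theorem exists_aut (s t : Fin (1 + 1) → (Spec (CommRingCat.of k) ⟶ (CohB1.ProjSpace 1 k))) (hs : ∀ i, s i ≫ (CohB1.ProjSpace.toSpec 1 k) = 𝟙 _)
    (ht : ∀ i, t i ≫ (CohB1.ProjSpace.toSpec 1 k) = 𝟙 _) (hs' : s 0 ≠ s 1) (ht' : t 0 ≠ t 1) :
    ∃ σ : (CohB1.ProjSpace 1 k) ≅ (CohB1.ProjSpace 1 k), σ.hom ≫ (CohB1.ProjSpace.toSpec 1 k) = (CohB1.ProjSpace.toSpec 1 k) ∧ ∀ i, s i ≫ σ.hom = t i := by
  classical
  have key : ∀ r : Fin (1 + 1) → (Spec (CommRingCat.of k) ⟶ (CohB1.ProjSpace 1 k)), (∀ i, r i ≫ (CohB1.ProjSpace.toSpec 1 k) = 𝟙 _) → r 0 ≠ r 1 →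
      ∃ (M : GL (Fin (1 + 1)) k), ∀ i, ∃ (j : Fin (1 + 1)) (hj : IsUnit (((M : Matrix _ _ k) *ᵥ Pi.single i 1) j)),
        r i = ppt (K := k) ((M : Matrix _ _ k) *ᵥ Pi.single i 1) j hj := by
    intro r hr hr'
    have he : ∀ i, ∃ (v : Fin (1 + 1) → k) (j : Fin (1 + 1)) (hj : v j = 1),
        r i = ppt (K := k) v j (hj ▸ isUnit_one) := fun i => ProjAut.exists_ppt (r i) (by simp [hr i])
    choose v j hj hv using he
    let V : Matrix (Fin (1 + 1)) (Fin (1 + 1)) k := fun a b => v b a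
    have hdet : V.det ≠ 0 := by
      intro h0
      rw [Matrix.det_fin_two] at h0
      refine hr' ?_
      rw [hv 0, hv 1]
      refine ppt_of_rel (fun a b => ?_) _ _
      fin_cases a <;> fin_cases b <;> simp [V] at h0 ⊢ <;> first | linear_combination h0 | linear_combination -h0 | ring
    have hcol : ∀ i, V *ᵥ Pi.single i 1 = v i := fun i => by
      ext a
      simp [V, Matrix.mulVec_single]
    refine ⟨Matrix.GeneralLinearGroup.mkOfDetNeZero V hdet, fun i => ?_⟩
    have e : ((Matrix.GeneralLinearGroup.mkOfDetNeZero V hdet : GL (Fin (1 + 1)) k) : Matrix _ _ k) = V := rfl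
    refine ⟨j i, by rw [e, hcol, hj i]; exact isUnit_one, ?_⟩
    rw [hv i]
    exact ppt_of_rel (by rw [e, hcol]; exact SBAut.Rel.refl _) _ _
  obtain ⟨A, hA⟩ := key s hs hs'
  obtain ⟨B, hB⟩ := key t ht ht'
  let σ : (CohB1.ProjSpace 1 k) ≅ (CohB1.ProjSpace 1 k) := (Over.forget _).mapIso (ProjAut.actAut (B * A⁻¹))
  refine ⟨σ, Over.w (ProjAut.actAut (B * A⁻¹)).hom, fun i => ?_⟩
  obtain ⟨a, ha, hsa⟩ := hA i
  obtain ⟨b, hb, htb⟩ := hB i
  show s i ≫ ProjAut.actMap (B * A⁻¹) = t i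
  have hmul : ((B * A⁻¹ : GL (Fin (1 + 1)) k) : Matrix (Fin (1 + 1)) (Fin (1 + 1)) k).map (algebraMap k k) *ᵥ
      ((A : Matrix (Fin (1 + 1)) (Fin (1 + 1)) k) *ᵥ Pi.single i 1) = (B : Matrix (Fin (1 + 1)) (Fin (1 + 1)) k) *ᵥ Pi.single i 1 := by
    rw [show ((B * A⁻¹ : GL (Fin (1 + 1)) k) : Matrix (Fin (1 + 1)) (Fin (1 + 1)) k).map (algebraMap k k) =
      ((B * A⁻¹ : GL (Fin (1 + 1)) k) : Matrix (Fin (1 + 1)) (Fin (1 + 1)) k) from by ext; simp, Matrix.mulVec_mulVec,
      ← Units.val_mul, inv_mul_cancel_right]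
  rw [hsa, htb, ProjAut.ppt_actMap _ _ a b ha (by rw [hmul]; exact hb)]
  exact ppt_of_rel (by rw [hmul]; exact SBAut.Rel.refl _) _ _

/-- A frame of the projective line at two distinct rational points. -/
theorem exists_frame (t : Fin (1 + 1) → (Spec (CommRingCat.of k) ⟶ (CohB1.ProjSpace 1 k))) (ht : ∀ i, t i ≫ (CohB1.ProjSpace.toSpec 1 k) = 𝟙 _)
    (ht' : t 0 ≠ t 1) :
    ∃ b : CohB1.ProjSpaceOver 1 (Spec (CommRingCat.of k)) ≅ (CohB1.ProjSpace 1 k), b.hom ≫ (CohB1.ProjSpace.toSpec 1 k) = CohB1.ProjSpaceOver.toBase 1 _ ∧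
      ∀ i, P1.sect (Spec (CommRingCat.of k)) i ≫ b.hom = t i := by
  obtain ⟨a, ha⟩ := exists_iso_line k
  obtain ⟨σ, hσ, hσs⟩ := exists_aut (fun i => P1.sect (Spec (CommRingCat.of k)) i ≫ a.hom) t
    (fun i => by rw [Category.assoc, ha, P1Sect.sect_toBase]) ht
    (fun h => P1Vert.sect_ne_sect (closedPoint k) (closedPoint k)
      (congr(($((cancel_mono a.hom).1 h)).base (closedPoint k)))) ht'
  refine ⟨a ≪≫ σ, ?_, fun i => ?_⟩
  · rw [Iso.trans_hom, Category.assoc, hσ, ha]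
  · rw [Iso.trans_hom, ← Category.assoc, hσs]

variable {X : Scheme.{u}} (p : X ⟶ Spec (CommRingCat.of k))

/-- The product with the line as the projective line over the scheme, in a frame. -/
theorem exists_iso_prod (t : Fin (1 + 1) → (Spec (CommRingCat.of k) ⟶ (CohB1.ProjSpace 1 k))) (ht : ∀ i, t i ≫ (CohB1.ProjSpace.toSpec 1 k) = 𝟙 _)
    (ht' : t 0 ≠ t 1) :
    ∃ e : CohB1.ProjSpaceOver 1 X ≅ pullback p (CohB1.ProjSpace.toSpec 1 k), e.hom ≫ pullback.fst p (CohB1.ProjSpace.toSpec 1 k) = CohB1.ProjSpaceOver.toBase 1 X ∧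
      ∀ i, P1.sect X i ≫ e.hom = AlgEqCyc.slice p (CohB1.ProjSpace.toSpec 1 k) (t i) (ht i) := by
  obtain ⟨b, hb, hbs⟩ := exists_frame t ht ht'
  have h : IsPullback (CohB1.ProjSpaceOver.toBase 1 X) (P1.toP1 p ≫ b.hom) p (CohB1.ProjSpace.toSpec 1 k) :=
    IsPullback.of_iso (P1Conn.isPullback_toP1 p).flip (Iso.refl _) (Iso.refl _) b (Iso.refl _)
      (by simp) (by simp) (by simp) (by simp [hb])
  refine ⟨h.isoPullback, h.isoPullback_hom_fst, fun i => ?_⟩
  apply pullback.hom_ext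
  · rw [Category.assoc, h.isoPullback_hom_fst, P1Sect.sect_toBase, ZCorrSlice.slice_fst]
  · rw [Category.assoc, h.isoPullback_hom_snd, ZCorrSlice.slice_snd, reassoc_of% (P1Vert.toP1_sect p i), hbs]

end Points

section Curves

variable {k} {X : Scheme.{u}} (p : X ⟶ Spec (CommRingCat.of k)) [IsProper p] [IsIntegral (CohB1.ProjSpace 1 k)]

omit [IsAlgClosed k] [IsProper p] in
theorem isClosed_of_ne_generic (w : (CohB1.ProjSpace 1 k)) (hw : w ≠ genericPoint (CohB1.ProjSpace 1 k)) : IsClosed ({w} : Set (CohB1.ProjSpace 1 k)) := by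
  haveI : IsProper (CohB1.ProjSpace.toSpec 1 k) := PnCoh.Chow.isProper_toSpec 1 k
  have hd := CycLib.isDimFun_of_deltaCompat (CohB1.ProjSpace.toSpec 1 k) (CycLib.isSetup_spec_field k) (CycLib.deltaCompat_rd (CohB1.ProjSpace.toSpec 1 k))
  have h1 := (hd (genericPoint (CohB1.ProjSpace 1 k)) w (genericPoint_specializes w) (Ne.symm hw)).1
  simp only [rd_line k] at h1
  refine isClosed_of_closure_subset fun y hy => ?_
  by_contra hne
  have h2 := (hd w y (specializes_iff_mem_closure.2 hy) (Ne.symm hne)).1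
  simp only at h2
  omega

omit [IsAlgClosed k] in
/-- A curve dominating the line is finite over it. -/
theorem finite_fibres (ξ : ↥(pullback p (CohB1.ProjSpace.toSpec 1 k))) (hgen : pullback.snd p (CohB1.ProjSpace.toSpec 1 k) ξ = genericPoint (CohB1.ProjSpace 1 k))
    (hdim : FibDim.rd (pullback.fst p (CohB1.ProjSpace.toSpec 1 k) ≫ p) ξ = 1) (w : (CohB1.ProjSpace 1 k)) :
    (closure {ξ} ∩ pullback.snd p (CohB1.ProjSpace.toSpec 1 k) ⁻¹' {w}).Finite := by
  haveI : IsProper (CohB1.ProjSpace.toSpec 1 k) := PnCoh.Chow.isProper_toSpec 1 k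
  have hd := CycLib.isDimFun_of_deltaCompat (pullback.fst p (CohB1.ProjSpace.toSpec 1 k) ≫ p) (CycLib.isSetup_spec_field k)
    (CycLib.deltaCompat_rd (pullback.fst p (CohB1.ProjSpace.toSpec 1 k) ≫ p))
  have hlt : ∀ z ∈ closure {ξ}, z ≠ ξ → FibDim.rd (pullback.fst p (CohB1.ProjSpace.toSpec 1 k) ≫ p) z = 0 := fun z hz hne => by
    have h1 := (hd ξ z (specializes_iff_mem_closure.2 hz) (Ne.symm hne)).1
    simp only at h1
    omega
  by_cases hw : w = genericPoint (CohB1.ProjSpace 1 k)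
  · refine (Set.finite_singleton ξ).subset fun z hz => ?_
    by_contra hne
    have h0 := hlt z hz.1 hne
    have e : FibDim.rd (pullback.fst p (CohB1.ProjSpace.toSpec 1 k) ≫ p) z = FibDim.rd (pullback.snd p (CohB1.ProjSpace.toSpec 1 k) ≫ (CohB1.ProjSpace.toSpec 1 k)) z := by
      rw [pullback.condition]
    rw [e, CycLib.rd_comp, show pullback.snd p (CohB1.ProjSpace.toSpec 1 k) z = w from hz.2, hw, rd_line k] at h0
    omega
  haveI : CompactSpace ↥(pullback p (CohB1.ProjSpace.toSpec 1 k)) := QuasiCompact.compactSpace_of_compactSpace (pullback.fst p (CohB1.ProjSpace.toSpec 1 k) ≫ p)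
  haveI : IsLocallyNoetherian (pullback p (CohB1.ProjSpace.toSpec 1 k)) :=
    LocallyOfFiniteType.isLocallyNoetherian (pullback.fst p (CohB1.ProjSpace.toSpec 1 k) ≫ p)
  haveI : IsNoetherian (pullback p (CohB1.ProjSpace.toSpec 1 k)) := { }
  let F : Set ↥(pullback p (CohB1.ProjSpace.toSpec 1 k)) := closure {ξ} ∩ pullback.snd p (CohB1.ProjSpace.toSpec 1 k) ⁻¹' {w}
  have hF : IsClosed F :=
    isClosed_closure.inter ((isClosed_of_ne_generic w hw).preimage (pullback.snd p (CohB1.ProjSpace.toSpec 1 k)).continuous)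
  haveI : QuasiSober ↥F := hF.isClosedEmbedding_subtypeVal.quasiSober
  haveI : Finite ↥F := CycLib.finite_of_forall_maximal fun x z hzx => by
    by_contra hne
    have hsp : (z : ↥(pullback p (CohB1.ProjSpace.toSpec 1 k))) ⤳ x := Topology.IsInducing.subtypeVal.specializes_iff.2 hzx
    have hz0 := hlt z z.2.1 fun h => hw (by rw [← (z.2.2 : pullback.snd p (CohB1.ProjSpace.toSpec 1 k) z = w), h, hgen])
    have h1 := (hd z x hsp fun h => hne (Subtype.ext h)).1
    simp only at h1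
    omega
  exact F.toFinite

omit [IsAlgClosed k] in
/-- A finite curve over the line dominates it. -/
theorem snd_eq_generic (ξ : ↥(pullback p (CohB1.ProjSpace.toSpec 1 k)))
    (hdim : FibDim.rd (pullback.fst p (CohB1.ProjSpace.toSpec 1 k) ≫ p) ξ = 1)
    (hfin : ∀ w : (CohB1.ProjSpace 1 k), (closure {ξ} ∩ pullback.snd p (CohB1.ProjSpace.toSpec 1 k) ⁻¹' {w}).Finite) :
    pullback.snd p (CohB1.ProjSpace.toSpec 1 k) ξ = genericPoint (CohB1.ProjSpace 1 k) := by
  haveI : IsProper (CohB1.ProjSpace.toSpec 1 k) := PnCoh.Chow.isProper_toSpec 1 k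
  by_contra hw
  have hc := isClosed_of_ne_generic _ hw
  have hsub : closure {ξ} ⊆ pullback.snd p (CohB1.ProjSpace.toSpec 1 k) ⁻¹' {pullback.snd p (CohB1.ProjSpace.toSpec 1 k) ξ} :=
    closure_minimal (Set.singleton_subset_iff.2 rfl) (hc.preimage (pullback.snd p (CohB1.ProjSpace.toSpec 1 k)).continuous)
  have hf : (closure {ξ}).Finite := (hfin _).subset fun z hz => ⟨hz, hsub hz⟩
  haveI : JacobsonSpace ↥(pullback p (CohB1.ProjSpace.toSpec 1 k)) := LocallyOfFiniteType.jacobsonSpace (pullback.fst p (CohB1.ProjSpace.toSpec 1 k) ≫ p)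
  have h := mem_closedPoints_iff.1 (FibreVanish.mem_closedPoints_of_finite isClosed_closure hf (subset_closure rfl))
  rw [DeltaFun13.rd_eq_zero_of_closed _ h] at hdim
  omega

omit [IsAlgClosed k] [IsProper p] in
/-- A component dominating the line is flat over it. -/
theorem flat_component (ξ z : ↥(pullback p (CohB1.ProjSpace.toSpec 1 k))) (h : ξ ⤳ z) (hgen : pullback.snd p (CohB1.ProjSpace.toSpec 1 k) ξ = genericPoint (CohB1.ProjSpace 1 k)) :
    ((Ideal.Quotient.mk (RingHom.ker (Cyc.specMap z ξ h))).comp ((pullback.snd p (CohB1.ProjSpace.toSpec 1 k)).stalkMap z).hom).Flat := by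
  let c := pullback.snd p (CohB1.ProjSpace.toSpec 1 k) z
  haveI := valuationRing_line k c
  let ψ := (Ideal.Quotient.mk (RingHom.ker (Cyc.specMap z ξ h))).comp ((pullback.snd p (CohB1.ProjSpace.toSpec 1 k)).stalkMap z).hom
  haveI : (RingHom.ker (Cyc.specMap z ξ h)).IsPrime := RingHom.ker_isPrime _
  letI : Algebra ((CohB1.ProjSpace 1 k).presheaf.stalk c) (Cyc.LocQuot z ξ h) := ψ.toAlgebra
  have hs : pullback.snd p (CohB1.ProjSpace.toSpec 1 k) ξ ⤳ c := h.map (pullback.snd p (CohB1.ProjSpace.toSpec 1 k)).continuous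
  have hinj : Function.Injective ψ := by
    have e : (Cyc.specMap z ξ h).comp ((pullback.snd p (CohB1.ProjSpace.toSpec 1 k)).stalkMap z).hom =
        ((pullback.snd p (CohB1.ProjSpace.toSpec 1 k)).residueFieldMap ξ).hom.comp (Cyc.specMap c (pullback.snd p (CohB1.ProjSpace.toSpec 1 k) ξ) hs) := by
      have key : (pullback.snd p (CohB1.ProjSpace.toSpec 1 k)).stalkMap z ≫ (pullback p (CohB1.ProjSpace.toSpec 1 k)).presheaf.stalkSpecializes h ≫
          (pullback p (CohB1.ProjSpace.toSpec 1 k)).residue ξ = (CohB1.ProjSpace 1 k).presheaf.stalkSpecializes hs ≫ (CohB1.ProjSpace 1 k).residue _ ≫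
            (pullback.snd p (CohB1.ProjSpace.toSpec 1 k)).residueFieldMap ξ := by
        rw [Scheme.residue_residueFieldMap, ← Category.assoc,
          ← Scheme.Hom.stalkSpecializes_stalkMap (pullback.snd p (CohB1.ProjSpace.toSpec 1 k)) ξ z h, Category.assoc]
      exact congrArg CommRingCat.Hom.hom key
    have hi : ∀ (w : (CohB1.ProjSpace 1 k)), w = genericPoint (CohB1.ProjSpace 1 k) → ∀ hw : w ⤳ c, Function.Injective (Cyc.specMap c w hw) := by
      rintro w rfl hw
      have h1 : Function.Injective ((CohB1.ProjSpace 1 k).presheaf.stalkSpecializes hw).hom :=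
        IsFractionRing.injective ((CohB1.ProjSpace 1 k).presheaf.stalk c) (CohB1.ProjSpace 1 k).functionField
      have h2 : Function.Injective ((CohB1.ProjSpace 1 k).residue (genericPoint (CohB1.ProjSpace 1 k))).hom :=
        RingHom.injective (R := (CohB1.ProjSpace 1 k).functionField) ((CohB1.ProjSpace 1 k).residue (genericPoint (CohB1.ProjSpace 1 k))).hom
      exact h2.comp h1
    intro a b hab
    have h1 : (Cyc.specMap z ξ h).comp ((pullback.snd p (CohB1.ProjSpace.toSpec 1 k)).stalkMap z).hom a =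
        (Cyc.specMap z ξ h).comp ((pullback.snd p (CohB1.ProjSpace.toSpec 1 k)).stalkMap z).hom b := by
      have h2 := Ideal.Quotient.eq.1 hab
      rwa [RingHom.mem_ker, map_sub, sub_eq_zero] at h2
    rw [e] at h1
    exact hi _ hgen hs (((pullback.snd p (CohB1.ProjSpace.toSpec 1 k)).residueFieldMap ξ).hom.injective h1)
  haveI : Module.IsTorsionFree ((CohB1.ProjSpace 1 k).presheaf.stalk c) (Cyc.LocQuot z ξ h) :=
    Module.isTorsionFree_iff_algebraMap_injective.2 hinj
  exact (Module.Flat.flat_iff_torsion_eq_bot_of_isBezout).2 (Submodule.isTorsionFree_iff_torsion_eq_bot.1 ‹_›)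

end Curves

end Groth.Agent.H23.ZCorrP1
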