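import Groth.Agent.H23.ZCorrComp
import Groth.Agent.H23.SymSing
import Groth.Agent.H23.SymFlat
import Groth.Agent.ConsPropLib.Noetherian
import Groth.Agent.S7388
import Groth.Agent.DescLib.SepSurj
import Groth.Prelude.Def_RelProj
import Groth.Prelude.Def_W4c5zerocyclessurfSym
import Mathlib.RingTheory.Jacobson.Ring
import Mathlib.AlgebraicGeometry.ZariskisMainTheorem

/-!
An effective correspondence with finite flat components induces a morphism to the symmetric power.
-/

set_option autoImplicit false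
set_option backward.isDefEq.respectTransparency false
set_option linter.style.haveILetI false

universe u

open CategoryTheory CategoryTheory.Limits AlgebraicGeometry TopologicalSpace
open scoped TensorProduct

namespace Groth.Agent.H23.ZCorrSym

open SymProd SymAF SymTensorChart

/-- A projective scheme has finite sets in affine opens. -/
theorem isAF_of_isHProjective {X S : Scheme.{u}} [IsAffine S] (p : X ⟶ S) (hp : RelProj.IsHProjective p) : IsAF p := by
  classical
  obtain ⟨n, i, hi, -⟩ := hp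
  intro s T _
  haveI := hi
  let a : X ⟶ CohB1.ProjSpace n (ULift.{u} ℤ) := i ≫ pullback.fst _ _
  haveI : IsAffineHom (pullback.fst (CohB1.ProjSpace.toSpec n (ULift.{u} ℤ)) (specULiftZIsTerminal.from S)) :=
    MorphismProperty.pullback_fst _ _ (inferInstance : IsAffineHom (specULiftZIsTerminal.from S))
  haveI : IsAffineHom a := MorphismProperty.comp_mem _ _ _ inferInstance inferInstance
  obtain ⟨U, hU, hTU⟩ := S7388.result (CohB1.polyGrading n (ULift.{u} ℤ))
    (𝟙 (CohB1.ProjSpace n (ULift.{u} ℤ))) ((T.image a : Finset _) : Set _) (Finset.finite_toSet _)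
  exact ⟨a ⁻¹ᵁ U, hU.preimage a, fun x hx => hTU (Finset.mem_coe.2 (Finset.mem_image_of_mem a hx))⟩

variable {k : Type u} [Field k]

section Point

variable [IsAlgClosed k] {X Y : Scheme.{u}} (p : X ⟶ Spec (CommRingCat.of k)) [LocallyOfFiniteType p] {d : ℕ}
  {q : fibPow p d ⟶ Y} {g : Y ⟶ Spec (CommRingCat.of k)}

/-- A rational point of the symmetric power is determined by its cycle. -/
theorem sym_point_unique (hq : IsSymProd p d q g) {y y' : Spec (CommRingCat.of k) ⟶ Y} (hy : y ≫ g = 𝟙 _)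
    (hy' : y' ≫ g = 𝟙 _) {α : X → ℤ} (h : ZCorr.IsCycleOfSymPt p d q y α) (h' : ZCorr.IsCycleOfSymPt p d q y' α) :
    y = y' := by
  classical
  obtain ⟨t, rfl, ht⟩ := h
  obtain ⟨t', rfl, ht'⟩ := h'
  let c : Fin d → X := fun i => (t ≫ WidePullback.π (fun _ => p) i) (IsLocalRing.closedPoint k)
  let c' : Fin d → X := fun i => (t' ≫ WidePullback.π (fun _ => p) i) (IsLocalRing.closedPoint k)
  have hcard : ∀ x, Nat.card {i // c i = x} = Nat.card {i // c' i = x} := fun x => by
    exact_mod_cast (ht x).symm.trans (ht' x)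
  let e : ∀ x, {i // c i = x} ≃ {i // c' i = x} := fun x =>
    (Finite.card_eq.1 (hcard x)).some
  let σ : Fin d ≃ Fin d := (Equiv.sigmaFiberEquiv c).symm.trans ((Equiv.sigmaCongrRight e).trans (Equiv.sigmaFiberEquiv c'))
  have hσ : ∀ i, c' (σ i) = c i := fun i => (e (c i) ⟨i, rfl⟩).2
  have hb : ∀ (s : Spec (CommRingCat.of k) ⟶ fibPow p d), s ≫ q ≫ g = 𝟙 _ → ∀ i,
      (s ≫ WidePullback.π (fun _ => p) i) ≫ p = 𝟙 _ := fun s hs i => by
    rw [Category.assoc, WidePullback.π_arrow, ← hq.over, hs]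
  have htt : t = t' ≫ permHom p d σ.symm := by
    refine WidePullback.hom_ext _ _ _ (fun i => ?_) ?_
    · rw [Category.assoc, permHom_π, Equiv.symm_symm]
      exact ext_of_apply_closedPoint_eq p (hb t ((Category.assoc _ _ _).symm.trans hy) i)
        (hb t' ((Category.assoc _ _ _).symm.trans hy') (σ i)) (hσ i).symm
    · rw [Category.assoc, permHom_base, ← hq.over, ← Category.assoc, ← Category.assoc, hy, hy']
  rw [htt, Category.assoc]
  exact congrArg _ (hq.isQuot.inv ⟨σ.symm⟩)

end Point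

section Chart

variable [Infinite k] {X Y : Scheme.{u}} (p : X ⟶ Spec (CommRingCat.of k)) {d : ℕ}
  {q : fibPow p d ⟶ Y} {g : Y ⟶ Spec (CommRingCat.of k)}

theorem exists_affine_nhd (hd : 0 < d) (hq : IsSymProd p d q g) {U : X.Opens} (hU : IsAffineOpen U) :
    ∃ W' : Y.Opens, IsAffineOpen W' ∧ q ⁻¹ᵁ W' = pow p d U := by
  have hUV : U ≤ p ⁻¹ᵁ ⊤ := le_top
  have hW := isAffineOpen_pow p hd hU (isAffineOpen_top _) hUV
  let W := pow p d U
  haveI := SGA1Q.isIntegralHom hq.isQuot
  let W' : Y.Opens := ⟨(q.base '' (W : Set (fibPow p d))ᶜ)ᶜ, (q.isClosedMap _ W.isOpen.isClosed_compl).isOpen_compl⟩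
  have hpre : q ⁻¹ᵁ W' = W := by
    refine Opens.ext (Set.ext fun z => ⟨fun hz => ?_, fun hz => ?_⟩)
    · by_contra h
      exact hz ⟨z, h, rfl⟩
    · rintro ⟨z', hz', e⟩
      obtain ⟨σ, hσ⟩ := (SGA1Q.orbit_iff hq.isQuot z' z).1 e
      refine hz' ?_
      rw [← hσ] at hz
      have : z' ∈ permHom p d σ.down ⁻¹ᵁ W := hz
      rwa [permHom_preimage_pow] at this
  have hst : ∀ σ : ULift.{u} (Equiv.Perm (Fin d)), q ⁻¹ᵁ W' ≤ (permActU p d σ).hom ⁻¹ᵁ (q ⁻¹ᵁ W') :=
    fun σ => SGA1.preimage_le_of_inv (permActU p d) q hq.isQuot.inv σ W'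
  haveI : IsAffine (q ⁻¹ᵁ W').toScheme := hpre.symm ▸ hW
  exact ⟨W', SGA1Q.isAffine_of_isQuot (SGA1Q.isQuot_morphismRestrict hq.isQuot W'
    (SGA1Q.restrictAction (permActU p d) (q ⁻¹ᵁ W') hst)
    (fun σ => SGA1Q.restrictAction_hom_ι (permActU p d) _ hst σ)), hpre⟩

/-- A family of matrices gives a point of the chart with the expected values at rational points. -/
theorem exists_chart_hom (hd : 0 < d) (hq : IsSymProd p d q g) {U : X.Opens} (hU : IsAffineOpen U)
    [Algebra k Γ(X, U)] (hA : hU.fromSpec ≫ p = Spec.map (CommRingCat.ofHom (algebraMap k Γ(X, U))))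
    {R : Type u} [CommRing R] [Algebra k R] (μ : Γ(X, U) →ₗ[k] Matrix (Fin d) (Fin d) R)
    (hmul : ∀ a b, (μ (a * b)).det = (μ a).det * (μ b).det) (hone : (μ 1).det = 1) :
    ∃ F : Spec (CommRingCat.of R) ⟶ Y, F ≫ g = Spec.map (CommRingCat.ofHom (algebraMap k R)) ∧
      ∀ (χ : R →ₐ[k] k) (e : Fin d → Γ(X, U) →ₐ[k] k), (∀ a, χ (μ a).det = ∏ i, e i a) →
        ∃ t : Spec (CommRingCat.of k) ⟶ fibPow p d, t ≫ q = Spec.map (CommRingCat.ofHom χ.toRingHom) ≫ F ∧
          ∀ i, t ≫ WidePullback.π (fun _ => p) i = Spec.map (CommRingCat.ofHom (e i).toRingHom) ≫ hU.fromSpec := by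
  classical
  let A := Γ(X, U)
  obtain ⟨W', hW', hpre⟩ := exists_affine_nhd p hd hq hU
  have hW := isAffineOpen_pow p hd hU (isAffineOpen_top (Spec (CommRingCat.of k))) (le_top : U ≤ p ⁻¹ᵁ ⊤)
  let B := Γ(fibPow p d, pow p d U)
  let base := WidePullback.base (fun _ : Fin d => p)
  obtain ⟨φB, hφB⟩ := Spec.map_surjective (hW.fromSpec ≫ base)
  letI : Algebra k B := φB.hom.toAlgebra
  obtain ⟨φC, hφC⟩ := Spec.map_surjective (hW'.fromSpec ≫ g)
  letI : Algebra k Γ(Y, W') := φC.hom.toAlgebra
  let πi := fun i => (WidePullback.π (fun _ : Fin d => p) i).appLE U (pow p d U) (pow_le_π p i)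
  have hπi : ∀ i, Spec.map (πi i) ≫ hU.fromSpec = hW.fromSpec ≫ WidePullback.π (fun _ : Fin d => p) i :=
    fun i => IsAffineOpen.SpecMap_appLE_fromSpec _ hU hW _
  have hcomm : ∀ i, CommRingCat.ofHom (algebraMap k A) ≫ πi i = φB := fun i => by
    refine Spec.map_injective ?_
    rw [Spec.map_comp, hφB, ← hA, ← Category.assoc, hπi, Category.assoc, WidePullback.π_arrow]
  let ι : Fin d → A →ₐ[k] B := fun i =>
    { (πi i).hom with commutes' := fun a => congr(($(hcomm i)).hom a) }
  have hι : SymPowAlg.IsPow ι := by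
    intro E _ _ fE
    let b₀ : Spec (CommRingCat.of E) ⟶ fibPow p d :=
      WidePullback.lift (Spec.map (CommRingCat.ofHom (algebraMap k E)))
        (fun i => Spec.map (CommRingCat.ofHom (fE i).toRingHom) ≫ hU.fromSpec) (fun i => by
          rw [Category.assoc, hA, ← Spec.map_comp]
          congr 1
          exact CommRingCat.hom_ext (fE i).comp_algebraMap)
    have hb₀ : Set.range b₀ ⊆ Set.range hW.fromSpec := by
      rintro _ ⟨x, rfl⟩
      rw [hW.range_fromSpec]
      refine (mem_pow p d).2 fun i => ?_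
      show (b₀ ≫ WidePullback.π (fun _ : Fin d => p) i).base x ∈ U
      rw [WidePullback.lift_π]
      exact hU.range_fromSpec.le ⟨_, rfl⟩
    obtain ⟨h₀, hh₀⟩ := Spec.map_surjective (IsOpenImmersion.lift hW.fromSpec b₀ hb₀)
    have hfac : Spec.map h₀ ≫ hW.fromSpec = b₀ := by rw [hh₀, IsOpenImmersion.lift_fac]
    have hcE : φB ≫ h₀ = CommRingCat.ofHom (algebraMap k E) := Spec.map_injective (by
      rw [Spec.map_comp, hφB, reassoc_of% hfac, WidePullback.lift_base])
    let h : B →ₐ[k] E := { h₀.hom with commutes' := fun a => congr(($hcE).hom a) }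
    refine ⟨h, fun i => ?_, fun l hl => ?_⟩
    · have he : πi i ≫ h₀ = CommRingCat.ofHom (fE i).toRingHom := Spec.map_injective
        ((cancel_mono hU.fromSpec).1 (by
          rw [Spec.map_comp_assoc, hπi, reassoc_of% hfac, WidePullback.lift_π]))
      exact AlgHom.ext fun a => congr(($he).hom a)
    · have he : CommRingCat.ofHom l.toRingHom = h₀ := by
        refine Spec.map_injective ((cancel_mono hW.fromSpec).1 ?_)
        rw [hfac]
        refine WidePullback.hom_ext _ _ _ (fun i => ?_) ?_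
        · rw [Category.assoc, ← hπi, ← Spec.map_comp_assoc, WidePullback.lift_π]
          congr 2
          exact CommRingCat.hom_ext (congrArg AlgHom.toRingHom (hl i))
        · rw [Category.assoc, ← hφB, ← Spec.map_comp, WidePullback.lift_base]
          congr 1
          exact CommRingCat.hom_ext l.comp_algebraMap
      exact AlgHom.ext fun b => congr(($he).hom b)
  let T := ⨂[k] _ : Fin d, A
  let sing : Fin d → A →ₐ[k] T := fun i => PiTensorProduct.singleAlgHom (R := k) (A := fun _ : Fin d => A) i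
  have hT : SymPowAlg.IsPow sing := SymPowAlg.isPow_piTensor
  obtain ⟨θ', hθ', -⟩ := hι T sing
  obtain ⟨θ, hθ, -⟩ := hT B ι
  have hθ'θ : θ'.comp θ = AlgHom.id k T := hT.hom_ext fun i => by
    rw [AlgHom.comp_assoc, hθ, hθ']; rfl
  have hθθ' : θ.comp θ' = AlgHom.id k B := hι.hom_ext fun i => by
    rw [AlgHom.comp_assoc, hθ', hθ]; rfl
  let qC := q.appLE W' (pow p d U) hpre.ge
  have hqC : Spec.map qC ≫ hW'.fromSpec = hW.fromSpec ≫ q := IsAffineOpen.SpecMap_appLE_fromSpec _ hW' hW _
  have hcq : φC ≫ qC = φB := Spec.map_injective (by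
    rw [Spec.map_comp, hφC, hφB, reassoc_of% hqC, hq.over])
  let qA : Γ(Y, W') →ₐ[k] B := { qC.hom with commutes' := fun a => congr(($hcq).hom a) }
  let L : Γ(Y, W') →ₐ[k] T := θ'.comp qA
  have hθL : ∀ c, θ (L c) = qA c := fun c => AlgHom.congr_fun hθθ' (qA c)
  have hperm : ∀ (σ : Equiv.Perm (Fin d)) (t : T),
      θ (SymTen.perm k A d σ t) = hι.perm σ (θ t) := by
    intro σ t
    refine AlgHom.congr_fun (φ₁ := θ.comp ((SymTen.perm k A d σ : T →ₐ[k] T))) (φ₂ := (hι.perm σ).comp θ)
      (hT.hom_ext fun i => AlgHom.ext fun b => ?_) t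
    have hper : SymTen.perm k A d σ (sing i b) = sing (σ i) b := by
      show SymTen.perm k A d σ (PiTensorProduct.tprod k (Pi.mulSingle (M := fun _ : Fin d => A) i b)) =
        PiTensorProduct.tprod k (Pi.mulSingle (M := fun _ : Fin d => A) (σ i) b)
      erw [SymTen.perm_tprod]
      congr 1
      funext l
      by_cases h : l = σ i
      · subst h; simp
      · rw [Pi.mulSingle_eq_of_ne h, Pi.mulSingle_eq_of_ne (fun e => h (by rw [← e, Equiv.apply_symm_apply]))]
    show θ (SymTen.perm k A d σ (sing i b)) = hι.perm σ (θ (sing i b))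
    rw [hper]
    have h1 : ∀ l c, θ (sing l c) = ι l c := fun l c => AlgHom.congr_fun (hθ l) c
    rw [h1, h1, hι.perm_ι]
  have hpermB : ∀ (σ : Equiv.Perm (Fin d)) (b : B), hι.perm σ b =
      ((permHom p d σ⁻¹).appLE (pow p d U) (pow p d U) (permHom_preimage_pow p d U σ⁻¹).ge).hom b := by
    intro σ b
    let P₀ := (permHom p d σ⁻¹).appLE (pow p d U) (pow p d U) (permHom_preimage_pow p d U σ⁻¹).ge
    have hP₀ : Spec.map P₀ ≫ hW.fromSpec = hW.fromSpec ≫ permHom p d σ⁻¹ :=
      IsAffineOpen.SpecMap_appLE_fromSpec _ hW hW _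
    have hPk : φB ≫ P₀ = φB := Spec.map_injective (by
      rw [Spec.map_comp, hφB, reassoc_of% hP₀, permHom_base])
    let P : B →ₐ[k] B := { P₀.hom with commutes' := fun r => congr(($hPk).hom r) }
    refine AlgHom.congr_fun (φ₂ := P) (hι.hom_ext fun i => AlgHom.ext fun a => ?_) b
    have hpp : πi i ≫ P₀ = πi (σ i) := by
      rw [Scheme.Hom.appLE_comp_appLE]
      exact SGA1Q.appLE_congr_hom (permHom_π p d σ⁻¹ i) _ _
    show hι.perm σ (ι i a) = P (ι i a)
    rw [hι.perm_ι]
    exact congr(($hpp).hom a).symm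
  have hLinv : ∀ c, ∀ σ, PiTensorProduct.reindex k (fun _ : Fin d => A) σ (L c) = L c := by
    intro c σ
    rw [← SymTen.perm_apply]
    have h1 : θ (SymTen.perm k A d σ (L c)) = θ (L c) := by
      rw [hperm, hθL, hpermB]
      have hqq : qC ≫ (permHom p d σ⁻¹).appLE (pow p d U) (pow p d U) (permHom_preimage_pow p d U σ⁻¹).ge = qC := by
        rw [Scheme.Hom.appLE_comp_appLE]
        exact SGA1Q.appLE_congr_hom (hq.isQuot.inv ⟨σ⁻¹⟩) _ _
      exact congr(($hqq).hom c)
    have h2 := congrArg θ' h1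
    rwa [show ∀ t, θ' (θ t) = t from AlgHom.congr_fun hθ'θ, show ∀ t, θ' (θ t) = t from AlgHom.congr_fun hθ'θ] at h2
  obtain ⟨r, hr⟩ := SymNormAlg.exists_hom μ hmul hone L hLinv
  refine ⟨Spec.map (CommRingCat.ofHom r.toRingHom) ≫ hW'.fromSpec, ?_, fun χ e he => ?_⟩
  · rw [Category.assoc, ← hφC, ← Spec.map_comp]
    congr 1
    exact CommRingCat.hom_ext r.comp_algebraMap
  · obtain ⟨E, hE, -⟩ := hT k e
    refine ⟨Spec.map (CommRingCat.ofHom (E.comp θ').toRingHom) ≫ hW.fromSpec, ?_, fun i => ?_⟩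
    · rw [Category.assoc, ← hqC, ← Spec.map_comp_assoc, ← Spec.map_comp_assoc]
      congr 2
      exact CommRingCat.hom_ext (RingHom.ext fun c =>
        (hr χ e E (fun i a => AlgHom.congr_fun (hE i) a) he c).symm)
    · rw [Category.assoc, ← hπi, ← Spec.map_comp_assoc]
      congr 2
      refine CommRingCat.hom_ext (RingHom.ext fun a => ?_)
      show E (θ' (ι i a)) = e i a
      rw [show θ' (ι i a) = sing i a from AlgHom.congr_fun (hθ' i) a]
      exact AlgHom.congr_fun (hE i) a

end Chart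

section Main

variable [IsAlgClosed k] {X W Y : Scheme.{u}} (p : X ⟶ Spec (CommRingCat.of k)) (q₀ : W ⟶ Spec (CommRingCat.of k))
  [IsProper p] [LocallyOfFiniteType q₀] [QuasiCompact q₀] [IsIntegral W]
  {d : ℕ} {q : fibPow p d ⟶ Y} {g : Y ⟶ Spec (CommRingCat.of k)}
  (Γc : AlgebraicCycle (pullback p q₀) ℤ)

theorem finite_support : (Function.support ⇑Γc).Finite := by
  haveI : CompactSpace W := QuasiCompact.compactSpace_of_compactSpace q₀
  haveI : CompactSpace ↥(pullback p q₀) := QuasiCompact.compactSpace_of_compactSpace (pullback.snd p q₀)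
  have h := Γc.locallyFiniteSupport.finite_inter_support_of_isCompact (isCompact_univ (X := ↥(pullback p q₀)))
  rwa [Set.univ_inter] at h

omit [IsProper p] [LocallyOfFiniteType q₀] [QuasiCompact q₀] [IsIntegral W] [IsAlgClosed k] in
theorem fibreFun_eq_sum (S : Finset ↥(pullback p q₀)) (hS : ∀ s, Γc s ≠ 0 → s ∈ S)
    (u : Spec (CommRingCat.of k) ⟶ W) (hu : u ≫ q₀ = 𝟙 _) (x : X) :
    AlgEqCyc.fibreFun p q₀ Γc u hu x = ∑ s ∈ S, Γc s * (ZCorrComp.mult p q₀ u hu s x : ℤ) := by
  classical
  unfold AlgEqCyc.fibreFun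
  let D : ↥(pullback p q₀) → ℤ := fun s => Γc s * (ZCorrComp.mult p q₀ u hu s x : ℤ)
  let C : ↥(pullback p q₀) → Prop := fun w => Γc w ≠ 0 ∧ w ⤳ AlgEqCyc.slice p q₀ u hu x
  refine Eq.trans (finsum_congr fun w => ?_) ((finsum_subtype_eq_finsum_cond (f := D) C).trans
    ((finsum_cond_eq_sum_of_cond_iff D (t := S) ?_)))
  · simp only [D, ZCorrComp.mult, dif_pos w.2.2]
  · intro s hs
    have h0 : Γc s ≠ 0 := fun h0 => hs (by simp [D, h0])
    refine ⟨fun _ => hS s h0, fun _ => ⟨h0, ?_⟩⟩
    by_contra h1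
    exact hs (by simp [D, ZCorrComp.mult, h1])

/-- The morphism to the symmetric power. -/
theorem exists_morphism (hAF : IsAF p) (hq : IsSymProd p d q g) (hΓ0 : ∀ ξ, 0 ≤ Γc ξ)
    (hfin : ∀ ξ, Γc ξ ≠ 0 → ∀ w : W, (closure {ξ} ∩ pullback.snd p q₀ ⁻¹' {w}).Finite)
    (hflat : ∀ ξ, Γc ξ ≠ 0 → ∀ (z : ↥(pullback p q₀)) (h : ξ ⤳ z),
      ((Ideal.Quotient.mk (RingHom.ker (Cyc.specMap z ξ h))).comp ((pullback.snd p q₀).stalkMap z).hom).Flat)
    (hdeg : ∀ (u : Spec (CommRingCat.of k) ⟶ W) (hu : u ≫ q₀ = 𝟙 _),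
      ∑ᶠ x, AlgEqCyc.fibreFun p q₀ Γc u hu x = (d : ℤ)) :
    ∃ F : W ⟶ Y, F ≫ g = q₀ ∧
      ∀ (u : Spec (CommRingCat.of k) ⟶ W) (hu : u ≫ q₀ = 𝟙 _),
        ZCorr.IsCycleOfSymPt p d q (u ≫ F) (AlgEqCyc.fibreFun p q₀ Γc u hu) := by
  classical
  haveI := (SymSing.isFinite hq).2
  haveI : IsSeparated g := by
    haveI : IsSeparated (WidePullback.base (fun _ : Fin d => p)) :=
      SymCurve.base_property @IsSeparated p inferInstance d
    haveI := SGA1Q.isIntegralHom hq.isQuot
    haveI : Surjective q := ⟨SGA1Q.surjective hq.isQuot⟩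
    haveI : IsSeparated (q ≫ g) := by rw [hq.over]; infer_instance
    exact DescLib.isSeparated_of_comp_surjective q g
  let S := (finite_support p q₀ Γc).toFinset
  have hS : ∀ s, Γc s ≠ 0 → s ∈ S := fun s hs => (finite_support p q₀ Γc).mem_toFinset.2 hs
  have hS' : ∀ s ∈ S, Γc s ≠ 0 := fun s hs => (finite_support p q₀ Γc).mem_toFinset.1 hs
  let J := Σ s : S, Fin (Γc s.1).toNat
  haveI : IsLocallyNoetherian W := LocallyOfFiniteType.isLocallyNoetherian q₀
  haveI : IsLocallyNoetherian (pullback p q₀) := LocallyOfFiniteType.isLocallyNoetherian (pullback.snd p q₀)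
  -- the components
  choose Z iota hci hint hrange hgen using fun s : S => ConsPropLib.exists_integral_closure s.1
  haveI := hci
  haveI := hint
  let π := fun s => iota s ≫ pullback.snd p q₀
  have hπfin : ∀ s, IsFinite (π s) := fun s => by
    haveI : IsProper (π s) := inferInstanceAs (IsProper (iota s ≫ pullback.snd p q₀))
    haveI : LocallyQuasiFinite (π s) := LocallyQuasiFinite.of_finite_preimage_singleton (π s) fun w => by
      refine ((hfin s.1 (hS' s.1 s.2) w).preimage (iota s).isClosedEmbedding.injective.injOn).subset fun z hz => ?_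
      exact ⟨(hrange s).le ⟨z, rfl⟩, hz⟩
    exact IsFinite.of_isProper_of_locallyQuasiFinite (π s)
  have hπflat : ∀ s, Flat (π s) := fun s => by
    refine Flat.of_stalkMap _ fun z => ?_
    have hsp : s.1 ⤳ iota s z := by
      rw [← hgen s]; exact ((genericPoint_spec (Z s)).specializes trivial).map (iota s).continuous
    have hsp' : iota s (genericPoint (Z s)) ⤳ iota s z :=
      ((genericPoint_spec (Z s)).specializes trivial).map (iota s).continuous
    have hk := AlgEqPts.ker_specMap_section (iota s) z hsp'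
    let e : Cyc.LocQuot (iota s z) (iota s (genericPoint (Z s))) hsp' ≃+* (Z s).presheaf.stalk z :=
      (Ideal.quotEquivOfEq hk).trans
        (RingHom.quotientKerEquivOfSurjective ((iota s).stalkMap_surjective z))
    have h1 : ((Ideal.Quotient.mk (RingHom.ker (Cyc.specMap (iota s z) (iota s (genericPoint (Z s))) hsp'))).comp
        ((pullback.snd p q₀).stalkMap (iota s z)).hom).Flat :=
      hflat _ (by rw [hgen s]; exact hS' s.1 s.2) (iota s z) hsp'
    rw [show (π s).stalkMap z = (pullback.snd p q₀).stalkMap (iota s z) ≫ (iota s).stalkMap z from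
      Scheme.Hom.stalkMap_comp _ _ _, CommRingCat.hom_comp]
    have h2 := RingHom.Flat.comp h1 (RingHom.Flat.of_bijective (f := e.toRingHom) e.bijective)
    exact h2
  -- local morphisms
  have hloc : ∀ w : W, ∃ (R : CommRingCat.{u}) (j : Spec R ⟶ W) (_ : IsOpenImmersion j) (F : Spec R ⟶ Y),
      w ∈ Set.range j ∧ F ≫ g = j ≫ q₀ ∧
        ∀ (a : Spec (CommRingCat.of k) ⟶ Spec R) (hu : (a ≫ j) ≫ q₀ = 𝟙 _),
          ZCorr.IsCycleOfSymPt p d q (a ≫ F) (AlgEqCyc.fibreFun p q₀ Γc (a ≫ j) hu) := by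
    intro w
    haveI := hπfin
    haveI := hπflat
    let T : Finset X := Finset.univ.biUnion fun s : S =>
      ((π s).finite_preimage_singleton w).toFinset.image fun z => pullback.fst p q₀ (iota s z)
    obtain ⟨U, hU, hTU⟩ := hAF (Classical.choice (inferInstanceAs (Nonempty (PrimeSpectrum k)))) T
      fun x _ => @Subsingleton.elim _ (inferInstanceAs (Subsingleton (PrimeSpectrum k))) _ _
    let bad : Set W := ⋃ s : S, π s '' ((iota s ≫ pullback.fst p q₀) ⁻¹ᵁ U : Set (Z s))ᶜ
    have hbad : IsClosed bad := isClosed_iUnion_of_finite fun s =>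
      (π s).isClosedMap _ (((iota s ≫ pullback.fst p q₀) ⁻¹ᵁ U).isOpen.isClosed_compl)
    have hwbad : w ∉ bad := by
      rintro ⟨_, ⟨s, rfl⟩, z, hz, hzw⟩
      exact hz (hTU _ (Finset.mem_biUnion.2 ⟨s, Finset.mem_univ _, Finset.mem_image.2
        ⟨z, (Set.Finite.mem_toFinset _).2 hzw, rfl⟩⟩))
    obtain ⟨V, hV, hwV, hVbad⟩ := exists_isAffineOpen_mem_and_subset (x := w)
      (U := ⟨badᶜ, hbad.isOpen_compl⟩) hwbad
    obtain ⟨φ0, hφ0⟩ := Spec.map_surjective (hV.fromSpec ≫ q₀)
    letI : Algebra k Γ(W, V) := φ0.hom.toAlgebra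
    let B₀ := fun s : S => Γ(Z s, π s ⁻¹ᵁ V)
    letI : ∀ s, Algebra Γ(W, V) (B₀ s) := fun s => ((π s).app V).hom.toAlgebra
    haveI : IsNoetherianRing Γ(W, V) := IsLocallyNoetherian.component_noetherian ⟨V, hV⟩
    haveI : ∀ s, Module.Finite Γ(W, V) (B₀ s) := fun s => (π s).finite_app V hV
    haveI : ∀ s, Module.Flat Γ(W, V) (B₀ s) := fun s => by
      have h := (π s).flat_appLE hV (hV.preimage (π s)) le_rfl
      rw [← Scheme.Hom.app_eq_appLE] at h
      exact h
    haveI : ∀ s, Module.FinitePresentation Γ(W, V) (B₀ s) := fun s =>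
      Module.finitePresentation_of_finite Γ(W, V) (B₀ s)
    let P := hV.primeIdealOf ⟨w, hwV⟩
    have hfree : ∀ s, ∃ r : Γ(W, V), r ∉ P.asIdeal ∧
        ∀ r' : Γ(W, V), r ∣ r' → Module.Free (Localization.Away r') (Localization.Away r' ⊗[Γ(W, V)] B₀ s) := fun s => by
      haveI : Module.Free (Localization.AtPrime P.asIdeal) (LocalizedModule P.asIdeal.primeCompl (B₀ s)) :=
        Module.free_of_flat_of_isLocalRing
      obtain ⟨r, hr, hfr, -⟩ := Module.FinitePresentation.exists_free_localizedModule_powers P.asIdeal.primeCompl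
        (LocalizedModule.mkLinearMap P.asIdeal.primeCompl (B₀ s)) (Localization.AtPrime P.asIdeal)
      refine ⟨r, hr, fun r' hrr' => ?_⟩
      haveI := hfr
      haveI : Module.Free (Localization.Away r) (Localization.Away r ⊗[Γ(W, V)] B₀ s) :=
        Module.Free.of_equiv ((IsLocalizedModule.isBaseChange (Submonoid.powers r) (Localization.Away r)
          (LocalizedModule.mkLinearMap (Submonoid.powers r) (B₀ s))).equiv).symm
      letI : Algebra (Localization.Away r) (Localization.Away r') :=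
        (IsLocalization.Away.lift (S := Localization.Away r) r
          (g := algebraMap Γ(W, V) (Localization.Away r'))
          (isUnit_of_dvd_unit (map_dvd _ hrr') (IsLocalization.Away.algebraMap_isUnit r'))).toAlgebra
      haveI : IsScalarTower Γ(W, V) (Localization.Away r) (Localization.Away r') :=
        IsScalarTower.of_algebraMap_eq fun c => (IsLocalization.Away.lift_eq r _ c).symm
      exact Module.Free.of_equiv
        (TensorProduct.AlgebraTensorModule.cancelBaseChange Γ(W, V) (Localization.Away r) (Localization.Away r')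
          (Localization.Away r') (B₀ s))
    choose rs hrs hrfree using hfree
    let r₀ : Γ(W, V) := ∏ s, rs s
    have hr₀ : r₀ ∉ P.asIdeal := fun h => by
      obtain ⟨s, -, hs⟩ := (Ideal.IsPrime.prod_mem_iff).1 h
      exact hrs s hs
    let R := Localization.Away r₀
    haveI : ∀ s, Module.Free R (R ⊗[Γ(W, V)] B₀ s) := fun s =>
      hrfree s r₀ (Finset.dvd_prod_of_mem rs (Finset.mem_univ s))
    let loc : Γ(W, V) ⟶ CommRingCat.of R := CommRingCat.ofHom (algebraMap Γ(W, V) R)
    haveI : IsOpenImmersion (Spec.map loc) := IsOpenImmersion.of_isLocalization r₀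
    let j : Spec (CommRingCat.of R) ⟶ W := Spec.map loc ≫ hV.fromSpec
    have hwj : w ∈ Set.range j := by
      obtain ⟨z, hz⟩ : P ∈ Set.range (PrimeSpectrum.comap (algebraMap Γ(W, V) R)) := by
        rw [PrimeSpectrum.localization_away_comap_range R r₀]
        exact hr₀
      exact ⟨z, (congrArg hV.fromSpec hz).trans (hV.fromSpec_primeIdealOf ⟨w, hwV⟩)⟩
    have hj : j ≫ q₀ = Spec.map (CommRingCat.ofHom (algebraMap k R)) := by
      rw [Category.assoc, ← hφ0, ← Spec.map_comp]
      congr 1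
    let BR := fun s : S => R ⊗[Γ(W, V)] B₀ s
    haveI : ∀ s, IsScalarTower k R (BR s) := fun s => inferInstance
    let jB : ∀ s, Spec (CommRingCat.of (BR s)) ⟶ Z s := fun s =>
      Spec.map (CommRingCat.ofHom (Algebra.TensorProduct.includeRight : B₀ s →ₐ[Γ(W, V)] BR s).toRingHom) ≫
        (hV.preimage (π s)).fromSpec
    have hB : ∀ s, IsPullback (jB s) (Spec.map (CommRingCat.ofHom (algebraMap R (BR s)))) (π s) j := fun s => by
      have hpo : IsPushout loc ((π s).app V) (CommRingCat.ofHom (algebraMap R (BR s)))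
          (CommRingCat.ofHom (Algebra.TensorProduct.includeRight : B₀ s →ₐ[Γ(W, V)] BR s).toRingHom) :=
        CommRingCat.isPushout_tensorProduct Γ(W, V) R (B₀ s)
      exact ((isPullback_SpecMap_of_isPushout _ _ _ _ hpo).paste_vert
        (CoverPush.isPullback_fromSpec (π s) hV).flip.flip).flip
    obtain ⟨φA, hφA⟩ := Spec.map_surjective (hU.fromSpec ≫ p)
    letI : Algebra k Γ(X, U) := φA.hom.toAlgebra
    have hf : ∀ s, ∃ f : Γ(X, U) →ₐ[k] BR s,
        Spec.map (CommRingCat.ofHom f.toRingHom) ≫ hU.fromSpec = jB s ≫ iota s ≫ pullback.fst p q₀ := fun s => by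
      have hr : Set.range (jB s ≫ iota s ≫ pullback.fst p q₀) ⊆ Set.range hU.fromSpec := by
        rintro _ ⟨y, rfl⟩
        rw [hU.range_fromSpec]
        by_contra hy
        have h1 : π s (jB s y) ∈ V := by
          have : jB s y ∈ Set.range (hV.preimage (π s)).fromSpec := ⟨_, rfl⟩
          rw [(hV.preimage (π s)).range_fromSpec] at this
          exact this
        exact hVbad h1 (Set.mem_iUnion.2 ⟨s, jB s y, hy, rfl⟩)
      obtain ⟨f₀, hf₀⟩ := Spec.map_surjective (IsOpenImmersion.lift hU.fromSpec _ hr)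
      have hf₁ : Spec.map f₀ ≫ hU.fromSpec = jB s ≫ iota s ≫ pullback.fst p q₀ := by
        rw [hf₀, IsOpenImmersion.lift_fac]
      have hk : φA ≫ f₀ = CommRingCat.ofHom (algebraMap k (BR s)) := Spec.map_injective (by
        have hw := congrArg (fun m => m ≫ q₀) (hB s).w
        simp only [π, Category.assoc] at hw
        rw [Spec.map_comp, hφA, reassoc_of% hf₁, pullback.condition, hw, hj, ← Spec.map_comp]
        congr 1)
      exact ⟨{ f₀.hom with commutes' := fun c => congr(($hk).hom c) }, hf₁⟩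
    choose f hf using hf
    have hsum : ∀ (χ : R →ₐ[k] k) (u : Spec (CommRingCat.of k) ⟶ W) (hu : u ≫ q₀ = 𝟙 _),
        Spec.map (CommRingCat.ofHom χ.toRingHom) ≫ j = u →
        (∑ jj : J, Module.finrank R (BR jj.1)) = d ∧
        ∃ e : Fin d → Γ(X, U) →ₐ[k] k, (∀ a, χ (∏ jj : J, Algebra.norm R (f jj.1 a)) = ∏ i, e i a) ∧
          ∀ x : X, AlgEqCyc.fibreFun p q₀ Γc u hu x =
            (Nat.card {i : Fin d // (Spec.map (CommRingCat.ofHom (e i).toRingHom) ≫ hU.fromSpec) (IsLocalRing.closedPoint k) = x} : ℤ) := by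
      intro χ u hu huχ
      letI : Algebra R k := χ.toRingHom.toAlgebra
      haveI : IsScalarTower k R k := IsScalarTower.of_algebraMap_eq fun c => (χ.commutes c).symm
      choose I hI e he hcard using fun s : S => ZCorrComp.exists_points p q₀ (iota s) j (jB s) (hB s) hU.fromSpec
        (f s) (hf s) χ u hu huχ rfl
      have hnorm : ∀ (s : S) a, χ (Algebra.norm R (f s a)) = ∏ i, e s i a := fun s a => by
        rw [← he s a, SymNormAlg.norm_baseChange]
        rfl
      have hrank : ∀ s : S, Fintype.card (I s) = Module.finrank R (BR s) := fun s => by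
        refine SymNormAlg.pow_inj_of_infinite (k := k) fun c => ?_
        have h1 := hnorm s (algebraMap k Γ(X, U) c)
        rw [AlgHom.commutes, IsScalarTower.algebraMap_apply k R (BR s), Algebra.norm_algebraMap, map_pow,
          AlgHom.commutes] at h1
        rw [show ∀ a : k, algebraMap k k a = a from fun a => rfl] at h1
        rw [h1]
        simp
      let It := Σ jj : J, I jj.1
      let pt : It → X := fun i =>
        (Spec.map (CommRingCat.ofHom (e i.1.1 i.2).toRingHom) ≫ hU.fromSpec) (IsLocalRing.closedPoint k)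
      have hfun : ∀ x, AlgEqCyc.fibreFun p q₀ Γc u hu x = (Nat.card {i : It // pt i = x} : ℤ) := fun x => by
        let E : {i : It // pt i = x} ≃ Σ jj : J, {i : I jj.1 // pt ⟨jj, i⟩ = x} :=
          { toFun := fun i => ⟨i.1.1, ⟨i.1.2, i.2⟩⟩
            invFun := fun i => ⟨⟨i.1, i.2.1⟩, i.2.2⟩
            left_inv := fun _ => rfl
            right_inv := fun _ => rfl }
        rw [fibreFun_eq_sum p q₀ Γc S hS u hu x, Nat.card_congr E, Nat.card_sigma, Nat.cast_sum,
          Fintype.sum_sigma, ← Finset.sum_coe_sort S]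
        refine Finset.sum_congr rfl fun s _ => ?_
        have h1 : ∀ t : Fin (Γc s.1).toNat,
            Nat.card {i : I s // pt ⟨⟨s, t⟩, i⟩ = x} = ZCorrComp.mult p q₀ u hu s.1 x := fun t => by
          rw [← congrArg (fun z => ZCorrComp.mult p q₀ u hu z x) (hgen s)]
          exact hcard s x
        simp only [h1, Finset.sum_const, Finset.card_univ, Fintype.card_fin, nsmul_eq_mul]
        rw [Int.toNat_of_nonneg (hΓ0 s.1)]
      have hIt : Fintype.card It = d := by
        have h1 := hdeg u hu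
        rw [finsum_congr hfun] at h1
        rw [finsum_eq_sum_of_support_subset _ (s := Finset.univ.image pt) (fun x hx => by
          by_contra hx'
          haveI : IsEmpty {i : It // pt i = x} := ⟨fun i => hx' (by simp [← i.2])⟩
          exact hx (by simp))] at h1
        rw [← Finset.card_univ, Finset.card_eq_sum_card_image pt]
        have h2 : ∀ x, Nat.card {i : It // pt i = x} = (Finset.univ.filter fun i => pt i = x).card := fun x => by
          rw [Nat.card_eq_fintype_card, Fintype.card_subtype]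
        simp only [h2] at h1
        exact_mod_cast h1
      refine ⟨?_, ?_⟩
      · rw [← hIt, Fintype.card_sigma]
        exact Finset.sum_congr rfl fun jj _ => (hrank jj.1).symm
      let ε : It ≃ Fin d := Fintype.equivFinOfCardEq hIt
      refine ⟨fun i => e (ε.symm i).1.1 (ε.symm i).2, fun a => ?_, fun x => ?_⟩
      · rw [map_prod, ← ε.prod_comp]
        refine ((Finset.prod_congr rfl fun (jj : J) _ => hnorm jj.1 a).trans
          (Fintype.prod_sigma (fun i : It => e i.1.1 i.2 a)).symm).trans (Finset.prod_congr rfl fun i _ => ?_)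
        exact congrArg (fun z : It => e z.1.1 z.2 a) (ε.symm_apply_apply i).symm
      · rw [hfun, Nat.card_congr (ε.subtypeEquiv (p := fun i => pt i = x) (q := fun i => (Spec.map (CommRingCat.ofHom
          (e (ε.symm i).1.1 (ε.symm i).2).toRingHom) ≫ hU.fromSpec) (IsLocalRing.closedPoint k) = x) fun i => by
            rw [Equiv.symm_apply_apply])]
    -- a rational point
    haveI : Algebra.FiniteType k Γ(W, V) := by
      haveI : LocallyOfFiniteType (Spec.map φ0) := by rw [hφ0]; infer_instance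
      exact RingHom.finiteType_algebraMap.1 ((HasRingHomProperty.Spec_iff (P := @LocallyOfFiniteType)).1 this)
    haveI : Algebra.FiniteType k R := Algebra.FiniteType.trans (S := Γ(W, V)) inferInstance inferInstance
    haveI : Nontrivial R := by
      obtain ⟨z, -⟩ := hwj
      exact ⟨0, 1, fun h => (z : PrimeSpectrum R).2.ne_top ((Ideal.eq_top_iff_one _).2 (h ▸ zero_mem _))⟩
    obtain ⟨χ₀⟩ : Nonempty (R →ₐ[k] k) := by
      obtain ⟨m, hm⟩ := Ideal.exists_maximal R
      haveI := hm
      letI := Ideal.Quotient.field m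
      haveI : Module.Finite k (R ⧸ m) := finite_of_finite_type_of_isJacobsonRing k (R ⧸ m)
      exact ⟨(AlgEquiv.ofBijective (Algebra.ofId k (R ⧸ m))
        IsAlgClosed.algebraMap_bijective_of_isIntegral).symm.toAlgHom.comp (Ideal.Quotient.mkₐ k m)⟩
    have hu₀ : (Spec.map (CommRingCat.ofHom χ₀.toRingHom) ≫ j) ≫ q₀ = 𝟙 _ := by
      rw [Category.assoc, hj, ← Spec.map_comp, ← Spec.map_id]
      congr 1
      exact CommRingCat.hom_ext χ₀.comp_algebraMap
    have hrk := (hsum χ₀ _ hu₀ rfl).1
    let eJ := Fintype.equivFin J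
    obtain ⟨μ, hμ⟩ := SymNormAlg.exists_matrix (fun i => BR (eJ.symm i).1) (fun i => f (eJ.symm i).1)
      (show ∑ i, Module.finrank R (BR (eJ.symm i).1) = d by
        rw [eJ.symm.sum_comp (fun jj : J => Module.finrank R (BR jj.1))]; exact hrk)
    have hμ' : ∀ a, (μ a).det = ∏ jj : J, Algebra.norm R (f jj.1 a) := fun a =>
      (hμ a).trans (eJ.symm.prod_comp (fun jj : J => Algebra.norm R (f jj.1 a)))
    rcases Nat.eq_zero_or_pos d with rfl | hd
    · refine ⟨CommRingCat.of R, j, inferInstance,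
        j ≫ q₀ ≫ WidePullback.lift (𝟙 _) (fun i => i.elim0) (fun i => i.elim0) ≫ q, hwj, ?_, fun a hu => ?_⟩
      · simp only [Category.assoc]
        rw [hq.over, WidePullback.lift_base, Category.comp_id]
      · refine ⟨(a ≫ j) ≫ q₀ ≫ WidePullback.lift (𝟙 _) (fun i => i.elim0) (fun i => i.elim0),
          by simp only [Category.assoc], fun x => ?_⟩
        let χ := Spec.preimage a
        have hk : CommRingCat.ofHom (algebraMap k R) ≫ χ = 𝟙 _ := Spec.map_injective (by
          rw [Spec.map_comp, Spec.map_preimage, Spec.map_id, ← hj, ← Category.assoc]; exact hu)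
        obtain ⟨-, e, -, hefun⟩ := hsum { χ.hom with commutes' := fun c => congr(($hk).hom c) } (a ≫ j) hu
          (congrArg (fun b => b ≫ j) (Spec.map_preimage a))
        rw [hefun]
        simp
    obtain ⟨F, hF, hFpt⟩ := exists_chart_hom p hd hq hU hφA.symm μ
      (fun a b => by simp only [hμ', map_mul, Finset.prod_mul_distrib]) (by simp [hμ'])
    refine ⟨CommRingCat.of R, j, inferInstance, F, hwj, hF.trans hj.symm, fun a hu => ?_⟩
    let χ := Spec.preimage a
    have hk : CommRingCat.ofHom (algebraMap k R) ≫ χ = 𝟙 _ := Spec.map_injective (by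
      rw [Spec.map_comp, Spec.map_preimage, Spec.map_id, ← hj, ← Category.assoc]; exact hu)
    let χA : R →ₐ[k] k := { χ.hom with commutes' := fun c => congr(($hk).hom c) }
    have haχ : Spec.map (CommRingCat.ofHom χA.toRingHom) = a := Spec.map_preimage a
    obtain ⟨-, e, he, hefun⟩ := hsum χA (a ≫ j) hu (by rw [haχ])
    obtain ⟨t, ht, htπ⟩ := hFpt χA e fun c => by rw [hμ']; exact he c
    refine ⟨t, by rw [ht, haχ], fun x => ?_⟩
    rw [hefun x]
    simp only [htπ]
  -- gluing
  choose R j hj F hwj hFg hFpt using hloc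
  haveI := hj
  let 𝒰 : W.OpenCover :=
    { I₀ := W
      X := fun w => Spec (R w)
      f := j
      mem₀ := by
        rw [Scheme.presieve₀_mem_precoverage_iff]
        exact ⟨fun w => ⟨w, hwj w⟩, hj⟩ }
  have hcompat : ∀ a b : W, pullback.fst (j a) (j b) ≫ F a = pullback.snd (j a) (j b) ≫ F b := by
    intro a b
    have hw : (pullback.fst (j a) (j b) ≫ F a) ≫ g = (pullback.snd (j a) (j b) ≫ F b) ≫ g := by
      rw [Category.assoc, Category.assoc, hFg, hFg, pullback.condition_assoc]
    haveI : IsReduced (pullback (j a) (j b)) :=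
      isReduced_of_isOpenImmersion (pullback.fst (j a) (j b) ≫ j a)
    haveI : LocallyOfFiniteType ((pullback.fst (j a) (j b) ≫ F a) ≫ g) := by
      rw [Category.assoc, hFg]; infer_instance
    refine ext_of_apply_eq g Set.univ isClosed_univ.isLocallyClosed dense_univ (fun z _ hz => ?_) hw
    let h := (pullback.fst (j a) (j b) ≫ F a) ≫ g
    let v := pointOfClosedPoint h z hz
    have hv : v ≫ h = 𝟙 _ := pointOfClosedPoint_comp h z hz
    have hu : ((v ≫ pullback.fst (j a) (j b)) ≫ j a) ≫ q₀ = 𝟙 _ := by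
      refine Eq.trans ?_ hv
      simp only [h, Category.assoc, hFg]
    have hu' : ((v ≫ pullback.snd (j a) (j b)) ≫ j b) ≫ q₀ = 𝟙 _ := by
      refine Eq.trans ?_ hv
      simp only [h, Category.assoc, hFg, pullback.condition_assoc]
    have huu : (v ≫ pullback.fst (j a) (j b)) ≫ j a = (v ≫ pullback.snd (j a) (j b)) ≫ j b := by
      simp only [Category.assoc, pullback.condition]
    have e1 := hFpt a _ hu
    have e2 := hFpt b _ hu'
    have e1' : ZCorr.IsCycleOfSymPt p d q ((v ≫ pullback.fst (j a) (j b)) ≫ F a)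
        (AlgEqCyc.fibreFun p q₀ Γc ((v ≫ pullback.snd (j a) (j b)) ≫ j b) hu') := by
      convert e1 using 2
      exact huu.symm
    have heq := sym_point_unique p hq
      (by rw [← hu]; simp only [Category.assoc, hFg]) (by rw [← hu']; simp only [Category.assoc, hFg]) e1' e2
    have := congr(($heq).base (IsLocalRing.closedPoint k))
    simpa [Category.assoc, v, pointOfClosedPoint_apply] using this
  let F' := 𝒰.glueMorphisms F hcompat
  have hF' : ∀ w, j w ≫ F' = F w := fun w => 𝒰.ι_glueMorphisms F hcompat w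
  refine ⟨F', 𝒰.hom_ext _ _ fun w => ?_, fun u hu => ?_⟩
  · show j w ≫ F' ≫ g = j w ≫ q₀
    rw [reassoc_of% (hF' w), hFg]
  · let w := u (IsLocalRing.closedPoint k)
    let a := IsOpenImmersion.lift (j w) u (by
      rintro _ ⟨t, rfl⟩
      rw [@Subsingleton.elim _ (inferInstanceAs (Subsingleton (PrimeSpectrum k))) t (IsLocalRing.closedPoint k)]
      exact hwj w)
    have ha : a ≫ j w = u := IsOpenImmersion.lift_fac _ _ _
    have h := hFpt w a (by rw [ha]; exact hu)
    rw [← hF' w, reassoc_of% ha] at h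
    convert h using 2
    exact ha.symm

end Main

end Groth.Agent.H23.ZCorrSym
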