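import Groth.Agent.H23.MultTrans
import Groth.Agent.H23.C1Desc
import Groth.Agent.H23.ZCorrSlice

/-!
Two curves through a point of a surface: the limits along them of a family of zero-cycles are rationally
equivalent (commutation of the caps with the two equations).
-/

set_option autoImplicit false
set_option linter.style.haveILetI false
set_option linter.unusedSectionVars false
set_option backward.isDefEq.respectTransparency false

universe u

open CategoryTheory CategoryTheory.Limits AlgebraicGeometry IsLocalRing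

namespace Groth.Agent.H23.ZCorrTwo

open Groth.Agent CDiv6 StalkPrimes RatSec C1Desc

section General

variable {P : Scheme.{u}}

/-- The rational section of the structure module given by a global function. -/
noncomputable def sec (f : Γ(P, ⊤)) (x : P) : Cyc.secFibre (Coh.structureModule P) x :=
  haveI := Classical.propDecidable (P.residue x (P.presheaf.germ ⊤ x trivial f) = 0)
  if P.residue x (P.presheaf.germ ⊤ x trivial f) = 0 then oneSec x else P.presheaf.germ ⊤ x trivial f • oneSec x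

theorem sec_ne_zero (f : Γ(P, ⊤)) (x : P) : sec f x ≠ 0 := by
  rw [sec]
  split_ifs with h
  · exact oneSec_ne_zero x
  · exact (residue_ne_zero (isGen_one x)).1 h

theorem coherent_sec (f : Γ(P, ⊤)) {ξ ζ : P} (h : ξ ⤳ ζ) (hζ : P.residue ζ (P.presheaf.germ ⊤ ζ trivial f) ≠ 0) :
    C1Glue.Coherent (sec f) (sec f) ξ ζ := by
  classical
  have hξ : P.residue ξ (P.presheaf.germ ⊤ ξ trivial f) ≠ 0 := by
    intro h0
    refine hζ ?_
    have hu : P.presheaf.germ ⊤ ζ trivial f ∈ (primeOf h).asIdeal := by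
      rw [mem_primeOf h, TopCat.Presheaf.germ_stalkSpecializes_apply]
      exact fun hu => IsUnit.ne_zero (hu.map (P.residue ξ).hom) h0
    exact Ideal.Quotient.eq_zero_iff_mem.2 (le_maximalIdeal (primeOf h).2.ne_top hu)
  refine ⟨h, P.presheaf.germ ⊤ ζ trivial f • one ζ, ?_, ?_, ?_⟩
  · rw [cls_smul]; exact (residue_ne_zero (isGen_one ζ)).1 hζ
  · rw [sec, if_neg hζ, cls_smul]; rfl
  · rw [sec, if_neg hξ, ZeroSec.stalkSpecializes_smul, spec_one, TopCat.Presheaf.germ_stalkSpecializes_apply, cls_smul]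
    rfl

/-- The multiplicity when the maximal ideal downstairs is one equation on the component. -/
theorem fibreMult_eq_ord [IsLocallyNoetherian P] {S : Scheme.{u}} [IsLocallyNoetherian S] (g : P ⟶ S) {y ξ : P}
    (h : ξ ⤳ y) (a : P.presheaf.stalk y)
    (ha : MultTrans.fibIdeal g h = (primeOf h).asIdeal ⊔ Ideal.span {a}) :
    (AlgEqCyc.fibreMult g y ξ h : ℤ) = ((Ring.ord (Cyc.LocQuot y ξ h) (Ideal.Quotient.mk _ a)).toNat : ℤ) := by
  rw [MultTrans.fibreMult_eq, ha, CycLib.ord_eq_length, CycLib.ker_specMap]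

variable [IsLocallyNoetherian P] {δ : P → ℤ}

theorem secDivFun_sec_zero (hd : Cyc.IsDimFun P δ) (f : Γ(P, ⊤)) {ξ : P}
    (hξ : P.residue ξ (P.presheaf.germ ⊤ ξ trivial f) = 0) (y : P) :
    Cyc.secDivFun δ (Coh.structureModule P) ξ (sec f ξ) y = 0 := by
  classical
  rw [sec, if_pos hξ]
  exact secDivFun_one hd ξ y

theorem secDivFun_sec (hd : Cyc.IsDimFun P δ) (f : Γ(P, ⊤)) {ξ : P}
    (hξ : P.residue ξ (P.presheaf.germ ⊤ ξ trivial f) ≠ 0) {y : P} (h : ξ ⤳ y) (hy : δ y + 1 = δ ξ) :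
    Cyc.secDivFun δ (Coh.structureModule P) ξ (sec f ξ) y =
      ((Ring.ord (Cyc.LocQuot y ξ h) (Ideal.Quotient.mk _ (P.presheaf.germ ⊤ y trivial f))).toNat : ℤ) := by
  classical
  rw [sec, if_neg hξ, secDivFun_smul_one hd hξ, CycLib.divFun_eq δ _ h hy]
  have e : P.residue ξ (P.presheaf.germ ⊤ ξ trivial f) =
      algebraMap (Cyc.LocQuot y ξ h) (P.residueField ξ) (Ideal.Quotient.mk _ (P.presheaf.germ ⊤ y trivial f)) := by
    rw [CycLib.algebraMap_locQuot_mk, CycLib.specMap_germ h ⊤ trivial f]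
    rfl
  rw [e, CycLib.ordAt_algebraMap hd h hy]
  intro h0
  rw [h0, map_zero] at e
  exact hξ e

theorem secDivFun_sec_unit (hd : Cyc.IsDimFun P δ) (f : Γ(P, ⊤)) {ξ y : P}
    (hy : P.residue y (P.presheaf.germ ⊤ y trivial f) ≠ 0) :
    Cyc.secDivFun δ (Coh.structureModule P) ξ (sec f ξ) y = 0 := by
  classical
  by_cases h : ξ ⤳ y ∧ δ y + 1 = δ ξ
  · by_cases hξ : P.residue ξ (P.presheaf.germ ⊤ ξ trivial f) = 0
    · exact secDivFun_sec_zero hd f hξ y
    rw [secDivFun_sec hd f hξ h.1 h.2]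
    have hu : IsUnit (P.presheaf.germ ⊤ y trivial f) := by
      by_contra hn
      exact hy (Ideal.Quotient.eq_zero_iff_mem.2 ((mem_maximalIdeal _).2 hn))
    rw [Ring.ord_of_isUnit (hu.map _)]
    rfl
  · exact dif_neg h

end General

variable {k : Type u} [Field k] {X S : Scheme.{u}} (p : X ⟶ Spec (CommRingCat.of k)) (qS : S ⟶ Spec (CommRingCat.of k))

/-- The fibre over `η` of a family of cycles, specialised to a point. -/
noncomputable def limFun (δ : ↥(pullback p qS) → ℤ) (α : ↥(pullback p qS) → ℤ) (η : S) (y : ↥(pullback p qS)) : ℤ :=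
  open Classical in
  ∑ᶠ ζ, (if pullback.snd p qS ζ = η ∧ δ ζ = 1 then
      ∑ᶠ ξ, α ξ * (if h : ξ ⤳ ζ then (AlgEqCyc.fibreMult (pullback.snd p qS) ζ ξ h : ℤ) else 0)
    else 0) * (if h : ζ ⤳ y then (AlgEqCyc.fibreMult (pullback.snd p qS) y ζ h : ℤ) else 0)

variable [LocallyOfFiniteType p] [LocallyOfFiniteType qS] [IrreducibleSpace S]

/-- The pulled back equation. -/
noncomputable def pull (f : Γ(S, ⊤)) : Γ(pullback p qS, ⊤) := (pullback.snd p qS).appTop f

theorem germ_pull (f : Γ(S, ⊤)) (y : ↥(pullback p qS)) :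
    (pullback p qS).presheaf.germ ⊤ y trivial (pull p qS f) =
      ((pullback.snd p qS).stalkMap y).hom (S.presheaf.germ ⊤ (pullback.snd p qS y) trivial f) :=
  (Scheme.Hom.germ_stalkMap_apply (pullback.snd p qS) ⊤ y trivial f).symm

theorem residue_pull (f : Γ(S, ⊤)) (y : ↥(pullback p qS)) :
    (pullback p qS).residue y ((pullback p qS).presheaf.germ ⊤ y trivial (pull p qS f)) = 0 ↔
      S.residue (pullback.snd p qS y) (S.presheaf.germ ⊤ (pullback.snd p qS y) trivial f) = 0 := by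
  rw [germ_pull]
  show Ideal.Quotient.mk _ _ = 0 ↔ Ideal.Quotient.mk _ _ = 0
  rw [Ideal.Quotient.eq_zero_iff_mem, Ideal.Quotient.eq_zero_iff_mem, mem_maximalIdeal, mem_maximalIdeal,
    mem_nonunits_iff, mem_nonunits_iff, not_iff_not]
  exact ⟨fun h => IsUnit.of_map ((pullback.snd p qS).stalkMap y).hom _ h, fun h => h.map _⟩

set_option maxHeartbeats 1600000 in
/-- One order of the two caps is the limit along the curve of the first equation. -/
theorem cap_cap_eq_limFun [IsLocallyNoetherian (pullback p qS)] [IsLocallyNoetherian S] {δ : ↥(pullback p qS) → ℤ}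
    (hd : Cyc.IsDimFun (pullback p qS) δ) {α : ↥(pullback p qS) → ℤ} (hα : ∀ ξ, δ ξ ≠ 2 → α ξ = 0)
    (hgen : ∀ ξ, α ξ ≠ 0 → pullback.snd p qS ξ = genericPoint S) (s t : Γ(S, ⊤)) (p0 η : S)
    (ht0 : S.residue (genericPoint S) (S.presheaf.germ ⊤ _ trivial t) ≠ 0)
    (hη : maximalIdeal (S.presheaf.stalk η) = Ideal.span {S.presheaf.germ ⊤ η trivial t})
    (hp : maximalIdeal (S.presheaf.stalk p0) =
      Ideal.span {S.presheaf.germ ⊤ p0 trivial s, S.presheaf.germ ⊤ p0 trivial t})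
    (hs : S.residue η (S.presheaf.germ ⊤ η trivial s) ≠ 0)
    (hV : ∀ v, v ⤳ p0 → S.residue v (S.presheaf.germ ⊤ v trivial t) = 0 → v = p0 ∨ v = η)
    {y : ↥(pullback p qS)} (hy : pullback.snd p qS y = p0) (hδy : δ y = 0) :
    Cyc.c1CapFun δ (Coh.structureModule (pullback p qS))
        (Cyc.c1CapFun δ (Coh.structureModule (pullback p qS)) α (sec (pull p qS t))) (sec (pull p qS s)) y =
      limFun p qS δ α η y := by
  classical
  show ∑ᶠ ζ, Cyc.c1CapFun δ (Coh.structureModule (pullback p qS)) α (sec (pull p qS t)) ζ *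
    Cyc.secDivFun δ (Coh.structureModule (pullback p qS)) ζ (sec (pull p qS s) ζ) y = _
  refine finsum_congr fun ζ => ?_
  by_cases hzy : ζ ⤳ y ∧ δ y + 1 = δ ζ
  swap
  · rw [show Cyc.secDivFun δ (Coh.structureModule (pullback p qS)) ζ (sec (pull p qS s) ζ) y = 0 from dif_neg hzy,
      mul_zero]
    by_cases hc : pullback.snd p qS ζ = η ∧ δ ζ = 1
    · rw [dif_neg fun h => hzy ⟨h, by omega⟩, mul_zero]
    · rw [if_neg hc, zero_mul]
  obtain ⟨hzy, hδ⟩ := hzy
  have hζ1 : δ ζ = 1 := by omega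
  rw [dif_pos hzy]
  by_cases hzt : S.residue (pullback.snd p qS ζ) (S.presheaf.germ ⊤ _ trivial t) = 0
  · rcases hV (pullback.snd p qS ζ) (hy ▸ hzy.map (pullback.snd p qS).continuous) hzt with e | e
    · have hsp : S.residue (pullback.snd p qS ζ) (S.presheaf.germ ⊤ _ trivial s) = 0 := by
        rw [e]
        refine Ideal.Quotient.eq_zero_iff_mem.2 ?_
        rw [hp]
        exact Ideal.subset_span (Set.mem_insert _ _)
      rw [secDivFun_sec_zero hd _ ((residue_pull p qS s ζ).2 hsp), mul_zero, if_neg, zero_mul]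
      rintro ⟨e', -⟩
      refine hs ?_
      rw [← e']
      exact hsp
    · rw [if_pos ⟨e, hζ1⟩]
      have hsne : (pullback p qS).residue ζ ((pullback p qS).presheaf.germ ⊤ ζ trivial (pull p qS s)) ≠ 0 := by
        rw [Ne, residue_pull]
        intro h0
        exact hs (by subst e; exact h0)
      congr 1
      · refine finsum_congr fun ξ => ?_
        by_cases hξ : α ξ = 0
        · rw [hξ, zero_mul, zero_mul]
        congr 1
        have hξ2 : δ ξ = 2 := by_contra fun h => hξ (hα ξ h)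
        by_cases hξz : ξ ⤳ ζ
        · have hne : (pullback p qS).residue ξ ((pullback p qS).presheaf.germ ⊤ ξ trivial (pull p qS t)) ≠ 0 := by
            rw [Ne, residue_pull, hgen ξ hξ]
            exact ht0
          rw [dif_pos hξz, secDivFun_sec hd _ hne hξz (by omega)]
          refine (fibreMult_eq_ord (pullback.snd p qS) hξz _ ?_).symm
          rw [MultTrans.fibIdeal, germ_pull]
          subst e
          rw [hη, Ideal.map_span, Set.image_singleton]
        · rw [dif_neg hξz]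
          exact dif_neg fun h => hξz h.1
      · rw [secDivFun_sec hd _ hsne hzy hδ]
        refine (fibreMult_eq_ord (pullback.snd p qS) hzy _ ?_).symm
        rw [MultTrans.fibIdeal]
        subst hy
        rw [hp, Ideal.map_span, Set.image_insert_eq, Set.image_singleton, Ideal.span_insert, ← germ_pull, ← germ_pull,
          ← sup_assoc, sup_eq_left]
        refine le_trans ?_ le_sup_left
        refine (Ideal.span_singleton_le_iff_mem (I := (primeOf hzy).asIdeal)).2 ((mem_primeOf hzy _).2 ?_)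
        rw [TopCat.Presheaf.germ_stalkSpecializes_apply]
        exact fun hu => (hu.map ((pullback p qS).residue ζ).hom).ne_zero ((residue_pull p qS t ζ).2 hzt)
  · rw [show Cyc.c1CapFun δ (Coh.structureModule (pullback p qS)) α (sec (pull p qS t)) ζ = 0 from
      finsum_eq_zero_of_forall_eq_zero fun ξ => by
        rw [secDivFun_sec_unit hd (pull p qS t) (fun h => hzt ((residue_pull p qS t ζ).1 h)), mul_zero],
      zero_mul, if_neg, zero_mul]
    rintro ⟨e, -⟩
    subst e
    refine hzt (Ideal.Quotient.eq_zero_iff_mem.2 ?_)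
    rw [hη]
    exact Ideal.mem_span_singleton_self _

set_option maxHeartbeats 800000 in
/-- The two limits are rationally equivalent. -/
theorem ratEquiv_limits [IsLocallyNoetherian (pullback p qS)] [IsLocallyNoetherian S] [IsSeparated qS]
    {δ : ↥(pullback p qS) → ℤ} (hd : Cyc.IsDimFun (pullback p qS) δ) {α : ↥(pullback p qS) → ℤ}
    (hα : ∀ ξ, δ ξ ≠ 2 → α ξ = 0) (hfinα : (Function.support α).Finite)
    (hgen : ∀ ξ, α ξ ≠ 0 → pullback.snd p qS ξ = genericPoint S) (s t : Γ(S, ⊤))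
    (u₀ : Spec (CommRingCat.of k) ⟶ S) (hu₀ : u₀ ≫ qS = 𝟙 _) (η₁ η₂ : S)
    (ht0 : S.residue (genericPoint S) (S.presheaf.germ ⊤ _ trivial t) ≠ 0)
    (hs0 : S.residue (genericPoint S) (S.presheaf.germ ⊤ _ trivial s) ≠ 0)
    (hη₁ : maximalIdeal (S.presheaf.stalk η₁) = Ideal.span {S.presheaf.germ ⊤ η₁ trivial t})
    (hη₂ : maximalIdeal (S.presheaf.stalk η₂) = Ideal.span {S.presheaf.germ ⊤ η₂ trivial s})
    (hp : maximalIdeal (S.presheaf.stalk (u₀ (closedPoint k))) =
      Ideal.span {S.presheaf.germ ⊤ _ trivial s, S.presheaf.germ ⊤ _ trivial t})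
    (hs : S.residue η₁ (S.presheaf.germ ⊤ η₁ trivial s) ≠ 0)
    (ht : S.residue η₂ (S.presheaf.germ ⊤ η₂ trivial t) ≠ 0)
    (hV₁ : ∀ v, v ⤳ u₀ (closedPoint k) → S.residue v (S.presheaf.germ ⊤ v trivial t) = 0 → v = u₀ (closedPoint k) ∨ v = η₁)
    (hV₂ : ∀ v, v ⤳ u₀ (closedPoint k) → S.residue v (S.presheaf.germ ⊤ v trivial s) = 0 → v = u₀ (closedPoint k) ∨ v = η₂)
    (hVst : ∀ v, S.residue v (S.presheaf.germ ⊤ v trivial t) = 0 → S.residue v (S.presheaf.germ ⊤ v trivial s) = 0 →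
      v = u₀ (closedPoint k))
    (δX : X → ℤ) (hδX : ∀ x, δ (AlgEqCyc.slice p qS u₀ hu₀ x) = δX x)
    (a₁ a₂ : AlgebraicCycle X ℤ) (ha₁ : ∀ x, δX x ≠ 0 → a₁ x = 0) (ha₂ : ∀ x, δX x ≠ 0 → a₂ x = 0)
    (h₁ : ∀ x, δX x = 0 → a₁ x = limFun p qS δ α η₁ (AlgEqCyc.slice p qS u₀ hu₀ x))
    (h₂ : ∀ x, δX x = 0 → a₂ x = limFun p qS δ α η₂ (AlgEqCyc.slice p qS u₀ hu₀ x)) :
    Cyc.RatEquiv δX 0 a₁ a₂ := by
  classical
  haveI := ZCorrSlice.isClosedImmersion_slice p qS u₀ hu₀
  let O := Coh.structureModule (pullback p qS)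
  have hO := InvX.isInvertible_structureModule (X := pullback p qS)
  let sl := AlgEqCyc.slice p qS u₀ hu₀
  have hfin : ∀ z : ↥(pullback p qS), ∃ U ∈ nhds z, (U ∩ Function.support α).Finite := fun z =>
    ⟨Set.univ, Filter.univ_mem, hfinα.subset Set.inter_subset_right⟩
  have hcomm := C1Glue.zeroOn_comm hO hO hd (k := 0) hα hfin (sL := sec (pull p qS s)) (sL' := sec (pull p qS s))
    (sN := sec (pull p qS t)) (sN' := sec (pull p qS t)) (sec_ne_zero _) (sec_ne_zero _) (sec_ne_zero _) (sec_ne_zero _)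
    (T := pullback.snd p qS ⁻¹' {u₀ (closedPoint k)}) fun ξ ζ _ hsp _ hT => by
      by_cases h : (pullback p qS).residue ζ ((pullback p qS).presheaf.germ ⊤ ζ trivial (pull p qS t)) = 0
      · refine Or.inr (coherent_sec _ hsp fun h' => hT (hVst _ ((residue_pull p qS t ζ).1 h) ((residue_pull p qS s ζ).1 h')))
      · exact Or.inl (coherent_sec _ hsp h)
  have hT : pullback.snd p qS ⁻¹' {u₀ (closedPoint k)} ⊆ Set.range sl := by
    intro z hz
    have h := ZCorrSlice.isPullback_slice p qS u₀ hu₀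
    obtain ⟨x, hx, -⟩ := Scheme.exists_preimage_of_isPullback h z (closedPoint k) hz
    exact ⟨x, hx⟩
  have hR := RatOn.restrict' hd sl hT hcomm (γ := a₁) (γ' := a₂) fun x => ?_
  · rwa [show (fun x => δ (sl x)) = δX from funext hδX] at hR
  have hsnd : pullback.snd p qS (sl x) = u₀ (closedPoint k) := by
    have := congr(($(ZCorrSlice.slice_snd p qS u₀ hu₀)).base x)
    refine this.trans ?_
    exact congrArg u₀ (Subsingleton.elim (α := Spec (CommRingCat.of k)) _ _)
  by_cases hx : δX x = 0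
  · rw [h₁ x hx, h₂ x hx]
    have e1 := cap_cap_eq_limFun p qS hd hα hgen s t (u₀ (closedPoint k)) η₁ ht0 hη₁ hp hs hV₁ (y := sl x) hsnd
      ((hδX x).trans hx)
    have e2 := cap_cap_eq_limFun p qS hd hα hgen t s (u₀ (closedPoint k)) η₂ hs0 hη₂
      (hp.trans (congrArg Ideal.span (Set.pair_comm _ _))) ht hV₂ (y := sl x) hsnd ((hδX x).trans hx)
    rw [e1, e2]
  · rw [ha₁ x hx, ha₂ x hx, sub_zero]
    have h0 : ∀ (f g : Γ(pullback p qS, ⊤)), Cyc.c1CapFun δ O (Cyc.c1CapFun δ O α (sec f)) (sec g) (sl x) = 0 := fun f g =>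
      GysinLib.c1CapFun_degree (k := 1) _ (fun ζ hζ => GysinLib.c1CapFun_degree (k := 2) α hα _ hζ) _
        (by rw [sub_self]; exact fun h' => hx ((hδX x).symm.trans h'))
    rw [h0, h0, sub_zero]

end Groth.Agent.H23.ZCorrTwo
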