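import Groth.Prelude.Def_K0Var
import Groth.Agent.H23.InducedQuot
import Groth.Agent.H23.SymProdProd
import Groth.Agent.SGA1Q.Properties
import Mathlib.AlgebraicGeometry.Noetherian
import Mathlib.GroupTheory.Perm.Finite

/-!
Symmetric powers of a disjoint union, and their classes in the Grothendieck ring.
-/

set_option autoImplicit false
set_option linter.style.haveILetI false
set_option backward.isDefEq.respectTransparency false

universe u

open CategoryTheory CategoryTheory.Limits AlgebraicGeometry TopologicalSpace SymProd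

namespace Groth.Agent.H23.ZetaCoprod

section Additivity

variable {S : Scheme.{u}} (A : K0Var.Gen S) [IsLocallyNoetherian A.X]

/-- An open subscheme of a generator, as a generator. -/
noncomputable def openGen (U : A.X.Opens) : K0Var.Gen S := K0Var.Gen.mk U.toScheme (U.ι ≫ A.hom)

theorem cl_openGen_top : (openGen A ⊤).cl = A.cl :=
  K0Var.Gen.cl_congr _ _ A.X.topIso rfl

theorem cl_openGen_bot : (openGen A ⊥).cl = 0 :=
  haveI : IsEmpty (openGen A ⊥).X := ⟨fun x => x.2⟩
  K0Var.Gen.cl_eq_zero_of_isEmpty _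

omit [IsLocallyNoetherian A.X] in
theorem range_homOfLE {U V : A.X.Opens} (e : U ≤ V) :
    Set.range (A.X.homOfLE e) = {x : V.toScheme | x.1 ∈ U} := by
  refine Set.ext fun x => ⟨?_, fun hx => ⟨⟨x.1, hx⟩, Subtype.ext (Scheme.homOfLE_apply _ _)⟩⟩
  rintro ⟨y, rfl⟩
  show ((A.X.homOfLE e) y).1 ∈ U
  rw [Scheme.homOfLE_apply]
  exact y.2

theorem cl_openGen_sup (U V : A.X.Opens) (hd : Disjoint U V) :
    (openGen A (U ⊔ V)).cl = (openGen A U).cl + (openGen A V).cl := by
  have hd' : ∀ x, x ∈ U → x ∉ V := fun x hU hV => (Set.disjoint_left.1 (Opens.coe_disjoint.2 hd)) hU hV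
  refine K0Var.Gen.cl_scissor (i := A.X.homOfLE (le_sup_left : U ≤ U ⊔ V))
    (j := A.X.homOfLE (le_sup_right : V ≤ U ⊔ V)) ⟨?_, inferInstanceAs (IsOpenImmersion (A.X.homOfLE _)),
      A.X.homOfLE_ι_assoc _ _, A.X.homOfLE_ι_assoc _ _, ?_⟩
  · refine IsClosedImmersion.of_isPreimmersion (A.X.homOfLE (le_sup_left : U ≤ U ⊔ V)) ?_
    have : Set.range (A.X.homOfLE (le_sup_left : U ≤ U ⊔ V)) = ((U ⊔ V).ι ⁻¹ᵁ V : Set (U ⊔ V).toScheme)ᶜ := by
      rw [range_homOfLE A]
      ext x
      exact ⟨fun h => hd' _ h, fun h => (Opens.mem_sup.1 x.2).resolve_right h⟩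
    rw [this]
    exact ((U ⊔ V).ι ⁻¹ᵁ V).2.isClosed_compl
  · show Set.range (A.X.homOfLE (le_sup_left : U ≤ U ⊔ V)) = (Set.range (A.X.homOfLE (le_sup_right : V ≤ U ⊔ V)))ᶜ
    rw [range_homOfLE A, range_homOfLE A]
    ext x
    exact ⟨fun h => hd' _ h, fun h => (Opens.mem_sup.1 x.2).resolve_right h⟩

theorem cl_openGen_biSup {I : Type*} (U : I → A.X.Opens) (s : Finset I)
    (hd : ∀ a ∈ s, ∀ b ∈ s, a ≠ b → Disjoint (U a) (U b)) :
    (openGen A (s.sup U)).cl = ∑ a ∈ s, (openGen A (U a)).cl := by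
  classical
  induction s using Finset.induction_on with
  | empty => simpa using cl_openGen_bot A
  | insert a s ha ih =>
    rw [Finset.sup_insert, Finset.sum_insert ha, cl_openGen_sup, ih]
    · exact fun b hb c hc => hd b (Finset.mem_insert_of_mem hb) c (Finset.mem_insert_of_mem hc)
    · exact Finset.disjoint_sup_right.2 fun b hb => hd a (Finset.mem_insert_self a s) b
        (Finset.mem_insert_of_mem hb) fun h => ha (h ▸ hb)

end Additivity

variable {X X' S : Scheme.{u}} (f : X ⟶ S) (f' : X' ⟶ S)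

/-- The components of a point of the fibre power that lie in the first summand. -/
noncomputable def pat (n : ℕ) (z : fibPow (coprod.desc f f') n) : Finset (Fin n) :=
  letI := Classical.decPred fun k : Fin n =>
    WidePullback.π (fun _ : Fin n => coprod.desc f f') k z ∈ (coprod.inl : X ⟶ X ⨿ X').opensRange
  Finset.univ.filter fun k =>
    WidePullback.π (fun _ : Fin n => coprod.desc f f') k z ∈ (coprod.inl : X ⟶ X ⨿ X').opensRange

theorem mem_pat {n : ℕ} {z : fibPow (coprod.desc f f') n} {k : Fin n} :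
    k ∈ pat f f' n z ↔
      WidePullback.π (fun _ : Fin n => coprod.desc f f') k z ∈ (coprod.inl : X ⟶ X ⨿ X').opensRange := by
  simp [pat]

theorem mem_inr_iff (x : ↥(X ⨿ X')) :
    x ∈ (coprod.inr : X' ⟶ X ⨿ X').opensRange ↔ x ∉ (coprod.inl : X ⟶ X ⨿ X').opensRange := by
  have h := (isCompl_range_inl_inr X X').compl_eq
  show x ∈ Set.range (coprod.inr : X' ⟶ X ⨿ X') ↔ x ∉ Set.range (coprod.inl : X ⟶ X ⨿ X')
  rw [← h]
  rfl

theorem isOpen_pat (n : ℕ) (p : Finset (Fin n) → Prop) :
    IsOpen {z : fibPow (coprod.desc f f') n | p (pat f f' n z)} := by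
  classical
  refine isOpen_iff_forall_mem_open.2 fun z hz => ?_
  let T : Fin n → Set (fibPow (coprod.desc f f') n) := fun k =>
    if k ∈ pat f f' n z then WidePullback.π (fun _ : Fin n => coprod.desc f f') k ⁻¹'
        ((coprod.inl : X ⟶ X ⨿ X').opensRange : Set ↥(X ⨿ X'))
      else WidePullback.π (fun _ : Fin n => coprod.desc f f') k ⁻¹'
        ((coprod.inr : X' ⟶ X ⨿ X').opensRange : Set ↥(X ⨿ X'))
  refine ⟨⋂ k, T k, fun w hw => ?_, isOpen_iInter_of_finite fun k => ?_, Set.mem_iInter.2 fun k => ?_⟩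
  · have : pat f f' n w = pat f f' n z := by
      ext k
      have hk := Set.mem_iInter.1 hw k
      by_cases h : k ∈ pat f f' n z
      · simp only [T, h, if_true] at hk
        exact ⟨fun _ => h, fun _ => (mem_pat f f').2 hk⟩
      · simp only [T, h, if_false] at hk
        exact ⟨fun h' => absurd ((mem_pat f f').1 h') ((mem_inr_iff _).1 hk), fun h' => absurd h' h⟩
    show p (pat f f' n w)
    rw [this]
    exact hz
  · by_cases h : k ∈ pat f f' n z
    · simp only [T, h, if_true]
      exact (Opens.isOpen _).preimage (WidePullback.π (fun _ : Fin n => coprod.desc f f') k).continuous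
    · simp only [T, h, if_false]
      exact (Opens.isOpen _).preimage (WidePullback.π (fun _ : Fin n => coprod.desc f f') k).continuous
  · by_cases h : k ∈ pat f f' n z
    · simp only [T, h, if_true]
      exact (mem_pat f f').1 h
    · simp only [T, h, if_false]
      exact (mem_inr_iff _).2 fun h' => h ((mem_pat f f').2 h')

theorem mem_pat_perm {n : ℕ} (σ : Equiv.Perm (Fin n)) (z : fibPow (coprod.desc f f') n) (k : Fin n) :
    k ∈ pat f f' n (permHom (coprod.desc f f') n σ z) ↔ σ.symm k ∈ pat f f' n z := by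
  rw [mem_pat, mem_pat, ← Scheme.Hom.comp_apply, permHom_π]

theorem card_pat_perm {n : ℕ} (σ : Equiv.Perm (Fin n)) (z : fibPow (coprod.desc f f') n) :
    (pat f f' n (permHom (coprod.desc f f') n σ z)).card = (pat f f' n z).card := by
  rw [show pat f f' n (permHom (coprod.desc f f') n σ z) = (pat f f' n z).map σ.toEmbedding from by
    ext k; rw [mem_pat_perm, Finset.mem_map_equiv], Finset.card_map]

/-- Points with exactly `i` components in the first summand. -/
noncomputable def piece (n i : ℕ) : (fibPow (coprod.desc f f') n).Opens :=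
  ⟨_, isOpen_pat f f' n fun s => s.card = i⟩

theorem exists_image_piece {n : ℕ} {T : Scheme.{u}} {Q : fibPow (coprod.desc f f') n ⟶ T} {h : T ⟶ S}
    (hQ : IsSymProd (coprod.desc f f') n Q h) (i : ℕ) : ∃ V : T.Opens, Q ⁻¹ᵁ V = piece f f' n i := by
  have hpre : Q ⁻¹' (Q '' (piece f f' n i : Set (fibPow (coprod.desc f f') n))) = piece f f' n i := by
    refine Set.Subset.antisymm (fun z ⟨w, hw, hwz⟩ => ?_) (Set.subset_preimage_image _ _)
    obtain ⟨σ, rfl⟩ := (SGA1Q.orbit_iff hQ.isQuot w z).1 hwz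
    exact (card_pat_perm f f' σ.down w).trans hw
  have ho : IsOpen (Q '' (piece f f' n i : Set (fibPow (coprod.desc f f') n))) := by
    rw [← (SGA1Q.isQuotientMap hQ.isQuot).isOpen_preimage, hpre]
    exact (piece f f' n i).2
  exact ⟨⟨_, ho⟩, Opens.ext hpre⟩

variable (i j : ℕ)

/-- The embedding of the mixed product into the fibre power of the disjoint union. -/
noncomputable def emb :
    pullback (WidePullback.base fun _ : Fin i => f) (WidePullback.base fun _ : Fin j => f') ⟶
      fibPow (coprod.desc f f') (i + j) :=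
  WidePullback.lift (pullback.fst _ _ ≫ WidePullback.base _)
    (Fin.addCases (fun a => pullback.fst _ _ ≫ WidePullback.π (fun _ : Fin i => f) a ≫ coprod.inl)
      (fun b => pullback.snd _ _ ≫ WidePullback.π (fun _ : Fin j => f') b ≫ coprod.inr))
    (fun k => by
      refine Fin.addCases (fun a => ?_) (fun b => ?_) k
      · rw [Fin.addCases_left, Category.assoc, Category.assoc, coprod.inl_desc,
          WidePullback.π_arrow (fun _ : Fin i => f) a]
      · rw [Fin.addCases_right, Category.assoc, Category.assoc, coprod.inr_desc,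
          WidePullback.π_arrow (fun _ : Fin j => f') b, pullback.condition])

theorem emb_π_left (a : Fin i) :
    emb f f' i j ≫ WidePullback.π (fun _ : Fin (i + j) => coprod.desc f f') (Fin.castAdd j a) =
      pullback.fst _ _ ≫ WidePullback.π (fun _ : Fin i => f) a ≫ coprod.inl := by
  rw [emb, WidePullback.lift_π, Fin.addCases_left]

theorem emb_π_right (b : Fin j) :
    emb f f' i j ≫ WidePullback.π (fun _ : Fin (i + j) => coprod.desc f f') (Fin.natAdd i b) =
      pullback.snd _ _ ≫ WidePullback.π (fun _ : Fin j => f') b ≫ coprod.inr := by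
  rw [emb, WidePullback.lift_π, Fin.addCases_right]

theorem emb_base :
    emb f f' i j ≫ WidePullback.base (fun _ : Fin (i + j) => coprod.desc f f') =
      pullback.fst _ _ ≫ WidePullback.base _ := by
  rw [emb, WidePullback.lift_base]

/-- The open piece where exactly the first `i` components lie in the first summand. -/
noncomputable def corner : (fibPow (coprod.desc f f') (i + j)).Opens :=
  ⟨_, isOpen_pat f f' (i + j) fun s => ∀ k : Fin (i + j), k ∈ s ↔ (k : ℕ) < i⟩

theorem range_emb_subset : Set.range (emb f f' i j) ⊆ (corner f f' i j : Set _) := by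
  rintro _ ⟨p, rfl⟩ k
  refine Fin.addCases (fun a => ?_) (fun b => ?_) k
  · rw [mem_pat, ← Scheme.Hom.comp_apply, emb_π_left]
    simp only [Fin.val_castAdd, a.isLt, iff_true]
    exact ⟨_, rfl⟩
  · rw [mem_pat, ← Scheme.Hom.comp_apply, emb_π_right]
    simp only [Fin.val_natAdd, not_lt.2 (Nat.le_add_right i b), iff_false]
    exact (mem_inr_iff _).1 ⟨_, rfl⟩

theorem exists_iso_corner : ∃ e : pullback (WidePullback.base fun _ : Fin i => f)
    (WidePullback.base fun _ : Fin j => f') ≅ (corner f f' i j).toScheme,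
    e.hom ≫ (corner f f' i j).ι = emb f f' i j := by
  let F := coprod.desc f f'
  let U := corner f f' i j
  have hl : ∀ a : Fin i, Set.range (U.ι ≫ WidePullback.π (fun _ : Fin (i + j) => F) (Fin.castAdd j a)) ⊆
      Set.range (coprod.inl : X ⟶ X ⨿ X') := by
    rintro a _ ⟨z, rfl⟩
    exact (mem_pat f f').1 ((z.2 (Fin.castAdd j a)).2 (by simp))
  have hr : ∀ b : Fin j, Set.range (U.ι ≫ WidePullback.π (fun _ : Fin (i + j) => F) (Fin.natAdd i b)) ⊆
      Set.range (coprod.inr : X' ⟶ X ⨿ X') := by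
    rintro b _ ⟨z, rfl⟩
    exact (mem_inr_iff _).2 fun h => absurd ((z.2 (Fin.natAdd i b)).1 ((mem_pat f f').2 h)) (by simp)
  let x : ∀ a : Fin i, U.toScheme ⟶ X := fun a => IsOpenImmersion.lift _ _ (hl a)
  let y : ∀ b : Fin j, U.toScheme ⟶ X' := fun b => IsOpenImmersion.lift _ _ (hr b)
  have hx : ∀ a, x a ≫ coprod.inl = U.ι ≫ WidePullback.π (fun _ : Fin (i + j) => F) (Fin.castAdd j a) :=
    fun a => IsOpenImmersion.lift_fac _ _ _
  have hy : ∀ b, y b ≫ coprod.inr = U.ι ≫ WidePullback.π (fun _ : Fin (i + j) => F) (Fin.natAdd i b) :=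
    fun b => IsOpenImmersion.lift_fac _ _ _
  let inv : U.toScheme ⟶ pullback (WidePullback.base fun _ : Fin i => f) (WidePullback.base fun _ : Fin j => f') :=
    pullback.lift
      (WidePullback.lift (U.ι ≫ WidePullback.base _) x fun a => by
        refine (congrArg (x a ≫ ·) (coprod.inl_desc f f').symm).trans ?_
        rw [reassoc_of% hx a, WidePullback.π_arrow (fun _ : Fin (i + j) => F) _])
      (WidePullback.lift (U.ι ≫ WidePullback.base _) y fun b => by
        refine (congrArg (y b ≫ ·) (coprod.inr_desc f f').symm).trans ?_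
        rw [reassoc_of% hy b, WidePullback.π_arrow (fun _ : Fin (i + j) => F) _])
      (by rw [WidePullback.lift_base, WidePullback.lift_base])
  let hom := IsOpenImmersion.lift U.ι (emb f f' i j) (by
    rw [Scheme.Opens.range_ι]; exact range_emb_subset f f' i j)
  have hhom : hom ≫ U.ι = emb f f' i j := IsOpenImmersion.lift_fac _ _ _
  refine ⟨⟨hom, inv, ?_, ?_⟩, hhom⟩
  · refine pullback.hom_ext (WidePullback.hom_ext _ _ _ (fun a => ?_) ?_) (WidePullback.hom_ext _ _ _ (fun b => ?_) ?_)
    · simp only [inv, Category.assoc, pullback.lift_fst_assoc, WidePullback.lift_π, Category.id_comp]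
      rw [← cancel_mono (coprod.inl : X ⟶ X ⨿ X'), Category.assoc, hx, reassoc_of% hhom, emb_π_left,
        Category.assoc]
    · simp only [inv, Category.assoc, pullback.lift_fst_assoc, WidePullback.lift_base, Category.id_comp]
      rw [reassoc_of% hhom, emb_base]
    · simp only [inv, Category.assoc, pullback.lift_snd_assoc, WidePullback.lift_π, Category.id_comp]
      rw [← cancel_mono (coprod.inr : X' ⟶ X ⨿ X'), Category.assoc, hy, reassoc_of% hhom, emb_π_right,
        Category.assoc]
    · simp only [inv, Category.assoc, pullback.lift_snd_assoc, WidePullback.lift_base, Category.id_comp]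
      rw [reassoc_of% hhom, emb_base, pullback.condition]
  · rw [← cancel_mono U.ι, Category.assoc, hhom, Category.id_comp]
    refine WidePullback.hom_ext _ _ _ (fun k => ?_) ?_
    · refine Fin.addCases (fun a => ?_) (fun b => ?_) k
      · rw [Category.assoc, emb_π_left]
        simp only [inv, pullback.lift_fst_assoc, WidePullback.lift_π_assoc]
        exact hx a
      · rw [Category.assoc, emb_π_right]
        simp only [inv, pullback.lift_snd_assoc, WidePullback.lift_π_assoc]
        exact hy b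
    · rw [Category.assoc, emb_base]
      simp only [inv, pullback.lift_fst_assoc, WidePullback.lift_base]

/-- The product of two symmetric groups inside a symmetric group. -/
def incl : ULift.{u} (Equiv.Perm (Fin i) × Equiv.Perm (Fin j)) →* ULift.{u} (Equiv.Perm (Fin (i + j))) :=
  MulEquiv.ulift.symm.toMonoidHom.comp ((finSumFinEquiv.permCongrHom.toMonoidHom.comp
    (Equiv.Perm.sumCongrHom (Fin i) (Fin j))).comp MulEquiv.ulift.toMonoidHom)

theorem incl_symm_left (σ : ULift.{u} (Equiv.Perm (Fin i) × Equiv.Perm (Fin j))) (a : Fin i) :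
    (incl i j σ).down.symm (Fin.castAdd j a) = Fin.castAdd j (σ.down.1.symm a) := by
  rw [Equiv.symm_apply_eq]
  show _ = finSumFinEquiv.permCongr (σ.down.1.sumCongr σ.down.2) _
  rw [Equiv.permCongr_apply, finSumFinEquiv_symm_apply_castAdd]
  simp

theorem incl_symm_right (σ : ULift.{u} (Equiv.Perm (Fin i) × Equiv.Perm (Fin j))) (b : Fin j) :
    (incl i j σ).down.symm (Fin.natAdd i b) = Fin.natAdd i (σ.down.2.symm b) := by
  rw [Equiv.symm_apply_eq]
  show _ = finSumFinEquiv.permCongr (σ.down.1.sumCongr σ.down.2) _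
  rw [Equiv.permCongr_apply, finSumFinEquiv_symm_apply_natAdd]
  simp

/-- A pair of permutations acting on the product of two fibre powers. -/
noncomputable def prodHom (σ : Equiv.Perm (Fin i)) (τ : Equiv.Perm (Fin j)) :
    pullback (WidePullback.base fun _ : Fin i => f) (WidePullback.base fun _ : Fin j => f') ⟶
      pullback (WidePullback.base fun _ : Fin i => f) (WidePullback.base fun _ : Fin j => f') :=
  pullback.lift (pullback.fst _ _ ≫ permHom f i σ) (pullback.snd _ _ ≫ permHom f' j τ)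
    (by rw [Category.assoc, Category.assoc, permHom_base, permHom_base, pullback.condition])

@[reassoc]
theorem prodHom_fst (σ : Equiv.Perm (Fin i)) (τ : Equiv.Perm (Fin j)) :
    prodHom f f' i j σ τ ≫ pullback.fst _ _ = pullback.fst _ _ ≫ permHom f i σ := pullback.lift_fst _ _ _

@[reassoc]
theorem prodHom_snd (σ : Equiv.Perm (Fin i)) (τ : Equiv.Perm (Fin j)) :
    prodHom f f' i j σ τ ≫ pullback.snd _ _ = pullback.snd _ _ ≫ permHom f' j τ := pullback.lift_snd _ _ _

theorem prodHom_one : prodHom f f' i j 1 1 = 𝟙 _ := by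
  refine pullback.hom_ext ?_ ?_
  · rw [prodHom_fst, permHom_one, Category.id_comp, Category.comp_id]
  · rw [prodHom_snd, permHom_one, Category.id_comp, Category.comp_id]

theorem prodHom_mul (σ σ' : Equiv.Perm (Fin i)) (τ τ' : Equiv.Perm (Fin j)) :
    prodHom f f' i j (σ * σ') (τ * τ') = prodHom f f' i j σ' τ' ≫ prodHom f f' i j σ τ := by
  refine pullback.hom_ext ?_ ?_
  · rw [prodHom_fst, Category.assoc, prodHom_fst, prodHom_fst_assoc, permHom_mul]
  · rw [prodHom_snd, Category.assoc, prodHom_snd, prodHom_snd_assoc, permHom_mul]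

/-- The product action on the product of two fibre powers. -/
noncomputable def prodAct : ULift.{u} (Equiv.Perm (Fin i) × Equiv.Perm (Fin j)) →*
    Aut (pullback (WidePullback.base fun _ : Fin i => f) (WidePullback.base fun _ : Fin j => f')) where
  toFun σ :=
    { hom := prodHom f f' i j σ.down.1 σ.down.2
      inv := prodHom f f' i j σ.down.1⁻¹ σ.down.2⁻¹
      hom_inv_id := by rw [← prodHom_mul, inv_mul_cancel, inv_mul_cancel, prodHom_one]
      inv_hom_id := by rw [← prodHom_mul, mul_inv_cancel, mul_inv_cancel, prodHom_one] }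
  map_one' := Iso.ext (prodHom_one f f' i j)
  map_mul' σ τ := Iso.ext (prodHom_mul f f' i j σ.down.1 τ.down.1 σ.down.2 τ.down.2)

theorem prodAct_hom (σ : ULift.{u} (Equiv.Perm (Fin i) × Equiv.Perm (Fin j))) :
    (prodAct f f' i j σ).hom = prodHom f f' i j σ.down.1 σ.down.2 := rfl

theorem prodAct_emb (σ : ULift.{u} (Equiv.Perm (Fin i) × Equiv.Perm (Fin j))) :
    (prodAct f f' i j σ).hom ≫ emb f f' i j =
      emb f f' i j ≫ permHom (coprod.desc f f') (i + j) (incl i j σ).down := by
  refine WidePullback.hom_ext _ _ _ (fun k => ?_) ?_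
  · refine Fin.addCases (fun a => ?_) (fun b => ?_) k
    · simp only [Category.assoc, permHom_π, incl_symm_left, emb_π_left, prodAct_hom, prodHom_fst_assoc,
        permHom_π_assoc]
    · simp only [Category.assoc, permHom_π, incl_symm_right, emb_π_right, prodAct_hom, prodHom_snd_assoc,
        permHom_π_assoc]
  · simp only [Category.assoc, permHom_base, emb_base, prodAct_hom, prodHom_fst_assoc]

theorem mem_range_incl {σ : ULift.{u} (Equiv.Perm (Fin (i + j)))}
    (h : ∀ k : Fin (i + j), (k : ℕ) < i ↔ (σ.down k : ℕ) < i) : σ ∈ Set.range (incl i j) := by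
  obtain ⟨w, hw⟩ := Equiv.Perm.mem_sumCongrHom_range_of_perm_mapsTo_inl
    (σ := finSumFinEquiv.permCongrHom.symm σ.down) (m := Fin i) (n := Fin j) (by
      rintro _ ⟨a, rfl⟩
      have ha : ((σ.down (Fin.castAdd j a) : Fin (i + j)) : ℕ) < i := (h _).1 (by simp)
      refine ⟨⟨_, ha⟩, ?_⟩
      rw [Equiv.permCongrHom_symm, Equiv.permCongrHom_coe, Equiv.permCongr_apply, Equiv.symm_symm,
        finSumFinEquiv_apply_left, Equiv.eq_symm_apply, finSumFinEquiv_apply_left]
      rfl)
  refine ⟨⟨w⟩, ?_⟩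
  show ULift.up (finSumFinEquiv.permCongrHom (Equiv.Perm.sumCongrHom (Fin i) (Fin j) w)) = σ
  rw [hw, MulEquiv.apply_symm_apply]

theorem exists_iso_piece (hu : ∀ n : ℕ, 0 < n → IsUnit ((n : ℕ) : Γ(S, ⊤)))
    {A : Scheme.{u}} {qA : fibPow f i ⟶ A} {gA : A ⟶ S} (hA : IsSymProd f i qA gA)
    {B : Scheme.{u}} {qB : fibPow f' j ⟶ B} {gB : B ⟶ S} (hB : IsSymProd f' j qB gB)
    {T : Scheme.{u}} {Q : fibPow (coprod.desc f f') (i + j) ⟶ T} {h : T ⟶ S}
    (hQ : IsSymProd (coprod.desc f f') (i + j) Q h) (V : T.Opens) (hV : Q ⁻¹ᵁ V = piece f f' (i + j) i) :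
    ∃ θ : pullback gA gB ≅ V.toScheme, θ.hom ≫ V.ι ≫ h = pullback.fst gA gB ≫ gA := by
  classical
  obtain ⟨ec, hec⟩ := exists_iso_corner f f' i j
  haveI : IsOpenImmersion (emb f f' i j) := by rw [← hec]; infer_instance
  have hcard : (Finset.univ.filter fun k : Fin (i + j) => (k : ℕ) < i).card = i := by
    rw [show (Finset.univ.filter fun k : Fin (i + j) => (k : ℕ) < i) =
      Finset.univ.map (Fin.castAddEmb j) from ?_, Finset.card_map, Finset.card_univ, Fintype.card_fin]
    ext k
    simp only [Finset.mem_filter, Finset.mem_univ, true_and, Finset.mem_map]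
    exact ⟨fun hk => ⟨⟨k, hk⟩, Fin.ext rfl⟩, fun ⟨a, ha⟩ => ha ▸ a.isLt⟩
  have hcorner : ∀ z ∈ corner f f' i j, z ∈ Q ⁻¹ᵁ V := fun z hz => by
    rw [hV]
    show (pat f f' (i + j) z).card = i
    rw [show pat f f' (i + j) z = Finset.univ.filter fun k : Fin (i + j) => (k : ℕ) < i from
      Finset.ext fun k => by simpa using hz k, hcard]
  let hO := fun σ => SGA1.preimage_le_of_inv (permActU (coprod.desc f f') (i + j)) Q hQ.isQuot.inv σ V
  let ρV := SGA1Q.restrictAction (permActU (coprod.desc f f') (i + j)) (Q ⁻¹ᵁ V) hO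
  have hρV : ∀ σ, (ρV σ).hom ≫ (Q ⁻¹ᵁ V).ι = (Q ⁻¹ᵁ V).ι ≫ (permActU (coprod.desc f f') (i + j) σ).hom :=
    SGA1Q.restrictAction_hom_ι _ _ hO
  have hqV : SGA1.IsQuot ρV (Q ∣_ V) := SGA1Q.isQuot_morphismRestrict hQ.isQuot V ρV hρV
  let e := IsOpenImmersion.lift (Q ⁻¹ᵁ V).ι (emb f f' i j) (by
    rw [Scheme.Opens.range_ι]
    exact (range_emb_subset f f' i j).trans hcorner)
  have heι : e ≫ (Q ⁻¹ᵁ V).ι = emb f f' i j := IsOpenImmersion.lift_fac _ _ _
  haveI : IsOpenImmersion (e ≫ (Q ⁻¹ᵁ V).ι) := by rw [heι]; infer_instance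
  haveI : IsOpenImmersion e := IsOpenImmersion.of_comp e (Q ⁻¹ᵁ V).ι
  have hrange : ∀ z : (Q ⁻¹ᵁ V).toScheme, z ∈ Set.range e ↔ z.1 ∈ corner f f' i j := fun z => by
    constructor
    · rintro ⟨p, rfl⟩
      exact range_emb_subset f f' i j ⟨p, congr(($heι).base p).symm⟩
    · intro hz
      refine ⟨ec.inv ⟨z.1, hz⟩, (Q ⁻¹ᵁ V).ι.isOpenEmbedding.injective ?_⟩
      rw [← Scheme.Hom.comp_apply, heι, ← hec, ← Scheme.Hom.comp_apply, ec.inv_hom_id_assoc]
      rfl
  have hq := SymProdProd.isQuot f f' i j (Or.inr hu) qA gA hA qB gB hB (prodAct f f' i j)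
    fun σ => ⟨prodHom_fst f f' i j σ.down.1 σ.down.2, prodHom_snd f f' i j σ.down.1 σ.down.2⟩
  have hval : ∀ (σ) (z : (Q ⁻¹ᵁ V).toScheme), ((ρV σ).hom z).1 = permHom (coprod.desc f f') (i + j) σ.down z.1 :=
    fun σ z => congr(($(hρV σ)).base z)
  obtain ⟨θ, hθ⟩ := InducedQuot.exists_iso (ρP := prodAct f f' i j) (e := e) (incl i j) hqV hq
    (fun σ => by
      rw [← cancel_mono (Q ⁻¹ᵁ V).ι, Category.assoc, Category.assoc, heι, hρV, reassoc_of% heι]
      exact prodAct_emb f f' i j σ)
    (fun z => by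
      have hz : z.1 ∈ piece f f' (i + j) i := hV.le z.2
      have hc : Fintype.card {k // k ∈ pat f f' (i + j) z.1} =
          Fintype.card {k : Fin (i + j) // (k : ℕ) < i} := by
        rw [Fintype.card_coe, Fintype.card_subtype, hcard]
        exact hz
      refine ⟨⟨(Fintype.equivOfCardEq hc).extendSubtype⟩, (hrange _).2 fun k => ?_⟩
      rw [hval, mem_pat_perm]
      constructor
      · intro hk
        simpa using (Fintype.equivOfCardEq hc).extendSubtype_mem _ hk
      · intro hk
        by_contra hk'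
        exact absurd hk (by simpa using (Fintype.equivOfCardEq hc).extendSubtype_not_mem _ hk'))
    (fun p σ hp => by
      refine mem_range_incl i j fun k => ?_
      have h1 := (hrange _).1 hp (σ.down k)
      rw [hval, mem_pat_perm, Equiv.symm_apply_apply] at h1
      have h2 := (hrange _).1 ⟨p, rfl⟩ k
      exact h2.symm.trans h1)
  refine ⟨θ, ?_⟩
  haveI := SGA1Q.epi_of_surjective_of_injective _ (SGA1Q.surjective hq) hq.injective
  rw [← cancel_epi (pullback.map (WidePullback.base fun _ : Fin i => f) (WidePullback.base fun _ : Fin j => f') gA gB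
      qA qB (𝟙 S) ((Category.comp_id _).trans hA.over.symm) ((Category.comp_id _).trans hB.over.symm)),
    reassoc_of% hθ, morphismRestrict_ι_assoc, reassoc_of% heι, hQ.over, emb_base]
  simp [hA.over]

theorem zeta (hu : ∀ n : ℕ, 0 < n → IsUnit ((n : ℕ) : Γ(S, ⊤))) [IsLocallyNoetherian S]
    (A : ℕ → Scheme.{u}) (qA : ∀ n, fibPow f n ⟶ A n) (gA : ∀ n, A n ⟶ S)
    (hA : ∀ n, IsSymProd f n (qA n) (gA n)) [∀ n, LocallyOfFiniteType (gA n)] [∀ n, QuasiCompact (gA n)]
    (B : ℕ → Scheme.{u}) (qB : ∀ n, fibPow f' n ⟶ B n) (gB : ∀ n, B n ⟶ S)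
    (hB : ∀ n, IsSymProd f' n (qB n) (gB n)) [∀ n, LocallyOfFiniteType (gB n)] [∀ n, QuasiCompact (gB n)]
    (T : ℕ → Scheme.{u}) (Q : ∀ n, fibPow (coprod.desc f f') n ⟶ T n) (h : ∀ n, T n ⟶ S)
    (hT : ∀ n, IsSymProd (coprod.desc f f') n (Q n) (h n)) [∀ n, LocallyOfFiniteType (h n)]
    [∀ n, QuasiCompact (h n)] :
    PowerSeries.mk (fun n => K0Var.cl (h n)) =
      PowerSeries.mk (fun n => K0Var.cl (gA n)) * PowerSeries.mk (fun n => K0Var.cl (gB n)) := by
  refine PowerSeries.ext fun n => ?_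
  rw [PowerSeries.coeff_mul, Finset.Nat.sum_antidiagonal_eq_sum_range_succ
    fun a b => PowerSeries.coeff a (PowerSeries.mk fun n => K0Var.cl (gA n)) *
      PowerSeries.coeff b (PowerSeries.mk fun n => K0Var.cl (gB n))]
  simp only [PowerSeries.coeff_mk]
  haveI : IsLocallyNoetherian (T n) := LocallyOfFiniteType.isLocallyNoetherian (h n)
  let G := K0Var.Gen.mk (T n) (h n)
  haveI : IsLocallyNoetherian G.X := ‹IsLocallyNoetherian (T n)›
  choose V hV using fun a => exists_image_piece f f' (hT n) a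
  have hsurj : Function.Surjective (Q n) := SGA1Q.surjective (hT n).isQuot
  have hmem : ∀ a z, Q n z ∈ V a ↔ (pat f f' n z).card = a := fun a z => by
    show z ∈ Q n ⁻¹ᵁ V a ↔ _
    rw [hV]
    rfl
  have htop : (Finset.range (n + 1)).sup V = ⊤ := eq_top_iff.2 fun y _ => by
    obtain ⟨z, rfl⟩ := hsurj y
    exact Finset.le_sup (f := V) (Finset.mem_range.2 (Nat.lt_succ_of_le
      ((Finset.card_le_univ (pat f f' n z)).trans_eq (Fintype.card_fin n)))) ((hmem _ _).2 rfl)
  have hdisj : ∀ a b : ℕ, a ≠ b → Disjoint (V a) (V b) := fun a b hab =>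
    Opens.coe_disjoint.1 (Set.disjoint_left.2 fun y hya hyb => by
      obtain ⟨z, rfl⟩ := hsurj y
      exact hab (((hmem a z).1 hya).symm.trans ((hmem b z).1 hyb)))
  calc K0Var.cl (h n) = (openGen G ⊤).cl := (cl_openGen_top G).symm
    _ = ∑ a ∈ Finset.range (n + 1), (openGen G (V a)).cl := by
      rw [← htop]; exact cl_openGen_biSup G V _ fun a _ b _ hab => hdisj a b hab
    _ = _ := Finset.sum_congr rfl fun a ha => by
      obtain ⟨b, rfl⟩ : ∃ b, n = a + b := Nat.exists_eq_add_of_le (Nat.lt_succ_iff.1 (Finset.mem_range.1 ha))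
      rw [Nat.add_sub_cancel_left]
      obtain ⟨θ, hθ⟩ := exists_iso_piece f f' a b hu (hA a) (hB b) (hT (a + b)) (V a) (hV a)
      rw [← K0Var.cl_mul]
      exact K0Var.Gen.cl_congr _ (K0Var.Gen.mk (pullback (gA a) (gB b)) (pullback.fst _ _ ≫ gA a)) θ.symm
        (by
          show θ.inv ≫ pullback.fst _ _ ≫ gA a = (V a).ι ≫ h (a + b)
          rw [← hθ, θ.inv_hom_id_assoc])

end Groth.Agent.H23.ZetaCoprod
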